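import Groth.Statements.S6501
import Mathlib
-- import your own Groth.Agent.* helpers here

set_option autoImplicit false
universe u
open DPow

namespace Groth.Agent.S6501

open Finset in
theorem cancel_nat {A : Type u} [CommRing A] [IsAddTorsionFree A] {c : ℕ} (hc : c ≠ 0) {x y : A}
    (h : (c : A) * x = (c : A) * y) : x = y :=
  nsmul_right_injective hc (by simpa [nsmul_eq_mul] using h)

open Finset in
theorem dp_exists {A : Type u} [CommRing A] [IsAddTorsionFree A] (I : Ideal A)
    (hI : ∀ x ∈ I, ∀ n : ℕ, 1 ≤ n → ∃ y ∈ I, x ^ n = (n.factorial : A) * y) :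
    Nonempty (DividedPowers I) := by
  classical
  have h : ∀ (n : ℕ) (x : A), ∃ y : A, (x ∈ I → (n.factorial : A) * y = x ^ n ∧ (n ≠ 0 → y ∈ I)) ∧ (x ∉ I → y = 0) := by
    intro n x
    by_cases hx : x ∈ I
    · rcases Nat.eq_zero_or_pos n with rfl | hn
      · exact ⟨1, fun _ => ⟨by simp, fun h => absurd rfl h⟩, fun h => absurd hx h⟩
      · obtain ⟨y, hy, hxy⟩ := hI x hx n hn
        exact ⟨y, fun _ => ⟨hxy.symm, fun _ => hy⟩, fun h => absurd hx h⟩
    · exact ⟨0, fun h => absurd h hx, fun _ => rfl⟩
  choose γ hγ hγ0 using h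
  have hc : ∀ n : ℕ, n.factorial ≠ 0 := Nat.factorial_ne_zero
  refine ⟨DividedPowers.mk γ (fun {n x} hx => hγ0 n x hx) ?_ ?_
    (fun {n x} hn hx => (hγ n x hx).2 hn) ?_ ?_ ?_ ?_⟩
  · intro x hx; simpa using (hγ 0 x hx).1
  · intro x hx; simpa using (hγ 1 x hx).1
  · intro n x y hx hy
    refine cancel_nat (hc n) ?_
    rw [(hγ n _ (I.add_mem hx hy)).1, (Commute.all x y).add_pow', mul_sum]
    refine sum_congr rfl fun k hk => ?_
    rw [HasAntidiagonal.mem_antidiagonal] at hk
    rw [← (hγ k.1 x hx).1, ← (hγ k.2 y hy).1, nsmul_eq_mul]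
    have := congrArg (fun t : ℕ => (t : A)) (Nat.add_choose_mul_factorial_mul_factorial k.1 k.2)
    simp only [hk, Nat.cast_mul] at this
    have hs : n.choose k.2 = n.choose k.1 := by rw [← hk, Nat.choose_symm_add]
    first
      | linear_combination (γ k.1 x * γ k.2 y) * this
      | (rw [← hs]; linear_combination (γ k.1 x * γ k.2 y) * this)
  · intro n a x hx
    refine cancel_nat (hc n) ?_
    rw [(hγ n _ (I.mul_mem_left a hx)).1, mul_pow, ← (hγ n x hx).1]
    ring
  · intro m n x hx
    refine cancel_nat (mul_ne_zero (hc m) (hc n)) ?_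
    push_cast
    have := congrArg (fun t : ℕ => (t : A)) (Nat.add_choose_mul_factorial_mul_factorial m n)
    simp only [Nat.cast_mul] at this
    have h1 := (hγ m x hx).1
    have h2 := (hγ n x hx).1
    have h3 := (hγ (m + n) x hx).1
    rw [pow_add] at h3
    have hs : (m + n).choose n = (m + n).choose m := (Nat.choose_symm_add).symm
    first
      | linear_combination ((n.factorial : A) * γ n x) * h1 + x ^ m * h2 - h3 - γ (m + n) x * this
      | (rw [← hs]; linear_combination ((n.factorial : A) * γ n x) * h1 + x ^ m * h2 - h3 - γ (m + n) x * this)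
  · intro m n x hn hx
    refine cancel_nat (mul_ne_zero (hc m) (pow_ne_zero m (hc n))) ?_
    push_cast
    have h1 := (hγ m _ ((hγ n x hx).2 hn)).1
    have h2 := (hγ n x hx).1
    have h3 := (hγ (m * n) x hx).1
    have := congrArg (fun t : ℕ => (t : A)) (Nat.uniformBell_mul_eq m hn)
    simp only [Nat.cast_mul, Nat.cast_pow] at this
    have h4 : x ^ (m * n) = ((n.factorial : A) * γ n x) ^ m := by rw [h2, ← pow_mul, mul_comm]
    rw [mul_pow] at h4
    linear_combination ((n.factorial : A) ^ m) * h1 - h3 - h4 - γ (m * n) x * this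


/-- Let A be a commutative ring whose additive group is torsion free and I an ideal of A. Then I carries
at most one divided power structure, and it carries one if and only if I is generated by a set S
such that for every x in S and every n ≥ 1 the power x^n lies in the ideal generated by the products
of n! with elements of I. -/
theorem result {A : Type u} [CommRing A] [IsAddTorsionFree A] (I : Ideal A) :
    Subsingleton (DividedPowers I) ∧
    (Nonempty (DividedPowers I) ↔ ∃ S : Set A, Ideal.span S = I ∧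
      ∀ x ∈ S, ∀ n : ℕ, 1 ≤ n → x ^ n ∈ Ideal.span {(Nat.factorial n : A)} * I) := by
  classical
  refine ⟨⟨fun γ δ => DividedPowers.ext γ δ (fun n {x} hx => cancel_nat (Nat.factorial_ne_zero n) (by rw [DividedPowers.factorial_mul_dpow_eq_pow γ hx, DividedPowers.factorial_mul_dpow_eq_pow δ hx]))⟩, ⟨fun ⟨γ⟩ => ⟨I, Ideal.span_eq I, fun x hx n hn => ?_⟩, fun ⟨S, hS, h⟩ => dp_exists I ?_⟩⟩
  · rw [← DividedPowers.factorial_mul_dpow_eq_pow γ hx]
    exact Ideal.mul_mem_mul (Ideal.mem_span_singleton_self _) (γ.dpow_mem (Nat.one_le_iff_ne_zero.1 hn) hx)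
  · intro x hx
    have key : x ∈ I ∧ ∀ n : ℕ, 1 ≤ n → x ^ n ∈ Ideal.span {(n.factorial : A)} * I := by
      rw [← hS] at hx
      induction hx using Submodule.span_induction with
      | mem x hx => exact ⟨hS ▸ Ideal.subset_span hx, h x hx⟩
      | zero => exact ⟨zero_mem _, fun n hn => by rw [zero_pow (by omega)]; exact zero_mem _⟩
      | smul a x _ hx => exact ⟨I.mul_mem_left a hx.1, fun n hn => by
          rw [smul_eq_mul, mul_pow]; exact Ideal.mul_mem_left _ _ (hx.2 n hn)⟩
      | add x y _ _ hx hy =>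
        refine ⟨add_mem hx.1 hy.1, fun n hn => ?_⟩
        rw [(Commute.all x y).add_pow']
        refine sum_mem fun k hk => ?_
        rw [Finset.HasAntidiagonal.mem_antidiagonal] at hk
        rw [nsmul_eq_mul]
        rcases Nat.eq_zero_or_pos k.1 with h0 | h1
        · obtain rfl : k.2 = n := by omega
          simpa [h0] using hy.2 k.2 hn
        rcases Nat.eq_zero_or_pos k.2 with h0 | h2
        · obtain rfl : k.1 = n := by omega
          simpa [h0] using hx.2 k.1 hn
        obtain ⟨u, hu, hxu⟩ := Ideal.mem_span_singleton_mul.1 (hx.2 k.1 h1)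
        obtain ⟨v, hv, hyv⟩ := Ideal.mem_span_singleton_mul.1 (hy.2 k.2 h2)
        refine Ideal.mem_span_singleton_mul.2 ⟨u * v, I.mul_mem_left u hv, ?_⟩
        rw [← hxu, ← hyv]
        have := congrArg (fun t : ℕ => (t : A)) (Nat.add_choose_mul_factorial_mul_factorial k.1 k.2)
        simp only [hk, Nat.cast_mul] at this
        have hs : n.choose k.2 = n.choose k.1 := by rw [← hk, Nat.choose_symm_add]
        first
          | linear_combination -(u * v) * this
          | (rw [← hs]; linear_combination -(u * v) * this)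
    intro n hn
    obtain ⟨y, hy, he⟩ := Ideal.mem_span_singleton_mul.1 (key.2 n hn)
    exact ⟨y, hy, he.symm⟩

end Groth.Agent.S6501
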