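import Groth.Statements.S6509
import Groth.Agent.DQCPush.GammaComp
-- import your own Groth.Agent.* helpers here

set_option autoImplicit false
universe u
open CategoryTheory
attribute [local instance] HasDerivedCategory.standard
open DCoh

namespace Groth.Agent.S6509

open AlgebraicGeometry CategoryTheory.Limits in
/-- For a morphism of schemes f : X → Y, RΓ(Y, Rf_* E) ≅ RΓ(X, E) naturally in E ∈ D(O_X); more
generally for V ⊆ Y open and U = f⁻¹(V), RΓ(U, E|_U) ≅ RΓ(V, (Rf_* E)|_V). Both are asserted as the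
existence of an isomorphism of functors into D(Ab), with the derived functors assumed to exist. (The
published statement is for ringed spaces; this row is for schemes.) -/
theorem result {X Y : Scheme.{u}} (f : X ⟶ Y) (V : Y.Opens)
    [DCoh.HasRpush f] [DCoh.HasRΓ X] [DCoh.HasRΓ Y]
    [DCoh.HasRΓ (V : Scheme.{u})] [DCoh.HasRΓ (f ⁻¹ᵁ V : Scheme.{u})]
    [PreservesFiniteLimits (Scheme.Modules.restrictFunctor V.ι)]
    [PreservesFiniteLimits (Scheme.Modules.restrictFunctor (f ⁻¹ᵁ V).ι)] :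
    Nonempty (DCoh.Rpush f ⋙ DCoh.RΓ Y ≅ DCoh.RΓ X) ∧
    Nonempty (DCoh.restrictD (f ⁻¹ᵁ V).ι ⋙ DCoh.RΓ (f ⁻¹ᵁ V : Scheme.{u}) ≅
      DCoh.Rpush f ⋙ DCoh.restrictD V.ι ⋙ DCoh.RΓ (V : Scheme.{u})) := by
  refine ⟨Groth.Agent.DQCPush.nonempty_Rpush_RΓ_iso f, ?_⟩
  haveI := Groth.Agent.DQCPush.hasRpush (f ∣_ V)
  obtain ⟨e⟩ := Groth.Agent.DQCPush.nonempty_Rpush_restrict_iso f V
  obtain ⟨e'⟩ := Groth.Agent.DQCPush.nonempty_Rpush_RΓ_iso (f ∣_ V)
  exact ⟨(Functor.isoWhiskerLeft _ e').symm ≪≫ (Functor.associator _ _ _).symm ≪≫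
    (Functor.isoWhiskerRight e _).symm ≪≫ Functor.associator _ _ _⟩

end Groth.Agent.S6509
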