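import Groth.Statements.S6511
import Groth.Agent.DQCPush.MVTri
-- import your own Groth.Agent.* helpers here

set_option autoImplicit false
universe u
open CategoryTheory
attribute [local instance] HasDerivedCategory.standard
open DCoh

namespace Groth.Agent.S6511

open AlgebraicGeometry CategoryTheory.Limits in
/-- Let f : X → Y be a morphism of schemes and X = U ∪ V with U, V open; write a, b, c for the
restrictions of f to U, V, U ∩ V. For every E ∈ D(O_X) there is a distinguished triangle Rf_*E →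
Ra_*(E|_U) ⊕ Rb_*(E|_V) → Rc_*(E|_{U∩V}) → Rf_*E[1] in D(O_Y). The objects are the stated ones; the
morphisms are only asserted to exist. (The published statement is for ringed spaces; this row is for
schemes.) -/
theorem result {X Y : Scheme.{u}} (f : X ⟶ Y) (U V : X.Opens) (hUV : U ⊔ V = ⊤)
    [DCoh.HasRpush f] [DCoh.HasRpush (U.ι ≫ f)] [DCoh.HasRpush (V.ι ≫ f)] [DCoh.HasRpush ((U ⊓ V).ι ≫ f)]
    [PreservesFiniteLimits (Scheme.Modules.restrictFunctor U.ι)]
    [PreservesFiniteLimits (Scheme.Modules.restrictFunctor V.ι)]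
    [PreservesFiniteLimits (Scheme.Modules.restrictFunctor (U ⊓ V).ι)] (E : DCoh.D X) :
    ∃ (a : (DCoh.Rpush f).obj E ⟶ ((DCoh.Rpush (U.ι ≫ f)).obj ((DCoh.restrictD U.ι).obj E) ⊞ (DCoh.Rpush (V.ι ≫ f)).obj ((DCoh.restrictD V.ι).obj E))) (b : ((DCoh.Rpush (U.ι ≫ f)).obj ((DCoh.restrictD U.ι).obj E) ⊞ (DCoh.Rpush (V.ι ≫ f)).obj ((DCoh.restrictD V.ι).obj E)) ⟶ (DCoh.Rpush ((U ⊓ V).ι ≫ f)).obj ((DCoh.restrictD (U ⊓ V).ι).obj E)) (c : (DCoh.Rpush ((U ⊓ V).ι ≫ f)).obj ((DCoh.restrictD (U ⊓ V).ι).obj E) ⟶ ((DCoh.Rpush f).obj E)⟦(1 : ℤ)⟧),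
      Pretriangulated.Triangle.mk a b c ∈ Pretriangulated.distinguishedTriangles := by
  obtain ⟨I, hI, hinj, ⟨e⟩⟩ := Groth.Agent.DQCPush.exists_injective_rep E
  have hW : ∀ W : X.Opens, ∀ [DCoh.HasRpush (W.ι ≫ f)] [PreservesFiniteLimits (Scheme.Modules.restrictFunctor W.ι)],
      Nonempty (DerivedCategory.Q.obj (((Scheme.Modules.pushforward f).mapHomologicalComplex _).obj
        (((Groth.Agent.HigherDirect.J W).mapHomologicalComplex _).obj I)) ≅
        (DCoh.Rpush (W.ι ≫ f)).obj ((DCoh.restrictD W.ι).obj E)) := by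
    intro W _ _
    obtain ⟨e'⟩ := Groth.Agent.DQCPush.nonempty_RF_restrict_iso W (Scheme.Modules.pushforward (W.ι ≫ f)) I e
    exact ⟨DerivedCategory.Q.mapIso ((NatIso.mapHomologicalComplex (Scheme.Modules.pushforwardComp W.ι f)
      (ComplexShape.up ℤ)).app ((DCoh.restrictCx W).obj I)) ≪≫ e'⟩
  obtain ⟨eU⟩ := hW U
  obtain ⟨eV⟩ := hW V
  obtain ⟨eW⟩ := hW (U ⊓ V)
  obtain ⟨e₀⟩ := Groth.Agent.DerAdj.nonempty_RF_iso (Scheme.Modules.pushforward f)
    (Groth.Agent.DerAdj.modules_hKinj X) I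
  exact Groth.Agent.DQCPush.exists_triangle_Q U V I (Scheme.Modules.pushforward f) hUV hinj _ _ _ eU eV eW
    (e₀.symm ≪≫ (DCoh.Rpush f).mapIso e)

end Groth.Agent.S6511
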