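import Groth.Statements.S6514
import Groth.Agent.ModGroth.PullStalk
import Groth.Agent.QCohLib.Basic
import Groth.Agent.SSExist.OverKInj
-- import your own Groth.Agent.* helpers here

set_option autoImplicit false
universe u
open CategoryTheory
open DCoh

namespace Groth.Agent.S6514

open AlgebraicGeometry in
/-- If f : X → Y is a flat morphism of schemes and I is a K-injective complex of O_X-modules, then f_* I
(direct image applied termwise) is a K-injective complex of O_Y-modules. (The published statement is
for flat morphisms of ringed spaces; this row is for flat morphisms of schemes.) -/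
theorem result {X Y : Scheme.{u}} (f : X ⟶ Y) [Flat f]
    (I : CochainComplex X.Modules ℤ) (hI : I.IsKInjective) :
    CochainComplex.IsKInjective (((Scheme.Modules.pushforward f).mapHomologicalComplex (ComplexShape.up ℤ)).obj I) := by
  haveI := hI
  let F := Scheme.Modules.pullback f
  haveI : F.Additive := (Scheme.Modules.pullbackPushforwardAdjunction f).left_adjoint_additive
  haveI : Limits.PreservesColimitsOfSize.{0, 0} F :=
    (Scheme.Modules.pullbackPushforwardAdjunction f).leftAdjoint_preservesColimits
  haveI : Limits.PreservesFiniteColimits F := Limits.PreservesColimitsOfSize.preservesFiniteColimits _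
  haveI : Limits.PreservesFiniteLimits F := Groth.Agent.ModGroth.preservesFiniteLimits_of_mono F fun M N g hg => by
    rw [Groth.Agent.QCohLib.mono_iff_stalk_injective]
    intro x
    suffices h : Function.Injective ((DerSch.stalkFunctor X x).map (F.map g)) from h
    have h0 : Function.Injective ((DerSch.stalkFunctor Y (f.base x)).map g) :=
      (Groth.Agent.QCohLib.mono_iff_stalk_injective g).1 hg (f.base x)
    let e := Groth.Agent.ModGroth.Stalk.pullStalkIso f x
    letI := (f.stalkMap x).hom.toAlgebra
    haveI : Module.Flat (Y.presheaf.stalk (f.base x)) (X.presheaf.stalk x) := Flat.stalkMap f x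
    have h1 : Function.Injective ((ModuleCat.extendScalars.{u, u, u} (f.stalkMap x).hom).map
        ((DerSch.stalkFunctor Y (f.base x)).map g)) :=
      Module.Flat.lTensor_preserves_injective_linearMap (M := X.presheaf.stalk x)
        ((DerSch.stalkFunctor Y (f.base x)).map g).hom h0
    haveI : Mono ((ModuleCat.extendScalars.{u, u, u} (f.stalkMap x).hom).map
        ((DerSch.stalkFunctor Y (f.base x)).map g)) := (ModuleCat.mono_iff_injective _).2 h1
    haveI : Mono ((DerSch.stalkFunctor X x).map (F.map g) ≫ e.hom.app N) :=
      e.hom.naturality g ▸ (inferInstance : Mono (e.hom.app M ≫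
        (ModuleCat.extendScalars.{u, u, u} (f.stalkMap x).hom).map ((DerSch.stalkFunctor Y (f.base x)).map g)))
    exact (ModuleCat.mono_iff_injective _).1 (mono_of_mono ((DerSch.stalkFunctor X x).map (F.map g)) (e.hom.app N))
  exact Groth.Agent.SSExist.isKInjective_map_rightAdjoint (Scheme.Modules.pullbackPushforwardAdjunction f) I

end Groth.Agent.S6514
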