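import Groth.Statements.S6515
import Groth.Agent.DQC.RHomLocal
import Groth.Agent.DQC.RHom
import Groth.Agent.DQCPush.Restrict
-- import your own Groth.Agent.* helpers here

set_option autoImplicit false
universe u
open CategoryTheory
attribute [local instance] HasDerivedCategory.standard
open DCoh

namespace Groth.Agent.S6515

open AlgebraicGeometry in
/-- For a scheme X, internal hom in D(O_X) commutes with restriction to an open U: RHom(K, M)|_U ≅
RHom(K|_U, M|_U). Here RHom(K, −) and RHom(K|_U, −) are the right adjoints of − ⊗^L K and − ⊗^L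
K|_U, taken under existence binders, and the assertion is the existence of an isomorphism in D(O_U).
(The published statement is for ringed spaces; this row is for schemes.) -/
theorem result {X : Scheme.{u}} (U : X.Opens) (K : CochainComplex X.Modules ℤ)
    [DCoh.HasLTensorCx K] [DCoh.HasRSheafHom K]
    [DCoh.HasLTensorCx ((DCoh.restrictCx U).obj K)] [DCoh.HasRSheafHom ((DCoh.restrictCx U).obj K)]
    [CategoryTheory.Limits.PreservesFiniteLimits (Scheme.Modules.restrictFunctor U.ι)] (M : DCoh.D X) :
    Nonempty ((DCoh.restrictD U.ι).obj ((DCoh.RSheafHom K).obj M) ≅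
      (DCoh.RSheafHom ((DCoh.restrictCx U).obj K)).obj ((DCoh.restrictD U.ι).obj M)) := by
  obtain ⟨P, q, hP, -, hq, -⟩ := Groth.Agent.ModGroth.scheme_exists_resolution K
  haveI := Groth.Agent.ModGroth.hasLTensorCx P
  haveI := Groth.Agent.DQC.hasRSheafHom P
  haveI := Groth.Agent.ModGroth.hasLTensorCx ((DCoh.restrictCx U).obj P)
  haveI := Groth.Agent.DQC.hasRSheafHom ((DCoh.restrictCx U).obj P)
  haveI := hq
  haveI := Groth.Agent.DQCPush.preservesFiniteColimits_restrict U.ι
  haveI hq' : QuasiIso ((DCoh.restrictCx U).map q) := inferInstance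
  haveI := Groth.Agent.DQC.isIso_tauNT q hq
  haveI := Groth.Agent.DQC.isIso_tauNT ((DCoh.restrictCx U).map q) hq'
  exact ⟨(DCoh.restrictD U.ι).mapIso (((DCoh.RSheafHomAdj K).rightAdjointUniq
      ((DCoh.RSheafHomAdj P).ofNatIsoLeft (asIso (Groth.Agent.DQC.tauNT q)))).app M) ≪≫
    (Groth.Agent.DQC.rhomRestrIso U P hP).app M ≪≫
    (((DCoh.RSheafHomAdj ((DCoh.restrictCx U).obj K)).rightAdjointUniq
      ((DCoh.RSheafHomAdj ((DCoh.restrictCx U).obj P)).ofNatIsoLeft
        (asIso (Groth.Agent.DQC.tauNT ((DCoh.restrictCx U).map q))))).app _).symm⟩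

end Groth.Agent.S6515
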