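import Groth.Statements.S6516
import Groth.Agent.LocFree.Basic
-- import your own Groth.Agent.* helpers here

set_option autoImplicit false
universe u
open CategoryTheory
open DCoh

namespace Groth.Agent.S6516

open AlgebraicGeometry in
/-- Schemes; with the bounded finite-locally-free reading of strictly perfect used throughout this
problem's derived-category definitions: the mapping cone of a morphism between strictly perfect
complexes of O_X-modules is strictly perfect. -/
theorem result {X : Scheme.{u}} {E F : CochainComplex X.Modules ℤ} (φ : E ⟶ F)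
    (hE : DCoh.IsStrictlyPerfect E) (hF : DCoh.IsStrictlyPerfect F) :
    DCoh.IsStrictlyPerfect (CochainComplex.mappingCone φ) := by
  obtain ⟨⟨a, b, hz⟩, hl⟩ := hE
  obtain ⟨⟨a', b', hz'⟩, hl'⟩ := hF
  haveI : Limits.HasBinaryBiproducts X.Modules := Abelian.hasBinaryBiproducts
  refine ⟨⟨min (a - 1) a', max (b - 1) b', fun i hi => ?_⟩, fun i => ?_⟩
  · refine Limits.IsZero.of_iso ?_ (HomologicalComplex.homotopyCofiber.XIsoBiprod φ i (i + 1) rfl)
    exact (Limits.biprod_isZero_iff _ _).2 ⟨hz _ (by lia), hz' _ (by lia)⟩
  · exact LocFree.IsFinLocFree.of_iso (HomologicalComplex.homotopyCofiber.XIsoBiprod φ i (i + 1) rfl).symm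
      (LocFree.IsFinLocFree.biprod (hl _) (hl' _))

end Groth.Agent.S6516
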