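import Groth.Statements.S6524
import Groth.Agent.InjFamily.Basic
import Groth.Prelude.Def_FreeSh
import Mathlib

set_option autoImplicit false
universe u
open CategoryTheory
open CohSite

namespace Groth.Agent.S6524

section aux

open Limits MorphismProperty

variable {C : Type u} [SmallCategory C] (J : GrothendieckTopology C)

/-- Inclusions of subobjects of the free abelian sheaves on representables. -/
def freeMonos : MorphismProperty (Sheaf J AddCommGrpCat.{u}) :=
  MorphismProperty.ofHoms (fun p : Σ X : C, Subobject (CohCx.freeSheaf J X) => p.2.arrow)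

lemma exists_pushouts_free {A B : Sheaf J AddCommGrpCat.{u}} (p : A ⟶ B) [Mono p] (hp : ¬ IsIso p) :
    ∃ (X' : Sheaf J AddCommGrpCat.{u}) (i : A ⟶ X') (p' : X' ⟶ B) (_ : (freeMonos J).pushouts i)
      (_ : ¬ IsIso i) (_ : Mono p'), i ≫ p' = p := by
  obtain ⟨U, f, hf⟩ : ∃ (U : C) (f : CohCx.freeSheaf J U ⟶ B), ∀ l, l ≫ p ≠ f := by
    by_contra! hne
    have : Epi p := by
      refine ⟨fun {Z} a b hab => ObjectProperty.hom_ext _ ?_⟩
      ext ⟨U⟩ s
      obtain ⟨l, hl⟩ := hne U (CohFree.ofSect J U B s)
      have h1 : CohFree.ofSect J U B s ≫ a = CohFree.ofSect J U B s ≫ b := by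
        rw [← hl, Category.assoc, Category.assoc, hab]
      have h2 := congrArg (CohFree.evalGen J U Z) h1
      have h3 := CohFree.evalGen_ofSect J U B s
      change a.hom.app _ ((CohFree.ofSect J U B s).hom.app _ _) =
        b.hom.app _ ((CohFree.ofSect J U B s).hom.app _ _) at h2
      change (CohFree.ofSect J U B s).hom.app _ _ = s at h3
      rw [h3] at h2
      exact h2
    exact hp (isIso_of_mono_of_epi p)
  refine ⟨pushout (pullback.fst p f) (pullback.snd p f), pushout.inl _ _,
    pushout.desc p f pullback.condition,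
    ⟨_, _, _, (Subobject.underlyingIso _).hom ≫ pullback.fst _ _,
    pushout.inr _ _, MorphismProperty.ofHoms.mk (f := fun q : Σ X : C, Subobject (CohCx.freeSheaf J X) => q.2.arrow) ⟨U, Subobject.mk (pullback.snd p f)⟩,
    (IsPushout.of_hasPushout (pullback.fst p f) (pullback.snd p f)).of_iso
      ((Subobject.underlyingIso _).symm) (Iso.refl _) (Iso.refl _)
      (Iso.refl _) (by simp) (by simp) (by simp) (by rw [Iso.refl_hom, Iso.refl_hom, Category.id_comp, Category.comp_id])⟩, ?_, ?_, pushout.inl_desc ..⟩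
  · intro h
    refine hf (pushout.inr _ _ ≫ inv (pushout.inl (pullback.fst p f) (pullback.snd p f))) ?_
    have e : inv (pushout.inl (pullback.fst p f) (pullback.snd p f)) ≫ p =
        pushout.desc p f pullback.condition := by
      rw [IsIso.inv_comp_eq, pushout.inl_desc]
    rw [Category.assoc, e, pushout.inr_desc]
  · exact (IsPushout.of_hasPushout _ _).mono_of_isPullback_of_mono
      (IsPullback.of_hasPullback p f) _ (pushout.inl_desc ..) (pushout.inr_desc ..)

end aux

/-- Let (C, J) be a small site and I an abelian sheaf. Suppose that for every object X of C, every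
abelian subsheaf S of the free abelian sheaf Z_X^# on X (given as a monomorphism S → Z_X^#) and
every morphism S → I, the morphism extends to Z_X^# → I. Then I is an injective abelian sheaf. -/
theorem result {C : Type u} [SmallCategory C]
    (J : GrothendieckTopology C) (I : Sheaf J AddCommGrpCat.{u})
    (h : ∀ (X : C) (S : Sheaf J AddCommGrpCat.{u}) (i : S ⟶ CohCx.freeSheaf J X) [Mono i] (φ : S ⟶ I),
      ∃ ψ : CohCx.freeSheaf J X ⟶ I, i ≫ ψ = φ) :
    Injective I := by
  rcases isEmpty_or_nonempty C with hC | ⟨⟨U₀⟩⟩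
  · exact ⟨fun {A B} g f _ => ⟨0, ObjectProperty.hom_ext _ (NatTrans.ext (funext fun U => isEmptyElim U.unop))⟩⟩
  rw [injective_iff_rlp_monomorphisms_zero]
  refine InjFamily.rlp_le_of_family (W := freeMonos J) (exists_pushouts_free J)
    (MorphismProperty.isomorphisms_le_pushouts _
      (fun _ => ⟨_, _, _, MorphismProperty.ofHoms.mk (f := fun q : Σ X : C, Subobject (CohCx.freeSheaf J X) => q.2.arrow) ⟨U₀, ⊤⟩, 0, inferInstance⟩)) _ ?_
  rintro A B i ⟨⟨U, S⟩⟩
  constructor
  intro φ g sq
  obtain ⟨ψ, hψ⟩ := h U _ S.arrow φ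
  exact ⟨⟨{ l := ψ, fac_left := hψ, fac_right := (Limits.isZero_zero _).eq_of_tgt _ _ }⟩⟩

end Groth.Agent.S6524
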