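import Groth.Statements.S6532
import Groth.Agent.TorOperator.Main
import Groth.Agent.TorOperator.Res

set_option autoImplicit false
universe u
open LCI

namespace Groth.Agent.S6532

/-- Let R' → R be a surjection of Noetherian rings whose kernel is generated by a single element f and
has square zero; let I ⊆ R be the image of the annihilator of f. Let S = R[x_1, …, x_n]/(f_1, …,
f_m) and let ∑ r_j f_j = 0 be a relation in R[x_1, …, x_n] such that (1) every coefficient of every
r_j lies in I, and (2) there are lifts r'_j, f'_j in R'[x_1, …, x_n] and an element g with ∑ r'_j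
f'_j = f g, where g maps to a non-nilpotent element of S/IS. Under these hypotheses, the
Tor-dimension of S over R is infinite (so S fails to be a perfect R-algebra). -/
theorem result {R' R : Type u} [CommRing R'] [CommRing R]
    [IsNoetherianRing R'] [IsNoetherianRing R] (π : R' →+* R) (hπ : Function.Surjective π)
    (f : R') (hker : RingHom.ker π = Ideal.span {f}) (hf : f * f = 0)
    {n m : ℕ} (fs r : Fin m → MvPolynomial (Fin n) R) (hrel : ∑ j, r j * fs j = 0)
    (h1 : ∀ (j : Fin m) (d : Fin n →₀ ℕ),
      MvPolynomial.coeff d (r j) ∈ ((Ideal.span {f}).annihilator).map π)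
    (r' f' : Fin m → MvPolynomial (Fin n) R') (g : MvPolynomial (Fin n) R')
    (hr' : ∀ j, MvPolynomial.map π (r' j) = r j) (hf' : ∀ j, MvPolynomial.map π (f' j) = fs j)
    (hsum : ∑ j, r' j * f' j = MvPolynomial.C f * g)
    (hg : ¬ IsNilpotent (Ideal.Quotient.mk
      (Ideal.span (Set.range fs) ⊔ (((Ideal.span {f}).annihilator).map π).map MvPolynomial.C)
      (MvPolynomial.map π g))) :
    ¬ DRing.HasFiniteTorDim R (MvPolynomial (Fin n) R ⧸ Ideal.span (Set.range fs)) := by
  classical
  intro hfd
  let p : MvPolynomial (Fin n) R' →+* MvPolynomial (Fin n) R := MvPolynomial.map π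
  have hp : Function.Surjective p := MvPolynomial.map_surjective π hπ
  have hker' : RingHom.ker p = Ideal.span {MvPolynomial.C f} := by
    rw [MvPolynomial.ker_map, hker, Ideal.map_span, Set.image_singleton]
  set I : Ideal R := ((Ideal.span {f}).annihilator).map π with hI
  have hann : ∀ a : R', a ∈ (Ideal.span {f}).annihilator ↔ f * a = 0 := fun a => by
    rw [← Ideal.submodule_span_eq, Submodule.mem_annihilator_span_singleton, smul_eq_mul, mul_comm]
  have hcrit : ∀ a : R', π a ∈ I ↔ f * a = 0 := by
    intro a
    rw [hI, Ideal.mem_map_iff_of_surjective π hπ]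
    constructor
    · rintro ⟨b, hb, hab⟩
      have : a - b ∈ RingHom.ker π := by rw [RingHom.mem_ker, map_sub, hab, sub_self]
      rw [hker, Ideal.mem_span_singleton'] at this
      obtain ⟨c, hc⟩ := this
      rw [show a = b + c * f by rw [hc]; ring, mul_add, (hann b).mp hb, zero_add,
        mul_comm c f, ← mul_assoc, hf, zero_mul]
    · exact fun h => ⟨a, (hann a).mpr h, rfl⟩
  have h𝔞 : ∀ x, p x ∈ I.map (algebraMap R (MvPolynomial (Fin n) R)) ↔
      MvPolynomial.C f * x = 0 := by
    intro x
    rw [MvPolynomial.algebraMap_eq, MvPolynomial.mem_map_C_iff, MvPolynomial.ext_iff]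
    simp only [p, MvPolynomial.coeff_map, MvPolynomial.coeff_C_mul, MvPolynomial.coeff_zero]
    exact forall_congr' fun d => hcrit _
  obtain ⟨k, hk⟩ := TorOperator.exists_pow_mem
    (TorOperator.stdRes (Ideal.span (Set.range fs))) hp hker' h𝔞 fs r
    (fun j => Ideal.subset_span ⟨j, rfl⟩) hrel
    (fun j => by rw [MvPolynomial.algebraMap_eq, MvPolynomial.mem_map_C_iff]; exact h1 j)
    f' r' g hf' hr' hsum
    (TorOperator.exists_vanish (Ideal.span (Set.range fs)) hfd I)
  apply hg
  refine ⟨k, ?_⟩
  rw [← map_pow, Ideal.Quotient.eq_zero_iff_mem]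
  exact hk

end Groth.Agent.S6532
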