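import Groth.Statements.S6540
import Groth.Agent.CurveGenus0.Basic
import Groth.Agent.S1520
-- import your own Groth.Agent.* helpers here

set_option autoImplicit false
set_option backward.isDefEq.respectTransparency false
universe u
open CategoryTheory CategoryTheory.Limits AlgebraicGeometry
open Curves

namespace Groth.Agent.S6540

/-- Let X be a proper curve over the field k (proper, integral, of dimension one) with H^0(X, O_X) = k
and genus 0. Then every invertible O_X-module of degree 0 is trivial, i.e. isomorphic to O_X. -/
theorem result (k : Type u) [Field k] (X : Scheme.{u}) [X.Over (Spec (CommRingCat.of k))]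
    [IsIntegral X] [IsProper (X ↘ (Spec (CommRingCat.of k)))] (hdim : topologicalKrullDim X = 1)
    (h0 : Module.finrank k (Coh.HH X (Coh.structureModule X) 0) = 1) (hg : Curv2.genus k X = 0)
    (L : X.Modules) (hL : PicF.IsInvertible L) (hdeg : Curv2.deg k X L 1 = 0) :
    Nonempty (L ≅ Coh.structureModule X) := by
  obtain ⟨-, σ, hσ⟩ := Groth.Agent.CurveGenus0.exists_section k hdim h0 hg hL hdeg.ge
  refine Groth.Agent.S1520.result k X hdim L hL (Groth.Agent.ProjTwist.globalHom L σ) (fun h => hσ ?_) hdeg.le
  have e := congrArg (fun q : Coh.structureModule X ⟶ L => q.app ⊤ (1 : Γ(X, ⊤))) h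
  simp only [Groth.Agent.ProjTwist.globalHom_app, one_smul] at e
  rw [show L.presheaf.map (homOfLE (le_top : (⊤ : X.Opens) ≤ ⊤)).op σ = σ from Groth.Agent.QCohLib.map_self L _ σ] at e
  exact e

end Groth.Agent.S6540
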