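import Groth.Statements.S6564
import Mathlib.Tactic
import Mathlib.Algebra.Order.Chebyshev

set_option autoImplicit false
universe u
open CategoryTheory CategoryTheory.Limits AlgebraicGeometry
open Curves

namespace Groth.Agent.S6564

/-- Let X be proper over the field k of dimension at most 1. If X has a g^r_d (an invertible module L of
degree d with an ordered family of r + 1 global sections linearly independent over k), then X has a
g^s_d for every 0 ≤ s ≤ r. -/
theorem result (k : Type u) [Field k] (X : Scheme.{u}) [X.Over (Spec (CommRingCat.of k))] [IsProper (X ↘ (Spec (CommRingCat.of k)))] (hdim : topologicalKrullDim X ≤ 1)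
    (d r : ℕ) (L : X.Modules) (σ : Fin (r + 1) → LinSer.Sect X L) (hL : LinSer.IsLinSer k X L d r σ)
    (s : ℕ) (hs : s ≤ r) :
    ∃ (L' : X.Modules) (τ : Fin (s + 1) → LinSer.Sect X L'), LinSer.IsLinSer k X L' d s τ := by
  refine ⟨L, fun i => σ (Fin.castLE (by omega) i), hL.1, hL.2.1, ?_⟩
  intro c hc
  have h := hL.2.2
  classical
  let c' : Fin (r + 1) → k := fun j => if hj : (j : ℕ) < s + 1 then c ⟨j, hj⟩ else 0
  have h2 : c' = 0 := by
    apply h
    rw [← hc]
    symm
    refine Finset.sum_of_injOn (Fin.castLE (by omega)) ?_ ?_ ?_ ?_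
    · exact (Fin.castLE_injective _).injOn
    · simp
    · intro j _ hj
      have : ¬ (j : ℕ) < s + 1 := by
        intro hlt
        exact hj ⟨⟨j, hlt⟩, by simp, by ext; simp⟩
      simp only [c', dif_neg this, map_zero, zero_smul]
    · intro i _
      have h' : (Fin.castLE (by omega : s + 1 ≤ r + 1) i : ℕ) < s + 1 := i.isLt
      simp only [c', dif_pos h']
      rfl
  funext i
  have := congrFun h2 (Fin.castLE (by omega) i)
  have h' : (Fin.castLE (by omega : s + 1 ≤ r + 1) i : ℕ) < s + 1 := i.isLt
  simp only [c', dif_pos h', Pi.zero_apply] at this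
  exact this

end Groth.Agent.S6564
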