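import Groth.Statements.S6575
import Mathlib
-- import your own Groth.Agent.* helpers here

set_option autoImplicit false
universe u
open Curves

namespace Groth.Agent.S6575

section Aux
private lemma minors_le (k : Type u) [Field k] {n m l : ℕ}
    (f : Fin m → MvPowerSeries (Fin n) k) (g : Fin l → MvPowerSeries (Fin n) k) (r : ℕ)
    (hfg : Ideal.span (Set.range f) = Ideal.span (Set.range g)) :
    Ideal.span {d : MvPowerSeries (Fin n) k | ∃ (ρ : Fin r → Fin l) (γ : Fin r → Fin n), Function.Injective ρ ∧ Function.Injective γ ∧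
          d = ((Matrix.of fun (j : Fin l) (i : Fin n) => MvPowerSeries.pderiv k i (g j)).submatrix ρ γ).det} ≤
    Ideal.span {d : MvPowerSeries (Fin n) k | ∃ (ρ : Fin r → Fin m) (γ : Fin r → Fin n), Function.Injective ρ ∧ Function.Injective γ ∧
          d = ((Matrix.of fun (j : Fin m) (i : Fin n) => MvPowerSeries.pderiv k i (f j)).submatrix ρ γ).det} ⊔ Ideal.span (Set.range f) := by
  classical
  rw [Ideal.span_le]
  rintro _ ⟨ρ, γ, -, hγ, rfl⟩
  set I := Ideal.span (Set.range f) with hI
  set J := Ideal.span {d : MvPowerSeries (Fin n) k | ∃ (ρ : Fin r → Fin m) (γ : Fin r → Fin n), Function.Injective ρ ∧ Function.Injective γ ∧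
          d = ((Matrix.of fun (j : Fin m) (i : Fin n) => MvPowerSeries.pderiv k i (f j)).submatrix ρ γ).det} ⊔ I with hJ
  have hg : ∀ s, ∃ a : Fin m → MvPowerSeries (Fin n) k, ∑ j, a j * f j = g s := by
    intro s
    have : g s ∈ I := by rw [hfg]; exact Ideal.subset_span ⟨s, rfl⟩
    exact Ideal.mem_span_range_iff_exists_fun.mp this
  choose a ha using hg
  have hfJ : ∀ j, Ideal.Quotient.mk J (f j) = 0 := fun j =>
    Ideal.Quotient.eq_zero_iff_mem.mpr (Ideal.mem_sup_right (Ideal.subset_span ⟨j, rfl⟩))
  rw [SetLike.mem_coe, ← Ideal.Quotient.eq_zero_iff_mem, RingHom.map_det]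
  have hrow : (Ideal.Quotient.mk J).mapMatrix
      ((Matrix.of fun (j : Fin l) (i : Fin n) => MvPowerSeries.pderiv k i (g j)).submatrix ρ γ) =
      Matrix.of fun p => ∑ j : Fin m, Ideal.Quotient.mk J (a (ρ p) j) •
        (fun c => Ideal.Quotient.mk J (MvPowerSeries.pderiv k (γ c) (f j))) := by
    ext p c
    simp only [RingHom.mapMatrix_apply, Matrix.map_apply, Matrix.submatrix_apply, Matrix.of_apply,
      Finset.sum_apply, Pi.smul_apply, smul_eq_mul]
    rw [← ha (ρ p), map_sum, map_sum]
    refine Finset.sum_congr rfl fun j _ => ?_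
    simp [Derivation.leibniz, hfJ]
  rw [hrow]
  show Matrix.detRowAlternating (fun p => ∑ j : Fin m, _) = 0
  rw [← AlternatingMap.coe_multilinearMap, MultilinearMap.map_sum]
  refine Finset.sum_eq_zero fun σ _ => ?_
  rw [MultilinearMap.map_smul_univ, AlternatingMap.coe_multilinearMap]
  by_cases hσ : Function.Injective σ
  · refine smul_eq_zero_of_right _ ?_
    have hmem : ((Matrix.of fun (j : Fin m) (i : Fin n) => MvPowerSeries.pderiv k i (f j)).submatrix σ γ).det ∈ J :=
      Ideal.mem_sup_left (Ideal.subset_span ⟨σ, γ, hσ, hγ, rfl⟩)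
    rw [← Ideal.Quotient.eq_zero_iff_mem, RingHom.map_det] at hmem
    exact hmem
  · refine smul_eq_zero_of_right _ ?_
    rw [Function.Injective] at hσ
    push_neg at hσ
    obtain ⟨p, p', h1, h2⟩ := hσ
    exact AlternatingMap.map_eq_zero_of_eq _ _ (by simp [h1]) h2

end Aux

/-- Let k be a field, A = k[[x_1, …, x_n]] and I ⊆ A an ideal generated by f_1, …, f_m and also by g_1,
…, g_l. Then for every r ≥ 0 the ideal of A/I generated by the r × r minors of (∂f_j/∂x_i) equals
the one generated by the r × r minors of (∂g_s/∂x_i); stated in A as equality of the ideals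
generated by the minors together with I. (The published result also asserts independence of the
regular system of parameters x_1, …, x_n, which is not stated here.) -/
theorem result (k : Type u) [Field k] (n m l r : ℕ)
    (f : Fin m → MvPowerSeries (Fin n) k) (g : Fin l → MvPowerSeries (Fin n) k)
    (hfg : Ideal.span (Set.range f) = Ideal.span (Set.range g)) :
    Ideal.span {d : MvPowerSeries (Fin n) k | ∃ (ρ : Fin r → Fin m) (γ : Fin r → Fin n), Function.Injective ρ ∧ Function.Injective γ ∧
          d = ((Matrix.of fun (j : Fin m) (i : Fin n) => MvPowerSeries.pderiv k i (f j)).submatrix ρ γ).det} ⊔ Ideal.span (Set.range f) =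
      Ideal.span {d : MvPowerSeries (Fin n) k | ∃ (ρ : Fin r → Fin l) (γ : Fin r → Fin n), Function.Injective ρ ∧ Function.Injective γ ∧
          d = ((Matrix.of fun (j : Fin l) (i : Fin n) => MvPowerSeries.pderiv k i (g j)).submatrix ρ γ).det} ⊔ Ideal.span (Set.range g) := by
  refine le_antisymm (sup_le (minors_le k g f r hfg.symm) ?_) (sup_le (minors_le k f g r hfg) ?_)
  · rw [hfg]; exact le_sup_right
  · rw [← hfg]; exact le_sup_right

end Groth.Agent.S6575
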