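import Groth.Statements.S6585
import Groth.Agent.TriH.Postnikov

set_option autoImplicit false
universe v u
open CategoryTheory CategoryTheory.Limits ZeroObject
open CohDer

namespace Groth.Agent.S6585

open CategoryTheory.Pretriangulated in
/-- Let D be a triangulated category and E, K objects of D. Then Hom(E, K⟦i⟧) = 0 for all integers i if
and only if Hom(E', K) = 0 for every E' in ⟨E⟩, the smallest strictly full saturated triangulated
subcategory of D containing E (the objects obtained from E by shifts, finite direct sums, direct
summands and extensions). -/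
theorem result {D : Type u} [Category.{v} D] [Preadditive D] [HasZeroObject D] [HasShift D ℤ]
    [∀ n : ℤ, (shiftFunctor D n).Additive] [Pretriangulated D] [IsTriangulated D]
    (E K : D) :
    (∀ (i : ℤ) (f : E ⟶ (shiftFunctor D i).obj K), f = 0) ↔
      ∀ (E' : D), (ObjectProperty.singleton E).triangEnvelope E' → ∀ f : E' ⟶ K, f = 0 := by
  constructor
  · intro hK E' hE' f
    let P : ObjectProperty D := fun Z => ∀ (n : ℤ) (f : Z ⟶ (shiftFunctor D n).obj K), f = 0
    haveI : P.IsClosedUnderIsomorphisms := ⟨fun e h n f => by
      rw [← cancel_epi e.hom, h n (e.hom ≫ f), comp_zero]⟩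
    haveI : P.IsStableUnderShift ℤ := ⟨fun a => ⟨fun Z hZ n f => by
      obtain ⟨g, hg⟩ := (shiftFunctor D a).map_surjective
        (f ≫ ((shiftFunctorAdd' D (n - a) a n (by omega)).app K).hom)
      rw [← cancel_mono ((shiftFunctorAdd' D (n - a) a n (by omega)).app K).hom, ← hg, hZ _ g,
        Functor.map_zero, zero_comp]⟩⟩
    haveI : P.IsTriangulated :=
      { exists_zero := ⟨0, isZero_zero D, fun n f => (isZero_zero D).eq_of_src _ _⟩
        toIsTriangulatedClosed₂ := ObjectProperty.IsTriangulatedClosed₂.mk' fun T hT h1 h3 n f => by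
          obtain ⟨g, hg⟩ := Pretriangulated.Triangle.yoneda_exact₂ _ hT f (h1 n _)
          rw [hg, h3 n g, comp_zero] }
    haveI : P.IsStableUnderRetracts := ⟨fun r h n f => by
      rw [← Category.id_comp f, ← r.retract, Category.assoc, h n (r.r ≫ f), comp_zero]⟩
    have hle : (ObjectProperty.singleton E).triangEnvelope ≤ P :=
      (ObjectProperty.triangEnvelope_le_iff _).2 (fun Z hZ => by
        rw [ObjectProperty.singleton_iff] at hZ
        subst hZ
        exact fun n f => hK n f)
    exact Groth.Agent.TriH.Postnikov.Van.of_right_zero (hle E' hE' 0) f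
  · intro h i
    have hE : (ObjectProperty.singleton E).triangEnvelope ((shiftFunctor D (-i)).obj E) :=
      (ObjectProperty.singleton E).triangEnvelope.le_shift (-i) E
        ((ObjectProperty.singleton E).le_triangEnvelope _ ((ObjectProperty.singleton_iff _ _).2 rfl))
    exact Groth.Agent.TriH.Postnikov.Van.shift_right (p := -i) (q := 0) (r := i) (by omega)
      ((Groth.Agent.TriH.Postnikov.Van.right_zero rfl (h _ hE)))

end Groth.Agent.S6585
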