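import Groth.Statements.S6586
import Mathlib

set_option autoImplicit false
universe v u
open CategoryTheory CategoryTheory.Limits ZeroObject
open CohDer

namespace Groth.Agent.S6586

/-- Fix a triangulated category D together with an object E in it. Suppose E classically generates D,
i.e. ⟨E⟩ = D; then E is a generator of D: an object K with Hom(E, K⟦n⟧) = 0 for all n is zero. -/
theorem result {D : Type u} [Category.{v} D] [Preadditive D] [HasZeroObject D] [HasShift D ℤ]
    [∀ n : ℤ, (shiftFunctor D n).Additive] [Pretriangulated D] [IsTriangulated D]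
    (E : D) (hE : (ObjectProperty.singleton E).IsClassicalTriangulatedGenerator) :
    CohDer.Generates (fun _ : PUnit.{1} => E) := by
  intro K hK
  let P : ObjectProperty D := fun Z => ∀ (n : ℤ) (f : Z ⟶ (shiftFunctor D n).obj K), f = 0
  haveI : P.IsClosedUnderIsomorphisms := ⟨fun e h n f => by
    rw [← cancel_epi e.hom, h n (e.hom ≫ f), comp_zero]⟩
  haveI : P.IsStableUnderShift ℤ := ⟨fun a => ⟨fun Z hZ n f => by
    obtain ⟨g, hg⟩ := (shiftFunctor D a).map_surjective
      (f ≫ ((shiftFunctorAdd' D (n - a) a n (by omega)).app K).hom)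
    rw [← cancel_mono ((shiftFunctorAdd' D (n - a) a n (by omega)).app K).hom, ← hg, hZ _ g,
      Functor.map_zero, zero_comp]⟩⟩
  haveI : P.IsTriangulated :=
    { exists_zero := ⟨0, isZero_zero D, fun n f => (isZero_zero D).eq_of_src _ _⟩
      toIsTriangulatedClosed₂ := ObjectProperty.IsTriangulatedClosed₂.mk' fun T hT h1 h3 n f => by
        obtain ⟨g, hg⟩ := Pretriangulated.Triangle.yoneda_exact₂ _ hT f (h1 n _)
        rw [hg, h3 n g, comp_zero] }
  haveI : P.IsStableUnderRetracts := ⟨fun r h n f => by
    rw [← Category.id_comp f, ← r.retract, Category.assoc, h n (r.r ≫ f), comp_zero]⟩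
  have hle : (ObjectProperty.singleton E).triangEnvelope ≤ P :=
    (ObjectProperty.triangEnvelope_le_iff _).2 (fun Z hZ => by
      rw [ObjectProperty.singleton_iff] at hZ
      subst hZ
      exact fun n f => hK PUnit.unit n f)
  have hK' : P K := hle K (by rw [hE]; trivial)
  have h0 := hK' 0 ((shiftFunctorZero D ℤ).inv.app K)
  rw [IsZero.iff_id_eq_zero]
  exact ((shiftFunctorZero D ℤ).inv_hom_id_app K).symm.trans ((congrArg (· ≫ _) h0).trans zero_comp)

end Groth.Agent.S6586
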