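import Groth.Statements.S6600
import Mathlib

set_option autoImplicit false
universe v u
open CategoryTheory CategoryTheory.Limits
open CohDer

namespace Groth.Agent.S6600

open CategoryTheory.Pretriangulated in
/-- Let D be a triangulated category, A ⊂ D a full subcategory invariant under all shifts, and X → Y → Z
→ X⟦1⟧ a distinguished triangle. Then Z lies in the right orthogonal A^⊥ if and only if Hom(A, X) →
Hom(A, Y) is bijective for every object A of A. -/
theorem result {D : Type u} [Category.{v} D] [Preadditive D] [HasZeroObject D] [HasShift D ℤ]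
    [∀ n : ℤ, (shiftFunctor D n).Additive] [Pretriangulated D] [IsTriangulated D]
    (P : ObjectProperty D) [P.IsStableUnderShift ℤ] (T : Triangle D) (hT : T ∈ distinguishedTriangles) :
    P.rightOrthogonal T.obj₃ ↔ ∀ A : D, P A → Function.Bijective (fun u : A ⟶ T.obj₁ => u ≫ T.mor₁) := by
  constructor
  · intro hZ A hA
    constructor
    · intro u u' e
      rw [← sub_eq_zero]
      obtain ⟨g, hg⟩ := Triangle.coyoneda_exact₂ _ (inv_rot_of_distTriang _ hT) (u - u')
        ((Preadditive.sub_comp _ _ _).trans (sub_eq_zero.2 e))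
      have : g = 0 := (shiftFunctor D (1 : ℤ)).map_injective (by
        rw [Functor.map_zero]
        refine (cancel_mono ((shiftNegShift T.obj₃ (1 : ℤ)).hom)).1 (Eq.trans ?_ zero_comp.symm)
        exact hZ _ (P.le_shift (1 : ℤ) _ hA))
      rw [hg, this]
      exact zero_comp
    · intro y
      obtain ⟨g, hg⟩ := Triangle.coyoneda_exact₂ _ hT y (hZ _ hA)
      exact ⟨g, hg.symm⟩
  · intro h A f hA
    have hf : f ≫ T.mor₃ = 0 := by
      let e := shiftNegShift A (1 : ℤ)
      obtain ⟨u, hu⟩ := (shiftFunctor D (1 : ℤ)).map_surjective (e.hom ≫ f ≫ T.mor₃)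
      have : u ≫ T.mor₁ = 0 := (shiftFunctor D (1 : ℤ)).map_injective (by
        rw [Functor.map_comp, hu, Category.assoc, Category.assoc,
          comp_distTriang_mor_zero₃₁ _ hT, comp_zero, comp_zero, Functor.map_zero])
      rw [(h _ (P.le_shift (-1 : ℤ) _ hA)).1 (this.trans zero_comp.symm), Functor.map_zero] at hu
      exact (cancel_epi e.hom).1 (hu.symm.trans comp_zero.symm)
    obtain ⟨y, hy⟩ := Triangle.coyoneda_exact₃ _ hT f hf
    obtain ⟨x, hx⟩ := (h A hA).2 y
    rw [hy, ← hx]
    exact (Category.assoc _ _ _).trans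
      ((congrArg (x ≫ ·) (comp_distTriang_mor_zero₁₂ _ hT)).trans comp_zero)

end Groth.Agent.S6600
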