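import Groth.Statements.S6601
import Mathlib

set_option autoImplicit false
universe v u
open CategoryTheory CategoryTheory.Limits
open CohDer

namespace Groth.Agent.S6601

open CategoryTheory.Pretriangulated in
/-- Let D be a triangulated category, B ⊂ D a full subcategory invariant under all shifts, and X → Y → Z
→ X⟦1⟧ a distinguished triangle. Then X lies in the left orthogonal ^⊥B if and only if Hom(Z, B) →
Hom(Y, B) is bijective for every object B of B. -/
theorem result {D : Type u} [Category.{v} D] [Preadditive D] [HasZeroObject D] [HasShift D ℤ]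
    [∀ n : ℤ, (shiftFunctor D n).Additive] [Pretriangulated D] [IsTriangulated D]
    (P : ObjectProperty D) [P.IsStableUnderShift ℤ] (T : Triangle D) (hT : T ∈ distinguishedTriangles) :
    P.leftOrthogonal T.obj₁ ↔ ∀ B : D, P B → Function.Bijective (fun u : T.obj₃ ⟶ B => T.mor₂ ≫ u) := by
  constructor
  · intro hX B hB
    constructor
    · intro w w' e
      rw [← sub_eq_zero]
      obtain ⟨g, hg⟩ := Triangle.yoneda_exact₃ _ hT (w - w')
        ((Preadditive.comp_sub _ _ _).trans (sub_eq_zero.2 e))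
      have : g = 0 := (shiftFunctor D (-1 : ℤ)).map_injective (by
        rw [Functor.map_zero, ← cancel_epi ((shiftShiftNeg T.obj₁ (1 : ℤ)).inv), comp_zero]
        exact hX _ (P.le_shift (-1 : ℤ) _ hB))
      rw [hg, this, comp_zero]
    · intro y
      obtain ⟨g, hg⟩ := Triangle.yoneda_exact₂ _ hT y (hX _ hB)
      exact ⟨g, hg.symm⟩
  · intro h B x hB
    have hx : T.mor₃ ≫ (shiftFunctor D (1 : ℤ)).map x = 0 :=
      (h _ (P.le_shift (1 : ℤ) _ hB)).1 (by
        show T.mor₂ ≫ T.mor₃ ≫ _ = T.mor₂ ≫ 0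
        rw [← Category.assoc, comp_distTriang_mor_zero₂₃ _ hT, zero_comp, comp_zero])
    obtain ⟨y, hy⟩ := Triangle.yoneda_exact₃ _ (rot_of_distTriang _ hT) _ hx
    obtain ⟨y, rfl⟩ : ∃ y' : T.obj₂ ⟶ B, (shiftFunctor D (1 : ℤ)).map y' = y :=
      (shiftFunctor D (1 : ℤ)).map_surjective y
    obtain ⟨z, rfl⟩ := (h B hB).2 y
    apply (shiftFunctor D (1 : ℤ)).map_injective
    refine hy.trans ?_
    show (-((shiftFunctor D (1 : ℤ)).map T.mor₁)) ≫ (shiftFunctor D (1 : ℤ)).map (T.mor₂ ≫ z) = _
    rw [Preadditive.neg_comp, ← Functor.map_comp, ← Category.assoc,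
      comp_distTriang_mor_zero₁₂ _ hT, zero_comp, Functor.map_zero, neg_zero]

end Groth.Agent.S6601
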