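import Groth.Statements.S6611
import Mathlib.Algebra.Homology.DerivedCategory.KInjective

set_option autoImplicit false
universe v u
open CategoryTheory CategoryTheory.Limits
open CohDer

namespace Groth.Agent.S6611

/-- Let A be an abelian category, α : K ⟶ L a quasi-isomorphism of cochain complexes which is injective
in every degree, I a bounded below complex of injective objects and γ : K ⟶ I a morphism. Then there
is a morphism β : L ⟶ I with α ≫ β = γ. -/
theorem result {A : Type u} [Category.{v} A] [Abelian A]
    (K L I : CochainComplex A ℤ) (α : K ⟶ L) [QuasiIso α] (hα : ∀ n : ℤ, Mono (α.f n))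
    (a : ℤ) [I.IsStrictlyGE a] (hI : ∀ n : ℤ, Injective (I.X n)) (γ : K ⟶ I) :
    ∃ β : L ⟶ I, α ≫ β = γ := by
  letI := HasDerivedCategory.standard A
  haveI : ∀ n : ℤ, Injective (I.X n) := hI
  haveI := CochainComplex.isKInjective_of_injective I a
  haveI := hα
  haveI : IsIso (DerivedCategory.Qh.map ((HomotopyCategory.quotient A (.up ℤ)).map α)) :=
    (NatIso.isIso_map_iff (DerivedCategory.quotientCompQhIso A) α).2 inferInstance
  obtain ⟨b, hb⟩ := (CochainComplex.IsKInjective.Qh_map_bijective _ I).surjective
    (inv (DerivedCategory.Qh.map ((HomotopyCategory.quotient A (.up ℤ)).map α)) ≫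
      DerivedCategory.Qh.map ((HomotopyCategory.quotient A (.up ℤ)).map γ))
  obtain ⟨β₁, rfl⟩ := (HomotopyCategory.quotient A (.up ℤ)).map_surjective b
  have e : (HomotopyCategory.quotient A (.up ℤ)).map α ≫
      (HomotopyCategory.quotient A (.up ℤ)).map β₁ =
      (HomotopyCategory.quotient A (.up ℤ)).map γ :=
    (CochainComplex.IsKInjective.Qh_map_bijective _ I).injective
      (by rw [Functor.map_comp, hb, IsIso.hom_inv_id_assoc])
  let h := HomotopyCategory.homotopyOfEq (α ≫ β₁) γ (by rw [Functor.map_comp, e])
  let H : ∀ i j : ℤ, L.X i ⟶ I.X j := fun i j => Injective.factorThru (h.hom i j) (α.f i)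
  have hH : ∀ i j : ℤ, α.f i ≫ H i j = h.hom i j := fun i j => Injective.comp_factorThru _ _
  refine ⟨β₁ - Homotopy.nullHomotopicMap H, ?_⟩
  rw [Preadditive.comp_sub, Homotopy.comp_nullHomotopicMap]
  ext n
  have := h.comm n
  simp only [hH, HomologicalComplex.sub_f_apply, Homotopy.nullHomotopicMap, HomologicalComplex.comp_f]
    at this ⊢
  rw [this]
  abel

end Groth.Agent.S6611
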