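import Groth.Statements.S6613
import Mathlib.CategoryTheory.Localization.Triangulated

set_option autoImplicit false
universe v u v' u'
open CategoryTheory CategoryTheory.Limits
open CohDer

namespace Groth.Agent.S6613

/-- Let D be a pretriangulated category, D' ⊂ D a full pretriangulated subcategory, S a saturated
multiplicative system of D compatible with the triangulated structure and Q : D → S⁻¹D the
localization. Assume every X in D admits some s : X' ⟶ X in S with X' in D'. Then, with S' = S ∩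
Arrows(D'), the functor (S')⁻¹D' → S⁻¹D is an equivalence; equivalently the composite D' → D → S⁻¹D
is a localization of D' at S'. (The published result additionally claims that the intersection S' =
S ∩ Arrows(D') forms a multiplicative system on D' which is saturated and respects the triangulated
structure of D'; this row asserts only the localization property.) -/
theorem result {D : Type u} [Category.{v} D] [Preadditive D] [HasZeroObject D] [HasShift D ℤ]
    [∀ n : ℤ, (shiftFunctor D n).Additive] [Pretriangulated D]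
    (P : ObjectProperty D) [P.IsTriangulated]
    (S : MorphismProperty D) [S.HasLeftCalculusOfFractions] [S.HasRightCalculusOfFractions] [S.IsCompatibleWithTriangulation]
    {E : Type u'} [Category.{v'} E] (Q : D ⥤ E) [Q.IsLocalization S]
    (hsat : ∀ {X Y : D} (f : X ⟶ Y), IsIso (Q.map f) → S f)
    (hP : ∀ X : D, ∃ (X' : D) (s : X' ⟶ X), P X' ∧ S s) :
    (P.ι ⋙ Q).IsLocalization (S.inverseImage P.ι) := by
  let W := S.inverseImage P.ι
  -- refine a morphism of `S` so that its source lies in `P`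
  have href : ∀ {Z X : D} (s : Z ⟶ X), S s → ∃ (X' : D) (u : X' ⟶ Z), P X' ∧ S u ∧ S (u ≫ s) := by
    intro Z X s hs
    obtain ⟨X', u, hX', hu⟩ := hP Z
    exact ⟨X', u, hX', hu, S.comp_mem u s hu hs⟩
  haveI : W.HasRightCalculusOfFractions :=
    { exists_rightFraction := by
        intro X Y φ
        obtain ⟨ψ, hψ⟩ := MorphismProperty.LeftFraction.exists_rightFraction
          (MorphismProperty.LeftFraction.mk (W := S) (P.ι.map φ.f) (P.ι.map φ.s) φ.hs)
        obtain ⟨X', u, hX', -, hus⟩ := href ψ.s ψ.hs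
        refine ⟨MorphismProperty.RightFraction.mk (X' := ⟨X', hX'⟩)
          (ObjectProperty.homMk (u ≫ ψ.s)) ?_ (ObjectProperty.homMk (u ≫ ψ.f)), ?_⟩
        · exact hus
        · apply P.ι.map_injective
          rw [P.ι.map_comp, P.ι.map_comp]
          exact (Category.assoc _ _ _).trans ((congrArg (u ≫ ·) hψ).trans (Category.assoc _ _ _).symm)
      ext := by
        intro X Y Y' f₁ f₂ s hs e
        obtain ⟨Z, t, ht, et⟩ := MorphismProperty.HasRightCalculusOfFractions.ext (W := S)
          (P.ι.map f₁) (P.ι.map f₂) (P.ι.map s) hs (by rw [← P.ι.map_comp, e, P.ι.map_comp])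
        obtain ⟨X', u, hX', -, hut⟩ := href t ht
        refine ⟨⟨X', hX'⟩, ObjectProperty.homMk (u ≫ t), ?_, ?_⟩
        · exact hut
        · apply P.ι.map_injective
          rw [P.ι.map_comp, P.ι.map_comp]
          exact (Category.assoc _ _ _).trans ((congrArg (u ≫ ·) et).trans (Category.assoc _ _ _).symm) }
  have hinv : W.IsInvertedBy (P.ι ⋙ Q) := fun X Y f hf => Localization.inverts Q S _ hf
  let G : W.Localization ⥤ E := Localization.lift (P.ι ⋙ Q) hinv W.Q
  let iso : W.Q ⋙ G ≅ P.ι ⋙ Q := Localization.fac (P.ι ⋙ Q) hinv W.Q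
  have hobj : ∀ X : W.Localization, ∃ X₀, W.Q.obj X₀ = X := fun X =>
    ⟨_, (Localization.Construction.objEquiv W).apply_symm_apply X⟩
  have hmap : ∀ {X Y : P.FullSubcategory} (f : X ⟶ Y),
      G.map (W.Q.map f) = iso.hom.app X ≫ Q.map (P.ι.map f) ≫ iso.inv.app Y := by
    intro X Y f
    exact ((NatIso.naturality_2 iso f).symm.trans rfl)
  haveI : G.Full := by
    constructor
    intro X₁ Y₁ φ
    obtain ⟨X, rfl⟩ := hobj X₁
    obtain ⟨Y, rfl⟩ := hobj Y₁
    obtain ⟨ψ, hψ⟩ := Localization.exists_rightFraction Q S (iso.inv.app X ≫ φ ≫ iso.hom.app Y)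
    obtain ⟨X', u, hX', -, hus⟩ := href ψ.s ψ.hs
    let a : (⟨X', hX'⟩ : P.FullSubcategory) ⟶ X := ObjectProperty.homMk (u ≫ ψ.s)
    let b : (⟨X', hX'⟩ : P.FullSubcategory) ⟶ Y := ObjectProperty.homMk (u ≫ ψ.f)
    have ha : W a := hus
    haveI : IsIso (W.Q.map a) := Localization.inverts W.Q W a ha
    refine ⟨inv (W.Q.map a) ≫ W.Q.map b, ?_⟩
    rw [Functor.map_comp, Functor.map_inv, IsIso.inv_comp_eq, hmap, hmap]
    have e : Q.map (P.ι.map b) = Q.map (P.ι.map a) ≫ iso.inv.app X ≫ φ ≫ iso.hom.app Y := by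
      show Q.map (u ≫ ψ.f) = Q.map (u ≫ ψ.s) ≫ _
      rw [Q.map_comp, Q.map_comp, hψ]
      exact ((Category.assoc _ _ _).trans (congrArg (Q.map u ≫ ·)
        (ψ.map_s_comp_map Q (Localization.inverts Q S)))).symm
    rw [e]
    simp
  haveI : G.Faithful := by
    constructor
    intro X₁ Y₁ φ₁ φ₂ hφ
    obtain ⟨X, rfl⟩ := hobj X₁
    obtain ⟨Y, rfl⟩ := hobj Y₁
    obtain ⟨ψ₁, hψ₁⟩ := Localization.exists_rightFraction W.Q W φ₁
    obtain ⟨ψ₂, hψ₂⟩ := Localization.exists_rightFraction W.Q W (W.Q.map ψ₁.s ≫ φ₂)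
    haveI := Localization.inverts W.Q W _ ψ₁.hs
    haveI := Localization.inverts W.Q W _ ψ₂.hs
    have e₁ : W.Q.map (ψ₂.s ≫ ψ₁.f) = W.Q.map ψ₂.s ≫ W.Q.map ψ₁.s ≫ φ₁ := by
      rw [hψ₁, MorphismProperty.RightFraction.map_s_comp_map, Functor.map_comp]
    have e₂ : W.Q.map ψ₂.f = W.Q.map ψ₂.s ≫ W.Q.map ψ₁.s ≫ φ₂ := by
      rw [hψ₂, MorphismProperty.RightFraction.map_s_comp_map]
    have key : Q.map (P.ι.map (ψ₂.s ≫ ψ₁.f)) = Q.map (P.ι.map ψ₂.f) := by
      rw [← cancel_epi (iso.hom.app ψ₂.X'), ← cancel_mono (iso.inv.app Y), Category.assoc,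
        Category.assoc, ← hmap, ← hmap, e₁, e₂]
      simp only [Functor.map_comp, hφ]
    obtain ⟨Z, t, ht, et⟩ := (MorphismProperty.map_eq_iff_precomp Q S _ _).1 key
    obtain ⟨X', u, hX', -, hut⟩ := href t ht
    have : W.Q.map (ψ₂.s ≫ ψ₁.f) = W.Q.map ψ₂.f := by
      refine (MorphismProperty.map_eq_iff_precomp W.Q W _ _).2
        ⟨⟨X', hX'⟩, ObjectProperty.homMk (u ≫ t), ?_, ?_⟩
      · exact hut
      · apply P.ι.map_injective
        rw [P.ι.map_comp, P.ι.map_comp]
        exact (Category.assoc _ _ _).trans ((congrArg (u ≫ ·) et).trans (Category.assoc _ _ _).symm)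
    rw [e₁, e₂, cancel_epi, cancel_epi] at this
    exact this
  haveI : G.EssSurj := ⟨fun Y => by
    haveI := Localization.essSurj Q S
    obtain ⟨X', s, hX', hs⟩ := hP (Q.objPreimage Y)
    haveI := Localization.inverts Q S s hs
    exact ⟨W.Q.obj ⟨X', hX'⟩,
      ⟨iso.app ⟨X', hX'⟩ ≪≫ asIso (Q.map s) ≪≫ Q.objObjPreimageIso Y⟩⟩⟩
  haveI : G.IsEquivalence := { }
  exact Functor.IsLocalization.of_equivalence_target W.Q W (P.ι ⋙ Q) G.asEquivalence iso

end Groth.Agent.S6613
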