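import Groth.Statements.S6614


set_option autoImplicit false
universe v u
open CategoryTheory CategoryTheory.Limits Opposite
open CohDer

namespace Groth.Agent.S6614

/-- Let D be a triangulated category and (A_n) an ℕ-indexed inverse system of D which is essentially
constant with value A relative to the cone c. Then there are an index i and direct sum
decompositions A_{i+j} ≅ A ⊞ Z_j (j ≥ 0) such that (a) c_{i+j} is the inclusion of the summand A and
the transition maps A_{i+k} → A_{i+j} are 𝟙_A ⊕ (Z_k → Z_j), and (b) for every j there is k ≥ j with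
Z_k → Z_j zero. (The published statement is an equivalence whose converse is given without proof;
this row states only the forward implication.) -/
theorem result {D : Type u} [Category.{v} D] [Preadditive D] [HasZeroObject D] [HasShift D ℤ]
    [∀ n : ℤ, (shiftFunctor D n).Additive] [Pretriangulated D] [IsTriangulated D]
    (X : ARSys.PS D) (A : D) (c : (Functor.const ℕᵒᵖ).obj A ⟶ X) (hX : DerCA.IsEssConstant X A c) :
    ∃ (i : ℕ) (Z : ℕ → D) (e : ∀ j : ℕ, X.obj (op (i + j)) ≅ A ⊞ Z j) (z : ∀ j k : ℕ, j ≤ k → (Z k ⟶ Z j)),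
      (∀ j : ℕ, c.app (op (i + j)) ≫ (e j).hom = biprod.inl) ∧
      (∀ (j k : ℕ) (hjk : j ≤ k), (e k).inv ≫ ARSys.tr X (Nat.add_le_add_left hjk i) = biprod.map (𝟙 A) (z j k hjk) ≫ (e j).inv) ∧
      (∀ j : ℕ, ∃ (k : ℕ) (hjk : j ≤ k), z j k hjk = 0) := by
  obtain ⟨i, s, hs, hj⟩ := hX
  have hnat : ∀ {a b : ℕ} (h : a ≤ b), c.app (op b) ≫ ARSys.tr X h = c.app (op a) := fun h => by
    have := c.naturality (homOfLE h).op
    simp at this
    exact this.symm
  have htr : ∀ {a b d : ℕ} (h : a ≤ b) (h' : b ≤ d), ARSys.tr X h' ≫ ARSys.tr X h = ARSys.tr X (h.trans h') :=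
    fun h h' => by rw [ARSys.tr, ← Functor.map_comp]; rfl
  let C := fun j : ℕ => c.app (op (i + j))
  let r := fun j : ℕ => ARSys.tr X (Nat.le_add_right i j) ≫ s
  have hCr : ∀ j, C j ≫ r j = 𝟙 A := fun j => by
    show c.app _ ≫ ARSys.tr X _ ≫ s = _
    rw [← Category.assoc, hnat, hs]
  have hsplit : ∀ j, ∃ (Z : D) (p : X.obj (op (i + j)) ⟶ Z) (σ : Z ⟶ X.obj (op (i + j))),
      C j ≫ p = 0 ∧ σ ≫ p = 𝟙 Z ∧ σ ≫ r j = 0 ∧ r j ≫ C j + p ≫ σ = 𝟙 _ := fun j => by
    obtain ⟨Z, p, δ, hT⟩ := Pretriangulated.distinguished_cocone_triangle (C j)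
    let T := Pretriangulated.Triangle.mk (C j) p δ
    have hcp : C j ≫ p = 0 := Pretriangulated.comp_distTriang_mor_zero₁₂ T hT
    have hmono : Mono (C j) := (SplitMono.mk (r j) (hCr j)).mono
    have : Mono T.mor₁ := hmono
    have hδ : T.mor₃ = 0 := (T.mor₃_eq_zero_iff_mono₁ hT).2 this
    have hp : Epi p := (T.mor₃_eq_zero_iff_epi₂ hT).1 hδ
    obtain ⟨σ, hσ⟩ := T.yoneda_exact₂ hT (𝟙 (X.obj (op (i + j))) - r j ≫ C j)
      (by show C j ≫ _ = 0; rw [Preadditive.comp_sub, Category.comp_id, ← Category.assoc, hCr]; erw [Category.id_comp, sub_self])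
    have hσ' : p ≫ σ = 𝟙 _ - r j ≫ C j := hσ.symm
    refine ⟨Z, p, σ, hcp, ?_, ?_, ?_⟩
    · rw [← cancel_epi p, ← Category.assoc, hσ', Preadditive.sub_comp, Category.assoc, hcp, Category.id_comp,
        comp_zero, sub_zero, Category.comp_id]
    · rw [← cancel_epi p, ← Category.assoc, hσ', Preadditive.sub_comp, Category.assoc, hCr, Category.id_comp,
        Category.comp_id, sub_self, comp_zero]
    · rw [hσ', add_sub_cancel]
  choose Z p σ hcp hσp hσr htot using hsplit
  let e : ∀ j, X.obj (op (i + j)) ≅ A ⊞ Z j := fun j =>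
    { hom := biprod.lift (r j) (p j)
      inv := biprod.desc (C j) (σ j)
      hom_inv_id := by rw [biprod.lift_desc, htot]
      inv_hom_id := by ext <;> simp [hCr, hcp, hσp, hσr] }
  refine ⟨i, Z, e, fun j k h => σ k ≫ ARSys.tr X (Nat.add_le_add_left h i) ≫ p j, fun j => ?_, fun j k h => ?_, fun j => ?_⟩
  · show C j ≫ biprod.lift (r j) (p j) = _
    ext <;> simp [hCr, hcp]
  · show biprod.desc (C k) (σ k) ≫ _ = _ ≫ biprod.desc (C j) (σ j)
    apply biprod.hom_ext'
    · simp only [biprod.inl_desc_assoc, biprod.inl_map_assoc, biprod.inl_desc, Category.id_comp]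
      exact (hnat (Nat.add_le_add_left h i)).trans (Category.id_comp (X := A) (C j)).symm
    · simp only [biprod.inr_desc_assoc, biprod.inr_map_assoc, biprod.inr_desc, Category.assoc]
      have h1 : σ k ≫ ARSys.tr X (Nat.add_le_add_left h i) ≫ r j = 0 := by
        show σ k ≫ ARSys.tr X _ ≫ ARSys.tr X _ ≫ s = 0
        rw [← Category.assoc (ARSys.tr X _), htr]
        exact hσr k
      conv_lhs => rw [← Category.comp_id (ARSys.tr X (Nat.add_le_add_left h i)), ← htot j,
        Preadditive.comp_add, Preadditive.comp_add, reassoc_of% h1, zero_comp, zero_add]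
  · obtain ⟨k, hik, hjk, hk⟩ := hj (i + j)
    obtain ⟨m, rfl⟩ := Nat.exists_eq_add_of_le hik
    refine ⟨m, Nat.le_of_add_le_add_left hjk, ?_⟩
    show σ m ≫ ARSys.tr X _ ≫ p j = 0
    rw [hk, Category.assoc, Category.assoc, hcp j, comp_zero, comp_zero, comp_zero]

end Groth.Agent.S6614
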