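import Groth.Statements.S6615


set_option autoImplicit false
universe v u
open CategoryTheory CategoryTheory.Limits Opposite
open CohDer

namespace Groth.Agent.S6615

open CategoryTheory.Pretriangulated in
/-- Essential constancy of the middle system: in a triangulated category D, take an ℕ-indexed inverse
system of distinguished triangles with vertices A_n, B_n, C_n. When (A_n) and (C_n) are both
essentially constant, the middle system (B_n) is too. (The published statement also says the values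
fit in a distinguished triangle receiving a map of triangles from some level; this row asserts only
the essential constancy of the middle system.) -/
theorem result {D : Type u} [Category.{v} D] [Preadditive D] [HasZeroObject D] [HasShift D ℤ]
    [∀ n : ℤ, (shiftFunctor D n).Additive] [Pretriangulated D] [IsTriangulated D]
    (X Y Z : ARSys.PS D) (f : X ⟶ Y) (g : Y ⟶ Z) (h : Z ⟶ X ⋙ shiftFunctor D (1 : ℤ))
    (hT : ∀ n : ℕ, Triangle.mk (f.app (op n)) (g.app (op n)) (h.app (op n)) ∈ distinguishedTriangles)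
    (hX : ∃ (A : D) (cA : (Functor.const ℕᵒᵖ).obj A ⟶ X), DerCA.IsEssConstant X A cA)
    (hZ : ∃ (C : D) (cC : (Functor.const ℕᵒᵖ).obj C ⟶ Z), DerCA.IsEssConstant Z C cC) :
    ∃ (B : D) (cB : (Functor.const ℕᵒᵖ).obj B ⟶ Y), DerCA.IsEssConstant Y B cB := by
  obtain ⟨A, cA, hA⟩ := hX
  obtain ⟨C, cC, hC⟩ := hZ
  obtain ⟨iA, sA₀, hsA₀, hAj⟩ := hA
  obtain ⟨iC, sC₀, hsC₀, hCj⟩ := hC
  have htr : ∀ (P : ARSys.PS D) {a b d : ℕ} (h : a ≤ b) (h' : b ≤ d),
      ARSys.tr P h' ≫ ARSys.tr P h = ARSys.tr P (h.trans h') :=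
    fun P _ _ _ h h' => by rw [ARSys.tr, ← Functor.map_comp]; rfl
  have hcone : ∀ (P : ARSys.PS D) (V : D) (cP : (Functor.const ℕᵒᵖ).obj V ⟶ P) {a b : ℕ} (h : a ≤ b),
      cP.app (op b) ≫ ARSys.tr P h = cP.app (op a) := fun P V cP _ _ h => by
    have := cP.naturality (homOfLE h).op
    simp at this
    exact this.symm
  -- a common level at which the square with `δ` commutes
  obtain ⟨k₀, hk₁, hk₂, hk⟩ := hCj (max iA iC)
  let g₀ : Z.obj (op (max iA iC)) ⟶ A⟦(1 : ℤ)⟧ :=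
    h.app (op (max iA iC)) ≫ (ARSys.tr X (le_max_left iA iC) ≫ sA₀)⟦(1 : ℤ)⟧'
  let δ : C ⟶ A⟦(1 : ℤ)⟧ := cC.app (op (max iA iC)) ≫ g₀
  let sA : X.obj (op k₀) ⟶ A := ARSys.tr X ((le_max_left iA iC).trans hk₂) ≫ sA₀
  let sC : Z.obj (op k₀) ⟶ C := ARSys.tr Z hk₁ ≫ sC₀
  have hnat : ∀ {a b : ℕ} (hab : a ≤ b), ARSys.tr Z hab ≫ h.app (op a) = h.app (op b) ≫ (ARSys.tr X hab)⟦(1 : ℤ)⟧' :=
    fun hab => h.naturality (homOfLE hab).op
  have hf : ∀ {a b : ℕ} (hab : a ≤ b), ARSys.tr X hab ≫ f.app (op a) = f.app (op b) ≫ ARSys.tr Y hab :=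
    fun hab => f.naturality (homOfLE hab).op
  have hg : ∀ {a b : ℕ} (hab : a ≤ b), ARSys.tr Y hab ≫ g.app (op a) = g.app (op b) ≫ ARSys.tr Z hab :=
    fun hab => g.naturality (homOfLE hab).op
  have hsq : h.app (op k₀) ≫ sA⟦(1 : ℤ)⟧' = sC ≫ δ := by
    show _ = (ARSys.tr Z hk₁ ≫ sC₀) ≫ cC.app _ ≫ g₀
    calc _ = ARSys.tr Z hk₂ ≫ g₀ := by
            show _ = ARSys.tr Z hk₂ ≫ h.app _ ≫ _
            rw [← Category.assoc (ARSys.tr Z hk₂), hnat, Category.assoc, ← Functor.map_comp, ← Category.assoc, htr]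
      _ = _ := by rw [hk]; simp only [Category.assoc]
  -- the triangle on the values
  obtain ⟨B, a, b, hB⟩ := Pretriangulated.distinguished_cocone_triangle₂ δ
  obtain ⟨t, ht1, ht2⟩ : ∃ t : Y.obj (op k₀) ⟶ B, f.app (op k₀) ≫ t = sA ≫ a ∧ g.app (op k₀) ≫ sC = t ≫ b :=
    Pretriangulated.complete_distinguished_triangle_morphism₂ _ _ (hT k₀) hB sA sC hsq
  -- pro-hom statements for `A` and `C`
  have injA : ∀ {T : D} {l : ℕ} (hl : k₀ ≤ l) (φ : A ⟶ T), ARSys.tr X hl ≫ sA ≫ φ = 0 → φ = 0 := fun hl φ hφ => by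
    have h' := congrArg (cA.app (op _) ≫ ·) hφ
    simp only [comp_zero, sA, Category.assoc] at h'
    rw [← Category.assoc, hcone X A cA, ← Category.assoc, hcone X A cA, ← Category.assoc, hsA₀] at h'
    erw [Category.id_comp] at h'
    exact h'
  have injC : ∀ {T : D} {l : ℕ} (hl : k₀ ≤ l) (φ : C ⟶ T), ARSys.tr Z hl ≫ sC ≫ φ = 0 → φ = 0 := fun hl φ hφ => by
    have h' := congrArg (cC.app (op _) ≫ ·) hφ
    simp only [comp_zero, sC, Category.assoc] at h'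
    rw [← Category.assoc, hcone Z C cC, ← Category.assoc, hcone Z C cC, ← Category.assoc, hsC₀] at h'
    erw [Category.id_comp] at h'
    exact h'
  have surA : ∀ m : ℕ, ∃ (l : ℕ) (hl : k₀ ≤ l) (hm : m ≤ l), ARSys.tr X hm = ARSys.tr X hl ≫ sA ≫ cA.app (op m) := fun m => by
    obtain ⟨l, hl₁, hl₂, hl⟩ := hAj m
    refine ⟨max l k₀, le_max_right _ _, hl₂.trans (le_max_left _ _), ?_⟩
    rw [← htr X hl₂ (le_max_left l k₀), hl]
    simp only [sA, ← Category.assoc, htr]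
  have surC : ∀ m : ℕ, ∃ (l : ℕ) (hl : k₀ ≤ l) (hm : m ≤ l), ARSys.tr Z hm = ARSys.tr Z hl ≫ sC ≫ cC.app (op m) := fun m => by
    obtain ⟨l, hl₁, hl₂, hl⟩ := hCj m
    refine ⟨max l k₀, le_max_right _ _, hl₂.trans (le_max_left _ _), ?_⟩
    rw [← htr Z hl₂ (le_max_left l k₀), hl]
    simp only [sC, ← Category.assoc, htr]
  -- injectivity for `B`
  have injB : ∀ {T : D} {l : ℕ} (hl : k₀ ≤ l) (φ : B ⟶ T), ARSys.tr Y hl ≫ t ≫ φ = 0 → φ = 0 := by
    intro T l hl φ hφ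
    have h1 : a ≫ φ = 0 := injA hl _ (by rw [← Category.assoc sA, ← ht1, Category.assoc, ← Category.assoc, hf, Category.assoc, hφ, comp_zero])
    obtain ⟨φ', hφ'⟩ : ∃ φ' : C ⟶ T, φ = b ≫ φ' := Triangle.yoneda_exact₂ _ hB φ h1
    subst hφ'
    have h2 : g.app (op l) ≫ ARSys.tr Z hl ≫ sC ≫ φ' = 0 := by
      rw [← Category.assoc, ← hg, Category.assoc, ← Category.assoc (g.app _), ht2, Category.assoc]; exact hφ
    obtain ⟨ψ, hψ⟩ : ∃ ψ : (X.obj (op l))⟦(1 : ℤ)⟧ ⟶ T, ARSys.tr Z hl ≫ sC ≫ φ' = h.app (op l) ≫ ψ :=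
      Triangle.yoneda_exact₃ _ (hT l) _ h2
    obtain ⟨p, hp₁, hp₂, hp⟩ := surA l
    suffices φ' = δ ≫ (cA.app (op l))⟦(1 : ℤ)⟧' ≫ ψ by
      have h0 : b ≫ δ = 0 := comp_distTriang_mor_zero₂₃ _ hB
      rw [this, reassoc_of% h0, zero_comp]
    rw [← sub_eq_zero]
    refine injC hp₁ _ ?_
    rw [Preadditive.comp_sub, Preadditive.comp_sub, sub_eq_zero]
    calc ARSys.tr Z hp₁ ≫ sC ≫ φ' = ARSys.tr Z hp₂ ≫ h.app (op l) ≫ ψ := by
          rw [← hψ, ← Category.assoc (ARSys.tr Z hp₂), htr]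
      _ = h.app (op p) ≫ ((ARSys.tr X hp₂)⟦(1 : ℤ)⟧') ≫ ψ := by rw [← Category.assoc, hnat, Category.assoc]
      _ = _ := by
          rw [hp, Functor.map_comp, Functor.map_comp, Category.assoc, Category.assoc, ← Category.assoc (h.app _), ← hnat,
            Category.assoc, reassoc_of% hsq]
  -- surjectivity for `B`
  have surB : ∀ m : ℕ, ∃ (φ : B ⟶ Y.obj (op m)) (l : ℕ) (hl : k₀ ≤ l) (hm : m ≤ l), ARSys.tr Y hm = ARSys.tr Y hl ≫ t ≫ φ := by
    intro m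
    obtain ⟨l, hl, hlm, hlA⟩ := surA m
    let φA : A ⟶ Y.obj (op m) := cA.app (op m) ≫ f.app (op m)
    have hφA : f.app (op l) ≫ ARSys.tr Y hlm = ARSys.tr X hl ≫ sA ≫ φA := by
      rw [← hf, hlA]; simp only [φA, Category.assoc]
    have hδ : δ ≫ φA⟦(1 : ℤ)⟧' = 0 := by
      refine injC hl _ ?_
      rw [← reassoc_of% hsq, ← Category.assoc, hnat, Category.assoc, ← Functor.map_comp, ← Functor.map_comp, ← hφA,
        Functor.map_comp, ← Category.assoc]
      have h0 : h.app (op l) ≫ (f.app (op l))⟦(1 : ℤ)⟧' = 0 := comp_distTriang_mor_zero₃₁ _ (hT l)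
      rw [h0, zero_comp]
    obtain ⟨ψ, hψ⟩ : ∃ ψ : B⟦(1 : ℤ)⟧ ⟶ (Y.obj (op m))⟦(1 : ℤ)⟧, φA⟦(1 : ℤ)⟧' = (-a⟦(1 : ℤ)⟧') ≫ ψ :=
      Triangle.yoneda_exact₃ _ (rot_of_distTriang _ hB) (φA⟦(1 : ℤ)⟧') hδ
    obtain ⟨ψ', rfl⟩ := (shiftFunctor D (1 : ℤ)).map_surjective ψ
    rw [Preadditive.neg_comp, ← Functor.map_comp, ← Functor.map_neg] at hψ
    have hψ' : a ≫ (-ψ') = φA := by
      rw [Preadditive.comp_neg]; exact ((shiftFunctor D (1 : ℤ)).map_injective hψ).symm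
    have he : f.app (op l) ≫ (ARSys.tr Y hlm - ARSys.tr Y hl ≫ t ≫ (-ψ')) = 0 := by
      rw [Preadditive.comp_sub, hφA, ← Category.assoc (f.app _), ← hf, Category.assoc, Category.assoc, reassoc_of% ht1, hψ', sub_eq_zero]
      simp only [sA, Category.assoc]
    obtain ⟨e', he'⟩ : ∃ e' : Z.obj (op l) ⟶ Y.obj (op m), ARSys.tr Y hlm - ARSys.tr Y hl ≫ t ≫ (-ψ') = g.app (op l) ≫ e' :=
      Triangle.yoneda_exact₂ _ (hT l) _ he
    obtain ⟨p, hp, hpl, hpC⟩ := surC l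
    refine ⟨-ψ' + b ≫ cC.app (op l) ≫ e', p, hp, hlm.trans hpl, ?_⟩
    have h3 := congrArg (ARSys.tr Y hpl ≫ ·) he'
    simp only [Preadditive.comp_sub] at h3
    rw [← Category.assoc, htr, ← Category.assoc, htr, ← Category.assoc (ARSys.tr Y hpl), hg, hpC, sub_eq_iff_eq_add] at h3
    rw [h3]
    simp only [Preadditive.comp_add, Category.assoc]
    rw [add_comm]
    congr 1
    rw [← reassoc_of% hg hp, ← Category.assoc (g.app (op k₀)) sC, ht2, Category.assoc]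
  choose c l hl hlm hc using surB
  refine ⟨B, { app := fun n => c n.unop, naturality := fun n m φ => ?_ }, k₀, t, ?_, fun j => ?_⟩
  · obtain ⟨n⟩ := n
    obtain ⟨m⟩ := m
    have hmn : m ≤ n := leOfHom φ.unop
    rw [show φ = (homOfLE hmn).op from Subsingleton.elim _ _]
    show 𝟙 B ≫ c m = c n ≫ ARSys.tr Y hmn
    rw [Category.id_comp, ← sub_eq_zero]
    refine injB ((hl m).trans (le_max_left (l m) (l n))) _ ?_
    rw [Preadditive.comp_sub, Preadditive.comp_sub, sub_eq_zero,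
      ← htr Y (hl m) (le_max_left (l m) (l n)), Category.assoc, ← hc, htr]
    have h2 := congrArg (fun q => ARSys.tr Y (le_max_right (l m) (l n)) ≫ q ≫ ARSys.tr Y hmn) (hc n)
    simp only [Category.assoc] at h2
    rw [← Category.assoc _ (ARSys.tr Y (hlm n)), htr, htr, ← Category.assoc _ (ARSys.tr Y (hl n)), htr] at h2
    exact h2.trans (by rw [htr])
  · show c k₀ ≫ t = 𝟙 B
    rw [← sub_eq_zero]
    refine injB (hl k₀) _ ?_
    rw [Preadditive.comp_sub, Preadditive.comp_sub, sub_eq_zero, Category.comp_id, ← Category.assoc t, ← Category.assoc, ← hc]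
  · exact ⟨l j, hl j, hlm j, hc j⟩

end Groth.Agent.S6615
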