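import Groth.Statements.S6622
import Mathlib

set_option autoImplicit false
universe v u
open CategoryTheory CategoryTheory.Limits ZeroObject CategoryTheory.Pretriangulated
open CohDer HomotopyCategory

namespace Groth.Agent.S6622

/-- Let A be an additive category. The full subcategories K⁻(A) (complexes K with Kⁿ = 0 for n ≫ 0) and
Kᵇ(A) (Kⁿ = 0 for |n| ≫ 0) of the homotopy category K(A) are full triangulated subcategories. -/
theorem result {V : Type u} [Category.{v} V] [Preadditive V] [HasZeroObject V] [HasBinaryBiproducts V] :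
    (ObjectProperty.IsTriangulated (fun K : HomotopyCategory V (ComplexShape.up ℤ) => ∃ n : ℤ, CochainComplex.IsStrictlyLE K.as n)) ∧
    (ObjectProperty.IsTriangulated (fun K : HomotopyCategory V (ComplexShape.up ℤ) =>
      ∃ a b : ℤ, CochainComplex.IsStrictlyGE K.as a ∧ CochainComplex.IsStrictlyLE K.as b)) := by
  have key : ∀ (R : ObjectProperty (CochainComplex V ℤ)), R 0 →
      (∀ (K : CochainComplex V ℤ) (k : ℤ), R K → R (K⟦k⟧)) →
      (∀ {K L : CochainComplex V ℤ} (f : K ⟶ L), R K → R L → R (CochainComplex.mappingCone f)) →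
      ObjectProperty.IsTriangulated (fun K : HomotopyCategory V (ComplexShape.up ℤ) => R K.as) := by
    intro R h0 hshift hcone
    let P : ObjectProperty (HomotopyCategory V (ComplexShape.up ℤ)) := fun K => R K.as
    haveI : P.IsStableUnderShift ℤ :=
      { isStableUnderShiftBy := fun n =>
          { le_shift := fun K hK => by
              obtain ⟨K : CochainComplex _ _, rfl⟩ := K.quotient_obj_surjective
              rw [ObjectProperty.prop_shift_iff, shift_quotient_obj]
              exact hshift K n hK } }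
    haveI : P.ContainsZero :=
      ⟨⟨(HomotopyCategory.quotient _ _).obj 0, Functor.map_isZero _ (isZero_zero _), h0⟩⟩
    haveI : P.IsTriangulatedClosed₃ :=
      ⟨fun T hT h₁ h₂ => by
        obtain ⟨f : T.obj₁.as ⟶ T.obj₂.as, hf⟩ := (quotient _ _).map_surjective T.mor₁
        refine ⟨_, ?_, ⟨Triangle.π₃.mapIso (isoTriangleOfIso₁₂ T _ hT
          (mappingCone_triangleh_distinguished f) (Iso.refl _) (Iso.refl _) ?_)⟩⟩
        · exact hcone f h₁ h₂
        · simp only [Iso.refl_hom]; exact (Category.comp_id _).trans (hf.symm.trans (Category.id_comp _).symm)⟩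
    exact { toIsTriangulatedClosed₂ := .of_isTriangulatedClosed₃ }
  have hLE : ∀ {K L : CochainComplex V ℤ} (f : K ⟶ L) (n₁ n₂ : ℤ) [K.IsStrictlyLE n₁]
      [L.IsStrictlyLE n₂], (CochainComplex.mappingCone f).IsStrictlyLE (max n₁ n₂) := by
    intro K L f n₁ n₂ _ _
    rw [CochainComplex.isStrictlyLE_iff]
    intro i hi
    simp only [CochainComplex.mappingCone.isZero_X_iff]
    exact ⟨K.isZero_of_isStrictlyLE n₁ _, L.isZero_of_isStrictlyLE n₂ _⟩
  refine ⟨key (fun K => ∃ n : ℤ, K.IsStrictlyLE n) ⟨0, inferInstance⟩ ?_ ?_,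
    key (fun K => ∃ a b : ℤ, K.IsStrictlyGE a ∧ K.IsStrictlyLE b)
      ⟨0, 0, inferInstance, inferInstance⟩ ?_ ?_⟩
  · rintro K k ⟨n, _⟩
    exact ⟨n - k, K.isStrictlyLE_shift n k (n - k) (by omega)⟩
  · rintro K L f ⟨n₁, _⟩ ⟨n₂, _⟩
    exact ⟨_, hLE f n₁ n₂⟩
  · rintro K k ⟨a, b, _, _⟩
    exact ⟨a - k, b - k, K.isStrictlyGE_shift a k (a - k) (by omega),
      K.isStrictlyLE_shift b k (b - k) (by omega)⟩
  · rintro K L f ⟨a₁, b₁, _, _⟩ ⟨a₂, b₂, _, _⟩
    exact ⟨min (a₁ - 1) a₂, _, CochainComplex.isStrictlyGE_mappingCone f a₁ a₂ _ (by simp) (by simp),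
      hLE f b₁ b₂⟩

end Groth.Agent.S6622
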