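import Groth.Prelude.Def_BigSite
import Groth.Prelude.Def_SGA4b
import Mathlib.CategoryTheory.Functor.EpiMono
import Groth.Agent.EtSite.PushEpi
-- import your own Groth.Agent.* helpers here

set_option autoImplicit false
open CategoryTheory CategoryTheory.Limits AlgebraicGeometry Opposite
universe u

namespace Groth.Agent.S6629

/-- Let f : X ⟶ Y be a morphism of schemes satisfying condition (B) (for every etale V ⟶ Y and every
etale covering of X ×_Y V there is an etale covering of V by schemes V_j such that each X ×_Y V_j is
a disjoint union of open subschemes each mapping into X ×_Y V through a member of the given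
covering). Then the direct image of sheaves of sets on the small etale sites along f sends
epimorphisms to epimorphisms. -/
theorem result {X Y : Scheme.{u}} (f : X ⟶ Y) (hB : BigSite.PropB f) :
    (EtDesc.pushSh f).PreservesEpimorphisms := by
  refine ⟨fun {A B} a _ => ?_⟩
  have := (Sheaf.isLocallySurjective_iff_epi a).2 inferInstance
  have : Presheaf.IsLocallySurjective X.smallEtaleTopology a.hom := this
  have h := EtSite.isLocallySurjective_push_of_propB f hB
    ((isSheaf_iff_isSheaf_of_type _ _).1 A.property) ((isSheaf_iff_isSheaf_of_type _ _).1 B.property) a.hom
  have : Sheaf.IsLocallySurjective ((EtDesc.pushSh f).map a) := h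
  infer_instance

end Groth.Agent.S6629
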