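import Groth.Prelude.Def_SGA4b
import Mathlib.CategoryTheory.Functor.EpiMono
import Groth.Prelude.Def_BigSite
import Groth.Agent.EtSite.Points
import Groth.Agent.EtSite.PushEpi
import Mathlib.CategoryTheory.Sites.EpiMono
-- import your own Groth.Agent.* helpers here

set_option autoImplicit false
open CategoryTheory CategoryTheory.Limits AlgebraicGeometry Opposite
universe u

namespace Groth.Agent.S6631

open Groth.Agent.EtSite

variable {X Y : Scheme.{u}} (f : X ⟶ Y)

theorem exists_cover (hC : BigSite.PropC f) (U : X.Etale) :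
    ∃ (V : Y.Etale) (m : (EtCoh.bc f).obj V ⟶ U), Function.Surjective m.left.base := by
  have : Etale U.hom := U.prop
  obtain ⟨V, v, hv, h, hh, hs⟩ := hC U.left U.hom
  have : Surjective h := hs
  refine ⟨Scheme.Etale.mk v, MorphismProperty.Over.homMk ((pullbackSymmetry v f).hom ≫ h)
    ((Category.assoc _ _ _).trans ((congrArg (_ ≫ ·) hh).trans
      (pullbackSymmetry_hom_comp_fst v f))) trivial, ?_⟩
  exact Scheme.Hom.surjective ((pullbackSymmetry v f).hom ≫ h)

theorem mono_of_mono_push (hC : BigSite.PropC f) {F G : EtDesc.Sh X} (a : F ⟶ G)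
    [Mono ((EtDesc.pushSh f).map a)] : Mono a := by
  refine CategoryTheory.Sheaf.mono_of_injective a fun W => ?_
  obtain ⟨U⟩ := W
  intro s t hst
  obtain ⟨V, m, hm⟩ := exists_cover f hC U
  have hpush : Function.Injective (a.hom.app (op ((EtCoh.bc f).obj V))) := by
    have : Mono ((sheafToPresheaf _ _).map ((EtDesc.pushSh f).map a)) := inferInstance
    exact (mono_iff_injective _).1 ((NatTrans.mono_iff_mono_app _).1 this (op V))
  have hS : Sieve.generate (Presieve.singleton m) ∈ X.smallEtaleTopology U :=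
    mem_smallEtaleTopology_of_points U _ fun x => by
      obtain ⟨z, hz⟩ := hm x
      exact ⟨_, m, z, Sieve.le_generate _ _ _ ⟨⟩, hz⟩
  refine (((isSheaf_iff_isSheaf_of_type _ _).1 F.property).isSeparated _ hS).ext ?_
  rintro Z g ⟨T, k, m', ⟨⟩, rfl⟩
  rw [op_comp, Functor.map_comp_apply, Functor.map_comp_apply]
  refine congrArg _ (hpush ?_)
  rw [NatTrans.naturality_apply, NatTrans.naturality_apply, hst]

theorem epi_of_epi_push (hC : BigSite.PropC f) {F G : EtDesc.Sh X} (a : F ⟶ G)
    [Epi ((EtDesc.pushSh f).map a)] : Epi a := by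
  have hl : Presheaf.IsLocallySurjective Y.smallEtaleTopology ((EtDesc.pushSh f).map a).hom :=
    (CategoryTheory.Sheaf.isLocallySurjective_iff_epi' (A := Type (u + 1)) _).2 inferInstance
  refine (CategoryTheory.Sheaf.isLocallySurjective_iff_epi' (A := Type (u + 1)) a).1 ?_
  constructor
  intro U s
  obtain ⟨V, m, hm⟩ := exists_cover f hC U
  let t : G.obj.obj (op ((EtCoh.bc f).obj V)) := G.obj.map m.op s
  have hR := Presheaf.imageSieve_mem Y.smallEtaleTopology ((EtDesc.pushSh f).map a).hom
    (U := op V) t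
  have hR' : Sieve.functorPushforward (EtCoh.bc f)
      (Presheaf.imageSieve ((EtDesc.pushSh f).map a).hom (U := V) t) ∈
        X.smallEtaleTopology ((EtCoh.bc f).obj V) := (EtCoh.coverPreserving_bc f).cover_preserve hR
  refine mem_smallEtaleTopology_of_points U _ fun x => ?_
  obtain ⟨z, hz⟩ := hm x
  obtain ⟨W, g, w, ⟨V₁, g₁, k, ⟨r, hr⟩, hg⟩, -, hw⟩ := exists_mem_of_mem_smallEtaleTopology hR' z
  refine ⟨W, g ≫ m, w, ⟨F.obj.map k.op r, ?_⟩, ?_⟩
  · rw [NatTrans.naturality_apply, hg, op_comp, op_comp, Functor.map_comp_apply,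
      Functor.map_comp_apply]
    exact congrArg _ hr
  · exact (Scheme.Hom.comp_apply g.left m.left w).trans ((congrArg m.left.base hw).trans hz)

/-- Let f : X ⟶ Y be a morphism of schemes satisfying condition (C) (for every etale U ⟶ X there are an
etale V ⟶ Y and a surjective X-morphism X ×_Y V ⟶ U). Then the direct image of sheaves of sets on
the small etale sites along f reflects monomorphisms and epimorphisms. -/
theorem result {X Y : Scheme.{u}} (f : X ⟶ Y) (hC : BigSite.PropC f) :
    (EtDesc.pushSh f).ReflectsMonomorphisms ∧ (EtDesc.pushSh f).ReflectsEpimorphisms := by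
  exact ⟨⟨fun a _ => mono_of_mono_push f hC a⟩, ⟨fun a _ => epi_of_epi_push f hC a⟩⟩

end Groth.Agent.S6631
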