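import Groth.Statements.S6632
import Groth.Agent.EtSite.PushEpi
import Groth.Agent.EtSite.Points
import Mathlib.AlgebraicGeometry.Morphisms.UniversallyOpen
import Mathlib.AlgebraicGeometry.Morphisms.Etale
import Mathlib.AlgebraicGeometry.Limits

set_option autoImplicit false
open CategoryTheory CategoryTheory.Limits AlgebraicGeometry Opposite
universe u
open EtCore

namespace Groth.Agent.S6632

/-- Let f : X ⟶ Y be a morphism of schemes such that, for every etale V ⟶ Y, the base change X ×_Y V ⟶ V
satisfies condition (C) (for every etale U ⟶ X ×_Y V there are an etale V' ⟶ V and a surjective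
morphism from the base change of V' to U over X ×_Y V) and is closed as a map of topological spaces.
Then the base change functor V ↦ X ×_Y V from the small etale site of Y to that of X is almost
cocontinuous: every covering sieve of X ×_Y V contains the images of the members of some covering
sieve of V, except for members V' for which X ×_Y V' is covered by the empty sieve. -/
theorem result {X Y : Scheme.{u}} (f : X ⟶ Y)
    (hC : ∀ (V : Scheme.{u}) (v : V ⟶ Y) [Etale v], BigSite.PropC (pullback.snd f v))
    (hcl : ∀ (V : Scheme.{u}) (v : V ⟶ Y) [Etale v], IsClosedMap (pullback.snd f v).base) :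
    BigSite.IsAlmostCocontinuous (EtCoh.bc f) Y.smallEtaleTopology X.smallEtaleTopology := by
  intro U R hR
  let L := X.smallEtaleTopology
  let R' : Sieve U :=
    { arrows := fun B a => (⊥ : Sieve ((EtCoh.bc f).obj B)) ∈ L _ ∨ R ((EtCoh.bc f).map a)
      downward_closed := fun {B B'} a ha k => ha.elim
        (fun h => Or.inl (by
          have := L.pullback_stable ((EtCoh.bc f).map k) h
          rwa [show Sieve.pullback ((EtCoh.bc f).map k) (⊥ : Sieve ((EtCoh.bc f).obj B)) = ⊥ from
            Sieve.ext fun _ _ => Iff.rfl] at this))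
        (fun h => Or.inr (by rw [Functor.map_comp]; exact R.downward_closed h _)) }
  refine ⟨R', EtSite.mem_smallEtaleTopology_of_points U R' fun y => ?_, fun B a ha => ha⟩
  have hUe : Etale U.hom := U.prop
  let q := pullback.snd f U.hom
  by_cases hy : y ∈ Set.range q.base
  · obtain ⟨x₀, rfl⟩ := hy
    choose W g w hg hge hw using fun x => EtSite.exists_mem_of_mem_smallEtaleTopology hR x
    let σ : (∐ fun x => (W x).left) ⟶ pullback f U.hom :=
      Sigma.desc fun x => (g x).left ≫ (pullbackSymmetry U.hom f).hom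
    have hσ : Etale σ := IsZariskiLocalAtSource.sigmaDesc (P := @Etale) fun x =>
      MorphismProperty.comp_mem (W := @Etale) _ _ (hge x) inferInstance
    obtain ⟨V', v', hv', h, hh, hs⟩ := hC U.left U.hom (∐ fun x => (W x).left) σ
    have sq : IsPullback (pullback.fst q v' ≫ pullback.fst f U.hom) (pullback.snd q v') f (v' ≫ U.hom) :=
      ((IsPullback.of_hasPullback q v').flip.paste_vert (IsPullback.of_hasPullback f U.hom).flip).flip
    obtain ⟨p₀, hp₀⟩ : ∃ p, (pullback.fst q v').base p = x₀ := by
      let x := (pullbackSymmetry U.hom f).inv.base x₀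
      obtain ⟨p, hp⟩ := hs.surj ((Sigma.ι (fun x => (W x).left) x).base (w x))
      refine ⟨p, ?_⟩
      rw [← hh, Scheme.Hom.comp_apply, hp, ← Scheme.Hom.comp_apply]
      refine (congrArg (fun m : _ ⟶ pullback f U.hom => m.base (w x)) (Sigma.ι_desc _ x)).trans ?_
      rw [Scheme.Hom.comp_apply]
      refine (congrArg _ (hw x)).trans ?_
      exact (Scheme.Hom.comp_apply _ _ x₀).symm.trans
        (congrArg (fun m : pullback f U.hom ⟶ _ => m.base x₀) (pullbackSymmetry U.hom f).inv_hom_id)
    obtain ⟨i, z, hz⟩ := (sigmaOpenCover (fun x => (W x).left)).exists_eq (h.base p₀)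
    have : IsOpenImmersion (Sigma.ι (fun x => (W x).left) i) := inferInstance
    let A : (pullback q v').Opens := h ⁻¹ᵁ (Sigma.ι (fun x => (W x).left) i).opensRange
    have hA : p₀ ∈ A := ⟨z, hz⟩
    have : Etale (v' ≫ U.hom) := MorphismProperty.comp_mem (W := @Etale) _ _ hv' hUe
    have : Etale (A.ι ≫ sq.isoPullback.hom) :=
      MorphismProperty.comp_mem (W := @Etale) _ _ (inferInstance : Etale A.ι) inferInstance
    obtain ⟨V'', v'', hv'', h'', hh'', hs''⟩ := hC V' (v' ≫ U.hom) A.toScheme (A.ι ≫ sq.isoPullback.hom)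
    have : Etale v'' := hv''
    have hsnd : ∀ p, (pullback.snd f (v' ≫ U.hom)).base (sq.isoPullback.hom.base p) =
        (pullback.snd q v').base p := fun p =>
      (Scheme.Hom.comp_apply _ _ p).symm.trans
        (congrArg (fun m : pullback q v' ⟶ V' => m.base p) sq.isoPullback_hom_snd)
    have hinj : Function.Injective sq.isoPullback.hom.base := sq.isoPullback.hom.homeomorph.injective
    have : UniversallyOpen v'' := inferInstance
    let O : V'.Opens := ⟨Set.range v''.base, v''.isOpenMap.isOpen_range⟩
    have hO : ∀ p, (pullback.snd q v').base p ∈ O → p ∈ A := fun p ⟨r, hr⟩ => by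
      obtain ⟨p'', hp1, -⟩ := Scheme.Pullback.exists_preimage_pullback
        (f := pullback.snd f (v' ≫ U.hom)) (g := v'') (sq.isoPullback.hom.base p) r
        ((hsnd p).trans hr.symm)
      have : A.ι.base (h''.base p'') = p := hinj (by
        rw [← hp1, ← hh'', Scheme.Hom.comp_apply, Scheme.Hom.comp_apply])
      exact this ▸ (h''.base p'').2
    have hv₀ : (pullback.snd q v').base p₀ ∈ O := by
      obtain ⟨p'', hp''⟩ := hs''.surj ⟨p₀, hA⟩
      refine ⟨(pullback.snd (pullback.snd f (v' ≫ U.hom)) v'').base p'', ?_⟩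
      refine (Scheme.Hom.comp_apply _ _ p'').symm.trans
        ((congrArg (fun m : _ ⟶ V' => m.base p'') pullback.condition.symm).trans ?_)
      refine (Scheme.Hom.comp_apply _ _ p'').trans ?_
      rw [← hh'', Scheme.Hom.comp_apply, hp'', Scheme.Hom.comp_apply]
      exact hsnd p₀
    let B : Y.Etale := @Scheme.Etale.mk Y O.toScheme (O.ι ≫ v' ≫ U.hom)
      (MorphismProperty.comp_mem (W := @Etale) _ _ (inferInstance : Etale O.ι) inferInstance)
    let a : B ⟶ U := MorphismProperty.Over.homMk (O.ι ≫ v') (Category.assoc _ _ _)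
    refine ⟨B, a, ⟨_, hv₀⟩, Or.inr ?_, ?_⟩
    · let m : ((EtCoh.bc f).obj B).left ⟶ pullback q v' :=
        sq.lift (pullback.snd B.hom f) (pullback.fst B.hom f ≫ O.ι)
          (pullback.condition.symm.trans (Category.assoc _ _ _).symm)
      have hm : Set.range (m ≫ h).base ⊆ Set.range (Sigma.ι (fun x => (W x).left) i).base := by
        rintro _ ⟨p, rfl⟩
        rw [Scheme.Hom.comp_apply]
        refine hO (m.base p) ?_
        rw [← Scheme.Hom.comp_apply, sq.lift_snd, Scheme.Hom.comp_apply]
        exact ((pullback.fst B.hom f).base p).2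
      let k₀ : ((EtCoh.bc f).obj B).left ⟶ (W i).left :=
        IsOpenImmersion.lift (Sigma.ι (fun x => (W x).left) i) (m ≫ h) hm
      have hk : k₀ ≫ (g i).left = ((EtCoh.bc f).map a).left := by
        refine (cancel_mono (pullbackSymmetry U.hom f).hom).1 ((Category.assoc _ _ _).trans ?_)
        have e : (g i).left ≫ (pullbackSymmetry U.hom f).hom = Sigma.ι (fun x => (W x).left) i ≫ σ :=
          (Sigma.ι_desc (fun x => (g x).left ≫ (pullbackSymmetry U.hom f).hom) i).symm
        refine ((congrArg (k₀ ≫ ·) e).trans ((Category.assoc _ _ _).symm.trans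
          (congrArg (· ≫ σ) (IsOpenImmersion.lift_fac _ _ _)))).trans ?_
        refine ((Category.assoc _ _ _).trans (congrArg (m ≫ ·) hh)).trans (pullback.hom_ext ?_ ?_)
        · refine (Category.assoc _ _ _).trans ((sq.lift_fst _ _ _).trans ?_)
          refine Eq.trans ?_ (Category.assoc _ _ _).symm
          refine Eq.trans ?_ (congrArg (_ ≫ ·) (pullbackSymmetry_hom_comp_fst U.hom f)).symm
          exact (Over.w ((EtCoh.bc f).map a).hom).symm
        · refine (Category.assoc _ _ _).trans ((congrArg (m ≫ ·) pullback.condition).trans ?_)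
          refine (Category.assoc _ _ _).symm.trans ((congrArg (· ≫ v') (sq.lift_snd _ _ _)).trans ?_)
          refine Eq.trans ?_ (Category.assoc _ _ _).symm
          refine Eq.trans ?_ (congrArg (_ ≫ ·) (pullbackSymmetry_hom_comp_snd U.hom f)).symm
          exact (Category.assoc _ _ _).trans (EtCoh.isPullback_bc_map f a).w.symm
      have hwk : k₀ ≫ (W i).hom = ((EtCoh.bc f).obj B).hom := by
        have h1 : (g i).left ≫ ((EtCoh.bc f).obj U).hom = (W i).hom := Over.w (g i).hom
        have h2 : ((EtCoh.bc f).map a).left ≫ ((EtCoh.bc f).obj U).hom = ((EtCoh.bc f).obj B).hom :=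
          Over.w ((EtCoh.bc f).map a).hom
        exact (congrArg (k₀ ≫ ·) h1).symm.trans
          ((Category.assoc _ _ _).symm.trans ((congrArg (· ≫ _) hk).trans h2))
      let k : (EtCoh.bc f).obj B ⟶ W i := MorphismProperty.Over.homMk k₀ hwk
      have : (EtCoh.bc f).map a = k ≫ g i := MorphismProperty.Over.Hom.ext hk.symm
      rw [this]
      exact R.downward_closed (hg i) k
    · show (O.ι ≫ v').base _ = q.base x₀
      rw [Scheme.Hom.comp_apply, ← hp₀]
      exact (Scheme.Hom.comp_apply _ _ p₀).symm.trans
        ((congrArg (fun m : _ ⟶ U.left => m.base p₀) pullback.condition.symm).trans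
          (Scheme.Hom.comp_apply _ _ p₀))
  · have hcl' : IsClosed (Set.range q.base) := (hcl U.left U.hom).isClosed_range
    let O : U.left.Opens := ⟨(Set.range q.base)ᶜ, hcl'.isOpen_compl⟩
    let B : Y.Etale := @Scheme.Etale.mk Y O.toScheme (O.ι ≫ U.hom)
      (MorphismProperty.comp_mem (W := @Etale) _ _ (inferInstance : Etale O.ι) hUe)
    let a : B ⟶ U := MorphismProperty.Over.homMk O.ι rfl
    refine ⟨B, a, ⟨y, hy⟩, Or.inl (EtSite.mem_smallEtaleTopology_of_points _ _ fun p => ?_), rfl⟩
    exfalso
    have h1 := ((pullback.fst B.hom f).base p).2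
    obtain ⟨r, hr, -⟩ := Scheme.Pullback.exists_preimage_pullback (f := U.hom) (g := f)
      (O.ι.base ((pullback.fst B.hom f).base p)) ((pullback.snd B.hom f).base p) (by
        rw [← Scheme.Hom.comp_apply]
        exact (Scheme.Hom.comp_apply _ _ p).symm.trans
          ((congrArg (fun m : _ ⟶ Y => m.base p) pullback.condition).trans (Scheme.Hom.comp_apply _ _ p)))
    refine h1 ⟨(pullbackSymmetry U.hom f).hom.base r, ?_⟩
    refine (Scheme.Hom.comp_apply _ _ r).symm.trans ?_
    exact (congrArg (fun m : _ ⟶ U.left => m.base r) (pullbackSymmetry_hom_comp_snd U.hom f)).trans hr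

end Groth.Agent.S6632
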