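import Groth.Prelude.Def_EtRestW
import Groth.Agent.EtSite.FLCOps
-- import your own Groth.Agent.* helpers here

set_option autoImplicit false
open CategoryTheory CategoryTheory.Limits AlgebraicGeometry Opposite
universe u

namespace Groth.Agent.S6647

/-- Let φ : F ⟶ G be a map of locally constant abelian sheaves on the small etale site of a scheme X,
with F finite locally constant. Then on the members of some etale covering of X the restriction of φ
is, up to isomorphisms with constant sheaves on both sides, the map of constant sheaves induced by a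
homomorphism of abelian groups. -/
theorem result {X : Scheme.{u}} (F G : EtCoh.Ab X) (φ : F ⟶ G)
    (hF : EtCoh.IsFiniteLocallyConstant F) (hG : EtRest.IsLocallyConstant G) :
    ∃ (ι : Type u) (U : ι → X.Etale), EtCoh.Covers U ∧ ∀ i, ∃ (M N : Type (u + 1)) (_ : AddCommGroup M) (_ : AddCommGroup N)
      (h : M →+ N)
      (α : EtCoh.restr F (U i) ≅ (constantSheaf (X.smallEtaleTopology.over (U i)) AddCommGrpCat.{u + 1}).obj (AddCommGrpCat.of M))
      (β : EtCoh.restr G (U i) ≅ (constantSheaf (X.smallEtaleTopology.over (U i)) AddCommGrpCat.{u + 1}).obj (AddCommGrpCat.of N)),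
      (X.smallEtaleTopology.overPullback AddCommGrpCat.{u + 1} (U i)).map φ ≫ β.hom = α.hom ≫ (constantSheaf (X.smallEtaleTopology.over (U i)) AddCommGrpCat.{u + 1}).map (AddCommGrpCat.ofHom h) := by
  classical
  open Groth.Agent.EtSite in
  have H : ∀ x : X, ∃ (U : X.Etale) (y : U.left) (M N : Type (u + 1)) (_ : AddCommGroup M)
      (_ : AddCommGroup N) (h : M →+ N) (φF : M →+ EtCoh.sect F U) (φG : N →+ EtCoh.sect G U),
      U.hom.base y = x ∧ LocConst.GermBij F U φF ∧ LocConst.GermBij G U φG ∧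
        ∀ m, φ.hom.app (op U) (φF m) = φG (h m) := fun x => by
    let ξ := gpt x
    obtain ⟨U₁, t₁, M, _, _, φ₁, hφ₁⟩ := FLCBasic.localData_of_isFLC hF _ ξ
    obtain ⟨ι, U, hU, hGU⟩ := hG
    obtain ⟨i, y, hy⟩ := hU (ξ.base default)
    obtain ⟨t₂⟩ := FLCBasic.nonempty_fiber (ξ := ξ) y hy
    obtain ⟨N, _, ⟨e⟩⟩ := hGU i
    obtain ⟨ψ₂, hψ₂⟩ := LocConst.exists_germBij_of_iso e
    obtain ⟨⟨W, w⟩, ⟨g₁, -⟩, ⟨g₂, -⟩, -⟩ := IsCofilteredOrEmpty.cone_objs
      (C := (Scheme.pointSmallEtale ξ).fiber.Elements) ⟨U₁, t₁⟩ ⟨U i, t₂⟩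
    obtain ⟨V, v, g, h, -, hc⟩ := FLCOps.exists_hom φ ((F.obj.map g₁.op).hom.comp φ₁)
      (hψ₂.map g₂) ξ w
    refine ⟨V, v.left (default : Spec (CommRingCat.of (SeparableClosure (X.residueField x)))),
      M, N, inferInstance, inferInstance, h, _, _, ?_, (hφ₁.map g₁).map g, (hψ₂.map g₂).map g, hc⟩
    exact (Scheme.Hom.comp_apply _ _ _).symm.trans
      ((congrArg (fun m : Spec (CommRingCat.of (SeparableClosure (X.residueField x))) ⟶ X => m.base _)
        (Over.w v)).trans (gpt_apply x _))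
  open Groth.Agent.EtSite in
  choose U y M N hM hN h φF φG hy hbF hbG hc using H
  open Groth.Agent.EtSite in
  exact ⟨X, U, fun x => ⟨x, y x, hy x⟩, fun x => ⟨M x, N x, hM x, hN x, h x,
    LocConst.constIso (hbF x), LocConst.constIso (hbG x),
    LocConst.constIso_comm φ (hbF x) (hbG x) (h x) (hc x)⟩⟩

end Groth.Agent.S6647
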