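import Groth.Statements.S6648
import Groth.Agent.EtSite.AllPoints

set_option autoImplicit false
open CategoryTheory CategoryTheory.Limits AlgebraicGeometry Opposite
universe u
open EtCore

namespace Groth.Agent.S6648

/-- For a sheaf of (commutative) rings O on the small etale site of a scheme S, the set of points s of S
over which some geometric stalk of O is a nonzero ring is closed in S. (Rings are taken in the
universe of the schemes, as for the structure presheaf of the prelude.) -/
theorem result {S : Scheme.{u}} (O : Sheaf S.smallEtaleTopology CommRingCat.{u}) :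
    IsClosed {s : ↥S | ∃ (Ω : Type u) (_ : Field Ω) (_ : IsSepClosed Ω) (ξ : Spec (CommRingCat.of Ω) ⟶ S),
      ξ.base default = s ∧ Nontrivial ↑((Scheme.pointSmallEtale ξ).presheafFiber.obj O.obj)} := by
  rw [← isOpen_compl_iff, isOpen_iff_forall_mem_open]
  intro s hs
  let Φ := Scheme.pointSmallEtale (Groth.Agent.EtSite.gpt s)
  let T : CommRingCat.{u} := Φ.presheafFiber.obj O.obj
  have htriv : (1 : T) = 0 := by
    by_contra h10
    exact hs ⟨_, inferInstance, inferInstance, Groth.Agent.EtSite.gpt s,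
      Groth.Agent.EtSite.gpt_apply s _, ⟨⟨1, 0, h10⟩⟩⟩
  obtain ⟨U, x, -, -⟩ := Φ.toPresheafFiber_jointly_surjective (1 : T)
  have heq : Φ.toPresheafFiber U x O.obj 1 = Φ.toPresheafFiber U x O.obj 0 := by
    rw [map_one, map_zero]
    exact htriv
  obtain ⟨V, g, v, hv, hg⟩ := (Φ.toPresheafFiber_eq_iff' _ _ _ _).1 heq
  rw [map_one, map_zero] at hg
  refine ⟨Set.range V.hom.base, ?_, V.hom.isOpenMap.isOpen_range, ?_⟩
  · rintro t ⟨w, rfl⟩ ⟨Ω, _, _, ξ, hξ, hnt⟩
    obtain ⟨l, hl, -⟩ := Scheme.exists_fac_of_etale_of_isSepClosed V.hom ξ w hξ.symm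
    let Ψ := Scheme.pointSmallEtale ξ
    let τ : Ψ.fiber.obj V := Over.homMk l hl
    have h := congrArg (fun z => Ψ.toPresheafFiber V τ O.obj z) hg
    simp only [map_one, map_zero] at h
    exact hnt.exists_pair_ne.elim fun a ⟨b, hab⟩ =>
      hab ((subsingleton_of_zero_eq_one h.symm).elim a b)
  · refine ⟨v.left (default : Spec (CommRingCat.of (SeparableClosure (S.residueField s)))), ?_⟩
    have hw : v.left ≫ V.hom = Groth.Agent.EtSite.gpt s := Over.w v
    exact (Scheme.Hom.comp_apply _ _ _).symm.trans ((congrArg (fun m : _ ⟶ S => m.base _) hw).trans (Groth.Agent.EtSite.gpt_apply s _))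

end Groth.Agent.S6648
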