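import Groth.Statements.S6649
import Groth.Agent.CiForms.Brauer
import Groth.Agent.S0209
import Mathlib.RingTheory.NoetherNormalization
import Mathlib.RingTheory.KrullDimension.Polynomial
import Mathlib.RingTheory.KrullDimension.Field
import Mathlib.RingTheory.Ideal.HasGoingUp
import Mathlib.RingTheory.Ideal.GoingUp
import Mathlib.RingTheory.Localization.Integral
import Mathlib.AlgebraicGeometry.AffineScheme
-- import your own Groth.Agent.* helpers here

set_option autoImplicit false
open CategoryTheory CategoryTheory.Limits AlgebraicGeometry Opposite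
universe u
open Curves

namespace Groth.Agent.S6649

/-- For a curve C over an algebraically closed field k (C integral of dimension one, separated and of
finite type over k) the Brauer group of the function field of C is zero: every finite-dimensional
central division algebra over the function field has dimension one. -/
theorem result (k : Type u) [Field k] [IsAlgClosed k] (C : Scheme.{u})
    (f : C ⟶ Spec (CommRingCat.of k)) [IsSeparated f] [LocallyOfFiniteType f] [QuasiCompact f] [IsIntegral C]
    (hdim : topologicalKrullDim ↥C = 1)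
    (D : Type u) [DivisionRing D] [Algebra ↑C.functionField D] [Algebra.IsCentral ↑C.functionField D]
    [FiniteDimensional ↑C.functionField D] : Module.finrank ↑C.functionField D = 1 := by
  refine Groth.Agent.CiForms.finrank_eq_one_of_isCr_one _ ?_ D
  obtain ⟨_, ⟨U, hU, rfl⟩, hxU, -⟩ :=
    C.isBasis_affineOpens.exists_subset_of_mem_open (Set.mem_univ (genericPoint C)) isOpen_univ
  haveI : Nonempty U := ⟨⟨genericPoint C, hxU⟩⟩
  haveI := functionField_isFractionRing_of_isAffineOpen C U hU
  let ρ : k →+* Γ(C, U) :=
    ((f.appLE ⊤ U (le_top)).hom).comp (Scheme.ΓSpecIso (CommRingCat.of k)).inv.hom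
  have hρ : ρ.FiniteType := (f.finiteType_appLE (isAffineOpen_top _) hU _).comp
    (RingHom.FiniteType.of_surjective _
      ((Scheme.ΓSpecIso (CommRingCat.of k)).commRingCatIsoToRingEquiv.symm.surjective))
  letI : Algebra k Γ(C, U) := ρ.toAlgebra
  haveI : Algebra.FiniteType k Γ(C, U) := hρ
  have hdimA : ringKrullDim Γ(C, U) ≤ 1 := by
    rw [← PrimeSpectrum.topologicalKrullDim_eq_ringKrullDim Γ(C, U), ← hdim]
    haveI := hU.isOpenImmersion_fromSpec
    exact Topology.IsInducing.topologicalKrullDim_le hU.fromSpec.isOpenEmbedding.isInducing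
  obtain ⟨s, g, hg, hfin⟩ := exists_finite_inj_algHom_of_fg k Γ(C, U)
  letI : Algebra (MvPolynomial (Fin s) k) Γ(C, U) := g.toRingHom.toAlgebra
  haveI : Module.Finite (MvPolynomial (Fin s) k) Γ(C, U) := hfin
  haveI : Algebra.IsIntegral (MvPolynomial (Fin s) k) Γ(C, U) := Algebra.IsIntegral.of_finite _ _
  have hdimR : ringKrullDim (MvPolynomial (Fin s) k) ≤ ringKrullDim Γ(C, U) := by
    refine iSup_le fun l => ?_
    obtain ⟨P, -, hP, hPl⟩ := Ideal.exists_ideal_over_prime_of_isIntegral (RelSeries.head l).asIdeal
      (⊥ : Ideal Γ(C, U)) (by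
        rw [← RingHom.ker_eq_comap_bot, (RingHom.injective_iff_ker_eq_bot _).1
          (show Function.Injective (algebraMap (MvPolynomial (Fin s) k) Γ(C, U)) from hg)]
        exact bot_le)
    haveI := hP
    haveI : P.LiesOver (RelSeries.head l).asIdeal := ⟨hPl.symm⟩
    obtain ⟨L, hL, -, -⟩ := Ideal.exists_ltSeries_of_hasGoingUp l P
    rw [← hL]
    exact Order.LTSeries.length_le_krullDim L
  have hs : s ≤ 1 := by
    have h := hdimR.trans hdimA
    rw [MvPolynomial.ringKrullDim_of_isNoetherianRing, ringKrullDim_eq_zero_of_field, Nat.card_eq_fintype_card,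
      Fintype.card_fin, zero_add] at h
    exact_mod_cast h
  let F := FractionRing (MvPolynomial (Fin s) k)
  letI : Algebra (MvPolynomial (Fin s) k) C.functionField :=
    ((algebraMap Γ(C, U) C.functionField).comp g.toRingHom).toAlgebra
  haveI : IsScalarTower (MvPolynomial (Fin s) k) Γ(C, U) C.functionField :=
    IsScalarTower.of_algebraMap_eq fun _ => rfl
  haveI : FaithfulSMul (MvPolynomial (Fin s) k) C.functionField :=
    (faithfulSMul_iff_algebraMap_injective _ _).2
      ((IsFractionRing.injective Γ(C, U) C.functionField).comp hg)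
  letI : Algebra F C.functionField := FractionRing.liftAlgebra _ _
  haveI : FaithfulSMul (MvPolynomial (Fin s) k) Γ(C, U) :=
    (faithfulSMul_iff_algebraMap_injective _ _).2 hg
  haveI : Algebra.IsAlgebraic Γ(C, U) C.functionField :=
    IsLocalization.isAlgebraic C.functionField (nonZeroDivisors Γ(C, U))
  haveI : Algebra.IsAlgebraic F C.functionField :=
    (IsFractionRing.comap_isAlgebraic_iff (A := MvPolynomial (Fin s) k)).1
      (Algebra.IsAlgebraic.trans (MvPolynomial (Fin s) k) Γ(C, U) C.functionField)
  have h0 : Curves.IsCi k 0 := Groth.Agent.S0209.result k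
  have hC := Groth.Agent.CiForms.isCi_of_algebraic (K := F) (L := C.functionField)
    (Groth.Agent.CiForms.isCi_fractionRing_mvPolynomial h0 s)
  intro n d p hp hd hlt
  obtain ⟨a, ha, ha0⟩ := hC 1 n (fun _ => p) (fun _ => d) (fun _ => hp) (fun _ => hd) (by
    simp only [Fintype.sum_unique, zero_add]
    exact lt_of_le_of_lt (Nat.pow_le_pow_right hd hs) hlt)
  exact ⟨a, ha, ha0 0⟩

end Groth.Agent.S6649
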