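import Groth.Statements.S6658
import Groth.Agent.EtSite.SuppPull
import Groth.Agent.EtMV.EtaleRestr
import Groth.Agent.EtMV.Flasque
import Groth.Prelude.Def_RDer
import Mathlib.Algebra.Homology.HomologySequence
import Mathlib.Algebra.Homology.HomologicalComplexAbelian

set_option autoImplicit false
universe u
open CategoryTheory CategoryTheory.Limits AlgebraicGeometry Opposite
open EtDual

namespace Groth.Agent.S6658

open Groth.Agent.EtMV in
/-- The unit is an epimorphism on injective sheaves. -/
theorem epi_unit {X U : Scheme.{u}} (j : U ⟶ X) [IsOpenImmersion j] (I : EtCoh.Ab X) [Injective I] :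
    Epi (EtDual.unitApp j I) := by
  have := jCont j
  let a₂ := (restrPushAdjEt j).unit.app I
  have : Epi a₂ := by
    refine (sheafToPresheaf X.smallEtaleTopology AddCommGrpCat.{u + 1}).epi_of_epi_map ?_
    have hW : ∀ W, Epi (a₂.hom.app W) := fun W => by
      refine (AddCommGrpCat.epi_iff_surjective _).2 ?_
      let t : (EtShriek.compEtale j).obj ((EtCoh.bc j).obj W.unop) ⟶ W.unop :=
        MorphismProperty.Over.homMk (pullback.fst W.unop.hom j) pullback.condition trivial
      have : Mono t := ⟨fun a b h => MorphismProperty.Over.Hom.ext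
        ((cancel_mono (pullback.fst W.unop.hom j)).1 (congrArg (fun m => m.left) h))⟩
      exact injective_restrict_surjective I t
    exact NatTrans.epi_of_epi_app a₂.hom
  have e := Adjunction.unit_leftAdjointUniq_hom_app (EtCoh.pullPushAdj j) (restrPushAdjEt j) I
  have h2 : Epi (EtDual.unitApp j I ≫
      (EtCoh.push j).map (((EtCoh.pullPushAdj j).leftAdjointUniq (restrPushAdjEt j)).hom.app I)) := by
    rw [e]; exact this
  have := epi_comp (EtDual.unitApp j I ≫
      (EtCoh.push j).map (((EtCoh.pullPushAdj j).leftAdjointUniq (restrPushAdjEt j)).hom.app I))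
    (inv ((EtCoh.push j).map (((EtCoh.pullPushAdj j).leftAdjointUniq (restrPushAdjEt j)).hom.app I)))
  rwa [Category.assoc, IsIso.hom_inv_id, Category.comp_id] at this

/-- Degree zero cycles of a left exact functor applied to a resolution. -/
theorem exists_iso_cycles {C D : Type*} [Category C] [Abelian C] [Category D] [Abelian D] (Φ : C ⥤ D)
    [Φ.Additive] [PreservesFiniteLimits Φ] {F : C} (R : InjectiveResolution F) :
    ∃ e : Φ.obj F ≅ ((Φ.mapHomologicalComplex (ComplexShape.up ℕ)).obj R.cocomplex).cycles 0,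
      e.hom ≫ ((Φ.mapHomologicalComplex (ComplexShape.up ℕ)).obj R.cocomplex).iCycles 0 =
        Φ.map (R.ι.f 0) :=
  let h₁ := KernelFork.mapIsLimit _ (RDer.resIsLimitKernelFork R.cocomplex R.ι) Φ
  let h₂ := ((Φ.mapHomologicalComplex (ComplexShape.up ℕ)).obj R.cocomplex).cyclesIsKernel 0 1 (by simp)
  ⟨IsLimit.conePointUniqueUpToIso h₁ h₂,
    IsLimit.conePointUniqueUpToIso_hom_comp h₁ h₂ WalkingParallelPair.zero⟩

/-- The exact sequence and the isomorphisms: let j : U → X be an open immersion of schemes with closed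
complement Z and F an abelian sheaf on the small etale site of X. Write H^q_Z(F) for the q-th local
cohomology sheaf of F with support in Z, kept as a sheaf on X (the q-th right derived functor of G ↦
ker(G → j_* j⁻¹ G)). Then the cokernel of the unit F → j_* j⁻¹ F is isomorphic to H^1_Z(F), and for
every p ≥ 1 the higher direct image R^p j_* (j⁻¹ F) is isomorphic to H^{p+1}_Z(F). (The published
statement also gives the distinguished triangle behind these isomorphisms and identifies them with
its connecting maps; this row asserts only that isomorphisms exist.) -/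
theorem result {X U : Scheme.{u}} (j : U ⟶ X) [IsOpenImmersion j]
    (F : EtCoh.Ab X) :
    Nonempty (cokernel (EtDual.unitApp j F) ≅ (EtDual.locCoh j 1).obj F) ∧
      ∀ p : ℕ, 1 ≤ p →
        Nonempty ((EtCoh.Rpush j p).obj ((EtCoh.pull j).obj F) ≅ (EtDual.locCoh j (p + 1)).obj F) := by
  have := Groth.Agent.EtMV.pull_preservesInjectiveObjects j
  have := (EtCoh.pullPushAdj j).right_adjoint_additive
  have : PreservesLimitsOfSize.{0, 0} (EtCoh.push j) := (EtCoh.pullPushAdj j).rightAdjoint_preservesLimits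
  have : PreservesFiniteLimits (EtCoh.push j) := PreservesLimitsOfSize.preservesFiniteLimits _
  let P := EtCoh.pull j ⋙ EtCoh.push j
  have : PreservesFiniteLimits P := comp_preservesFiniteLimits _ _
  let R := injectiveResolution F
  let c := ComplexShape.up ℕ
  let A : EtDual.secSupp j ⟶ 𝟭 (EtCoh.Ab X) :=
    { app := fun G => kernel.ι (EtDual.unitApp j G)
      naturality := fun G H f => kernel.lift_ι _ _ _ }
  let B : 𝟭 (EtCoh.Ab X) ⟶ P := (EtCoh.pullPushAdj j).unit
  let S : ShortComplex (CochainComplex (EtCoh.Ab X) ℕ) :=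
    ShortComplex.mk ((NatTrans.mapHomologicalComplex A c).app R.cocomplex)
      ((NatTrans.mapHomologicalComplex B c).app R.cocomplex) (by
        ext i : 1
        exact kernel.condition (EtDual.unitApp j (R.cocomplex.X i)))
  have hS : S.ShortExact := HomologicalComplex.shortExact_of_degreewise_shortExact S fun i =>
    have : Injective (R.cocomplex.X i) := R.injective i
    { exact := ShortComplex.exact_of_f_is_kernel _ (kernelIsKernel (EtDual.unitApp j (R.cocomplex.X i)))
      mono_f := (inferInstance : Mono (kernel.ι (EtDual.unitApp j (R.cocomplex.X i))))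
      epi_g := epi_unit j (R.cocomplex.X i) }
  have hz : ∀ p, IsZero (S.X₂.homology (p + 1)) := fun p =>
    (((𝟭 (EtCoh.Ab X)).mapHomologicalComplex c).obj R.cocomplex).exactAt_iff_isZero_homology (p + 1) |>.1
      (R.cocomplex_exactAt_succ p)
  refine ⟨?_, fun p hp => ?_⟩
  · obtain ⟨e₂, he₂⟩ := exists_iso_cycles (𝟭 (EtCoh.Ab X)) R
    obtain ⟨e₃, he₃⟩ := exists_iso_cycles P R
    have : IsIso (S.X₂.homologyπ 0) := inferInstanceAs (IsIso (CochainComplex.isoHomologyπ₀ S.X₂).hom)
    have : IsIso (S.X₃.homologyπ 0) := inferInstanceAs (IsIso (CochainComplex.isoHomologyπ₀ S.X₃).hom)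
    have hepi : Epi (hS.δ 0 1 rfl) := (hS.homology_exact₁ 0 1 rfl).epi_f ((hz 0).eq_of_tgt _ _)
    have hex := hS.homology_exact₃ 0 1 rfl
    have : Epi (ShortComplex.mk (HomologicalComplex.homologyMap S.g 0) (hS.δ 0 1 rfl)
      (hS.comp_δ 0 1 rfl)).g := hepi
    have hc : EtDual.unitApp j F ≫ e₃.hom = e₂.hom ≫ HomologicalComplex.cyclesMap S.g 0 := by
      refine (cancel_mono (S.X₃.iCycles 0)).1 ?_
      refine ((Category.assoc _ _ _).trans (congrArg (EtDual.unitApp j F ≫ ·) he₃)).trans ?_
      refine ((B.naturality (R.ι.f 0)).symm.trans ?_)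
      refine Eq.trans ?_ (Category.assoc _ _ _).symm
      refine Eq.trans ?_ (congrArg (e₂.hom ≫ ·) (HomologicalComplex.cyclesMap_i S.g 0)).symm
      exact (congrArg (· ≫ B.app (R.cocomplex.X 0)) he₂.symm).trans (Category.assoc _ _ _)
    let ec : cokernel (EtDual.unitApp j F) ≅ cokernel (HomologicalComplex.homologyMap S.g 0) :=
      cokernel.mapIso _ _ (e₂ ≪≫ asIso (S.X₂.homologyπ 0)) (e₃ ≪≫ asIso (S.X₃.homologyπ 0)) (by
        simp only [Iso.trans_hom, asIso_hom]
        erw [reassoc_of% hc, Category.assoc, HomologicalComplex.homologyπ_naturality])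
    exact ⟨ec ≪≫ IsColimit.coconePointUniqueUpToIso (colimit.isColimit _) hex.gIsCokernel ≪≫
      (R.isoRightDerivedObj (EtDual.secSupp j) 1).symm⟩
  · obtain ⟨q, rfl⟩ := Nat.exists_eq_add_of_le' hp
    have hm : Mono (hS.δ (q + 1) (q + 2) rfl) :=
      (hS.homology_exact₃ (q + 1) (q + 2) rfl).mono_g ((hz q).eq_of_src _ _)
    have he : Epi (hS.δ (q + 1) (q + 2) rfl) :=
      (hS.homology_exact₁ (q + 1) (q + 2) rfl).epi_f ((hz (q + 1)).eq_of_tgt _ _)
    have hiso : IsIso (hS.δ (q + 1) (q + 2) rfl) := isIso_of_mono_of_epi _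
    exact ⟨(Groth.Agent.EtSite.SuppPull.mapResolution (EtCoh.pull j) R).isoRightDerivedObj (EtCoh.push j) (q + 1) ≪≫
      (@asIso _ _ _ _ _ hiso) ≪≫ (R.isoRightDerivedObj (EtDual.secSupp j) (q + 2)).symm⟩

end Groth.Agent.S6658
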