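import Groth.Statements.S6659
import Groth.Agent.DerAdj.Basic
import Groth.Agent.EtSite.ClosedImm
import Groth.Agent.EtSite.SuppPull
import Mathlib.CategoryTheory.Adjunction.FullyFaithful
-- import your own Groth.Agent.* helpers here

set_option autoImplicit false
universe u
open CategoryTheory CategoryTheory.Limits AlgebraicGeometry Opposite
attribute [local instance] HasDerivedCategory.standard
open EtDual

namespace Groth.Agent.S6659

open Groth.Agent.EtSite

/-- Inverse image and exact direct image on derived categories. -/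
noncomputable def derivedAdj {Z X : Scheme.{u}} (i : Z ⟶ X)
    [PreservesFiniteColimits (EtCoh.push i)] [PreservesFiniteLimits (EtCoh.push i)] :
    (EtCoh.pull i).mapDerivedCategory ⊣ (EtCoh.push i).mapDerivedCategory :=
  letI : CatCommSq ((EtCoh.pull i).mapHomotopyCategory (ComplexShape.up ℤ)) DerivedCategory.Qh
      DerivedCategory.Qh (EtCoh.pull i).mapDerivedCategory := ⟨(EtCoh.pull i).mapDerivedCategoryFactorsh.symm⟩
  letI : CatCommSq ((EtCoh.push i).mapHomotopyCategory (ComplexShape.up ℤ)) DerivedCategory.Qh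
      DerivedCategory.Qh (EtCoh.push i).mapDerivedCategory := ⟨(EtCoh.push i).mapDerivedCategoryFactorsh.symm⟩
  (DerAdj.mapHomotopyCategoryAdj (EtCoh.pullPushAdj i)).localization DerivedCategory.Qh
    (HomotopyCategory.quasiIso (EtCoh.Ab X) (ComplexShape.up ℤ)) DerivedCategory.Qh
    (HomotopyCategory.quasiIso (EtCoh.Ab Z) (ComplexShape.up ℤ))
    (EtCoh.pull i).mapDerivedCategory (EtCoh.push i).mapDerivedCategory

theorem derivedAdj_unit_isIso {Z X : Scheme.{u}} (i : Z ⟶ X)
    [PreservesFiniteColimits (EtCoh.push i)] [PreservesFiniteLimits (EtCoh.push i)]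
    (C : CochainComplex (EtCoh.Ab X) ℤ) (h : QuasiIso (DerAdj.complexUnit (EtCoh.pullPushAdj i) C)) :
    IsIso ((derivedAdj i).unit.app (DerivedCategory.Qh.obj ((HomotopyCategory.quotient _ _).obj C))) := by
  have hinv := Localization.inverts DerivedCategory.Qh (HomotopyCategory.quasiIso (EtCoh.Ab X) (ComplexShape.up ℤ))
    ((HomotopyCategory.quotient _ _).map (DerAdj.complexUnit (EtCoh.pullPushAdj i) C))
    ((HomotopyCategory.quotient_map_mem_quasiIso_iff _).2 h)
  letI : CatCommSq ((EtCoh.pull i).mapHomotopyCategory (ComplexShape.up ℤ)) DerivedCategory.Qh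
      DerivedCategory.Qh (EtCoh.pull i).mapDerivedCategory := ⟨(EtCoh.pull i).mapDerivedCategoryFactorsh.symm⟩
  letI : CatCommSq ((EtCoh.push i).mapHomotopyCategory (ComplexShape.up ℤ)) DerivedCategory.Qh
      DerivedCategory.Qh (EtCoh.push i).mapDerivedCategory := ⟨(EtCoh.push i).mapDerivedCategoryFactorsh.symm⟩
  rw [derivedAdj, Adjunction.localization_unit_app]
  exact IsIso.comp_isIso' hinv inferInstance

theorem isZero_pull_push {Z X U : Scheme.{u}} (i : Z ⟶ X) [IsClosedImmersion i] (j : U ⟶ X)
    (hZU : Set.range j = (Set.range i)ᶜ) (G : EtCoh.Ab Z) :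
    IsZero ((EtCoh.pull j).obj ((EtCoh.push i).obj G)) := by
  refine isZero_of_stalks _ fun Ω _ _ ξ => ?_
  refine IsZero.of_iso ?_ ((stalkPullIso j ξ).app _).symm
  refine isZero_stalk_push_outside i G (ξ ≫ j) (Set.disjoint_left.2 ?_)
  rintro _ ⟨p, rfl⟩
  have h1 : (ξ ≫ j).base p ∈ Set.range j.base := ⟨ξ.base p, (Scheme.Hom.comp_apply _ _ _).symm⟩
  rw [hZU] at h1
  exact h1

/-- Let i : Z → X be a closed immersion of schemes with open complement j : U → X. The direct image i_*
of abelian etale sheaves is exact (its right exactness is carried as an instance hypothesis), and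
the induced functor D(Z_et) → D(X_et) is fully faithful; an object K of D(X_et) lies in its
essential image if and only if every cohomology sheaf of K has zero restriction to U, i.e. K has
cohomology sheaves supported on Z. (The identification of the quasi-inverse with the derived functor
of sections supported on Z is not part of this row.) -/
theorem result {Z X U : Scheme.{u}} (i : Z ⟶ X)
    [IsClosedImmersion i] (j : U ⟶ X) [IsOpenImmersion j] (hZU : Set.range j = (Set.range i)ᶜ)
    [PreservesFiniteColimits (EtCoh.push i)] :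
    ((EtCoh.push i).mapDerivedCategory.Full ∧ (EtCoh.push i).mapDerivedCategory.Faithful) ∧
      ∀ K : DCoh.DEt X,
        (EtCoh.push i).mapDerivedCategory.essImage K ↔
          ∀ n : ℤ, IsZero ((EtCoh.pull j).obj (DCoh.HDEt K n)) := by
  have : PreservesLimitsOfSize.{0, 0} (EtCoh.push i) := (EtCoh.pullPushAdj i).rightAdjoint_preservesLimits
  have : PreservesFiniteLimits (EtCoh.push i) := PreservesLimitsOfSize.preservesFiniteLimits _
  let A := derivedAdj i
  have hε : IsIso A.counit := by
    have : ∀ L, IsIso (A.counit.app L) := fun L => by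
      obtain ⟨K, ⟨e⟩⟩ : ∃ K, Nonempty (DerivedCategory.Qh.obj K ≅ L) :=
        ⟨_, ⟨(Localization.essSurj DerivedCategory.Qh (HomotopyCategory.quasiIso _ _)).mem_essImage L |>.getIso⟩⟩
      refine (NatTrans.isIso_app_iff_of_iso A.counit e).1 ?_
      obtain ⟨K⟩ := K
      have hc : IsIso (DerAdj.complexCounit (EtCoh.pullPushAdj i) K) := by
        have : ∀ n, IsIso ((DerAdj.complexCounit (EtCoh.pullPushAdj i) K).f n) :=
          fun n => isIso_counit_closedImmersion i (K.X n)
        exact HomologicalComplex.Hom.isIso_of_components _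
      have : IsIso ((DerAdj.mapHomotopyCategoryAdj (EtCoh.pullPushAdj i)).counit.app ⟨K⟩) :=
        ((HomotopyCategory.quotient _ _).mapIso (@asIso _ _ _ _ _ hc)).isIso_hom
      letI : CatCommSq ((EtCoh.pull i).mapHomotopyCategory (ComplexShape.up ℤ)) DerivedCategory.Qh
          DerivedCategory.Qh (EtCoh.pull i).mapDerivedCategory := ⟨(EtCoh.pull i).mapDerivedCategoryFactorsh.symm⟩
      letI : CatCommSq ((EtCoh.push i).mapHomotopyCategory (ComplexShape.up ℤ)) DerivedCategory.Qh
          DerivedCategory.Qh (EtCoh.push i).mapDerivedCategory := ⟨(EtCoh.push i).mapDerivedCategoryFactorsh.symm⟩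
      simp only [A, derivedAdj]
      rw [Adjunction.localization_counit_app]
      infer_instance
    exact NatIso.isIso_of_isIso_app _
  have hFF := A.fullyFaithfulROfIsIsoCounit
  refine ⟨⟨hFF.full, hFF.faithful⟩, fun K => ⟨fun hK n => ?_, fun hK => ?_⟩⟩
  · obtain ⟨L, ⟨e⟩⟩ := hK
    obtain ⟨D, ⟨e'⟩⟩ : ∃ D, Nonempty (DerivedCategory.Q.obj D ≅ L) :=
      ⟨_, ⟨(Localization.essSurj DerivedCategory.Q (HomologicalComplex.quasiIso _ _)).mem_essImage L |>.getIso⟩⟩
    let D' := ((EtCoh.push i).mapHomologicalComplex (ComplexShape.up ℤ)).obj D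
    let eK : DerivedCategory.Q.obj D' ≅ K :=
      ((EtCoh.push i).mapDerivedCategoryFactors.app D).symm ≪≫
        (EtCoh.push i).mapDerivedCategory.mapIso e' ≪≫ e
    refine IsZero.of_iso ?_ ((EtCoh.pull j).mapIso
      ((DerivedCategory.homologyFunctor (EtCoh.Ab X) n).mapIso eK.symm ≪≫
        (DerivedCategory.homologyFunctorFactors (EtCoh.Ab X) n).app D'))
    refine IsZero.of_iso ?_ ((D'.sc n).mapHomologyIso (EtCoh.pull j)).symm
    refine (ShortComplex.exact_iff_isZero_homology _).1 ?_
    exact ShortComplex.exact_of_isZero_X₂ _ (isZero_pull_push i j hZU (D.X n))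
  · obtain ⟨⟨C⟩, ⟨e⟩⟩ : ∃ C, Nonempty (DerivedCategory.Qh.obj C ≅ K) :=
      ⟨_, ⟨(Localization.essSurj DerivedCategory.Qh (HomotopyCategory.quasiIso _ _)).mem_essImage K |>.getIso⟩⟩
    have hz : ∀ n, IsZero ((EtCoh.pull j).obj (C.homology n)) := fun n => (hK n).of_iso
      ((EtCoh.pull j).mapIso ((DerivedCategory.homologyFunctorFactors (EtCoh.Ab X) n).app C).symm ≪≫
        (EtCoh.pull j).mapIso ((DerivedCategory.homologyFunctor (EtCoh.Ab X) n).mapIso
          (((DerivedCategory.quotientCompQhIso (EtCoh.Ab X)).app C).symm ≪≫ e)))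
    let f := DerAdj.complexUnit (EtCoh.pullPushAdj i) C
    have hq : QuasiIso f := ⟨fun n => by
      rw [quasiIsoAt_iff_isIso_homologyMap]
      refine isIso_of_exists_stalk _ fun x => ?_
      by_cases hx : x ∈ Set.range i.base
      · obtain ⟨z, rfl⟩ := hx
        refine ⟨_, inferInstance, inferInstance, gpt z ≫ i,
          (Scheme.Hom.comp_apply _ _ _).trans (congrArg _ (gpt_apply z _)), ?_⟩
        let ξ := gpt z ≫ i
        have : IsIso (((EtCoh.stalk ξ).mapHomologicalComplex (ComplexShape.up ℤ)).map f) := by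
          have : ∀ m, IsIso ((((EtCoh.stalk ξ).mapHomologicalComplex (ComplexShape.up ℤ)).map f).f m) :=
            fun m => isIso_stalk_unit i _ (lifts_closedImmersion i _) (C.X m)
          exact HomologicalComplex.Hom.isIso_of_components _
        have h1 : IsIso (ShortComplex.homologyMap ((EtCoh.stalk ξ).mapShortComplex.map
            ((HomologicalComplex.shortComplexFunctor _ _ n).map f))) :=
          (inferInstance : IsIso (HomologicalComplex.homologyMap
            (((EtCoh.stalk ξ).mapHomologicalComplex (ComplexShape.up ℤ)).map f) n))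
        have e2 := ShortComplex.mapHomologyIso_hom_naturality
          ((HomologicalComplex.shortComplexFunctor _ _ n).map f) (EtCoh.stalk ξ)
        have h3 : IsIso (ShortComplex.homologyMap ((EtCoh.stalk ξ).mapShortComplex.map
            ((HomologicalComplex.shortComplexFunctor _ _ n).map f)) ≫
              (ShortComplex.mapHomologyIso _ (EtCoh.stalk ξ)).hom) := IsIso.comp_isIso' h1 inferInstance
        have h4 := (congrArg (fun m => IsIso m) e2).mp h3
        exact @IsIso.of_isIso_comp_left _ _ _ _ _ _ _ inferInstance h4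
      · refine ⟨_, inferInstance, inferInstance, gpt x, gpt_apply x _, ?_⟩
        have hd : Disjoint (Set.range (gpt x).base) (Set.range i.base) := by
          rw [Set.disjoint_left]
          rintro _ ⟨q, rfl⟩
          rw [gpt_apply]
          exact hx
        obtain ⟨u, hu⟩ : x ∈ Set.range j.base := by rw [hZU]; exact hx
        have hr : Set.range (gpt x).base ⊆ Set.range j.base := by
          rintro _ ⟨q, rfl⟩
          rw [gpt_apply]
          exact ⟨u, hu⟩
        let ζ := IsOpenImmersion.lift j (gpt x) hr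
        have hζ : ζ ≫ j = gpt x := IsOpenImmersion.lift_fac _ _ _
        have hs : IsZero ((EtCoh.stalk (gpt x)).obj (C.homology n)) := by
          rw [← hζ]
          exact ((EtCoh.stalk ζ).map_isZero (hz n)).of_iso ((stalkPullIso j ζ).app _)
        have ht : IsZero ((EtCoh.stalk (gpt x)).obj (((((EtCoh.push i).mapHomologicalComplex
            (ComplexShape.up ℤ)).obj (((EtCoh.pull i).mapHomologicalComplex _).obj C))).homology n)) := by
          refine IsZero.of_iso ?_ (((((EtCoh.push i).mapHomologicalComplex
            (ComplexShape.up ℤ)).obj (((EtCoh.pull i).mapHomologicalComplex _).obj C)).sc n).mapHomologyIso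
              (EtCoh.stalk (gpt x))).symm
          refine (ShortComplex.exact_iff_isZero_homology _).1 ?_
          exact ShortComplex.exact_of_isZero_X₂ _ (isZero_stalk_push_outside i _ (gpt x) hd)
        exact ⟨⟨0, hs.eq_of_src _ _, ht.eq_of_src _ _⟩⟩⟩
    have := derivedAdj_unit_isIso i C hq
    exact Functor.essImage.ofIso e (@Adjunction.mem_essImage_of_unit_isIso _ _ _ _ _ _ A _ this)

end Groth.Agent.S6659
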