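import Groth.Statements.S6708
import Mathlib
-- import your own Groth.Agent.* helpers here

set_option autoImplicit false
universe v u
open CategoryTheory
open DEquiv

namespace Groth.Agent.S6708

section Aux
open CategoryTheory CategoryTheory.Limits CategoryTheory.Pretriangulated

end Aux

open CategoryTheory.Limits CategoryTheory.Pretriangulated in
/-- Let D be a pretriangulated category, D' ⊆ D a full triangulated subcategory (given as a property of
objects that is triangulated in Mathlib's sense) and X an object of D. Then the category of arrows E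
⟶ X with E in D' is filtered. -/
theorem result
    {D : Type u} [Category.{v} D] [Preadditive D] [HasZeroObject D] [HasShift D ℤ]
    [∀ n : ℤ, (shiftFunctor D n).Additive] [Pretriangulated D]
    (P : ObjectProperty D) [P.IsTriangulated] (X : D) :
    IsFiltered (CostructuredArrow P.ι X) := by
  haveI : Nonempty (CostructuredArrow P.ι X) := by
    obtain ⟨Z, hZ, hPZ⟩ := ObjectProperty.exists_prop_of_containsZero P
    exact ⟨CostructuredArrow.mk (Y := (⟨Z, hPZ⟩ : P.FullSubcategory)) (0 : Z ⟶ X)⟩
  haveI : IsFilteredOrEmpty (CostructuredArrow P.ι X) := by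
    refine ⟨fun a b => ?_, fun a b f g => ?_⟩
    · obtain ⟨Z, hPZ, ⟨e⟩⟩ := P.ext_of_isTriangulatedClosed₂' _
        (binaryBiproductTriangle_distinguished a.left.obj b.left.obj) a.left.property b.left.property
      let c : CostructuredArrow P.ι X := CostructuredArrow.mk (Y := (⟨Z, hPZ⟩ : P.FullSubcategory))
        (e.inv ≫ biprod.desc a.hom b.hom)
      refine ⟨c, CostructuredArrow.homMk (ObjectProperty.homMk (biprod.inl ≫ e.hom)) ?_,
        CostructuredArrow.homMk (ObjectProperty.homMk (biprod.inr ≫ e.hom)) ?_, trivial⟩
      · show (biprod.inl ≫ e.hom) ≫ e.inv ≫ biprod.desc a.hom b.hom = a.hom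
        rw [Category.assoc]
        erw [e.hom_inv_id_assoc, biprod.inl_desc]
      · show (biprod.inr ≫ e.hom) ≫ e.inv ≫ biprod.desc a.hom b.hom = b.hom
        rw [Category.assoc]
        erw [e.hom_inv_id_assoc, biprod.inr_desc]
    · let d : a.left.obj ⟶ b.left.obj := f.left.hom - g.left.hom
      obtain ⟨Z, u, v, hT⟩ := distinguished_cocone_triangle d
      obtain ⟨Z', hPZ, ⟨e⟩⟩ := P.ext_of_isTriangulatedClosed₃' _ hT a.left.property b.left.property
      have hd : d ≫ b.hom = 0 := by
        have h1 : f.left.hom ≫ b.hom = a.hom := CostructuredArrow.w f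
        have h2 : g.left.hom ≫ b.hom = a.hom := CostructuredArrow.w g
        simp only [d, Preadditive.sub_comp]
        erw [h1, h2, sub_self]
      obtain ⟨w, hw⟩ := Triangle.yoneda_exact₂ _ hT b.hom hd
      let c : CostructuredArrow P.ι X := CostructuredArrow.mk (Y := (⟨Z', hPZ⟩ : P.FullSubcategory))
        (e.inv ≫ w)
      refine ⟨c, CostructuredArrow.homMk (ObjectProperty.homMk (u ≫ e.hom)) ?_, ?_⟩
      · show (u ≫ e.hom) ≫ e.inv ≫ w = b.hom
        rw [Category.assoc]
        erw [e.hom_inv_id_assoc]
        exact hw.symm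
      · apply CostructuredArrow.hom_ext
        apply ObjectProperty.hom_ext
        show f.left.hom ≫ u ≫ e.hom = g.left.hom ≫ u ≫ e.hom
        have h0 : d ≫ u = 0 := comp_distTriang_mor_zero₁₂ _ hT
        simp only [d, Preadditive.sub_comp, sub_eq_zero] at h0
        rw [← Category.assoc, h0, Category.assoc]
  constructor

end Groth.Agent.S6708
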