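import Mathlib
import Groth.Statements.S6710
-- import your own Groth.Agent.* helpers here

set_option autoImplicit false
universe u v
open CategoryTheory
open FunMor

namespace Groth.Agent.S6710

/-- The statement for an affine scheme written in terms of modules: let A be a commutative ring, M a
finitely presented A-module and N a nonzero A-module with Supp(N) ⊆ Supp(M). Then Hom_A(M, N) is
nonzero. -/
theorem result
    (A : Type u) [CommRing A] (M : Type v) [AddCommGroup M] [Module A M]
    [Module.FinitePresentation A M] (N : Type v) [AddCommGroup N] [Module A N] [Nontrivial N]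
    (h : Module.support A N ⊆ Module.support A M) : Nontrivial (M →ₗ[A] N) := by
  classical
  obtain ⟨x, hx⟩ := exists_ne (0 : N)
  have hne : (Submodule.span A {x}).annihilator ≠ ⊤ := fun htop => hx (by
    simpa using (Submodule.mem_annihilator_span_singleton x (1 : A)).mp (htop ▸ Submodule.mem_top))
  obtain ⟨p, hp⟩ := Ideal.nonempty_minimalPrimes hne
  haveI hpp : p.IsPrime := hp.1.1
  let Ap := Localization.AtPrime p
  let Np := LocalizedModule p.primeCompl N
  let Mp := LocalizedModule p.primeCompl M
  let lN := LocalizedModule.mkLinearMap p.primeCompl N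
  let lM := LocalizedModule.mkLinearMap p.primeCompl M
  have hann : ∀ a : A, a • x = 0 → a ∈ p := fun a ha => hp.1.2 ((Submodule.mem_annihilator_span_singleton _ _).mpr ha)
  have hx' : lN x ≠ 0 := fun h0 => by
    obtain ⟨c, hc⟩ := (IsLocalizedModule.eq_zero_iff p.primeCompl lN).mp h0
    exact c.2 (hann _ hc)
  have hnil : ∀ c ∈ IsLocalRing.maximalIdeal Ap, ∃ n : ℕ, c ^ n • lN x = 0 := by
    intro c hc
    suffices c ∈ (Submodule.span Ap {lN x}).annihilator.radical by
      obtain ⟨n, hn⟩ := this
      exact ⟨n, (Submodule.mem_annihilator_span_singleton _ _).mp hn⟩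
    rw [Ideal.radical_eq_sInf, Submodule.mem_sInf]
    rintro P ⟨hle, hP⟩
    have h1 : (Submodule.span A {x}).annihilator ≤ Ideal.comap (algebraMap A Ap) P := fun a ha =>
      show algebraMap A Ap a ∈ P from hle (show algebraMap A Ap a ∈ (Submodule.span Ap {lN x}).annihilator by
        rw [Submodule.mem_annihilator_span_singleton, algebraMap_smul, ← map_smul,
          (Submodule.mem_annihilator_span_singleton _ _).mp ha, map_zero])
    have h2 : Ideal.comap (algebraMap A Ap) P ≤ p := (Ideal.comap_mono (IsLocalRing.le_maximalIdeal hP.ne_top)).trans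
      (IsLocalization.AtPrime.comap_maximalIdeal Ap p).le
    have h3 := le_antisymm h2 (hp.2 ⟨hP.comap _, h1⟩ h2)
    have : IsLocalRing.maximalIdeal Ap ≤ P := by
      rw [← IsLocalization.map_under p.primeCompl _ P, show Ideal.under A P = p from h3,
        IsLocalization.AtPrime.map_eq_maximalIdeal p]
    exact this hc
  haveI : Module.Finite Ap Mp := Module.Finite.of_isLocalizedModule p.primeCompl lM
  have hsupp : (⟨p, hpp⟩ : PrimeSpectrum A) ∈ Module.support A M := h ((Module.mem_support_iff').mpr ⟨x, fun r hr h0 => hr (hann r h0)⟩)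
  haveI : Nontrivial Mp := (Module.mem_support_iff (p := ⟨p, hpp⟩)).mp hsupp
  obtain ⟨r, π, hπ⟩ := Module.Finite.exists_fin' A M
  have hfg : (LinearMap.ker π).FG := Module.FinitePresentation.fg_ker π hπ
  obtain ⟨rels, hrels⟩ := hfg
  -- a functional to the residue field which is nonzero on `M`
  let kp := IsLocalRing.ResidueField Ap
  let V := TensorProduct Ap kp Mp
  haveI : Nontrivial V := by
    rw [← not_subsingleton_iff_nontrivial, IsLocalRing.subsingleton_tensorProduct (M := Mp)]
    exact not_subsingleton Mp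
  obtain ⟨v, hv⟩ := exists_ne (0 : V)
  obtain ⟨η, hη⟩ := Module.Projective.exists_dual_ne_zero kp hv
  let ψ : M →ₗ[A] kp := (η.restrictScalars A) ∘ₗ ((TensorProduct.mk Ap kp Mp 1).restrictScalars A) ∘ₗ lM
  have hψ : ψ ≠ 0 := fun h0 => hη (by
    obtain ⟨w, rfl⟩ := TensorProduct.mk_surjective Ap Mp kp IsLocalRing.residue_surjective v
    obtain ⟨⟨m, s⟩, hw⟩ := IsLocalizedModule.surj p.primeCompl lM w
    have h1 : (s : A) • η ((TensorProduct.mk Ap kp Mp 1) w) = 0 := by
      rw [← LinearMap.map_smul_of_tower, ← LinearMap.map_smul_of_tower]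
      rw [Submonoid.smul_def] at hw
      rw [hw]
      exact LinearMap.congr_fun h0 m
    rw [← algebraMap_smul Ap, (IsLocalization.map_units Ap s).smul_eq_zero] at h1
    exact h1)
  choose cl hcl using fun i : Fin r => IsLocalRing.residue_surjective (ψ (π (Pi.single i 1)))
  let φ₀ : (Fin r → A) →ₗ[A] Ap := Fintype.linearCombination A cl
  have hφ₀ : ∀ w, IsLocalRing.residue Ap (φ₀ w) = ψ (π w) := fun w => by
    have : (IsLocalRing.residue Ap : Ap → kp) ∘ φ₀ = ψ ∘ π := by
      suffices (Algebra.linearMap Ap kp).restrictScalars A ∘ₗ φ₀ = ψ ∘ₗ π from congrArg DFunLike.coe this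
      refine LinearMap.pi_ext' fun i => LinearMap.ext_ring ?_
      simp [φ₀, ← hcl]; rfl
    exact congrFun this w
  have hy : ∀ t : Finset Ap, (∀ c ∈ t, c ∈ IsLocalRing.maximalIdeal Ap) →
      ∃ a : Ap, a • lN x ≠ 0 ∧ ∀ c ∈ t, c • a • lN x = 0 := by
    intro t
    induction t using Finset.induction with
    | empty => exact fun _ => ⟨1, by rwa [one_smul], by simp⟩
    | insert f t hf ih =>
      intro hts
      obtain ⟨a, ha, ha'⟩ := ih fun c hc => hts c (Finset.mem_insert_of_mem hc)
      have hex : ∃ n, f ^ n • a • lN x = 0 := by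
        obtain ⟨n, hn⟩ := hnil f (hts f (Finset.mem_insert_self f t))
        exact ⟨n, by rw [smul_comm, hn, smul_zero]⟩
      have h0 : Nat.find hex ≠ 0 := fun h0 => ha (by simpa [h0] using Nat.find_spec hex)
      refine ⟨f ^ (Nat.find hex - 1) * a, by rw [mul_smul]; exact Nat.find_min hex (by omega), fun g hg => ?_⟩
      rcases Finset.mem_insert.mp hg with rfl | hg
      · rw [mul_smul, ← mul_smul, ← pow_succ', Nat.sub_add_cancel (Nat.one_le_iff_ne_zero.mpr h0)]
        exact Nat.find_spec hex
      · rw [mul_smul, smul_comm, ha' g hg, smul_zero]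
  obtain ⟨a, ha, ha'⟩ := hy (rels.image φ₀) fun c hc => by
    obtain ⟨w, hw, rfl⟩ := Finset.mem_image.mp hc
    have : π w = 0 := LinearMap.mem_ker.mp (hrels ▸ Submodule.subset_span hw)
    rw [← IsLocalRing.residue_eq_zero_iff, hφ₀, this, map_zero]
  let F : (Fin r → A) →ₗ[A] Np := ((LinearMap.toSpanSingleton Ap Np (a • lN x)).restrictScalars A) ∘ₗ φ₀
  have hF : LinearMap.ker π ≤ LinearMap.ker F := by
    rw [← hrels, Submodule.span_le]
    intro w hw
    exact ha' _ (Finset.mem_image_of_mem φ₀ hw)
  let G : M →ₗ[A] Np := (LinearMap.ker π).liftQ F hF ∘ₗ (π.quotKerEquivOfSurjective hπ).symm.toLinearMap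
  have hG : G ≠ 0 := fun h0 => by
    obtain ⟨m, hm⟩ : ∃ m, ψ m ≠ 0 := by
      by_contra hc; push Not at hc; exact hψ (LinearMap.ext hc)
    obtain ⟨w, rfl⟩ := hπ m
    have hu : IsUnit (φ₀ w) := (IsLocalRing.residue_ne_zero_iff_isUnit _).mp (by rw [hφ₀]; exact hm)
    have h1 := LinearMap.congr_fun h0 (π w)
    simp only [G, LinearMap.comp_apply, LinearEquiv.coe_coe, LinearMap.quotKerEquivOfSurjective_symm_apply,
      Submodule.liftQ_apply, LinearMap.zero_apply] at h1
    exact ha (hu.smul_eq_zero.mp h1)
  obtain ⟨g, s, hgs⟩ := Module.FinitePresentation.exists_lift_of_isLocalizedModule p.primeCompl lN G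
  refine ⟨⟨g, 0, fun hg => hG (LinearMap.ext fun m => ?_)⟩⟩
  have := LinearMap.congr_fun hgs m
  rw [hg] at this
  simp only [LinearMap.comp_zero, LinearMap.zero_apply] at this
  exact IsLocalizedModule.smul_injective lN s (this.symm.trans (smul_zero _).symm)

end Groth.Agent.S6710
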