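import Mathlib
import Groth.Statements.S6731
-- import your own Groth.Agent.* helpers here

set_option autoImplicit false
universe w v u
open CategoryTheory
open DEquiv

namespace Groth.Agent.S6731

open CategoryTheory.Limits CategoryTheory.Pretriangulated in
/-- Let k be a field and T a k-linear triangulated category with dim_k Hom(X, Y) < ∞ for all X, Y. Let
(S, c) and (S', c') be Serre functors: k-linear equivalences T ⥤ T with k-linear isomorphisms
c_{X,Y} : Hom(X, Y) ≅ Hom(Y, S X)^∨ natural in X and Y (likewise c'). Then there is a unique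
isomorphism of functors φ : S ≅ S' compatible with c and c', i.e. c_{X,Y}(f) is c'_{X,Y}(f) composed
with postcomposition by φ_X. -/
theorem result
    {k : Type w} [Field k]
    {T : Type u} [Category.{v} T] [Preadditive T] [Linear k T] [HasZeroObject T] [HasShift T ℤ]
    [∀ n : ℤ, (shiftFunctor T n).Additive] [∀ n : ℤ, (shiftFunctor T n).Linear k] [Pretriangulated T]
    [IsTriangulated T] [∀ X Y : T, Module.Finite k (X ⟶ Y)]
    (S : T ≌ T) [S.functor.Additive] [S.functor.Linear k]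
    (c : ∀ X Y : T, (X ⟶ Y) ≃ₗ[k] Module.Dual k (Y ⟶ S.functor.obj X))
    (hc₁ : ∀ (X Y Y' : T) (f : X ⟶ Y) (g : Y ⟶ Y'),
      c X Y' (f ≫ g) = (c X Y f) ∘ₗ Linear.leftComp k (S.functor.obj X) g)
    (hc₂ : ∀ (X' X Y : T) (a : X' ⟶ X) (f : X ⟶ Y),
      c X' Y (a ≫ f) = (c X Y f) ∘ₗ Linear.rightComp k Y (S.functor.map a))
    (S' : T ≌ T) [S'.functor.Additive] [S'.functor.Linear k]
    (c' : ∀ X Y : T, (X ⟶ Y) ≃ₗ[k] Module.Dual k (Y ⟶ S'.functor.obj X))
    (hc'₁ : ∀ (X Y Y' : T) (f : X ⟶ Y) (g : Y ⟶ Y'),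
      c' X Y' (f ≫ g) = (c' X Y f) ∘ₗ Linear.leftComp k (S'.functor.obj X) g)
    (hc'₂ : ∀ (X' X Y : T) (a : X' ⟶ X) (f : X ⟶ Y),
      c' X' Y (a ≫ f) = (c' X Y f) ∘ₗ Linear.rightComp k Y (S'.functor.map a)) :
    ∃! φ : S.functor ≅ S'.functor, ∀ (X Y : T) (f : X ⟶ Y),
      c X Y f = (c' X Y f) ∘ₗ Linear.rightComp k Y (φ.hom.app X) := by
  have mk : ∀ (P : T ≌ T) (d : ∀ X Y : T, (X ⟶ Y) ≃ₗ[k] Module.Dual k (Y ⟶ P.functor.obj X))
      (X Y : T) (F : Module.Dual k (X ⟶ Y)), ∃ g : Y ⟶ P.functor.obj X, ∀ f, d X Y f g = F f := by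
    intro P d X Y F
    obtain ⟨g, hg⟩ := (Module.bijective_dual_eval k (Y ⟶ P.functor.obj X)).2
      (F ∘ₗ (d X Y).symm.toLinearMap)
    refine ⟨g, fun f => ?_⟩
    have h := DFunLike.congr_fun hg (d X Y f)
    simpa using h
  have inj : ∀ (P : T ≌ T) (d : ∀ X Y : T, (X ⟶ Y) ≃ₗ[k] Module.Dual k (Y ⟶ P.functor.obj X))
      (X Y : T) (g g' : Y ⟶ P.functor.obj X), (∀ f, d X Y f g = d X Y f g') → g = g' := by
    intro P d X Y g g' h
    refine (Module.bijective_dual_eval k (Y ⟶ P.functor.obj X)).1 ?_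
    refine LinearMap.ext fun F => ?_
    obtain ⟨f, rfl⟩ := (d X Y).surjective F
    exact h f
  choose φ hφ using fun X => mk S' c' X (S.functor.obj X)
    ((LinearMap.applyₗ (𝟙 (S.functor.obj X))) ∘ₗ (c X (S.functor.obj X)).toLinearMap)
  choose ψ hψ using fun X => mk S c X (S'.functor.obj X)
    ((LinearMap.applyₗ (𝟙 (S'.functor.obj X))) ∘ₗ (c' X (S'.functor.obj X)).toLinearMap)
  have hA : ∀ (X Y : T) (f : X ⟶ Y) (g : Y ⟶ S.functor.obj X),
      c' X Y f (g ≫ φ X) = c X Y f g := by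
    intro X Y f g
    have h1 := LinearMap.congr_fun (hc'₁ X Y _ f g) (φ X)
    have h2 := LinearMap.congr_fun (hc₁ X Y _ f g) (𝟙 (S.functor.obj X))
    have h3 : c' X _ (f ≫ g) (φ X) = c X _ (f ≫ g) (𝟙 (S.functor.obj X)) := by simpa using hφ X (f ≫ g)
    simp only [LinearMap.comp_apply, Linear.leftComp_apply] at h1 h2
    rw [h1, h2, Category.comp_id] at h3
    exact h3
  have hB : ∀ (X Y : T) (f : X ⟶ Y) (g : Y ⟶ S'.functor.obj X),
      c X Y f (g ≫ ψ X) = c' X Y f g := by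
    intro X Y f g
    have h1 := LinearMap.congr_fun (hc₁ X Y _ f g) (ψ X)
    have h2 := LinearMap.congr_fun (hc'₁ X Y _ f g) (𝟙 (S'.functor.obj X))
    have h3 : c X _ (f ≫ g) (ψ X) = c' X _ (f ≫ g) (𝟙 (S'.functor.obj X)) := by simpa using hψ X (f ≫ g)
    simp only [LinearMap.comp_apply, Linear.leftComp_apply] at h1 h2
    rw [h1, h2, Category.comp_id] at h3
    exact h3
  refine ⟨NatIso.ofComponents (fun X => ⟨φ X, ψ X,
    inj S c X _ _ _ fun f => by rw [hB, ← Category.id_comp (φ X), hA],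
    inj S' c' X _ _ _ fun f => by rw [hA, ← Category.id_comp (ψ X), hB]⟩) ?_, ?_, ?_⟩
  · intro X' X a
    refine inj S' c' X _ _ _ fun f => ?_
    have h1 := LinearMap.congr_fun (hc'₂ X' X _ a f) (φ X')
    have h2 := LinearMap.congr_fun (hc₂ X' X _ a f) (𝟙 (S.functor.obj X'))
    have h3 := hA X' _ (a ≫ f) (𝟙 (S.functor.obj X'))
    simp only [LinearMap.comp_apply, Linear.rightComp_apply] at h1 h2
    rw [Category.id_comp, h1, h2, Category.id_comp] at h3
    show c' X _ f (S.functor.map a ≫ φ X) = c' X _ f (φ X' ≫ S'.functor.map a)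
    rw [hA, h3]
  · intro X Y f
    refine LinearMap.ext fun g => ?_
    simp [hA X Y f g]
  · intro Φ hΦ
    refine Iso.ext (NatTrans.ext (funext fun X => ?_))
    refine inj S' c' X _ _ _ fun f => ?_
    have h1 := LinearMap.congr_fun (hΦ X _ f) (𝟙 (S.functor.obj X))
    have h2 := hA X _ f (𝟙 (S.functor.obj X))
    simp only [LinearMap.comp_apply, Linear.rightComp_apply, Category.id_comp] at h1 h2
    show c' X _ f (Φ.hom.app X) = c' X _ f (φ X)
    rw [h2, h1]

end Groth.Agent.S6731
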