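import Groth.Statements.S6775
import Mathlib

set_option autoImplicit false
open CategoryTheory CategoryTheory.Limits
universe v u
open CategoryTheory CategoryTheory.Abelian

namespace Groth.Agent.S6775

/-- In an abelian category a cartesian square whose bottom arrow `k` is an epimorphism is also
cocartesian, and the arrow `f` opposite to `k` is an epimorphism. -/
theorem result {A : Type u} [Category.{v} A] [Abelian A] {w x y z : A} (f : w ⟶ y) (g : w ⟶ x) (h : y ⟶ z) (k : x ⟶ z) (sq : IsPullback f g h k) [Epi k] : IsPushout f g h k ∧ Epi f := by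
  have hfe : Epi f := Abelian.epi_fst_of_isLimit (s := sq.cone) (f := h) (g := k) sq.isLimit
  refine ⟨?_, hfe⟩
  have he : Epi (biprod.desc h (-k)) := Preadditive.epi_of_cancel_zero _ fun a ha => by
    have h2 : (-k) ≫ a = 0 := by rw [← biprod.inr_desc h (-k), Category.assoc, ha, comp_zero]
    rw [Preadditive.neg_comp, neg_eq_zero] at h2
    exact zero_of_epi_comp k h2
  haveI : Epi sq.shortComplex'.g := he
  have w0 : biprod.lift f g ≫ biprod.desc h (-k) = 0 := by simp [sq.w]
  let hc : IsColimit (CokernelCofork.ofπ (biprod.desc h (-k)) w0) :=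
    sq.exact_shortComplex'.gIsCokernel
  have cond : ∀ s : PushoutCocone f g, biprod.lift f g ≫ biprod.desc s.inl (-s.inr) = 0 := fun s => by
    simp [s.condition]
  choose d hd using fun s : PushoutCocone f g =>
    (⟨(CokernelCofork.IsColimit.desc' hc _ (cond s)).1, (CokernelCofork.IsColimit.desc' hc _ (cond s)).2⟩ :
      ∃ d : z ⟶ s.pt, biprod.desc h (-k) ≫ d = biprod.desc s.inl (-s.inr))
  refine ⟨⟨sq.w⟩, ⟨PushoutCocone.IsColimit.mk _ d (fun s => ?_) (fun s => ?_) (fun s m hm₁ hm₂ => ?_)⟩⟩
  · simpa using biprod.inl ≫= hd s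
  · simpa using biprod.inr ≫= hd s
  · rw [← cancel_epi (biprod.desc h (-k)), hd]
    apply biprod.hom_ext' <;> simp [hm₁, hm₂]

end Groth.Agent.S6775
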