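import Groth.Statements.S6776
import Mathlib

set_option autoImplicit false
open CategoryTheory CategoryTheory.Limits
universe v u
open CategoryTheory CategoryTheory.Abelian

namespace Groth.Agent.S6776

/-- In an abelian category a cocartesian square whose left arrow `g` is a monomorphism is also
cartesian, and the arrow `h` opposite to `g` is a monomorphism. -/
theorem result {A : Type u} [Category.{v} A] [Abelian A] {w x y z : A} (f : w ⟶ y) (g : w ⟶ x) (h : y ⟶ z) (k : x ⟶ z) (sq : IsPushout f g h k) [Mono g] : IsPullback f g h k ∧ Mono h := by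
  have hm : Mono (biprod.lift f (-g)) := Preadditive.mono_of_cancel_zero _ fun a ha => by
    have h2 : a ≫ (-g) = 0 := by rw [← biprod.lift_snd f (-g), ← Category.assoc, ha, zero_comp]
    rw [Preadditive.comp_neg, neg_eq_zero] at h2
    exact zero_of_comp_mono g h2
  haveI : Mono sq.shortComplex.f := hm
  have w0 : biprod.lift f (-g) ≫ biprod.desc h k = 0 := by simp [sq.w]
  let hl : IsLimit (KernelFork.ofι (biprod.lift f (-g)) w0) := sq.exact_shortComplex.fIsKernel
  have cond : ∀ s : PullbackCone h k, biprod.lift s.fst (-s.snd) ≫ biprod.desc h k = 0 := fun s => by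
    simp [s.condition]
  choose l hld using fun s : PullbackCone h k =>
    (⟨(KernelFork.IsLimit.lift' hl _ (cond s)).1, (KernelFork.IsLimit.lift' hl _ (cond s)).2⟩ :
      ∃ l : s.pt ⟶ w, l ≫ biprod.lift f (-g) = biprod.lift s.fst (-s.snd))
  have hpb : IsPullback f g h k := ⟨⟨sq.w⟩, ⟨PullbackCone.IsLimit.mk _ l
    (fun s => by simpa using hld s =≫ biprod.fst)
    (fun s => by simpa using hld s =≫ biprod.snd)
    (fun s m hm₁ hm₂ => by
      rw [← cancel_mono (biprod.lift f (-g)), hld]
      apply biprod.hom_ext <;> simp [hm₁, hm₂])⟩⟩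
  refine ⟨hpb, Preadditive.mono_of_cancel_zero _ fun a ha => ?_⟩
  have h1 := hpb.lift_fst a 0 (by rw [ha, zero_comp])
  have h2 := hpb.lift_snd a 0 (by rw [ha, zero_comp])
  rw [← h1, zero_of_comp_mono g h2, zero_comp]

end Groth.Agent.S6776
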