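import Groth.Statements.S6779
import Groth.Agent.SimpGrp.Kan
import Mathlib.Algebra.Category.Grp.EquivalenceGroupAddGroup
-- import your own Groth.Agent.* helpers here

set_option autoImplicit false
open CategoryTheory
universe u
open SSet

namespace Groth.Agent.S6779

/-- The underlying simplicial set of a simplicial group is a Kan complex. -/
theorem result (X : SimplicialObject GrpCat.{u}) : SSet.KanComplex (X ⋙ forget GrpCat.{u}) := by
  rw [SSet.KanComplex.iff]
  intro n i f hf
  obtain _ | m := n
  · obtain ⟨j, hj, huniq⟩ : ∃ j : Fin 2, j ≠ i ∧ ∀ l, l ≠ i → l = j :=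
      ⟨i.rev, by fin_cases i <;> decide, by fin_cases i <;> decide⟩
    refine ⟨SSet.yonedaEquiv.symm (X.σ 0 (SSet.yonedaEquiv (f j hj))), fun l hl => ?_⟩
    obtain rfl := huniq l hl
    apply SSet.yonedaEquiv.injective
    refine (SSet.yonedaEquiv_naturality (SimplexCategory.δ l) _).symm.trans ?_
    rw [Equiv.apply_symm_apply]
    fin_cases l
    · exact congr($(X.δ_comp_σ_self (i := (0 : Fin 1))) _)
    · exact congr($(X.δ_comp_σ_succ (i := (0 : Fin 1))) _)
  · classical
    obtain ⟨w, -, hw⟩ := Groth.Agent.SimpGrp.exists_filler (X := X) i ⊤ ⊤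
      (fun _ _ _ => trivial) (fun _ _ _ => trivial)
      (fun j => if hj : j = i then 1 else SSet.yonedaEquiv (f j hj)) (fun _ _ => trivial)
      (fun a b hab ha hb => by
        have hlt : a.castSucc < b.succ := Fin.castSucc_lt_succ_iff.2 hab
        have hc := congrArg SSet.yonedaEquiv (hf a.castSucc b.succ ha hb hlt)
        simp only [Fin.pred_succ, Fin.castPred_castSucc] at hc
        simp only [dif_neg ha, dif_neg hb]
        exact ((SSet.yonedaEquiv_naturality (SimplexCategory.δ b) _).trans hc).trans
          (SSet.yonedaEquiv_naturality (SimplexCategory.δ a) _).symm)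
    refine ⟨SSet.yonedaEquiv.symm w, fun j hj => ?_⟩
    apply SSet.yonedaEquiv.injective
    refine (SSet.yonedaEquiv_naturality (SimplexCategory.δ j) _).symm.trans ?_
    rw [Equiv.apply_symm_apply]
    refine (hw j hj).trans ?_
    rw [dif_neg hj]

end Groth.Agent.S6779
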