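import Groth.Statements.S6782
import Groth.Agent.CoskHom.Basic
-- import your own Groth.Agent.* helpers here

set_option autoImplicit false
open CategoryTheory Opposite
universe u
open SSet

namespace Groth.Agent.S6782

/-- A map of `n`-coskeletal simplicial sets which is bijective on simplices of dimension `< n` and
surjective on `n`-simplices is a trivial Kan fibration. -/
theorem result {U V : SSet.{u}} (f : V ⟶ U) (n : ℕ) (h1 : ∀ i : ℕ, i < n → Function.Bijective (f.app (op (SimplexCategory.mk i)))) (h2 : Function.Surjective (f.app (op (SimplexCategory.mk n)))) [SimplicialObject.IsCoskeletal U n] [SimplicialObject.IsCoskeletal V n] : SSet.modelCategoryQuillen.I.rlp f := by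
  have h2' : ∀ k, k ≤ n → Function.Surjective (f.app (op (SimplexCategory.mk k))) := fun k hk =>
    hk.lt_or_eq.elim (fun hk => (h1 k hk).2) (fun hk => hk ▸ h2)
  intro P Q e he
  obtain ⟨k⟩ := he
  refine ⟨fun {top bot} sq => ?_⟩
  have hsq : ∀ {d} (x : (SSet.boundary k : SSet.{u}).obj d),
      f.app d (top.app d x) = bot.app d x.1 := fun {d} x => congr($(sq.w).app d x)
  have hmem : ∀ i, i < k → ∀ s : (SSet.stdSimplex.obj (SimplexCategory.mk k) : SSet.{u}).obj (op (SimplexCategory.mk i)),
      s ∈ (SSet.boundary k).obj _ := fun i hi s => by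
    rw [SSet.boundary_obj_eq_univ i k hi]; trivial
  by_cases hk : k ≤ n
  · obtain ⟨w, hw⟩ := h2' k hk (SSet.yonedaEquiv bot)
    refine ⟨⟨{ l := SSet.yonedaEquiv.symm w, fac_left := ?_, fac_right := ?_ }⟩⟩
    · apply Groth.Agent.CoskHom.hom_ext (n := n)
      intro i hi
      ext ⟨s, hs⟩
      obtain ⟨θ, rfl⟩ := SSet.stdSimplex.objEquiv.symm.surjective s
      have hns : ¬ Function.Surjective θ.toOrderHom := hs
      obtain _ | k := k
      · exact absurd (fun x => ⟨0, Subsingleton.elim (α := Fin 1) _ _⟩) hns
      obtain ⟨a, θ', hθ⟩ := SimplexCategory.eq_comp_δ_of_not_surjective θ hns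
      let x₀ : (SSet.boundary (k + 1) : SSet.{u}).obj (op (SimplexCategory.mk k)) :=
        ⟨SSet.stdSimplex.objEquiv.symm (SimplexCategory.δ a), hmem k (by omega) _⟩
      have e1 : V.map (SimplexCategory.δ a).op w = top.app _ x₀ := by
        apply (h1 k (by omega)).1
        rw [hsq x₀]
        refine (congr($(f.naturality (SimplexCategory.δ a).op) w)).trans ?_
        show U.map (SimplexCategory.δ a).op (f.app _ w) = _
        rw [hw]
        exact SSet.yonedaEquiv_naturality _ _ |>.trans rfl
      subst hθ
      show V.map (θ' ≫ SimplexCategory.δ a).op w = top.app _ _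
      rw [op_comp, V.map_comp]
      show V.map θ'.op (V.map (SimplexCategory.δ a).op w) = _
      rw [e1]
      exact congr($(top.naturality θ'.op) x₀).symm
    · apply SSet.yonedaEquiv.injective
      rw [SSet.yonedaEquiv_comp, Equiv.apply_symm_apply, hw]
  · obtain ⟨φ, hφ⟩ := Groth.Agent.CoskHom.exists_hom (G := SSet.stdSimplex.obj (SimplexCategory.mk k))
      (X := V) (n := n) (fun i hi s => top.app _ ⟨s, hmem i (by omega) s⟩)
      (fun i j hi hj θ s => congr($(top.naturality θ.op) ⟨s, hmem i (by omega) s⟩).symm)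
    refine ⟨⟨{ l := φ, fac_left := ?_, fac_right := ?_ }⟩⟩
    · apply Groth.Agent.CoskHom.hom_ext (n := n)
      intro i hi
      ext ⟨s, hs⟩
      exact hφ i hi s
    · apply Groth.Agent.CoskHom.hom_ext (n := n)
      intro i hi
      ext s
      show f.app _ (φ.app _ s) = bot.app _ s
      rw [hφ i hi s]
      exact hsq ⟨s, hmem i (by omega) s⟩

end Groth.Agent.S6782
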