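import Groth.Statements.S6783
import Mathlib
-- import your own Groth.Agent.* helpers here

set_option autoImplicit false
open CategoryTheory
universe u
open SSet

namespace Groth.Agent.S6783

open CategoryTheory Limits Simplicial Opposite in
theorem rlp_of_coskeletal {XX : SSet.{u}} {B : Type u} (p : XX ⟶ (SimplicialObject.const (Type u)).obj B)
    (hext : ∀ (m : SimplexCategory) (z w : XX.obj (op m)), p.app _ z = p.app _ w →
      (∀ i, XX.map (SimplexCategory.const ⦋0⦌ m i).op z = XX.map (SimplexCategory.const ⦋0⦌ m i).op w) → z = w)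
    (hlift : ∀ (n : ℕ) (b : B) (a : Fin (n + 1) → XX.obj (op ⦋0⦌)), (∀ i, p.app _ (a i) = b) →
      ∃ z : XX.obj (op ⦋n⦌), p.app _ z = b ∧ ∀ i, XX.map (SimplexCategory.const ⦋0⦌ ⦋n⦌ i).op z = a i)
    (hsurj : ∀ b : B, ∃ a : XX.obj (op ⦋0⦌), p.app _ a = b) :
    SSet.modelCategoryQuillen.I.rlp p := by
  intro A C i hi
  obtain ⟨n⟩ := hi
  constructor
  intro f g sq
  classical
  have hp : ∀ {m m' : SimplexCategoryᵒᵖ} (t : m ⟶ m') (z : XX.obj m), p.app m' (XX.map t z) = p.app m z :=
    fun t z => NatTrans.naturality_apply p t z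
  set b : B := g.app (op ⦋n⦌) (SSet.stdSimplex.objEquiv.symm (𝟙 _)) with hb
  have hg : ∀ (m : SimplexCategoryᵒᵖ) (s : (Δ[n] : SSet.{u}).obj m), g.app m s = b := by
    intro m s
    have h1 := NatTrans.naturality_apply g (SSet.stdSimplex.objEquiv s).op
      (SSet.stdSimplex.objEquiv.symm (𝟙 _))
    rw [SSet.stdSimplex.map_objEquiv_symm] at h1
    simp only [Quiver.Hom.unop_op, Category.comp_id, Equiv.symm_apply_apply] at h1
    exact h1
  have hsq : ∀ (m : SimplexCategoryᵒᵖ) (s : (∂Δ[n] : SSet.{u}).obj m), p.app m (f.app m s) = b := by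
    intro m s
    have h1 := ConcreteCategory.congr_hom (NatTrans.congr_app sq.w m) s
    exact h1.trans (hg m _)
  have hmem : ∀ i : Fin (n + 1), n ≠ 0 →
      SSet.stdSimplex.objEquiv.symm (SimplexCategory.const ⦋0⦌ ⦋n⦌ i) ∈ (SSet.boundary.{u} n).obj (op ⦋0⦌) := by
    intro i hn
    rw [SSet.boundary_obj_eq_univ 0 n (by omega)]
    trivial
  obtain ⟨a₀, ha₀⟩ := hsurj b
  let a : Fin (n + 1) → XX.obj (op ⦋0⦌) := fun i =>
    if hn : n = 0 then a₀ else f.app (op ⦋0⦌) ⟨_, hmem i hn⟩
  have ha : ∀ i, p.app _ (a i) = b := by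
    intro i
    by_cases hn : n = 0
    · simp only [a, dif_pos hn]; exact ha₀
    · simp only [a, dif_neg hn]; exact hsq _ _
  obtain ⟨z, hz, hzv⟩ := hlift n b a ha
  refine ⟨⟨{ l := SSet.yonedaEquiv.symm z, fac_left := ?_, fac_right := ?_ }⟩⟩
  · ext ⟨m⟩ ⟨s, hs⟩
    obtain ⟨φ, rfl⟩ := SSet.stdSimplex.objEquiv.symm.surjective s
    change XX.map φ.op z = f.app (op m) ⟨_, hs⟩
    refine hext m _ _ ((hp φ.op z).trans (hz.trans (hsq (op m) _).symm)) fun j => ?_
    rw [← FunctorToTypes.map_comp_apply, ← op_comp, SimplexCategory.const_comp, hzv]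
    have hnat := (NatTrans.naturality_apply f (SimplexCategory.const ⦋0⦌ m j).op ⟨_, hs⟩).symm
    rw [hnat]
    have hn : n ≠ 0 := by
      rintro rfl
      rw [SSet.boundary_zero] at hs
      exact hs
    simp only [a, dif_neg hn]
    congr 1
  · ext ⟨m⟩ s
    change p.app (op m) (XX.map _ z) = g.app (op m) s
    rw [hp, hz, hg]

/-- For a surjective map of sets `f : A → B`, the augmentation from the Čech nerve of `f` (with
`n`-simplices the `(n+1)`-fold fibre product of `A` over `B`) to the constant simplicial set `B` is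
a trivial Kan fibration. -/
theorem result {A B : Type u} (f : A ⟶ B) (hf : Function.Surjective f) : SSet.modelCategoryQuillen.I.rlp (Arrow.mk f).augmentedCechNerve.hom := by
  refine rlp_of_coskeletal _ ?_ ?_ ?_
  · intro m z w h0 hv
    refine Limits.Concrete.widePullback_ext' (fun _ : Fin (m.len + 1) => f) z w fun i => ?_
    have h1 := congrArg (Limits.WidePullback.π (fun _ : Fin 1 => (Arrow.mk f).hom) 0) (hv i)
    have key : ∀ y, Limits.WidePullback.π (fun _ : Fin 1 => f) 0
        ((Arrow.mk f).cechNerve.map (SimplexCategory.const (SimplexCategory.mk 0) m i).op y) =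
          Limits.WidePullback.π (fun _ : Fin (m.len + 1) => f) i y := fun y =>
      ConcreteCategory.congr_hom (Limits.WidePullback.lift_π (fun _ : Fin 1 => f) _ _ _ 0) y
    exact (key z).symm.trans (h1.trans (key w))
  · intro n b a ha
    let t : Fin (n + 1) → A := fun i => Limits.WidePullback.π (fun _ : Fin 1 => f) 0 (a i)
    have ht : ∀ i, f (t i) = b := fun i => by
      rw [← ha i]
      exact ConcreteCategory.congr_hom (Limits.WidePullback.π_arrow (fun _ : Fin 1 => f) 0) (a i)
    let l : PUnit.{u + 1} ⟶ (Arrow.mk f).cechNerve.obj (Opposite.op (SimplexCategory.mk n)) :=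
      Limits.WidePullback.lift (TypeCat.ofHom fun _ => b) (fun i => TypeCat.ofHom fun _ => t i)
        (fun i => by ext ⟨⟩; exact ht i)
    refine ⟨l PUnit.unit, ?_, fun i => ?_⟩
    · exact ConcreteCategory.congr_hom (Limits.WidePullback.lift_base
        (fun _ : Fin (n + 1) => f) _ _ _) PUnit.unit
    · refine Limits.Concrete.widePullback_ext' (fun _ : Fin 1 => f) _ _ fun j => ?_
      obtain rfl : j = 0 := Subsingleton.elim (α := Fin 1) _ _
      exact (ConcreteCategory.congr_hom (Limits.WidePullback.lift_π (fun _ : Fin 1 => f) _ _ _ 0) _).trans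
        (ConcreteCategory.congr_hom (Limits.WidePullback.lift_π (fun _ : Fin (n + 1) => f) _ _ _ i) PUnit.unit)
  · intro b
    obtain ⟨x, hx⟩ := hf b
    let l : PUnit.{u + 1} ⟶ (Arrow.mk f).cechNerve.obj (Opposite.op (SimplexCategory.mk 0)) :=
      Limits.WidePullback.lift (TypeCat.ofHom fun _ => b) (fun _ => TypeCat.ofHom fun _ => x)
        (fun i => by ext ⟨⟩; exact hx)
    exact ⟨l PUnit.unit, ConcreteCategory.congr_hom (Limits.WidePullback.lift_base
      (fun _ : Fin 1 => f) _ _ _) PUnit.unit⟩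

end Groth.Agent.S6783
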