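import Groth.Statements.S6784
import Mathlib
-- import your own Groth.Agent.* helpers here

set_option autoImplicit false
open CategoryTheory
universe u
open SSet

namespace Groth.Agent.S6784

section Aux
open CategoryTheory Opposite SimplexCategory

variable {n : ℕ}

private abbrev T0 : (SimplexCategory.Truncated 1)ᵒᵖ := op ⟨(SimplexCategory.mk 0), by simp⟩
private abbrev T1 : (SimplexCategory.Truncated 1)ᵒᵖ := op ⟨(SimplexCategory.mk 1), by simp⟩

variable (Y : SSet.{u})
  (γ : (SimplexCategory.Truncated.inclusion 1).op ⋙ Y ⟶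
    (SimplexCategory.Truncated.inclusion 1).op ⋙ SSet.stdSimplex.{u}.obj (SimplexCategory.mk n))

/-- the vertex `i` of `y`, mapped through `γ` -/
private def vtx {k : SimplexCategoryᵒᵖ} (y : Y.obj k) (i : Fin (k.unop.len + 1)) : Fin (n + 1) :=
  (SSet.stdSimplex.objEquiv (γ.app T0 (Y.map (SimplexCategory.const (SimplexCategory.mk 0) k.unop i).op y))).toOrderHom 0

/-- values of `γ` at truncated objects are given by vertices -/
private lemma vtx_eq (j : (SimplexCategory.Truncated 1)ᵒᵖ) (y : Y.obj (op j.unop.obj))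
    (i : Fin (j.unop.obj.len + 1)) :
    (SSet.stdSimplex.objEquiv (γ.app j y)).toOrderHom i = vtx Y γ y i := by
  have h := NatTrans.naturality γ
    ((ObjectProperty.homMk (SimplexCategory.const (SimplexCategory.mk 0) j.unop.obj i) : T0.unop ⟶ j.unop).op)
  have := congr_fun (congr_arg (fun f => (ConcreteCategory.hom f : _ → _)) h) y
  simp only [Functor.comp_map, ConcreteCategory.comp_apply] at this
  show _ = (SSet.stdSimplex.objEquiv (γ.app T0 _)).toOrderHom 0
  erw [this]
  rfl

private lemma vtx_map {k l : SimplexCategoryᵒᵖ} (g : k ⟶ l) (y : Y.obj k) (i : Fin (l.unop.len + 1)) :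
    vtx Y γ (Y.map g y) i = vtx Y γ y (g.unop.toOrderHom i) := by
  unfold vtx
  have hc : (SimplexCategory.const (SimplexCategory.mk 0) k.unop (g.unop.toOrderHom i)).op =
      g ≫ (SimplexCategory.const (SimplexCategory.mk 0) l.unop i).op := by
    rw [← SimplexCategory.const_comp]; rfl
  rw [hc, Y.map_comp, ConcreteCategory.comp_apply]

private lemma vtx_mono {k : SimplexCategoryᵒᵖ} (y : Y.obj k) : Monotone (vtx Y γ y) := by
  intro i j hij
  let ε := SimplexCategory.mkOfLe i j hij
  have h0 := vtx_map Y γ ε.op y 0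
  have h1 := vtx_map Y γ ε.op y 1
  have e0 : ε.toOrderHom 0 = i := rfl
  have e1 : ε.toOrderHom 1 = j := rfl
  rw [Quiver.Hom.unop_op, e0] at h0
  rw [Quiver.Hom.unop_op, e1] at h1
  rw [← h0, ← h1, ← vtx_eq Y γ T1, ← vtx_eq Y γ T1]
  exact OrderHom.monotone _ (Fin.zero_le _)

private def extMap : Y ⟶ SSet.stdSimplex.{u}.obj (SimplexCategory.mk n) where
  app k := ↾fun y => SSet.stdSimplex.objEquiv.symm
    (SimplexCategory.Hom.mk ⟨vtx Y γ y, vtx_mono Y γ y⟩)
  naturality k l g := by
    ext y
    apply SSet.stdSimplex.objEquiv.injective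
    refine SimplexCategory.Hom.ext _ _ (OrderHom.ext _ _ (funext fun i => ?_))
    exact vtx_map Y γ g y i

private lemma extMap_unique (m : Y ⟶ SSet.stdSimplex.{u}.obj (SimplexCategory.mk n))
    (hm : Functor.whiskerLeft (SimplexCategory.Truncated.inclusion 1).op m = γ) : m = extMap Y γ := by
  ext k y
  apply SSet.stdSimplex.objEquiv.injective
  refine SimplexCategory.Hom.ext _ _ (OrderHom.ext _ _ (funext fun i => ?_))
  subst hm
  have := congr_fun (congr_arg (fun f => (ConcreteCategory.hom f : _ → _))
    (m.naturality (SimplexCategory.const (SimplexCategory.mk 0) k.unop i).op)) y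
  simp only [ConcreteCategory.comp_apply] at this
  show _ = (SSet.stdSimplex.objEquiv (m.app (op (SimplexCategory.mk 0)) _)).toOrderHom 0
  erw [this]
  rfl

end Aux

/-- The standard simplex `Δ[n]` is `1`-coskeletal, i.e. it is the right Kan extension of its
`1`-truncation. -/
theorem result (n : ℕ) : SimplicialObject.IsCoskeletal (SSet.stdSimplex.{u}.obj (SimplexCategory.mk n)) 1 := by
  refine ⟨⟨⟨Limits.IsTerminal.ofUniqueHom
    (fun E => CostructuredArrow.homMk (extMap E.left E.hom) ?_) ?_⟩⟩⟩
  · refine NatTrans.ext (funext fun j => ?_)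
    ext y
    apply SSet.stdSimplex.objEquiv.injective
    refine SimplexCategory.Hom.ext _ _ (OrderHom.ext _ _ (funext fun i => ?_))
    exact (vtx_eq E.left E.hom j y i).symm
  · intro E m
    apply CostructuredArrow.hom_ext
    exact extMap_unique E.left E.hom m.left ((Category.comp_id _).symm.trans (CostructuredArrow.w m))

end Groth.Agent.S6784
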