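import Groth.Statements.S6785
import Mathlib

set_option autoImplicit false
open CategoryTheory
universe u
open SSet

namespace Groth.Agent.S6785

open MonoidalCategory CartesianMonoidalCategory Limits Simplicial Opposite in
theorem aux {X Y : SSet.{u}} (f : X ⟶ Y) (hf : SSet.modelCategoryQuillen.I.rlp f) (a b : X ⟶ X)
    (ha : a ≫ f = f) (hb : b ≫ f = f) : Nonempty (SSet.Homotopy a b) := by
  rw [← SSet.rlp_monomorphisms] at hf
  let m : FunctorToTypes.coprod X X ⟶ X ⊗ Δ[1] := FunctorToTypes.coprod.desc SSet.ι₀ SSet.ι₁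
  have hm : Mono m := by
    rw [NatTrans.mono_iff_mono_app]
    rintro ⟨⟨k⟩⟩
    rw [CategoryTheory.mono_iff_injective]
    rintro (x | x) (y | y) h
    · exact congrArg Sum.inl (congrArg Prod.fst h)
    · exfalso
      have h2 := DFunLike.congr_fun (congrArg Prod.snd h) (0 : Fin (k + 1))
      exact Fin.zero_ne_one (h2 : (0 : Fin 2) = 1)
    · exfalso
      have h2 := DFunLike.congr_fun (congrArg Prod.snd h) (0 : Fin (k + 1))
      exact Fin.zero_ne_one (h2 : (1 : Fin 2) = 0).symm
    · exact congrArg Sum.inr (congrArg Prod.fst h)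
  have := hf m hm
  have sq : CommSq (FunctorToTypes.coprod.desc a b) m f (fst X Δ[1] ≫ f) := ⟨by
    ext n (x | x)
    · exact ConcreteCategory.congr_hom (NatTrans.congr_app ha n) x
    · exact ConcreteCategory.congr_hom (NatTrans.congr_app hb n) x⟩
  refine ⟨{ h := sq.lift, h₀ := ?_, h₁ := ?_, rel := ?_ }⟩
  · exact congrArg (fun t => (FunctorToTypes.coprod.inl : X ⟶ _) ≫ t) sq.fac_left
  · exact congrArg (fun t => (FunctorToTypes.coprod.inr : X ⟶ _) ≫ t) sq.fac_left
  · ext n ⟨⟨x, hx⟩, y⟩
    exact hx.elim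

/-- A trivial Kan fibration `f : X ⟶ Y` of simplicial sets is a homotopy equivalence; more precisely it
has a section `g`, and `g ∘ f` is homotopic to the identity of `X` by a single homotopy in each
direction. (The published statement only asserts a homotopy equivalence; the section and the
one-step homotopies are what its proof constructs.) -/
theorem result {X Y : SSet.{u}} (f : X ⟶ Y) (hf : SSet.modelCategoryQuillen.I.rlp f) : ∃ g : Y ⟶ X, g ≫ f = 𝟙 Y ∧ Nonempty (SSet.Homotopy (𝟙 X) (f ≫ g)) ∧ Nonempty (SSet.Homotopy (f ≫ g) (𝟙 X)) := by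
  have hf' := hf
  rw [← SSet.rlp_monomorphisms] at hf'
  have hm : MorphismProperty.monomorphisms SSet.{u} (⊥ : Y.Subcomplex).ι := by infer_instance
  have := hf' _ hm
  have sq : CommSq (SSet.Subcomplex.isInitialBot.to X) (⊥ : Y.Subcomplex).ι f (𝟙 Y) := ⟨SSet.Subcomplex.isInitialBot.hom_ext _ _⟩
  refine ⟨sq.lift, sq.fac_right, aux f hf _ _ (by simp) ?_, aux f hf _ _ ?_ (by simp)⟩
  all_goals rw [Category.assoc, sq.fac_right, Category.comp_id]

end Groth.Agent.S6785
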