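import Groth.Statements.S6786
import Mathlib.CategoryTheory.Limits.Types.Limits
import Mathlib.Tactic
-- import your own Groth.Agent.* helpers here

set_option autoImplicit false
open CategoryTheory CategoryTheory.Limits
universe u
open HomAlg3

namespace Groth.Agent.S6786

/-- For a sequence `(A_i) ⟶ (B_i) ⟶ (C_i) ⟶ (D_i)` of inverse systems of abelian groups over `ℕ` that is
exact levelwise at the two middle places, if `(A_i)` is Mittag-Leffler then `lim B_i ⟶ lim C_i ⟶ lim
D_i` is exact. -/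
theorem result {A B C D : ℕᵒᵖ ⥤ AddCommGrpCat.{u}} (a : A ⟶ B) (b : B ⟶ C) (c : C ⟶ D) (hB : ∀ i, (b.app i).hom.ker = (a.app i).hom.range) (hC : ∀ i, (c.app i).hom.ker = (b.app i).hom.range) (hA : (A ⋙ forget AddCommGrpCat).IsMittagLeffler) : (limMap c).hom.ker = (limMap b).hom.range := by
  classical
  let op' : ℕ → ℕᵒᵖ := Opposite.op
  let h : ∀ {m n : ℕ}, m ≤ n → (op' n ⟶ op' m) := fun h => (homOfLE h).op
  have hrr : ∀ (F : ℕᵒᵖ ⥤ AddCommGrpCat.{u}) {l m n : ℕ} (h₁ : l ≤ m) (h₂ : m ≤ n) z,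
      F.map (h h₁) (F.map (h h₂) z) = F.map (h (h₁.trans h₂)) z := fun F l m n h₁ h₂ z =>
    (congr($(F.map_comp (h h₂) (h h₁)) z)).symm
  have hna : ∀ {F G : ℕᵒᵖ ⥤ AddCommGrpCat.{u}} (φ : F ⟶ G) {m n : ℕ} (hmn : m ≤ n) z,
      G.map (h hmn) (φ.app _ z) = φ.app _ (F.map (h hmn) z) := fun φ m n hmn z =>
    congr($(φ.naturality (h hmn)) z).symm
  have hπ : ∀ {F G : ℕᵒᵖ ⥤ AddCommGrpCat.{u}} (φ : F ⟶ G) i (z : (limit F : AddCommGrpCat.{u})),
      limit.π G i (limMap φ z) = φ.app i (limit.π F i z) := fun φ i z =>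
    congr($(limMap_π φ i) z)
  apply le_antisymm
  · intro x hx
    have hx' : ∀ i, c.app i (limit.π C i x) = 0 := fun i => by
      rw [← hπ]
      erw [hx]
      exact map_zero _
    have hS : ∀ k, ∃ s, b.app (op' k) s = limit.π C (op' k) x := fun k =>
      (hC (op' k)).le (hx' (op' k))
    let T : ∀ n, B.obj (op' n) → Prop := fun n y => b.app (op' n) y = limit.π C (op' n) x ∧
      ∀ k (hk : n ≤ k), ∃ s, b.app (op' k) s = limit.π C (op' k) x ∧ B.map (h hk) s = y
    have hbr : ∀ {m n} (hmn : m ≤ n) s, b.app (op' n) s = limit.π C (op' n) x →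
        b.app (op' m) (B.map (h hmn) s) = limit.π C (op' m) x := fun hmn s hs => by
      rw [← hna, hs]
      exact congr($(limit.w C (h hmn)) x)
    have hT : ∀ n, ∃ k₀, ∃ hk₀ : n ≤ k₀, ∀ s, b.app (op' k₀) s = limit.π C (op' k₀) x →
        T n (B.map (h hk₀) s) := by
      intro n
      obtain ⟨i, f, hf⟩ := hA (op' n)
      refine ⟨i.unop, f.unop.le, fun s hs => ⟨hbr _ s hs, fun k hk => ?_⟩⟩
      obtain ⟨t, ht⟩ := hS (max k i.unop)
      have hkm := le_max_left k i.unop
      have him := le_max_right k i.unop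
      obtain ⟨α, hα⟩ := (hB (op' i.unop)).le (show B.map (h him) t - s ∈ (b.app (op' i.unop)).hom.ker
        from (map_sub (b.app (op' i.unop)).hom _ _).trans (sub_eq_zero.mpr ((hbr him t ht).trans hs.symm)))
      obtain ⟨α', hα'⟩ := hf (h (hk.trans hkm)) ⟨α, rfl⟩
      refine ⟨B.map (h hkm) (t - a.app _ α'), hbr hkm _ ?_, ?_⟩
      · rw [map_sub, ht, sub_eq_self]
        exact (hB _).ge ⟨α', rfl⟩
      · have e1 : B.map (h f.unop.le) (a.app _ α) = B.map (h (hk.trans hkm)) (a.app _ α') := by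
          rw [hna, hna]
          exact congrArg _ hα'.symm
        rw [hrr, map_sub, ← e1]
        erw [hα]
        rw [map_sub, hrr, sub_sub_cancel]
    have hstep : ∀ n y, T n y → ∃ z, T (n + 1) z ∧ B.map (h n.le_succ) z = y := by
      intro n y hy
      obtain ⟨k₀, hk₀, hk⟩ := hT (n + 1)
      obtain ⟨s, hs, hsy⟩ := hy.2 k₀ (n.le_succ.trans hk₀)
      exact ⟨_, hk s hs, (hrr B _ _ _).trans hsy⟩
    obtain ⟨y₀, hy₀⟩ : ∃ y, T 0 y := by
      obtain ⟨k₀, hk₀, hk⟩ := hT 0
      exact ⟨_, hk _ (hS k₀).choose_spec⟩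
    let y : ∀ n, {y // T n y} := fun n => Nat.rec (motive := fun n => {y // T n y}) ⟨y₀, hy₀⟩
      (fun n p => ⟨(hstep n p.1 p.2).choose, (hstep n p.1 p.2).choose_spec.1⟩) n
    have hy : ∀ {m n} (hmn : m ≤ n), B.map (h hmn) (y n).1 = (y m).1 := by
      intro m n hmn
      induction n, hmn using Nat.le_induction with
      | base => exact congr($(B.map_id (op' m)) (y m).1)
      | succ n hmn ih =>
        rw [← hrr B hmn n.le_succ, ← ih]
        exact congrArg _ (hstep n (y n).1 (y n).2).choose_spec.2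
    let sec : (B ⋙ forget AddCommGrpCat.{u}).sections :=
      ⟨fun i => (y i.unop).1, fun {i j} f => hy f.unop.le⟩
    obtain ⟨z, hz⟩ := (Types.isLimitEquivSections
      (isLimitOfPreserves (forget AddCommGrpCat.{u}) (limit.isLimit B))).surjective sec
    refine ⟨z, Concrete.isLimit_ext _ (limit.isLimit C) _ _ fun i => ?_⟩
    show limit.π C i (limMap b z) = limit.π C i x
    rw [hπ, show limit.π B i z = (y i.unop).1 from congrArg (fun t => t.1 i) hz]
    exact (y i.unop).2.1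
  · rintro _ ⟨z, rfl⟩
    refine Concrete.isLimit_ext _ (limit.isLimit D) _ _ fun i => ?_
    show limit.π D i (limMap c (limMap b z)) = limit.π D i 0
    rw [hπ, hπ, map_zero]
    exact (hC i).ge ⟨_, rfl⟩

end Groth.Agent.S6786
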