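import Groth.Statements.S6787
import Mathlib
-- import your own Groth.Agent.* helpers here

set_option autoImplicit false
open CategoryTheory CategoryTheory.Limits
universe u
open HomAlg3

namespace Groth.Agent.S6787

open Opposite

theorem ml_ext {A B C : ℕᵒᵖ ⥤ AddCommGrpCat.{u}} (u : A ⟶ B) (v : B ⟶ C)
    (hu : ∀ i, Function.Injective (u.app i).hom) (hv : ∀ i, Function.Surjective (v.app i).hom)
    (hex : ∀ i, (v.app i).hom.ker = (u.app i).hom.range)
    (hA : (A ⋙ forget AddCommGrpCat).IsMittagLeffler) (hC : (C ⋙ forget AddCommGrpCat).IsMittagLeffler) :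
    (B ⋙ forget AddCommGrpCat).IsMittagLeffler := by
  intro i
  obtain ⟨j, fij, hj⟩ := hA i
  obtain ⟨k, fjk, hk⟩ := hC j
  refine ⟨k, fjk ≫ fij, fun l g => ?_⟩
  rintro _ ⟨b, rfl⟩
  obtain ⟨m, hm1, hm2⟩ := directed_of (· ≤ ·) l.unop k.unop
  let gl : Opposite.op m ⟶ l := (homOfLE hm1).op
  let gk : Opposite.op m ⟶ k := (homOfLE hm2).op
  obtain ⟨c, hc⟩ := hk (gk ≫ fjk) ⟨(v.app k).hom b, rfl⟩
  obtain ⟨bm, rfl⟩ := hv _ c
  have nv : ∀ {p q : ℕᵒᵖ} (h : p ⟶ q) (x : B.obj p), (v.app q).hom ((B.map h).hom x) = (C.map h).hom ((v.app p).hom x) := fun h x => ConcreteCategory.congr_hom (v.naturality h) x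
  have nu : ∀ {p q : ℕᵒᵖ} (h : p ⟶ q) (x : A.obj p), (u.app q).hom ((A.map h).hom x) = (B.map h).hom ((u.app p).hom x) := fun h x => ConcreteCategory.congr_hom (u.naturality h) x
  obtain ⟨a, ha⟩ : (B.map fjk).hom b - (B.map (gk ≫ fjk)).hom bm ∈ (u.app j).hom.range := by
    rw [← hex j, AddMonoidHom.mem_ker, map_sub, nv, nv, sub_eq_zero]
    exact hc.symm
  obtain ⟨am, ham⟩ := hj (gl ≫ g) ⟨a, rfl⟩
  refine ⟨(B.map gl).hom (bm + (u.app _).hom am), ?_⟩
  have hgg : gl ≫ g = gk ≫ fjk ≫ fij := Subsingleton.elim _ _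
  show (B.map g).hom ((B.map gl).hom (bm + (u.app _).hom am)) = (B.map (fjk ≫ fij)).hom b
  rw [show (B.map g).hom ((B.map gl).hom (bm + (u.app _).hom am)) = (B.map (gl ≫ g)).hom (bm + (u.app _).hom am) by simp,
    map_add, ← nu]
  have ham' : (A.map (gl ≫ g)).hom am = (A.map fij).hom a := ham
  rw [ham', nu, ha, map_sub, hgg]
  simp



/-- Take inverse systems `(A_i)`, `(B_i)`, `(C_i)` of abelian groups over `ℕ`, with morphisms of systems
`(A_i) ⟶ (B_i) ⟶ (C_i)` that give a short exact sequence at every index, and suppose `(C_i)` is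
essentially constant. Then `(A_i)` is Mittag-Leffler if and only if `(B_i)` is. -/
theorem result {A B C : ℕᵒᵖ ⥤ AddCommGrpCat.{u}} (a : A ⟶ B) (b : B ⟶ C) (ha : ∀ i, Function.Injective (a.app i).hom) (hb : ∀ i, Function.Surjective (b.app i).hom) (hex : ∀ i, (b.app i).hom.ker = (a.app i).hom.range) (hC : ∃ (C₀ : AddCommGrpCat.{u}) (c : (Functor.const ℕᵒᵖ).obj C₀ ⟶ C), DerCA.IsEssConstant C C₀ c) : (A ⋙ forget AddCommGrpCat).IsMittagLeffler ↔ (B ⋙ forget AddCommGrpCat).IsMittagLeffler := by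
  obtain ⟨C₀, c, i, s, -, hc⟩ := hC
  have hC' : (C ⋙ forget AddCommGrpCat).IsMittagLeffler := by
    rintro ⟨j⟩
    obtain ⟨k, hi, hj, hk⟩ := hc j
    refine ⟨op k, (homOfLE hj).op, ?_⟩
    rintro ⟨m⟩ g _ ⟨x, rfl⟩
    refine ⟨c.app (op m) (s (C.map (homOfLE hi).op x)), ?_⟩
    show C.map g (c.app (op m) _) = C.map (homOfLE hj).op x
    rw [← NatTrans.naturality_apply c g, show C.map (homOfLE hj).op =
      C.map (homOfLE hi).op ≫ s ≫ c.app (op j) from hk]
    rfl
  constructor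
  · intro hA
    exact ml_ext a b ha hb hex hA hC'
  · intro hB
    rintro ⟨j⟩
    obtain ⟨k, hi, hj, hk⟩ := hc j
    obtain ⟨⟨l⟩, f, hf⟩ := hB (op k)
    have hkl : k ≤ l := leOfHom f.unop
    refine ⟨op l, (homOfLE (hj.trans hkl)).op, ?_⟩
    rintro ⟨m⟩ g _ ⟨x, rfl⟩
    have hjm : j ≤ m := leOfHom g.unop
    obtain ⟨M₁, hiM, hmM, hM⟩ := hc m
    let M := max M₁ k
    have hkM : k ≤ M := le_max_right _ _
    obtain ⟨y, hy⟩ := hf (homOfLE hkM).op ⟨a.app (op l) x, rfl⟩
    have hy' : B.map (homOfLE hkM).op y = B.map (homOfLE hkl).op (a.app (op l) x) := hy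
    have hz : C.map (homOfLE (hmM.trans (le_max_left _ _) : m ≤ M)).op (b.app (op M) y) = 0 := by
      have h1 : C.map (homOfLE hkM).op (b.app (op M) y) = 0 := by
        rw [← NatTrans.naturality_apply b, hy', NatTrans.naturality_apply b]
        have : b.app (op l) (a.app (op l) x) = 0 := by
          have hmem : a.app (op l) x ∈ (b.app (op l)).hom.ker := by rw [hex]; exact ⟨x, rfl⟩
          exact hmem
        rw [this, map_zero]
      have h2 : C.map (homOfLE (hiM.trans (le_max_left _ _) : i ≤ M)).op (b.app (op M) y) = 0 := by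
        rw [show (homOfLE (hiM.trans (le_max_left _ _) : i ≤ M)).op =
          (homOfLE hkM).op ≫ (homOfLE hi).op from rfl, C.map_comp, CategoryTheory.comp_apply, h1,
          map_zero]
      rw [show (homOfLE (hmM.trans (le_max_left _ _) : m ≤ M)).op =
        (homOfLE (le_max_left M₁ k)).op ≫ (homOfLE hmM).op from rfl, C.map_comp,
        show C.map (homOfLE hmM).op = C.map (homOfLE hiM).op ≫ s ≫ c.app (op m) from hM,
        ← Category.assoc, ← C.map_comp, CategoryTheory.comp_apply]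
      erw [h2]
      exact map_zero _
    have hmem : B.map (homOfLE (hmM.trans (le_max_left _ _) : m ≤ M)).op y ∈ (a.app (op m)).hom.range := by
      rw [← hex, AddMonoidHom.mem_ker]
      exact (NatTrans.naturality_apply b _ y).trans hz
    obtain ⟨x', hx'⟩ := hmem
    refine ⟨x', ha (op j) ?_⟩
    show a.app (op j) (A.map g x') = a.app (op j) (A.map (homOfLE (hj.trans hkl)).op x)
    rw [NatTrans.naturality_apply a, NatTrans.naturality_apply a]
    erw [hx']
    rw [show (homOfLE (hj.trans hkl)).op = (homOfLE hkl).op ≫ (homOfLE hj).op from rfl, B.map_comp,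
      CategoryTheory.comp_apply, ← hy', ← CategoryTheory.comp_apply, ← CategoryTheory.comp_apply,
      ← B.map_comp, ← B.map_comp]
    rfl

end Groth.Agent.S6787
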