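import Groth.Statements.S6789
-- import your own Groth.Agent.* helpers here

set_option autoImplicit false
open CategoryTheory CategoryTheory.Limits
universe v u
open CategoryTheory CategoryTheory.SimplicialObject

namespace Groth.Agent.S6789
open CategoryTheory CategoryTheory.Limits Opposite Simplicial

noncomputable section

section
variable {C : Type u} [Category.{v} C] (A : Arrow C)
variable [∀ n : ℕ, HasWidePullback.{0} A.right (fun _ : Fin (n + 1) => A.left) fun _ => A.hom]

abbrev P (n : ℕ) : C := widePullback.{0} A.right (fun _ : Fin (n + 1) => A.left) fun _ => A.hom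

lemma map_π {m n : ℕ} (θ : (SimplexCategory.mk m) ⟶ SimplexCategory.mk n) (k : Fin (m + 1)) :
    (A.cechNerve.map θ.op : P A n ⟶ P A m) ≫ WidePullback.π _ k =
      WidePullback.π _ (θ.toOrderHom k) :=
  WidePullback.lift_π _ _ _ _ _

lemma map_base {m n : ℕ} (θ : (SimplexCategory.mk m) ⟶ SimplexCategory.mk n) :
    (A.cechNerve.map θ.op : P A n ⟶ P A m) ≫ WidePullback.base _ = WidePullback.base _ :=
  WidePullback.lift_base _ _ _ _

lemma δ_π {n : ℕ} (i : Fin (n + 2)) (k : Fin (n + 1)) :
    (A.cechNerve.δ i : P A (n + 1) ⟶ P A n) ≫ WidePullback.π _ k =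
      WidePullback.π _ (i.succAbove k) := map_π A (SimplexCategory.δ i) k

lemma δ_base {n : ℕ} (i : Fin (n + 2)) :
    (A.cechNerve.δ i : P A (n + 1) ⟶ P A n) ≫ WidePullback.base _ = WidePullback.base _ :=
  map_base A (SimplexCategory.δ i)

lemma σ_π {n : ℕ} (i : Fin (n + 1)) (k : Fin (n + 2)) :
    (A.cechNerve.σ i : P A n ⟶ P A (n + 1)) ≫ WidePullback.π _ k =
      WidePullback.π _ (i.predAbove k) := map_π A (SimplexCategory.σ i) k

lemma σ_base {n : ℕ} (i : Fin (n + 1)) :
    (A.cechNerve.σ i : P A n ⟶ P A (n + 1)) ≫ WidePullback.base _ = WidePullback.base _ :=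
  map_base A (SimplexCategory.σ i)

variable {A} (a b : A.left ⟶ A.left)

def c (i k : ℕ) : A.left ⟶ A.left := if k ≤ i then a else b

variable (ha : a ≫ A.hom = A.hom) (hb : b ≫ A.hom = A.hom)

def h {n : ℕ} (i : Fin (n + 1)) : P A n ⟶ P A (n + 1) :=
  WidePullback.lift (WidePullback.base _)
    (fun k => WidePullback.π _ (i.predAbove k) ≫ c a b i.1 k.1)
    (fun k => by
      rw [Category.assoc]
      unfold c
      split_ifs
      · rw [ha, WidePullback.π_arrow]
      · rw [hb, WidePullback.π_arrow])

lemma h_π {n : ℕ} (i : Fin (n + 1)) (k : Fin (n + 2)) :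
    h a b ha hb i ≫ WidePullback.π _ k = WidePullback.π _ (i.predAbove k) ≫ c a b i.1 k.1 :=
  WidePullback.lift_π _ _ _ _ _

lemma h_base {n : ℕ} (i : Fin (n + 1)) :
    h a b ha hb i ≫ WidePullback.base _ = WidePullback.base _ :=
  WidePullback.lift_base _ _ _ _

lemma hδ_π {n : ℕ} (i : Fin (n + 2)) (j : Fin (n + 1)) (k : Fin (n + 1)) :
    (h a b ha hb j ≫ A.cechNerve.δ i : P A n ⟶ P A n) ≫ WidePullback.π _ k =
      WidePullback.π _ (j.predAbove (i.succAbove k)) ≫ c a b j.1 (i.succAbove k).1 := by
  rw [Category.assoc, δ_π, h_π]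

omit [Category.{v} C] in
lemma sA_val {n : ℕ} (i : Fin (n + 1)) (k : Fin n) :
    (i.succAbove k).1 = if k.1 < i.1 then k.1 else k.1 + 1 := by
  by_cases h : k.castSucc < i
  · rw [Fin.succAbove_of_castSucc_lt _ _ h]; simp [Fin.lt_def] at h; simp [h]
  · rw [Fin.succAbove_of_le_castSucc _ _ (not_lt.1 h)]; simp [Fin.lt_def] at h; simp; omega

omit [Category.{v} C] in
lemma pA_val {n : ℕ} (i : Fin n) (k : Fin (n + 1)) :
    (i.predAbove k).1 = if i.1 < k.1 then k.1 - 1 else k.1 := by
  by_cases h : i.castSucc < k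
  · rw [Fin.predAbove_of_castSucc_lt _ _ h]; simp [Fin.lt_def] at h; simp [h]
  · rw [Fin.predAbove_of_le_castSucc _ _ (not_lt.1 h)]; simp [Fin.lt_def] at h; simp; omega

lemma cc {i k i' k' : ℕ} (e : k ≤ i ↔ k' ≤ i') : c a b i k = c a b i' k' := by
  unfold c; simp only [e]

def homotopy {F G : A.cechNerve ⟶ A.cechNerve}
    (hF : ∀ n (k : Fin (n + 1)), (F.app (op ⦋n⦌) : P A n ⟶ P A n) ≫ WidePullback.π _ k =
      WidePullback.π _ k ≫ a)
    (hF' : ∀ n, (F.app (op ⦋n⦌) : P A n ⟶ P A n) ≫ WidePullback.base _ = WidePullback.base _)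
    (hG : ∀ n (k : Fin (n + 1)), (G.app (op ⦋n⦌) : P A n ⟶ P A n) ≫ WidePullback.π _ k =
      WidePullback.π _ k ≫ b)
    (hG' : ∀ n, (G.app (op ⦋n⦌) : P A n ⟶ P A n) ≫ WidePullback.base _ = WidePullback.base _) :
    SimplicialObject.Homotopy F G where
  h i := h a b ha hb i
  h_zero_comp_δ_zero n := by
    refine WidePullback.hom_ext _ _ _ (fun k => ?_) ?_
    · rw [hG, hδ_π]
      simp [c]
    · rw [Category.assoc, δ_base, h_base, hG']
  h_last_comp_δ_last n := by
    refine WidePullback.hom_ext _ _ _ (fun k => ?_) ?_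
    · rw [hF, hδ_π]
      have : (Fin.last (n + 1)).succAbove k = k.castSucc := Fin.succAbove_last_apply k
      rw [this]
      congr 1
      · congr 1
        exact Fin.predAbove_castSucc_of_le _ _ (Fin.le_last k)
      · exact if_pos (Nat.lt_succ_iff.1 k.2)
    · rw [Category.assoc, δ_base, h_base, hF']
  h_succ_comp_δ_castSucc_of_lt {n} i j hij := by
    refine WidePullback.hom_ext _ _ _ (fun k => ?_) ?_
    · rw [Category.assoc, Category.assoc, δ_π, h_π, h_π, ← Category.assoc, δ_π]
      congr 1
      · congr 1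
        ext
        simp only [Fin.le_def, Fin.val_castSucc] at hij
        simp only [pA_val, sA_val, Fin.val_succ, Fin.val_castSucc] at *
        split_ifs <;> omega
      · apply cc
        simp only [Fin.le_def, Fin.val_castSucc] at hij
        simp only [pA_val, sA_val, Fin.val_succ, Fin.val_castSucc] at *
        split_ifs <;> omega
    · rw [Category.assoc, Category.assoc, δ_base, h_base, h_base, δ_base]
  h_succ_comp_δ_castSucc_succ {n} j := by
    refine WidePullback.hom_ext _ _ _ (fun k => ?_) ?_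
    · rw [hδ_π, hδ_π]
      congr 1
      · congr 1
        ext
        simp only [pA_val, sA_val, Fin.val_succ, Fin.val_castSucc] at *
        split_ifs <;> omega
      · apply cc
        simp only [pA_val, sA_val, Fin.val_succ, Fin.val_castSucc] at *
        split_ifs <;> omega
    · rw [Category.assoc, Category.assoc, δ_base, h_base, h_base]
  h_castSucc_comp_δ_succ_of_lt {n} i j hji := by
    refine WidePullback.hom_ext _ _ _ (fun k => ?_) ?_
    · rw [Category.assoc, Category.assoc, δ_π, h_π, h_π, ← Category.assoc, δ_π]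
      congr 1
      · congr 1
        ext
        simp only [Fin.lt_def, Fin.le_def, Fin.val_castSucc] at hji
        simp only [pA_val, sA_val, Fin.val_succ, Fin.val_castSucc] at *
        split_ifs <;> omega
      · apply cc
        simp only [Fin.lt_def, Fin.le_def, Fin.val_castSucc] at hji
        simp only [pA_val, sA_val, Fin.val_succ, Fin.val_castSucc] at *
        split_ifs <;> omega
    · rw [Category.assoc, Category.assoc, δ_base, h_base, h_base, δ_base]
  h_comp_σ_castSucc_of_le {n} i j hij := by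
    refine WidePullback.hom_ext _ _ _ (fun k => ?_) ?_
    · rw [Category.assoc, Category.assoc, σ_π, h_π, h_π, ← Category.assoc, σ_π]
      congr 1
      · congr 1
        ext
        simp only [Fin.le_def, Fin.val_castSucc] at hij
        simp only [pA_val, sA_val, Fin.val_succ, Fin.val_castSucc] at *
        split_ifs <;> omega
      · apply cc
        simp only [Fin.le_def, Fin.val_castSucc] at hij
        simp only [pA_val, sA_val, Fin.val_succ, Fin.val_castSucc] at *
        split_ifs <;> omega
    · rw [Category.assoc, Category.assoc, σ_base, h_base, h_base, σ_base]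
  h_comp_σ_succ_of_lt {n} i j hji := by
    refine WidePullback.hom_ext _ _ _ (fun k => ?_) ?_
    · rw [Category.assoc, Category.assoc, σ_π, h_π, h_π, ← Category.assoc, σ_π]
      congr 1
      · congr 1
        ext
        simp only [Fin.lt_def, Fin.le_def, Fin.val_castSucc] at hji
        simp only [pA_val, sA_val, Fin.val_succ, Fin.val_castSucc] at *
        split_ifs <;> omega
      · apply cc
        simp only [Fin.lt_def, Fin.le_def, Fin.val_castSucc] at hji
        simp only [pA_val, sA_val, Fin.val_succ, Fin.val_castSucc] at *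
        split_ifs <;> omega
    · rw [Category.assoc, Category.assoc, σ_base, h_base, h_base, σ_base]

end

end


/-- For a morphism `f : Y ⟶ X` with a section `s`, the endomorphism of the Čech nerve of `f` (the
simplicial object of iterated fibre products of `Y` over `X`) that applies `s ∘ f` factorwise admits
simplicial homotopies to and from the identity: the published formula gives one direction and its
mirror image (exchange the roles of the identity and `s ∘ f`) gives the other. -/
theorem result {C : Type u} [Category.{v} C] {Y X : C} (f : Y ⟶ X) (s : X ⟶ Y) (hs : s ≫ f = 𝟙 X) [∀ n : ℕ, HasWidePullback (Arrow.mk f).right (fun _ : Fin (n + 1) => (Arrow.mk f).left) (fun _ => (Arrow.mk f).hom)] (φ : Arrow.mk f ⟶ Arrow.mk f) (hφl : φ.left = f ≫ s) (hφr : φ.right = 𝟙 X) : Nonempty (SimplicialObject.Homotopy (𝟙 (Arrow.mk f).cechNerve) (Arrow.mapCechNerve φ)) ∧ Nonempty (SimplicialObject.Homotopy (Arrow.mapCechNerve φ) (𝟙 (Arrow.mk f).cechNerve)) := by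
  have h1 : ∀ n (k : Fin (n + 1)),
      ((𝟙 (Arrow.mk f).cechNerve : _ ⟶ _).app (op ⦋n⦌) : P (Arrow.mk f) n ⟶ P (Arrow.mk f) n) ≫
        WidePullback.π _ k = WidePullback.π _ k ≫ 𝟙 _ :=
    fun n k => (Category.id_comp _).trans (Category.comp_id _).symm
  have h1' : ∀ n, ((𝟙 (Arrow.mk f).cechNerve : _ ⟶ _).app (op ⦋n⦌) :
      P (Arrow.mk f) n ⟶ P (Arrow.mk f) n) ≫ WidePullback.base _ = WidePullback.base _ :=
    fun n => Category.id_comp _
  have h2 : ∀ n (k : Fin (n + 1)),
      ((Arrow.mapCechNerve φ).app (op ⦋n⦌) : P (Arrow.mk f) n ⟶ P (Arrow.mk f) n) ≫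
        WidePullback.π _ k = WidePullback.π _ k ≫ φ.left :=
    fun n k => WidePullback.lift_π _ _ _ _ _
  have h2' : ∀ n, ((Arrow.mapCechNerve φ).app (op ⦋n⦌) :
      P (Arrow.mk f) n ⟶ P (Arrow.mk f) n) ≫ WidePullback.base _ = WidePullback.base _ :=
    fun n => (WidePullback.lift_base _ _ _ _).trans (by rw [hφr]; exact Category.comp_id _)
  have ha : φ.left ≫ (Arrow.mk f).hom = (Arrow.mk f).hom := by
    rw [hφl]
    show (f ≫ s) ≫ f = f
    rw [Category.assoc, hs, Category.comp_id]
  exact ⟨⟨homotopy (𝟙 _) φ.left (Category.id_comp _) ha h1 h1' h2 h2'⟩,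
    ⟨homotopy φ.left (𝟙 _) ha (Category.id_comp _) h2 h2' h1 h1'⟩⟩

end Groth.Agent.S6789
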