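import Groth.Statements.S6790
import Mathlib.CategoryTheory.Monoidal.Rigid.Basic
import Mathlib.Tactic.CategoryTheory.Monoidal.Basic
-- import your own Groth.Agent.* helpers here

set_option autoImplicit false
open CategoryTheory CategoryTheory.Limits MonoidalCategory
universe v u
open CategoryTheory CategoryTheory.Monoidal

namespace Groth.Agent.S6790

/-- In an idempotent-complete additive monoidal category, a direct summand of an object admitting a dual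
(with coevaluation `𝟙_ A ⟶ X ⊗ Y` and evaluation `Y ⊗ X ⟶ 𝟙_ A`) again admits such a dual. -/
theorem result {A : Type u} [Category.{v} A] [Preadditive A] [HasFiniteBiproducts A] [MonoidalCategory A] [MonoidalPreadditive A] [IsIdempotentComplete A] {X X₁ : A} (i : X₁ ⟶ X) (p : X ⟶ X₁) (hip : i ≫ p = 𝟙 X₁) [HasRightDual X] : Nonempty (HasRightDual X₁) := by
  have he : (p ≫ i) ≫ p = p := by rw [Category.assoc, hip, Category.comp_id]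
  have hr : (p ≫ i)ᘁ ≫ (p ≫ i)ᘁ = (p ≫ i)ᘁ := by
    rw [← comp_rightAdjointMate, ← Category.assoc, he]
  obtain ⟨Y₁, j, q, hjq, hqj⟩ := IsIdempotentComplete.idempotents_split _ _ hr
  have hje : j ≫ (p ≫ i)ᘁ = j := by rw [← hqj, ← Category.assoc, hjq, Category.id_comp]
  let η' : 𝟙_ A ⟶ X₁ ⊗ Y₁ := η_ X (Xᘁ) ≫ p ▷ _ ≫ X₁ ◁ q
  let ε' : Y₁ ⊗ X₁ ⟶ 𝟙_ A := j ▷ _ ≫ (Xᘁ : A) ◁ i ≫ ε_ X (Xᘁ)
  have h1 : η' ≫ X₁ ◁ j = η_ X (Xᘁ) ≫ p ▷ _ := by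
    simp only [η', Category.assoc, ← MonoidalCategory.whiskerLeft_comp, hqj]
    rw [← whisker_exchange, ← Category.assoc (η_ X (Xᘁ)), coevaluation_comp_rightAdjointMate,
      Category.assoc, ← comp_whiskerRight, he]
  have h2 : Y₁ ◁ p ≫ ε' = j ▷ X ≫ ε_ X (Xᘁ) := by
    simp only [ε']
    rw [whisker_exchange_assoc, ← MonoidalCategory.whiskerLeft_comp_assoc,
      ← rightAdjointMate_comp_evaluation, ← comp_whiskerRight_assoc, hje]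
  refine ⟨@HasRightDual.mk _ _ _ X₁ Y₁
    { coevaluation' := η'
      evaluation' := ε'
      coevaluation_evaluation' := ?_
      evaluation_coevaluation' := ?_ }⟩
  · calc Y₁ ◁ η' ≫ (α_ _ _ _).inv ≫ ε' ▷ Y₁
        = 𝟙 _ ⊗≫ Y₁ ◁ η_ X (Xᘁ) ⊗≫ (Y₁ ◁ p) ▷ (Xᘁ : A) ⊗≫
            ((Y₁ ⊗ X₁) ◁ q ≫ ε' ▷ Y₁) := by
          simp only [η']; monoidal
      _ = 𝟙 _ ⊗≫ Y₁ ◁ η_ X (Xᘁ) ⊗≫ (Y₁ ◁ p ≫ ε') ▷ (Xᘁ : A) ⊗≫ q ⊗≫ 𝟙 _ := by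
          rw [whisker_exchange]; monoidal
      _ = 𝟙 _ ⊗≫ (Y₁ ◁ η_ X (Xᘁ) ≫ j ▷ (X ⊗ (Xᘁ : A))) ⊗≫ ε_ X (Xᘁ) ▷ (Xᘁ : A) ⊗≫ q ⊗≫ 𝟙 _ := by
          rw [h2]; monoidal
      _ = 𝟙 _ ⊗≫ j ⊗≫ ((Xᘁ : A) ◁ η_ X (Xᘁ) ⊗≫ ε_ X (Xᘁ) ▷ (Xᘁ : A)) ⊗≫ q ⊗≫ 𝟙 _ := by
          rw [whisker_exchange]; monoidal
      _ = 𝟙 _ ⊗≫ (j ≫ q) ⊗≫ 𝟙 _ := by
          rw [ExactPairing.coevaluation_evaluation'']; monoidal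
      _ = (ρ_ Y₁).hom ≫ (λ_ Y₁).inv := by rw [hjq]; monoidal
  · calc η' ▷ X₁ ≫ (α_ _ _ _).hom ≫ X₁ ◁ ε'
        = 𝟙 _ ⊗≫ (η' ≫ X₁ ◁ j) ▷ X₁ ⊗≫ X₁ ◁ ((Xᘁ : A) ◁ i ≫ ε_ X (Xᘁ)) := by
          simp only [ε']; monoidal
      _ = 𝟙 _ ⊗≫ η_ X (Xᘁ) ▷ X₁ ⊗≫ (p ▷ ((Xᘁ : A) ⊗ X₁) ≫ X₁ ◁ ((Xᘁ : A) ◁ i ≫ ε_ X (Xᘁ))) := by
          rw [h1]; monoidal
      _ = 𝟙 _ ⊗≫ (η_ X (Xᘁ) ▷ X₁ ≫ (X ⊗ (Xᘁ : A)) ◁ i) ⊗≫ X ◁ ε_ X (Xᘁ) ⊗≫ p ⊗≫ 𝟙 _ := by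
          rw [← whisker_exchange]; monoidal
      _ = 𝟙 _ ⊗≫ i ⊗≫ (η_ X (Xᘁ) ▷ X ⊗≫ X ◁ ε_ X (Xᘁ)) ⊗≫ p ⊗≫ 𝟙 _ := by
          rw [← whisker_exchange]; monoidal
      _ = 𝟙 _ ⊗≫ (i ≫ p) ⊗≫ 𝟙 _ := by
          rw [ExactPairing.evaluation_coevaluation'']; monoidal
      _ = (λ_ X₁).hom ≫ (ρ_ X₁).inv := by rw [hip]; monoidal

end Groth.Agent.S6790
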