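import Mathlib
import Groth.Statements.S6791
-- import your own Groth.Agent.* helpers here

set_option autoImplicit false
open CategoryTheory CategoryTheory.Limits
universe v u v' u' v'' u''
open CategoryTheory CategoryTheory.SerreClass

namespace Groth.Agent.S6791

set_option backward.isDefEq.respectTransparency false
set_option backward.isDefEq.respectTransparency.types false

/-- For an exact functor `F : A ⥤ B` of abelian categories and a Serre class `P` of `A` killed by `F`,
with `L : A ⥤ Q` a model of the quotient `A/P` and `Fbar : Q ⥤ B` the induced functor, `P` is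
exactly the kernel of `F` if and only if `Fbar` is faithful. -/
theorem result {A : Type u} [Category.{v} A] [Abelian A] {B : Type u'} [Category.{v'} B] [Abelian B] (F : A ⥤ B) [F.Additive] [PreservesFiniteLimits F] [PreservesFiniteColimits F] (P : ObjectProperty A) [P.IsSerreClass] (hP : ∀ X : A, P X → IsZero (F.obj X)) {Q : Type u''} [Category.{v''} Q] [Abelian Q] (L : A ⥤ Q) [L.IsLocalization P.isoModSerre] [L.Additive] [PreservesFiniteLimits L] [PreservesFiniteColimits L] (Fbar : Q ⥤ B) (e : L ⋙ Fbar ≅ F) : (∀ X : A, IsZero (F.obj X) → P X) ↔ Fbar.Faithful := by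
  constructor
  · intro hker
    have : Fbar.Additive := by
      rw [CategoryTheory.Localization.functor_additive_iff L P.isoModSerre]
      exact Functor.additive_of_iso e.symm
    have hzero : ∀ {X Y : A} (f : X ⟶ Y), Fbar.map (L.map f) = 0 → L.map f = 0 := by
      intro X Y f hf
      rw [CategoryTheory.ObjectProperty.SerreClassLocalization.map_eq_zero_iff L P]
      apply hker
      have h0 : F.map f = 0 := by
        have := e.hom.naturality f
        simp only [Functor.comp_map] at this
        rw [hf, zero_comp] at this
        exact (cancel_epi (e.hom.app X)).1 (by rw [← this, comp_zero])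
      rw [← Abelian.image.fac f, F.map_comp] at h0
      have h1 : F.map (Abelian.factorThruImage f) = 0 := (cancel_mono (F.map (Abelian.image.ι f))).1 (by rw [h0, zero_comp])
      rw [IsZero.iff_id_eq_zero]
      exact (cancel_epi (F.map (Abelian.factorThruImage f))).1 (by rw [h1, zero_comp, zero_comp])
    refine ⟨fun {U V} q q' hqq => ?_⟩
    have := CategoryTheory.Localization.essSurj_mapArrow L P.isoModSerre
    let f := (L.mapArrow.objPreimage (Arrow.mk (q - q'))).hom
    let i := L.mapArrow.objObjPreimageIso (Arrow.mk (q - q'))
    have hw : i.hom.left ≫ (q - q') = L.map f ≫ i.hom.right := Arrow.w i.hom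
    have h0 : L.map f = 0 := by
      apply hzero
      have h1 : Fbar.map i.hom.left ≫ Fbar.map (q - q') = Fbar.map (L.map f) ≫ Fbar.map i.hom.right :=
        (Fbar.map_comp _ _).symm.trans ((congrArg Fbar.map hw).trans (Fbar.map_comp _ _))
      rw [Fbar.map_sub, hqq, sub_self, comp_zero] at h1
      exact (cancel_mono (Fbar.map i.hom.right)).1 (h1.symm.trans zero_comp.symm)
    rw [h0, zero_comp] at hw
    exact sub_eq_zero.1 ((cancel_epi i.hom.left).1 (by rw [hw, comp_zero]))
  · intro hf X hX
    rw [← CategoryTheory.ObjectProperty.SerreClassLocalization.isZero_obj_iff L P, IsZero.iff_id_eq_zero]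
    exact Fbar.map_injective ((hX.of_iso (e.app X)).eq_of_src _ _)

end Groth.Agent.S6791
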