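import Mathlib
import Groth.Statements.S6795
-- import your own Groth.Agent.* helpers here

set_option autoImplicit false
open CategoryTheory CategoryTheory.Limits
universe v u
open CategoryTheory CategoryTheory.Preadditive

namespace Groth.Agent.S6795

/-- A preadditive category with countable products in which split epimorphisms have kernels is
idempotent complete (Karoubian). -/
theorem result {D : Type u} [Category.{v} D] [Preadditive D] [HasCountableProducts D] (hk : ∀ ⦃X Y : D⦄ (f : X ⟶ Y), IsSplitEpi f → HasKernel f) : IsIdempotentComplete D := by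
  refine ⟨fun X p hp => ?_⟩
  let q : X ⟶ X := 𝟙 X - p
  have hpq : p ≫ q = 0 := by simp [q, hp]
  have hqp : q ≫ p = 0 := by simp [q, hp]
  have hqq : q ≫ q = q := by simp [q, hp]
  let P := ∏ᶜ fun _ : ℕ => X
  let π : ℕ → (P ⟶ X) := Pi.π (fun _ : ℕ => X)
  let f : P ⟶ P := Pi.lift fun i => π i ≫ q + π (i + 1) ≫ p
  let s : P ⟶ P := Pi.lift fun i => match i with
    | 0 => π 0 ≫ q
    | i + 1 => π i ≫ p + π (i + 1) ≫ q
  have hs : s ≫ f = 𝟙 P := Pi.hom_ext _ _ fun i => by
    rcases i with _ | i <;>
      simp [s, f, π, Preadditive.comp_add, Preadditive.add_comp, hpq, hqp, hqq, hp, reassoc_of% hpq, reassoc_of% hqp, q]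
  haveI : HasKernel f := hk f (IsSplitEpi.mk' ⟨s, hs⟩)
  have hcoord : ∀ i, kernel.ι f ≫ π i ≫ q = 0 ∧ kernel.ι f ≫ π (i + 1) ≫ p = 0 := by
    intro i
    have h := congrArg (fun φ => φ ≫ π i) (kernel.condition f)
    simp only [Category.assoc, zero_comp, f, π, limit.lift_π, Fan.mk_π_app, Preadditive.comp_add] at h
    constructor
    · have := congrArg (· ≫ q) h
      simpa [Preadditive.add_comp, hqq, hpq, π] using this
    · have := congrArg (· ≫ p) h
      simpa [Preadditive.add_comp, hqp, hp, π] using this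
  have hsum : ∀ i, π i = π i ≫ p + π i ≫ q := fun i => by rw [← Preadditive.comp_add]; simp [q]
  let g : X ⟶ P := Pi.lift fun i => match i with
    | 0 => p
    | _ + 1 => 0
  have hg : g ≫ f = 0 := Pi.hom_ext _ _ fun i => by
    rcases i with _ | i <;> simp [g, f, π, Preadditive.comp_add, hpq]
  refine ⟨kernel f, kernel.ι f ≫ π 0, kernel.lift f g hg, ?_, ?_⟩
  · rw [← cancel_mono (kernel.ι f)]
    simp only [Category.assoc, kernel.lift_ι, Category.id_comp]
    refine Pi.hom_ext _ _ fun i => ?_
    have hk : kernel.ι f ≫ π i = kernel.ι f ≫ π i ≫ p := by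
      conv_lhs => rw [hsum i, Preadditive.comp_add, (hcoord i).1, add_zero]
    show (kernel.ι f ≫ π 0 ≫ g) ≫ π i = kernel.ι f ≫ π i
    rw [hk, Category.assoc, Category.assoc]
    rcases i with _ | i
    · simp [g, π]
    · rw [(hcoord i).2]
      simp [g, π]
  · rw [kernel.lift_ι_assoc]
    simp [g, π]

end Groth.Agent.S6795
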