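import Mathlib
import Groth.Statements.S6796
-- import your own Groth.Agent.* helpers here

set_option autoImplicit false
open CategoryTheory CategoryTheory.Limits
universe v u
open CategoryTheory CategoryTheory.Preadditive

namespace Groth.Agent.S6796

/-- A preadditive category with countable coproducts in which split monomorphisms have cokernels is
idempotent complete (Karoubian). -/
theorem result {D : Type u} [Category.{v} D] [Preadditive D] [HasCountableCoproducts D] (hk : ∀ ⦃X Y : D⦄ (f : X ⟶ Y), IsSplitMono f → HasCokernel f) : IsIdempotentComplete D := by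
  refine ⟨fun X p hp => ?_⟩
  let q : X ⟶ X := 𝟙 X - p
  have hpq : p ≫ q = 0 := by simp [q, hp]
  have hqp : q ≫ p = 0 := by simp [q, hp]
  have hqq : q ≫ q = q := by simp [q, hp]
  let P := ∐ fun _ : ℕ => X
  let ι : ℕ → (X ⟶ P) := Sigma.ι (fun _ : ℕ => X)
  let f : P ⟶ P := Sigma.desc fun i => q ≫ ι i + p ≫ ι (i + 1)
  let r : P ⟶ P := Sigma.desc fun i => match i with
    | 0 => q ≫ ι 0
    | i + 1 => p ≫ ι i + q ≫ ι (i + 1)
  have hr : f ≫ r = 𝟙 P := Sigma.hom_ext _ _ fun i => by
    rcases i with _ | i <;>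
      simp [r, f, ι, Preadditive.comp_add, Preadditive.add_comp, hpq, hqp, hqq, hp, reassoc_of% hpq, reassoc_of% hqp, reassoc_of% hp, q] <;>
      exact (Category.comp_id _).symm
  haveI : HasCokernel f := hk f (IsSplitMono.mk' ⟨r, hr⟩)
  have hcoord : ∀ i, q ≫ ι i ≫ cokernel.π f = 0 ∧ p ≫ ι (i + 1) ≫ cokernel.π f = 0 := by
    intro i
    have h := congrArg (fun φ => ι i ≫ φ) (cokernel.condition f)
    simp only [f, ι, comp_zero, Preadditive.add_comp, Category.assoc, colimit.ι_desc_assoc, Cofan.mk_ι_app] at h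
    constructor
    · have := congrArg (q ≫ ·) h
      simpa [Preadditive.comp_add, reassoc_of% hqq, reassoc_of% hqp, ι] using this
    · have := congrArg (p ≫ ·) h
      simpa [Preadditive.comp_add, reassoc_of% hp, reassoc_of% hpq, ι] using this
  have hsum : ∀ i, ι i = p ≫ ι i + q ≫ ι i := fun i => by rw [← Preadditive.add_comp]; simp [q]
  let g : P ⟶ X := Sigma.desc fun i => match i with
    | 0 => p
    | _ + 1 => 0
  have hg : f ≫ g = 0 := Sigma.hom_ext _ _ fun i => by
    rcases i with _ | i <;> simp [g, f, ι, Preadditive.add_comp, hqp]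
  refine ⟨cokernel f, cokernel.desc f g hg, ι 0 ≫ cokernel.π f, ?_, ?_⟩
  · rw [← cancel_epi (cokernel.π f)]
    simp only [cokernel.π_desc_assoc, Category.comp_id]
    refine Sigma.hom_ext _ _ fun i => ?_
    have hk : ι i ≫ cokernel.π f = p ≫ ι i ≫ cokernel.π f := by
      conv_lhs => rw [hsum i, Preadditive.add_comp, Category.assoc, Category.assoc, (hcoord i).1, add_zero]
    show ι i ≫ g ≫ ι 0 ≫ cokernel.π f = ι i ≫ cokernel.π f
    rw [hk]
    rcases i with _ | i
    · simp [g, ι]
    · rw [(hcoord i).2]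
      simp [g, ι]
  · simp [g, ι]

end Groth.Agent.S6796
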