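import Groth.Statements.S6798
import Mathlib

set_option autoImplicit false
open CategoryTheory CategoryTheory.Limits
universe v u
open CategoryTheory CategoryTheory.Preadditive

namespace Groth.Agent.S6798

/-- If `q ∘ j = 𝟙` in a preadditive category then `j` is a kernel and `q` a cokernel of `𝟙 - j ∘ q`. -/
theorem result {A : Type u} [Category.{v} A] [Preadditive A] {x y : A} (j : y ⟶ x) (q : x ⟶ y) (hqj : j ≫ q = 𝟙 y) : ∃ (hk : j ≫ (𝟙 x - q ≫ j) = 0) (hc : (𝟙 x - q ≫ j) ≫ q = 0), Nonempty (IsLimit (KernelFork.ofι j hk)) ∧ Nonempty (IsColimit (CokernelCofork.ofπ q hc)) := by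
  have hk : j ≫ (𝟙 x - q ≫ j) = 0 := by simp [← Category.assoc, hqj]
  have hc : (𝟙 x - q ≫ j) ≫ q = 0 := by simp [hqj]
  refine ⟨hk, hc, ⟨Fork.IsLimit.mk _ (fun s => s.ι ≫ q) (fun s => ?_) (fun s m hm => ?_)⟩,
    ⟨Cofork.IsColimit.mk _ (fun s => j ≫ s.π) (fun s => ?_) (fun s m hm => ?_)⟩⟩
  · show (s.ι ≫ q) ≫ j = s.ι
    have := s.condition
    simp only [Preadditive.comp_sub, Category.comp_id, comp_zero, sub_eq_zero] at this
    rw [Category.assoc]; exact this.symm
  · rw [← hm]
    show m = (m ≫ j) ≫ q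
    rw [Category.assoc, hqj]; exact (Category.comp_id m).symm
  · show q ≫ j ≫ s.π = s.π
    have := s.condition
    simp only [Preadditive.sub_comp, Category.id_comp, zero_comp, sub_eq_zero, Category.assoc] at this
    exact this.symm
  · rw [← hm]
    show m = j ≫ q ≫ m
    rw [← Category.assoc, hqj]; exact (Category.id_comp m).symm

end Groth.Agent.S6798
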