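import Groth.Statements.S6799
import Groth.Agent.CoskHom.Basic
-- import your own Groth.Agent.* helpers here

set_option autoImplicit false
open CategoryTheory Opposite
universe u
open SSet

namespace Groth.Agent.S6799

/-- Two maps between `n`-coskeletal simplicial sets which agree on simplices of dimension `< n` are
homotopic, by a single homotopy. -/
theorem result {U V : SSet.{u}} (f₀ f₁ : V ⟶ U) (n : ℕ) (h : ∀ i : ℕ, i < n → f₀.app (op (SimplexCategory.mk i)) = f₁.app (op (SimplexCategory.mk i))) [SimplicialObject.IsCoskeletal U n] [SimplicialObject.IsCoskeletal V n] : Nonempty (SSet.Homotopy f₀ f₁) := by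
  classical
  open MonoidalCategory CartesianMonoidalCategory in
  let P : ∀ {i : ℕ}, (SSet.stdSimplex.obj (SimplexCategory.mk 1) : SSet.{u}).obj (op (SimplexCategory.mk i)) → Prop :=
    fun t => ∀ k, SSet.stdSimplex.asOrderHom t k = 1
  let c : ∀ i, i ≤ n → (V ⊗ (SSet.stdSimplex.obj (SimplexCategory.mk 1) : SSet.{u})).obj (op (SimplexCategory.mk i)) →
      U.obj (op (SimplexCategory.mk i)) :=
    fun i _ p => if i = n ∧ P p.2 then f₁.app _ p.1 else f₀.app _ p.1
  have hnat₀ : ∀ {i j} (θ : SimplexCategory.mk j ⟶ SimplexCategory.mk i) v,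
      U.map θ.op (f₀.app _ v) = f₀.app _ (V.map θ.op v) := fun θ v =>
    congr($(f₀.naturality θ.op) v).symm
  have hnat₁ : ∀ {i j} (θ : SimplexCategory.mk j ⟶ SimplexCategory.mk i) v,
      U.map θ.op (f₁.app _ v) = f₁.app _ (V.map θ.op v) := fun θ v =>
    congr($(f₁.naturality θ.op) v).symm
  have hfac : ∀ {i j p} (ψ : SimplexCategory.mk p ⟶ SimplexCategory.mk i)
      (θ : SimplexCategory.mk j ⟶ SimplexCategory.mk p) v, p < n →
      f₀.app _ (V.map (θ ≫ ψ).op v) = f₁.app _ (V.map (θ ≫ ψ).op v) := by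
    intro i j p ψ θ v hp
    rw [op_comp, V.map_comp]
    show f₀.app _ (V.map θ.op (V.map ψ.op v)) = f₁.app _ (V.map θ.op (V.map ψ.op v))
    rw [← hnat₀, ← hnat₁, h p hp]
  obtain ⟨φ, hφ⟩ := Groth.Agent.CoskHom.exists_hom (G := V ⊗ SSet.stdSimplex.obj (SimplexCategory.mk 1))
    (X := U) (n := n) c (fun i j hi hj θ p => by
    obtain ⟨v, t⟩ := p
    show U.map θ.op (c i hi (v, t)) = c j hj (V.map θ.op v,
      (SSet.stdSimplex.obj (SimplexCategory.mk 1) : SSet.{u}).map θ.op t)
    have hP : ∀ k, SSet.stdSimplex.asOrderHom ((SSet.stdSimplex.obj (SimplexCategory.mk 1) : SSet.{u}).map θ.op t) k =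
        SSet.stdSimplex.asOrderHom t (θ.toOrderHom k) := fun k => rfl
    simp only [c]
    by_cases h1 : i = n ∧ P t
    · have hP' : P ((SSet.stdSimplex.obj (SimplexCategory.mk 1) : SSet.{u}).map θ.op t) := fun k =>
        (hP k).trans (h1.2 _)
      rw [if_pos h1]
      by_cases hjn : j = n
      · rw [if_pos ⟨hjn, hP'⟩, hnat₁]
      · rw [if_neg (fun e => hjn e.1), hnat₁, h j (lt_of_le_of_ne hj hjn)]
    · rw [if_neg h1, hnat₀]
      by_cases h2 : j = n ∧ P ((SSet.stdSimplex.obj (SimplexCategory.mk 1) : SSet.{u}).map θ.op t)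
      · rw [if_pos h2]
        by_cases hin : i = n
        · have hns : ¬ Function.Surjective θ.toOrderHom := fun hs => h1 ⟨hin, fun k => by
            obtain ⟨k', rfl⟩ := hs k
            exact (hP k').symm.trans (h2.2 k')⟩
          obtain _ | q := i
          · exact absurd (fun k => ⟨0, Subsingleton.elim (α := Fin 1) _ _⟩) hns
          obtain ⟨a, θ', hθ⟩ := SimplexCategory.eq_comp_δ_of_not_surjective θ hns
          rw [hθ]
          exact hfac _ θ' v (by omega)
        · have := hfac (𝟙 _) θ v (lt_of_le_of_ne hi hin)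
          rwa [Category.comp_id] at this
      · rw [if_neg h2])
  refine ⟨{ h := φ, h₀ := ?_, h₁ := ?_, rel := ?_ }⟩
  · apply Groth.Agent.CoskHom.hom_ext (n := n)
    intro i hi
    ext v
    refine (hφ i hi (SSet.ι₀.app _ v)).trans ?_
    simp only [c]
    rw [if_neg]
    · rfl
    · rintro ⟨-, hp⟩
      exact absurd (hp 0) (by
        show ¬ ((0 : Fin 2) = 1)
        decide)
  · apply Groth.Agent.CoskHom.hom_ext (n := n)
    intro i hi
    ext v
    refine (hφ i hi (SSet.ι₁.app _ v)).trans ?_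
    simp only [c]
    by_cases hin : i = n
    · rw [if_pos ⟨hin, fun k => rfl⟩]
      rfl
    · rw [if_neg (fun e => hin e.1), h i (lt_of_le_of_ne hi hin)]
      rfl
  · apply Groth.Agent.CoskHom.hom_ext (n := n)
    intro i hi
    ext ⟨⟨v, hv⟩, t⟩
    exact hv.elim

end Groth.Agent.S6799
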