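import Groth.Statements.S6800
import Mathlib
-- import your own Groth.Agent.* helpers here

set_option autoImplicit false
open CategoryTheory CategoryTheory.Limits
universe v u
open CategoryTheory CategoryTheory.SimplicialObject CategoryTheory.SimplicialObject.Truncated

namespace Groth.Agent.S6800

open SimplexCategory

instance finite_truncated (m : ℕ) : Finite (SimplexCategory.Truncated m) :=
  Finite.of_injective (fun x : SimplexCategory.Truncated m =>
      (⟨x.obj.len, Nat.lt_succ_of_le x.property⟩ : Fin (m + 1)))
    fun x y h => ObjectProperty.FullSubcategory.ext (SimplexCategory.ext (congrArg Fin.val h))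

instance finite_truncated_hom (m : ℕ) (x y : SimplexCategory.Truncated m) : Finite (x ⟶ y) :=
  Finite.of_injective (fun f => f.hom) fun f g h => InducedCategory.hom_ext h

theorem finite_sa (m : ℕ) (Y : SimplexCategoryᵒᵖ) :
    Nonempty (FinCategory (StructuredArrow Y (SimplexCategory.Truncated.inclusion m).op)) := by
  haveI : ∀ x y : (SimplexCategory.Truncated m)ᵒᵖ, Finite (x ⟶ y) := fun x y =>
    Finite.of_equiv _ (opEquiv x y).symm
  haveI : ∀ x y : SimplexCategoryᵒᵖ, Finite (x ⟶ y) := fun x y =>
    Finite.of_equiv _ (opEquiv x y).symm
  haveI : Finite (SimplexCategory.Truncated m)ᵒᵖ := Finite.of_equiv _ Opposite.equivToOpposite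
  haveI : Finite (StructuredArrow Y (SimplexCategory.Truncated.inclusion m).op) :=
    Finite.of_injective (fun a => (⟨a.right, a.hom⟩ :
      Σ r, Y ⟶ (SimplexCategory.Truncated.inclusion m).op.obj r)) fun a b h => by
      obtain ⟨l, r, f⟩ := a
      obtain ⟨l', r', f'⟩ := b
      obtain ⟨⟨⟩⟩ := l
      obtain ⟨⟨⟩⟩ := l'
      cases h
      rfl
  haveI : ∀ a b : StructuredArrow Y (SimplexCategory.Truncated.inclusion m).op, Finite (a ⟶ b) :=
    fun a b => Finite.of_injective (fun f => f.right) fun f g h => StructuredArrow.hom_ext f g h
  exact ⟨{ fintypeObj := Fintype.ofFinite _, fintypeHom := fun a b => Fintype.ofFinite _ }⟩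

/-- In a category with finite limits every truncated simplicial object has a pointwise right Kan
extension along the inclusion of the truncated simplex category, i.e. the coskeleton functors exist
and are given by the limit formula. -/
theorem result {C : Type u} [Category.{v} C] [HasFiniteLimits C] (m : ℕ) (U : (SimplexCategory.Truncated m)ᵒᵖ ⥤ C) : (SimplexCategory.Truncated.inclusion m).op.HasPointwiseRightKanExtension U := by
  intro Y
  obtain ⟨_⟩ := finite_sa m Y
  exact inferInstanceAs (HasLimit _)

end Groth.Agent.S6800
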