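import Groth.Statements.S6802
import Mathlib
-- import your own Groth.Agent.* helpers here

set_option autoImplicit false
open CategoryTheory
universe v u
open SpSeq SpSeq.FilObj

namespace Groth.Agent.S6802

open CategoryTheory CategoryTheory.Limits

theorem im_epi_comp {A : Type u} [Category.{v} A] [Abelian A] {X Y Z : A} (e : X ⟶ Y) [Epi e] (t : Y ⟶ Z) :
    imageSubobject (e ≫ t) = imageSubobject t := by
  have hle := imageSubobject_comp_le e t
  have : Mono (Subobject.ofLE _ _ hle) := inferInstance
  have : IsIso (Subobject.ofLE _ _ hle) := isIso_of_mono_of_epi _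
  refine le_antisymm hle (Subobject.le_of_comm (inv (Subobject.ofLE _ _ hle)) ?_)
  rw [IsIso.inv_comp_eq, Subobject.ofLE_arrow]

theorem im_comp {A : Type u} [Category.{v} A] [Abelian A] {X Y Z : A} (h : X ⟶ Y) (g : Y ⟶ Z) :
    imageSubobject (h ≫ g) = imageSubobject ((imageSubobject h).arrow ≫ g) := by
  conv_lhs => rw [← imageSubobject_arrow_comp h, Category.assoc]
  exact im_epi_comp _ _


/-- The composite of two strict morphisms of filtered objects is strict when the first one is an
epimorphism. -/
theorem result {A : Type u} [Category.{v} A] [Abelian A] {K L M : SpSeq.FilObj A} (f : K ⟶ L) (g : L ⟶ M) (hf : SpSeq.FilObj.IsStrict f) (hg : SpSeq.FilObj.IsStrict g) [Epi f.hom] : SpSeq.FilObj.IsStrict (f ≫ g) := by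
  intro p
  change imageSubobject ((K.fil p).arrow ≫ f.hom ≫ g.hom) = imageSubobject (f.hom ≫ g.hom) ⊓ M.fil p
  have htop : imageSubobject f.hom = ⊤ := by
    rw [← Category.comp_id f.hom, im_epi_comp, imageSubobject_mono]
    exact (Subobject.isIso_iff_mk_eq_top _).1 inferInstance
  rw [← Category.assoc, im_comp _ g.hom, hf p, htop, top_inf_eq, hg p, im_epi_comp]

end Groth.Agent.S6802
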