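import Groth.Statements.S6806
import Mathlib.AlgebraicTopology.DoldKan.Degeneracies
import Mathlib.AlgebraicTopology.DoldKan.Normalized
import Mathlib.CategoryTheory.Adjunction.Evaluation
import Mathlib.CategoryTheory.Limits.Shapes.FiniteProducts
-- import your own Groth.Agent.* helpers here

set_option autoImplicit false
open CategoryTheory CategoryTheory.Limits
universe v u
open CategoryTheory CategoryTheory.Abelian

namespace Groth.Agent.S6806

/-- For an `m`-truncated simplicial object `U` of an abelian category, the normalized Moore complex of
its free extension `i_{m!} U` (left adjoint of truncation) is zero in every degree `n > m`. Here the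
normalized complex in degree `n` is the intersection of the kernels of the faces `d_1, …, d_n`; the
published statement intersects the kernels of `d_0, …, d_{n-1}` instead, and the two versions
correspond under reversal of the ordering of each `[n]`, so both vanish. -/
theorem result {A : Type u} [Category.{v} A] [Abelian A] (m : ℕ) [∀ F : (SimplexCategory.Truncated m)ᵒᵖ ⥤ A, (SimplexCategory.Truncated.inclusion m).op.HasLeftKanExtension F] (U : SimplicialObject.Truncated A m) (n : ℕ) (hn : m < n) : AlgebraicTopology.NormalizedMooreComplex.objX ((SimplicialObject.Truncated.sk m).obj U) n = ⊥ := by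
  have : ∀ a b : SimplexCategoryᵒᵖ, HasProductsOfShape (a ⟶ b) A := fun a b =>
    have : Finite (a ⟶ b) := Finite.of_equiv _ (opEquiv a b).symm
    inferInstance
  let X := (SimplicialObject.Truncated.sk m).obj U
  let g : X.obj (Opposite.op (SimplexCategory.mk n)) ⟶ X.obj (Opposite.op (SimplexCategory.mk n)) :=
    (AlgebraicTopology.DoldKan.PInfty (X := X)).f n
  have hg : g = 0 := by
    let R : SimplicialObject A :=
      (evaluationRightAdjoint A (Opposite.op (SimplexCategory.mk n))).obj
        (X.obj (Opposite.op (SimplexCategory.mk n)))
    let Φ : X ⟶ R := (evaluationAdjunctionLeft A (Opposite.op (SimplexCategory.mk n))).homEquiv X _ g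
    have hΦ : Φ = 0 := by
      apply ((SimplicialObject.skAdj m).homEquiv U R).injective
      rw [Adjunction.homEquiv_unit, Adjunction.homEquiv_unit]
      congr 1
      apply NatTrans.ext
      funext a
      apply Pi.hom_ext
      intro θ
      have e : Φ.app ((SimplexCategory.Truncated.inclusion m).op.obj a) ≫ Pi.π _ θ =
          X.map θ ≫ g := by
        simp only [Φ, evaluationAdjunctionLeft, Adjunction.mkOfHomEquiv_homEquiv]
        exact Pi.lift_π _ _
      refine e.trans (Eq.trans ?_ zero_comp.symm)
      have hθ : ¬ Mono (Quiver.Hom.unop θ) := fun h => by
        have := SimplexCategory.len_le_of_mono (Quiver.Hom.unop θ)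
        have := a.unop.2
        simp at *
        omega
      exact AlgebraicTopology.DoldKan.degeneracy_comp_PInfty X n (Quiver.Hom.unop θ) hθ
    exact ((evaluationAdjunctionLeft A (Opposite.op (SimplexCategory.mk n))).homEquiv X _).injective
      (hΦ.trans (by
        apply NatTrans.ext; funext a
        dsimp [evaluationAdjunctionLeft]
        apply Pi.hom_ext; intro θ
        simp; exact zero_comp))
  have h := congrArg (fun φ => HomologicalComplex.Hom.f φ n)
    (AlgebraicTopology.DoldKan.inclusionOfMooreComplexMap_comp_PInfty X)
  have harrow : (AlgebraicTopology.NormalizedMooreComplex.objX X n).arrow = 0 := by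
    calc _ = (AlgebraicTopology.NormalizedMooreComplex.objX X n).arrow ≫ g := h.symm
      _ = 0 := by rw [hg]; exact comp_zero
  rw [← Subobject.mk_arrow (AlgebraicTopology.NormalizedMooreComplex.objX X n),
    Subobject.mk_eq_bot_iff_zero]
  exact harrow

end Groth.Agent.S6806
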