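import Groth.Statements.S6807
import Mathlib

set_option autoImplicit false
open CategoryTheory CategoryTheory.Limits
universe u
open HomAlg3

namespace Groth.Agent.S6807

open Opposite

variable (L L' : HomologicalComplex AddCommGrpCat.{u} (ComplexShape.up ℤ))

theorem iCycles_inj (m : ℤ) : Function.Injective (L.iCycles m) :=
  (AddCommGrpCat.mono_iff_injective _).1 inferInstance

theorem exists_cycle (m : ℤ) (x : L.X m) (h : L.d m (m + 1) x = 0) : ∃ z, L.iCycles m z = x :=
  (ShortComplex.ab_exact_iff (ShortComplex.mk (L.iCycles m) (L.d m (m + 1)) (L.iCycles_d m (m + 1)))).1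
    (ShortComplex.exact_of_f_is_kernel _ (L.cyclesIsKernel m (m + 1) (CochainComplex.next ℤ m))) x h

theorem d_iCycles (m : ℤ) (z : L.cycles m) : L.d m (m + 1) (L.iCycles m z) = 0 :=
  ConcreteCategory.congr_hom (L.iCycles_d m (m + 1)) z

theorem d_d (a b c : ℤ) (x : L.X a) : L.d b c (L.d a b x) = 0 :=
  ConcreteCategory.congr_hom (L.d_comp_d a b c) x

theorem homologyπ_surj (m : ℤ) : Function.Surjective (L.homologyπ m) :=
  (AddCommGrpCat.epi_iff_surjective _).1 inferInstance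

theorem homologyπ_zero_iff (m : ℤ) (z : L.cycles m) :
    L.homologyπ m z = 0 ↔ ∃ y : L.X (m - 1), L.d (m - 1) m y = L.iCycles m z := by
  constructor
  · intro h
    obtain ⟨y, hy⟩ := (ShortComplex.ab_exact_iff (ShortComplex.mk (L.toCycles (m - 1) m)
      (L.homologyπ m) (L.toCycles_comp_homologyπ _ _))).1
      (ShortComplex.exact_of_g_is_cokernel _ (L.homologyIsCokernel (m - 1) m (CochainComplex.prev ℤ m))) z h
    refine ⟨y, ?_⟩
    subst hy
    exact (ConcreteCategory.congr_hom (L.toCycles_i (m - 1) m) y).symm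
  · rintro ⟨y, hy⟩
    have : L.toCycles (m - 1) m y = z :=
      iCycles_inj L m ((ConcreteCategory.congr_hom (L.toCycles_i (m - 1) m) y).trans hy)
    rw [← this]
    exact ConcreteCategory.congr_hom (L.toCycles_comp_homologyπ (m - 1) m) y

variable {L L'}

theorem iCycles_nat (φ : L ⟶ L') (m : ℤ) (z : L.cycles m) :
    L'.iCycles m (HomologicalComplex.cyclesMap φ m z) = φ.f m (L.iCycles m z) :=
  ConcreteCategory.congr_hom (HomologicalComplex.cyclesMap_i φ m) z

theorem homologyπ_nat (φ : L ⟶ L') (m : ℤ) (z : L.cycles m) :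
    HomologicalComplex.homologyMap φ m (L.homologyπ m z) =
      L'.homologyπ m (HomologicalComplex.cyclesMap φ m z) :=
  ConcreteCategory.congr_hom (HomologicalComplex.homologyπ_naturality φ m) z

theorem sections_nonempty (F : ℕᵒᵖ ⥤ Type u) (hF : F.IsMittagLeffler) [∀ j, Nonempty (F.obj j)] :
    Nonempty F.sections := by
  haveI := fun j => F.toEventualRanges_nonempty hF j
  let E := F.toEventualRanges
  let z : ∀ m : ℕ, E.obj (op m) := fun m => Nat.rec (motive := fun m => E.obj (op m))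
    (Classical.arbitrary _)
    (fun m zm => Function.surjInv (F.surjective_toEventualRanges hF (homOfLE (Nat.le_succ m)).op) zm) m
  have hz : ∀ m, E.map (homOfLE (Nat.le_succ m)).op (z (m + 1)) = z m := fun m =>
    Function.surjInv_eq (F.surjective_toEventualRanges hF (homOfLE (Nat.le_succ m)).op) (z m)
  have hcomp : ∀ a b (h : a ≤ b), E.map (homOfLE h).op (z b) = z a := by
    intro a b h
    induction b, h using Nat.le_induction with
    | base => rw [show (homOfLE (le_refl a)).op = 𝟙 (op a) from rfl, E.map_id]; rfl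
    | succ b hab ih =>
      rw [show (homOfLE (hab.trans (Nat.le_succ b))).op =
        (homOfLE (Nat.le_succ b)).op ≫ (homOfLE hab).op from rfl, E.map_comp]
      exact (congrArg (E.map (homOfLE hab).op) (hz b)).trans ih
  exact ⟨F.toEventualRangesSectionsEquiv ⟨fun m => z m.unop, fun {a b} g => hcomp _ _ (leOfHom g.unop)⟩⟩

theorem torsor (X : ℕᵒᵖ ⥤ AddCommGrpCat.{u}) (P Z : ∀ j, X.obj j → Prop)
    (hne : ∀ j, ∃ y, P j y) (hP : ∀ {a b} (g : a ⟶ b) y, P a y → P b (X.map g y))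
    (hsub : ∀ j y y', P j y → P j y' → Z j (y - y'))
    (hadd : ∀ j y z, P j y → Z j z → P j (y + z))
    (hML : ∀ j, ∃ (i : _) (f : i ⟶ j), ∀ ⦃k⦄ (g : k ⟶ j) (z : X.obj i), Z i z →
      ∃ z', Z k z' ∧ X.map g z' = X.map f z) :
    ∃ s : ∀ j, X.obj j, (∀ j, P j (s j)) ∧ ∀ {a b : ℕᵒᵖ} (g : a ⟶ b), X.map g (s a) = s b := by
  let G : ℕᵒᵖ ⥤ Type u :=
    { obj := fun j => {y : X.obj j // P j y}
      map := fun g => ↾fun y => ⟨X.map g y.1, hP g y.1 y.2⟩
      map_id := fun j => by ext y; simp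
      map_comp := fun g g' => by ext y; simp }
  haveI : ∀ j, Nonempty (G.obj j) := fun j => nonempty_subtype.2 (hne j)
  obtain ⟨s⟩ := sections_nonempty G (fun j => by
    obtain ⟨i, f, h⟩ := hML j
    refine ⟨i, f, fun k g => ?_⟩
    rintro _ ⟨⟨y, hy⟩, rfl⟩
    obtain ⟨w, hw⟩ := hne (op (max k.unop i.unop))
    let gi : op (max k.unop i.unop) ⟶ i := (homOfLE (le_max_right _ _)).op
    let gk : op (max k.unop i.unop) ⟶ k := (homOfLE (le_max_left _ _)).op
    obtain ⟨z', hz', hzg⟩ := h g (y - X.map gi w) (hsub i _ _ hy (hP gi w hw))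
    refine ⟨⟨X.map gk w + z', hadd k _ _ (hP gk w hw) hz'⟩, Subtype.ext ?_⟩
    show X.map g (X.map gk w + z') = X.map f y
    rw [map_add, hzg, map_sub, ← CategoryTheory.comp_apply, ← CategoryTheory.comp_apply,
      ← X.map_comp, ← X.map_comp, Subsingleton.elim (gi ≫ f) (gk ≫ g)]
    abel)
  exact ⟨fun j => (s.1 j).1, fun j => (s.1 j).2, fun g => congrArg Subtype.val (s.2 g)⟩


/-- For an inverse system of cochain complexes of abelian groups over `ℕ` whose terms in degrees `n-2`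
and `n-1` form Mittag-Leffler systems and whose degree-`(n-1)` cohomologies form an essentially
constant system, the canonical map from the degree-`n` cohomology of the limit complex to the limit
of the degree-`n` cohomologies is an isomorphism. (The published statement is for four-term
complexes in degrees `-2, …, 1`; only those four degrees of a longer complex enter.) -/
theorem result (K : ℕᵒᵖ ⥤ HomologicalComplex AddCommGrpCat.{u} (ComplexShape.up ℤ)) (n : ℤ) (h2 : ((K ⋙ HomologicalComplex.eval _ _ (n - 2)) ⋙ forget AddCommGrpCat).IsMittagLeffler) (h1 : ((K ⋙ HomologicalComplex.eval _ _ (n - 1)) ⋙ forget AddCommGrpCat).IsMittagLeffler) (hH : ∃ (C₀ : AddCommGrpCat.{u}) (c : (Functor.const ℕᵒᵖ).obj C₀ ⟶ K ⋙ HomologicalComplex.homologyFunctor _ _ (n - 1)), DerCA.IsEssConstant (K ⋙ HomologicalComplex.homologyFunctor _ _ (n - 1)) C₀ c) : IsIso (limit.post K (HomologicalComplex.homologyFunctor _ _ n)) := by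
  obtain ⟨C₀, c, i₀, s₀, hs₀, hfac⟩ := hH
  let T : ∀ {a b : ℕᵒᵖ} (g : a ⟶ b) (m : ℤ), (K.obj a).X m → (K.obj b).X m :=
    fun g m x => (K.map g).f m x
  have Tcomp : ∀ {a b d : ℕᵒᵖ} (g : a ⟶ b) (g' : b ⟶ d) (r : a ⟶ d) (m : ℤ) (x : (K.obj a).X m),
      T g' m (T g m x) = T r m x := by
    intro a b d g g' r m x
    rw [Subsingleton.elim r (g ≫ g')]
    show _ = (K.map (g ≫ g')).f m x
    rw [K.map_comp, HomologicalComplex.comp_f]
    rfl
  have Td : ∀ {a b : ℕᵒᵖ} (g : a ⟶ b) (m m' : ℤ) (x : (K.obj a).X m),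
      (K.obj b).d m m' (T g m x) = T g m' ((K.obj a).d m m' x) := fun g m m' x =>
    ConcreteCategory.congr_hom ((K.map g).comm m m') x
  -- Mittag-Leffler for the cycles in degree `n - 1`
  have hHML : ∀ j : ℕᵒᵖ, ∃ (i : ℕᵒᵖ) (f : i ⟶ j), ∀ ⦃k : ℕᵒᵖ⦄ (g : k ⟶ j) (h : (K.obj i).homology (n - 1)),
      ∃ h' : (K.obj k).homology (n - 1),
        HomologicalComplex.homologyMap (K.map g) (n - 1) h' = HomologicalComplex.homologyMap (K.map f) (n - 1) h := by
    intro j
    obtain ⟨k₀, hi, hj, htr⟩ := hfac j.unop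
    refine ⟨op k₀, (homOfLE hj).op, fun k g h => ?_⟩
    let v : C₀ := s₀ ((K ⋙ HomologicalComplex.homologyFunctor _ _ (n - 1)).map (homOfLE hi).op h)
    refine ⟨c.app k v, ?_⟩
    have e1 : HomologicalComplex.homologyMap (K.map g) (n - 1) (c.app k v) = c.app j v :=
      (ConcreteCategory.congr_hom (c.naturality g) v).symm
    rw [e1]
    exact (ConcreteCategory.congr_hom htr h).symm
  have hZ : ∀ j : ℕᵒᵖ, ∃ (i : ℕᵒᵖ) (f : i ⟶ j), ∀ ⦃k : ℕᵒᵖ⦄ (g : k ⟶ j) (z : (K.obj i).X (n - 1)),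
      (K.obj i).d (n - 1) n z = 0 → ∃ z' : (K.obj k).X (n - 1),
        (K.obj k).d (n - 1) n z' = 0 ∧ T g (n - 1) z' = T f (n - 1) z := by
    intro j
    obtain ⟨i₁, f₁, h₁⟩ := h2 j
    obtain ⟨i₂, f₂, h₂⟩ := hHML i₁
    refine ⟨i₂, f₂ ≫ f₁, fun k g z hz => ?_⟩
    let k' : ℕᵒᵖ := op (max k.unop i₁.unop)
    let gk : k' ⟶ k := (homOfLE (le_max_left _ _)).op
    let g₁ : k' ⟶ i₁ := (homOfLE (le_max_right _ _)).op
    obtain ⟨zc, rfl⟩ := exists_cycle (K.obj i₂) (n - 1) z (by rwa [show n - 1 + 1 = n by omega])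
    obtain ⟨h', hh'⟩ := h₂ g₁ ((K.obj i₂).homologyπ (n - 1) zc)
    obtain ⟨zc', rfl⟩ := homologyπ_surj (K.obj k') (n - 1) h'
    rw [homologyπ_nat, homologyπ_nat, ← sub_eq_zero, ← map_sub, homologyπ_zero_iff] at hh'
    obtain ⟨w, hw⟩ : ∃ w : (K.obj i₁).X (n - 2), (K.obj i₁).d (n - 2) (n - 1) w =
        (K.obj i₁).iCycles (n - 1) (HomologicalComplex.cyclesMap (K.map g₁) (n - 1) zc' -
          HomologicalComplex.cyclesMap (K.map f₂) (n - 1) zc) := by
      rw [show n - 2 = n - 1 - 1 by omega]; exact hh'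
    rw [map_sub, iCycles_nat, iCycles_nat] at hw
    obtain ⟨w', hw''⟩ : ∃ w' : (K.obj k').X (n - 2), T (gk ≫ g) (n - 2) w' = T f₁ (n - 2) w :=
      h₁ (gk ≫ g) ⟨w, rfl⟩
    refine ⟨T gk (n - 1) ((K.obj k').iCycles (n - 1) zc' - (K.obj k').d (n - 2) (n - 1) w'), ?_, ?_⟩
    · rw [Td, map_sub]
      have e1 := d_iCycles (K.obj k') (n - 1) zc'
      rw [show n - 1 + 1 = n by omega] at e1
      rw [e1, d_d, sub_zero]
      exact map_zero _
    · rw [Tcomp gk g (gk ≫ g) (n - 1)]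
      show (K.map (gk ≫ g)).f (n - 1) (_ - _) = _
      rw [map_sub]
      show T (gk ≫ g) (n - 1) _ - T (gk ≫ g) (n - 1) _ = _
      rw [← Td, hw'', Td, hw]
      show _ - (K.map f₁).f (n - 1) (T g₁ (n - 1) _ - T f₂ (n - 1) _) = _
      rw [map_sub]
      show _ - (T f₁ (n - 1) (T g₁ (n - 1) _) - T f₁ (n - 1) (T f₂ (n - 1) _)) = _
      rw [Tcomp g₁ f₁ (gk ≫ g), Tcomp f₂ f₁ (f₂ ≫ f₁)]
      abel
  -- Mittag-Leffler for the boundaries in degree `n`
  have hB : ∀ j : ℕᵒᵖ, ∃ (i : ℕᵒᵖ) (f : i ⟶ j), ∀ ⦃k : ℕᵒᵖ⦄ (g : k ⟶ j) (z : (K.obj i).X n),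
      (∃ y, (K.obj i).d (n - 1) n y = z) → ∃ z' : (K.obj k).X n,
        (∃ y, (K.obj k).d (n - 1) n y = z') ∧ T g n z' = T f n z := by
    intro j
    obtain ⟨i, f, h⟩ := h1 j
    refine ⟨i, f, fun k g z hz => ?_⟩
    obtain ⟨y, rfl⟩ := hz
    obtain ⟨y', hy'⟩ := h g ⟨y, rfl⟩
    refine ⟨_, ⟨y', rfl⟩, ?_⟩
    have : T g (n - 1) y' = T f (n - 1) y := hy'
    exact (Td g _ _ y').symm.trans ((congrArg _ this).trans (Td f _ _ y))
  -- the degreewise limits
  have hext : ∀ (m : ℤ) (s : ∀ j : ℕᵒᵖ, (K.obj j).X m), (∀ {a b : ℕᵒᵖ} (g : a ⟶ b), T g m (s a) = s b) →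
      ∃ x : (limit K).X m, ∀ j, (limit.π K j).f m x = s j := by
    intro m s hs
    let hl := isLimitOfPreserves (HomologicalComplex.eval _ _ m ⋙ forget AddCommGrpCat) (limit.isLimit K)
    exact ⟨(Types.isLimitEquivSections hl).symm ⟨s, fun g => hs g⟩,
      fun j => Types.isLimitEquivSections_symm_apply hl ⟨s, fun g => hs g⟩ j⟩
  have hjoint : ∀ (m : ℤ) (x x' : (limit K).X m),
      (∀ j, (limit.π K j).f m x = (limit.π K j).f m x') → x = x' := fun m x x' h => by
    let hl := isLimitOfPreserves (HomologicalComplex.eval _ _ m ⋙ forget AddCommGrpCat) (limit.isLimit K)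
    exact (Types.isLimitEquivSections hl).injective (Subtype.ext (funext h))
  have hπc : ∀ {a b : ℕᵒᵖ} (g : a ⟶ b) (m : ℤ) (x : (limit K).X m),
      T g m ((limit.π K a).f m x) = (limit.π K b).f m x := by
    intro a b g m x
    rw [← limit.w K g, HomologicalComplex.comp_f]
    rfl
  let F := HomologicalComplex.homologyFunctor AddCommGrpCat.{u} (ComplexShape.up ℤ) n
  have hpost : ∀ (j : ℕᵒᵖ) (h : (limit K).homology n),
      limit.π (K ⋙ F) j (limit.post K F h) = HomologicalComplex.homologyMap (limit.π K j) n h :=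
    fun j h => ConcreteCategory.congr_hom (limit.post_π K F j) h
  suffices hbij : Function.Bijective (limit.post K F) from
    (ConcreteCategory.isIso_iff_bijective _).2 hbij
  constructor
  · intro h h' hh
    rw [← sub_eq_zero]
    have hd : limit.post K F (h - h') = 0 := by rw [map_sub, hh, sub_self]
    obtain ⟨z, hz⟩ := homologyπ_surj (limit K) n (h - h')
    rw [← hz] at hd ⊢
    have hy : ∀ j, ∃ y, (K.obj j).d (n - 1) n y = (limit.π K j).f n ((limit K).iCycles n z) := by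
      intro j
      have h0 : (K.obj j).homologyπ n (HomologicalComplex.cyclesMap (limit.π K j) n z) = 0 := by
        have := hpost j ((limit K).homologyπ n z)
        rw [hd, map_zero, homologyπ_nat] at this
        exact this.symm
      rw [homologyπ_zero_iff, iCycles_nat] at h0
      exact h0
    obtain ⟨y, hyP, hyc⟩ := torsor (K ⋙ HomologicalComplex.eval _ _ (n - 1))
      (fun j y => (K.obj j).d (n - 1) n y = (limit.π K j).f n ((limit K).iCycles n z))
      (fun j y => (K.obj j).d (n - 1) n y = 0) hy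
      (fun {a b} g y hya => (Td g (n - 1) n y).trans ((congrArg (T g n) hya).trans (hπc g n _)))
      (fun j y y' hy hy' =>
        (map_sub ((K.obj j).d (n - 1) n).hom y y').trans (sub_eq_zero.2 (hy.trans hy'.symm)))
      (fun j y z hy hz =>
        (map_add ((K.obj j).d (n - 1) n).hom y z).trans ((congrArg₂ (· + ·) hy hz).trans (add_zero _)))
      hZ
    obtain ⟨x, hx⟩ := hext (n - 1) y hyc
    refine (homologyπ_zero_iff _ _ _).2 ⟨x, hjoint _ _ _ fun j => ?_⟩
    exact (ConcreteCategory.congr_hom ((limit.π K j).comm (n - 1) n) x).symm.trans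
      ((congrArg _ (hx j)).trans (hyP j))
  · intro w
    let h : ∀ j, (K.obj j).homology n := fun j => limit.π (K ⋙ F) j w
    have hh : ∀ {a b : ℕᵒᵖ} (g : a ⟶ b), HomologicalComplex.homologyMap (K.map g) n (h a) = h b :=
      fun g => ConcreteCategory.congr_hom (limit.w (K ⋙ F) g) w
    obtain ⟨x, hxP, hxc⟩ := torsor (K ⋙ HomologicalComplex.eval _ _ n)
      (fun j x => ∃ zc, (K.obj j).iCycles n zc = x ∧ (K.obj j).homologyπ n zc = h j)
      (fun j x => ∃ y, (K.obj j).d (n - 1) n y = x)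
      (fun j => by
        obtain ⟨zc, hzc⟩ := homologyπ_surj (K.obj j) n (h j)
        exact ⟨_, zc, rfl, hzc⟩)
      (fun {a b} g x hx => by
        obtain ⟨zc, rfl, hzc⟩ := hx
        exact ⟨_, iCycles_nat _ _ _, by rw [← homologyπ_nat, hzc, hh]⟩)
      (fun j x x' hx hx' => by
        obtain ⟨zc, rfl, hzc⟩ := hx
        obtain ⟨zc', rfl, hzc'⟩ := hx'
        obtain ⟨y, hy⟩ := (homologyπ_zero_iff _ _ (zc - zc')).1 (by rw [map_sub, hzc, hzc', sub_self])
        exact ⟨y, hy.trans (map_sub _ _ _)⟩)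
      (fun j x z hx hz => by
        obtain ⟨zc, rfl, hzc⟩ := hx
        obtain ⟨y, rfl⟩ := hz
        obtain ⟨w, hw⟩ := exists_cycle (K.obj j) n ((K.obj j).d (n - 1) n y) (d_d _ _ _ _ _)
        refine ⟨zc + w, (map_add _ zc w).trans (congrArg (fun t => (K.obj j).iCycles n zc + t) hw), ?_⟩
        rw [map_add, hzc, (homologyπ_zero_iff _ _ w).2 ⟨y, hw.symm⟩, add_zero])
      hB
    obtain ⟨xl, hxl⟩ := hext n x hxc
    obtain ⟨zl, hzl⟩ := exists_cycle (limit K) n xl (hjoint _ _ _ fun j => by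
      obtain ⟨zc, hzc, -⟩ := hxP j
      refine (ConcreteCategory.congr_hom ((limit.π K j).comm n (n + 1)) xl).symm.trans ?_
      show (K.obj j).d n (n + 1) ((limit.π K j).f n xl) = _
      rw [hxl, ← hzc, d_iCycles, map_zero])
    refine ⟨(limit K).homologyπ n zl, Concrete.limit_ext _ _ _ fun j => ?_⟩
    obtain ⟨zc, hzc, hzh⟩ := hxP j
    refine (hpost j _).trans ?_
    rw [homologyπ_nat]
    refine Eq.trans ?_ hzh
    congr 1
    apply iCycles_inj
    rw [iCycles_nat, hzl, hxl, hzc]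

end Groth.Agent.S6807
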