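import Groth.Statements.S6811
import Groth.Agent.S6800
import Mathlib.AlgebraicTopology.SimplicialObject.Coskeletal
import Mathlib.CategoryTheory.Functor.KanExtension.Pointwise

set_option autoImplicit false
set_option backward.isDefEq.respectTransparency false
set_option backward.isDefEq.respectTransparency.types false
open CategoryTheory CategoryTheory.Limits
universe v u
open CategoryTheory CategoryTheory.SimplicialObject

namespace Groth.Agent.S6811

/-- In a category with finite limits, an `n`-coskeletal simplicial object is `m`-coskeletal for every `m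
≥ n`. -/
theorem result {C : Type u} [Category.{v} C] [HasFiniteLimits C] (U : SimplicialObject C) {n m : ℕ} (h : n ≤ m) [U.IsCoskeletal n] : U.IsCoskeletal m := by
  have : ∀ V : (SimplexCategory.Truncated n)ᵒᵖ ⥤ C,
      (SimplexCategory.Truncated.inclusion n).op.HasPointwiseRightKanExtension V :=
    fun V => Groth.Agent.S6800.result n V
  have hε := Functor.isPointwiseRightKanExtensionOfIsRightKanExtension U
    (𝟙 ((SimplexCategory.Truncated.inclusion n).op ⋙ U))
  have hext : ∀ {Z : C} {d : SimplexCategoryᵒᵖ} {p q : Z ⟶ U.obj d},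
      (∀ j : StructuredArrow d (SimplexCategory.Truncated.inclusion n).op, p ≫ U.map j.hom = q ≫ U.map j.hom) →
        p = q := fun {Z d p q} hpq => (hε d).hom_ext fun j => by
    change p ≫ U.map j.hom ≫ 𝟙 _ = q ≫ U.map j.hom ≫ 𝟙 _
    rw [Category.comp_id]
    exact hpq j
  let up : (SimplexCategory.Truncated n)ᵒᵖ → (SimplexCategory.Truncated m)ᵒᵖ := fun a =>
    Opposite.op ⟨a.unop.1, le_trans a.unop.2 h⟩
  let upMap : ∀ {a b : (SimplexCategory.Truncated n)ᵒᵖ}, (a ⟶ b) → (up a ⟶ up b) := fun {a b} f =>
    (show (⟨b.unop.1, le_trans b.unop.2 h⟩ : SimplexCategory.Truncated m) ⟶ ⟨a.unop.1, le_trans a.unop.2 h⟩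
      from ObjectProperty.homMk f.unop.hom).op
  refine ⟨⟨⟨IsTerminal.ofUniqueHom (fun E => ?_) (fun E φ => ?_)⟩⟩⟩
  · let β : (SimplexCategory.Truncated.inclusion n).op ⋙ E.left ⟶ (SimplexCategory.Truncated.inclusion n).op ⋙ U :=
      { app := fun a => E.hom.app (up a)
        naturality := fun a b f => E.hom.naturality (upMap f) }
    refine CostructuredArrow.homMk (U.liftOfIsRightKanExtension (𝟙 _) E.left β) ?_
    ext a
    change (U.liftOfIsRightKanExtension (𝟙 _) E.left β).app _ ≫ 𝟙 _ = _
    rw [Category.comp_id]
    refine hext fun j => ?_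
    rw [← NatTrans.naturality]
    have e := U.liftOfIsRightKanExtension_fac_app (L := (SimplexCategory.Truncated.inclusion n).op) (𝟙 _) E.left β j.right
    replace e := (Category.comp_id _).symm.trans e
    rw [e]
    exact E.hom.naturality (X := a) (Y := up j.right)
      (show (⟨j.right.unop.1, le_trans j.right.unop.2 h⟩ : SimplexCategory.Truncated m) ⟶ a.unop
        from ObjectProperty.homMk j.hom.unop).op
  · refine CostructuredArrow.hom_ext _ _ (U.hom_ext_of_isRightKanExtension (L := (SimplexCategory.Truncated.inclusion n).op) (𝟙 _) _ _ ?_)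
    ext a
    have e := congr_app (CostructuredArrow.w φ) (up a)
    have e' := U.liftOfIsRightKanExtension_fac_app (L := (SimplexCategory.Truncated.inclusion n).op) (𝟙 _) E.left
      { app := fun a => E.hom.app (up a)
        naturality := fun a b f => E.hom.naturality (upMap f) } a
    exact e.trans e'.symm

end Groth.Agent.S6811
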