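import Groth.Statements.S6812
-- import your own Groth.Agent.* helpers here

set_option autoImplicit false
open CategoryTheory
universe u
open SSet Opposite
open scoped Simplicial

namespace Groth.Agent.S6812

lemma mem_skeleton_sk (n : ℕ) (T : SSet.Truncated.{u} n) {m : ℕ}
    (x : ((SSet.Truncated.sk n).obj T) _⦋m⦌) :
    x ∈ (((SSet.Truncated.sk n).obj T).skeleton (n + 1)).obj _ := by
  let X := (SSet.Truncated.sk n).obj T
  let S := X.skeleton (n + 1)
  have htop : IsIso ((SSet.truncation n).map S.ι) := by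
    have : ∀ a, IsIso (((SSet.truncation n).map S.ι).app a) := by
      intro a
      rw [isIso_iff_bijective]
      obtain ⟨⟨⟨d⟩, hd⟩⟩ := a
      have hd' : d < n + 1 := Nat.lt_succ_of_le hd
      refine ⟨fun u v h => Subtype.ext h, fun v => ⟨⟨v, ?_⟩, rfl⟩⟩
      exact SSet.mem_skeleton (X := X) (n := n + 1) v hd'
    exact NatIso.isIso_of_isIso_app _
  let g : X ⟶ (S : SSet) := ((SSet.skAdj n).homEquiv T (S : SSet)).symm
    ((SSet.skAdj n).unit.app T ≫ inv ((SSet.truncation n).map S.ι))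
  have hg : g ≫ S.ι = 𝟙 X := by
    apply ((SSet.skAdj n).homEquiv T X).injective
    rw [Adjunction.homEquiv_naturality_right, Equiv.apply_symm_apply, Category.assoc,
      IsIso.inv_hom_id, Category.comp_id, Adjunction.homEquiv_id]
  have := congrArg (fun φ : X ⟶ X => φ.app _ x) hg
  simp only at this
  rw [← show (g ≫ S.ι).app _ x = x from this]
  exact (g.app _ x).2

/-- For a simplicial set `U`, the counit `i_{n!} sk_n U ⟶ U` of the skeleton adjunction is a
monomorphism whose image is the subcomplex of `U` generated by its simplices of dimension `≤ n`. -/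
theorem result (U : SSet.{u}) (n : ℕ) : Mono ((SSet.skAdj n).counit.app U) ∧ SSet.Subcomplex.range ((SSet.skAdj n).counit.app U) = U.skeleton (n + 1) := by
  let ε := (SSet.skAdj n).counit.app U
  let T := (SSet.truncation n).obj U
  let X := (SSet.Truncated.sk n).obj T
  have h1 : IsIso ((SSet.truncation n).map ε) := by
    have hu' := NatIso.isIso_app_of_isIso (SSet.skAdj n).unit T
    have h2 : IsIso ((SSet.skAdj n).unit.app T ≫ (SSet.truncation n).map ε) := by
      rw [(SSet.skAdj n).right_triangle_components]; exact IsIso.id _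
    exact IsIso.of_isIso_comp_left ((SSet.skAdj n).unit.app T) _
  have hbij : ∀ d, d ≤ n → Function.Bijective (ε.app (op ⦋d⦌) : X _⦋d⦌ → U _⦋d⦌) := by
    intro d hd
    exact (isIso_iff_bijective _).1
      (inferInstance : IsIso (((SSet.truncation n).map ε).app (op ⟨⦋d⦌, hd⟩)))
  have hnd : ∀ d, d ≤ n → ∀ y : X _⦋d⦌, y ∈ X.nonDegenerate d →
      ε.app (op ⦋d⦌) y ∈ U.nonDegenerate d := by
    intro d hd y hy
    rw [SSet.mem_nonDegenerate_iff_notMem_degenerate] at hy ⊢
    intro h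
    apply hy
    rw [SSet.mem_degenerate_iff] at h
    obtain ⟨d', hd', f, hf, z, hz⟩ := h
    obtain ⟨z', rfl⟩ := (hbij d' (le_of_lt (lt_of_lt_of_le hd' hd))).2 z
    rw [SSet.mem_degenerate_iff]
    refine ⟨d', hd', f, hf, z', (hbij d hd).1 ?_⟩
    rw [← hz]
    exact ConcreteCategory.congr_hom (ε.naturality f.op) z'
  have hdec : ∀ {m : ℕ} (x : X _⦋m⦌), ∃ (d : ℕ) (_ : d ≤ n) (f : ⦋m⦌ ⟶ ⦋d⦌) (_ : Epi f)
      (y : X.nonDegenerate d), x = X.map f.op y.1 := by
    intro m x
    obtain ⟨d, f, hf, y, hxy⟩ := X.exists_nonDegenerate x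
    refine ⟨d, ?_, f, hf, y, hxy⟩
    have := mem_skeleton_sk n T y.1
    exact Nat.le_of_lt_succ ((SSet.mem_skeleton_obj_iff_of_nonDegenerate (X := X) y (n + 1)).1 this)
  refine ⟨?_, ?_⟩
  · have : ∀ a, Mono (ε.app a) := by
      rintro ⟨⟨m⟩⟩
      rw [mono_iff_injective]
      intro x x' h
      obtain ⟨d, hd, f, hf, y, rfl⟩ := hdec x
      obtain ⟨d', hd', f', hf', y', rfl⟩ := hdec x'
      have e1 : ε.app _ (X.map f.op y.1) = U.map f.op (ε.app _ y.1) :=
        ConcreteCategory.congr_hom (ε.naturality f.op) y.1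
      have h2 : ε.app _ (X.map f.op y.1) = U.map f'.op (ε.app _ y'.1) :=
        h.trans (ConcreteCategory.congr_hom (ε.naturality f'.op) y'.1)
      have hdd := U.unique_nonDegenerate_dim _ f ⟨_, hnd d hd _ y.2⟩ e1 f' ⟨_, hnd d' hd' _ y'.2⟩ h2
      subst hdd
      have hy := U.unique_nonDegenerate_simplex _ f ⟨_, hnd d hd _ y.2⟩ e1 f' ⟨_, hnd d hd _ y'.2⟩ h2
      have hff := U.unique_nonDegenerate_map _ f ⟨_, hnd d hd _ y.2⟩ e1 f' ⟨_, hnd d hd _ y'.2⟩ h2
      subst hff
      rw [Subtype.ext_iff] at hy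
      rw [(hbij d hd).1 hy]
    exact NatTrans.mono_of_mono_app _
  · apply le_antisymm
    · rintro ⟨⟨m⟩⟩ _ ⟨x, rfl⟩
      obtain ⟨d, hd, f, hf, y, rfl⟩ := hdec x
      have e1 : ε.app _ (X.map f.op y.1) = U.map f.op (ε.app _ y.1) :=
        ConcreteCategory.congr_hom (ε.naturality f.op) y.1
      rw [show (((SSet.skAdj n).counit.app U).app _ (X.map f.op y.1)) = _ from e1]
      exact (U.skeleton (n + 1)).map f.op (SSet.mem_skeleton (X := U) _ (Nat.lt_succ_of_le hd))
    · refine iSup₂_le fun i y => ?_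
      rw [SSet.Subcomplex.ofSimplex_le_iff]
      exact (hbij i (Nat.le_of_lt_succ i.2)).2 y.1

end Groth.Agent.S6812
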