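import Groth.Statements.S6813
import Mathlib
-- import your own Groth.Agent.* helpers here

set_option autoImplicit false
set_option backward.isDefEq.respectTransparency.types false
open CategoryTheory CategoryTheory.Limits
universe v u
open CategoryTheory CategoryTheory.SimplicialObject

namespace Groth.Agent.S6813

section
open CategoryTheory CategoryTheory.Limits Opposite Simplicial

abbrev J (k : ℕ) (Y : SimplexCategoryᵒᵖ) := StructuredArrow Y (SimplexCategory.Truncated.inclusion k).op

noncomputable def vertex (k : ℕ) (n : ℕ) (i : Fin (n + 1)) : J k (op (SimplexCategory.mk n)) :=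
  StructuredArrow.mk (Y := op (⟨SimplexCategory.mk 0, Nat.zero_le k⟩ : SimplexCategory.Truncated k))
    (SimplexCategory.const (SimplexCategory.mk 0) (SimplexCategory.mk n) i).op

theorem isConnected_J (k : ℕ) (hk : 1 ≤ k) (Y : SimplexCategoryᵒᵖ) : IsConnected (J k Y) := by
  obtain ⟨⟨n⟩⟩ := Y
  haveI : Nonempty (J k (op (SimplexCategory.mk n))) := ⟨vertex k n 0⟩
  have h1 : ∀ o : J k (op (SimplexCategory.mk n)), ∃ i, Zigzag o (vertex k n i) := fun o => by
    refine ⟨o.hom.unop.toOrderHom 0, Zigzag.of_hom (StructuredArrow.homMk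
      (ObjectProperty.homMk (SimplexCategory.const (SimplexCategory.mk 0) o.right.unop.obj 0)).op ?_)⟩
    apply Quiver.Hom.unop_inj
    exact SimplexCategory.const_comp (SimplexCategory.mk 0) o.hom.unop 0
  have h2 : ∀ i j : Fin (n + 1), i ≤ j → Zigzag (vertex k n i) (vertex k n j) := fun i j h => by
    let e : J k (op (SimplexCategory.mk n)) :=
      StructuredArrow.mk (Y := op (⟨SimplexCategory.mk 1, hk⟩ : SimplexCategory.Truncated k))
        (SimplexCategory.mkOfLe i j h).op
    have f : ∀ (t : Fin 2) (l : Fin (n + 1)), (SimplexCategory.mkOfLe i j h).toOrderHom t = l →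
        Zigzag e (vertex k n l) := fun t l hl => Zigzag.of_hom (StructuredArrow.homMk
      (ObjectProperty.homMk (SimplexCategory.const (SimplexCategory.mk 0) (SimplexCategory.mk 1) t)).op (by
        apply Quiver.Hom.unop_inj
        show SimplexCategory.const (SimplexCategory.mk 0) (SimplexCategory.mk 1) t ≫
          SimplexCategory.mkOfLe i j h = SimplexCategory.const (SimplexCategory.mk 0) (SimplexCategory.mk n) l
        rw [SimplexCategory.const_comp, hl]))
    exact (f 0 i rfl).symm.trans (f 1 j rfl)
  refine zigzag_isConnected fun a b => ?_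
  obtain ⟨i, hi⟩ := h1 a
  obtain ⟨j, hj⟩ := h1 b
  refine hi.trans (Zigzag.trans ?_ hj.symm)
  rcases le_total i j with h | h
  · exact h2 i j h
  · exact (h2 j i h).symm

theorem finite_J (k : ℕ) (Y : SimplexCategoryᵒᵖ) : Nonempty (FinCategory (J k Y)) := by
  classical
  haveI : Finite (SimplexCategory.Truncated k) := Finite.of_injective
    (fun x => (⟨x.obj.len, Nat.lt_succ_of_le x.2⟩ : Fin (k + 1))) fun x y h =>
      ObjectProperty.FullSubcategory.ext (SimplexCategory.ext (congrArg Fin.val h))
  haveI hfin : ∀ a b : SimplexCategory, Finite (a ⟶ b) := fun a b => inferInstance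
  haveI : ∀ a b : SimplexCategory.Truncated k, Finite (a ⟶ b) := fun a b =>
    Finite.of_injective (fun f => f.hom) fun f g h => ObjectProperty.hom_ext _ h
  haveI : ∀ a b : SimplexCategoryᵒᵖ, Finite (a ⟶ b) := fun a b =>
    Finite.of_injective (fun f => f.unop) Quiver.Hom.unop_inj
  haveI : Finite (SimplexCategory.Truncated k)ᵒᵖ := Finite.of_equiv _ Opposite.equivToOpposite
  haveI : Finite (J k Y) := Finite.of_injective
    (fun o => (⟨o.right, o.hom⟩ : Σ r : (SimplexCategory.Truncated k)ᵒᵖ,
      Y ⟶ (SimplexCategory.Truncated.inclusion k).op.obj r)) fun a b h => by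
        obtain ⟨⟨⟩, ra, fa⟩ := a
        obtain ⟨⟨⟩, rb, fb⟩ := b
        cases h
        rfl
  haveI : ∀ a b : J k Y, Finite (a ⟶ b) := fun a b =>
    Finite.of_injective (fun f => f.right.unop) fun f g h => StructuredArrow.hom_ext _ _ (Quiver.Hom.unop_inj h)
  exact ⟨{ fintypeObj := Fintype.ofFinite _, fintypeHom := fun _ _ => Fintype.ofFinite _ }⟩

end

/-- For `k ≥ 1` the forgetful functor from the over category `C/X` to `C` (with `C` having finite
limits) commutes with `cosk_k`; stated as: a `k`-coskeletal simplicial object of `C/X` has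
`k`-coskeletal underlying simplicial object in `C`. -/
theorem result {C : Type u} [Category.{v} C] [HasFiniteLimits C] (X : C) (k : ℕ) (hk : 1 ≤ k) (V : SimplicialObject (Over X)) [V.IsCoskeletal k] : SimplicialObject.IsCoskeletal (V ⋙ Over.forget X) k := by
  let ι := (SimplexCategory.Truncated.inclusion k).op
  haveI hconn : ∀ Y, IsConnected (StructuredArrow Y ι) := isConnected_J k hk
  haveI : ∀ Y, FinCategory (StructuredArrow Y ι) := fun Y => (finite_J k Y).some
  haveI : ι.HasPointwiseRightKanExtension (ι ⋙ V) := fun Y => by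
    show HasLimit _
    infer_instance
  haveI := (inferInstance : V.IsCoskeletal k).isRightKanExtension
  let E := Functor.RightExtension.mk V (𝟙 (ι ⋙ V))
  have hE : E.IsPointwiseRightKanExtension :=
    Functor.isPointwiseRightKanExtensionOfIsRightKanExtension V (𝟙 (ι ⋙ V))
  have hE' : (Functor.RightExtension.mk (V ⋙ Over.forget X) (𝟙 (ι ⋙ V ⋙ Over.forget X))).IsPointwiseRightKanExtension :=
    fun Y => IsLimit.ofIsoLimit (isLimitOfPreserves (Over.forget X) (hE Y))
      (Cone.ext (Iso.refl _) (fun j => by
        simp [E]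
        all_goals first
          | rfl
          | (erw [Category.id_comp]; rfl)
          | (erw [Category.id_comp, Category.comp_id, Category.comp_id]; rfl)))
  exact ⟨hE'.isRightKanExtension⟩

end Groth.Agent.S6813
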