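import Mathlib
import Groth.Statements.S6815
-- import your own Groth.Agent.* helpers here

set_option autoImplicit false
open CategoryTheory CategoryTheory.Limits
universe w v u
open CategoryTheory CategoryTheory.SimplicialObject

namespace Groth.Agent.S6815

/-- Homotopies between the factors of two product morphisms of simplicial objects assemble to a homotopy
between the products. -/
theorem result {C : Type u} [Category.{v} C] {T : Type w} [HasLimitsOfShape (Discrete T) C] {X Y : T → SimplicialObject C} (a b : ∀ t, X t ⟶ Y t) (h : ∀ t, Nonempty (SimplicialObject.Homotopy (a t) (b t))) : Nonempty (SimplicialObject.Homotopy (Limits.Pi.map a) (Limits.Pi.map b)) := by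
  have h := fun t => (h t).some
  have lim : ∀ (Z : T → SimplicialObject C) (n : SimplexCategoryᵒᵖ),
      IsLimit (Fan.mk ((∏ᶜ Z).obj n) fun t => (Pi.π Z t).app n) := fun Z n =>
    isLimitFanMkObjOfIsLimit ((CategoryTheory.evaluation _ _).obj n) _ _ (productIsProduct Z)
  let H : ∀ {n : ℕ} (i : Fin (n + 1)), (∏ᶜ X).obj (Opposite.op (SimplexCategory.mk n)) ⟶ (∏ᶜ Y).obj (Opposite.op (SimplexCategory.mk (n + 1))) := fun {n} i =>
    Fan.IsLimit.lift (lim Y _) fun t => (Pi.π X t).app _ ≫ (h t).h i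
  have hH : ∀ {n : ℕ} (i : Fin (n + 1)) (t : T), H i ≫ (Pi.π Y t).app _ = (Pi.π X t).app _ ≫ (h t).h i :=
    fun {n} i t => Fan.IsLimit.fac (lim Y _) _ t
  have ext' : ∀ {W : C} {n : SimplexCategoryᵒᵖ} (f g : W ⟶ (∏ᶜ Y).obj n),
      (∀ t, f ≫ (Pi.π Y t).app n = g ≫ (Pi.π Y t).app n) → f = g := fun f g hfg =>
    Fan.IsLimit.hom_ext (lim Y _) _ _ hfg
  have nδY : ∀ {n : ℕ} (i : Fin (n + 2)) (t : T), (∏ᶜ Y).δ i ≫ (Pi.π Y t).app _ = (Pi.π Y t).app _ ≫ (Y t).δ i :=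
    fun i t => (Pi.π Y t).naturality _
  have nσY : ∀ {n : ℕ} (i : Fin (n + 1)) (t : T), (∏ᶜ Y).σ i ≫ (Pi.π Y t).app _ = (Pi.π Y t).app _ ≫ (Y t).σ i :=
    fun i t => (Pi.π Y t).naturality _
  have nδX : ∀ {n : ℕ} (i : Fin (n + 2)) (t : T), (∏ᶜ X).δ i ≫ (Pi.π X t).app _ = (Pi.π X t).app _ ≫ (X t).δ i :=
    fun i t => (Pi.π X t).naturality _
  have nσX : ∀ {n : ℕ} (i : Fin (n + 1)) (t : T), (∏ᶜ X).σ i ≫ (Pi.π X t).app _ = (Pi.π X t).app _ ≫ (X t).σ i :=
    fun i t => (Pi.π X t).naturality _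
  have nmap : ∀ (a : ∀ t, X t ⟶ Y t) (n : SimplexCategoryᵒᵖ) (t : T),
      (Limits.Pi.map a).app n ≫ (Pi.π Y t).app n = (Pi.π X t).app n ≫ (a t).app n := fun a n t => by
    rw [← NatTrans.comp_app, ← NatTrans.comp_app, Pi.map_π]
  refine ⟨{
    h := H
    h_zero_comp_δ_zero := ?_
    h_last_comp_δ_last := ?_
    h_succ_comp_δ_castSucc_of_lt := ?_
    h_succ_comp_δ_castSucc_succ := ?_
    h_castSucc_comp_δ_succ_of_lt := ?_
    h_comp_σ_castSucc_of_le := ?_
    h_comp_σ_succ_of_lt := ?_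
    }⟩
  all_goals intros
  all_goals apply ext'
  all_goals intro t
  all_goals simp only [Category.assoc, nδY, nσY, nmap, hH, reassoc_of% hH, reassoc_of% nδX, reassoc_of% nσX]
  · rw [(h t).h_zero_comp_δ_zero]
  · rw [(h t).h_last_comp_δ_last]
  · rename_i hij; rw [(h t).h_succ_comp_δ_castSucc_of_lt _ _ hij]
  · rw [(h t).h_succ_comp_δ_castSucc_succ]
  · rename_i hij; rw [(h t).h_castSucc_comp_δ_succ_of_lt _ _ hij]
  · rename_i hij; rw [(h t).h_comp_σ_castSucc_of_le _ _ hij]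
  · rename_i hij; rw [(h t).h_comp_σ_succ_of_lt _ _ hij]

end Groth.Agent.S6815
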