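import Groth.Statements.S6816
import Mathlib
-- import your own Groth.Agent.* helpers here

set_option autoImplicit false
open CategoryTheory CategoryTheory.Limits
universe v u
open CochainComplex

namespace Groth.Agent.S6816

open CategoryTheory CategoryTheory.Limits HomologicalComplex

variable {C : Type u} [Category.{v} C] [Preadditive C] [HasBinaryBiproducts C]
  (S : ShortComplex (CochainComplex C ℤ))
  (σ σ' : ∀ n : ℤ, (S.map (HomologicalComplex.eval C (ComplexShape.up ℤ) n)).Splitting)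

abbrev sec (n : ℤ) : S.X₃.X n ⟶ S.X₂.X n := (σ n).s

abbrev ret (n : ℤ) : S.X₂.X n ⟶ S.X₁.X n := (σ n).r

noncomputable def diff (n : ℤ) : S.X₃.X n ⟶ S.X₁.X n :=
  (sec S σ' n) ≫ (ret S σ n)

theorem s_r (n : ℤ) : (sec S σ n) ≫ (ret S σ n) = 0 := ShortComplex.Splitting.s_r (σ n)
theorem f_r (n : ℤ) : S.f.f n ≫ (ret S σ n) = 𝟙 (S.X₁.X n) := ShortComplex.Splitting.f_r (σ n)
theorem s_g (n : ℤ) : (sec S σ n) ≫ S.g.f n = 𝟙 (S.X₃.X n) := ShortComplex.Splitting.s_g (σ n)
theorem f_g (n : ℤ) : S.f.f n ≫ S.g.f n = 0 := (S.map (HomologicalComplex.eval C (ComplexShape.up ℤ) n)).zero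
theorem dec (n : ℤ) : (ret S σ n) ≫ S.f.f n + S.g.f n ≫ (sec S σ n) = 𝟙 (S.X₂.X n) :=
  ShortComplex.Splitting.id (σ n)

theorem s_eq (n : ℤ) : (sec S σ' n) = (sec S σ n) + diff S σ σ' n ≫ S.f.f n := by
  have := congrArg ((sec S σ' n) ≫ ·) (dec S σ n)
  simp only [Preadditive.comp_add, Category.comp_id, reassoc_of% s_g S σ' n] at this
  rw [diff, Category.assoc, add_comm]
  exact this.symm

theorem r_eq (n : ℤ) : (ret S σ' n) = (ret S σ n) - S.g.f n ≫ diff S σ σ' n := by
  have := congrArg (· ≫ (ret S σ' n)) (dec S σ n)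
  simp only [Preadditive.add_comp, Category.id_comp, Category.assoc, f_r S σ' n] at this
  rw [← this, Category.comp_id, eq_sub_iff_add_eq, add_assoc]
  refine add_eq_left.mpr ?_
  rw [← Preadditive.comp_add, show (sec S σ n) ≫ (ret S σ' n) + diff S σ σ' n = 0 from ?_, comp_zero]
  have h0 := s_r S σ' n
  rw [s_eq S σ σ' n, Preadditive.add_comp, Category.assoc, f_r S σ' n, Category.comp_id] at h0
  exact h0

theorem hom_eq (n : ℤ) :
    (sec S σ n) ≫ S.X₂.d n (n + 1) ≫ (ret S σ (n + 1)) =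
      S.X₃.d n (n + 1) ≫ diff S σ σ' (n + 1) - diff S σ σ' n ≫ S.X₁.d n (n + 1) +
        (sec S σ' n) ≫ S.X₂.d n (n + 1) ≫ (ret S σ' (n + 1)) := by
  rw [s_eq S σ σ' n, r_eq S σ σ' (n + 1)]
  simp only [Preadditive.add_comp, Preadditive.comp_sub, Category.assoc,
    ← S.g.comm_assoc n (n + 1), reassoc_of% s_g S σ n, S.f.comm_assoc n (n + 1),
    f_r S σ (n + 1), Category.comp_id, reassoc_of% f_g S n, zero_comp, comp_zero]
  abel

noncomputable def h : ∀ i j : ℤ, S.X₃.X i ⟶ (S.X₁⟦(1 : ℤ)⟧).X j := fun i j =>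
  if e : j + 1 = i then diff S σ σ' i ≫ (S.X₁.XIsoOfEq e.symm).hom else 0

theorem h_succ (n : ℤ) : h S σ σ' (n + 1) n = diff S σ σ' (n + 1) := by
  unfold h
  rw [dif_pos rfl]
  exact Category.comp_id _

theorem h_d (n : ℤ) :
    h S σ σ' n (n - 1) ≫ (S.X₁⟦(1 : ℤ)⟧).d (n - 1) n = - (diff S σ σ' n ≫ S.X₁.d n (n + 1)) := by
  unfold h
  rw [dif_pos (show n - 1 + 1 = n by omega)]
  simp only [CochainComplex.shiftFunctor_obj_d', Int.negOnePow_one, Units.neg_smul, one_smul]
  refine (Preadditive.comp_neg _ _).trans (congrArg Neg.neg ((Category.assoc _ _ _).trans ?_))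
  exact congrArg _ (XIsoOfEq_hom_comp_d _ _ _)

noncomputable def homotopy : Homotopy (CochainComplex.homOfDegreewiseSplit S σ)
    (CochainComplex.homOfDegreewiseSplit S σ') where
  hom := h S σ σ'
  zero i j hij := dif_neg fun e => hij e
  comm n := by
    rw [dNext_eq _ (show (ComplexShape.up ℤ).Rel n (n + 1) from rfl),
      prevD_eq _ (show (ComplexShape.up ℤ).Rel (n - 1) n by simp), h_succ, h_d,
      CochainComplex.homOfDegreewiseSplit_f, CochainComplex.homOfDegreewiseSplit_f]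
    refine (hom_eq S σ σ' n).trans ?_
    rw [sub_eq_add_neg]
    rfl

/-- The boundary morphisms `C ⟶ A⟦1⟧` attached to two degreewise splittings of a degreewise split
sequence `A ⟶ B ⟶ C` of cochain complexes are homotopic. -/
theorem result {C : Type u} [Category.{v} C] [Preadditive C] [HasBinaryBiproducts C] (S : ShortComplex (CochainComplex C ℤ)) (σ σ' : ∀ n : ℤ, (S.map (HomologicalComplex.eval C (ComplexShape.up ℤ) n)).Splitting) : Nonempty (Homotopy (CochainComplex.homOfDegreewiseSplit S σ) (CochainComplex.homOfDegreewiseSplit S σ')) := by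
  exact ⟨homotopy S σ σ'⟩

end Groth.Agent.S6816
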