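import Groth.Statements.S6818
import Groth.Agent.SkelGen.Basic
-- import your own Groth.Agent.* helpers here

set_option autoImplicit false
open CategoryTheory CategoryTheory.Limits Opposite
universe v u
open CategoryTheory CategoryTheory.Abelian

namespace Groth.Agent.S6818

/-- For a simplicial object `U` of an abelian category and `n ≥ 0`, the subobjects `U'_m ⊆ U_m`
generated by the images of all `U_i ⟶ U_m` induced by maps `[m] ⟶ [i]` with `i ≤ n` form a
simplicial subobject equal to `U` in dimensions `≤ n` whose normalized part vanishes in dimensions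
`> n`. Here the normalized subobject of `U_m` is the joint kernel of the faces `d_1, …, d_m`; the
published statement uses the faces `d_0, …, d_{m-1}`, the mirror-image convention, and both versions
hold. -/
theorem result {A : Type u} [Category.{v} A] [Abelian A] (U : SimplicialObject A) (n : ℕ) (U' : ∀ m : ℕ, Subobject (U.obj (op (SimplexCategory.mk m)))) (hU' : ∀ m : ℕ, IsLUB (Set.range (fun φ : Σ i : Fin (n + 1), (SimplexCategory.mk m ⟶ SimplexCategory.mk i) => imageSubobject (U.map φ.2.op))) (U' m)) : (∀ (m m' : ℕ) (ψ : SimplexCategory.mk m' ⟶ SimplexCategory.mk m), imageSubobject ((U' m).arrow ≫ U.map ψ.op) ≤ U' m') ∧ (∀ i : ℕ, i ≤ n → U' i = ⊤) ∧ (∀ m : ℕ, n < m → U' m ⊓ AlgebraicTopology.NormalizedMooreComplex.objX U m = ⊥) := by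
  open Groth.Agent.SkelGen AlgebraicTopology.DoldKan in
  refine ⟨fun m m' ψ => ?_, fun i hi => ?_, fun m hm => ?_⟩
  · have hle : U' m ≤ (Subobject.pullback (U.map ψ.op)).obj (U' m') := by
      refine (hU' m).2 ?_
      rintro _ ⟨⟨i, θ⟩, rfl⟩
      have h1 : (U' m').Factors (U.map θ.op ≫ U.map ψ.op) := by
        rw [← U.map_comp, ← op_comp]
        refine Subobject.factors_of_le _
          (factors_of_isLUB hU' (Nat.le_of_lt_succ i.2) (ψ ≫ θ)) ?_
        exact (Subobject.factors_iff _ _).mpr
          ⟨factorThruImageSubobject _, imageSubobject_arrow_comp _⟩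
      refine imageSubobject_le _ ((Subobject.isPullback (U.map ψ.op) (U' m')).lift
        ((U' m').factorThru _ h1) (U.map θ.op) (Subobject.factorThru_arrow _ _ _)) ?_
      exact (Subobject.isPullback (U.map ψ.op) (U' m')).lift_snd _ _ _
    refine imageSubobject_le _ (Subobject.ofLE _ _ hle ≫ Subobject.pullbackπ _ _) ?_
    rw [Category.assoc, (Subobject.isPullback (U.map ψ.op) (U' m')).w, Subobject.ofLE_arrow_assoc]
  · refine top_le_iff.mp (le_trans (le_of_eq ?_) (factors_of_isLUB hU' hi (𝟙 _)))
    symm
    rw [op_id, U.map_id, imageSubobject_mono]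
    exact Subobject.mk_eq_top_of_isIso _
  · let g : U.obj (op (SimplexCategory.mk m)) ⟶ U.obj (op (SimplexCategory.mk m)) :=
      (PInfty (X := U)).f m
    have hk : U' m ≤ kernelSubobject g := by
      refine (hU' m).2 ?_
      rintro _ ⟨⟨i, θ⟩, rfl⟩
      refine imageSubobject_le _ (factorThruKernelSubobject _ _
        (degeneracy_comp_PInfty U m θ (not_mono_of_lt ((Nat.le_of_lt_succ i.2).trans_lt hm) θ))) ?_
      exact factorThruKernelSubobject_comp_arrow _ _ _
    have hN : (AlgebraicTopology.NormalizedMooreComplex.objX U m).arrow ≫ g =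
        (AlgebraicTopology.NormalizedMooreComplex.objX U m).arrow :=
      congrArg (fun φ => HomologicalComplex.Hom.f φ m)
        (AlgebraicTopology.DoldKan.inclusionOfMooreComplexMap_comp_PInfty U)
    let S := U' m ⊓ AlgebraicTopology.NormalizedMooreComplex.objX U m
    have h0 : S.arrow = 0 := by
      have h1 : S.arrow ≫ g = 0 := by
        rw [← Subobject.ofLE_arrow (show S ≤ kernelSubobject g from inf_le_left.trans hk),
          Category.assoc, kernelSubobject_arrow_comp, comp_zero]
      rw [← Subobject.ofLE_arrow (show S ≤ _ from inf_le_right), Category.assoc, hN,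
        Subobject.ofLE_arrow] at h1
      exact h1
    show S = ⊥
    rw [← Subobject.mk_arrow S, Subobject.mk_eq_bot_iff_zero]
    exact h0

end Groth.Agent.S6818
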