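import Groth.Statements.S6819
import Groth.Agent.SkelGen.Basic
-- import your own Groth.Agent.* helpers here

set_option autoImplicit false
open CategoryTheory CategoryTheory.Limits Opposite
universe v u
open CategoryTheory CategoryTheory.Abelian

namespace Groth.Agent.S6819

/-- For a simplicial object `U` of an abelian category, the counit `i_{n!} sk_n U ⟶ U` of the skeleton
adjunction is a monomorphism in each degree, with image the subobject generated by the images of the
maps `U_i ⟶ U_m` induced by `[m] ⟶ [i]`, `i ≤ n`. -/
theorem result {A : Type u} [Category.{v} A] [Abelian A] (U : SimplicialObject A) (n : ℕ) (U' : ∀ m : ℕ, Subobject (U.obj (op (SimplexCategory.mk m)))) (hU' : ∀ m : ℕ, IsLUB (Set.range (fun φ : Σ i : Fin (n + 1), (SimplexCategory.mk m ⟶ SimplexCategory.mk i) => imageSubobject (U.map φ.2.op))) (U' m)) [∀ F : (SimplexCategory.Truncated n)ᵒᵖ ⥤ A, (SimplexCategory.Truncated.inclusion n).op.HasLeftKanExtension F] (m : ℕ) : Mono (((SimplicialObject.skAdj n).counit.app U).app (op (SimplexCategory.mk m))) ∧ imageSubobject (((SimplicialObject.skAdj n).counit.app U).app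 (op (SimplexCategory.mk m))) = U' m := by
  open Groth.Agent.SkelGen AlgebraicTopology.DoldKan in
  let T := (SimplicialObject.truncation n).obj U
  let ε := (SimplicialObject.skAdj n).counit.app U
  have hiso : ∀ i, i ≤ n → IsIso (ε.app (op (SimplexCategory.mk i))) := by
    intro i hi
    have hu : IsIso (SimplicialObject.skAdj (C := A) n).unit := inferInstance
    have hu' := NatIso.isIso_app_of_isIso (SimplicialObject.skAdj (C := A) n).unit T
    have h2 : IsIso ((SimplicialObject.skAdj n).unit.app T ≫ (SimplicialObject.truncation n).map ε) := by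
      rw [(SimplicialObject.skAdj n).right_triangle_components]; exact IsIso.id _
    have h1 : IsIso ((SimplicialObject.truncation n).map ε) :=
      IsIso.of_isIso_comp_left ((SimplicialObject.skAdj n).unit.app T) _
    exact (inferInstance : IsIso (((SimplicialObject.truncation n).map ε).app
      (op ⟨SimplexCategory.mk i, hi⟩)))
  have hmono : Mono ε := mono_of_pInfty ε fun k => by
    by_cases hk : k ≤ n
    · have := hiso k hk
      exact Or.inr inferInstance
    · exact Or.inl (pInfty_sk_eq_zero n T k (lt_of_not_ge hk))
  refine ⟨inferInstanceAs (Mono (ε.app _)), le_antisymm ?_ ?_⟩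
  · have h0 : ε.app (op (SimplexCategory.mk m)) ≫ cokernel.π (U' m).arrow = 0 := by
      refine eq_zero_of_comp_map n T m _ fun i hi θ => ?_
      have e := ε.naturality θ.op
      refine (Category.assoc _ _ _).symm.trans ((congrArg (· ≫ cokernel.π (U' m).arrow) e).trans ?_)
      have h2 : U.map θ.op ≫ cokernel.π (U' m).arrow = 0 := by
        rw [← imageSubobject_arrow_comp (U.map θ.op),
          ← Subobject.ofLE_arrow (factors_of_isLUB hU' hi θ)]
        simp only [Category.assoc]
        erw [cokernel.condition]
        simp
      exact (Category.assoc _ _ _).trans ((congrArg (_ ≫ ·) h2).trans comp_zero)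
    exact imageSubobject_le _ (Abelian.monoLift (U' m).arrow _ h0) (Abelian.monoLift_comp _ _ _)
  · refine (hU' m).2 ?_
    rintro _ ⟨⟨i, θ⟩, rfl⟩
    have := hiso i (Nat.le_of_lt_succ i.2)
    refine imageSubobject_le _ (inv (ε.app (op (SimplexCategory.mk (i : ℕ)))) ≫
      ((SimplicialObject.Truncated.sk n).obj T).map θ.op ≫
        factorThruImageSubobject (ε.app (op (SimplexCategory.mk m)))) ?_
    simp only [Category.assoc]
    erw [imageSubobject_arrow_comp, ε.naturality θ.op, IsIso.inv_hom_id_assoc]
    rfl

end Groth.Agent.S6819
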