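import Mathlib
import Groth.Statements.S6820
-- import your own Groth.Agent.* helpers here

set_option autoImplicit false
universe u
open Smoothing

namespace Groth.Agent.S6820

/-- Let A be a Noetherian ring, M a finite A-module, S a multiplicative subset of A and π an element of
A such that on the localised module S⁻¹M the kernels of multiplication by π and by π² agree. Then
there is an element s of S such that for every n > 0 the kernels of multiplication by sⁿπ and by
(sⁿπ)² on M agree. (Kernel equalities are written as implications, the reverse inclusions being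
automatic.) -/
theorem result {A : Type u} [CommRing A] [IsNoetherianRing A]
    (M : Type u) [AddCommGroup M] [Module A M] [Module.Finite A M] (S : Submonoid A) (π : A)
    (h : ∀ m : LocalizedModule S M, π ^ 2 • m = 0 → π • m = 0) :
    ∃ s ∈ S, ∀ n : ℕ, 0 < n → ∀ m : M, (s ^ n * π) ^ 2 • m = 0 → (s ^ n * π) • m = 0 := by
  classical
  let T : Submodule A M :=
    { carrier := {m | ∃ t ∈ S, (t * π ^ 2) • m = 0}
      zero_mem' := ⟨1, S.one_mem, smul_zero _⟩
      add_mem' := by
        rintro a b ⟨s, hs, ha⟩ ⟨t, ht, hb⟩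
        refine ⟨s * t, S.mul_mem hs ht, ?_⟩
        rw [smul_add, show s * t * π ^ 2 = t * (s * π ^ 2) by ring, mul_smul t, ha, smul_zero, zero_add,
          show t * (s * π ^ 2) = s * (t * π ^ 2) by ring, mul_smul, hb, smul_zero]
      smul_mem' := by
        rintro c a ⟨s, hs, ha⟩
        exact ⟨s, hs, by rw [smul_comm, ha, smul_zero]⟩ }
  obtain ⟨g, hg⟩ : T.FG := IsNoetherian.noetherian T
  have hex : ∀ m ∈ T, ∃ t ∈ S, (t * π) • m = 0 := by
    rintro m ⟨t, ht, htm⟩
    have h0 : π ^ 2 • LocalizedModule.mkLinearMap S M m = 0 := by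
      rw [← map_smul, LocalizedModule.mkLinearMap_apply, ← LocalizedModule.zero_mk (1 : S), LocalizedModule.mk_eq]
      exact ⟨⟨t, ht⟩, by simpa [Submonoid.smul_def, mul_smul] using htm⟩
    have := h _ h0
    rw [← map_smul, LocalizedModule.mkLinearMap_apply, ← LocalizedModule.zero_mk (1 : S), LocalizedModule.mk_eq] at this
    obtain ⟨u, hu⟩ := this
    exact ⟨u, u.2, by simpa [Submonoid.smul_def, mul_smul] using hu⟩
  choose! t htS htm using hex
  have hgT : ∀ m ∈ g, m ∈ T := fun m hm => hg ▸ Submodule.subset_span hm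
  refine ⟨∏ m ∈ g, t m, Submonoid.prod_mem _ fun m hm => htS m (hgT m hm), fun n hn m hm => ?_⟩
  set s := ∏ m ∈ g, t m
  have hsS : s ∈ S := Submonoid.prod_mem _ fun m hm => htS m (hgT m hm)
  have hmT : m ∈ T := ⟨(s ^ n) ^ 2, S.pow_mem (S.pow_mem hsS n) 2, by rwa [← mul_pow]⟩
  have hkill : ∀ x ∈ T, (s * π) • x = 0 := by
    intro x hx
    rw [← hg] at hx
    induction hx using Submodule.span_induction with
    | mem y hy =>
      obtain ⟨d, hd⟩ := Finset.dvd_prod_of_mem t (Finset.mem_coe.1 hy)
      rw [show s * π = d * (t y * π) by simp only [s]; rw [hd]; ring, mul_smul, htm y (hgT y hy), smul_zero]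
    | zero => simp
    | add a b _ _ ha hb => rw [smul_add, ha, hb, add_zero]
    | smul c a _ ha => rw [smul_comm, ha, smul_zero]
  obtain ⟨n, rfl⟩ : ∃ k, n = k + 1 := ⟨n - 1, by omega⟩
  rw [pow_succ, mul_assoc, mul_smul, hkill m hmT, smul_zero]

end Groth.Agent.S6820
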