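import Groth.Statements.S6829
import Mathlib

set_option autoImplicit false
universe u
open Smoothing

namespace Groth.Agent.S6829

open TensorProduct MvPolynomial Smoothing

variable {R A : Type u} (R' : Type u) [CommRing R] [CommRing A] [Algebra R A] [CommRing R'] [Algebra R R']

noncomputable def bcHom (P : MarkedPresentation R A) : MvPolynomial (Fin P.n) R' →ₐ[R'] R' ⊗[R] A :=
  (Algebra.TensorProduct.map (AlgHom.id R' R') P.hom).comp (algebraTensorAlgEquiv R R').symm.toAlgHom

theorem symm_map {σ : Type} (f : MvPolynomial σ R) :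
    (algebraTensorAlgEquiv R R').symm (MvPolynomial.map (algebraMap R R') f) = (1 : R') ⊗ₜ[R] f := by
  rw [AlgEquiv.symm_apply_eq]
  simp [algebraTensorAlgEquiv_tmul]

theorem bcHom_map (P : MarkedPresentation R A) (f : MvPolynomial (Fin P.n) R) :
    bcHom R' P (MvPolynomial.map (algebraMap R R') f) = (1 : R') ⊗ₜ[R] P.hom f := by
  simp [bcHom, symm_map]

theorem bcHom_surj (P : MarkedPresentation R A) : Function.Surjective (bcHom R' P) := by
  intro x
  obtain ⟨y, hy⟩ := LinearMap.lTensor_surjective R' (g := P.hom.toLinearMap) P.surj x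
  refine ⟨algebraTensorAlgEquiv R R' y, ?_⟩
  show (Algebra.TensorProduct.map (AlgHom.id R' R') P.hom) ((algebraTensorAlgEquiv R R').symm _) = x
  rw [AlgEquiv.symm_apply_apply]
  exact hy

@[reducible] noncomputable def bc (P : MarkedPresentation R A) : MarkedPresentation R' (R' ⊗[R] A) where
  n := P.n
  m := P.m
  c := P.c
  hcn := P.hcn
  hcm := P.hcm
  rel j := MvPolynomial.map (algebraMap R R') (P.rel j)
  hom := bcHom R' P
  surj := bcHom_surj R' P
  ker_eq := by
    apply le_antisymm
    · intro x hx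
      have h : (algebraTensorAlgEquiv R R').symm x ∈ RingHom.ker (Algebra.TensorProduct.map (AlgHom.id R R') P.hom) := hx
      rw [Algebra.TensorProduct.lTensor_ker P.hom P.surj] at h
      have he : RingHom.ker P.hom = Ideal.span (Set.range P.rel) := P.ker_eq
      rw [he, Ideal.map_span] at h
      have h2 := Ideal.mem_map_of_mem (algebraTensorAlgEquiv R R' (σ := Fin P.n)).toRingEquiv.toRingHom h
      rw [Ideal.map_span] at h2
      have hx' : (algebraTensorAlgEquiv R R').toRingEquiv.toRingHom ((algebraTensorAlgEquiv R R').symm x) = x :=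
        (algebraTensorAlgEquiv R R').apply_symm_apply x
      rw [hx'] at h2
      refine Ideal.span_mono ?_ h2
      rintro _ ⟨_, ⟨_, ⟨j, rfl⟩, rfl⟩, rfl⟩
      exact ⟨j, by simp [algebraTensorAlgEquiv_tmul]⟩
    · rw [Ideal.span_le]
      rintro _ ⟨j, rfl⟩
      show bcHom R' P _ = 0
      rw [bcHom_map]
      have : P.rel j ∈ RingHom.ker P.hom.toRingHom := P.ker_eq ▸ Ideal.subset_span ⟨j, rfl⟩
      rw [show P.hom (P.rel j) = 0 from this, TensorProduct.tmul_zero]

theorem jac_map {n m c : ℕ} (f : Fin m → MvPolynomial (Fin n) R) (rows : Fin c → Fin m) (cols : Fin c → Fin n) :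
    jacobianMinor (fun j => MvPolynomial.map (algebraMap R R') (f j)) rows cols =
      MvPolynomial.map (algebraMap R R') (jacobianMinor f rows cols) := by
  rw [jacobianMinor, jacobianMinor, RingHom.map_det]
  congr 1
  ext1 j k
  simp [pderiv_map]

theorem kills (P : MarkedPresentation R A) (a : A) (h : KillsTail P a) :
    KillsTail (bc R' P) ((1 : R') ⊗ₜ[R] a) := by
  intro b hb j hj
  obtain ⟨a0, ha0⟩ := P.surj a
  let φ : MvPolynomial (Fin P.n) R →+* MvPolynomial (Fin P.n) R' := MvPolynomial.map (algebraMap R R')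
  have h1 : φ (a0 * P.rel j) ∈ Ideal.map φ (Ideal.span (P.rel '' {j' : Fin P.m | (j' : ℕ) < P.c}) ⊔
      Ideal.span (Set.range P.rel) ^ 2) := Ideal.mem_map_of_mem φ (h a0 ha0 j hj)
  rw [Ideal.map_sup, Ideal.map_pow, Ideal.map_span, Ideal.map_span, ← Set.image_comp, ← Set.range_comp] at h1
  have h2 : b - φ a0 ∈ Ideal.span (Set.range (bc R' P).rel) := by
    rw [← (bc R' P).ker_eq, RingHom.mem_ker, map_sub]
    show bcHom R' P b - bcHom R' P (φ a0) = 0
    rw [bcHom_map, ha0, sub_eq_zero]
    exact hb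
  have h3 : (b - φ a0) * (bc R' P).rel j ∈ Ideal.span (Set.range (bc R' P).rel) ^ 2 := by
    rw [pow_two]; exact Ideal.mul_mem_mul h2 (Ideal.subset_span ⟨j, rfl⟩)
  have e : b * (bc R' P).rel j = φ (a0 * P.rel j) + (b - φ a0) * (bc R' P).rel j := by
    rw [map_mul]; show b * φ (P.rel j) = φ a0 * φ (P.rel j) + (b - φ a0) * φ (P.rel j); ring
  rw [e]
  exact add_mem h1 (Ideal.mem_sup_right h3)

open TensorProduct in
/-- Let A be a finitely presented R-algebra, R → R' a ring map and a ∈ A. If a is elementary standard,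
resp. strictly standard, in A over R, then a ⊗ 1 is elementary standard, resp. strictly standard, in
A ⊗_R R' over R' (written here as 1 ⊗ a in R' ⊗_R A). -/
theorem result {R A R' : Type u} [CommRing R] [CommRing A] [Algebra R A]
    [Algebra.FinitePresentation R A] [CommRing R'] [Algebra R R'] (a : A) :
    (Smoothing.IsElementaryStandard R A a →
        Smoothing.IsElementaryStandard R' (R' ⊗[R] A) ((1 : R') ⊗ₜ[R] a)) ∧
      (Smoothing.IsStrictlyStandard R A a →
        Smoothing.IsStrictlyStandard R' (R' ⊗[R] A) ((1 : R') ⊗ₜ[R] a)) := by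
  constructor
  · rintro ⟨P, ⟨a', ha⟩, hk⟩
    refine ⟨bc R' P, ⟨(1 : R') ⊗ₜ[R] a', ?_⟩, kills R' P a hk⟩
    show _ = _ * bcHom R' P (jacobianMinor (fun j => MvPolynomial.map (algebraMap R R') (P.rel j)) (Fin.castLE P.hcm) (Fin.castLE P.hcn))
    rw [jac_map, bcHom_map, Algebra.TensorProduct.tmul_mul_tmul, one_mul, ← ha]
  · rintro ⟨P, ha, hk⟩
    refine ⟨bc R' P, ?_, kills R' P a hk⟩
    have h := Ideal.mem_map_of_mem (Algebra.TensorProduct.includeRight : A →ₐ[R] R' ⊗[R] A).toRingHom ha
    rw [Ideal.map_span, ← Set.range_comp] at h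
    refine Ideal.span_mono ?_ h
    rintro _ ⟨cols, rfl⟩
    refine ⟨cols, ?_⟩
    show bcHom R' P (jacobianMinor (fun j => MvPolynomial.map (algebraMap R R') (P.rel j)) (Fin.castLE P.hcm) cols) = _
    rw [jac_map, bcHom_map]
    rfl

end Groth.Agent.S6829
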