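import Groth.Statements.S6835
import Groth.Agent.ModGroth.SiteStalk
import Mathlib.Topology.Sheaves.Points
-- import your own Groth.Agent.* helpers here

set_option autoImplicit false
universe u
open CategoryTheory CategoryTheory.Limits TopologicalSpace
open ModSite

namespace Groth.Agent.S6835

/-- On a ringed space (X, O), an O-module F is flat (the functor − ⊗_O F is exact) if and only if for
every point x the stalk F_x is a flat O_{X,x}-module (stalks are taken at the point of the site of
opens of X given by x). -/
theorem result {X : TopCat.{u}} (O : TopCat.Sheaf CommRingCat.{u} X) (F : ModSite.Mod O) :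
    ModSite.IsFlat F ↔ ∀ x : X, Module.Flat (ModSite.stalkRing (Opens.pointGrothendieckTopology x) O)
      (ModSite.stalkMod (Opens.pointGrothendieckTopology x) F) := by
  refine ⟨fun h x => Groth.Agent.ModGroth.SiteStalk.flat_stalk _ F h, fun h =>
    Groth.Agent.ModGroth.SiteStalk.isFlat_of_flat_stalk _
      (Opens.isConservativeFamilyOfPoints_pointsGrothendieckTopology X) F ?_⟩
  rintro q ⟨x⟩
  exact h x

end Groth.Agent.S6835
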