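import Groth.Statements.S6860
import Mathlib.RingTheory.Smooth.StandardSmooth

set_option autoImplicit false
universe u
open Smoothing

namespace Groth.Agent.S6860

open MvPolynomial

/-- The presentation `A = A[X_i]/(X_i - e i)`. -/
noncomputable def selfPresentation {A : Type u} [CommRing A] (n : ℕ) (e : Fin n → A) :
    Algebra.SubmersivePresentation A A (Fin n) (Fin n) where
  val := e
  σ' := C
  aeval_val_σ' s := by simp
  relation i := X i - C (e i)
  span_range_relation_eq_ker := by
    rw [Algebra.Generators.ker_eq_ker_aeval_val]
    refine le_antisymm (Ideal.span_le.mpr ?_) ?_
    · rintro _ ⟨i, rfl⟩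
      simp
    · intro f hf
      set I := Ideal.span (Set.range fun i : Fin n => (X i - C (e i) : MvPolynomial (Fin n) A)) with hI
      have h : ∀ g : MvPolynomial (Fin n) A, g - C (aeval e g) ∈ I := by
        intro g
        induction g using MvPolynomial.induction_on with
        | C a => simp
        | add g₁ g₂ h₁ h₂ =>
          convert I.add_mem h₁ h₂ using 1
          simp only [map_add]; ring
        | mul_X g i hg =>
          convert I.add_mem (I.mul_mem_right (X i) hg)
            (I.mul_mem_left (C (aeval e g)) (Ideal.subset_span ⟨i, rfl⟩)) using 1
          simp only [map_mul, aeval_X]; ring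
      have := h f
      rwa [RingHom.mem_ker.mp hf, map_zero, sub_zero] at this
  map := _root_.id
  map_inj := Function.injective_id
  jacobian_isUnit := by
    rw [Algebra.PreSubmersivePresentation.jacobian_eq_jacobiMatrix_det]
    refine IsUnit.map _ ?_
    convert isUnit_one
    rw [← Matrix.det_one (n := Fin n) (R := MvPolynomial (Fin n) A)]
    congr 1
    ext i j : 1
    rw [Algebra.PreSubmersivePresentation.jacobiMatrix_apply]
    by_cases h : i = j
    · subst h; simp
    · simp [Matrix.one_apply_ne h, Pi.single_eq_of_ne (Ne.symm h)]

/-- Let R → A be standard smooth and E ⊆ A a finite subset. Then A admits a standard smooth presentation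
A = R[x₁, …, x_N]/(f₁, …, f_c) (a submersive presentation: finitely many generators and relations,
an injection from the relations to the variables picking the distinguished variables, and the
Jacobian of the relations with respect to the distinguished variables invertible in A) in which
every element of E is the class of a distinguished variable. (The published statement arranges E to
be exactly the classes of the first n = |E| variables, all of them distinguished, with c ≥ n; this
row states that E is contained in the set of classes of the distinguished variables, which is what
that arrangement gives.) -/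
theorem result {R A : Type u} [CommRing R] [CommRing A] [Algebra R A]
    [Algebra.IsStandardSmooth R A] (E : Finset A) :
    ∃ (ι σ : Type) (_ : Finite ι) (_ : Finite σ) (P : Algebra.SubmersivePresentation R A ι σ),
      (↑E : Set A) ⊆ Set.range (P.val ∘ P.map) := by
  obtain ⟨ι, σ, hσ, hι, ⟨P⟩⟩ := (inferInstance : Algebra.IsStandardSmooth R A).out
  classical
  let e : Fin E.card → A := fun i => (E.equivFin.symm i : A)
  refine ⟨_, _, inferInstance, inferInstance, (selfPresentation E.card e).comp P, ?_⟩
  intro a ha
  refine ⟨Sum.inl (E.equivFin ⟨a, ha⟩), ?_⟩
  rw [Function.comp_apply]
  simp [Algebra.SubmersivePresentation.comp, selfPresentation, Algebra.PreSubmersivePresentation.comp, Algebra.Presentation.comp, Algebra.Generators.comp, e]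

end Groth.Agent.S6860
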