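import Groth.Statements.S6863
import Mathlib
-- import your own Groth.Agent.* helpers here

set_option autoImplicit false
universe u
open TensorProduct
open CAlg

namespace Groth.Agent.S6863

/-- Let `I` be an ideal of a commutative ring `R` contained in the Jacobson radical (equivalently, `1 +
i` is a unit for each `i ∈ I`). Then each finitely generated stably free module `E` over `R/I`
lifts: there is a finite stably free `R`-module `M` with `M/IM ≅ E` (existence of an isomorphism
only; the published statement names no map). -/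
theorem result {R : Type u} [CommRing R] (I : Ideal R)
    (hI : I ≤ Ideal.jacobson (⊥ : Ideal R)) (E : Type u) [AddCommGroup E] [Module (R ⧸ I) E]
    [Module.Finite (R ⧸ I) E] [Module.IsStablyFree (R ⧸ I) E] :
    ∃ (M : Type u) (_ : AddCommGroup M) (_ : Module R M), Module.Finite R M ∧ Module.IsStablyFree R M ∧
      Nonempty ((R ⧸ I) ⊗[R] M ≃ₗ[R ⧸ I] E) := by
  classical
  obtain ⟨N, _, _, _, _, _⟩ := Module.IsStablyFree.exist_free_prod (R ⧸ I) E
  rcases subsingleton_or_nontrivial (R ⧸ I) with hs | hs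
  · have : Subsingleton E := Module.subsingleton (R ⧸ I) E
    have : Subsingleton (TensorProduct R (R ⧸ I) (Fin 0 → R)) := Module.subsingleton (R ⧸ I) _
    exact ⟨Fin 0 → R, inferInstance, inferInstance, inferInstance, inferInstance,
      ⟨LinearEquiv.ofSubsingleton _ _⟩⟩
  let m := Module.finrank (R ⧸ I) N
  let n := Module.finrank (R ⧸ I) (E × N)
  let bN := Module.finBasis (R ⧸ I) N
  let bEN := Module.finBasis (R ⧸ I) (E × N)
  let e : (E × (Fin m → R ⧸ I)) ≃ₗ[R ⧸ I] (Fin n → R ⧸ I) :=
    ((LinearEquiv.refl (R ⧸ I) E).prodCongr bN.equivFun.symm).trans bEN.equivFun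
  let πb : (Fin n → R ⧸ I) →ₗ[R ⧸ I] (Fin m → R ⧸ I) :=
    (LinearMap.snd (R ⧸ I) E (Fin m → R ⧸ I)) ∘ₗ e.symm.toLinearMap
  choose A hA using fun (i : Fin n) (j : Fin m) => Ideal.Quotient.mk_surjective (πb (Pi.single i 1) j)
  let π : (Fin n → R) →ₗ[R] (Fin m → R) := Fintype.linearCombination R A
  have hπ : ∀ v, πb (fun i => Ideal.Quotient.mk I (v i)) = fun j => Ideal.Quotient.mk I (π v j) := by
    intro v
    have h1 : (fun i => Ideal.Quotient.mk I (v i)) = ∑ i, Ideal.Quotient.mk I (v i) • Pi.single i (1 : R ⧸ I) := by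
      funext j
      simp [Finset.sum_apply, Pi.single_apply]
    rw [h1, map_sum]
    funext j
    simp only [map_smul, Finset.sum_apply, Pi.smul_apply, smul_eq_mul, π, Fintype.linearCombination_apply,
      map_sum, map_mul, hA]
  have hπbsurj : Function.Surjective πb := fun y => ⟨e (0, y), by simp [πb]⟩
  have hcoord : ∀ {k : ℕ} (z : Fin k → R), (∀ i, z i ∈ I) → z ∈ (I • ⊤ : Submodule R (Fin k → R)) := by
    intro k z hz
    rw [show z = ∑ i, z i • Pi.single i (1 : R) by funext j; simp [Finset.sum_apply, Pi.single_apply]]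
    exact sum_mem fun i _ => Submodule.smul_mem_smul (hz i) Submodule.mem_top
  have hsurj : Function.Surjective π := by
    rw [← LinearMap.range_eq_top, eq_top_iff]
    refine Submodule.le_of_le_smul_of_le_jacobson_bot Module.Finite.fg_top hI fun y _ => ?_
    obtain ⟨w, hw⟩ := hπbsurj (fun j => Ideal.Quotient.mk I (y j))
    choose v hv using fun i => Ideal.Quotient.mk_surjective (w i)
    have hd : ∀ j, y j - π v j ∈ I := fun j => by
      rw [← Ideal.Quotient.mk_eq_mk_iff_sub_mem]
      have := congrFun (hπ v) j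
      rw [show (fun i => Ideal.Quotient.mk I (v i)) = w from funext hv, hw] at this
      exact this
    exact Submodule.mem_sup.mpr ⟨π v, ⟨v, rfl⟩, y - π v, hcoord _ hd, add_sub_cancel _ _⟩
  obtain ⟨σ, hσ⟩ := Module.projective_lifting_property π LinearMap.id hsurj
  have hσ' : ∀ y, π (σ y) = y := fun y => LinearMap.congr_fun hσ y
  let M := LinearMap.ker π
  let r : (Fin n → R) →ₗ[R] M := LinearMap.codRestrict M (LinearMap.id - σ ∘ₗ π) (fun v => by
    simp [M, hσ'])
  have hr : ∀ v : M, r (v : Fin n → R) = v := fun v => Subtype.ext (by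
    have : π (v : Fin n → R) = 0 := v.2
    simp [r, this])
  let split : (M × (Fin m → R)) ≃ₗ[R] (Fin n → R) :=
    { toFun := fun p => (p.1 : Fin n → R) + σ p.2
      invFun := fun v => (r v, π v)
      map_add' := fun p q => by simp only [Prod.fst_add, Prod.snd_add, Submodule.coe_add, map_add]; abel
      map_smul' := fun c p => by simp [smul_add]
      left_inv := fun p => by
        have h0 : π (p.1 : Fin n → R) = 0 := p.1.2
        refine Prod.ext (Subtype.ext ?_) ?_ <;> simp [r, h0, hσ']
      right_inv := fun v => by simp [r] }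
  have : Module.Free R (M × (Fin m → R)) := Module.Free.of_equiv split.symm
  have hMfin : Module.Finite R M := Module.Finite.of_surjective r fun v => ⟨v, hr v⟩
  have hMsf : Module.IsStablyFree R M := Module.IsStablyFree.of_free_prod R M (Fin m → R)
  refine ⟨M, inferInstance, inferInstance, hMfin, hMsf, ?_⟩
  let bc : TensorProduct R (R ⧸ I) M →ₗ[R ⧸ I] (Fin n → R ⧸ I) :=
    (TensorProduct.piScalarRight R (R ⧸ I) (R ⧸ I) (Fin n)).toLinearMap ∘ₗ M.subtype.baseChange (R ⧸ I)
  let f : TensorProduct R (R ⧸ I) M →ₗ[R ⧸ I] E :=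
    (LinearMap.fst (R ⧸ I) E (Fin m → R ⧸ I)) ∘ₗ e.symm.toLinearMap ∘ₗ bc
  have hbc : ∀ v : M, bc ((1 : R ⧸ I) ⊗ₜ[R] v) = fun i => Ideal.Quotient.mk I ((v : Fin n → R) i) := by
    intro v
    funext i
    simp [bc, Algebra.smul_def]
  have hone : ∀ z : TensorProduct R (R ⧸ I) M, ∃ v : M, z = (1 : R ⧸ I) ⊗ₜ[R] v := by
    intro z
    induction z using TensorProduct.induction_on with
    | zero => exact ⟨0, by simp⟩
    | tmul a v =>
      obtain ⟨a, rfl⟩ := Ideal.Quotient.mk_surjective a
      exact ⟨a • v, by rw [TensorProduct.tmul_smul, TensorProduct.smul_tmul', Algebra.smul_def, mul_one]; rfl⟩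
    | add x y hx hy =>
      obtain ⟨v, rfl⟩ := hx
      obtain ⟨w, rfl⟩ := hy
      exact ⟨v + w, by rw [TensorProduct.tmul_add]⟩
  have hinj : Function.Injective f := by
    rw [injective_iff_map_eq_zero]
    intro z hz
    obtain ⟨v, rfl⟩ := hone z
    have h2 : (e.symm (bc ((1 : R ⧸ I) ⊗ₜ[R] v))).2 = 0 := by
      have h0 : π (v : Fin n → R) = 0 := v.2
      rw [hbc]
      have := hπ v
      rw [h0] at this
      rw [show (e.symm (fun i => Ideal.Quotient.mk I ((v : Fin n → R) i))).2 = πb (fun i => Ideal.Quotient.mk I ((v : Fin n → R) i)) from rfl, this]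
      funext j
      simp
    have h3 : bc ((1 : R ⧸ I) ⊗ₜ[R] v) = 0 := by
      rw [← e.symm.map_eq_zero_iff]
      exact Prod.ext hz h2
    rw [hbc] at h3
    have h4 : (v : Fin n → R) ∈ (I • ⊤ : Submodule R (Fin n → R)) :=
      hcoord _ fun i => Ideal.Quotient.eq_zero_iff_mem.mp (congrFun h3 i)
    have h5 : v ∈ (I • ⊤ : Submodule R M) := by
      have := Submodule.mem_map_of_mem (f := r) h4
      rw [Submodule.map_smul'', hr] at this
      exact Submodule.smul_mono le_rfl le_top this
    refine Submodule.smul_induction_on h5 (fun a ha w _ => ?_) (fun x y hx hy => ?_)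
    · rw [TensorProduct.tmul_smul, TensorProduct.smul_tmul', Algebra.smul_def, mul_one,
        show algebraMap R (R ⧸ I) a = 0 from Ideal.Quotient.eq_zero_iff_mem.mpr ha, TensorProduct.zero_tmul]
    · rw [TensorProduct.tmul_add, hx, hy, add_zero]
  have hsurjf : Function.Surjective f := by
    intro x
    choose v hv using fun i => Ideal.Quotient.mk_surjective (e (x, 0) i)
    refine ⟨(1 : R ⧸ I) ⊗ₜ[R] r v, ?_⟩
    have hv' : (fun i => Ideal.Quotient.mk I (v i)) = e (x, 0) := funext hv
    have hπv : ∀ j, π v j ∈ I := fun j => by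
      have := congrFun (hπ v) j
      rw [hv'] at this
      exact Ideal.Quotient.eq_zero_iff_mem.mp (by simpa [πb] using this.symm)
    have hσI : ∀ i, σ (π v) i ∈ I := by
      have h1 : σ (π v) ∈ Submodule.map σ (I • ⊤ : Submodule R (Fin m → R)) := ⟨_, hcoord _ hπv, rfl⟩
      rw [Submodule.map_smul''] at h1
      intro i
      refine Submodule.smul_induction_on (p := fun z => z i ∈ I) (Submodule.smul_mono le_rfl le_top h1)
        (fun a ha w _ => Ideal.mul_mem_right _ _ ha) (fun a c ha hc => add_mem ha hc)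
    have h3 : bc ((1 : R ⧸ I) ⊗ₜ[R] r v) = e (x, 0) := by
      rw [hbc, ← hv']
      funext i
      rw [Ideal.Quotient.mk_eq_mk_iff_sub_mem]
      have : ((r v : M) : Fin n → R) i - v i = -(σ (π v) i) := by simp [r]
      rw [this]
      exact neg_mem (hσI i)
    show (e.symm (bc ((1 : R ⧸ I) ⊗ₜ[R] r v))).1 = x
    rw [h3, LinearEquiv.symm_apply_apply]
  exact ⟨LinearEquiv.ofBijective f ⟨hinj, hsurjf⟩⟩

end Groth.Agent.S6863
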