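import Mathlib
import Groth.Statements.S6864
-- import your own Groth.Agent.* helpers here

set_option autoImplicit false
universe u
open TensorProduct
open CAlg

namespace Groth.Agent.S6864

/-- Let `I` be an ideal of a commutative ring `R` contained in the Jacobson radical and let `φ : P → P'`
be an `R`-linear map between finite projective `R`-modules. If the induced map `P/IP → P'/IP'` is
bijective, then `φ` is bijective. -/
theorem result {R : Type u} [CommRing R] (I : Ideal R)
    (hI : I ≤ Ideal.jacobson (⊥ : Ideal R)) {P P' : Type u}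
    [AddCommGroup P] [Module R P] [Module.Finite R P] [Module.Projective R P]
    [AddCommGroup P'] [Module R P'] [Module.Finite R P'] [Module.Projective R P'] (φ : P →ₗ[R] P')
    (h : Function.Bijective (φ.baseChange (R ⧸ I))) : Function.Bijective φ := by
  have hmem : ∀ {Q : Type u} [AddCommGroup Q] [Module R Q] (q : Q), (1 : R ⧸ I) ⊗ₜ[R] q = 0 → q ∈ I • (⊤ : Submodule R Q) := fun {Q} _ _ q hq => by
    have := congrArg (TensorProduct.quotTensorEquivQuotSMul Q I) hq
    rw [map_zero, show (1 : R ⧸ I) = Ideal.Quotient.mk I 1 from rfl, TensorProduct.quotTensorEquivQuotSMul_mk_tmul, one_smul] at this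
    exact (Submodule.Quotient.mk_eq_zero _).mp this
  have hsurj : Function.Surjective φ := by
    rw [← LinearMap.range_eq_top, eq_top_iff]
    refine Submodule.le_of_le_smul_of_le_jacobson_bot Module.Finite.fg_top hI fun y _ => ?_
    obtain ⟨z, hz⟩ := h.2 (1 ⊗ₜ[R] y)
    obtain ⟨x, rfl⟩ := TensorProduct.mk_surjective R P (R ⧸ I) Ideal.Quotient.mk_surjective z
    have := hmem (y - φ x) (by rw [TensorProduct.tmul_sub, ← hz]; simp)
    exact Submodule.mem_sup.mpr ⟨φ x, ⟨x, rfl⟩, y - φ x, this, add_sub_cancel _ _⟩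
  obtain ⟨σ, hσ⟩ := Module.projective_lifting_property φ LinearMap.id hsurj
  let ψ : P →ₗ[R] P := LinearMap.id - σ ∘ₗ φ
  have hσ' : ∀ y, φ (σ y) = y := fun y => LinearMap.congr_fun hσ y
  have hK : LinearMap.range ψ ≤ I • LinearMap.range ψ := by
    rintro _ ⟨p, rfl⟩
    have h0 : φ (ψ p) = 0 := by simp [ψ, hσ']
    have h1 : (1 : R ⧸ I) ⊗ₜ[R] ψ p = 0 := h.1 (by simp [h0])
    have h2 : ψ (ψ p) = ψ p := by
      show ψ p - σ (φ (ψ p)) = ψ p
      rw [h0, map_zero, sub_zero]
    rw [← h2, LinearMap.range_eq_map, ← Submodule.map_smul'']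
    exact Submodule.mem_map_of_mem (hmem _ h1)
  have hbot := Submodule.eq_bot_of_le_smul_of_le_jacobson_bot I _ (by rw [LinearMap.range_eq_map]; exact Module.Finite.fg_top.map ψ) hK hI
  refine ⟨fun a b hab => ?_, hsurj⟩
  have : ψ (a - b) = 0 := by
    rw [← Submodule.mem_bot R, ← hbot]; exact ⟨_, rfl⟩
  simpa [ψ, hab, sub_eq_zero] using this

end Groth.Agent.S6864
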