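import Mathlib
import Groth.Statements.S6866
-- import your own Groth.Agent.* helpers here

set_option autoImplicit false
universe u
open TensorProduct
open CAlg

namespace Groth.Agent.S6866

/-- If `M` is a torsion free module over a domain `R` and `R → R'` is a flat ring map to another domain,
then `R' ⊗_R M` is torsion free over `R'`. -/
theorem result (R R' : Type u) [CommRing R] [IsDomain R] [CommRing R']
    [IsDomain R'] [Algebra R R'] [Module.Flat R R'] (M : Type u) [AddCommGroup M] [Module R M]
    [Module.IsTorsionFree R M] : Module.IsTorsionFree R' (R' ⊗[R] M) := by
  let V := LocalizedModule (nonZeroDivisors R) M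
  let l := LocalizedModule.mkLinearMap (nonZeroDivisors R) M
  have hl : Function.Injective l := (injective_iff_map_eq_zero l).mpr fun m hm => by
    obtain ⟨c, hc⟩ := (IsLocalizedModule.eq_zero_iff (nonZeroDivisors R) l).mp hm
    exact (smul_eq_zero.mp hc).resolve_left (nonZeroDivisors.ne_zero c.2)
  haveI : Module.Flat R V := Module.Flat.trans R (FractionRing R) V
  exact Function.Injective.moduleIsTorsionFree (l.baseChange R')
    (Module.Flat.lTensor_preserves_injective_linearMap l hl) (map_smul _)

end Groth.Agent.S6866
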