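import Mathlib
import Groth.Statements.S6867
-- import your own Groth.Agent.* helpers here

set_option autoImplicit false
universe u
open CAlg

namespace Groth.Agent.S6867

/-- For a domain `R`, a finite `R`-module `M` is torsion free exactly when it admits an injective
`R`-linear map into `Rⁿ` for some `n`. -/
theorem result (R : Type u) [CommRing R] [IsDomain R] (M : Type u)
    [AddCommGroup M] [Module R M] [Module.Finite R M] :
    Module.IsTorsionFree R M ↔ ∃ (n : ℕ) (f : M →ₗ[R] (Fin n → R)), Function.Injective f := by
  refine ⟨fun _ => ?_, fun ⟨n, f, hf⟩ => hf.moduleIsTorsionFree f (map_smul f)⟩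
  let S := nonZeroDivisors R
  let K := FractionRing R
  let l := LocalizedModule.mkLinearMap S M
  have hl : Function.Injective l := (injective_iff_map_eq_zero l).mpr fun m hm => by
    obtain ⟨c, hc⟩ := (IsLocalizedModule.eq_zero_iff S l).mp hm
    exact (smul_eq_zero.mp hc).resolve_left (nonZeroDivisors.ne_zero c.2)
  haveI : Module.Finite K (LocalizedModule S M) := Module.Finite.of_isLocalizedModule S l
  let b := Module.finBasis K (LocalizedModule S M)
  obtain ⟨s, hs⟩ := Module.Finite.fg_top (R := R) (M := M)
  classical
  obtain ⟨⟨d, hd⟩, hd'⟩ := IsLocalization.exist_integer_multiples S ((s ×ˢ (Finset.univ : Finset (Fin (Module.finrank K (LocalizedModule S M)))))) (fun q => b.repr (l q.1) q.2)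
  let g : M →ₗ[R] (Fin (Module.finrank K (LocalizedModule S M)) → K) :=
    d • ((b.equivFun.toLinearMap.restrictScalars R) ∘ₗ l)
  have hg : Function.Injective g := fun x y hxy => hl <| b.equivFun.injective <| by
    funext i
    have := congrFun hxy i
    simp only [g, LinearMap.smul_apply, LinearMap.comp_apply, Pi.smul_apply, Algebra.smul_def] at this
    exact mul_left_cancel₀ (by simpa using nonZeroDivisors.ne_zero hd) this
  let ι : (Fin (Module.finrank K (LocalizedModule S M)) → R) →ₗ[R] (Fin (Module.finrank K (LocalizedModule S M)) → K) :=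
    (Algebra.linearMap R K).compLeft _
  have hι : Function.Injective ι := fun x y hxy => funext fun i => IsFractionRing.injective R K (congrFun hxy i)
  have hrange : LinearMap.range g ≤ LinearMap.range ι := by
    rw [LinearMap.range_eq_map, ← hs, Submodule.map_span, Submodule.span_le]
    rintro _ ⟨m, hm, rfl⟩
    choose c hc using fun i => hd' (m, i) (Finset.mem_product.mpr ⟨hm, Finset.mem_univ i⟩)
    exact ⟨c, funext fun i => by simpa [ι, g] using hc i⟩
  exact ⟨_, (LinearEquiv.ofInjective ι hι).symm.toLinearMap ∘ₗ Submodule.inclusion hrange ∘ₗ g.rangeRestrict,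
    (LinearEquiv.ofInjective ι hι).symm.injective.comp ((Submodule.inclusion_injective hrange).comp fun x y hxy => hg (congrArg Subtype.val hxy))⟩

end Groth.Agent.S6867
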