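import Groth.Statements.S6868
import Groth.Agent.DepthLib.Sk

set_option autoImplicit false
universe u
open CAlg

namespace Groth.Agent.S6868

/-- (1) ⇔ (3) ⇔ (4): for a Noetherian domain `R` and a nonzero finite `R`-module `M`, torsion-freeness
of `M` is equivalent to `(0)` being the unique associated prime of `M`, and also to the conjunction:
`(0)` belongs to the support of `M` and `M` satisfies Serre's condition `(S_1)`. (The published
statement also lists embedding into a finite free module and the absence of embedded associated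
primes; this row states the other three conditions.) -/
theorem result (R : Type u) [CommRing R]
    [IsDomain R] [IsNoetherianRing R] (M : Type u) [AddCommGroup M] [Module R M] [Module.Finite R M] [Nontrivial M] :
    (Module.IsTorsionFree R M ↔ associatedPrimes R M = {⊥}) ∧
    (Module.IsTorsionFree R M ↔
      (⟨⊥, Ideal.isPrime_bot⟩ : PrimeSpectrum R) ∈ Module.support R M ∧ LocCoh.HasSk 1 R M) := by
  have hmem : ∀ {p : Ideal R}, p ∈ associatedPrimes R M → ∀ a ∈ p, ∃ z : M, z ≠ 0 ∧ a • z = 0 := by
    intro p hp a ha
    obtain ⟨hprime, z, hz⟩ := isAssociatedPrime_iff.mp hp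
    refine ⟨z, fun h0 => hprime.ne_top ?_, ?_⟩
    · rw [hz, h0]; ext b; simp [Submodule.mem_colon_singleton]
    · rw [hz, Submodule.mem_colon_singleton, Submodule.mem_bot] at ha; exact ha
  have htf : Module.IsTorsionFree R M ↔ associatedPrimes R M = {⊥} := by
    constructor
    · intro h
      have hall : ∀ p ∈ associatedPrimes R M, p = ⊥ := fun p hp => eq_bot_iff.mpr fun a ha => by
        obtain ⟨z, hz0, hz⟩ := hmem hp a ha
        by_contra ha0
        exact hz0 ((isRegular_of_ne_zero (by simpa using ha0)).isSMulRegular (M := M)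
          (show a • z = a • (0 : M) by rw [hz, smul_zero]))
      obtain ⟨p, hp⟩ := associatedPrimes.nonempty R M
      exact Set.eq_singleton_iff_unique_mem.mpr ⟨hall p hp ▸ hp, hall⟩
    · intro h
      refine ⟨fun a ha => ?_⟩
      by_contra hreg
      have : a ∈ ⋃ p ∈ associatedPrimes R M, (p : Set R) := by
        rw [biUnion_associatedPrimes_eq_compl_regular]; exact hreg
      simp [h] at this
      exact ha.ne_zero this
  refine ⟨htf, htf.trans ⟨fun h => ⟨?_, ?_⟩, fun h => ?_⟩⟩
  · exact DepthLib.mem_support_of_mem_associatedPrimes (p := ⊥) (by rw [h]; rfl)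
  · rw [DepthLib.hasSk_one_iff, h]
    rintro p rfl q rfl
    exact lt_irrefl _
  · obtain ⟨p, hp, hle⟩ := DepthLib.exists_associatedPrime_le_of_mem_support h.1
    obtain rfl : p = ⊥ := le_bot_iff.mp hle
    refine Set.eq_singleton_iff_unique_mem.mpr ⟨hp, fun q hq => ?_⟩
    by_contra hne
    exact DepthLib.hasSk_one_iff.mp h.2 q hq ⊥ hp (bot_lt_iff_ne_bot.mpr hne)

end Groth.Agent.S6868
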