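import Mathlib
import Groth.Statements.S6869
import Groth.Agent.S6867
-- import your own Groth.Agent.* helpers here

set_option autoImplicit false
universe u
open CAlg

namespace Groth.Agent.S6869

/-- For a domain `R` and a finite `R`-module `M`, the evaluation map `M → M**` into the double dual is
injective exactly when `M` is torsion free. -/
theorem result (R : Type u) [CommRing R] [IsDomain R] (M : Type u)
    [AddCommGroup M] [Module R M] [Module.Finite R M] :
    Function.Injective (Module.Dual.eval R M) ↔ Module.IsTorsionFree R M := by
  refine ⟨fun h => h.moduleIsTorsionFree _ (map_smul (Module.Dual.eval R M)), fun hM => ?_⟩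
  obtain ⟨n, f, hf⟩ := (Groth.Agent.S6867.result R M).mp hM
  intro x y hxy
  exact hf (funext fun i => LinearMap.congr_fun hxy ((LinearMap.proj (R := R) (φ := fun _ : Fin n => R) i) ∘ₗ f))

end Groth.Agent.S6869
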