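import Groth.Statements.S6874
import Groth.Agent.DepthLib.ReflexiveDomain
import Mathlib.RingTheory.Flat.Basic
import Mathlib.LinearAlgebra.TensorProduct.Tower

set_option autoImplicit false
universe u
open TensorProduct
open CAlg

namespace Groth.Agent.S6874

/-- For a flat ring map `R → R'` between Noetherian domains and a finite reflexive `R`-module `M`, the
base change `R' ⊗_R M` is a (finite) reflexive `R'`-module. -/
theorem result (R R' : Type u) [CommRing R] [IsDomain R]
    [IsNoetherianRing R] [CommRing R'] [IsDomain R'] [IsNoetherianRing R'] [Algebra R R'] [Module.Flat R R']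
    (M : Type u) [AddCommGroup M] [Module R M] [Module.Finite R M] [Module.IsReflexive R M] :
    Module.IsReflexive R' (R' ⊗[R] M) := by
  obtain ⟨n, f, hf, hT⟩ := DepthLib.exists_embedding_of_isReflexive (R := R) M
  obtain ⟨k, π, hπ⟩ := Module.Finite.exists_fin' R (Module.Dual R ((Fin n → R) ⧸ LinearMap.range f))
  let C := (Fin n → R) ⧸ LinearMap.range f
  let j : C →ₗ[R] Module.Dual R (Fin k → R) := π.dualMap.comp (Module.Dual.eval R C)
  have hj : Function.Injective j := by
    refine (LinearMap.dualMap_injective_of_surjective hπ).comp ?_
    rw [injective_iff_map_eq_zero]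
    intro x hx
    by_contra h0
    obtain ⟨ψ, hψ⟩ := DepthLib.exists_dual_ne_zero (R := R) h0
    exact hψ (LinearMap.congr_fun hx ψ)
  have hex : Function.Exact f (j.comp (LinearMap.range f).mkQ) :=
    (LinearMap.exact_map_mkQ_range f).comp_injective j hj (map_zero j)
  refine DepthLib.isReflexive_of_exact (f.baseChange R') ((j.comp (LinearMap.range f).mkQ).baseChange R')
    ?_ ?_
  · exact Module.Flat.lTensor_preserves_injective_linearMap (M := R') f hf
  · exact Module.Flat.lTensor_exact R' hex

end Groth.Agent.S6874
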