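import Groth.Statements.S6878
import Mathlib

set_option autoImplicit false
universe u
open CAlg

namespace Groth.Agent.S6878

/-- Let `R` be a Noetherian ring and `φ : M → N` a map of `R`-modules. Suppose that for every prime `𝔭`
of `R` either `M_𝔭 → N_𝔭` is injective or `𝔭` is not an associated prime of `M`. Then `φ` is
injective. -/
theorem result (R : Type u) [CommRing R]
    [IsNoetherianRing R] {M N : Type u} [AddCommGroup M] [Module R M] [AddCommGroup N] [Module R N] (φ : M →ₗ[R] N)
    (h : ∀ (p : Ideal R) [p.IsPrime],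
      Function.Injective (LocalizedModule.map p.primeCompl φ) ∨ p ∉ associatedPrimes R M) :
    Function.Injective φ := by
  rw [injective_iff_map_eq_zero]
  intro x hx
  by_contra hx0
  haveI : Nontrivial (LinearMap.ker φ) :=
    nontrivial_of_ne ⟨x, hx⟩ 0 fun e => hx0 (congrArg Subtype.val e)
  obtain ⟨p, hp⟩ := associatedPrimes.nonempty R (LinearMap.ker φ)
  have hpM : p ∈ associatedPrimes R M :=
    associatedPrimes.subset_of_injective (LinearMap.ker φ).injective_subtype hp
  haveI := hp.isPrime
  obtain ⟨-, y, hy⟩ := (isAssociatedPrime_iff_exists_injective_linearMap p _).1 hp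
  set m := y (Ideal.Quotient.mk p 1)
  have hm : φ m.1 = 0 := m.2
  rcases h p with h' | h'
  · have h1 : LocalizedModule.mk m.1 (1 : p.primeCompl) = 0 := by
      apply h'
      rw [LocalizedModule.map_mk, hm, LocalizedModule.zero_mk, map_zero]
    obtain ⟨u, hu⟩ := LocalizedModule.mk_eq.1 (h1.trans (LocalizedModule.zero_mk 1).symm)
    refine u.2 ?_
    rw [SetLike.mem_coe, ← Ideal.Quotient.eq_zero_iff_mem]
    refine (map_eq_zero_iff y hy).1 ?_
    rw [← mul_one (u : R), ← smul_eq_mul, ← Ideal.Quotient.mk_eq_mk, Submodule.Quotient.mk_smul,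
      Ideal.Quotient.mk_eq_mk, map_smul]
    exact Subtype.ext (by simpa [m, Submonoid.smul_def] using hu)
  · exact h' hpM

end Groth.Agent.S6878
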