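import Groth.Statements.S6879
import Groth.Agent.DepthLib.Reflexive

set_option autoImplicit false
universe u
open CAlg

namespace Groth.Agent.S6879

/-- Let `R` be a Noetherian domain and `M` a finite `R`-module. Then `M` is reflexive if and only if for
every prime `𝔭` of `R` either `M_𝔭` is a reflexive `R_𝔭`-module or `depth(M_𝔭) ≥ 2`. -/
theorem result (R : Type u) [CommRing R] [IsDomain R]
    [IsNoetherianRing R] (M : Type u) [AddCommGroup M] [Module R M] [Module.Finite R M] :
    Module.IsReflexive R M ↔ ∀ (p : Ideal R) [p.IsPrime],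
      Module.IsReflexive (Localization.AtPrime p) (LocalizedModule p.primeCompl M) ∨
        2 ≤ LocCoh.depth (Localization.AtPrime p) (LocalizedModule p.primeCompl M) := by
  refine ⟨fun _ p _ => Or.inl (DepthLib.isReflexive_localization p), fun h => ?_⟩
  refine DepthLib.isReflexive_of_forall_localization fun p _ => ?_
  rcases eq_or_ne p ⊥ with rfl | hp
  · haveI hf : IsField (Localization.AtPrime (⊥ : Ideal R)) := by
      rw [IsLocalRing.isField_iff_maximalIdeal_eq, ← Localization.AtPrime.map_eq_maximalIdeal, Ideal.map_bot]
    letI := hf.toField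
    exact Or.inl inferInstance
  · obtain ⟨a, hap, ha⟩ := Submodule.exists_mem_ne_zero_of_ne_bot hp
    refine (h p).imp id fun h2 => ⟨h2, DepthLib.one_le_idealDepth_iff.mpr ⟨_,
      (IsLocalization.AtPrime.to_map_mem_maximal_iff (Localization.AtPrime p) p a).mpr hap,
      fun x y hxy => mul_left_cancel₀ (fun h0 => ha (IsLocalization.injective (Localization.AtPrime p)
        p.primeCompl_le_nonZeroDivisors (by rw [h0, map_zero]))) hxy⟩⟩

end Groth.Agent.S6879
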