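import Groth.Statements.S6881
import Groth.Agent.DepthLib.ReflexiveDomain
import Mathlib.RingTheory.DedekindDomain.IntegralClosure

set_option autoImplicit false
universe u
open CAlg

namespace Groth.Agent.S6881

/-- For `A` a Noetherian integrally closed domain with fraction field `K` and `L/K` a finite field
extension, if the integral closure of `A` in `L` is a finitely generated `A`-module then it is a
reflexive `A`-module. -/
theorem result (A K L : Type u) [CommRing A] [IsDomain A] [IsNoetherianRing A]
    [IsIntegrallyClosed A] [Field K] [Algebra A K] [IsFractionRing A K] [Field L] [Algebra K L] [FiniteDimensional K L]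
    [Algebra A L] [IsScalarTower A K L] [Module.Finite A ↥(integralClosure A L)] :
    Module.IsReflexive A ↥(integralClosure A L) := by
  haveI : Module.IsTorsionFree A L := .trans_faithfulSMul A K L
  haveI : Module.IsTorsionFree A (integralClosure A L) := IsIntegralClosure.isTorsionFree A L
  set B := integralClosure A L
  haveI : IsLocalization (Algebra.algebraMapSubmonoid B (nonZeroDivisors A)) L :=
    IsIntegralClosure.isLocalization A K L B
  let i : B →ₗ[A] L := (IsScalarTower.toAlgHom A B L).toLinearMap
  haveI : IsLocalizedModule (nonZeroDivisors A) i := isLocalizedModule_iff_isLocalization.mpr ‹_›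
  haveI := Module.finitePresentation_of_finite A B
  let χ : Module.Dual A B →ₗ[A] Module.Dual K L :=
    IsLocalizedModule.mapExtendScalars (nonZeroDivisors A) i (Algebra.linearMap A K) K
  haveI : IsLocalizedModule (nonZeroDivisors A) χ := by infer_instance
  let Φ : Module.Dual A (Module.Dual A B) →ₗ[A] Module.Dual K (Module.Dual K L) :=
    IsLocalizedModule.mapExtendScalars (nonZeroDivisors A) χ (Algebra.linearMap A K) K
  let G : Module.Dual A (Module.Dual A B) →ₗ[A] L :=
    ((Module.evalEquiv K L).symm.toLinearMap.restrictScalars A).comp Φ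
  have hχ : ∀ ψ b, χ ψ (i b) = algebraMap A K (ψ b) := fun ψ b =>
    IsLocalizedModule.map_apply (nonZeroDivisors A) i (Algebra.linearMap A K) ψ b
  have hΦ : ∀ φ ψ, χ ψ (G φ) = algebraMap A K (φ ψ) := fun φ ψ => by
    show χ ψ ((Module.evalEquiv K L).symm (Φ φ)) = _
    rw [Module.apply_evalEquiv_symm_apply]
    exact IsLocalizedModule.map_apply (nonZeroDivisors A) χ (Algebra.linearMap A K) φ ψ
  -- membership in the range of `G`
  have hmem : ∀ l : L, l ∈ LinearMap.range G ↔ ∀ ψ, χ ψ l ∈ (algebraMap A K).range := by
    refine fun l => ⟨?_, fun h => ?_⟩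
    · rintro ⟨φ, rfl⟩ ψ; exact ⟨φ ψ, (hΦ φ ψ).symm⟩
    choose a ha using h
    refine ⟨⟨⟨a, fun x y => IsFractionRing.injective A K ?_⟩, fun c x => IsFractionRing.injective A K ?_⟩, ?_⟩
    · rw [ha, map_add, map_add, LinearMap.add_apply, ha, ha]
    · rw [ha, map_smul, RingHom.id_apply, smul_eq_mul, map_mul, ha, LinearMap.smul_apply, Algebra.smul_def]
    · refine (Module.evalEquiv K L).injective ((LinearEquiv.apply_symm_apply _ _).trans ?_)
      refine LinearMap.restrictScalars_injective A ?_
      refine IsLocalizedModule.ext (nonZeroDivisors A) χ (IsLocalizedModule.map_units (Algebra.linearMap A K)) ?_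
      refine LinearMap.ext fun ψ => ?_
      exact (IsLocalizedModule.map_apply (nonZeroDivisors A) χ (Algebra.linearMap A K) _ ψ).trans (ha ψ)
  have hB : ∀ b : B, (b : L) ∈ LinearMap.range G := fun b => (hmem _).mpr fun ψ => ⟨ψ b, (hχ ψ b).symm⟩
  have hcomp : ∀ (m : L) (ψ : Module.Dual A B), (∀ b : B, χ ψ (m * b) ∈ (algebraMap A K).range) →
      ∀ l ∈ LinearMap.range G, χ ψ (m * l) ∈ (algebraMap A K).range := by
    intro m ψ h l hl
    choose a ha using h
    let ψ' : Module.Dual A B := ⟨⟨a, fun x y => IsFractionRing.injective A K (by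
      rw [map_add (algebraMap A K), ha, ha, ha, Subalgebra.coe_add, mul_add, map_add])⟩, fun c x => IsFractionRing.injective A K (by
      show algebraMap A K (a (c • x)) = algebraMap A K (c * a x)
      rw [map_mul (algebraMap A K), ha, ha, Subalgebra.coe_smul, mul_smul_comm,
        LinearMap.map_smul_of_tower, Algebra.smul_def])⟩
    have heq : χ ψ' = (χ ψ).comp (LinearMap.mulLeft K m) := by
      refine LinearMap.restrictScalars_injective A ?_
      refine IsLocalizedModule.ext (nonZeroDivisors A) i (IsLocalizedModule.map_units (Algebra.linearMap A K)) ?_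
      refine LinearMap.ext fun b => ?_
      exact (hχ ψ' b).trans (ha b)
    have := (hmem l).mp hl ψ'
    rwa [heq] at this
  let N : Subalgebra A L :=
    { carrier := (LinearMap.range G : Set L)
      one_mem' := by simpa using hB 1
      mul_mem' := fun {l m} hl hm => by
        refine (hmem _).mpr fun ψ => hcomp l ψ (fun b => ?_) m hm
        rw [mul_comm]
        refine hcomp b ψ (fun b' => ?_) l hl
        exact ⟨ψ (b * b'), by rw [← hχ ψ (b * b')]; rfl⟩
      zero_mem' := zero_mem _
      add_mem' := fun hl hm => add_mem hl hm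
      algebraMap_mem' := fun r => by simpa using hB (algebraMap A B r) }
  haveI : Module.Finite A N := Module.Finite.iff_fg.mpr (show (LinearMap.range G).FG from Module.Finite.iff_fg.mp inferInstance)
  have hint : ∀ l ∈ LinearMap.range G, IsIntegral A l := fun l hl =>
    (isIntegral_algHom_iff N.val Subtype.val_injective).mpr (IsIntegral.of_finite A (⟨l, hl⟩ : N))
  refine ⟨fun x y h => ?_, fun φ => ⟨⟨G φ, hint _ ⟨φ, rfl⟩⟩, LinearMap.ext fun ψ => ?_⟩⟩
  · by_contra hne
    obtain ⟨ψ, hψ⟩ := DepthLib.exists_dual_ne_zero (R := A) (sub_ne_zero.mpr hne)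
    exact hψ (by rw [map_sub, sub_eq_zero]; exact LinearMap.congr_fun h ψ)
  · refine IsFractionRing.injective A K ?_
    exact (hχ ψ ⟨G φ, hint _ ⟨φ, rfl⟩⟩).symm.trans (hΦ φ ψ)

end Groth.Agent.S6881
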