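import Groth.Statements.S6882
import Mathlib
-- import your own Groth.Agent.* helpers here

set_option autoImplicit false
universe u
open CAlg

namespace Groth.Agent.S6882

/-- For a finite module `M` over a discrete valuation ring `R`, the evaluation map from `M` to its
double dual `M**` is surjective. -/
theorem result (R : Type u) [CommRing R] [IsDomain R]
    [IsDiscreteValuationRing R] (M : Type u) [AddCommGroup M] [Module R M] [Module.Finite R M] :
    Function.Surjective (Module.Dual.eval R M) := by
  intro φ
  let π := (Submodule.torsion R M).mkQ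
  have hπ : Function.Surjective π.dualMap := by
    intro ψ
    refine ⟨(Submodule.torsion R M).liftQ ψ ?_, LinearMap.ext fun m => rfl⟩
    rintro m ⟨⟨a, ha⟩, hm⟩
    have hm' : a • m = 0 := hm
    have := congrArg ψ hm'
    rw [map_smul, map_zero, smul_eq_mul] at this
    exact (mul_eq_zero.1 this).resolve_left (nonZeroDivisors.ne_zero ha)
  obtain ⟨z, hz⟩ := (Module.bijective_dual_eval R (M ⧸ Submodule.torsion R M)).2 (π.dualMap.dualMap φ)
  obtain ⟨m, rfl⟩ := Submodule.mkQ_surjective _ z
  refine ⟨m, LinearMap.ext fun ψ => ?_⟩
  obtain ⟨χ, rfl⟩ := hπ ψ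
  exact LinearMap.congr_fun hz χ

end Groth.Agent.S6882
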