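import Groth.Statements.S6884
import Mathlib
import Groth.Agent.FlatDescent.Colimit
import Groth.Agent.FiniteInjDescent.Basic

set_option autoImplicit false
set_option maxHeartbeats 1600000
set_option synthInstance.maxHeartbeats 100000
universe u
open TensorProduct
open CAlg

namespace Groth.Agent.S6884
open Groth Groth.Agent

/-- The descent step at a finite stage. -/
lemma step {A₀ G R₁ S₁ : Type u} [CommRing A₀] [CommRing G] [CommRing R₁] [CommRing S₁]
    [Algebra A₀ G] [Algebra A₀ R₁] [Algebra R₁ S₁] [IsNoetherianRing S₁] [Module.Finite R₁ S₁]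
    (hinj : Function.Injective (algebraMap R₁ S₁)) (M₀ : Type u) [AddCommGroup M₀] [Module A₀ M₀]
    [Module.Flat G (G ⊗[A₀] M₀)] (j : G →+* S₁)
    (hj : ∀ a, j (algebraMap A₀ G a) = algebraMap R₁ S₁ (algebraMap A₀ R₁ a)) :
    Module.Flat R₁ (R₁ ⊗[A₀] M₀) := by
  letI : Algebra A₀ S₁ := ((algebraMap R₁ S₁).comp (algebraMap A₀ R₁)).toAlgebra
  haveI : IsScalarTower A₀ R₁ S₁ := IsScalarTower.of_algebraMap_eq fun _ => rfl
  letI : Algebra G S₁ := j.toAlgebra
  haveI : IsScalarTower A₀ G S₁ := IsScalarTower.of_algebraMap_eq fun a => (hj a).symm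
  haveI : Module.Flat S₁ (S₁ ⊗[A₀] M₀) :=
    Module.Flat.of_linearEquiv (AlgebraTensorModule.cancelBaseChange A₀ G S₁ S₁ M₀).symm
  haveI : Module.Flat S₁ (S₁ ⊗[R₁] (R₁ ⊗[A₀] M₀)) :=
    Module.Flat.of_linearEquiv (AlgebraTensorModule.cancelBaseChange A₀ R₁ S₁ S₁ M₀)
  exact FiniteInjDescent.flat_descent (S := S₁) (M := R₁ ⊗[A₀] M₀) hinj

/-- Descent for a module defined over a Noetherian ring. -/
lemma descend {A₀ R S : Type u} [CommRing A₀] [IsNoetherianRing A₀] [CommRing R] [CommRing S]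
    [Algebra A₀ R] [Algebra R S] [Algebra A₀ S] [IsScalarTower A₀ R S] [Algebra.IsIntegral R S]
    (hinj : Function.Injective (algebraMap R S)) (n : ℕ) (M₀ : Type u) [AddCommGroup M₀] [Module A₀ M₀]
    [Module (MvPolynomial (Fin n) A₀) M₀] [IsScalarTower A₀ (MvPolynomial (Fin n) A₀) M₀]
    [Module.FinitePresentation (MvPolynomial (Fin n) A₀) M₀] (hflat : Module.Flat S (S ⊗[A₀] M₀)) :
    Module.Flat R (R ⊗[A₀] M₀) := by
  classical
  -- the directed system
  let G : Finset S → Type u := fun t => Algebra.adjoin A₀ (t : Set S)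
  let g : ∀ i j : Finset S, i ≤ j → G i →ₐ[A₀] G j := fun i j h =>
    Subalgebra.inclusion (Algebra.adjoin_mono (Finset.coe_subset.2 h))
  have hc : FlatCA.IsDirectedColimitRing G (fun i j h => (g i j h).toRingHom) S := by
    refine ⟨inferInstance, inferInstance, fun i => rfl, fun i j l _ _ => rfl, fun i j h => rfl,
      fun a => ⟨{a}, ⟨a, Algebra.subset_adjoin (by simp)⟩, rfl⟩, fun i x hx => ⟨i, le_rfl, ?_⟩⟩
    exact Subtype.ext hx
  obtain ⟨t, ht⟩ := (FlatDescent.flat_iff_exists_stage g hc (B₀ := MvPolynomial (Fin n) A₀) M₀).1 hflat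
  -- a finite subextension over a Noetherian subring
  have hint : ∀ a : S, IsIntegral R a := fun a => Algebra.IsIntegral.isIntegral a
  choose P hPm hP0 using hint
  let T₁ : Set R := ⋃ a ∈ t, ((P a).coeffs : Set R)
  have hT₁ : T₁.Finite := t.finite_toSet.biUnion fun a _ => Finset.finite_toSet _
  let R₁ : Subalgebra A₀ R := Algebra.adjoin A₀ T₁
  haveI : Algebra.FiniteType A₀ R₁ := Algebra.FiniteType.adjoin_of_finite hT₁
  haveI : IsNoetherianRing R₁ := Algebra.FiniteType.isNoetherianRing A₀ R₁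
  let S₁ : Subalgebra R₁ S := Algebra.adjoin R₁ (t : Set S)
  have hint₁ : ∀ a ∈ (t : Set S), IsIntegral R₁ a := fun a ha => by
    have hsub : ((P a).coeffs : Set R) ⊆ R₁.toSubring := fun c hc =>
      Algebra.subset_adjoin (Set.mem_biUnion ha hc)
    refine ⟨(P a).toSubring R₁.toSubring hsub, (Polynomial.monic_toSubring _ _ _).2 (hPm a), ?_⟩
    have h1 : ((P a).toSubring R₁.toSubring hsub).map R₁.toSubring.subtype = P a :=
      Polynomial.map_toSubring _ _ _
    have h2 := hP0 a
    rw [← h1, Polynomial.eval₂_map] at h2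
    exact h2
  haveI : Module.Finite R₁ S₁ :=
    ⟨(Submodule.fg_top _).2 (fg_adjoin_of_finite t.finite_toSet hint₁)⟩
  haveI : IsNoetherianRing S₁ := isNoetherianRing_of_fg ⟨t, rfl⟩
  have hle : ∀ x : S, x ∈ Algebra.adjoin A₀ (t : Set S) → x ∈ S₁ := fun x hx => by
    induction hx using Algebra.adjoin_induction with
    | mem x hx => exact Algebra.subset_adjoin hx
    | algebraMap r => rw [IsScalarTower.algebraMap_apply A₀ R S]; exact S₁.algebraMap_mem (algebraMap A₀ R₁ r)
    | add x y _ _ hx hy => exact S₁.add_mem hx hy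
    | mul x y _ _ hx hy => exact S₁.mul_mem hx hy
  let j : G t →+* S₁ :=
    { toFun := fun x => ⟨x.1, hle x.1 x.2⟩
      map_one' := rfl
      map_mul' := fun _ _ => rfl
      map_zero' := rfl
      map_add' := fun _ _ => rfl }
  have hinj₁ : Function.Injective (algebraMap R₁ S₁) := fun a b h =>
    Subtype.ext (hinj (congrArg Subtype.val h))
  haveI := ht
  have hR₁ : Module.Flat R₁ (R₁ ⊗[A₀] M₀) := step (G := G t) (R₁ := R₁) (S₁ := S₁) hinj₁ M₀ j
    (fun a => Subtype.ext (IsScalarTower.algebraMap_apply A₀ R S a))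
  exact Module.Flat.of_linearEquiv (AlgebraTensorModule.cancelBaseChange A₀ R₁ R R M₀).symm

/-- For an injective integral ring map `R → S` and `n ≥ 0`, let `M` be a module of finite presentation
over the polynomial ring `R[x_1, …, x_n]`. Then flatness of `S ⊗_R M` over `S` forces flatness of
`M` over `R`. -/
theorem result (R S : Type u) [CommRing R]
    [CommRing S] [Algebra R S] [Algebra.IsIntegral R S] (hinj : Function.Injective (algebraMap R S)) (n : ℕ)
    (M : Type u) [AddCommGroup M] [Module (MvPolynomial (Fin n) R) M] [Module R M]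
    [IsScalarTower R (MvPolynomial (Fin n) R) M] [Module.FinitePresentation (MvPolynomial (Fin n) R) M]
    [Module.Flat S (S ⊗[R] M)] : Module.Flat R M := by
  classical
  obtain ⟨k, K, e, hK⟩ := Module.FinitePresentation.exists_fin (MvPolynomial (Fin n) R) M
  obtain ⟨s, hs⟩ := hK
  let T₀ : Set R := ⋃ v ∈ s, ⋃ i : Fin k, ((MvPolynomial.coeffs (v i) : Finset R) : Set R)
  have hT₀ : T₀.Finite := s.finite_toSet.biUnion fun v _ => Set.finite_iUnion fun i => Finset.finite_toSet _
  let A₀ : Subalgebra ℤ R := Algebra.adjoin ℤ T₀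
  haveI : Algebra.FiniteType ℤ A₀ := Algebra.FiniteType.adjoin_of_finite hT₀
  haveI : IsNoetherianRing A₀ := Algebra.FiniteType.isNoetherianRing ℤ A₀
  have hlift : ∀ v ∈ s, ∃ w : Fin k → MvPolynomial (Fin n) A₀, FlatDescent.mapF (algebraMap A₀ R) w = v := by
    intro v hv
    have : ∀ i, v i ∈ Set.range (MvPolynomial.map (algebraMap A₀ R)) := fun i => by
      apply MvPolynomial.mem_range_map_iff_coeffs_subset.2
      intro c hc
      exact ⟨⟨c, Algebra.subset_adjoin (Set.mem_biUnion hv (Set.mem_iUnion.2 ⟨i, hc⟩))⟩, rfl⟩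
    choose w hw using this
    exact ⟨w, funext fun i => by simp [hw]⟩
  choose w hw using hlift
  let N₀ : Submodule (MvPolynomial (Fin n) A₀) (Fin k → MvPolynomial (Fin n) A₀) :=
    Submodule.span _ (Set.range fun v : s => w v.1 v.2)
  have hN : FlatDescent.baseN (algebraMap A₀ R) N₀ = K := by
    rw [← hs]
    refine le_antisymm (Submodule.span_le.2 ?_) (Submodule.span_le.2 fun v hv => ?_)
    · rintro _ ⟨x, hx, rfl⟩
      induction hx using Submodule.span_induction with
      | mem x hx =>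
        obtain ⟨v, rfl⟩ := hx
        exact Submodule.subset_span (by rw [hw]; exact v.2)
      | zero => simp
      | add x y _ _ hx hy => rw [map_add]; exact Submodule.add_mem _ hx hy
      | smul r x _ hx => rw [FlatDescent.mapF_smul]; exact Submodule.smul_mem _ _ hx
    · rw [← hw v hv]
      exact FlatDescent.mapF_mem_baseN (Submodule.subset_span ⟨⟨v, hv⟩, rfl⟩)
  let M₀ := (Fin k → MvPolynomial (Fin n) A₀) ⧸ N₀
  haveI : Module.FinitePresentation (MvPolynomial (Fin n) A₀) M₀ :=
    Module.finitePresentation_of_surjective N₀.mkQ N₀.mkQ_surjective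
      (by rw [Submodule.ker_mkQ]; exact Submodule.fg_span (Set.finite_range _))
  obtain ⟨E⟩ := FlatDescent.baseNEquiv (R := R) N₀
  rw [hN] at E
  let eR : M ≃ₗ[R] R ⊗[A₀] M₀ := (e.restrictScalars R).trans E
  let c₁ : S ⊗[R] (R ⊗[A₀] M₀) ≃ₗ[S] S ⊗[A₀] M₀ := AlgebraTensorModule.cancelBaseChange A₀ R S S M₀
  let c₂ : S ⊗[R] M ≃ₗ[S] S ⊗[R] (R ⊗[A₀] M₀) := LinearEquiv.baseChange R S M (R ⊗[A₀] M₀) eR
  have hflat : Module.Flat S (S ⊗[A₀] M₀) :=
    @Module.Flat.of_linearEquiv _ _ _ _ _ _ _ _ ‹Module.Flat S (S ⊗[R] M)› (c₂.trans c₁).symm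
  have : Module.Flat R (R ⊗[A₀] M₀) := descend hinj n M₀ hflat
  exact Module.Flat.of_linearEquiv eR

end Groth.Agent.S6884
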