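import Groth.Statements.S6886
import Groth.Agent.CIPres.SyntomicAlg
-- import your own Groth.Agent.* helpers here

set_option autoImplicit false
universe u
open TensorProduct
open CAlg

namespace Groth.Agent.S6886

/-- Let `R → S` be a finite ring map. One can find an extension `R ⊆ R'` of rings, with `R'` finite and
free as an `R`-module, for which the ring `S ⊗_R R'` arises as a quotient of `R'[T_1, …,
T_n]/(P_1(T_1), …, P_n(T_n))` with each `P_i(T) = ∏_j (T - α_{ij})` a product of linear factors over
`R'`. -/
theorem result (R S : Type u) [CommRing R] [CommRing S] [Algebra R S]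
    [Module.Finite R S] :
    ∃ (R' : Type u) (_ : CommRing R') (_ : Algebra R R'), Module.Finite R R' ∧ Module.Free R R' ∧
      Function.Injective (algebraMap R R') ∧
      ∃ (n : ℕ) (d : Fin n → ℕ) (α : (i : Fin n) → Fin (d i) → R')
        (φ : MvPolynomial (Fin n) R' →ₐ[R'] R' ⊗[R] S), Function.Surjective φ ∧
          ∀ i, φ (∏ j, (MvPolynomial.X i - MvPolynomial.C (α i j))) = 0 := by
  classical
  obtain ⟨n, g, hg⟩ := Module.Finite.exists_fin (R := R) (M := S)
  choose P hPm hP0 using fun i => Algebra.IsIntegral.isIntegral (R := R) (g i)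
  obtain ⟨R', _, _, -, hfin, hfree, hff, s, hs⟩ :=
    Groth.Agent.CIPres.exists_splitting_algebra (∏ i, P i).natDegree R (∏ i, P i)
      (Polynomial.monic_prod_of_monic _ _ fun i _ => hPm i) rfl
  refine ⟨R', inferInstance, inferInstance, hfin, hfree, FaithfulSMul.algebraMap_injective R R', n,
    fun _ => s.toList.length, fun _ j => s.toList.get j, MvPolynomial.aeval fun i => (1 : R') ⊗ₜ[R] g i, ?_, ?_⟩
  · intro z
    suffices hz : z ∈ (MvPolynomial.aeval (R := R') fun i => (1 : R') ⊗ₜ[R] g i).range from hz
    induction z with
    | zero => exact zero_mem _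
    | add x y hx hy => exact add_mem hx hy
    | tmul a b =>
      have hb : b ∈ Submodule.span R (Set.range g) := hg ▸ Submodule.mem_top
      induction hb using Submodule.span_induction with
      | mem x hx =>
        obtain ⟨i, rfl⟩ := hx
        exact ⟨MvPolynomial.C a * MvPolynomial.X i, by simp [TensorProduct.smul_tmul', Algebra.smul_def]⟩
      | zero => simp
      | add x y _ _ hx hy => rw [TensorProduct.tmul_add]; exact add_mem hx hy
      | smul r x _ hx =>
        rw [TensorProduct.tmul_smul, ← algebraMap_smul R' r]
        exact Subalgebra.smul_mem _ hx _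
  · intro i
    have h1 : ∀ j, (MvPolynomial.aeval (R := R') fun i => (1 : R') ⊗ₜ[R] g i)
        (MvPolynomial.X i - MvPolynomial.C (s.toList.get j)) =
        Polynomial.aeval ((1 : R') ⊗ₜ[R] g i) (Polynomial.X - Polynomial.C (s.toList.get j)) := by
      intro j
      simp
    rw [map_prod]
    simp only [h1]
    rw [← map_prod]
    have h2 : (∏ j : Fin s.toList.length, (Polynomial.X - Polynomial.C (s.toList.get j))) =
        (∏ i, P i).map (algebraMap R R') := by
      rw [hs, ← List.prod_ofFn]
      conv_rhs => rw [← Multiset.coe_toList s, Multiset.map_coe, Multiset.prod_coe,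
        ← List.ofFn_get s.toList, List.map_ofFn]
      rfl
    rw [h2, Polynomial.aeval_map_algebraMap]
    rw [show (1 : R') ⊗ₜ[R] g i = Algebra.TensorProduct.includeRight (g i) from rfl,
      Polynomial.aeval_algHom_apply, map_prod, Finset.prod_eq_zero (Finset.mem_univ i), map_zero]
    exact hP0 i

end Groth.Agent.S6886
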