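import Groth.Statements.S6887
import Mathlib

set_option autoImplicit false
universe u
open Polynomial
open CAlg

namespace Groth.Agent.S6887

/-- Let `(A, I)` be a Zariski pair (`I` inside the Jacobson radical) and `A → B` a finite ring map.
Suppose `B/IB ≅ B₁ × B₂` as `A`-algebras with `A → B₁` surjective, and `b ∈ B` maps to `(1, 0)`.
Then there is a monic `f ∈ A[x]` with `f(b) = 0` whose reduction modulo `I` is `(x - 1) x^d` for
some `d ≥ 1`. -/
theorem result (A B : Type u) [CommRing A] [CommRing B]
    [Algebra A B] [Module.Finite A B] (I : Ideal A) (hI : I ≤ Ideal.jacobson (⊥ : Ideal A))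
    (B₁ B₂ : Type u) [CommRing B₁] [CommRing B₂] [Algebra A B₁] [Algebra A B₂]
    (e : (B ⧸ I.map (algebraMap A B)) ≃ₐ[A] B₁ × B₂) (h₁ : Function.Surjective (algebraMap A B₁)) (b : B)
    (hb : e (Ideal.Quotient.mk (I.map (algebraMap A B)) b) = (1, 0)) :
    ∃ (f : A[X]) (d : ℕ), f.Monic ∧ Polynomial.aeval b f = 0 ∧ 1 ≤ d ∧
      f.map (Ideal.Quotient.mk I) = (X - 1) * X ^ d := by
  classical
  cases subsingleton_or_nontrivial (A ⧸ I) with
  | inl hs => exact ⟨minpoly A b, 1, minpoly.monic (Algebra.IsIntegral.isIntegral b),
      minpoly.aeval A b, le_rfl, Subsingleton.elim _ _⟩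
  | inr hnt =>
    haveI : Nontrivial A := (Ideal.Quotient.mk I).domain_nontrivial
    let J := I.map (algebraMap A B)
    let q : B →ₐ[A] B₁ × B₂ := e.toAlgHom.comp (Ideal.Quotient.mkₐ A J)
    have hq : Function.Surjective q := e.surjective.comp Ideal.Quotient.mk_surjective
    have hqb : q b = (1, 0) := hb
    haveI : Module.Finite A B₂ :=
      Module.Finite.of_surjective ((LinearMap.snd A B₁ B₂).comp q.toLinearMap)
        ((Prod.snd_surjective).comp hq)
    obtain ⟨n, γ, hγ⟩ := Module.Finite.exists_fin' A B₂
    -- generators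
    let s : Fin (n + 1 + 1) → B :=
      Fin.cons b (Fin.cons 0 fun i => Function.surjInv hq (0, γ (Pi.single i 1)))
    have hs : ∀ i : Fin (n + 1), q (s i.succ) * (1, 0) = 0 := by
      intro i
      refine Fin.cases ?_ (fun i => ?_) i
      · simp [s]
      · simp [s, Function.surjInv_eq hq]
    let π : (Fin (n + 1 + 1) → A) →ₗ[A] B := Fintype.linearCombination A s
    have hker : ∀ x, q x = 0 → x ∈ I • (⊤ : Submodule A B) := by
      intro x hx
      have : Ideal.Quotient.mk J x = 0 := e.injective (by rw [map_zero]; exact hx)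
      rw [Ideal.Quotient.eq_zero_iff_mem] at this
      rw [Ideal.smul_top_eq_map]
      exact this
    have hgen : Submodule.span A (Set.range s) = ⊤ := by
      refine eq_top_iff.2 (Submodule.le_of_le_smul_of_le_jacobson_bot
        (Module.finite_def.1 inferInstance) hI fun x _ => ?_)
      obtain ⟨a, ha⟩ := h₁ (q x).1
      obtain ⟨c, hc⟩ := hγ (q x).2
      let y : B := a • b + ∑ i, c i • Function.surjInv hq (0, γ (Pi.single i 1))
      have hy : q y = q x := by
        simp only [y, map_add, map_smul, map_sum, hqb, Function.surjInv_eq hq]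
        refine Prod.ext ?_ ?_
        · simp [Prod.fst_sum, ← ha, Algebra.algebraMap_eq_smul_one]
        · rw [← hc]; conv_rhs => rw [pi_eq_sum_univ' c]
          simp [Prod.snd_sum]
      refine Submodule.mem_sup.2 ⟨y, ?_, x - y, hker _ (by rw [map_sub, hy, sub_self]), by abel⟩
      refine Submodule.add_mem _ (Submodule.smul_mem _ _ (Submodule.subset_span ⟨0, by simp [s]⟩))
        (Submodule.sum_mem _ fun i _ => Submodule.smul_mem _ _
          (Submodule.subset_span ⟨i.succ.succ, by simp [s]⟩))
    let D : Matrix (Fin (n + 1 + 1)) (Fin (n + 1 + 1)) A :=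
      Matrix.diagonal (Fin.cons 1 fun _ => 0)
    have hdiff : ∀ k, ∃ E : Fin (n + 1 + 1) → A, (∀ l, E l ∈ I) ∧
        ∑ l, E l • s l = b * s k - π (D k) := by
      intro k
      have hmem : b * s k - π (D k) ∈ I • (⊤ : Submodule A B) := by
        refine hker _ ?_
        have : π (D k) = (Fin.cons 1 fun _ => 0 : Fin (n + 1 + 1) → A) k • s k := by
          simp [π, D, Fintype.linearCombination_apply, Matrix.diagonal_apply]
        rw [this, map_sub, map_mul, map_smul, hqb]
        refine Fin.cases ?_ (fun i => ?_) k
        · simp [s, hqb]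
        · simp [mul_comm (1, 0) (q (s i.succ)), hs i]
      rw [← hgen] at hmem
      obtain ⟨E, hE, hsum⟩ := (Submodule.mem_ideal_smul_span_iff_exists_sum I s _).1 hmem
      exact ⟨E, hE, by rw [← hsum, Finsupp.sum_fintype _ _ (by simp)]⟩
    choose E hE hEs using hdiff
    let M : Matrix (Fin (n + 1 + 1)) (Fin (n + 1 + 1)) A := (D + Matrix.of E).transpose
    let μ : B →ₗ[A] B := Algebra.lmul A B b
    have hcomm : ∀ v, π (Matrix.toLin' M v) = μ (π v) := by
      intro v
      rw [pi_eq_sum_univ' v]
      simp only [map_sum, map_smul]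
      refine Finset.sum_congr rfl fun k _ => congrArg (v k • ·) ?_
      rw [Matrix.toLin'_apply, Matrix.mulVec_single_one]
      have hcol : M.col k = D k + E k := by
        ext l; simp [M, Matrix.col_apply]
      rw [hcol, map_add]
      simp only [π, Fintype.linearCombination_apply] at hEs ⊢
      rw [hEs]
      simp [μ, Fintype.linearCombination_apply, Pi.single_apply]
    have hpoly : ∀ (p : A[X]) v, π (Polynomial.aeval (Matrix.toLin' M) p v) = Polynomial.aeval μ p (π v) := by
      intro p
      induction p using Polynomial.induction_on' with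
      | add p q hp hq => intro v; simp [hp, hq]
      | monomial k a =>
        intro v
        simp only [Polynomial.aeval_monomial, Module.End.mul_apply, Module.algebraMap_end_apply, map_smul]
        congr 1
        induction k generalizing v with
        | zero => simp
        | succ k ih => rw [pow_succ, pow_succ, Module.End.mul_apply, Module.End.mul_apply, ih, hcomm]
    have hmapM : M.map (Ideal.Quotient.mk I) =
        Matrix.diagonal (Fin.cons 1 fun _ => 0) := by
      ext k l
      simp only [M, Matrix.map_apply, Matrix.transpose_apply, Matrix.add_apply, Matrix.of_apply,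
        map_add, Ideal.Quotient.eq_zero_iff_mem.2 (hE l k), add_zero, D, Matrix.diagonal_apply]
      by_cases h : l = k
      · subst h
        refine Fin.cases ?_ (fun i => ?_) l <;> simp
      · simp [h, Ne.symm h]
    refine ⟨M.charpoly, n + 1, Matrix.charpoly_monic M, ?_, by omega, ?_⟩
    · obtain ⟨v, hv⟩ : ∃ v, π v = 1 := by
        have : (1 : B) ∈ Submodule.span A (Set.range s) := hgen ▸ Submodule.mem_top
        obtain ⟨c, hc⟩ := (Submodule.mem_span_range_iff_exists_fun A).1 this
        exact ⟨c, by simpa [π, Fintype.linearCombination_apply] using hc⟩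
      have h0 : Polynomial.aeval (Matrix.toLin' M) M.charpoly = 0 := by
        have := congrArg Matrix.toLinAlgEquiv' (Matrix.aeval_self_charpoly M)
        rwa [← Polynomial.aeval_algHom_apply, map_zero] at this
      have := hpoly M.charpoly v
      rw [h0, LinearMap.zero_apply, map_zero, hv, Polynomial.aeval_algHom_apply] at this
      simpa using this.symm
    · rw [← Matrix.charpoly_map, hmapM, Matrix.charpoly_diagonal, Fin.prod_univ_succ]
      simp

end Groth.Agent.S6887
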