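import Groth.Statements.S6888
import Mathlib.RingTheory.Henselian
import Mathlib.Algebra.Polynomial.Derivative
import Mathlib.RingTheory.Idempotents
import Mathlib.Tactic.LinearCombination

set_option autoImplicit false
universe u
open Polynomial
open CAlg

namespace Groth.Agent.S6888

open Polynomial

/-- An idempotent in the Jacobson radical vanishes. -/
theorem eq_zero_of_idem {A : Type u} [CommRing A] {I : Ideal A} (hI : I ≤ Ideal.jacobson (⊥ : Ideal A))
    {e : A} (he : IsIdempotentElem e) (hm : e ∈ I) : e = 0 := by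
  have h := Ideal.mem_jacobson_bot.mp (hI hm) (-1)
  refine h.mul_left_cancel ?_
  rw [mul_zero]
  linear_combination -he.eq

/-- Let `A` be absolutely integrally closed (every monic polynomial over `A` is a product of linear
factors) and `I ⊆ A` an ideal contained in the Jacobson radical such that `A → A/I` is surjective
(hence bijective) on idempotents. Then `(A, I)` is a henselian pair. (The published statement also
records the converse, which holds for every henselian pair; this row states the sufficiency only.) -/
theorem result (A : Type u) [CommRing A]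
    (hA : ∀ f : A[X], f.Monic → ∃ s : Multiset A, f = (s.map fun a => X - C a).prod) (I : Ideal A)
    (hI : I ≤ Ideal.jacobson (⊥ : Ideal A))
    (hidem : ∀ e : A ⧸ I, IsIdempotentElem e → ∃ e' : A, IsIdempotentElem e' ∧ Ideal.Quotient.mk I e' = e) :
    HenselianRing A I := by
  classical
  have hidem' := hidem
  clear hidem
  refine ⟨hI, fun f hf a₀ hroot hder => ?_⟩
  obtain ⟨s, rfl⟩ := hA f hf
  obtain ⟨n, a, rfl⟩ : ∃ (n : ℕ) (a : Fin n → A), s = Finset.univ.val.map a :=
    ⟨s.toList.length, s.toList.get, by rw [Fin.univ_val_map, List.ofFn_get, Multiset.coe_toList]⟩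
  have hfe : ((Finset.univ.val.map a).map fun a => X - C a).prod = ∏ i, (X - C (a i)) := by
    rw [Multiset.map_map]; rfl
  rw [hfe] at hroot hder ⊢
  let π := Ideal.Quotient.mk I
  let d : Fin n → A ⧸ I := fun i => π (a₀ - a i)
  have hprod : ∏ i, d i = 0 := by
    rw [← map_prod]
    exact Ideal.Quotient.eq_zero_iff_mem.mpr (by simpa [eval_prod] using hroot)
  have hu : IsUnit (∑ j, ∏ i ∈ Finset.univ.erase j, d i) := by
    convert hder using 1
    rw [derivative_prod_finset, eval_finset_sum, map_sum]
    refine Finset.sum_congr rfl fun j _ => ?_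
    rw [eval_mul, eval_prod, derivative_X_sub_C, eval_one, mul_one, map_prod]
    refine Finset.prod_congr rfl fun i _ => ?_
    simp [d, π]
  obtain ⟨u, hu⟩ := hu
  let E : Fin n → A ⧸ I := fun j => (↑u⁻¹ : A ⧸ I) * ∏ i ∈ Finset.univ.erase j, d i
  have hsum : ∑ j, E j = 1 := by rw [← Finset.mul_sum, ← hu, Units.inv_mul]
  have hdE : ∀ j, d j * E j = 0 := fun j => by
    rw [mul_left_comm, Finset.mul_prod_erase _ d (Finset.mem_univ j), hprod, mul_zero]
  have horth : ∀ i j, i ≠ j → E i * E j = 0 := fun i j hij => by
    have h : E i * E j = (↑u⁻¹ * ∏ l ∈ (Finset.univ.erase j).erase i, d l) * (d i * E i) := by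
      have h2 : ∏ l ∈ Finset.univ.erase j, d l = d i * ∏ l ∈ (Finset.univ.erase j).erase i, d l :=
        (Finset.mul_prod_erase _ d (Finset.mem_erase.mpr ⟨hij, Finset.mem_univ i⟩)).symm
      simp only [E, h2]; ring
    rw [h, hdE, mul_zero]
  have hidem : ∀ j, IsIdempotentElem (E j) := fun j => by
    show E j * E j = E j
    conv_rhs => rw [← mul_one (E j), ← hsum, Finset.mul_sum,
      Finset.sum_eq_single j (fun i _ hi => horth j i (Ne.symm hi)) (fun h => absurd (Finset.mem_univ j) h)]
  choose e he hπe using fun j => hidem' (E j) (hidem j)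
  have horth' : ∀ i j, i ≠ j → e i * e j = 0 := fun i j hij =>
    eq_zero_of_idem hI ((he i).mul (he j)) (Ideal.Quotient.eq_zero_iff_mem.mp (by
      rw [map_mul, hπe, hπe, horth i j hij]))
  have hsum' : ∑ j, e j = 1 := by
    have hs : IsIdempotentElem (∑ j, e j) := by
      show (∑ j, e j) * (∑ j, e j) = _
      rw [Finset.sum_mul]
      refine Finset.sum_congr rfl fun i _ => ?_
      rw [Finset.mul_sum, Finset.sum_eq_single i (fun j _ hj => horth' i j (Ne.symm hj))
        (fun h => absurd (Finset.mem_univ i) h), (he i).eq]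
    have h0 := eq_zero_of_idem hI hs.one_sub (Ideal.Quotient.eq_zero_iff_mem.mp (by
      simp [map_sum, hπe, hsum]))
    exact (sub_eq_zero.mp h0).symm
  refine ⟨∑ j, e j * a j, ?_, ?_⟩
  · have key : ∀ k, e k * (∑ j, e j * a j) = e k * a k := fun k => by
      rw [Finset.mul_sum, Finset.sum_eq_single k (fun j _ hj => by rw [← mul_assoc, horth' k j (Ne.symm hj), zero_mul])
        (fun h => absurd (Finset.mem_univ k) h), ← mul_assoc, (he k).eq]
    show eval (∑ j, e j * a j) (∏ i, (X - C (a i))) = 0
    rw [eval_prod, ← one_mul (∏ i, eval _ _), ← hsum', Finset.sum_mul]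
    refine Finset.sum_eq_zero fun k _ => ?_
    rw [← Finset.mul_prod_erase _ _ (Finset.mem_univ k), ← mul_assoc]
    rw [eval_sub, eval_X, eval_C, mul_sub, key, sub_self, zero_mul]
  · rw [← Ideal.Quotient.eq_zero_iff_mem, map_sub, map_sum, sub_eq_zero]
    calc ∑ j, π (e j * a j) = ∑ j, π a₀ * E j := Finset.sum_congr rfl fun j _ => by
            have h := hdE j
            simp only [d, map_sub, sub_mul, sub_eq_zero] at h
            rw [map_mul, hπe, h, mul_comm]
      _ = π a₀ := by rw [← Finset.mul_sum, hsum, mul_one]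

end Groth.Agent.S6888
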