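import Groth.Statements.S6893
import Mathlib
-- import your own Groth.Agent.* helpers here

set_option autoImplicit false
universe u
open TensorProduct
open CAlg

namespace Groth.Agent.S6893

section Aux
open TensorProduct

theorem rTensor_injective_of_flat_surjective {R A : Type u} [CommRing R] [CommRing A] [Algebra R A]
    (hA : Function.Surjective (algebraMap R A)) (M : Type u) [AddCommGroup M] [Module R M]
    [Module.Flat A (A ⊗[R] M)] {K : Type u} [AddCommGroup K] [Module R K] (g : K →ₗ[R] A)
    (hg : Function.Injective g) : Function.Injective (g.rTensor M) := by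
  let N : Submodule A A :=
    { carrier := Set.range g
      add_mem' := by rintro _ _ ⟨a, rfl⟩ ⟨b, rfl⟩; exact ⟨a + b, map_add _ _ _⟩
      zero_mem' := ⟨0, map_zero _⟩
      smul_mem' := by
        rintro c _ ⟨a, rfl⟩
        obtain ⟨r, rfl⟩ := hA c
        exact ⟨r • a, by rw [map_smul, Algebra.smul_def]; rfl⟩ }
  let e : K ≃ₗ[R] N := LinearEquiv.ofBijective
    { toFun := fun k => (⟨g k, k, rfl⟩ : N)
      map_add' := fun a b => Subtype.ext (map_add g a b)
      map_smul' := fun r a => Subtype.ext (map_smul g r a) }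
    ⟨fun a b h => hg (congrArg Subtype.val h), fun n => by
      obtain ⟨k, hk⟩ := n.2
      exact ⟨k, Subtype.ext hk⟩⟩
  have hN : Function.Injective ((N.subtype.restrictScalars R).rTensor M) := by
    have h := Module.Flat.rTensor_preserves_injective_linearMap (M := A ⊗[R] M) N.subtype N.injective_subtype
    intro x y hxy
    let cN := AlgebraTensorModule.cancelBaseChange R A A N M
    let cA := AlgebraTensorModule.cancelBaseChange R A A A M
    have key : ∀ z, (N.subtype.restrictScalars R).rTensor M (cN z) = cA (N.subtype.rTensor (A ⊗[R] M) z) := by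
      intro z
      induction z using TensorProduct.induction_on with
      | zero => simp
      | add a b ha hb => simp only [map_add, ha, hb]
      | tmul n w =>
        induction w using TensorProduct.induction_on with
        | zero => simp
        | add a b ha hb => simp only [TensorProduct.tmul_add, map_add, ha, hb]
        | tmul a m => simp [cN, cA]
    obtain ⟨x, rfl⟩ := cN.surjective x
    obtain ⟨y, rfl⟩ := cN.surjective y
    rw [key, key] at hxy
    rw [h (cA.injective hxy)]
  have hfac : g = (N.subtype.restrictScalars R) ∘ₗ e.toLinearMap := LinearMap.ext fun _ => rfl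
  rw [hfac, LinearMap.rTensor_comp]
  exact hN.comp (e.rTensor M).injective

theorem flat_of_two_quotients {R A₁ A₂ : Type u} [CommRing R] [CommRing A₁] [CommRing A₂] [Algebra R A₁]
    [Algebra R A₂] (h₁ : Function.Surjective (algebraMap R A₁)) (h₂ : Function.Surjective (algebraMap R A₂))
    (hker : ∀ r : R, algebraMap R A₁ r = 0 → algebraMap R A₂ r = 0 → r = 0)
    (M : Type u) [AddCommGroup M] [Module R M] [Module.Flat A₁ (A₁ ⊗[R] M)] [Module.Flat A₂ (A₂ ⊗[R] M)] :
    Module.Flat R M := by
  rw [Module.Flat.iff_rTensor_injective']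
  intro J
  rw [injective_iff_map_eq_zero]
  intro x hx
  let π : J →ₗ[R] A₁ := (Algebra.linearMap R A₁) ∘ₗ J.subtype
  have h1 : π.rangeRestrict.rTensor M x = 0 := by
    apply rTensor_injective_of_flat_surjective h₁ M (LinearMap.range π).subtype (Submodule.injective_subtype _)
    rw [← LinearMap.comp_apply, ← LinearMap.rTensor_comp, map_zero,
      show (LinearMap.range π).subtype ∘ₗ π.rangeRestrict = π from rfl, LinearMap.rTensor_comp,
      LinearMap.comp_apply, hx, map_zero]
  have hex : Function.Exact (LinearMap.ker π).subtype π.rangeRestrict := by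
    rw [LinearMap.exact_iff, Submodule.range_subtype, LinearMap.ker_rangeRestrict]
  obtain ⟨y, rfl⟩ := (rTensor_exact M hex π.surjective_rangeRestrict x).mp h1
  let g : LinearMap.ker π →ₗ[R] A₂ := (Algebra.linearMap R A₂) ∘ₗ J.subtype ∘ₗ (LinearMap.ker π).subtype
  have hg : Function.Injective g := (injective_iff_map_eq_zero g).mpr fun a ha =>
    Subtype.ext (Subtype.ext (hker a.1.1 a.2 ha))
  have : g.rTensor M y = 0 := by
    rw [LinearMap.rTensor_comp, LinearMap.comp_apply, LinearMap.rTensor_comp, LinearMap.comp_apply, hx, map_zero]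
  rw [(injective_iff_map_eq_zero _).mp (rTensor_injective_of_flat_surjective h₂ M g hg) y this, map_zero]

end Aux

/-- Let `M` be a module over a ring `R` and `I₁, I₂ ⊆ R` ideals. Suppose flatness of `M/I₁M` as an
`R/I₁`-module holds, and likewise `M/I₂M` is a flat `R/I₂`-module; then the quotient `M/(I₁ ∩ I₂)M`
is also flat as a module over `R/(I₁ ∩ I₂)`. -/
theorem result {R : Type u} [CommRing R] (M : Type u) [AddCommGroup M] [Module R M]
    (I₁ I₂ : Ideal R) [Module.Flat (R ⧸ I₁) ((R ⧸ I₁) ⊗[R] M)] [Module.Flat (R ⧸ I₂) ((R ⧸ I₂) ⊗[R] M)] :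
    Module.Flat (R ⧸ (I₁ ⊓ I₂)) ((R ⧸ (I₁ ⊓ I₂)) ⊗[R] M) := by
  let A := R ⧸ (I₁ ⊓ I₂)
  let f₁ : A →+* R ⧸ I₁ := Ideal.Quotient.factor inf_le_left
  let f₂ : A →+* R ⧸ I₂ := Ideal.Quotient.factor inf_le_right
  letI := f₁.toAlgebra
  letI := f₂.toAlgebra
  haveI : IsScalarTower R A (R ⧸ I₁) := IsScalarTower.of_algebraMap_eq' rfl
  haveI : IsScalarTower R A (R ⧸ I₂) := IsScalarTower.of_algebraMap_eq' rfl
  haveI : Module.Flat (R ⧸ I₁) ((R ⧸ I₁) ⊗[A] (A ⊗[R] M)) :=
    Module.Flat.of_linearEquiv (AlgebraTensorModule.cancelBaseChange R A (R ⧸ I₁) (R ⧸ I₁) M)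
  haveI : Module.Flat (R ⧸ I₂) ((R ⧸ I₂) ⊗[A] (A ⊗[R] M)) :=
    Module.Flat.of_linearEquiv (AlgebraTensorModule.cancelBaseChange R A (R ⧸ I₂) (R ⧸ I₂) M)
  refine flat_of_two_quotients (A₁ := R ⧸ I₁) (A₂ := R ⧸ I₂) ?_ ?_ ?_ (A ⊗[R] M)
  · exact Ideal.Quotient.factor_surjective _
  · exact Ideal.Quotient.factor_surjective _
  · intro r h1 h2
    obtain ⟨r, rfl⟩ := Ideal.Quotient.mk_surjective r
    exact Ideal.Quotient.eq_zero_iff_mem.mpr ⟨Ideal.Quotient.eq_zero_iff_mem.mp h1,
      Ideal.Quotient.eq_zero_iff_mem.mp h2⟩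

end Groth.Agent.S6893
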