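import Groth.Statements.S6896
import Groth.Agent.FittIdeal.Basic
import Mathlib.RingTheory.LocalRing.MaximalIdeal.Basic
-- import your own Groth.Agent.* helpers here

set_option autoImplicit false
universe u
open Fitt

namespace Groth.Agent.S6896

/-- Let `R` be a local ring, `M` a finite `R`-module and `k ≥ 0` with `Fit_k(M) = (f)` principal. Then
the quotient `M'` of `M` by the submodule `{x ∈ M | f x = 0}` can be generated by `k` elements. -/
theorem result {R : Type u} [CommRing R] [IsLocalRing R]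
    (M : Type u) [AddCommGroup M] [Module R M] [Module.Finite R M] (k : ℕ) (f : R)
    (hf : Fitt.ideal R M k = Ideal.span {f}) :
    ∃ g : Fin k → M ⧸ LinearMap.ker (f • (LinearMap.id : M →ₗ[R] M)),
      Submodule.span R (Set.range g) = ⊤ := by
  classical
  set N := LinearMap.ker (f • (LinearMap.id : M →ₗ[R] M))
  have hNmem : ∀ z : M, f • z = 0 → (Submodule.Quotient.mk z : M ⧸ N) = 0 := fun z hz =>
    (Submodule.Quotient.mk_eq_zero _).2 (by simp [N, LinearMap.mem_ker, hz])
  obtain ⟨n, x, hx⟩ := Module.Finite.exists_fin (R := R) (M := M)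
  by_cases hf0 : f = 0
  · refine ⟨fun _ => 0, eq_top_iff.2 fun z _ => ?_⟩
    obtain ⟨z, rfl⟩ := Submodule.Quotient.mk_surjective N z
    rw [hNmem z (by rw [hf0, zero_smul])]; exact zero_mem _
  have hgenq : Submodule.span R (Set.range fun i => (Submodule.Quotient.mk (x i) : M ⧸ N)) = ⊤ := by
    rw [show (Set.range fun i => (Submodule.Quotient.mk (x i) : M ⧸ N)) = N.mkQ '' Set.range x from
      (Set.range_comp _ _), Submodule.span_image, hx, Submodule.map_top, Submodule.range_mkQ]
  by_cases hnk : n ≤ k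
  · refine ⟨fun i => if h : (i : ℕ) < n then Submodule.Quotient.mk (x ⟨i, h⟩) else 0, eq_top_iff.2 ?_⟩
    rw [← hgenq, Submodule.span_le]
    rintro _ ⟨i, rfl⟩
    exact Submodule.subset_span ⟨⟨i, by omega⟩, by simp⟩
  rw [Groth.Agent.FittIdeal.ideal_eq x hx] at hf
  -- some determinant is a unit multiple of `f`
  obtain ⟨a, ha, u, hu, hau⟩ : ∃ a : Matrix (Fin n) (Fin n) R,
      (∀ i : Fin n, (i : ℕ) < n - k → ∑ j, a i j • x j = 0) ∧ ∃ u, IsUnit u ∧ a.det = u * f := by
    by_contra hne
    push Not at hne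
    have hle : Groth.Agent.FittIdeal.dIdeal x k ≤ IsLocalRing.maximalIdeal R * Ideal.span {f} := by
      refine Ideal.span_le.2 ?_
      rintro _ ⟨a, ha, rfl⟩
      obtain ⟨u, hu⟩ := Ideal.mem_span_singleton'.1 (hf ▸ Groth.Agent.FittIdeal.det_mem a ha)
      rw [SetLike.mem_coe, ← hu]
      exact Ideal.mul_mem_mul ((IsLocalRing.mem_maximalIdeal u).2 fun hunit => hne a ha u hunit hu.symm)
        (Ideal.mem_span_singleton_self f)
    rw [hf] at hle
    obtain ⟨m, hm, hmf⟩ := Ideal.mem_mul_span_singleton.1 (hle (Ideal.mem_span_singleton_self f))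
    have : (1 - m) * f = 0 := by rw [sub_mul, one_mul, hmf, sub_self]
    exact hf0 (((IsLocalRing.isUnit_or_isUnit_one_sub_self m).resolve_left
      ((IsLocalRing.mem_maximalIdeal m).1 hm)).mul_right_eq_zero.1 this)
  let y : Fin n → M := fun j => ∑ l, a j l • x l
  refine ⟨fun c => Submodule.Quotient.mk (y ⟨(n - k) + c, by omega⟩), eq_top_iff.2 ?_⟩
  rw [← hgenq, Submodule.span_le]
  rintro _ ⟨i, rfl⟩
  have hw : ∀ j : Fin n, ∃ w, (n - k ≤ (j : ℕ)) → a.adjugate i j = w * f := fun j => by
    by_cases hj : n - k ≤ (j : ℕ)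
    · have hmem : a.adjugate i j ∈ Groth.Agent.FittIdeal.dIdeal x k := by
        rw [Matrix.adjugate_apply]
        refine Groth.Agent.FittIdeal.det_mem _ fun l hl => ?_
        rw [Matrix.updateRow_ne (by rintro rfl; omega)]
        exact ha l hl
      obtain ⟨w, hw⟩ := Ideal.mem_span_singleton'.1 (hf ▸ hmem)
      exact ⟨w, fun _ => hw.symm⟩
    · exact ⟨0, fun h => absurd h hj⟩
  choose w hw using hw
  have h1 : a.det • x i = ∑ j, a.adjugate i j • y j := by
    have : ∑ l, (a.adjugate * a) i l • x l = a.det • x i := by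
      simp [Matrix.adjugate_mul, Matrix.smul_apply, Matrix.one_apply, ite_smul, ← smul_smul]
    rw [← this]
    simp only [y, Matrix.mul_apply, Finset.sum_smul, Finset.smul_sum, smul_smul]
    exact Finset.sum_comm
  have h2 : f • (u • x i - ∑ j, w j • y j) = 0 := by
    rw [smul_sub, smul_smul, mul_comm, ← hau, h1, Finset.smul_sum, sub_eq_zero]
    refine Finset.sum_congr rfl fun j _ => ?_
    by_cases hj : n - k ≤ (j : ℕ)
    · rw [hw j hj, smul_smul, mul_comm]
    · simp [show y j = 0 from ha j (by omega)]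
  have h3 := hNmem _ h2
  rw [Submodule.Quotient.mk_sub, sub_eq_zero, Submodule.Quotient.mk_smul, ← Submodule.mkQ_apply (x := ∑ j, w j • y j),
    map_sum] at h3
  rw [SetLike.mem_coe, ← Submodule.smul_mem_iff_of_isUnit _ hu, h3]
  refine Submodule.sum_mem _ fun j _ => ?_
  rw [map_smul]
  refine Submodule.smul_mem _ _ ?_
  by_cases hj : n - k ≤ (j : ℕ)
  · refine Submodule.subset_span ⟨⟨j - (n - k), by omega⟩, ?_⟩
    simp only [Submodule.mkQ_apply]
    congr 2
    ext; simp; omega
  · rw [show y j = 0 from ha j (by omega), map_zero]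
    exact zero_mem _

end Groth.Agent.S6896
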