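import Mathlib
import Groth.Statements.S6897
import Groth.Agent.FittIdeal.Basic
-- import your own Groth.Agent.* helpers here

set_option autoImplicit false
universe u
open CategoryTheory
open Fitt

namespace Groth.Agent.S6897
open Matrix CategoryTheory

variable {R : Type u} [CommRing R]

/-- A module which near every prime is a direct summand of a free module up to a unit is projective. -/
lemma projective_of_local {P : Type u} [AddCommGroup P] [Module R P]
    (h : ∀ (p : Ideal R) [p.IsPrime], ∃ u, u ∉ p ∧ ∃ (m : ℕ) (α : (Fin m → R) →ₗ[R] P)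
      (β : P →ₗ[R] (Fin m → R)), ∀ x, α (β x) = u • x) : Module.Projective R P := by
  classical
  choose u hu m α β hαβ using fun p : PrimeSpectrum R => h p.asIdeal
  have htop : (1 : R) ∈ Submodule.span R (Set.range u) := by
    by_contra hne
    obtain ⟨q, hq, hle⟩ := Ideal.exists_le_maximal (Ideal.span (Set.range u)) (fun ht => hne (show (1 : R) ∈ Ideal.span (Set.range u) by rw [ht]; exact Submodule.mem_top))
    exact hu ⟨q, hq.isPrime⟩ (hle (Ideal.subset_span ⟨_, rfl⟩))
  obtain ⟨c, hc⟩ := Finsupp.mem_span_range_iff_exists_finsupp.1 htop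
  let s : P →ₗ[R] ((i : c.support) → Fin (m i.1) → R) := LinearMap.pi fun i => β i.1
  let r : ((i : c.support) → Fin (m i.1) → R) →ₗ[R] P :=
    ∑ i : c.support, c i.1 • ((α i.1).comp (LinearMap.proj i))
  refine Module.Projective.of_split s r (LinearMap.ext fun x => ?_)
  simp only [r, s, LinearMap.comp_apply, LinearMap.sum_apply, LinearMap.smul_apply, LinearMap.proj_apply,
    LinearMap.pi_apply, hαβ, smul_smul, LinearMap.id_apply, ← Finset.sum_smul]
  rw [Finset.sum_coe_sort c.support fun p => c p * u p]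
  rw [Finsupp.sum] at hc
  simp only [smul_eq_mul] at hc
  rw [hc, one_smul]

variable {M : Type u} [AddCommGroup M] [Module R M]

/-- The presentation map of a tuple. -/
noncomputable def pres {n : ℕ} (x : Fin n → M) : (Fin n → R) →ₗ[R] M := Fintype.linearCombination R x

lemma pres_apply {n : ℕ} (x : Fin n → M) (v : Fin n → R) : pres x v = ∑ l, v l • x l :=
  Fintype.linearCombination_apply R x v

variable {k m : ℕ} {f : R} (hf0 : f ∈ nonZeroDivisors R) (hf : Fitt.ideal R M k = Ideal.span {f})
  (hk : k = 0 ∨ Fitt.ideal R M (k - 1) = ⊥) (x : Fin (m + k) → M) (hx : Submodule.span R (Set.range x) = ⊤)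

include hf hx in
lemma exists_minor (p : Ideal R) [hp : p.IsPrime] (hf0 : f ∈ nonZeroDivisors R) :
    ∃ u, u ∉ p ∧ ∃ a : Matrix (Fin (m + k)) (Fin (m + k)) R,
      (∀ i : Fin (m + k), (i : ℕ) < m → pres x (a i) = 0) ∧ a.det = u * f := by
  by_contra hne
  push Not at hne
  have hle : Ideal.span {f} ≤ p * Ideal.span {f} := by
    refine le_trans hf.ge ?_
    rw [Groth.Agent.FittIdeal.ideal_eq x hx]
    refine Ideal.span_le.2 ?_
    rintro _ ⟨a, ha, rfl⟩
    have h0 : a.det ∈ Ideal.span {f} := by
      rw [← hf, Groth.Agent.FittIdeal.ideal_eq x hx]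
      exact Groth.Agent.FittIdeal.det_mem a ha
    obtain ⟨u, hu⟩ := Ideal.mem_span_singleton'.1 h0
    rw [SetLike.mem_coe, ← hu]
    refine Ideal.mul_mem_mul ?_ (Ideal.mem_span_singleton_self f)
    by_contra hup
    exact hne u hup a (fun i hi => (pres_apply x (a i)).trans (ha i (by omega))) hu.symm
  obtain ⟨t, ht, htf⟩ := Ideal.mem_mul_span_singleton.1 (hle (Ideal.mem_span_singleton_self f))
  have h1 : t = 1 := by
    have : (t - 1) * f = 0 := by rw [sub_mul, one_mul, htf, sub_self]
    exact sub_eq_zero.1 (eq_zero_of_mul_eq_zero hf0 this)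
  exact hp.ne_top ((Ideal.eq_top_iff_one p).2 (h1 ▸ ht))
where
  eq_zero_of_mul_eq_zero {t f : R} (hf0 : f ∈ nonZeroDivisors R) (h : t * f = 0) : t = 0 :=
    (mem_nonZeroDivisors_iff.1 hf0).2 t h

include hk hx in
lemma cramer_tail (a : Matrix (Fin (m + k)) (Fin (m + k)) R)
    (ha : ∀ i : Fin (m + k), (i : ℕ) < m → pres x (a i) = 0) {z : Fin (m + k) → R} (hz : pres x z = 0)
    (i : Fin (m + k)) (hi : m ≤ (i : ℕ)) : cramer a.transpose z i = 0 := by
  classical
  rcases hk with rfl | hk
  · omega
  rw [cramer_transpose_apply]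
  let σ : Equiv.Perm (Fin (m + k)) := Equiv.swap ⟨m, by omega⟩ i
  have hmem : ((a.updateRow i z).submatrix σ id).det ∈ Groth.Agent.FittIdeal.dIdeal x (k - 1) := by
    refine Groth.Agent.FittIdeal.det_mem _ fun l hl => ?_
    have hrow : ((a.updateRow i z).submatrix σ id) l = (a.updateRow i z) (σ l) := rfl
    rw [← pres_apply, hrow]
    rcases (show (l : ℕ) < m ∨ (l : ℕ) = m by omega) with h | h
    · rw [show σ l = l from Equiv.swap_apply_of_ne_of_ne (fun e => by rw [e] at h; simp at h) (fun e => by rw [e] at h; omega),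
        Matrix.updateRow_ne (fun e => by rw [e] at h; omega)]
      exact ha l h
    · rw [show σ l = i from (congrArg σ (Fin.ext h : l = ⟨m, by omega⟩)).trans (Equiv.swap_apply_left _ _),
        Matrix.updateRow_self]
      exact hz
  rw [← Groth.Agent.FittIdeal.ideal_eq x hx, hk, Ideal.mem_bot, Matrix.det_permute] at hmem
  exact ((Units.isUnit _).map (Int.castRingHom R)).mul_right_eq_zero.1 hmem

include hf hx in
lemma cramer_mem (a : Matrix (Fin (m + k)) (Fin (m + k)) R)
    (ha : ∀ i : Fin (m + k), (i : ℕ) < m → pres x (a i) = 0) (z : Fin (m + k) → R)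
    (i : Fin (m + k)) (hi : m ≤ (i : ℕ) ∨ pres x z = 0) : cramer a.transpose z i ∈ Ideal.span {f} := by
  rw [← hf, Groth.Agent.FittIdeal.ideal_eq x hx, cramer_transpose_apply]
  refine Groth.Agent.FittIdeal.det_mem _ fun l hl => ?_
  rw [← pres_apply]
  rcases eq_or_ne l i with rfl | h
  · rw [Matrix.updateRow_self]
    exact hi.resolve_left (by omega)
  · rw [Matrix.updateRow_ne h]
    exact ha l (by omega)

include hf0 in
lemma cancel_f {a b : R} (h : a * f = b * f) : a = b :=
  sub_eq_zero.1 ((mem_nonZeroDivisors_iff.1 hf0).2 _ (by rw [sub_mul, h, sub_self]))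

include hf0 in
lemma exists_quot {P : Type u} [AddCommGroup P] [Module R P] {n : ℕ} (L : P →ₗ[R] (Fin n → R))
    (h : ∀ z i, L z i ∈ Ideal.span {f}) : ∃ W : P →ₗ[R] (Fin n → R), ∀ z i, W z i * f = L z i := by
  choose w hw using fun z i => Ideal.mem_span_singleton'.1 (h z i)
  refine ⟨{ toFun := w, map_add' := fun z z' => ?_, map_smul' := fun r z => ?_ }, hw⟩
  · funext i
    refine cancel_f hf0 ?_
    rw [Pi.add_apply, add_mul, hw, hw, hw, map_add, Pi.add_apply]
  · funext i
    refine cancel_f hf0 ?_
    rw [RingHom.id_apply, Pi.smul_apply, smul_eq_mul, mul_assoc, hw, hw, map_smul, Pi.smul_apply, smul_eq_mul]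

include hf0 hf hk hx in
lemma local_kernel (p : Ideal R) [p.IsPrime] :
    ∃ u, u ∉ p ∧ ∃ (α : (Fin m → R) →ₗ[R] LinearMap.ker (pres (R := R) x)) (β : LinearMap.ker (pres (R := R) x) →ₗ[R] (Fin m → R)),
      ∀ z, α (β z) = u • z := by
  classical
  obtain ⟨u, hu, a, ha, hdet⟩ := exists_minor hf x hx p hf0
  refine ⟨u, hu, ?_⟩
  have hrow : ∀ i : Fin m, a (Fin.castAdd k i) ∈ LinearMap.ker (pres x) := fun i => ha _ (by simp)
  obtain ⟨W, hW⟩ := exists_quot hf0
    ((LinearMap.pi fun i : Fin m => LinearMap.proj (Fin.castAdd k i)).comp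
      ((cramer a.transpose).comp (LinearMap.ker (pres x)).subtype))
    (fun z i => cramer_mem hf x hx a ha z.1 _ (Or.inr z.2))
  refine ⟨Fintype.linearCombination R fun i => ⟨_, hrow i⟩, W, fun z => ?_⟩
  refine Subtype.ext (funext fun l => cancel_f hf0 ?_)
  have hz := congrFun (mulVec_cramer a.transpose z.1) l
  rw [Fintype.linearCombination_apply, Submodule.coe_sum, Finset.sum_apply, Finset.sum_mul]
  rw [det_transpose, hdet, Pi.smul_apply, smul_eq_mul] at hz
  rw [SetLike.val_smul, Pi.smul_apply, smul_eq_mul]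
  calc _ = ∑ i : Fin m, a.transpose l (Fin.castAdd k i) * cramer a.transpose z.1 (Fin.castAdd k i) := by
        refine Finset.sum_congr rfl fun i _ => ?_
        have := hW z i
        simp only [LinearMap.comp_apply, LinearMap.pi_apply, LinearMap.proj_apply, Submodule.coe_subtype] at this
        rw [← this, SetLike.val_smul, Pi.smul_apply, smul_eq_mul, Matrix.transpose_apply]
        ring
    _ = (a.transpose *ᵥ cramer a.transpose z.1) l := by
        rw [Matrix.mulVec, dotProduct, Fin.sum_univ_add]
        symm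
        refine add_eq_left.2 (Finset.sum_eq_zero fun c _ => ?_)
        rw [cramer_tail hk x hx a ha z.2 _ (by simp), mul_zero]
    _ = _ := by rw [hz]; ring

include hf0 hf hk hx in
lemma local_quot (p : Ideal R) [p.IsPrime] :
    ∃ u, u ∉ p ∧
      ∃ (α : (Fin k → R) →ₗ[R] M ⧸ LinearMap.ker (f • (LinearMap.id : M →ₗ[R] M)))
        (β : M ⧸ LinearMap.ker (f • (LinearMap.id : M →ₗ[R] M)) →ₗ[R] (Fin k → R)),
      (∀ z, α (β z) = u • z) ∧ ∀ v, β (α v) = u • v := by
  classical
  obtain ⟨u, hu, a, ha, hdet⟩ := exists_minor hf x hx p hf0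
  refine ⟨u, hu, ?_⟩
  set N := LinearMap.ker (f • (LinearMap.id : M →ₗ[R] M)) with hN
  let q : (Fin (m + k) → R) →ₗ[R] M ⧸ N := N.mkQ.comp (pres x)
  have hsurj : Function.Surjective q := by
    refine N.mkQ_surjective.comp ?_
    rw [← LinearMap.range_eq_top, pres, Fintype.range_linearCombination, hx]
  obtain ⟨W, hW⟩ := exists_quot hf0
    ((LinearMap.pi fun i : Fin k => LinearMap.proj (Fin.natAdd m i)).comp (cramer a.transpose))
    (fun z i => cramer_mem (M := M) hf x hx a ha z _ (Or.inl (by simp)))
  simp only [LinearMap.comp_apply, LinearMap.pi_apply, LinearMap.proj_apply] at hW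
  have hker : LinearMap.ker q ≤ LinearMap.ker W := by
    intro v hv
    rw [LinearMap.mem_ker, LinearMap.comp_apply, Submodule.mkQ_apply, Submodule.Quotient.mk_eq_zero, hN,
      LinearMap.mem_ker, LinearMap.smul_apply, LinearMap.id_apply, ← map_smul] at hv
    rw [LinearMap.mem_ker]
    funext i
    refine cancel_f hf0 ?_
    rw [Pi.zero_apply, zero_mul, hW]
    have h0 := cramer_tail hk x hx a ha hv (Fin.natAdd m i) (by simp)
    rw [map_smul, Pi.smul_apply, smul_eq_mul, mul_comm] at h0
    exact (mem_nonZeroDivisors_iff.1 hf0).2 _ h0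
  let β : M ⧸ N →ₗ[R] (Fin k → R) :=
    (Submodule.liftQ (LinearMap.ker q) W hker).comp (q.quotKerEquivOfSurjective hsurj).symm.toLinearMap
  have hβ : ∀ v, β (q v) = W v := by
    intro v
    simp only [β, LinearMap.comp_apply, LinearEquiv.coe_coe]
    rw [show (q.quotKerEquivOfSurjective hsurj).symm (q v) = Submodule.Quotient.mk v from
      (q.quotKerEquivOfSurjective hsurj).symm_apply_eq.2 rfl]
    rfl
  refine ⟨Fintype.linearCombination R fun i => q (a (Fin.natAdd m i)), β, ?_, ?_⟩
  · intro z
    obtain ⟨v, rfl⟩ := hsurj z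
    rw [hβ, Fintype.linearCombination_apply]
    have hv : pres x (a.transpose *ᵥ cramer a.transpose v) =
        f • pres x (∑ i : Fin k, W v i • a (Fin.natAdd m i)) := by
      rw [show a.transpose *ᵥ cramer a.transpose v = ∑ j, cramer a.transpose v j • a j by
          funext l
          simp [Matrix.mulVec, dotProduct, mul_comm],
        map_sum, map_sum, Finset.smul_sum, Fin.sum_univ_add]
      refine (add_eq_right.2 (Finset.sum_eq_zero fun i _ => ?_)).trans (Finset.sum_congr rfl fun i _ => ?_)
      · rw [map_smul, ha _ (by simp), smul_zero]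
      · rw [map_smul, map_smul, smul_smul, ← hW, mul_comm]
    rw [mulVec_cramer, det_transpose, hdet, map_smul, mul_comm, ← smul_smul] at hv
    simp only [← map_smul, ← map_sum]
    refine (Submodule.Quotient.eq N).2 ?_
    rw [hN, LinearMap.mem_ker, LinearMap.smul_apply, LinearMap.id_apply, smul_sub, sub_eq_zero, map_smul, hv]
  · intro v
    rw [Fintype.linearCombination_apply, map_sum]
    funext c
    refine cancel_f hf0 ?_
    rw [Finset.sum_apply, Finset.sum_mul, Finset.sum_eq_single c]
    · rw [map_smul, hβ, Pi.smul_apply, smul_eq_mul, mul_assoc, hW, cramer_transpose_row_self, Pi.single_eq_same,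
        hdet, Pi.smul_apply, smul_eq_mul]
      ring
    · intro i _ hi
      rw [map_smul, hβ, Pi.smul_apply, smul_eq_mul, mul_assoc, hW, cramer_transpose_row_self,
        Pi.single_eq_of_ne (fun e => hi (Fin.natAdd_injective _ _ e).symm), mul_zero]
    · simp

lemma free_away (u : R) (p : Ideal R) [p.IsPrime] (hu : u ∉ p) {Q : Type u} [AddCommGroup Q] [Module R Q] {k : ℕ}
    (α : (Fin k → R) →ₗ[R] Q) (β : Q →ₗ[R] (Fin k → R)) (h1 : ∀ z, α (β z) = u • z) (h2 : ∀ v, β (α v) = u • v) :
    Module.Free (Localization.Away u) (LocalizedModule (Submonoid.powers u) Q) ∧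
      Module.finrank (Localization.Away u) (LocalizedModule (Submonoid.powers u) Q) = k := by
  let S := Submonoid.powers u
  have hunit : ∀ {P : Type u} [AddCommGroup P] [Module R P],
      Function.Bijective fun z : LocalizedModule S P => u • z := by
    intro P _ _
    have := IsLocalizedModule.map_units (LocalizedModule.mkLinearMap S P) ⟨u, Submonoid.mem_powers u⟩
    exact (Module.End.isUnit_iff _).1 this
  have hu' : IsUnit (algebraMap R (Localization.Away u) u) := IsLocalization.Away.algebraMap_isUnit (S := Localization.Away u) u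
  have hnt : Nontrivial (Localization.Away u) := by
    by_contra hc
    rw [not_nontrivial_iff_subsingleton, IsLocalization.subsingleton_iff (S := Localization.Away u) (M := Submonoid.powers u)] at hc
    obtain ⟨j, hj⟩ := hc
    exact hu (Ideal.IsPrime.mem_of_pow_mem ‹_› j (by simp [show u ^ j = 0 from hj]))
  let A := LocalizedModule.map S α
  let B := LocalizedModule.map S β
  have hBA : ∀ z, B (A z) = u • z := by
    intro z
    induction z using LocalizedModule.induction_on with
    | _ v s => simp only [A, B, LocalizedModule.map_mk, h2, LocalizedModule.smul'_mk]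
  have hAB : ∀ z, A (B z) = u • z := by
    intro z
    induction z using LocalizedModule.induction_on with
    | _ v s => simp only [A, B, LocalizedModule.map_mk, h1, LocalizedModule.smul'_mk]
  have hA : Function.Bijective A := by
    refine ⟨fun y y' h => hunit.1 ?_, fun z => ?_⟩
    · change u • y = u • y'
      rw [← hBA, ← hBA, h]
    · obtain ⟨z', rfl⟩ := hunit.2 z
      exact ⟨B z', hAB z'⟩
  let b := ((Pi.basisFun R (Fin k)).ofIsLocalizedModule (Localization.Away u) S
    (LocalizedModule.mkLinearMap S (Fin k → R))).map (LinearEquiv.ofBijective A hA)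
  exact ⟨Module.Free.of_basis b, (Module.finrank_eq_card_basis b).trans (Fintype.card_fin k)⟩


/-- Let `M` be a finitely presented `R`-module and `k ≥ 0` such that `Fit_k(M) = (f)` for a
nonzerodivisor `f` and `Fit_{k-1}(M) = 0` (no condition when `k = 0`). Let `M' = Ker(f : M → M)`.
Then: the projective dimension of `M` is at most `1`; `M'` coincides with the `f`-power torsion of
`M` and its projective dimension is at most `1`; every prime of `R` has a basic open neighbourhood
over which `M/M'` is free of rank `k`; and `M ≅ M/M' ⊕ M'` (existence of an isomorphism). -/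
theorem result {R : Type u} [CommRing R] (M : Type u)
    [AddCommGroup M] [Module R M] [Module.FinitePresentation R M] (k : ℕ) (f : R) (hf0 : f ∈ nonZeroDivisors R)
    (hf : Fitt.ideal R M k = Ideal.span {f}) (hk : k = 0 ∨ Fitt.ideal R M (k - 1) = ⊥) :
    HasProjectiveDimensionLT (ModuleCat.of R M) 2 ∧
    (∀ x : M, (∃ n : ℕ, f ^ n • x = 0) ↔ f • x = 0) ∧
    HasProjectiveDimensionLT (ModuleCat.of R ↥(LinearMap.ker (f • (LinearMap.id : M →ₗ[R] M)))) 2 ∧
    (∀ (p : Ideal R) [p.IsPrime], ∃ g : R, g ∉ p ∧
      Module.Free (Localization.Away g)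
          (LocalizedModule (Submonoid.powers g) (M ⧸ LinearMap.ker (f • (LinearMap.id : M →ₗ[R] M)))) ∧
        Module.finrank (Localization.Away g)
          (LocalizedModule (Submonoid.powers g) (M ⧸ LinearMap.ker (f • (LinearMap.id : M →ₗ[R] M)))) = k) ∧
    Nonempty (M ≃ₗ[R] (M ⧸ LinearMap.ker (f • (LinearMap.id : M →ₗ[R] M))) ×
      ↥(LinearMap.ker (f • (LinearMap.id : M →ₗ[R] M)))) := by
  classical
  set N := LinearMap.ker (f • (LinearMap.id : M →ₗ[R] M)) with hN
  obtain ⟨n, x, hx⟩ := Module.Finite.exists_fin (R := R) (M := M)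
  by_cases hnk : n < k
  · have htriv : Subsingleton R := by
      refine subsingleton_of_zero_eq_one ?_
      have h := hk.resolve_left (by omega)
      rw [Groth.Agent.FittIdeal.ideal_eq x hx, Groth.Agent.FittIdeal.dIdeal_eq_top x (by omega)] at h
      exact ((Submodule.mem_bot R).1 (h ▸ Submodule.mem_top (x := (1 : R)))).symm
    have hM : Subsingleton M := Module.subsingleton R M
    have hM' : Subsingleton ↥N := Module.subsingleton R ↥N
    have h0 : ∀ (P : Type u) [AddCommGroup P] [Module R P] [Subsingleton P],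
        HasProjectiveDimensionLT (ModuleCat.of R P) 2 := by
      intro P _ _ _
      have : CategoryTheory.Projective (ModuleCat.of R P) := (IsProjective.iff_projective (R := R) P).1 (Module.Projective.of_free)
      infer_instance
    refine ⟨h0 M, fun z => ⟨fun _ => Subsingleton.elim _ _, fun h => ⟨1, by rwa [pow_one]⟩⟩, h0 ↥N,
      fun p hp => absurd (Subsingleton.elim (1 : R) 0 ▸ p.zero_mem) (p.ne_top_iff_one.1 hp.ne_top),
      ⟨?_⟩⟩
    have : Subsingleton ((M ⧸ N) × ↥N) := Module.subsingleton R _
    exact LinearEquiv.ofSubsingleton _ _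
  obtain ⟨m, rfl⟩ : ∃ m, n = m + k := ⟨n - k, by omega⟩
  have hQloc := fun (p : Ideal R) [p.IsPrime] => local_quot hf0 hf hk x hx p
  have hQ : Module.Projective R (M ⧸ N) := projective_of_local fun p hp => by
    obtain ⟨u, hu, α, β, h1, -⟩ := hQloc p
    exact ⟨u, hu, k, α, β, h1⟩
  have hK : Module.Projective R (LinearMap.ker (pres (R := R) x)) := projective_of_local fun p hp => by
    obtain ⟨u, hu, α, β, h1⟩ := local_kernel hf0 hf hk x hx p
    exact ⟨u, hu, m, α, β, h1⟩
  have hreg : ∀ z : M, f • (f • z) = 0 → f • z = 0 := by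
    intro z hz
    obtain ⟨i, -, hi⟩ := hQ.out.imp fun s hs => (⟨trivial, hs⟩ : True ∧ _)
    have h1 : f • i (N.mkQ z) = 0 := by
      rw [← map_smul, ← map_smul, show N.mkQ (f • z) = 0 from
        (Submodule.Quotient.mk_eq_zero N).2 (by rw [hN, LinearMap.mem_ker]; exact hz), map_zero]
    have h2 : i (N.mkQ z) = 0 := Finsupp.ext fun j => by
      have := congrArg (fun c => c j) h1
      simp only [Finsupp.smul_apply, smul_eq_mul, Finsupp.coe_zero, Pi.zero_apply] at this
      rw [mul_comm] at this
      exact (mem_nonZeroDivisors_iff.1 hf0).2 _ this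
    have h3 := congrArg (Finsupp.linearCombination R (id : M ⧸ N → M ⧸ N)) h2
    rw [hi, map_zero] at h3
    have := (Submodule.Quotient.mk_eq_zero N).1 h3
    rwa [hN, LinearMap.mem_ker] at this
  have htors : ∀ z : M, (∃ j : ℕ, f ^ j • z = 0) ↔ f • z = 0 := by
    intro z
    have key : ∀ (j : ℕ) (z : M), f ^ j • z = 0 → f • z = 0 := fun j => by
      induction j with
      | zero => intro z hj; rw [pow_zero, one_smul] at hj; rw [hj, smul_zero]
      | succ j ih => intro z hj; exact hreg z (ih (f • z) (by rwa [smul_smul, ← pow_succ]))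
    exact ⟨fun ⟨j, hj⟩ => key j z hj, fun h => ⟨1, by rwa [pow_one]⟩⟩
  obtain ⟨s, hs⟩ := Module.projective_lifting_property N.mkQ (LinearMap.id : (M ⧸ N) →ₗ[R] M ⧸ N) N.mkQ_surjective
  have hs' : ∀ q, N.mkQ (s q) = q := fun q => LinearMap.congr_fun hs q
  have hmem : ∀ z, z - s (N.mkQ z) ∈ N := fun z => by
    rw [← Submodule.Quotient.mk_eq_zero N]
    change N.mkQ (z - s (N.mkQ z)) = 0
    rw [map_sub, hs', sub_self]
  let toN : M →ₗ[R] ↥N := LinearMap.codRestrict N (LinearMap.id - s.comp N.mkQ) hmem
  have htoN : ∀ w : ↥N, toN w = w := fun w => Subtype.ext (by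
    simp [toN, show N.mkQ (w : M) = 0 from (Submodule.Quotient.mk_eq_zero N).2 w.2,
      show Submodule.Quotient.mk (w : M) = (0 : M ⧸ N) from (Submodule.Quotient.mk_eq_zero N).2 w.2])
  have hπ : Function.Surjective (pres (R := R) x) := by
    rw [← LinearMap.range_eq_top, pres, Fintype.range_linearCombination, hx]
  let S := ShortComplex.mk (ModuleCat.ofHom (LinearMap.ker (pres (R := R) x)).subtype)
    (ModuleCat.ofHom (pres (R := R) x)) (ModuleCat.hom_ext (LinearMap.ext fun z => z.2))
  have hS : S.ShortExact :=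
    { exact := (ShortComplex.moduleCat_exact_iff_range_eq_ker S).2 (Submodule.range_subtype _)
      mono_f := (ModuleCat.mono_iff_injective _).2 Subtype.val_injective
      epi_g := (ModuleCat.epi_iff_surjective _).2 hπ }
  have hM : HasProjectiveDimensionLT (ModuleCat.of R M) 2 := by
    have h1 : CategoryTheory.Projective S.X₁ := (IsProjective.iff_projective (R := R) _).1 hK
    have h2 : CategoryTheory.Projective S.X₂ := (IsProjective.iff_projective (R := R) _).1 (Module.Projective.of_free)
    exact hS.hasProjectiveDimensionLT_X₃ 1 inferInstance inferInstance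
  refine ⟨hM, htors, ?_, ?_, ⟨LinearEquiv.ofLinear (N.mkQ.prod toN) (s.coprod N.subtype) ?_ ?_⟩⟩
  · let r : Retract (ModuleCat.of R ↥N) (ModuleCat.of R M) :=
      ⟨ModuleCat.ofHom N.subtype, ModuleCat.ofHom toN, ModuleCat.hom_ext (LinearMap.ext htoN)⟩
    exact r.hasProjectiveDimensionLT 2
  · intro p hp
    obtain ⟨u, hu, α, β, h1, h2⟩ := hQloc p
    exact ⟨u, hu, free_away u p hu α β h1 h2⟩
  · refine LinearMap.ext fun ⟨q, w⟩ => Prod.ext ?_ ?_
    · simp [show N.mkQ (w : M) = 0 from (Submodule.Quotient.mk_eq_zero N).2 w.2, hs', -Submodule.mkQ_apply]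
    · refine Subtype.ext ?_
      simp [toN, show Submodule.Quotient.mk (w : M) = (0 : M ⧸ N) from (Submodule.Quotient.mk_eq_zero N).2 w.2,
        show Submodule.Quotient.mk (s q) = q from hs' q]
  · refine LinearMap.ext fun z => ?_
    simp [toN]

end Groth.Agent.S6897
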