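import Mathlib
import Groth.Statements.S6898
-- import your own Groth.Agent.* helpers here

set_option autoImplicit false
universe u
open TensorProduct
open CAlg

namespace Groth.Agent.S6898

/-- Let `(A, 𝔪)` be a local ring and `u : M → N` a linear map between flat `A`-modules whose reduction
`M/𝔪M → N/𝔪N` is injective. If `I` is the content ideal of some `x ∈ M` (the least ideal `I` with `x
∈ IM`), then `I` is also the least ideal `J` with `u(x) ∈ J·N`. -/
theorem result {A : Type u} [CommRing A] [IsLocalRing A] {M N : Type u}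
    [AddCommGroup M] [Module A M] [Module.Flat A M] [AddCommGroup N] [Module A N] [Module.Flat A N] (u : M →ₗ[A] N)
    (hu : Function.Injective (u.baseChange (IsLocalRing.ResidueField A))) (x : M) (I : Ideal A)
    (hx : IsLeast {J : Ideal A | x ∈ J • (⊤ : Submodule A M)} I) :
    IsLeast {J : Ideal A | u x ∈ J • (⊤ : Submodule A N)} I := by
  classical
  obtain ⟨hxI, hmin⟩ := hx
  have hxI' : x ∈ I • (⊤ : Submodule A M) := hxI
  refine ⟨?_, fun J hJ => ?_⟩
  · have h1 : u x ∈ Submodule.map u (I • (⊤ : Submodule A M)) := Submodule.mem_map_of_mem hxI'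
    rw [Submodule.map_smul''] at h1
    exact Submodule.smul_mono le_rfl le_top h1
  by_contra hIJ
  have hiff : ∀ H : Ideal A, x ∈ H • (⊤ : Submodule A M) ↔ I ≤ H := fun H => ⟨fun h => hmin h, fun h => Submodule.smul_mono h le_rfl hxI'⟩
  obtain ⟨H, hJH, hH⟩ : ∃ H, J ≤ H ∧ Maximal (fun K : Ideal A => ¬ x ∈ K • (⊤ : Submodule A M)) H := by
    refine zorn_le_nonempty₀ {K : Ideal A | ¬ x ∈ K • (⊤ : Submodule A M)} (fun c hc hchain y hy => ?_) J (fun h => hIJ ((hiff J).1 h))
    refine ⟨sSup c, fun h => ?_, fun z hz => le_sSup hz⟩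
    have : ∃ K ∈ c, x ∈ K • (⊤ : Submodule A M) := by
      refine Submodule.smul_induction_on (p := fun w => ∃ K ∈ c, w ∈ K • (⊤ : Submodule A M)) h (fun r hr w _ => ?_) ?_
      · obtain ⟨K, hK, hrK⟩ := (Submodule.mem_sSup_of_directed ⟨y, hy⟩ hchain.directedOn).1 hr
        exact ⟨K, hK, Submodule.smul_mem_smul hrK trivial⟩
      · rintro a b ⟨K, hK, ha⟩ ⟨L, hL, hb⟩
        obtain ⟨Q, hQ, hKQ, hLQ⟩ := hchain.directedOn K hK L hL
        exact ⟨Q, hQ, add_mem (Submodule.smul_mono hKQ le_rfl ha) (Submodule.smul_mono hLQ le_rfl hb)⟩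
    obtain ⟨K, hK, hxK⟩ := this
    exact hc hK hxK
  obtain ⟨a, haI, haH⟩ := SetLike.not_le_iff_exists.1 fun h : I ≤ H => hH.1 ((hiff H).2 h)
  have hbig : ∀ b : A, b ∉ H → I ≤ H ⊔ Ideal.span {b} := fun b hb => (hiff _).1 (by
    by_contra h
    exact hb (hH.2 h le_sup_left (Ideal.mem_sup_right (Ideal.mem_span_singleton_self b))))
  have hm : ∀ r ∈ IsLocalRing.maximalIdeal A, r * a ∈ H := by
    intro r hr
    by_contra h
    obtain ⟨h0, hh0, z, hz, he⟩ := Submodule.mem_sup.1 (hbig _ h haI)
    obtain ⟨s, rfl⟩ := Ideal.mem_span_singleton'.1 hz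
    have hu1 : IsUnit (1 - s * r) := IsLocalRing.isUnit_one_sub_self_of_mem_nonunits _ (Ideal.mul_mem_left _ s hr)
    apply haH
    have : (1 - s * r) * a = h0 := by linear_combination -he
    exact (Ideal.unit_mul_mem_iff_mem H hu1).1 (this ▸ hh0)
  have hxa := (hiff _).2 (hbig a haH)
  rw [Submodule.sup_smul, Submodule.mem_sup] at hxa
  obtain ⟨h', hh', z, hz, hxe⟩ := hxa
  rw [Submodule.ideal_span_singleton_smul, Submodule.mem_smul_pointwise_iff_exists] at hz
  obtain ⟨y, -, rfl⟩ := hz
  have h1 : u h' ∈ H • (⊤ : Submodule A N) := by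
    have h2 : u h' ∈ Submodule.map u (H • (⊤ : Submodule A M)) := Submodule.mem_map_of_mem hh'
    rw [Submodule.map_smul''] at h2
    exact Submodule.smul_mono le_rfl le_top h2
  have h2 : a • u y ∈ H • (⊤ : Submodule A N) := by
    have h3 : u x ∈ H • (⊤ : Submodule A N) := Submodule.smul_mono hJH le_rfl hJ
    rw [← hxe, map_add, map_smul] at h3
    exact (Submodule.add_mem_iff_right _ h1).1 h3
  -- torsion transfer by flatness
  let K : Ideal A := Submodule.comap (LinearMap.mulLeft A a) H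
  have hK : K ≤ IsLocalRing.maximalIdeal A := IsLocalRing.le_maximalIdeal fun htop => haH (by
    have : (1 : A) ∈ K := htop ▸ Submodule.mem_top
    simpa [K] using this)
  let g : (A ⧸ K) →ₗ[A] A ⧸ H := Submodule.mapQ K H (LinearMap.mulLeft A a) le_rfl
  have hg : Function.Injective g := by
    refine (injective_iff_map_eq_zero g).2 fun q hq => ?_
    obtain ⟨r, rfl⟩ := Submodule.Quotient.mk_surjective K q
    rw [Submodule.mapQ_apply, Submodule.Quotient.mk_eq_zero] at hq
    exact (Submodule.Quotient.mk_eq_zero K).2 hq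
  have hinj := Module.Flat.rTensor_preserves_injective_linearMap (M := N) g hg
  have h0 : g.rTensor N (Ideal.Quotient.mk K 1 ⊗ₜ[A] u y) = 0 := by
    rw [LinearMap.rTensor_tmul]
    show (Submodule.Quotient.mk (a * 1) : A ⧸ H) ⊗ₜ[A] u y = 0
    apply (TensorProduct.quotTensorEquivQuotSMul N H).injective
    rw [map_zero, mul_one]
    erw [TensorProduct.quotTensorEquivQuotSMul_mk_tmul]
    rw [Submodule.Quotient.mk_eq_zero]
    exact h2
  have h4 : (Ideal.Quotient.mk K 1) ⊗ₜ[A] u y = 0 := hinj (h0.trans (map_zero _).symm)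
  have h5 : u y ∈ K • (⊤ : Submodule A N) := by
    have := congrArg (TensorProduct.quotTensorEquivQuotSMul N K) h4
    rw [map_zero] at this
    erw [TensorProduct.quotTensorEquivQuotSMul_mk_tmul] at this
    simpa [Submodule.Quotient.mk_eq_zero] using this
  have h6' : (Ideal.Quotient.mk (IsLocalRing.maximalIdeal A) 1) ⊗ₜ[A] u y = 0 := by
    apply (TensorProduct.quotTensorEquivQuotSMul N (IsLocalRing.maximalIdeal A)).injective
    rw [map_zero]
    erw [TensorProduct.quotTensorEquivQuotSMul_mk_tmul]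
    rw [one_smul, Submodule.Quotient.mk_eq_zero]
    exact Submodule.smul_mono hK le_rfl h5
  have h6 : (1 : IsLocalRing.ResidueField A) ⊗ₜ[A] u y = 0 := h6'
  have h7 : (1 : IsLocalRing.ResidueField A) ⊗ₜ[A] y = 0 := hu (by rw [LinearMap.baseChange_tmul, h6, map_zero])
  have h8 : y ∈ IsLocalRing.maximalIdeal A • (⊤ : Submodule A M) := by
    have h7' : (Ideal.Quotient.mk (IsLocalRing.maximalIdeal A) 1) ⊗ₜ[A] y = 0 := h7
    have := congrArg (TensorProduct.quotTensorEquivQuotSMul M (IsLocalRing.maximalIdeal A)) h7'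
    rw [map_zero] at this
    erw [TensorProduct.quotTensorEquivQuotSMul_mk_tmul] at this
    simpa [Submodule.Quotient.mk_eq_zero] using this
  refine hH.1 ?_
  rw [← hxe]
  refine add_mem hh' ?_
  have h9 : ∀ w ∈ IsLocalRing.maximalIdeal A • (⊤ : Submodule A M), a • w ∈ H • (⊤ : Submodule A M) := by
    intro w hw
    refine Submodule.smul_induction_on hw (fun r hr m _ => ?_) fun _ _ p q => by rw [smul_add]; exact add_mem p q
    rw [smul_smul, mul_comm]
    exact Submodule.smul_mem_smul (hm r hr) trivial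
  exact h9 y h8

end Groth.Agent.S6898
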