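import Groth.Statements.S6899
import Groth.Agent.EtMilLib.Glue
import Groth.Agent.EtMilLib.Pushout

set_option autoImplicit false
universe u
open TensorProduct
open EtAlg

namespace Groth.Agent.S6899

/-- Let `B' = B ×_A A'` be a fibre square of rings with `A' → A` surjective, and let `(N₁, M₁', φ₁) →
(N₂, M₂', φ₂)` be a morphism of glueing data (a `B`-linear `u : N₁ → N₂` and an `A'`-linear `v : M₁'
→ M₂'` compatible with the `φ_i`) with `u` and `v` surjective. Then the induced map of glued modules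
`N₁ ×_{φ₁} M₁' → N₂ ×_{φ₂} M₂'` is surjective. -/
theorem result (B' B A' A : Type u) [CommRing B'] [CommRing B] [CommRing A'] [CommRing A]
    [Algebra B' B] [Algebra B' A'] [Algebra B A] [Algebra A' A] [Algebra B' A] [IsScalarTower B' B A] [IsScalarTower B' A' A]
    (hsq : EtMil.IsFibreSquare B' B A' A)
    {N₁ N₂ M₁' M₂' : Type u} [AddCommGroup N₁] [Module B N₁] [Module B' N₁] [IsScalarTower B' B N₁]
    [AddCommGroup N₂] [Module B N₂] [Module B' N₂] [IsScalarTower B' B N₂]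
    [AddCommGroup M₁'] [Module A' M₁'] [Module B' M₁'] [IsScalarTower B' A' M₁']
    [AddCommGroup M₂'] [Module A' M₂'] [Module B' M₂'] [IsScalarTower B' A' M₂']
    (φ₁ : A ⊗[B] N₁ ≃ₗ[A] A ⊗[A'] M₁') (φ₂ : A ⊗[B] N₂ ≃ₗ[A] A ⊗[A'] M₂') (u : N₁ →ₗ[B] N₂) (v : M₁' →ₗ[A'] M₂')
    (hc : (v.baseChange A).comp φ₁.toLinearMap = φ₂.toLinearMap.comp (u.baseChange A))
    (hu : Function.Surjective u) (hv : Function.Surjective v) :
    ∀ y : N₂ × M₂', y ∈ EtMil.glue B' φ₂ → ∃ x : N₁ × M₁', x ∈ EtMil.glue B' φ₁ ∧ u x.1 = y.1 ∧ v x.2 = y.2 := by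
  intro y hy
  obtain ⟨x₁, hx₁⟩ := hu y.1
  obtain ⟨m, hm⟩ := Groth.Agent.EtMilLib.exists_glue_fst (B' := B') φ₁ hsq.1 x₁
  have h1 : (1 : A) ⊗ₜ[A'] v m = (1 : A) ⊗ₜ[A'] y.2 := by
    have hm' : φ₁ ((1 : A) ⊗ₜ[B] x₁) = (1 : A) ⊗ₜ[A'] m := hm
    have hy' : φ₂ ((1 : A) ⊗ₜ[B] y.1) = (1 : A) ⊗ₜ[A'] y.2 := hy
    have := LinearMap.congr_fun hc ((1 : A) ⊗ₜ[B] x₁)
    simp only [LinearMap.comp_apply, LinearEquiv.coe_toLinearMap, hm', LinearMap.baseChange_tmul, hx₁, hy'] at this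
    exact this
  have h2 := Groth.Agent.EtMilLib.mem_smul_of_tmul_eq_zero hsq.1 (show (1 : A) ⊗ₜ[A'] (y.2 - v m) = 0 by
    rw [TensorProduct.tmul_sub, h1, sub_self])
  obtain ⟨d, hd, hd'⟩ : ∃ d ∈ RingHom.ker (algebraMap A' A) • (⊤ : Submodule A' M₁'), v d = y.2 - v m := by
    refine Submodule.smul_induction_on h2 (fun i hi w _ => ?_) fun a b ha hb => ?_
    · obtain ⟨w', rfl⟩ := hv w
      exact ⟨i • w', Submodule.smul_mem_smul hi trivial, map_smul _ _ _⟩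
    · obtain ⟨p, hp, hp'⟩ := ha; obtain ⟨q, hq, hq'⟩ := hb
      exact ⟨p + q, add_mem hp hq, by rw [map_add, hp', hq']⟩
  refine ⟨(x₁, m + d), ?_, hx₁, by rw [map_add, hd', add_sub_cancel]⟩
  have hm' : φ₁ ((1 : A) ⊗ₜ[B] x₁) = (1 : A) ⊗ₜ[A'] m := hm
  rw [Groth.Agent.EtMilLib.mem_glue_iff, TensorProduct.tmul_add, Groth.Agent.EtMilLib.tmul_eq_zero_of_mem_smul hd, add_zero, hm']

end Groth.Agent.S6899
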