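import Groth.Statements.S6904
import Groth.Agent.KFlat.AllModules
import Groth.Agent.MLMod.Basic
-- import your own Groth.Agent.* helpers here

set_option autoImplicit false
universe u
open CategoryTheory CategoryTheory.Limits MonoidalCategory
open DRing

namespace Groth.Agent.S6904

open CategoryTheory CategoryTheory.Limits MonoidalCategory HomologicalComplex in
/-- If `K ⊗ M` is acyclic for finitely presented `M`, it is for every `M`. -/
theorem acyclic_all (R : Type u) [CommRing R] (K : DRing.Cx R)
    (hK : ∀ (M : Type u) [AddCommGroup M] [Module R M], Module.FinitePresentation R M →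
      (∀ i : ℤ, IsZero ((DRing.tensorCx K (ModuleCat.of R M)).homology i))) (Q : ModuleCat.{u} R) (i : ℤ) :
    IsZero ((DRing.tensorCx K Q).homology i) := by
  rw [← exactAt_iff_isZero_homology, exactAt_iff' _ (i - 1) i (i + 1) (by simp) (by simp),
    ShortComplex.ShortExact.moduleCat_exact_iff_function_exact]
  show Function.Exact ((K.d (i - 1) i).hom.rTensor Q) ((K.d i (i + 1)).hom.rTensor Q)
  intro x
  constructor
  · intro hx
    obtain ⟨Q', _, _, hfp, φ, x', h0, rfl⟩ := Groth.MLMod.exists_rel_of_ker (K.d i (i + 1)).hom x hx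
    have h1 := hK Q' hfp i
    rw [← exactAt_iff_isZero_homology, exactAt_iff' _ (i - 1) i (i + 1) (by simp) (by simp),
      ShortComplex.ShortExact.moduleCat_exact_iff_function_exact] at h1
    obtain ⟨y, hy⟩ := (h1 x').1 h0
    refine ⟨φ.lTensor (K.X (i - 1)) y, ?_⟩
    rw [← hy]
    exact (LinearMap.congr_fun ((LinearMap.rTensor_comp_lTensor _ _ _).trans
      (LinearMap.lTensor_comp_rTensor _ _ _).symm) y)
  · rintro ⟨y, rfl⟩
    rw [← LinearMap.rTensor_comp_apply, ← ModuleCat.hom_comp, K.d_comp_d]
    simp


/-- Let `K•` be a complex of `R`-modules such that `K• ⊗_R M` is acyclic for every finitely presented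
`R`-module `M`. Then `K•` is K-flat. -/
theorem result (R : Type u) [CommRing R] (K : DRing.Cx R)
    (hK : ∀ (M : Type u) [AddCommGroup M] [Module R M], Module.FinitePresentation R M →
      (∀ i : ℤ, IsZero ((DRing.tensorCx K (ModuleCat.of R M)).homology i))) :
    (∀ L : DRing.Cx R, (∀ i : ℤ, IsZero (L.homology i)) → ∀ i : ℤ, IsZero ((L ⊗ K).homology i)) := by
  open Groth.Agent.KFlat Groth.Agent.KFlatAll in
  intro L _ i
  have h : Acy (curriedTensor (ModuleCat.{u} R)) K L := by
    refine acy_all (C := ModuleCat.{u} R) L (curriedTensor (ModuleCat.{u} R)) K fun P n => ?_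
    refine acy_single (curriedTensor (ModuleCat.{u} R)) K P (fun j => ?_) n
    exact acyclic_all R K hK P j
  exact (h i).of_iso ((HomologicalComplex.homologyFunctor (ModuleCat.{u} R) (ComplexShape.up ℤ) i).mapIso
    (DTen.braidCx L K))

end Groth.Agent.S6904
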