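import Groth.Statements.S6909
import Mathlib.RingTheory.Filtration
import Mathlib.RingTheory.Finiteness.Basic

set_option autoImplicit false
universe u
open CAlg

namespace Groth.Agent.S6909

/-- Let `A` be a Noetherian ring, `I ⊆ A` an ideal inside the Jacobson radical, and `L → M → N` two
complexes `(f, g)` and `(f', g')` of finite `A`-modules with `f' ≡ f` modulo `I^{c+1}M` and `g' ≡ g`
modulo `I^{c+1}N`. If `c` works in the Artin–Rees lemma for `f` and for `g` (that is `f(L) ∩ IⁿM ⊆
f(I^{n-c}L)` for `n ≥ c`, and likewise for `g`) and `(f, g)` is exact, then `c` works for `g'` and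
`(f', g')` is exact. -/
theorem result {A : Type u} [CommRing A] [IsNoetherianRing A] (I : Ideal A)
    (hI : I ≤ Ideal.jacobson (⊥ : Ideal A)) {L M N : Type u} [AddCommGroup L] [Module A L] [Module.Finite A L]
    [AddCommGroup M] [Module A M] [Module.Finite A M] [AddCommGroup N] [Module A N] [Module.Finite A N]
    (f f' : L →ₗ[A] M) (g g' : M →ₗ[A] N) (c : ℕ) (hgf : g.comp f = 0) (hgf' : g'.comp f' = 0)
    (hf : (∀ n : ℕ, c ≤ n → LinearMap.range f ⊓ (I ^ n • (⊤ : Submodule A M)) ≤ Submodule.map f (I ^ (n - c) • (⊤ : Submodule A L))))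
    (hg : (∀ n : ℕ, c ≤ n → LinearMap.range g ⊓ (I ^ n • (⊤ : Submodule A N)) ≤ Submodule.map g (I ^ (n - c) • (⊤ : Submodule A M))))
    (hex : Function.Exact f g)
    (hff' : ∀ x : L, f x - f' x ∈ I ^ (c + 1) • (⊤ : Submodule A M))
    (hgg' : ∀ y : M, g y - g' y ∈ I ^ (c + 1) • (⊤ : Submodule A N)) :
    (∀ n : ℕ, c ≤ n → LinearMap.range g' ⊓ (I ^ n • (⊤ : Submodule A N)) ≤ Submodule.map g' (I ^ (n - c) • (⊤ : Submodule A M))) ∧
    Function.Exact f' g' := by
  have hgf'' : ∀ w, g' (f' w) = 0 := fun w => LinearMap.congr_fun hgf' w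
  have step : ∀ m (a : M), a ∈ I ^ m • (⊤ : Submodule A M) → g' a ∈ I ^ (m + c + 1) • (⊤ : Submodule A N) →
      a ∈ LinearMap.range f' ⊔ I ^ (m + 1) • (⊤ : Submodule A M) := by
    intro m a ha hga
    have hd : ∀ {X Y : Type u} [AddCommGroup X] [Module A X] [AddCommGroup Y] [Module A Y] (h : X →ₗ[A] Y),
        (∀ x, h x ∈ I ^ (c + 1) • (⊤ : Submodule A Y)) → ∀ m, ∀ x ∈ I ^ m • (⊤ : Submodule A X),
          h x ∈ I ^ (m + c + 1) • (⊤ : Submodule A Y) := fun h hh m x hx => by
      refine Submodule.smul_induction_on hx (fun r hr y _ => ?_) fun p q hp hq => by rw [map_add]; exact add_mem hp hq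
      rw [map_smul, add_assoc, pow_add, Submodule.mul_smul]
      exact Submodule.smul_mem_smul hr (hh y)
    have h1 : g a ∈ I ^ (m + c + 1) • (⊤ : Submodule A N) := by
      have := add_mem hga (hd (g - g') hgg' m a ha)
      rwa [LinearMap.sub_apply, add_sub_cancel] at this
    obtain ⟨b, hb, hgb⟩ := hg (m + c + 1) (by omega) ⟨LinearMap.mem_range_self g a, h1⟩
    rw [show m + c + 1 - c = m + 1 by omega] at hb
    obtain ⟨w, hw⟩ := (hex (a - b)).mp (by rw [map_sub, hgb, sub_self])
    have hab : a - b ∈ I ^ m • (⊤ : Submodule A M) :=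
      sub_mem ha (Submodule.smul_mono_left (Ideal.pow_le_pow_right m.le_succ) hb)
    obtain ⟨w', hw', hfw'⟩ : ∃ w' ∈ I ^ (m - c) • (⊤ : Submodule A L), f w' = a - b := by
      by_cases hmc : c ≤ m
      · obtain ⟨w', hw', h'⟩ := hf m hmc ⟨⟨w, hw⟩, hab⟩
        exact ⟨w', hw', h'⟩
      · exact ⟨w, by rw [Nat.sub_eq_zero_of_le (by omega), pow_zero, Ideal.one_eq_top, Submodule.top_smul]; trivial, hw⟩
    rw [show a = f' w' + ((f - f') w' + b) by rw [LinearMap.sub_apply, ← add_assoc, add_sub_cancel, hfw', sub_add_cancel]]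
    refine Submodule.add_mem_sup (LinearMap.mem_range_self f' w') (add_mem ?_ hb)
    exact Submodule.smul_mono_left (Ideal.pow_le_pow_right (by omega)) (hd (f - f') hff' (m - c) w' hw')
  refine ⟨fun n hn y ⟨⟨x, hx⟩, hy⟩ => ?_, fun x => ⟨fun hx => ?_, ?_⟩⟩
  · subst hx
    have hind : ∀ m, m ≤ n - c → ∃ a ∈ I ^ m • (⊤ : Submodule A M), g' a = g' x := fun m => by
      induction m with
      | zero => exact fun _ => ⟨x, by simp, rfl⟩
      | succ m ih =>
        intro hm
        obtain ⟨a, ha, hax⟩ := ih (by omega)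
        obtain ⟨p, ⟨w, hw⟩, a', ha', hpa⟩ := Submodule.mem_sup.mp (step m a ha (by
          rw [hax]
          exact Submodule.smul_mono_left (Ideal.pow_le_pow_right (by omega)) hy))
        exact ⟨a', ha', by rw [← hax, ← hpa, map_add, ← hw, hgf'', zero_add]⟩
    obtain ⟨a, ha, hax⟩ := hind (n - c) le_rfl
    exact ⟨a, ha, hax⟩
  · have hind : ∀ m, x ∈ LinearMap.range f' ⊔ I ^ m • (⊤ : Submodule A M) := fun m => by
      induction m with
      | zero => simp
      | succ m ih =>
        obtain ⟨p, hp, a, ha, hpa⟩ := Submodule.mem_sup.mp ih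
        have hga : g' a = 0 := by
          obtain ⟨w, rfl⟩ := hp
          rw [← hpa, map_add, hgf'', zero_add] at hx
          exact hx
        obtain ⟨p', hp', a', ha', hpa'⟩ := Submodule.mem_sup.mp (step m a ha (by rw [hga]; exact zero_mem _))
        rw [← hpa, ← hpa', ← add_assoc]
        exact Submodule.add_mem_sup (add_mem hp hp') ha'
    have h0 : (LinearMap.range f').mkQ x ∈ (⨅ i : ℕ, I ^ i • ⊤ : Submodule A (M ⧸ LinearMap.range f')) := by
      rw [Submodule.mem_iInf]
      intro m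
      obtain ⟨p, hp, a, ha, hpa⟩ := Submodule.mem_sup.mp (hind m)
      rw [← hpa, map_add, show (LinearMap.range f').mkQ p = 0 from (Submodule.Quotient.mk_eq_zero _).mpr hp, zero_add]
      exact Submodule.smul_mono le_rfl le_top
        ((Submodule.map_smul'' (I ^ m) ⊤ (LinearMap.range f').mkQ).le (Submodule.mem_map_of_mem ha))
    rw [Ideal.iInf_pow_smul_eq_bot_of_le_jacobson (M := M ⧸ LinearMap.range f') I hI, Submodule.mem_bot,
      Submodule.mkQ_apply, Submodule.Quotient.mk_eq_zero] at h0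
    exact h0
  · rintro ⟨w, rfl⟩
    exact hgf'' w

end Groth.Agent.S6909
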