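import Groth.Statements.S6910
import Groth.Agent.S6909
import Mathlib.Algebra.Module.Submodule.Pointwise
-- import your own Groth.Agent.* helpers here

set_option autoImplicit false
universe u
open CAlg

namespace Groth.Agent.S6910

/-- Let `A` be a Noetherian ring, `I ⊆ A` an ideal inside the Jacobson radical, and `L → M → N` two
complexes `(f, g)` and `(f', g')` of finite `A`-modules with `f' ≡ f` modulo `I^{c+1}M` and `g' ≡ g`
modulo `I^{c+1}N`, such that the Artin–Rees bound holds with constant `c` for both `f` and `g`, and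
`(f, g)` is exact. Then for every `n` the submodules `I^{n+1}N + g(M) ∩ IⁿN` and `I^{n+1}N + g'(M) ∩
IⁿN` of `N` are equal; consequently the associated graded modules of `Coker g` and `Coker g'` with
respect to `I` coincide degreewise as subquotients of `N`. -/
theorem result {A : Type u} [CommRing A] [IsNoetherianRing A] (I : Ideal A)
    (hI : I ≤ Ideal.jacobson (⊥ : Ideal A)) {L M N : Type u} [AddCommGroup L] [Module A L] [Module.Finite A L]
    [AddCommGroup M] [Module A M] [Module.Finite A M] [AddCommGroup N] [Module A N] [Module.Finite A N]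
    (f f' : L →ₗ[A] M) (g g' : M →ₗ[A] N) (c : ℕ) (hgf : g.comp f = 0) (hgf' : g'.comp f' = 0)
    (hf : (∀ n : ℕ, c ≤ n → LinearMap.range f ⊓ (I ^ n • (⊤ : Submodule A M)) ≤ Submodule.map f (I ^ (n - c) • (⊤ : Submodule A L))))
    (hg : (∀ n : ℕ, c ≤ n → LinearMap.range g ⊓ (I ^ n • (⊤ : Submodule A N)) ≤ Submodule.map g (I ^ (n - c) • (⊤ : Submodule A M))))
    (hex : Function.Exact f g)
    (hff' : ∀ x : L, f x - f' x ∈ I ^ (c + 1) • (⊤ : Submodule A M))
    (hgg' : ∀ y : M, g y - g' y ∈ I ^ (c + 1) • (⊤ : Submodule A N)) (n : ℕ) :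
    I ^ (n + 1) • (⊤ : Submodule A N) ⊔ (LinearMap.range g ⊓ I ^ n • (⊤ : Submodule A N)) =
      I ^ (n + 1) • (⊤ : Submodule A N) ⊔ (LinearMap.range g' ⊓ I ^ n • (⊤ : Submodule A N)) := by
  have hd : ∀ (h : M →ₗ[A] N), (∀ y, h y ∈ I ^ (c + 1) • (⊤ : Submodule A N)) → ∀ m, ∀ x ∈ I ^ m • (⊤ : Submodule A M),
      h x ∈ I ^ (m + c + 1) • (⊤ : Submodule A N) := fun h hh m x hx => by
    refine Submodule.smul_induction_on hx (fun r hr y _ => ?_) fun p q hp hq => by rw [map_add]; exact add_mem hp hq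
    rw [map_smul, add_assoc, pow_add, Submodule.mul_smul]
    exact Submodule.smul_mem_smul hr (hh y)
  have key : ∀ (a b : M →ₗ[A] N), (∀ n : ℕ, c ≤ n → LinearMap.range a ⊓ (I ^ n • (⊤ : Submodule A N)) ≤
      Submodule.map a (I ^ (n - c) • (⊤ : Submodule A M))) → (∀ y, (b - a) y ∈ I ^ (c + 1) • (⊤ : Submodule A N)) →
      LinearMap.range a ⊓ I ^ n • (⊤ : Submodule A N) ≤
        I ^ (n + 1) • (⊤ : Submodule A N) ⊔ (LinearMap.range b ⊓ I ^ n • (⊤ : Submodule A N)) := by
    intro a b ha hab x hx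
    obtain ⟨y, hy, rfl⟩ : ∃ y ∈ I ^ (n - c) • (⊤ : Submodule A M), a y = x := by
      by_cases hn : c ≤ n
      · exact ha n hn hx
      · obtain ⟨y, hy⟩ := hx.1
        exact ⟨y, by rw [Nat.sub_eq_zero_of_le (by omega), pow_zero, Ideal.one_eq_top, Submodule.top_smul]; trivial, hy⟩
    have h1 : (b - a) y ∈ I ^ (n + 1) • (⊤ : Submodule A N) :=
      Submodule.smul_mono_left (Ideal.pow_le_pow_right (by omega)) (hd (b - a) hab _ y hy)
    have h2 : b y ∈ I ^ n • (⊤ : Submodule A N) := by
      have h3 := add_mem hx.2 (Submodule.smul_mono_left (Ideal.pow_le_pow_right n.le_succ) h1)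
      rwa [LinearMap.sub_apply, add_sub_cancel] at h3
    rw [show a y = -((b - a) y) + b y by rw [LinearMap.sub_apply]; abel]
    exact Submodule.add_mem_sup (neg_mem h1) ⟨LinearMap.mem_range_self b y, h2⟩
  refine le_antisymm (sup_le le_sup_left (key g g' hg fun y => ?_))
    (sup_le le_sup_left (key g' g (Groth.Agent.S6909.result I hI f f' g g' c hgf hgf' hf hg hex hff' hgg').1 fun y => ?_))
  · rw [LinearMap.sub_apply, ← neg_sub]; exact neg_mem (hgg' y)
  · exact hgg' y

end Groth.Agent.S6910
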