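import Groth.Statements.S6911
import Mathlib
-- import your own Groth.Agent.* helpers here

set_option autoImplicit false
universe u
open TensorProduct
open CAlg

namespace Groth.Agent.S6911

variable {A B : Type*} [CommRing A] [CommRing B] [Algebra A B] {M N : Type*} [AddCommGroup M]
  [Module A M] [AddCommGroup N] [Module A N]

lemma map_baseChange' (f : M →ₗ[A] N) (p : Submodule A M) :
    (p.baseChange B).map (f.baseChange B) = (p.map f).baseChange B := by
  rw [Submodule.baseChange_eq_span, Submodule.baseChange_eq_span, Submodule.map_span]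
  congr 1
  ext z
  simp [LinearMap.baseChange_tmul]

lemma smul_top_baseChange (J : Ideal A) :
    (J • (⊤ : Submodule A M)).baseChange B =
      J.map (algebraMap A B) • (⊤ : Submodule B (TensorProduct A B M)) := by
  apply le_antisymm
  · rw [Submodule.baseChange_eq_span, Submodule.span_le]
    rintro _ ⟨x, hx, rfl⟩
    refine Submodule.smul_induction_on hx (fun j hj m _ => ?_) (fun u v hu hv => ?_)
    · show (1 : B) ⊗ₜ[A] (j • m) ∈ _
      rw [TensorProduct.tmul_smul, algebra_compatible_smul B j]
      exact Submodule.smul_mem_smul (Ideal.mem_map_of_mem _ hj) Submodule.mem_top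
    · rw [map_add]
      exact add_mem hu hv
  · refine Submodule.smul_le.mpr fun b hb => ?_
    refine Submodule.span_induction ?_ (fun z _ => by simp)
      (fun u v _ _ hu hv z hz => by rw [add_smul]; exact add_mem (hu z hz) (hv z hz))
      (fun a u _ hu z hz => by rw [smul_eq_mul, mul_smul]; exact Submodule.smul_mem _ a (hu z hz)) hb
    rintro _ ⟨j, hj, rfl⟩ z -
    induction z using TensorProduct.induction_on with
    | zero => simp
    | tmul b m =>
      rw [algebraMap_smul, TensorProduct.smul_tmul', TensorProduct.smul_tmul]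
      exact Submodule.tmul_mem_baseChange_of_mem b (Submodule.smul_mem_smul hj Submodule.mem_top)
    | add u v hu hv => rw [smul_add]; exact add_mem hu hv


/-- Let `A → B` be a flat map of Noetherian rings, `I ⊆ A` an ideal and `f : M → N` a map of finite
`A`-modules such that `c` works for `f` in the Artin–Rees lemma (`f(M) ∩ IⁿN ⊆ f(I^{n-c}M)` for `n ≥
c`). Then `c` works for `f ⊗ 1 : M ⊗_A B → N ⊗_A B` and the ideal `IB`. -/
theorem result {A B : Type u} [CommRing A] [IsNoetherianRing A] [CommRing B]
    [IsNoetherianRing B] [Algebra A B] [Module.Flat A B] (I : Ideal A) {M N : Type u} [AddCommGroup M] [Module A M]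
    [Module.Finite A M] [AddCommGroup N] [Module A N] [Module.Finite A N] (f : M →ₗ[A] N) (c : ℕ)
    (hf : (∀ n : ℕ, c ≤ n → LinearMap.range f ⊓ (I ^ n • (⊤ : Submodule A N)) ≤ Submodule.map f (I ^ (n - c) • (⊤ : Submodule A M)))) :
    ∀ n : ℕ, c ≤ n →
      LinearMap.range (f.baseChange B) ⊓ ((I.map (algebraMap A B)) ^ n • (⊤ : Submodule B (B ⊗[A] N))) ≤
        Submodule.map (f.baseChange B) ((I.map (algebraMap A B)) ^ (n - c) • (⊤ : Submodule B (B ⊗[A] M))) := by
  intro n hn
  rw [← Ideal.map_pow, ← Ideal.map_pow, ← smul_top_baseChange, ← smul_top_baseChange,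
    map_baseChange']
  rintro z ⟨⟨w, rfl⟩, hz⟩
  set P : Submodule A N := I ^ n • ⊤ with hP
  have hq : P.baseChange B ≤ LinearMap.ker (P.mkQ.baseChange B) := by
    rw [Submodule.baseChange_eq_span, Submodule.span_le]
    rintro _ ⟨x, hx, rfl⟩
    simp only [TensorProduct.mk_apply, SetLike.mem_coe, LinearMap.mem_ker,
      LinearMap.baseChange_tmul, Submodule.mkQ_apply,
      (Submodule.Quotient.mk_eq_zero P).mpr hx, TensorProduct.tmul_zero]
  let h : M →ₗ[A] N ⧸ P := P.mkQ.comp f
  have hw : (h.baseChange B) w = 0 := by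
    rw [LinearMap.baseChange_comp, LinearMap.comp_apply]
    exact hq hz
  rw [LinearMap.baseChange_eq_ltensor] at hw
  obtain ⟨u, hu⟩ := (Module.Flat.lTensor_exact B (LinearMap.exact_subtype_ker_map h) w).mp hw
  have hw' : w ∈ (LinearMap.ker h).baseChange B := by
    rw [← hu]
    clear hu
    induction u using TensorProduct.induction_on with
    | zero => simp
    | tmul b x => exact Submodule.tmul_mem_baseChange_of_mem b x.2
    | add u v hu hv => rw [map_add]; exact add_mem hu hv
  have : f.baseChange B w ∈ ((LinearMap.ker h).map f).baseChange B := by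
    rw [← map_baseChange']
    exact Submodule.mem_map_of_mem hw'
  refine Submodule.baseChange_mono (A := B) ?_ this
  rintro _ ⟨x, hx, rfl⟩
  refine hf n hn ⟨⟨x, rfl⟩, ?_⟩
  exact (Submodule.Quotient.mk_eq_zero P).mp (LinearMap.mem_ker.mp hx)

end Groth.Agent.S6911
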