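import Mathlib
import Groth.Statements.S6912
-- import your own Groth.Agent.* helpers here

set_option autoImplicit false
universe u
open TensorProduct
open CAlg

namespace Groth.Agent.S6912

/-- Let `R` be a domain and `M`, `N` two `R`-modules; rank means dimension over the fraction field after
base change. Then `rank (M ⊗_R N) = rank M · rank N`, and when `M` is finitely presented also `rank
Hom_R(M, N) = rank M · rank N`. -/
theorem result (R : Type u) [CommRing R] [IsDomain R] (M N : Type u)
    [AddCommGroup M] [Module R M] [AddCommGroup N] [Module R N] :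
    Module.rank R (M ⊗[R] N) = Module.rank R M * Module.rank R N ∧
    (Module.FinitePresentation R M → Module.rank R (M →ₗ[R] N) = Module.rank R M * Module.rank R N) := by
  classical
  suffices H : ∀ (K : Type u) [Field K] [Algebra R K] [IsFractionRing R K],
      Module.rank R (M ⊗[R] N) = Module.rank R M * Module.rank R N ∧
      (Module.FinitePresentation R M → Module.rank R (M →ₗ[R] N) = Module.rank R M * Module.rank R N) from
    H (FractionRing R)
  intro K _ _ _
  haveI : FaithfulSMul R K := (faithfulSMul_iff_algebraMap_injective R K).mpr (IsFractionRing.injective R K)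
  have hr : ∀ (Q : Type u) [AddCommGroup Q] [Module R Q], Module.rank K (K ⊗[R] Q) = Module.rank R Q := by
    intro Q _ _
    simpa using (TensorProduct.isBaseChange R Q K).lift_rank_eq
  constructor
  · rw [← hr M, ← hr N, ← hr (M ⊗[R] N), (TensorProduct.AlgebraTensorModule.distribBaseChange R K M N).rank_eq, rank_tensorProduct']
  · intro hM
    let f : M →ₗ[R] K ⊗[R] M := TensorProduct.mk R K M 1
    let g : N →ₗ[R] K ⊗[R] N := TensorProduct.mk R K N 1
    haveI : IsLocalizedModule (nonZeroDivisors R) f :=
      (isLocalizedModule_iff_isBaseChange (nonZeroDivisors R) K f).mpr (TensorProduct.isBaseChange R M K)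
    haveI : IsLocalizedModule (nonZeroDivisors R) g :=
      (isLocalizedModule_iff_isBaseChange (nonZeroDivisors R) K g).mpr (TensorProduct.isBaseChange R N K)
    have hloc := Module.FinitePresentation.isLocalizedModule_mapExtendScalars (nonZeroDivisors R) f g K
    have hb : IsBaseChange K (IsLocalizedModule.mapExtendScalars (nonZeroDivisors R) f g K) :=
      (isLocalizedModule_iff_isBaseChange (nonZeroDivisors R) K _).mp hloc
    have he : (K ⊗[R] (M →ₗ[R] N)) ≃ₗ[K] ((K ⊗[R] M) →ₗ[K] (K ⊗[R] N)) := IsBaseChange.equiv hb
    have h := LinearEquiv.rank_eq he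
    rw [← hr (M →ₗ[R] N), h, Module.rank_linearMap, hr M, hr N]
    simp

end Groth.Agent.S6912
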