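import Groth.Statements.S6913
import Mathlib
import Groth.Agent.OneDimLenH4
-- import your own Groth.Agent.* helpers here

set_option autoImplicit false
universe u
open CAlg

namespace Groth.Agent.S6913

/-- Let `R` be a domain and `M` a finite `R`-module, of (finite) rank `r`. Then: some linear map `M →
R^r` has torsion kernel and torsion cokernel; some nonzero `f ∈ R` makes `M_f` free of rank `r` over
`R_f`; and some injective linear map `R^r → M` has torsion cokernel. -/
theorem result (R : Type u) [CommRing R] [IsDomain R] (M : Type u) [AddCommGroup M]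
    [Module R M] [Module.Finite R M] :
    (∃ h : M →ₗ[R] (Fin (Module.finrank R M) → R),
      (∀ x : M, h x = 0 → ∃ c : R, c ≠ 0 ∧ c • x = 0) ∧
      (∀ y : Fin (Module.finrank R M) → R, ∃ c : R, c ≠ 0 ∧ c • y ∈ LinearMap.range h)) ∧
    (∃ f : R, f ≠ 0 ∧ Module.Free (Localization.Away f) (LocalizedModule (Submonoid.powers f) M) ∧
      Module.finrank (Localization.Away f) (LocalizedModule (Submonoid.powers f) M) = Module.finrank R M) ∧
    (∃ g : (Fin (Module.finrank R M) → R) →ₗ[R] M, Function.Injective g ∧
      ∀ x : M, ∃ c : R, c ≠ 0 ∧ c • x ∈ LinearMap.range g) := by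
  obtain ⟨g, hg, htor⟩ := Groth.Agent.OneDimLenH4.exists_free_le (O := R) (N := M)
  obtain ⟨c, hc0, hc⟩ := Groth.Agent.OneDimLenH4.exists_smul_mem htor
  let e := LinearEquiv.ofInjective g hg
  let h : M →ₗ[R] (Fin (Module.finrank R M) → R) :=
    e.symm.toLinearMap.comp ((c • (LinearMap.id : M →ₗ[R] M)).codRestrict (LinearMap.range g) hc)
  have hgh : ∀ x, g (h x) = c • x := fun x => by
    have := congrArg Subtype.val (e.apply_symm_apply
      ((c • (LinearMap.id : M →ₗ[R] M)).codRestrict (LinearMap.range g) hc x))
    exact this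
  refine ⟨⟨h, fun x hx => ⟨c, hc0, ?_⟩, fun y => ⟨c, hc0, g y, hg ?_⟩⟩, ⟨c, hc0, ?_⟩,
    g, hg, fun x => htor x⟩
  · rw [← hgh, hx, map_zero]
  · rw [hgh, map_smul]
  · have hu : IsUnit (algebraMap R (Localization.Away c) c) :=
      IsLocalization.Away.algebraMap_isUnit c
    have hinjL : Function.Injective (LocalizedModule.map (Submonoid.powers c) g) :=
      LocalizedModule.map_injective _ g hg
    have hsurjL : Function.Surjective (LocalizedModule.map (Submonoid.powers c) g) := by
      intro z
      induction z using LocalizedModule.induction_on with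
      | h x s =>
        refine ⟨LocalizedModule.mk (h x) (⟨c, Submonoid.mem_powers c⟩ * s), ?_⟩
        rw [LocalizedModule.map_mk, hgh, LocalizedModule.mk_eq]
        refine ⟨1, ?_⟩
        simp [Submonoid.smul_def, smul_smul, mul_comm]
    let eL := LinearEquiv.ofBijective _ ⟨hinjL, hsurjL⟩
    let b := ((Pi.basisFun R (Fin (Module.finrank R M))).ofIsLocalizedModule
      (Localization.Away c) (Submonoid.powers c)
      (LocalizedModule.mkLinearMap (Submonoid.powers c) (Fin (Module.finrank R M) → R))).map eL
    haveI : Nontrivial (Localization.Away c) :=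
      (IsLocalization.injective (Localization.Away c)
        (powers_le_nonZeroDivisors_of_noZeroDivisors hc0)).nontrivial
    exact ⟨Module.Free.of_basis b, by rw [Module.finrank_eq_card_basis b, Fintype.card_fin]⟩

end Groth.Agent.S6913
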