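import Groth.Statements.S6917
-- import your own Groth.Agent.* helpers here

set_option autoImplicit false
universe u
open CategoryTheory
open EtAlg

namespace Groth.Agent.S6917

open PrimeSpectrum in
theorem aux (B' B A' A : Type u) [CommRing B'] [CommRing B] [CommRing A'] [CommRing A]
    [Algebra B' B] [Algebra B' A'] [Algebra B A] [Algebra A' A] [Algebra B' A]
    [IsScalarTower B' B A] [IsScalarTower B' A' A] (hsq : EtMil.IsFibreSquare B' B A' A) :
    Topology.IsQuotientMap (Sum.elim (comap (algebraMap B' B)) (comap (algebraMap B' A'))) ∧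
    (∀ x : PrimeSpectrum A', comap (algebraMap B' A') x ∈ Set.range (comap (algebraMap B' B)) →
      x ∈ Set.range (comap (algebraMap A' A))) ∧
    (∀ x x' : PrimeSpectrum A', x ∉ Set.range (comap (algebraMap A' A)) →
      comap (algebraMap B' A') x = comap (algebraMap B' A') x' → x = x') := by
  have hsB : Function.Surjective (algebraMap B' B) := fun b => by
    obtain ⟨a', ha'⟩ := hsq.1 (algebraMap B A b)
    exact ⟨_, ((hsq.2 b a' ha'.symm).exists.choose_spec).1⟩
  have lift : ∀ a' : A', algebraMap A' A a' = 0 →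
      ∃ j : B', algebraMap B' B j = 0 ∧ algebraMap B' A' j = a' := fun a' ha' =>
    (hsq.2 0 a' (by rw [map_zero, ha'])).exists
  have ext : ∀ x y : B', algebraMap B' B x = algebraMap B' B y →
      algebraMap B' A' x = algebraMap B' A' y → x = y := fun x y h1 h2 =>
    (hsq.2 (algebraMap B' B y) (algebraMap B' A' y)
      (by rw [← IsScalarTower.algebraMap_apply, ← IsScalarTower.algebraMap_apply])).unique
      ⟨h1, h2⟩ ⟨rfl, rfl⟩
  have toA : ∀ j : B', algebraMap A' A (algebraMap B' A' j) = algebraMap B A (algebraMap B' B j) :=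
    fun j => by rw [← IsScalarTower.algebraMap_apply, ← IsScalarTower.algebraMap_apply]
  have memB : ∀ p : PrimeSpectrum B', p ∈ Set.range (comap (algebraMap B' B)) ↔
      ∀ j, algebraMap B' B j = 0 → j ∈ p.asIdeal := fun p => by
    rw [range_comap_of_surjective _ _ hsB]
    exact ⟨fun h j hj => h hj, fun h j hj => h j hj⟩
  have memA : ∀ p : PrimeSpectrum A', p ∈ Set.range (comap (algebraMap A' A)) ↔
      ∀ i, algebraMap A' A i = 0 → i ∈ p.asIdeal := fun p => by
    rw [range_comap_of_surjective _ _ hsq.1]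
    exact ⟨fun h j hj => h hj, fun h j hj => h j hj⟩
  have h2 : ∀ x : PrimeSpectrum A', comap (algebraMap B' A') x ∈ Set.range (comap (algebraMap B' B)) →
      x ∈ Set.range (comap (algebraMap A' A)) := fun x hx => (memA x).2 fun i hi => by
    obtain ⟨j, hj, rfl⟩ := lift i hi
    exact (memB _).1 hx j hj
  have h3 : ∀ x x' : PrimeSpectrum A', x ∉ Set.range (comap (algebraMap A' A)) →
      comap (algebraMap B' A') x = comap (algebraMap B' A') x' → x = x' := by
    intro x x' hx hxx
    rw [memA] at hx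
    push Not at hx
    obtain ⟨i, hi, hix⟩ := hx
    obtain ⟨j, hj, rfl⟩ := lift i hi
    have hmem : ∀ b : B', algebraMap B' A' b ∈ x.asIdeal ↔ algebraMap B' A' b ∈ x'.asIdeal :=
      fun b => SetLike.ext_iff.1 (congrArg PrimeSpectrum.asIdeal hxx) b
    have hix' : algebraMap B' A' j ∉ x'.asIdeal := fun h => hix ((hmem j).2 h)
    ext a
    obtain ⟨b, -, hb⟩ := lift (a * algebraMap B' A' j) (by rw [map_mul, hi, mul_zero])
    calc a ∈ x.asIdeal ↔ algebraMap B' A' b ∈ x.asIdeal := by
          rw [hb, x.isPrime.mul_mem_iff_mem_or_mem, or_iff_left hix]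
      _ ↔ algebraMap B' A' b ∈ x'.asIdeal := hmem b
      _ ↔ a ∈ x'.asIdeal := by
          rw [hb, x'.isPrime.mul_mem_iff_mem_or_mem, or_iff_left hix']
  have surj : ∀ p : PrimeSpectrum B', p ∉ Set.range (comap (algebraMap B' B)) →
      ∃ x, comap (algebraMap B' A') x = p := by
    intro p hp
    rw [memB] at hp
    push Not at hp
    obtain ⟨j, hj, hjp⟩ := hp
    have hi : algebraMap A' A (algebraMap B' A' j) = 0 := by rw [toA, hj, map_zero]
    choose c hc0 hc using fun a : A' => lift (a * algebraMap B' A' j) (by rw [map_mul, hi, mul_zero])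
    have hadd : ∀ a b, c (a + b) = c a + c b := fun a b =>
      ext _ _ (by rw [map_add, hc0, hc0, hc0, add_zero]) (by rw [map_add, hc, hc, hc, add_mul])
    have hmul : ∀ a b, c a * c b = c (a * b) * j := fun a b =>
      ext _ _ (by rw [map_mul, map_mul, hc0, hc0, hc0, zero_mul, zero_mul])
        (by rw [map_mul, map_mul, hc, hc, hc]; ring)
    let q : Ideal A' :=
      { carrier := {a | c a ∈ p.asIdeal}
        add_mem' := fun {a b} ha hb => by
          simpa only [Set.mem_setOf_eq, hadd] using p.asIdeal.add_mem ha hb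
        zero_mem' := by
          have : c 0 = 0 := by simpa using hadd 0 0
          simp [Set.mem_setOf_eq, this]
        smul_mem' := fun a b hb => by
          simp only [Set.mem_setOf_eq, smul_eq_mul] at hb ⊢
          have h := p.asIdeal.mul_mem_left (c a) hb
          rw [hmul] at h
          exact (p.isPrime.mem_or_mem h).resolve_right hjp }
    have h1q : c 1 = j := ext _ _ (by rw [hc0, hj]) (by rw [hc, one_mul])
    have hq : q.IsPrime := by
      refine ⟨fun h => ?_, fun {a b} hab => ?_⟩
      · exact hjp (h1q ▸ ((Ideal.eq_top_iff_one q).1 h : c 1 ∈ p.asIdeal))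
      · change c (a * b) ∈ p.asIdeal at hab
        have h : c a * c b ∈ p.asIdeal := by rw [hmul]; exact p.asIdeal.mul_mem_right _ hab
        exact p.isPrime.mem_or_mem h
    refine ⟨⟨q, hq⟩, ?_⟩
    ext b
    change c (algebraMap B' A' b) ∈ p.asIdeal ↔ b ∈ p.asIdeal
    have : c (algebraMap B' A' b) = b * j :=
      ext _ _ (by rw [hc0, map_mul, hj, mul_zero]) (by rw [hc, map_mul])
    rw [this, p.isPrime.mul_mem_iff_mem_or_mem, or_iff_left hjp]
  refine ⟨?_, h2, h3⟩
  rw [Topology.isQuotientMap_iff_isClosed]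
  refine ⟨fun p => ?_, fun Z => ⟨fun hZ => ?_, fun hZ => ?_⟩⟩
  · by_cases hp : p ∈ Set.range (comap (algebraMap B' B))
    · exact ⟨Sum.inl hp.choose, hp.choose_spec⟩
    · exact ⟨Sum.inr (surj p hp).choose, (surj p hp).choose_spec⟩
  · exact hZ.preimage (Continuous.sumElim (continuous_comap _) (continuous_comap _))
  obtain ⟨hZB, hZA⟩ := isClosed_sum_iff.1 hZ
  obtain ⟨b, hb⟩ := (isClosed_iff_zeroLocus_ideal _).1 hZB
  obtain ⟨a, ha⟩ := (isClosed_iff_zeroLocus_ideal _).1 hZA
  have hbm : ∀ q, comap (algebraMap B' B) q ∈ Z ↔ b ≤ q.asIdeal := fun q => by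
    simpa using Set.ext_iff.1 hb q
  have ham : ∀ q, comap (algebraMap B' A') q ∈ Z ↔ a ≤ q.asIdeal := fun q => by
    simpa using Set.ext_iff.1 ha q
  rw [← closure_subset_iff_isClosed, ← zeroLocus_vanishingIdeal_eq_closure]
  intro p hp
  rw [mem_zeroLocus, SetLike.coe_subset_coe] at hp
  have hvan : ∀ c : B', (∀ q, comap (algebraMap B' B) q ∈ Z → algebraMap B' B c ∈ q.asIdeal) →
      (∀ q, comap (algebraMap B' A') q ∈ Z → algebraMap B' A' c ∈ q.asIdeal) → c ∈ p.asIdeal := by
    intro c h h'
    refine hp ((mem_vanishingIdeal _ _).2 fun z hz => ?_)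
    by_cases hzB : z ∈ Set.range (comap (algebraMap B' B))
    · obtain ⟨q, rfl⟩ := hzB
      exact h q hz
    · obtain ⟨q, rfl⟩ := surj z hzB
      exact h' q hz
  by_cases hpB : p ∈ Set.range (comap (algebraMap B' B))
  · obtain ⟨q, rfl⟩ := hpB
    rw [hbm]
    intro x hx
    have hrad : algebraMap B A x ∈ (a.map (algebraMap A' A)).radical := by
      rw [Ideal.radical_eq_sInf, Ideal.mem_sInf]
      rintro z ⟨hz, hzp⟩
      have hza : a ≤ (comap (algebraMap A' A) ⟨z, hzp⟩).asIdeal := Ideal.map_le_iff_le_comap.1 hz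
      have hzZ := (ham _).2 hza
      have e : comap (algebraMap B' A') (comap (algebraMap A' A) ⟨z, hzp⟩) =
          comap (algebraMap B' B) (comap (algebraMap B A) ⟨z, hzp⟩) := by
        ext c
        change algebraMap A' A (algebraMap B' A' c) ∈ z ↔ algebraMap B A (algebraMap B' B c) ∈ z
        rw [toA]
      rw [e] at hzZ
      exact (hbm _).1 hzZ hx
    obtain ⟨n, hn⟩ := hrad
    obtain ⟨α, hα, hαx⟩ := (Ideal.mem_map_iff_of_surjective _ hsq.1).1 hn
    obtain ⟨c, hc0, hc1⟩ := (hsq.2 (x ^ (n + 1)) (α * (hsq.1 (algebraMap B A x)).choose)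
      (by rw [map_pow, map_mul, hαx, (hsq.1 (algebraMap B A x)).choose_spec, pow_succ])).exists
    have hc : algebraMap B' B c ∈ q.asIdeal := hvan c
      (fun z hz => by rw [hc0]; exact z.asIdeal.pow_mem_of_mem ((hbm z).1 hz hx) _ n.succ_pos)
      (fun z hz => by rw [hc1]; exact z.asIdeal.mul_mem_right _ ((ham z).1 hz hα))
    rw [hc0] at hc
    exact q.isPrime.mem_of_pow_mem _ hc
  · obtain ⟨x, rfl⟩ := surj p hpB
    rw [ham]
    intro t ht
    rw [memB] at hpB
    push Not at hpB
    obtain ⟨j, hj, hjx⟩ := hpB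
    obtain ⟨c, hc0, hc1⟩ := lift (algebraMap B' A' j * t) (by rw [map_mul, toA, hj, map_zero, zero_mul])
    have hc : algebraMap B' A' c ∈ x.asIdeal := hvan c
      (fun z _ => by rw [hc0]; exact z.asIdeal.zero_mem)
      (fun z hz => by rw [hc1]; exact z.asIdeal.mul_mem_left _ ((ham z).1 hz ht))
    rw [hc1] at hc
    exact (x.isPrime.mem_or_mem hc).resolve_left hjx

/-- Let `B' = B ×_A A'` be a fibre square of rings with `A' → A` surjective. Then `Spec(B') = Spec(B)
⨿_{Spec(A)} Spec(A')`: the square of prime spectra is a pushout of topological spaces. -/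
theorem result (B' B A' A : Type u) [CommRing B'] [CommRing B] [CommRing A'] [CommRing A]
    [Algebra B' B] [Algebra B' A'] [Algebra B A] [Algebra A' A] [Algebra B' A] [IsScalarTower B' B A] [IsScalarTower B' A' A]
    (hsq : EtMil.IsFibreSquare B' B A' A) :
    IsPushout (TopCat.ofHom (ContinuousMap.mk (PrimeSpectrum.comap (algebraMap B A)) (PrimeSpectrum.continuous_comap _))) (TopCat.ofHom (ContinuousMap.mk (PrimeSpectrum.comap (algebraMap A' A)) (PrimeSpectrum.continuous_comap _)))
      (TopCat.ofHom (ContinuousMap.mk (PrimeSpectrum.comap (algebraMap B' B)) (PrimeSpectrum.continuous_comap _)))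
      (TopCat.ofHom (ContinuousMap.mk (PrimeSpectrum.comap (algebraMap B' A')) (PrimeSpectrum.continuous_comap _))) := by
  obtain ⟨hq, h2, h3⟩ := aux B' B A' A hsq
  have hinjB : Function.Injective (PrimeSpectrum.comap (algebraMap B' B)) :=
    PrimeSpectrum.comap_injective_of_surjective _ fun b => by
      obtain ⟨a', ha'⟩ := hsq.1 (algebraMap B A b)
      exact ⟨_, ((hsq.2 b a' ha'.symm).exists.choose_spec).1⟩
  have comm : ∀ z : PrimeSpectrum A,
      PrimeSpectrum.comap (algebraMap B' B) (PrimeSpectrum.comap (algebraMap B A) z) =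
        PrimeSpectrum.comap (algebraMap B' A') (PrimeSpectrum.comap (algebraMap A' A) z) := fun z => by
    ext c
    change algebraMap B A (algebraMap B' B c) ∈ z.asIdeal ↔ algebraMap A' A (algebraMap B' A' c) ∈ z.asIdeal
    rw [← IsScalarTower.algebraMap_apply, ← IsScalarTower.algebraMap_apply]
  let π : C(PrimeSpectrum B ⊕ PrimeSpectrum A', PrimeSpectrum B') := ⟨_, hq.continuous⟩
  have hπ : Topology.IsQuotientMap π := hq
  let g (s : CategoryTheory.Limits.PushoutCocone
      (TopCat.ofHom (ContinuousMap.mk (PrimeSpectrum.comap (algebraMap B A)) (PrimeSpectrum.continuous_comap _)))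
      (TopCat.ofHom (ContinuousMap.mk (PrimeSpectrum.comap (algebraMap A' A)) (PrimeSpectrum.continuous_comap _)))) :
      C(PrimeSpectrum B ⊕ PrimeSpectrum A', s.pt) :=
    ⟨Sum.elim s.inl.hom s.inr.hom, s.inl.hom.continuous.sumElim s.inr.hom.continuous⟩
  have hfac : ∀ s, Function.FactorsThrough (g s) π := by
    intro s
    have hs : ∀ z, s.inl.hom (PrimeSpectrum.comap (algebraMap B A) z) =
        s.inr.hom (PrimeSpectrum.comap (algebraMap A' A) z) := fun z =>
      ConcreteCategory.congr_hom s.condition z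
    have key : ∀ y x, PrimeSpectrum.comap (algebraMap B' B) y = PrimeSpectrum.comap (algebraMap B' A') x →
        s.inl.hom y = s.inr.hom x := fun y x e => by
      obtain ⟨z, rfl⟩ := h2 x ⟨y, e⟩
      rw [← comm] at e
      rw [hinjB e, hs]
    intro u v huv
    change Sum.elim _ _ u = Sum.elim _ _ v at huv
    change Sum.elim _ _ u = Sum.elim _ _ v
    rcases u with y | x <;> rcases v with y' | x' <;> simp only [Sum.elim_inl, Sum.elim_inr] at huv ⊢
    · rw [hinjB huv]
    · exact key _ _ huv
    · exact (key _ _ huv.symm).symm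
    · by_cases hx : x ∈ Set.range (PrimeSpectrum.comap (algebraMap A' A))
      · obtain ⟨z, rfl⟩ := hx
        rw [← hs, key _ x' (by rw [comm]; exact huv)]
      · rw [h3 x x' hx huv]
  have w : CommSq
      (TopCat.ofHom (ContinuousMap.mk (PrimeSpectrum.comap (algebraMap B A)) (PrimeSpectrum.continuous_comap _)))
      (TopCat.ofHom (ContinuousMap.mk (PrimeSpectrum.comap (algebraMap A' A)) (PrimeSpectrum.continuous_comap _)))
      (TopCat.ofHom (ContinuousMap.mk (PrimeSpectrum.comap (algebraMap B' B)) (PrimeSpectrum.continuous_comap _)))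
      (TopCat.ofHom (ContinuousMap.mk (PrimeSpectrum.comap (algebraMap B' A')) (PrimeSpectrum.continuous_comap _))) :=
    ⟨TopCat.hom_ext (ContinuousMap.ext comm)⟩
  refine ⟨w, ⟨CategoryTheory.Limits.PushoutCocone.IsColimit.mk _ (fun s => TopCat.ofHom (hπ.lift (g s) (hfac s))) ?_ ?_ ?_⟩⟩
  · intro s
    ext y
    exact ContinuousMap.congr_fun (hπ.lift_comp (g s) (hfac s)) (Sum.inl y)
  · intro s
    ext x
    exact ContinuousMap.congr_fun (hπ.lift_comp (g s) (hfac s)) (Sum.inr x)
  · intro s m h1 h2'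
    ext p
    obtain ⟨u, rfl⟩ := hπ.surjective p
    have := ContinuousMap.congr_fun (hπ.lift_comp (g s) (hfac s)) u
    rcases u with y | x
    · exact (ConcreteCategory.congr_hom h1 y).trans this.symm
    · exact (ConcreteCategory.congr_hom h2' x).trans this.symm


end Groth.Agent.S6917
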