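import Mathlib
import Groth.Statements.S6920
-- import your own Groth.Agent.* helpers here

set_option autoImplicit false
universe u
open CategoryTheory CategoryTheory.Limits MonoidalCategory
open DRing

namespace Groth.Agent.S6920

set_option backward.isDefEq.respectTransparency false
set_option backward.isDefEq.respectTransparency.types false

/-- For an epimorphism of rings `φ : R → S` and a complex `I•` of `S`-modules, if the underlying complex
of `R`-modules of `I•` is K-injective, then `I•` itself is K-injective over `S`. -/
theorem result (R S : Type u) [CommRing R] [CommRing S] (φ : R →+* S)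
    (hφ : Epi (CommRingCat.ofHom φ)) (I : DRing.Cx S)
    [CochainComplex.IsKInjective ((DRing.restrictCx φ).obj I)] : CochainComplex.IsKInjective I := by
  algebraize [φ]
  have hepi : Algebra.IsEpi R S := CommRingCat.epi_iff_epi.mp (by exact hφ)
  have hlin : ∀ {M N : ModuleCat.{u} S}
      (f : (ModuleCat.restrictScalars φ).obj M ⟶ (ModuleCat.restrictScalars φ).obj N),
      ∃ g : M ⟶ N, (ModuleCat.restrictScalars φ).map g = f := by
    intro M N f
    letI : Module R M := Module.compHom M φ
    letI : Module R N := Module.compHom N φ
    haveI : IsScalarTower R S M := ⟨fun r s m => by show (φ r * s) • m = φ r • s • m; exact mul_smul _ _ _⟩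
    haveI : IsScalarTower R S N := ⟨fun r s m => by show (φ r * s) • m = φ r • s • m; exact mul_smul _ _ _⟩
    let g0 : M →ₗ[R] N :=
      { toFun := f.hom
        map_add' := fun a b => map_add f.hom a b
        map_smul' := fun r a => f.hom.map_smul r a }
    refine ⟨ModuleCat.ofHom { toFun := g0, map_add' := map_add g0, map_smul' := fun s a => ?_ }, ?_⟩
    · have h1 := congrArg (TensorProduct.lift ((LinearMap.lsmul S N).restrictScalars₁₂ R R ∘ₗ LinearMap.id) ∘ₗ
        (TensorProduct.map LinearMap.id g0) ∘ₗ TensorProduct.map LinearMap.id (((LinearMap.lsmul S M).flip a).restrictScalars R))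
        ((Algebra.isEpi_iff_forall_one_tmul_eq R S).1 hepi s)
      simpa using h1
    · ext a
      rfl
  refine ⟨fun {K} f hK => ?_⟩
  let F := DRing.restrictCx φ
  have hK' : (F.obj K).Acyclic := by
    intro i
    have h := hK i
    rw [HomologicalComplex.exactAt_iff] at h ⊢
    exact h.map (ModuleCat.restrictScalars φ)
  obtain ⟨H⟩ := CochainComplex.IsKInjective.nonempty_homotopy_zero (F.map f) hK'
  choose g hg using fun i j => hlin (H.hom i j)
  refine ⟨{ hom := g, zero := fun i j hij => (ModuleCat.restrictScalars φ).map_injective ?_, comm := fun i => (ModuleCat.restrictScalars φ).map_injective ?_ }⟩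
  · rw [hg, H.zero i j hij, Functor.map_zero]
  · have hc := H.comm i
    rw [dNext_eq H.hom (show (ComplexShape.up ℤ).Rel i (i + 1) from rfl), prevD_eq H.hom (show (ComplexShape.up ℤ).Rel (i - 1) i by simp)] at hc
    rw [dNext_eq g (show (ComplexShape.up ℤ).Rel i (i + 1) from rfl), prevD_eq g (show (ComplexShape.up ℤ).Rel (i - 1) i by simp)]
    rw [Functor.map_add, Functor.map_add, Functor.map_comp, Functor.map_comp, hg, hg]
    simp only [HomologicalComplex.zero_f, Functor.map_zero, add_zero] at hc ⊢
    exact hc

end Groth.Agent.S6920
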