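import Groth.Statements.S6929
import Mathlib
-- import your own Groth.Agent.* helpers here

set_option autoImplicit false
universe u
open EtAlg

namespace Groth.Agent.S6929

section Aux
theorem finiteType_subalgebra {R X : Type u} [CommRing R] [IsNoetherianRing R] [CommRing X]
    [Algebra R X] [Algebra.FiniteType R X] (P : Subalgebra R X) (h : Module.Finite P X) :
    Algebra.FiniteType R P :=
  ⟨fg_of_fg_of_fg R P X Algebra.FiniteType.out h.fg_top Subtype.val_injective⟩

theorem finiteType_pi {R ι : Type u} [CommRing R] [Fintype ι] (A : ι → Type u) [∀ i, CommRing (A i)]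
    [∀ i, Algebra R (A i)] (hA : ∀ i, Algebra.FiniteType R (A i)) :
    Algebra.FiniteType R (∀ i, A i) := by
  classical
  choose s hs using fun i => (hA i).out
  refine ⟨⟨Finset.univ.biUnion fun i => insert (Pi.single i 1) ((s i).image (Pi.single i)), ?_⟩⟩
  rw [eq_top_iff]
  rintro a -
  rw [← Finset.univ_sum_single a]
  refine sum_mem fun i _ => ?_
  have ha : a i ∈ Algebra.adjoin R (s i : Set (A i)) := (hs i).symm ▸ Algebra.mem_top
  generalize a i = x at ha
  induction ha using Algebra.adjoin_induction with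
  | mem x hx =>
    exact Algebra.subset_adjoin (Finset.mem_biUnion.2 ⟨i, Finset.mem_univ i,
      Finset.mem_insert_of_mem (Finset.mem_image.2 ⟨x, hx, rfl⟩)⟩)
  | algebraMap r =>
    rw [Algebra.algebraMap_eq_smul_one, Pi.single_smul]
    exact Subalgebra.smul_mem _ (Algebra.subset_adjoin (Finset.mem_biUnion.2 ⟨i, Finset.mem_univ i,
      Finset.mem_insert_self _ _⟩)) r
  | add x y _ _ hx hy => rw [Pi.single_add]; exact add_mem hx hy
  | mul x y _ _ hx hy => rw [Pi.single_mul]; exact mul_mem hx hy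

end Aux

/-- Let `R` be a Noetherian ring, `ι` a finite index type, and `φ_i : A_i → B_i`, `ψ_i : Q → B_i`
surjective `R`-algebra maps, where `Q` and all `A_i`, `B_i` are `R`-algebras of finite type. Then
the fibre product ring `P = Q ×_{∏ B_i} ∏ A_i` (pairs `(q, a)` with `ψ_i(q) = φ_i(a_i)` for all `i`)
is an `R`-algebra of finite type. -/
theorem result (R : Type u) [CommRing R] [IsNoetherianRing R] {ι : Type u} [Fintype ι]
    (Q : Type u) [CommRing Q] [Algebra R Q] [Algebra.FiniteType R Q] (A B : ι → Type u) [∀ i, CommRing (A i)]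
    [∀ i, CommRing (B i)] [∀ i, Algebra R (A i)] [∀ i, Algebra R (B i)] (hA : ∀ i, Algebra.FiniteType R (A i))
    (hB : ∀ i, Algebra.FiniteType R (B i)) (φ : ∀ i, A i →ₐ[R] B i) (ψ : ∀ i, Q →ₐ[R] B i)
    (hφ : ∀ i, Function.Surjective (φ i)) (hψ : ∀ i, Function.Surjective (ψ i)) :
    Algebra.FiniteType R ↥(AlgHom.equalizer ((AlgHom.pi ψ).comp (AlgHom.fst R Q (∀ i, A i)))
      ((AlgHom.pi fun i => (φ i).comp (Pi.evalAlgHom R A i)).comp (AlgHom.snd R Q (∀ i, A i)))) := by
  classical
  haveI := finiteType_pi A hA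
  refine finiteType_subalgebra _ ?_
  choose σ hσ using hφ
  choose τ hτ using hψ
  refine ⟨⟨insert ((1 : Q), (0 : ∀ i, A i))
    (Finset.univ.image fun i => ((0 : Q), (Pi.single i 1 : ∀ i, A i))), ?_⟩⟩
  rw [eq_top_iff]
  rintro ⟨q, a⟩ -
  set M := Submodule.span ↥(AlgHom.equalizer ((AlgHom.pi ψ).comp (AlgHom.fst R Q (∀ i, A i)))
      ((AlgHom.pi fun i => (φ i).comp (Pi.evalAlgHom R A i)).comp (AlgHom.snd R Q (∀ i, A i))))
    ((insert ((1 : Q), (0 : ∀ i, A i))
      (Finset.univ.image fun i => ((0 : Q), (Pi.single i 1 : ∀ i, A i))) : Finset (Q × ∀ i, A i)) :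
        Set (Q × ∀ i, A i)) with hM
  have mem : ∀ (x y : Q × ∀ i, A i), (∀ i, ψ i x.1 = φ i (x.2 i)) → y ∈ M → x * y ∈ M :=
    fun x y hx hy => M.smul_mem (⟨x, funext hx⟩ : ↥(AlgHom.equalizer
      ((AlgHom.pi ψ).comp (AlgHom.fst R Q (∀ i, A i)))
      ((AlgHom.pi fun i => (φ i).comp (Pi.evalAlgHom R A i)).comp (AlgHom.snd R Q (∀ i, A i))))) hy
  have h0 : (q, (0 : ∀ i, A i)) ∈ M := by
    have := mem (q, fun i => σ i (ψ i q)) (1, 0) (fun i => (hσ i _).symm) (Submodule.subset_span (by simp))
    simpa using this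
  have h1 : ∀ i, ((0 : Q), (Pi.single i (a i) : ∀ i, A i)) ∈ M := fun i => by
    have := mem (τ i (φ i (a i)), Function.update (fun j => σ j (ψ j (τ i (φ i (a i))))) i (a i))
      (0, Pi.single i 1) (fun j => by
        by_cases h : j = i
        · subst h; simp [hτ]
        · simp [Function.update_of_ne h, hσ])
      (Submodule.subset_span (by simp))
    convert this using 1
    ext j
    · simp
    · by_cases h : j = i
      · subst h; simp
      · simp [Pi.single_eq_of_ne h]
  have := M.add_mem h0 (M.sum_mem (t := Finset.univ) fun i _ => h1 i)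
  convert this using 1
  ext j
  · simp [Prod.fst_sum]
  · simp [Prod.snd_sum, Finset.univ_sum_single]

end Groth.Agent.S6929
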