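import Groth.Statements.S6932
import Groth.Agent.S2050
-- import your own Groth.Agent.* helpers here

set_option autoImplicit false
universe u
open CAlg

namespace Groth.Agent.S6932

/-- Let `R → S` be a ring map of finite type with `S` flat over `R`, such that `R → ∏_j R_{𝔭_j}` is
injective for some finite set of primes `𝔭_j` and each localization `S_𝔭` (at a prime `𝔭` of `R`) is
a finitely presented `R_𝔭`-algebra. Then `S` is a finitely presented `R`-algebra. -/
theorem result {R S : Type u} [CommRing R] [CommRing S]
    [Algebra R S] [Algebra.FiniteType R S] [Module.Flat R S] (s : Finset (PrimeSpectrum R))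
    (hs : Function.Injective fun r : R => fun p : s => algebraMap R (Localization.AtPrime p.1.asIdeal) r)
    (hloc : ∀ (p : Ideal R) [p.IsPrime],
      Algebra.FinitePresentation (Localization.AtPrime p) (Localization (Algebra.algebraMapSubmonoid S p.primeCompl))) :
    Algebra.FinitePresentation R S := by
  classical
  obtain ⟨n, f, hf⟩ := Algebra.FiniteType.iff_quotient_mvPolynomial''.1 ‹Algebra.FiniteType R S›
  let P := MvPolynomial (Fin n) R
  letI : Algebra P S := f.toRingHom.toAlgebra
  haveI : IsScalarTower R P S := IsScalarTower.of_algebraMap_eq fun r => (f.commutes r).symm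
  haveI : Module.Finite P S := Module.Finite.of_surjective (Algebra.linearMap P S) hf
  have hfp : Module.FinitePresentation P S := by
    refine Groth.Agent.S2050.result n s hs fun p hp => ?_
    haveI := hp
    let U := Algebra.algebraMapSubmonoid P p.primeCompl
    let Pp := Localization U
    let Sp := Localization (Algebra.algebraMapSubmonoid S p.primeCompl)
    let Rp := Localization.AtPrime p
    have hUV : Algebra.algebraMapSubmonoid S p.primeCompl = Algebra.algebraMapSubmonoid S U := by
      ext x
      constructor
      · rintro ⟨r, hr, rfl⟩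
        exact ⟨algebraMap R P r, ⟨r, hr, rfl⟩, (IsScalarTower.algebraMap_apply R P S r).symm⟩
      · rintro ⟨_, ⟨r, hr, rfl⟩, rfl⟩
        exact ⟨r, hr, IsScalarTower.algebraMap_apply R P S r⟩
    haveI hloc' : IsLocalization (Algebra.algebraMapSubmonoid S U) Sp := hUV ▸ Localization.isLocalization
    have hle : U ≤ (Algebra.algebraMapSubmonoid S U).comap (algebraMap P S) := Submonoid.le_comap_map _
    letI : Algebra Pp Sp := (IsLocalization.map Sp (algebraMap P S) hle).toAlgebra
    haveI : IsScalarTower P Pp Sp := IsScalarTower.of_algebraMap_eq fun x => by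
      refine (IsScalarTower.algebraMap_apply P S Sp x).trans ?_
      exact (IsLocalization.map_eq (M := U) (S := Pp) (Q := Sp) hle x).symm
    haveI : IsScalarTower Rp Pp Sp := IsScalarTower.of_algebraMap_eq' (IsLocalization.ringHom_ext p.primeCompl (by
      rw [RingHom.comp_assoc, ← IsScalarTower.algebraMap_eq R Rp Sp, ← IsScalarTower.algebraMap_eq R Rp Pp,
        IsScalarTower.algebraMap_eq R P Pp, ← RingHom.comp_assoc, ← IsScalarTower.algebraMap_eq P Pp Sp,
        ← IsScalarTower.algebraMap_eq R P Sp]))
    haveI : Algebra.FiniteType Rp Pp := by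
      haveI : Algebra.IsPushout R Rp P Pp :=
        (Algebra.isPushout_of_isLocalization (R := R) (T := P) (A := Rp) (B := Pp) p.primeCompl).symm
      exact Algebra.FiniteType.equiv (inferInstance : Algebra.FiniteType Rp (TensorProduct R Rp P))
        (Algebra.IsPushout.equiv R Rp P Pp)
    haveI : Algebra.FinitePresentation Rp Sp := hloc p
    haveI : Algebra.FinitePresentation Pp Sp :=
      Algebra.FinitePresentation.of_restrict_scalars_finitePresentation Rp Pp Sp
    have hsurj : Function.Surjective (algebraMap Pp Sp) := by
      intro z
      obtain ⟨x, ⟨_, v, hv, rfl⟩, rfl⟩ := IsLocalization.exists_mk'_eq (Algebra.algebraMapSubmonoid S U) z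
      obtain ⟨y, rfl⟩ := hf x
      exact ⟨IsLocalization.mk' Pp y (⟨v, hv⟩ : U), IsLocalization.map_mk' hle y _⟩
    haveI : Module.Finite Pp Sp := Module.Finite.of_surjective (Algebra.linearMap Pp Sp) hsurj
    haveI : Module.FinitePresentation Pp Sp :=
      Module.FinitePresentation.of_finite_of_finitePresentation Pp Sp
    haveI : IsLocalizedModule U (IsScalarTower.toAlgHom P S Sp).toLinearMap :=
      isLocalizedModule_iff_isLocalization.2 hloc'
    exact Module.FinitePresentation.of_equiv
      ((IsLocalizedModule.iso U (IsScalarTower.toAlgHom P S Sp).toLinearMap).extendScalarsOfIsLocalization U Pp).symm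
  haveI : Algebra.FinitePresentation P S := Algebra.FinitePresentation.of_finitePresentation P S
  exact Algebra.FinitePresentation.trans R P S

end Groth.Agent.S6932
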