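import Groth.Statements.S6933


set_option autoImplicit false
universe u
open CategoryTheory
open InjHull

namespace Groth.Agent.S6933

/-- An abelian group `J` that is injective as an object of the category of abelian groups is divisible:
`n J = J` for every nonzero integer `n`. (The published statement is an equivalence; this row states
the implication from injective to divisible.) -/
theorem result (J : Type u) [AddCommGroup J] (hJ : Injective (AddCommGrpCat.of J))
    (n : ℤ) (hn : n ≠ 0) (x : J) : ∃ y : J, n • y = x := by
  let φ : AddCommGrpCat.of (ULift.{u} ℤ) ⟶ AddCommGrpCat.of (ULift.{u} ℤ) :=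
    AddCommGrpCat.ofHom (AddMonoidHom.mk' (fun z => ULift.up (z.down * n)) (fun a b => by
      ext; simp [add_mul]))
  haveI : Mono φ := ConcreteCategory.mono_of_injective _ <| by
    intro a b h
    have h' : a.down * n = b.down * n := congrArg ULift.down h
    exact ULift.ext _ _ (mul_right_cancel₀ hn h')
  let g : AddCommGrpCat.of (ULift.{u} ℤ) ⟶ AddCommGrpCat.of J :=
    AddCommGrpCat.ofHom (AddMonoidHom.mk' (fun z => z.down • x) (fun a b => by simp [add_smul]))
  obtain ⟨h, hh⟩ := hJ.factors g φ
  refine ⟨h (ULift.up 1), ?_⟩
  have := ConcreteCategory.congr_hom hh (ULift.up 1)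
  have e1 : h (φ (ULift.up 1)) = x := by simpa [g] using this
  rw [← map_zsmul h.hom]
  refine Eq.trans ?_ e1
  congr 1
  ext; simp [φ]

end Groth.Agent.S6933
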