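import Groth.Statements.S6934
import Mathlib
-- import your own Groth.Agent.* helpers here

set_option autoImplicit false
universe u
open EtAlg

namespace Groth.Agent.S6934

/-- Let `s : B → R`, `t : R' → R` be ring maps and `B' = B ×_R R'` the fibre product ring, i.e. a ring
`B'` with maps `p : B' → B`, `q : B' → R'`, `s ∘ p = t ∘ q`, such that `(p, q)` is injective with
image the pairs `(b, r')` with `s(b) = t(r')`. Let `h ∈ B'` with images `g = p(h)`, `f = q(h)`. Then
the square of localizations `B'_h → B_g`, `B'_h → R'_f`, `B_g → R_{s(g)}`, `R'_f → R_{t(f)} =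
R_{s(g)}` (the induced maps) is cartesian as well: `B'_h = B_g ×_{R_{s(g)}} R'_f`. -/
theorem result {B R R' B' : Type u} [CommRing B] [CommRing R] [CommRing R'] [CommRing B']
    (s : B →+* R) (t : R' →+* R) (p : B' →+* B) (q : B' →+* R') (hc : s.comp p = t.comp q)
    (hinj : ∀ x y : B', p x = p y → q x = q y → x = y) (hsurj : ∀ (b : B) (r' : R'), s b = t r' → ∃ x : B', p x = b ∧ q x = r')
    (h : B') (Bh Bg Rf Rsg : Type u) [CommRing Bh] [CommRing Bg] [CommRing Rf] [CommRing Rsg]
    [Algebra B' Bh] [IsLocalization.Away h Bh] [Algebra B Bg] [IsLocalization.Away (p h) Bg]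
    [Algebra R' Rf] [IsLocalization.Away (q h) Rf] [Algebra R Rsg] [IsLocalization.Away (s (p h)) Rsg]
    (pL : Bh →+* Bg) (qL : Bh →+* Rf) (sL : Bg →+* Rsg) (tL : Rf →+* Rsg)
    (hp : pL.comp (algebraMap B' Bh) = (algebraMap B Bg).comp p) (hq : qL.comp (algebraMap B' Bh) = (algebraMap R' Rf).comp q)
    (hs : sL.comp (algebraMap B Bg) = (algebraMap R Rsg).comp s) (ht : tL.comp (algebraMap R' Rf) = (algebraMap R Rsg).comp t) :
    (∀ x y : Bh, pL x = pL y → qL x = qL y → x = y) ∧
    (∀ (b : Bg) (r : Rf), sL b = tL r → ∃ x : Bh, pL x = b ∧ qL x = r) := by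
  have hpA : ∀ a, pL (algebraMap B' Bh a) = algebraMap B Bg (p a) := RingHom.congr_fun hp
  have hqA : ∀ a, qL (algebraMap B' Bh a) = algebraMap R' Rf (q a) := RingHom.congr_fun hq
  have hsA : ∀ a, sL (algebraMap B Bg a) = algebraMap R Rsg (s a) := RingHom.congr_fun hs
  have htA : ∀ a, tL (algebraMap R' Rf a) = algebraMap R Rsg (t a) := RingHom.congr_fun ht
  have hst : ∀ a, s (p a) = t (q a) := RingHom.congr_fun hc
  have hu : ∀ n : ℕ, IsUnit (algebraMap B' Bh h ^ n) := fun n =>
    (IsLocalization.Away.algebraMap_isUnit h).pow n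
  constructor
  · intro x y hxp hxq
    obtain ⟨n, a, ha⟩ := IsLocalization.Away.surj h (x - y)
    have h0 : algebraMap B Bg (p a) = 0 := by
      rw [← hpA, ← ha, map_mul, map_sub, hxp, sub_self, zero_mul]
    have h1 : algebraMap R' Rf (q a) = 0 := by
      rw [← hqA, ← ha, map_mul, map_sub, hxq, sub_self, zero_mul]
    obtain ⟨i, hi⟩ := IsLocalization.Away.exists_of_eq (p h) (h0.trans (map_zero _).symm)
    obtain ⟨j, hj⟩ := IsLocalization.Away.exists_of_eq (q h) (h1.trans (map_zero _).symm)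
    have hz : h ^ (i + j) * a = 0 := by
      refine hinj _ _ ?_ ?_
      · rw [map_mul, map_pow, pow_add, mul_right_comm, map_zero]
        rw [mul_zero] at hi
        rw [hi, zero_mul]
      · rw [map_mul, map_pow, pow_add, mul_assoc, map_zero]
        rw [mul_zero] at hj
        rw [hj, mul_zero]
    have ha0 : algebraMap B' Bh a = 0 := by
      refine (hu (i + j)).mul_right_eq_zero.mp ?_
      rw [← map_pow, ← map_mul, hz, map_zero]
    rw [ha0] at ha
    exact sub_eq_zero.mp ((hu n).mul_left_eq_zero.mp ha)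
  · intro b r hbr
    obtain ⟨m, b₀, hb⟩ := IsLocalization.Away.surj (p h) b
    obtain ⟨n, r₀, hr⟩ := IsLocalization.Away.surj (q h) r
    have e : algebraMap R Rsg (s (b₀ * p h ^ n)) = algebraMap R Rsg (t (r₀ * q h ^ m)) := by
      rw [← hsA, ← htA]
      simp only [map_mul, map_pow, ← hb, ← hr, hsA, htA, hbr, hst]
      ring
    obtain ⟨k, hk⟩ := IsLocalization.Away.exists_of_eq (s (p h)) e
    obtain ⟨x₀, hx1, hx2⟩ := hsurj (p h ^ k * (b₀ * p h ^ n)) (q h ^ k * (r₀ * q h ^ m)) (by
      rw [map_mul s (p h ^ k), map_mul t (q h ^ k), map_pow, map_pow, ← hst h]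
      exact hk)
    obtain ⟨w, hw⟩ := (hu (k + n + m)).exists_right_inv
    refine ⟨algebraMap B' Bh x₀ * w, ?_, ?_⟩
    · have hw' := congrArg pL hw
      rw [map_mul, map_pow, map_one, hpA] at hw'
      rw [map_mul, hpA, hx1]
      simp only [map_mul, map_pow, ← hb]
      linear_combination b * hw'
    · have hw' := congrArg qL hw
      rw [map_mul, map_pow, map_one, hqA] at hw'
      rw [map_mul, hqA, hx2]
      simp only [map_mul, map_pow, ← hr]
      linear_combination r * hw'

end Groth.Agent.S6934
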