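import Groth.Statements.S6936
import Groth.Agent.DRingPC.Homology
-- import your own Groth.Agent.* helpers here

set_option autoImplicit false
universe u
open CategoryTheory CategoryTheory.Limits
attribute [local instance] HasDerivedCategory.standard
open DRing

namespace Groth.Agent.S6936

/-- Let R be a commutative ring, m an integer and K an object of D(R). If H^i(K) = 0 for every i > m +
1, H^(m+1)(K) is a finitely presented R-module and H^m(K) is a finitely generated R-module, then K
is m-pseudo-coherent. -/
theorem result (R : Type u) [CommRing R]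
    (m : ℤ) (K : Dual.D R) (hvan : ∀ i : ℤ, m + 1 < i → Subsingleton (Dual.HD R K i))
    (hfp : Module.FinitePresentation R (Dual.HD R K (m + 1))) (hfin : Module.Finite R (Dual.HD R K m)) :
    DRing.IsPseudoCoherent R m K := by
  rw [Groth.Agent.DRingPC.isPC_iff_NPC]
  haveI := Groth.Agent.DRingPC.isLE_of_subsingleton hvan
  refine Groth.Agent.DRingPC.NPC_of_homology' (b := m + 1) fun i hi hi' => ?_
  rcases hi.eq_or_lt with rfl | hi
  · exact ((Groth.Agent.DRingPC.NPC_zero_inD_iff _).2 hfin).mono (by lia)
  · obtain rfl : i = m + 1 := by lia
    exact ((Groth.Agent.DRingPC.NPC_negOne_inD_iff _).2 hfp).mono (by lia)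

end Groth.Agent.S6936
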