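import Groth.Statements.S6942
import Groth.Agent.DRingPC.Homology
-- import your own Groth.Agent.* helpers here

set_option autoImplicit false
universe u
open CategoryTheory CategoryTheory.Limits
attribute [local instance] HasDerivedCategory.standard
open DRing

namespace Groth.Agent.S6942

/-- Let R be a Noetherian commutative ring and m an integer. An object K of D(R) is m-pseudo-coherent
exactly when H^i(K) = 0 for all large i and H^i(K) is a finitely generated R-module for each i ≥ m.
Every finitely generated R-module M is pseudo-coherent, and conversely. -/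
theorem result (R : Type u) [CommRing R]
    [IsNoetherianRing R] (m : ℤ) (K : Dual.D R) (M : Type u) [AddCommGroup M] [Module R M] :
    (DRing.IsPseudoCoherent R m K ↔
      (∃ b : ℤ, ∀ i : ℤ, b < i → Subsingleton (Dual.HD R K i)) ∧ ∀ i : ℤ, m ≤ i → Module.Finite R (Dual.HD R K i)) ∧
      (DRing.IsPseudoCoherentModule' R M ↔ Module.Finite R M) := by
  simp only [Groth.Agent.DRingPC.isPC_iff_NPC, Groth.Agent.DRingPC.isPCModule'_iff]
  refine ⟨Groth.Agent.DRingPC.NPC_iff_finite_of_noetherian m K, fun h => (Groth.Agent.DRingPC.NPC_zero_inD_iff _).1 (h 0), fun h n => ?_⟩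
  exact Groth.Agent.PCohLib.NPC_single_of_coh (Groth.Agent.DRingPC.FF.sum R) (Groth.Agent.DRingPC.FF.ql R) (fun X _ => Groth.Agent.DRingPC.precoh_of_noetherian X)
    ((Groth.Agent.DRingPC.coh_iff_finite (ModuleCat.of R M)).2 h) n

end Groth.Agent.S6942
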