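import Groth.Statements.S6943
import Groth.Agent.DRingPC.CoherentRing
-- import your own Groth.Agent.* helpers here

set_option autoImplicit false
universe u
open CategoryTheory CategoryTheory.Limits
attribute [local instance] HasDerivedCategory.standard
open DRing

namespace Groth.Agent.S6943

/-- Let R be a coherent commutative ring, i.e. every finitely generated ideal of R is finitely presented
as an R-module. Let K be an object of D(R) whose cohomology vanishes in large degrees and m an
integer. Then K is m-pseudo-coherent if and only if H^m(K) is finitely generated and H^i(K) is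
finitely presented for every i > m. Consequently K is pseudo-coherent if and only if every H^i(K) is
finitely presented. -/
theorem result (R : Type u) [CommRing R]
    (hR : ∀ I : Ideal R, I.FG → Module.FinitePresentation R I) (K : Dual.D R)
    (hb : ∃ b : ℤ, ∀ i : ℤ, b < i → Subsingleton (Dual.HD R K i)) (m : ℤ) :
    (DRing.IsPseudoCoherent R m K ↔
      Module.Finite R (Dual.HD R K m) ∧ ∀ i : ℤ, m < i → Module.FinitePresentation R (Dual.HD R K i)) ∧
      (DRing.IsPseudoCoherent' R K ↔ ∀ i : ℤ, Module.FinitePresentation R (Dual.HD R K i)) := by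
  obtain ⟨b, hb⟩ := hb
  haveI := Groth.Agent.DRingPC.isLE_of_subsingleton hb
  simp only [Groth.Agent.DRingPC.isPC'_iff, Groth.Agent.DRingPC.isPC_iff_NPC]
  have key : ∀ j, _ ↔ _ := fun j => Groth.Agent.PCohLib.NPC_iff_coh (Groth.Agent.DRingPC.FF.sum R) (Groth.Agent.DRingPC.FF.ql R) (Groth.Agent.DRingPC.precoh_of_coherent hR) j K b
  refine ⟨?_, fun h i => ?_, fun h j => ?_⟩
  · rw [key m, Groth.Agent.DRingPC.ft_FF_iff]
    simp only [Groth.Agent.DRingPC.coh_iff_finitePresentation hR]
  · exact (Groth.Agent.DRingPC.coh_iff_finitePresentation hR _).1 (((key (i - 1)).1 (h _)).2 i (by lia))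
  · exact (key j).2 ⟨(Groth.Agent.DRingPC.ft_FF_iff R _).2 (haveI := h j; inferInstance),
      fun i _ => (Groth.Agent.DRingPC.coh_iff_finitePresentation hR _).2 (h i)⟩

end Groth.Agent.S6943
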