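import Groth.Statements.S6952
import Groth.Agent.DRingPC.LBCProps
-- import your own Groth.Agent.* helpers here

set_option autoImplicit false
universe u
open CategoryTheory CategoryTheory.Limits
attribute [local instance] HasDerivedCategory.standard
open DRing

namespace Groth.Agent.S6952

/-- Let R' → R be a surjective homomorphism of commutative rings whose kernel is a nilpotent ideal, such
that the derived base change D(R') → D(R) exists. Let K' be an object of D(R') and a, b integers.
Then K' ⊗^L R has tor amplitude in [a, b] over R if and only if K' has tor amplitude in [a, b] over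
R'. -/
theorem result {R' R : Type u} [CommRing R']
    [CommRing R] (φ : R' →+* R) (hφ : Function.Surjective φ) (hnil : IsNilpotent (RingHom.ker φ))
    [DRing.HasLBaseChange φ] (K' : Dual.D R') (a b : ℤ) :
    DRing.HasTorAmplitudeIn R a b ((DRing.LBaseChange φ).obj K') ↔ DRing.HasTorAmplitudeIn R' a b K' := by
  obtain ⟨P, hP, hfl, ⟨e⟩⟩ := Groth.Agent.DRingPC.exists_kFlat_rep K'
  refine ⟨fun h => ?_, Groth.Agent.DRingPC.hasTorAmplitude_LBC φ⟩
  obtain ⟨n, hn⟩ := Groth.Agent.DRingPC.prod_replicate_eq_bot hnil
  exact (Groth.Agent.DRingPC.torAmp_iff_kFlat hP e a b).2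
    (Groth.Agent.DRingPC.torVanish_of_thicken hn P hfl a b
      (Groth.Agent.DRingPC.thickens_replicate φ hφ n
        ((Groth.Agent.DRingPC.torAmp_iff_kFlat (Groth.Agent.KFlat.isKFlat_ext φ hP)
          (Groth.Agent.DRingPC.lbcRep φ hP e) a b).1 h)))

end Groth.Agent.S6952
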