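import Groth.Statements.S6954
import Groth.Agent.DRingPC.Amplitude
-- import your own Groth.Agent.* helpers here

set_option autoImplicit false
universe u
open CategoryTheory CategoryTheory.Limits
attribute [local instance] HasDerivedCategory.standard
open DRing

namespace Groth.Agent.S6954

/-- Let R be a commutative ring and K an object of D(R). Then K is perfect (isomorphic in D(R) to a
bounded complex of finite projective modules) if and only if K is pseudo-coherent (isomorphic to a
bounded above complex of finite free modules) and has finite tor dimension (isomorphic to a bounded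
complex of flat modules). -/
theorem result (R : Type u) [CommRing R] (K : Dual.D R) :
    DRing.IsPerfect R K ↔ DRing.IsPseudoCoherent' R K ∧ DRing.HasFiniteTorDimCx R K := by
  constructor
  · rintro ⟨E, a, b, hz, hE, ⟨e⟩⟩
    exact ⟨(Groth.Agent.DRingPC.isPC'_iff_isPC R K).2 (Groth.Agent.DRingPC.amplitude_rep_conv hz hE e).1, a, b,
      (Groth.Agent.DRingPC.amplitude_rep_conv hz hE e).2⟩
  · rintro ⟨hK, a, b, F, hzF, hF, he⟩
    obtain ⟨E, hz, hE, e⟩ := Groth.Agent.DRingPC.exists_amplitude_rep (le_max_left a b)
      ((Groth.Agent.DRingPC.isPC'_iff_isPC R K).1 hK (a - 1)) ⟨F, fun i hi => hzF i (by lia), hF, he⟩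
    exact ⟨E, a, max a b, hz, hE, e⟩

end Groth.Agent.S6954
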