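import Groth.Statements.S6958
import Groth.Agent.DRingPC.BaseChange
-- import your own Groth.Agent.* helpers here

set_option autoImplicit false
universe u
open CategoryTheory CategoryTheory.Limits
attribute [local instance] HasDerivedCategory.standard
open DRing

namespace Groth.Agent.S6958

/-- Let A → B be a flat homomorphism of commutative rings and M a perfect A-module. Then B ⊗_A M is a
perfect B-module. -/
theorem result {A B : Type u} [CommRing A] [CommRing B] [Algebra A B]
    [Module.Flat A B] (M : Type u) [AddCommGroup M] [Module A M] (hM : DRing.IsPerfectModule A M) :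
    DRing.IsPerfectModule B (TensorProduct A B M) := by
  let φ := algebraMap A B
  have hflat : φ.Flat := RingHom.flat_algebraMap_iff.2 inferInstance
  let X := (HomologicalComplex.single (ModuleCat.{u} A) (ComplexShape.up ℤ) 0).obj (ModuleCat.of A M)
  let e : DRing.toD ((Groth.Agent.DRingPC.extCx φ).obj X) ≅ Dual.inD B (TensorProduct A B M) :=
    Groth.Agent.DRingPC.extendSingle φ (ModuleCat.of A M) ≪≫
      (DerivedCategory.singleFunctor _ 0).mapIso (Groth.Agent.DRingPC.extendEquiv A B M).symm
  exact Groth.Agent.DRingPC.isPerfect_of_iso (Groth.Agent.DRingPC.isPerfect_extend_of_flat φ hflat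
    (Groth.Agent.DRingPC.isPerfect_of_iso hM (Groth.Agent.PCohLib.singleQIso 0 _).symm)) e

end Groth.Agent.S6958
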