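import Groth.Statements.S6959
import Groth.Agent.DRingPC.LTensorCxValue
-- import your own Groth.Agent.* helpers here

set_option autoImplicit false
universe u
open CategoryTheory CategoryTheory.Limits
attribute [local instance] HasDerivedCategory.standard
open DRing

namespace Groth.Agent.S6959

/-- Let R be a commutative ring, K a perfect object of D(R) and L a cochain complex of R-modules
defining a perfect object of D(R); assume the derived tensor product - ⊗^L_R L exists on D(R). Then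
K ⊗^L_R L is a perfect object of D(R). -/
theorem result (R : Type u) [CommRing R] (K : Dual.D R) (hK : DRing.IsPerfect R K)
    (L : DRing.Cx R) (hL : DRing.IsPerfect R (DRing.toD L)) [DRing.HasLTensorCx R L] :
    DRing.IsPerfect R ((DRing.LTensorCx R L).obj K) := by
  obtain ⟨P, a₁, b₁, hz₁, hP, ⟨e₁⟩⟩ := hK
  obtain ⟨L', a₂, b₂, hz₂, hL', ⟨e₂⟩⟩ := hL
  obtain ⟨g, hg⟩ := Groth.Agent.PCohLib.exists_Q_map_eq (P := Groth.Agent.DRingPC.FPj R)
    (Groth.Agent.DRingPC.FPj.lift R) L' hL' b₂ (fun i hi => hz₂ i (Or.inr hi)) L e₂.hom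
  haveI : QuasiIso g := by
    rw [← DerivedCategory.isIso_Q_map_iff_quasiIso, hg]; infer_instance
  obtain ⟨e⟩ := Groth.Agent.DRingPC.nonempty_ltensorCx_iso L
    (Groth.Agent.KFlat.isKFlat_of_boundedAbove b₁ (fun i hi => hz₁ i (Or.inr hi))
      (fun i => Groth.Agent.DRingPC.flat_of_FPj (hP i))) e₁ g inferInstance
  refine ⟨_, a₁ + a₂, b₁ + b₂, fun i hi => ?_, Groth.Agent.DRingPC.FPj_tensorCx b₁ b₂
    (fun j hj => hz₁ j (Or.inr hj)) (fun j hj => hz₂ j (Or.inr hj)) hP hL', ⟨e⟩⟩
  rw [IsZero.iff_id_eq_zero]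
  refine HomologicalComplex.mapBifunctor.hom_ext fun p q (hpq : p + q = i) => IsZero.eq_of_src ?_ _ _
  by_cases hp : p < a₁ ∨ b₁ < p
  · exact Groth.Agent.DRingPC.isZero_tensor_left (hz₁ p hp) _
  · exact Groth.Agent.DRingPC.isZero_tensor_right _ (hz₂ q (by lia))

end Groth.Agent.S6959
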