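import Groth.Statements.S6964
import Groth.Agent.DRingPC.ProjAmp
import Mathlib.Tactic.TFAE
-- import your own Groth.Agent.* helpers here

set_option autoImplicit false
universe u
open CategoryTheory CategoryTheory.Limits
attribute [local instance] HasDerivedCategory.standard
open DRing

namespace Groth.Agent.S6964

/-- Let R be a commutative ring, K an object of D(R) and a, b integers. These four conditions are
equivalent: (1) the projective amplitude of K lies in [a, b], meaning K is isomorphic in D(R) to a
complex of projective R-modules vanishing outside [a, b]; (2) Hom(K, N[i]) = 0 in D(R) for every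
R-module N and every integer i outside [-b, -a]; (3) H^n(K) = 0 for all n > b and Hom(K, N[i]) = 0
for every R-module N and every i > -a; (4) H^n(K) = 0 for all n outside [a - 1, b] and Hom(K, N[-a +
1]) = 0 for every R-module N. -/
theorem result (R : Type u) [CommRing R] (K : Dual.D R) (a b : ℤ) :
    [∃ P : DRing.Cx R, DRing.VanishesOutside P a b ∧ (∀ i : ℤ, Module.Projective R (P.X i)) ∧
        Nonempty (DRing.toD P ≅ K),
      ∀ (N : Type u) [AddCommGroup N] [Module R N] (i : ℤ), (i < -b ∨ -a < i) →
        Subsingleton (DRing.ExtD R K (Dual.inD R N) i),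
      (∀ n : ℤ, b < n → Subsingleton (Dual.HD R K n)) ∧
        ∀ (N : Type u) [AddCommGroup N] [Module R N] (i : ℤ), -a < i → Subsingleton (DRing.ExtD R K (Dual.inD R N) i),
      (∀ n : ℤ, (n < a - 1 ∨ b < n) → Subsingleton (Dual.HD R K n)) ∧
        ∀ (N : Type u) [AddCommGroup N] [Module R N], Subsingleton (DRing.ExtD R K (Dual.inD R N) (-a + 1))].TFAE := by
  have homZero : ∀ (i : ℤ) (N : ModuleCat.{u} R), Subsingleton (DRing.ExtD R K (Dual.inD R N) i) →
      ∀ (E : DRing.Cx R) (e : DerivedCategory.Q.obj E ≅ K),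
        ∀ f : DerivedCategory.Q.obj E ⟶ (shiftFunctor (Dual.D R) i).obj
          ((DerivedCategory.singleFunctor _ 0).obj N), f = 0 := fun i N h E e f => by
    rw [← cancel_epi e.inv, comp_zero]
    exact @Subsingleton.elim (K ⟶ (shiftFunctor (Dual.D R) i).obj (Dual.inD R N)) h _ _
  tfae_have 1 → 2 := by
    rintro ⟨P, hP, hproj, ⟨e⟩⟩ N _ _ i hi
    refine ⟨fun f g => ?_⟩
    suffices key : ∀ f : K ⟶ (shiftFunctor (Dual.D R) i).obj (Dual.inD R N), f = 0 by rw [key f, key g]
    intro f
    rw [← cancel_epi e.hom, comp_zero]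
    obtain ⟨h, hh⟩ := Groth.Agent.DRingPC.cls_surjective_proj (N := ModuleCat.of R N) b
      (fun j hj => hP j (Or.inr hj)) hproj (e.hom ≫ f)
    have hz : IsZero (P.X (-i)) := hP _ (by lia)
    have h0 : h = 0 := Subtype.ext (LinearMap.ext fun x => by
      haveI := ModuleCat.subsingleton_of_isZero hz
      rw [Subsingleton.elim x 0, map_zero, map_zero])
    rw [← hh, h0]
    exact map_zero (Groth.Agent.DRingPC.clsHom i (ModuleCat.of R N))
  tfae_have 2 → 3 := by
    intro h
    refine ⟨fun n hn => ?_, fun N _ _ i hi => h N i (Or.inr hi)⟩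
    let P := DerivedCategory.Q.objPreimage K
    let e : DerivedCategory.Q.obj P ≅ K := DerivedCategory.Q.objObjPreimageIso K
    have hex : P.ExactAt n := Groth.Agent.DRingPC.exactAt_of_hom_injective P n fun J _ f => by
      have h2 := h J (-n) (Or.inl (by lia))
      let t : DerivedCategory.Q.obj ((HomologicalComplex.single _ (ComplexShape.up ℤ) n).obj J) ≅
          (shiftFunctor (Dual.D R) (-n)).obj ((DerivedCategory.singleFunctor _ 0).obj J) :=
        Groth.Agent.PCohLib.singleQIso n J ≪≫ (Groth.Agent.PCohLib.singleShiftIso (-n) n 0 (by lia) J).symm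
      rw [← cancel_mono t.hom, zero_comp]
      exact homZero (-n) J h2 P e _
    exact ModuleCat.subsingleton_of_isZero (((HomologicalComplex.exactAt_iff_isZero_homology _ _).1 hex).of_iso
      ((DerivedCategory.homologyFunctor _ n).mapIso e.symm ≪≫ Groth.Agent.PCohLib.homologyQIso P n))
  tfae_have 3 → 4 := by
    rintro ⟨h1, h2⟩
    refine ⟨fun n hn => ?_, fun N _ _ => h2 N _ (by lia)⟩
    rcases hn with hn | hn
    · haveI : K.IsLE b := Groth.Agent.DRingPC.isLE_of_subsingleton h1
      obtain ⟨E, hE, hEb, ⟨e⟩⟩ := Groth.Agent.DRingPC.exists_projective_rep R K b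
      have hex : E.ExactAt n := Groth.Agent.DRingPC.exactAt_of_retraction n
        (Groth.Agent.DRingPC.exists_retraction b hEb hE (-n) n (n + 1) (by lia) rfl
          fun N => homZero (-n) N (h2 N _ (by lia)) E e)
      exact ModuleCat.subsingleton_of_isZero (((HomologicalComplex.exactAt_iff_isZero_homology _ _).1 hex).of_iso
        ((DerivedCategory.homologyFunctor _ n).mapIso e.symm ≪≫ Groth.Agent.PCohLib.homologyQIso E n))
    · exact h1 n hn
  tfae_have 4 → 1 := by
    rintro ⟨h1, h2⟩
    haveI : K.IsLE b := Groth.Agent.DRingPC.isLE_of_subsingleton fun i hi => h1 i (Or.inr hi)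
    obtain ⟨E, hE, hEb, ⟨e⟩⟩ := Groth.Agent.DRingPC.exists_projective_rep R K b
    have hret := Groth.Agent.DRingPC.exists_retraction b hEb hE (-a + 1) (a - 1) a (by lia) (by lia)
          fun N => homZero (-a + 1) N (h2 N) E e
    refine Groth.Agent.DRingPC.exists_bounded_proj a b hEb hE e (fun i hi => ?_) hret
    by_cases hi' : i < a - 1
    · rw [HomologicalComplex.exactAt_iff_isZero_homology]
      exact ((Groth.Agent.DRingPC.subsingleton_iff_isZero _).1 (h1 i (Or.inl hi'))).of_iso
        ((Groth.Agent.PCohLib.homologyQIso E i).symm ≪≫ (DerivedCategory.homologyFunctor _ i).mapIso e)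
    · obtain rfl : i = a - 1 := by lia
      obtain ⟨g, hg⟩ := hret
      exact Groth.Agent.DRingPC.exactAt_of_retraction (a - 1)
        (Groth.Agent.DRingPC.exists_retraction b hEb hE (-a + 1) (a - 1) (a - 1 + 1) (by lia) rfl
          fun N => homZero (-a + 1) N (h2 N) E e)
  tfae_finish

end Groth.Agent.S6964
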