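import Groth.Statements.S6965
import Groth.Agent.DRingPC.InjAmp
import Mathlib.Tactic.TFAE
-- import your own Groth.Agent.* helpers here

set_option autoImplicit false
universe u
open CategoryTheory CategoryTheory.Limits
attribute [local instance] HasDerivedCategory.standard
open DRing

namespace Groth.Agent.S6965

/-- Let R be a commutative ring, K an object of D(R) and a, b integers. These three conditions are
equivalent: (1) the injective amplitude of K lies in [a, b], meaning K is isomorphic in D(R) to a
complex of injective R-modules vanishing outside [a, b]; (2) Hom(N[0], K[i]) = 0 in D(R) for every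
R-module N and every integer i outside [a, b]; (3) Hom((R/I)[0], K[i]) = 0 in D(R) for every ideal I
of R and every integer i outside [a, b]. -/
theorem result (R : Type u) [CommRing R] (K : Dual.D R) (a b : ℤ) :
    [DRing.HasInjAmplitudeIn R a b K,
      ∀ (N : Type u) [AddCommGroup N] [Module R N] (i : ℤ), (i < a ∨ b < i) →
        Subsingleton (DRing.ExtD R (Dual.inD R N) K i),
      ∀ (I : Ideal R) (i : ℤ), (i < a ∨ b < i) → Subsingleton (DRing.ExtD R (Dual.inD R (R ⧸ I)) K i)].TFAE := by
  tfae_have 1 → 2 := by
    rintro ⟨E, hE, hinj, ⟨e⟩⟩ N _ _ i hi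
    refine ⟨fun f g => ?_⟩
    suffices key : ∀ f : Dual.inD R N ⟶ (shiftFunctor (Dual.D R) i).obj K, f = 0 by rw [key f, key g]
    intro f
    haveI : ∀ k, Injective (E.X k) := fun k =>
      haveI : Module.Injective R (E.X k) := hinj k
      Module.injective_object_of_injective_module R (E.X k)
    haveI : CochainComplex.IsStrictlyGE E a :=
      (CochainComplex.isStrictlyGE_iff _ _).2 fun k hk => hE k (Or.inl hk)
    haveI : CochainComplex.IsKInjective E := CochainComplex.isKInjective_of_injective E a
    let t : DerivedCategory.Q.obj (Groth.Agent.DRingPC.sgl i (ModuleCat.of R N)) ≅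
        (shiftFunctor (Dual.D R) (-i)).obj ((DerivedCategory.singleFunctor _ 0).obj (ModuleCat.of R N)) :=
      Groth.Agent.PCohLib.singleQIso i _ ≪≫ (Groth.Agent.PCohLib.singleShiftIso (-i) i 0 (by lia) _).symm
    apply (shiftFunctor (Dual.D R) (-i)).map_injective
    rw [Functor.map_zero, ← cancel_mono ((shiftFunctorCompIsoId (Dual.D R) i (-i) (by lia)).hom.app K ≫ e.inv),
      ← cancel_epi t.hom, zero_comp, comp_zero]
    obtain ⟨q, hq⟩ := (CochainComplex.IsKInjective.Qh_map_bijective
      ((HomotopyCategory.quotient _ _).obj (Groth.Agent.DRingPC.sgl i (ModuleCat.of R N))) E).surjective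
      ((DerivedCategory.quotientCompQhIso (ModuleCat.{u} R)).hom.app _ ≫
        (t.hom ≫ (shiftFunctor (Dual.D R) (-i)).map f ≫
          (shiftFunctorCompIsoId (Dual.D R) i (-i) (by lia)).hom.app K ≫ e.inv) ≫
        (DerivedCategory.quotientCompQhIso (ModuleCat.{u} R)).inv.app E)
    obtain ⟨c, rfl⟩ := (HomotopyCategory.quotient _ _).map_surjective q
    have hc : c = 0 := HomologicalComplex.from_single_hom_ext ((hE i hi).eq_of_tgt _ _)
    rw [hc, Functor.map_zero, Functor.map_zero] at hq
    rw [← cancel_epi ((DerivedCategory.quotientCompQhIso (ModuleCat.{u} R)).hom.app _),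
      ← cancel_mono ((DerivedCategory.quotientCompQhIso (ModuleCat.{u} R)).inv.app E), comp_zero, zero_comp,
      Category.assoc]
    exact hq.symm
  tfae_have 2 → 3 := fun h I i hi => h (R ⧸ I) i hi
  tfae_have 3 → 1 := fun h => Groth.Agent.DRingPC.injAmp_of_extD a b h
  tfae_finish

end Groth.Agent.S6965
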