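import Groth.Statements.S6966
import Groth.Prelude.Def_DRing2
import Mathlib.Algebra.Homology.DerivedCategory.SingleTriangle
import Mathlib.Algebra.Homology.DerivedCategory.Linear
import Mathlib.Algebra.Homology.ShortComplex.ModuleCat
import Mathlib.Algebra.Homology.DerivedCategory.Ext.EnoughProjectives
-- import your own Groth.Agent.* helpers here

set_option autoImplicit false
universe u
open CategoryTheory CategoryTheory.Limits
attribute [local instance] HasDerivedCategory.standard
open CAlg

namespace Groth.Agent.S6966

/-- Let R be a commutative ring, I an ideal of R and M an R-module. Then the following two conditions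
coincide: for each a ∈ I, the endomorphism of M given by multiplication by a can be written as a
composite M → P → M with P some projective R-module; and for every R-module N and every a ∈ I, a
annihilates Ext^1_R(M, N) = Hom(M[0], N[1]) in D(R). -/
theorem result (R : Type u) [CommRing R] (I : Ideal R) (M : Type u)
    [AddCommGroup M] [Module R M] :
    (∀ a ∈ I, ∃ (P : Type u) (_ : AddCommGroup P) (_ : Module R P) (_ : Module.Projective R P)
        (f : M →ₗ[R] P) (g : P →ₗ[R] M), g ∘ₗ f = a • LinearMap.id) ↔
      ∀ (N : Type u) [AddCommGroup N] [Module R N], ∀ a ∈ I,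
        ∀ x : DRing.ExtD R (Dual.inD R M) (Dual.inD R N) 1, a • x = 0 := by
  let F₀ := DerivedCategory.singleFunctor (ModuleCat.{u} R) 0
  have hfree : ∀ (P : Type u) [AddCommGroup P] [Module R P] [Module.Projective R P] (N : Type u) [AddCommGroup N] [Module R N]
      (z : F₀.obj (ModuleCat.of R P) ⟶ (F₀.obj (ModuleCat.of R N))⟦(1 : ℤ)⟧), z = 0 := by
    intro P _ _ _ N _ _ z
    have : Projective (ModuleCat.of R P) := (IsProjective.iff_projective P).1 inferInstance
    let w : F₀.obj (ModuleCat.of R P) ⟶
        DerivedCategory.Q.obj ((CochainComplex.singleFunctor (ModuleCat.{u} R) (-1)).obj (ModuleCat.of R N)) :=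
      z ≫ (((DerivedCategory.singleFunctors (ModuleCat.{u} R)).shiftIso 1 (-1) 0 (by omega)).app (ModuleCat.of R N)).hom
    have hw : w = 0 := DerivedCategory.from_singleFunctor_obj_eq_zero_of_projective w (-1) (by omega)
    exact (cancel_mono _).1 (hw.trans zero_comp.symm)
  constructor
  · intro h N _ _ a ha x
    obtain ⟨P, _, _, _, f, g, hgf⟩ := h a ha
    have e : a • 𝟙 (F₀.obj (ModuleCat.of R M)) = F₀.map (ModuleCat.ofHom f) ≫ F₀.map (ModuleCat.ofHom g) := by
      rw [← F₀.map_comp, ← F₀.map_id, ← F₀.map_smul]
      exact congrArg F₀.map (ModuleCat.hom_ext hgf.symm)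
    have e' : a • x = (a • 𝟙 (F₀.obj (ModuleCat.of R M))) ≫ x :=
      ((Linear.smul_comp _ _ _ a (𝟙 (F₀.obj (ModuleCat.of R M))) x).trans (congrArg (a • ·) (Category.id_comp x))).symm
    refine e'.trans ?_
    rw [e]
    exact (Category.assoc _ _ _).trans ((congrArg (F₀.map (ModuleCat.ofHom f) ≫ ·) (hfree P N _)).trans comp_zero)
  · intro h a ha
    let π := Finsupp.linearCombination R (id : M → M)
    have hπ : Function.Surjective π := Finsupp.linearCombination_id_surjective R M
    have hS : π.shortComplexKer.ShortExact := LinearMap.shortExact_shortComplexKer hπ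
    have h0 : a • hS.singleδ = 0 := h (LinearMap.ker π) a ha hS.singleδ
    have h1 : F₀.map (ModuleCat.ofHom (a • (LinearMap.id : M →ₗ[R] M))) ≫ hS.singleδ = 0 := by
      have hid : ModuleCat.ofHom (a • (LinearMap.id : M →ₗ[R] M)) = a • 𝟙 (ModuleCat.of R M) := rfl
      rw [hid, F₀.map_smul, F₀.map_id]
      exact ((Linear.smul_comp _ _ _ a _ hS.singleδ).trans (congrArg (a • ·) (Category.id_comp _))).trans h0
    obtain ⟨l, hl⟩ := Pretriangulated.Triangle.coyoneda_exact₃ _ hS.singleTriangle_distinguished _ h1
    obtain ⟨f, rfl⟩ := F₀.map_surjective l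
    refine ⟨M →₀ R, inferInstance, inferInstance, inferInstance, f.hom, π, ?_⟩
    have e := F₀.map_injective (hl.trans (F₀.map_comp f π.shortComplexKer.g).symm)
    exact (congrArg ModuleCat.Hom.hom e).symm

end Groth.Agent.S6966
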