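import Mathlib
import Groth.Statements.S6967
-- import your own Groth.Agent.* helpers here

set_option autoImplicit false
universe u
open CAlg

namespace Groth.Agent.S6967

/-- Let R be a commutative ring, I an ideal of R and 0 → K → P → M → 0 a short exact sequence of
R-modules with P projective. If multiplication by a on M factors through a projective R-module for
every a ∈ I, then multiplication by a on K factors through a projective R-module for every a ∈ I. -/
theorem result (R : Type u) [CommRing R] (I : Ideal R)
    {K P M : Type u} [AddCommGroup K] [Module R K] [AddCommGroup P] [Module R P] [Module.Projective R P]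
    [AddCommGroup M] [Module R M] (f : K →ₗ[R] P) (g : P →ₗ[R] M) (hf : Function.Injective f)
    (hg : Function.Surjective g) (hfg : LinearMap.range f = LinearMap.ker g)
    (hM : ∀ a ∈ I, ∃ (P : Type u) (_ : AddCommGroup P) (_ : Module R P) (_ : Module.Projective R P)
        (f : M →ₗ[R] P) (g : P →ₗ[R] M), g ∘ₗ f = a • LinearMap.id) :
    ∀ a ∈ I, ∃ (P : Type u) (_ : AddCommGroup P) (_ : Module R P) (_ : Module.Projective R P)
        (f : K →ₗ[R] P) (g : P →ₗ[R] K), g ∘ₗ f = a • LinearMap.id := by
  intro a ha
  obtain ⟨P', _, _, _, f', g', h⟩ := hM a ha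
  obtain ⟨s, hs⟩ := Module.projective_lifting_property g g' hg
  have hs' : ∀ y, g (s y) = g' y := fun y => LinearMap.congr_fun hs y
  have hr : ∀ x : P, a • x - s (f' (g x)) ∈ LinearMap.range f := fun x => by
    rw [hfg, LinearMap.mem_ker, map_sub, map_smul, hs', sub_eq_zero]
    exact (LinearMap.congr_fun h (g x)).symm
  let ψ : P →ₗ[R] K := (LinearEquiv.ofInjective f hf).symm.toLinearMap ∘ₗ
    LinearMap.codRestrict (LinearMap.range f) (a • LinearMap.id - s ∘ₗ f' ∘ₗ g) (fun x => by simpa using hr x)
  refine ⟨P, inferInstance, inferInstance, inferInstance, f, ψ, LinearMap.ext fun k => hf ?_⟩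
  have hk : g (f k) = 0 := LinearMap.mem_ker.mp (hfg ▸ LinearMap.mem_range_self f k)
  have : f (ψ (f k)) = a • f k - s (f' (g (f k))) :=
    congrArg Subtype.val ((LinearEquiv.ofInjective f hf).apply_symm_apply _)
  simpa [hk] using this

end Groth.Agent.S6967
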