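import Groth.Statements.S6968
import Mathlib.LinearAlgebra.FreeModule.Finite.Basic
import Mathlib.RingTheory.Finiteness.Projective
import Mathlib.LinearAlgebra.Dual.Lemmas
-- import your own Groth.Agent.* helpers here

set_option autoImplicit false
universe u
open CAlg

namespace Groth.Agent.S6968

/-- Let R be a commutative ring, I an ideal of R and M a finitely generated R-module such that
multiplication by a on M factors through a projective R-module for every a ∈ I. Then multiplication
by a on the dual module Hom_R(M, R) factors through a projective R-module for every a ∈ I. -/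
theorem result (R : Type u) [CommRing R] (I : Ideal R) (M : Type u) [AddCommGroup M]
    [Module R M] [Module.Finite R M]
    (hM : ∀ a ∈ I, ∃ (P : Type u) (_ : AddCommGroup P) (_ : Module R P) (_ : Module.Projective R P)
        (f : M →ₗ[R] P) (g : P →ₗ[R] M), g ∘ₗ f = a • LinearMap.id) :
    ∀ a ∈ I, ∃ (P : Type u) (_ : AddCommGroup P) (_ : Module R P) (_ : Module.Projective R P)
        (f : Module.Dual R M →ₗ[R] P) (g : P →ₗ[R] Module.Dual R M), g ∘ₗ f = a • LinearMap.id := by
  classical
  intro a ha
  obtain ⟨P, _, _, hP, f, g, hfg⟩ := hM a ha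
  obtain ⟨e, he⟩ := Module.projective_def'.1 hP
  obtain ⟨S, hS⟩ := Module.Finite.fg_top (R := R) (M := M)
  let T : Finset P := S.biUnion fun x => (e (f x)).support
  let f' : M →ₗ[R] T →₀ R :=
    (Finsupp.lcomapDomain Subtype.val Subtype.val_injective) ∘ₗ e ∘ₗ f
  let g' : (T →₀ R) →ₗ[R] M :=
    g ∘ₗ Finsupp.linearCombination R id ∘ₗ Finsupp.lmapDomain R R (Subtype.val : T → P)
  have hfg' : g' ∘ₗ f' = a • LinearMap.id := LinearMap.ext fun x => by
    have hx : e (f x) ∈ Finsupp.supported R R (↑T : Set P) := by
      have hm : x ∈ Submodule.span R (S : Set M) := hS ▸ Submodule.mem_top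
      refine Submodule.span_le (p := (Finsupp.supported R R (↑T : Set P)).comap (e ∘ₗ f)).2 ?_ hm
      intro y hy
      exact (Finsupp.mem_supported R _).2 fun z hz => Finset.mem_biUnion.2 ⟨y, hy, hz⟩
    have h1 : Finsupp.mapDomain (Subtype.val : T → P)
        (Finsupp.comapDomain (Subtype.val : T → P) (e (f x)) Subtype.val_injective.injOn) = e (f x) :=
      Finsupp.mapDomain_comapDomain _ Subtype.val_injective _ fun z hz =>
        ⟨⟨z, (Finsupp.mem_supported R _).1 hx hz⟩, rfl⟩
    show g (Finsupp.linearCombination R id (Finsupp.mapDomain Subtype.val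
      (Finsupp.comapDomain _ (e (f x)) _))) = _
    rw [h1, ← hfg]
    exact congrArg g (LinearMap.congr_fun he (f x))
  exact ⟨Module.Dual R (T →₀ R), inferInstance, inferInstance, inferInstance, g'.dualMap, f'.dualMap,
    by rw [LinearMap.dualMap_comp_dualMap, hfg']; ext φ x; simp⟩

end Groth.Agent.S6968
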