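import Groth.Statements.S6969
import Mathlib.LinearAlgebra.FreeModule.Finite.Basic
import Mathlib.RingTheory.Finiteness.Projective
import Mathlib.LinearAlgebra.Dual.Lemmas
-- import your own Groth.Agent.* helpers here

set_option autoImplicit false
universe u
open CAlg

namespace Groth.Agent.S6969

/-- Let R be a commutative ring and φ : M → N an R-linear map which factors through a projective
R-module. If M is finitely generated, then φ factors through a finitely generated projective
R-module. -/
theorem result (R : Type u) [CommRing R] {M N : Type u} [AddCommGroup M]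
    [Module R M] [Module.Finite R M] [AddCommGroup N] [Module R N] (φ : M →ₗ[R] N)
    (h : ∃ (P : Type u) (_ : AddCommGroup P) (_ : Module R P) (_ : Module.Projective R P) (f : M →ₗ[R] P)
      (g : P →ₗ[R] N), g ∘ₗ f = φ) :
    ∃ (P : Type u) (_ : AddCommGroup P) (_ : Module R P) (_ : Module.Projective R P) (_ : Module.Finite R P)
      (f : M →ₗ[R] P) (g : P →ₗ[R] N), g ∘ₗ f = φ := by
  classical
  obtain ⟨P, _, _, hP, f, g, hfg⟩ := h
  obtain ⟨e, he⟩ := Module.projective_def'.1 hP
  obtain ⟨S, hS⟩ := Module.Finite.fg_top (R := R) (M := M)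
  let T : Finset P := S.biUnion fun x => (e (f x)).support
  refine ⟨T →₀ R, inferInstance, inferInstance, inferInstance, inferInstance,
    (Finsupp.lcomapDomain Subtype.val Subtype.val_injective) ∘ₗ e ∘ₗ f,
    g ∘ₗ Finsupp.linearCombination R id ∘ₗ Finsupp.lmapDomain R R (Subtype.val : T → P),
    LinearMap.ext fun x => ?_⟩
  have hx : e (f x) ∈ Finsupp.supported R R (↑T : Set P) := by
    have hm : x ∈ Submodule.span R (S : Set M) := hS ▸ Submodule.mem_top
    refine Submodule.span_le (p := (Finsupp.supported R R (↑T : Set P)).comap (e ∘ₗ f)).2 ?_ hm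
    intro y hy
    exact (Finsupp.mem_supported R _).2 fun z hz => Finset.mem_biUnion.2 ⟨y, hy, hz⟩
  have h1 : Finsupp.mapDomain (Subtype.val : T → P)
      (Finsupp.comapDomain (Subtype.val : T → P) (e (f x)) Subtype.val_injective.injOn) = e (f x) :=
    Finsupp.mapDomain_comapDomain _ Subtype.val_injective _ fun z hz =>
      ⟨⟨z, (Finsupp.mem_supported R _).1 hx hz⟩, rfl⟩
  simp only [LinearMap.comp_apply, Finsupp.lmapDomain_apply]
  show g (Finsupp.linearCombination R id (Finsupp.mapDomain Subtype.val _)) = _
  erw [h1, ← hfg]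
  exact congrArg g (LinearMap.congr_fun he (f x))

end Groth.Agent.S6969
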