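import Groth.Statements.S6971
import Groth.Agent.DRingPC.LBCProps
-- import your own Groth.Agent.* helpers here

set_option autoImplicit false
universe u
open CategoryTheory CategoryTheory.Limits
attribute [local instance] HasDerivedCategory.standard
open DRing

namespace Groth.Agent.S6971

/-- Let R' → R be a surjective homomorphism of commutative rings whose kernel is a nilpotent ideal, such
that the derived base change D(R') → D(R) exists, and let K' be an object of D(R'). Then K' ⊗^L R is
pseudo-coherent over R (isomorphic in D(R) to a bounded above complex of finite free modules) if and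
only if K' is pseudo-coherent over R'. -/
theorem result {R' R : Type u} [CommRing R'] [CommRing R]
    (φ : R' →+* R) (hφ : Function.Surjective φ) (hnil : IsNilpotent (RingHom.ker φ))
    [DRing.HasLBaseChange φ] (K' : Dual.D R') :
    DRing.IsPseudoCoherent' R ((DRing.LBaseChange φ).obj K') ↔ DRing.IsPseudoCoherent' R' K' := by
  refine ⟨fun h => ?_, Groth.Agent.DRingPC.isPC'_LBC φ⟩
  obtain ⟨P, hP, hfl, ⟨e⟩⟩ := Groth.Agent.DRingPC.exists_kFlat_rep K'
  rw [Groth.Agent.DRingPC.isPC'_iff] at h
  obtain ⟨b, hb⟩ := (h 0).isLE
  obtain ⟨n, hn⟩ := Groth.Agent.DRingPC.prod_replicate_eq_bot hnil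
  have e' := Groth.Agent.DRingPC.lbcRep φ hP e
  have := Groth.Agent.DRingPC.isPC'_of_thicken hn P hP hfl b
    (Groth.Agent.DRingPC.thickens_replicate φ hφ n
      (@Triangulated.TStructure.isLE_of_iso _ _ _ _ _ _ _ DerivedCategory.TStructure.t _ _ e'.symm b hb))
    (Groth.Agent.DRingPC.thickens_replicate φ hφ n (fun m => (h m).of_iso e'.symm))
  rw [Groth.Agent.DRingPC.isPC'_iff] at this ⊢
  exact fun m => (this m).of_iso e

end Groth.Agent.S6971
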