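import Groth.Statements.S6975
import Groth.Agent.DRingPC.Fibre
-- import your own Groth.Agent.* helpers here

set_option autoImplicit false
universe u
open CategoryTheory CategoryTheory.Limits
attribute [local instance] HasDerivedCategory.standard
open DRing

namespace Groth.Agent.S6975

/-- Let R be a local commutative ring with residue field κ such that the derived base change D(R) → D(κ)
exists, and let K be a pseudo-coherent object of D(R). If there is an integer a with H^i(K ⊗^L_R κ)
= 0 for all i < a, then K is perfect. -/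
theorem result (R : Type u) [CommRing R] [IsLocalRing R]
    [DRing.HasLBaseChange (IsLocalRing.residue R)] (K : Dual.D R) (hK : DRing.IsPseudoCoherent' R K) (a : ℤ)
    (h : ∀ i : ℤ, i < a → Subsingleton (Dual.HD (IsLocalRing.ResidueField R)
      ((DRing.LBaseChange (IsLocalRing.residue R)).obj K) i)) :
    DRing.IsPerfect R K := by
  have hPC := (Groth.Agent.DRingPC.isPC'_iff R K).1 hK
  obtain ⟨n, hn⟩ := (hPC 0).isLE
  haveI := hn
  refine (Groth.Agent.DRingPC.exists_rep_of_fibres hK a n fun E b' hE hz he i hi m hm => ?_).1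
  obtain ⟨e⟩ := he
  obtain rfl := IsLocalRing.eq_maximalIdeal hm
  haveI := Groth.Agent.PCohLib.isKProjective_of_mem (P := Groth.Agent.DRingPC.FPj R)
    (Groth.Agent.DRingPC.FPj.lift R) E (fun j => Groth.Agent.DRingPC.FF.toFPj R (hE j)) b' hz
  haveI : DRing.HasLBaseChange (algebraMap R (R ⧸ IsLocalRing.maximalIdeal R)) :=
    (inferInstance : DRing.HasLBaseChange (IsLocalRing.residue R))
  refine (Groth.Agent.DRingPC.exactAt_iff_subsingleton_LBC E i).1 ?_
  refine (Groth.Agent.DRingPC.subsingleton_iff_isZero _).2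
    (IsZero.of_iso ?_ ((DerivedCategory.homologyFunctor _ i).mapIso
      ((DRing.LBaseChange (IsLocalRing.residue R)).mapIso e)))
  rcases hi with hi | hi
  · exact (Groth.Agent.DRingPC.subsingleton_iff_isZero _).1 (h i hi)
  · obtain ⟨E₀, hE₀, hz₀, ⟨e₀⟩⟩ := Groth.Agent.PCohLib.exists_strictPCAll_vanishing
      (Groth.Agent.DRingPC.FF.sum R) (Groth.Agent.DRingPC.FF.qs R) (Groth.Agent.DRingPC.FF.ql R)
      (m := n + 1) (DerivedCategory.Q.objObjPreimageIso K)
      (fun k => (hPC k).of_iso (DerivedCategory.Q.objObjPreimageIso K).symm)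
      (fun j hj => K.isZero_of_isLE n j (by lia))
    haveI := Groth.Agent.PCohLib.isKProjective_of_mem (P := Groth.Agent.DRingPC.FPj R)
      (Groth.Agent.DRingPC.FPj.lift R) E₀ (fun j => Groth.Agent.DRingPC.FF.toFPj R (hE₀ j)) n
      (fun j hj => hz₀ j (by lia))
    refine IsZero.of_iso ((Groth.Agent.DRingPC.subsingleton_iff_isZero _).1
      ((Groth.Agent.DRingPC.exactAt_iff_subsingleton_LBC (S := R ⧸ IsLocalRing.maximalIdeal R) E₀ i).2
        (ShortComplex.exact_of_isZero_X₂ _ ((CategoryTheory.MonoidalCategory.tensorLeft (ModuleCat.of R (R ⧸ IsLocalRing.maximalIdeal R))).map_isZero (hz₀ i (by lia))))))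
      ((DerivedCategory.homologyFunctor _ i).mapIso
        ((DRing.LBaseChange (IsLocalRing.residue R)).mapIso e₀.symm))

end Groth.Agent.S6975
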