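import Groth.Statements.S6976
import Groth.Agent.DRingPC.Amplitude
-- import your own Groth.Agent.* helpers here

set_option autoImplicit false
universe u
open CategoryTheory CategoryTheory.Limits
attribute [local instance] HasDerivedCategory.standard
open DRing

namespace Groth.Agent.S6976

/-- Let R be a commutative ring, K a pseudo-coherent object of D(R) and a, b integers. Then K is
isomorphic in D(R) to a complex of projective R-modules vanishing outside [a, b] if and only if K is
perfect with tor amplitude in [a, b]. -/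
theorem result (R : Type u) [CommRing R]
    (K : Dual.D R) (hK : DRing.IsPseudoCoherent' R K) (a b : ℤ) :
    (∃ P : DRing.Cx R, DRing.VanishesOutside P a b ∧ (∀ i : ℤ, Module.Projective R (P.X i)) ∧
        Nonempty (DRing.toD P ≅ K)) ↔ DRing.IsPerfect R K ∧ DRing.HasTorAmplitudeIn R a b K := by
  have key : DRing.HasTorAmplitudeIn R a b K → ∃ E : DRing.Cx R, DRing.VanishesOutside E a b ∧
      DRing.TermwiseFiniteProjective E ∧ Nonempty (DRing.toD E ≅ K) := fun h => by
    by_cases hab : a ≤ b
    · exact DRingPC.exists_amplitude_rep hab ((DRingPC.isPC'_iff_isPC R K).1 hK _) h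
    · obtain ⟨E, hz, -, e⟩ := h
      exact ⟨E, hz, fun i => (DRingPC.FPj R).prop_of_isZero (hz i (by lia)), e⟩
  constructor
  · rintro ⟨P, hz, hP, e⟩
    have h : DRing.HasTorAmplitudeIn R a b K :=
      ⟨P, hz, fun i => by haveI := hP i; exact Module.Flat.of_projective, e⟩
    obtain ⟨E, hzE, hE, eE⟩ := key h
    exact ⟨⟨E, a, b, hzE, hE, eE⟩, h⟩
  · rintro ⟨-, h⟩
    obtain ⟨E, hzE, hE, eE⟩ := key h
    exact ⟨E, hzE, fun i => (hE i).2, eE⟩

end Groth.Agent.S6976
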