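import Groth.Statements.S6978
import Groth.Agent.DRingPC.Compact
import Groth.Agent.DQC.CompactConv
-- import your own Groth.Agent.* helpers here

set_option autoImplicit false
universe u
open CategoryTheory CategoryTheory.Limits
attribute [local instance] HasDerivedCategory.standard
open DRing

namespace Groth.Agent.S6978

/-- Let R be a commutative ring and K an object of D(R). Then K is perfect if and only if K is a compact
object of D(R): for every family (E_i) of objects of D(R) indexed by a small type, the canonical map
from the direct sum of the Hom(K, E_i) to Hom(K, ⊕ E_i) is bijective. -/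
theorem result (R : Type u) [CommRing R] (K : Dual.D R) :
    DRing.IsPerfect R K ↔
      ∀ (I : Type u) (E : I → Dual.D R) [HasCoproduct fun i : ULift.{u + 1} I => E i.down],
        Function.Bijective (CohDer.homSumToHomCoprod K (fun i : ULift.{u + 1} I => E i.down)) := by
  refine ⟨fun hK I E hI =>
    haveI : HasCoproduct fun s : ULift.{u + 1} I => E (Equiv.ulift s) := hI
    Groth.Agent.DQC.CompactFac.bijective_of_finFac Equiv.ulift K fun c hc g =>
    Groth.Agent.DRingPC.compactD_of_isPerfect hK I E c hc g, fun h => Groth.Agent.DRingPC.isPerfect_of_compactD fun I M c hc g => ?_⟩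
  haveI : HasColimit (Discrete.functor M) := ⟨⟨c, hc⟩⟩
  haveI : HasCoproduct fun i : ULift.{u + 1} I => M i.down := hasCoproduct_of_equiv_of_iso M _ Equiv.ulift fun _ => Iso.refl _
  haveI : HasCoproduct fun s : ULift.{u + 1} I => M (Equiv.ulift s) := ‹HasCoproduct fun i : ULift.{u + 1} I => M i.down›
  exact Groth.Agent.DQC.CompactFac.finFac_of_surjective Equiv.ulift K (h I M).2 hc g

end Groth.Agent.S6978
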