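import Groth.Statements.S6980
import Groth.Agent.DRingPC.LBCProps
-- import your own Groth.Agent.* helpers here

set_option autoImplicit false
universe u
open CategoryTheory CategoryTheory.Limits
attribute [local instance] HasDerivedCategory.standard
open DRing

namespace Groth.Agent.S6980

/-- Let R be a commutative ring, I and J ideals of R such that the derived base changes D(R) → D(R/I),
D(R/J), D(R/IJ) exist, and K an object of D(R). If K ⊗^L_R R/I is perfect in D(R/I) and K ⊗^L_R R/J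
is perfect in D(R/J), then K ⊗^L_R R/IJ is perfect in D(R/IJ). -/
theorem result (R : Type u) [CommRing R] (I J : Ideal R)
    [DRing.HasLBaseChange (Ideal.Quotient.mk I)] [DRing.HasLBaseChange (Ideal.Quotient.mk J)]
    [DRing.HasLBaseChange (Ideal.Quotient.mk (I * J))] (K : Dual.D R)
    (hI : DRing.IsPerfect (R ⧸ I) ((DRing.LBaseChange (Ideal.Quotient.mk I)).obj K))
    (hJ : DRing.IsPerfect (R ⧸ J) ((DRing.LBaseChange (Ideal.Quotient.mk J)).obj K)) :
    DRing.IsPerfect (R ⧸ (I * J)) ((DRing.LBaseChange (Ideal.Quotient.mk (I * J))).obj K) := by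
  obtain ⟨P, hP, hfl, ⟨e⟩⟩ := Groth.Agent.DRingPC.exists_kFlat_rep K
  let S := R ⧸ (I * J)
  let q : R →+* S := Ideal.Quotient.mk (I * J)
  have hP' := Groth.Agent.KFlat.isKFlat_ext q hP
  have hfl' : ∀ j, Module.Flat S (((Groth.Agent.LBC.ext q).obj P).X j) := fun j => by
    letI := q.toAlgebra
    haveI := hfl j
    exact Module.Flat.baseChange R S (P.X j)
  have key : ∀ (L : Ideal R) (hle : I * J ≤ L) [DRing.HasLBaseChange (Ideal.Quotient.mk L)],
      Nonempty (DerivedCategory.Q.obj ((Groth.Agent.LBC.ext (Ideal.Quotient.factor hle)).obj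
        ((Groth.Agent.LBC.ext q).obj P)) ≅ (DRing.LBaseChange (Ideal.Quotient.mk L)).obj K) :=
    fun L hle _ => ⟨DerivedCategory.Q.mapIso
      (((Functor.mapHomologicalComplexCompIso (ModuleCat.extendScalarsComp.{u} q
        (Ideal.Quotient.factor hle)).symm (ComplexShape.up ℤ)).app P)) ≪≫
      (Groth.Agent.DRingPC.lbcRep (Ideal.Quotient.mk L) hP e)⟩
  have data : ∀ (L : Ideal R) (hle : I * J ≤ L) [DRing.HasLBaseChange (Ideal.Quotient.mk L)],
      DRing.IsPerfect (R ⧸ L) ((DRing.LBaseChange (Ideal.Quotient.mk L)).obj K) →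
      ∃ a b : ℤ, ∀ a' b' : ℤ, a' ≤ a → b ≤ b' →
        Groth.Agent.DRingPC.TorVanish ((Groth.Agent.LBC.ext (Ideal.Quotient.factor hle)).obj
          ((Groth.Agent.LBC.ext q).obj P)) a' b' ∧
        ∀ m, Groth.Agent.PCohLib.NPC (Groth.Agent.DRingPC.FF (R ⧸ L)) m
          (DRing.toD ((Groth.Agent.LBC.ext (Ideal.Quotient.factor hle)).obj
            ((Groth.Agent.LBC.ext q).obj P))) := by
    intro L hle _ hL
    obtain ⟨Z, a, b, hz, hZ, ⟨eZ⟩⟩ := hL
    obtain ⟨e'⟩ := key L hle
    refine ⟨a, b, fun a' b' ha hb => ⟨(Groth.Agent.DRingPC.torAmp_iff_kFlat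
      (Groth.Agent.KFlat.isKFlat_ext _ hP') e' a' b').1
        ⟨Z, fun i hi => hz i (by lia), fun i => Groth.Agent.DRingPC.flat_of_FPj (hZ i), ⟨eZ⟩⟩,
      fun m => (Groth.Agent.DRingPC.NPC_FPj_iff m _).1 (Groth.Agent.PCohLib.NPC.mk
        ⟨⟨b, fun i hi => hz i (Or.inr hi)⟩, fun i _ => hZ i⟩ (eZ ≪≫ e'.symm))⟩⟩
  obtain ⟨a₁, b₁, h₁⟩ := data I Ideal.mul_le_left hI
  obtain ⟨a₂, b₂, h₂⟩ := data J Ideal.mul_le_right hJ
  have hprod : [I.map q, J.map q].prod = ⊥ := by
    simp only [List.prod_cons, List.prod_nil, mul_one]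
    exact (Ideal.map_mul q I J).symm.trans (Ideal.map_quotient_self (I * J))
  have h := Groth.Agent.DRingPC.isPerfect_of_thicken hprod _ hP' hfl' (min a₁ a₂) (max b₁ b₂) (by
    intro L hL
    simp only [List.mem_cons, List.not_mem_nil, or_false] at hL
    rcases hL with rfl | rfl
    · exact ⟨_, _, _, Ideal.Quotient.factor_surjective Ideal.mul_le_left,
        Ideal.Quotient.factor_ker Ideal.mul_le_left, h₁ _ _ (min_le_left _ _) (le_max_left _ _)⟩
    · exact ⟨_, _, _, Ideal.Quotient.factor_surjective Ideal.mul_le_right,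
        Ideal.Quotient.factor_ker Ideal.mul_le_right, h₂ _ _ (min_le_right _ _) (le_max_right _ _)⟩)
  exact Groth.Agent.DRingPC.isPerfect_of_iso h.1 (Groth.Agent.DRingPC.lbcRep q hP e)

end Groth.Agent.S6980
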