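import Groth.Statements.S6990
import Groth.Agent.DRingPC.TorAmp
-- import your own Groth.Agent.* helpers here

set_option autoImplicit false
universe u
open CategoryTheory CategoryTheory.Limits
attribute [local instance] HasDerivedCategory.standard
open DRing

namespace Groth.Agent.S6990

open CategoryTheory.Pretriangulated in
/-- Let R be a commutative ring, a, b integers, L an object of D(R) isomorphic to a complex of
projective R-modules vanishing outside [a, b], and K an object of D(R). (1) If H^i(K) = 0 for all i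
≥ a, then every morphism L → K in D(R) is zero. (2) If H^i(K) = 0 for all i ≥ a + 1, then for every
distinguished triangle K → M → L → K[1] there is an isomorphism M ≅ K ⊕ L carrying K → M to the
first inclusion and whose composite with the second projection is M → L. -/
theorem result (R : Type u) [CommRing R] (a b : ℤ)
    (L : Dual.D R) (hL : ∃ P : DRing.Cx R, DRing.VanishesOutside P a b ∧ (∀ i : ℤ, Module.Projective R (P.X i)) ∧
      Nonempty (DRing.toD P ≅ L)) (K : Dual.D R) :
    ((∀ i : ℤ, a ≤ i → Subsingleton (Dual.HD R K i)) → Subsingleton (L ⟶ K)) ∧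
      ((∀ i : ℤ, a + 1 ≤ i → Subsingleton (Dual.HD R K i)) → ∀ (T : Triangle (Dual.D R)), T ∈ distinguishedTriangles →
        T.obj₁ = K → T.obj₃ = L → ∀ [HasBinaryBiproduct T.obj₁ T.obj₃],
          ∃ e : T.obj₂ ≅ T.obj₁ ⊞ T.obj₃, T.mor₁ ≫ e.hom = biprod.inl ∧ e.hom ≫ biprod.snd = T.mor₂) := by
  have key : ∀ (K : Dual.D R), (∀ i : ℤ, a ≤ i → Subsingleton (Dual.HD R K i)) → Subsingleton (L ⟶ K) := by
    intro K h
    obtain ⟨P, hz, hP, ⟨e⟩⟩ := hL
    haveI : K.IsLE (a - 1) := (DerivedCategory.isLE_iff _ _).2 fun i hi =>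
      (Groth.Agent.DRingPC.subsingleton_iff_isZero _).1 (h i (by lia))
    obtain ⟨X, hX, ⟨eX⟩⟩ := DerivedCategory.exists_iso_Q_obj_of_isLE K (a - 1)
    refine ⟨fun f g => ?_⟩
    have key : ∀ α : DerivedCategory.Q.obj P ⟶ DerivedCategory.Q.obj X, α = 0 := fun α => by
      obtain ⟨t, rfl⟩ := Groth.Agent.PCohLib.exists_Q_map_eq (P := Groth.Agent.DRingPC.PR R)
        (Groth.Agent.DRingPC.PR.lift R) P hP b (fun i hi => hz i (Or.inr hi)) X α
      have ht : t = 0 := by
        ext i : 1
        by_cases hi : i < a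
        · exact (hz i (Or.inl hi)).eq_of_src _ _
        · exact (X.isZero_of_isStrictlyLE (a - 1) i (by lia)).eq_of_tgt _ _
      rw [ht, Functor.map_zero]
    have h0 : ∀ f : L ⟶ K, f = 0 := fun f => by
      have := key (e.hom ≫ f ≫ eX.hom)
      rwa [← cancel_epi e.hom, ← cancel_mono eX.hom, comp_zero, zero_comp, Category.assoc]
    rw [h0 f, h0 g]
  refine ⟨key K, fun h T hT h₁ h₃ => ?_⟩
  intro _
  subst h₁ h₃
  have hT0 : T.mor₃ = 0 := (key ((shiftFunctor (Dual.D R) (1 : ℤ)).obj T.obj₁) fun i hi =>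
    (Groth.Agent.DRingPC.subsingleton_iff_isZero _).2
      (((Groth.Agent.DRingPC.subsingleton_iff_isZero _).1 (h (1 + i) (by lia))).of_iso
        (((DerivedCategory.homologyFunctor (ModuleCat.{u} R) 0).shiftIso 1 i (1 + i) rfl).app _))).elim _ _
  obtain ⟨e, he₁, he₂⟩ := exists_iso_binaryBiproduct_of_distTriang T hT hT0
  exact ⟨e, he₁, he₂.symm⟩

end Groth.Agent.S6990
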