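import Groth.Statements.S6999
import Groth.Agent.DRingPC.Ext
import Mathlib.Algebra.Category.ModuleCat.FilteredColimits
-- import your own Groth.Agent.* helpers here

set_option autoImplicit false
universe u
open CategoryTheory CategoryTheory.Limits
attribute [local instance] HasDerivedCategory.standard
open DRing

namespace Groth.Agent.S6999

section helpers

variable {R : Type u} [CommRing R] {J : Type u} [SmallCategory J] [IsFiltered J]
  (F : J ⥤ ModuleCat.{u} R) {c : Cocone F}

/-- A map out of a finite free module to a filtered colimit factors. -/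
theorem exists_factor (hc : IsColimit c) {P : Type u} [AddCommGroup P] [Module R P] [Module.Finite R P]
    [Module.Free R P] (h : P →ₗ[R] c.pt) : ∃ (j : J) (h₁ : P →ₗ[R] F.obj j), (c.ι.app j).hom ∘ₗ h₁ = h := by
  classical
  haveI : Small.{u} (Module.Free.ChooseBasisIndex R P) := inferInstance
  let b := Module.Free.chooseBasis R P
  choose js ys hys using fun i => Concrete.isColimit_exists_rep F hc (h (b i))
  obtain ⟨j, hj⟩ := IsFiltered.sup_objs_exists (Finset.univ.image js)
  let fi := fun i => (hj (Finset.mem_image_of_mem js (Finset.mem_univ i))).some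
  refine ⟨j, b.constr R fun i => (F.map (fi i)).hom (ys i), b.ext fun i => ?_⟩
  rw [LinearMap.comp_apply, Module.Basis.constr_basis, ← hys i]
  exact ConcreteCategory.congr_hom (c.w (fi i)) (ys i)

/-- A map out of a finite module which dies in a filtered colimit dies at some stage. -/
theorem exists_map_comp_eq_zero (hc : IsColimit c) {P : Type u} [AddCommGroup P] [Module R P] [Module.Finite R P]
    {j : J} (h : P →ₗ[R] F.obj j) (h0 : (c.ι.app j).hom ∘ₗ h = 0) :
    ∃ (j' : J) (f : j ⟶ j'), (F.map f).hom ∘ₗ h = 0 := by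
  classical
  obtain ⟨s, hs⟩ := Module.Finite.fg_top (R := R) (M := P)
  suffices key : ∀ s : Finset P, ∃ (j' : J) (f : j ⟶ j'), ∀ x ∈ s, (F.map f).hom (h x) = 0 by
    obtain ⟨j', f, hf⟩ := key s
    exact ⟨j', f, LinearMap.ext_on hs fun x hx => hf x hx⟩
  intro s
  induction s using Finset.induction_on with
  | empty => exact ⟨j, 𝟙 j, by simp⟩
  | insert x s hx ih =>
    obtain ⟨j₁, f, hf⟩ := ih
    have hz : (c.ι.app j₁) ((F.map f).hom (h x)) = (c.ι.app j₁) (0 : F.obj j₁) := by
      rw [map_zero]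
      exact (ConcreteCategory.congr_hom (c.w f) (h x)).trans (LinearMap.congr_fun h0 x)
    obtain ⟨k, g₁, g₂, hg⟩ := Concrete.isColimit_exists_of_rep_eq F hc _ _ hz
    rw [map_zero] at hg
    refine ⟨k, f ≫ g₁, fun y hy => ?_⟩
    rw [F.map_comp, ModuleCat.hom_comp, LinearMap.comp_apply]
    rcases Finset.mem_insert.1 hy with rfl | hy
    · exact hg
    · rw [hf y hy, map_zero]

end helpers

/-- Let R be a commutative ring, m an integer, K an m-pseudo-coherent object of D(R), and (M_j) a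
diagram of R-modules over a small filtered category with colimit cocone M. Then the canonical map
colim_j Hom(K, M_j[n]) → Hom(K, M[n]) in D(R) is bijective for n < -m and injective for n = -m.
Unfolded: for n < -m every morphism K → M[n] factors through M_j[n] → M[n] for some j; and for n ≤
-m, a morphism K → M_j[n] whose composite with M_j[n] → M[n] is zero already has zero composite with
M_j[n] → M_(j')[n] for some j → j'. -/
theorem result (R : Type u) [CommRing R] (m : ℤ) (K : Dual.D R)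
    (hK : DRing.IsPseudoCoherent R m K) {J : Type u} [SmallCategory J] [IsFiltered J]
    (F : J ⥤ ModuleCat.{u} R) (c : Cocone F) (hc : IsColimit c) :
    (∀ n : ℤ, n < -m → ∀ x : K ⟶ (shiftFunctor (Dual.D R) n).obj (Dual.inD R c.pt),
      ∃ (j : J) (y : K ⟶ (shiftFunctor (Dual.D R) n).obj (Dual.inD R (F.obj j))),
        y ≫ (shiftFunctor (Dual.D R) n).map
          ((DerivedCategory.singleFunctor (ModuleCat.{u} R) 0).map (c.ι.app j)) = x) ∧
    (∀ n : ℤ, n ≤ -m → ∀ (j : J) (y : K ⟶ (shiftFunctor (Dual.D R) n).obj (Dual.inD R (F.obj j))),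
      y ≫ (shiftFunctor (Dual.D R) n).map
          ((DerivedCategory.singleFunctor (ModuleCat.{u} R) 0).map (c.ι.app j)) = 0 →
      ∃ (j' : J) (f : j ⟶ j'), y ≫ (shiftFunctor (Dual.D R) n).map
          ((DerivedCategory.singleFunctor (ModuleCat.{u} R) 0).map (F.map f)) = 0) := by
  obtain ⟨E, a, b, α, hbd, hff, hiso, hepi⟩ := hK
  obtain ⟨C, β, γ, hT⟩ := CategoryTheory.Pretriangulated.distinguished_cocone_triangle α
  let T := CategoryTheory.Pretriangulated.Triangle.mk α β γ
  have hCzero : ∀ i : ℤ, m ≤ i → IsZero ((DerivedCategory.homologyFunctor (ModuleCat.{u} R) i).obj C) := fun i hi => by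
    haveI hmono : Mono ((DerivedCategory.homologyFunctor (ModuleCat.{u} R) (i + 1)).map T.mor₁) := by
      haveI : IsIso ((DerivedCategory.homologyFunctor (ModuleCat.{u} R) (i + 1)).map T.mor₁) := hiso (i + 1) (by lia)
      infer_instance
    haveI hepi' : Epi ((DerivedCategory.homologyFunctor (ModuleCat.{u} R) i).map T.mor₁) := by
      rcases eq_or_lt_of_le hi with rfl | hlt
      · exact hepi
      · haveI : IsIso ((DerivedCategory.homologyFunctor (ModuleCat.{u} R) i).map T.mor₁) := hiso i hlt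
        infer_instance
    have h1 : (DerivedCategory.homologyFunctor (ModuleCat.{u} R) i).map T.mor₂ = 0 :=
      (DerivedCategory.HomologySequence.epi_homologyMap_mor₁_iff T hT i).1 hepi'
    have h2 := (DerivedCategory.HomologySequence.mono_homologyMap_mor₁_iff T hT i (i + 1) rfl).1 hmono
    exact (DerivedCategory.HomologySequence.exact₃ T hT i (i + 1) rfl).isZero_of_both_zeros h1 h2
  haveI hCLE : C.IsLE (m - 1) := (DerivedCategory.isLE_iff C (m - 1)).2 fun i hi => hCzero i (by lia)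
  have hGE : ∀ (n : ℤ) (N : ModuleCat.{u} R),
      ((shiftFunctor (Dual.D R) n).obj (Dual.inD R N)).IsGE (-n) := fun n N => by
    haveI : (Dual.inD R N).IsGE 0 := inferInstanceAs (((DerivedCategory.singleFunctor _ 0).obj N).IsGE 0)
    exact DerivedCategory.TStructure.t.isGE_shift _ 0 n (-n) (by lia)
  have hb : ∀ i, b < i → IsZero (E.X i) := fun i hi => hbd i (Or.inr hi)
  have hE : ∀ i, Groth.Agent.DRingPC.FF R (E.X i) := hff
  have hα : ∀ (n : ℤ) (N : ModuleCat.{u} R), n ≤ -m → ∀ y : K ⟶ (shiftFunctor (Dual.D R) n).obj (Dual.inD R N),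
      α ≫ y = 0 → y = 0 := fun n N hn y hy => by
    obtain ⟨g, rfl⟩ := CategoryTheory.Pretriangulated.Triangle.yoneda_exact₂ T hT y hy
    haveI := hGE n N
    haveI : T.obj₃.IsLE (m - 1) := hCLE
    exact (congrArg (T.mor₂ ≫ ·) (DerivedCategory.TStructure.t.zero g (m - 1) (-n) (by lia))).trans comp_zero
  refine ⟨fun n hn x => ?_, fun n hn j y hy => ?_⟩
  · obtain ⟨h, hh⟩ := Groth.Agent.DRingPC.cls_surjective b hb hE (α ≫ x)
    haveI := (hE (-n)).1
    haveI := (hE (-n)).2
    haveI := (hE (-n - 1)).1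
    obtain ⟨j, h₁, hh₁⟩ := exists_factor F hc h.1
    have h0 : (c.ι.app j).hom ∘ₗ (h₁ ∘ₗ (E.d (-n - 1) (-n)).hom) = 0 := by
      rw [← LinearMap.comp_assoc, hh₁]; exact Groth.Agent.DRingPC.mem_cocyc.1 h.2
    obtain ⟨j', f, hf⟩ := exists_map_comp_eq_zero F hc _ h0
    have hmem : (F.map f).hom ∘ₗ h₁ ∈ Groth.Agent.DRingPC.Cocyc E n (F.obj j') := by
      rw [Groth.Agent.DRingPC.mem_cocyc, LinearMap.comp_assoc]; exact hf
    let y' := Groth.Agent.DRingPC.cls (E := E) ⟨(F.map f).hom ∘ₗ h₁, hmem⟩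
    have hy' : T.invRotate.mor₁ ≫ y' = 0 := by
      haveI := hGE n (F.obj j')
      haveI : T.invRotate.obj₁.IsLE m := DerivedCategory.TStructure.t.isLE_shift C (m - 1) (-1) m (by lia)
      exact DerivedCategory.TStructure.t.zero _ m (-n) (by lia)
    obtain ⟨y, hy⟩ : ∃ y, y' = α ≫ y :=
      CategoryTheory.Pretriangulated.Triangle.yoneda_exact₂ T.invRotate
        (CategoryTheory.Pretriangulated.inv_rot_of_distTriang T hT) y' hy'
    refine ⟨j', y, sub_eq_zero.1 (hα n c.pt hn.le _ ?_)⟩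
    rw [Preadditive.comp_sub, ← Category.assoc, ← hy, sub_eq_zero]
    refine (Groth.Agent.DRingPC.cls_comp _ _).trans ?_
    rw [← hh]
    refine congrArg Groth.Agent.DRingPC.cls (Subtype.ext ?_)
    show (c.ι.app j').hom ∘ₗ ((F.map f).hom ∘ₗ h₁) = h.1
    rw [← LinearMap.comp_assoc, ← ModuleCat.hom_comp, c.w, hh₁]
  · obtain ⟨h, hh⟩ := Groth.Agent.DRingPC.cls_surjective b hb hE (α ≫ y)
    haveI := (hE (-n)).1
    haveI := (hE (-n + 1)).1
    haveI := (hE (-n + 1)).2
    have h0 : Groth.Agent.DRingPC.cls (E := E) ⟨(c.ι.app j).hom ∘ₗ h.1,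
        Groth.Agent.DRingPC.comp_mem_cocyc _ h.2⟩ = 0 :=
      (Groth.Agent.DRingPC.cls_comp _ _).symm.trans
        ((congrArg (· ≫ _) hh).trans ((Category.assoc _ _ _).trans ((congrArg (α ≫ ·) hy).trans comp_zero)))
    obtain ⟨g, hg⟩ := (Groth.Agent.DRingPC.cls_eq_zero_iff b hb hE _).1 h0
    obtain ⟨k, g₁, hg₁⟩ := exists_factor F hc g
    obtain ⟨l, fk, fj, -⟩ : ∃ (l : J) (fk : k ⟶ l) (fj : j ⟶ l), True :=
      ⟨IsFiltered.max k j, IsFiltered.leftToMax k j, IsFiltered.rightToMax k j, trivial⟩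
    have h1 : (c.ι.app l).hom ∘ₗ ((F.map fj).hom ∘ₗ h.1 -
        ((F.map fk).hom ∘ₗ g₁) ∘ₗ (E.d (-n) (-n + 1)).hom) = 0 := by
      rw [LinearMap.comp_sub, ← LinearMap.comp_assoc, ← ModuleCat.hom_comp, c.w, ← LinearMap.comp_assoc,
        ← LinearMap.comp_assoc, ← ModuleCat.hom_comp, c.w, hg₁, sub_eq_zero]
      exact hg.symm
    obtain ⟨l', f', hf'⟩ := exists_map_comp_eq_zero F hc _ h1
    refine ⟨l', fj ≫ f', hα n _ hn _ ?_⟩
    refine (Category.assoc _ _ _).symm.trans ((congrArg (· ≫ _) hh.symm).trans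
      ((Groth.Agent.DRingPC.cls_comp _ _).trans ?_))
    rw [Groth.Agent.DRingPC.cls_eq_zero_iff b hb hE]
    refine ⟨(F.map f').hom ∘ₗ ((F.map fk).hom ∘ₗ g₁), ?_⟩
    rw [LinearMap.comp_sub, sub_eq_zero, ← LinearMap.comp_assoc, ← LinearMap.comp_assoc (g := (F.map fk).hom ∘ₗ g₁),
      ← ModuleCat.hom_comp, ← F.map_comp] at hf'
    exact hf'.symm

end Groth.Agent.S6999
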