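import Groth.Statements.S7000
import Groth.Agent.DRingPC.BaseChange
-- import your own Groth.Agent.* helpers here

set_option autoImplicit false
universe u
open CategoryTheory CategoryTheory.Limits
attribute [local instance] HasDerivedCategory.standard
open DRing

namespace Groth.Agent.S7000

/-- Let A → B be a flat homomorphism of commutative rings, m an integer and M an A-module. If M is
m-pseudo-coherent then the B-module B ⊗_A M is m-pseudo-coherent; if M is pseudo-coherent then B ⊗_A
M is pseudo-coherent. -/
theorem result {A B : Type u} [CommRing A] [CommRing B] [Algebra A B]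
    [Module.Flat A B] (m : ℤ) (M : Type u) [AddCommGroup M] [Module A M] :
    (DRing.IsPseudoCoherentModule A m M → DRing.IsPseudoCoherentModule B m (TensorProduct A B M)) ∧
      (DRing.IsPseudoCoherentModule' A M → DRing.IsPseudoCoherentModule' B (TensorProduct A B M)) := by
  let φ := algebraMap A B
  have hflat : φ.Flat := RingHom.flat_algebraMap_iff.2 inferInstance
  let X := (HomologicalComplex.single (ModuleCat.{u} A) (ComplexShape.up ℤ) 0).obj (ModuleCat.of A M)
  let e : DRing.toD ((Groth.Agent.DRingPC.extCx φ).obj X) ≅ Dual.inD B (TensorProduct A B M) :=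
    Groth.Agent.DRingPC.extendSingle φ (ModuleCat.of A M) ≪≫
      (DerivedCategory.singleFunctor _ 0).mapIso (Groth.Agent.DRingPC.extendEquiv A B M).symm
  have key : ∀ j, Groth.Agent.PCohLib.NPC (Groth.Agent.DRingPC.FF A) j (Dual.inD A M) → Groth.Agent.PCohLib.NPC (Groth.Agent.DRingPC.FF B) j (Dual.inD B (TensorProduct A B M)) :=
    fun j h => Groth.Agent.PCohLib.NPC.of_iso (Groth.Agent.DRingPC.NPC_extend_of_flat φ hflat (Groth.Agent.PCohLib.NPC.of_iso h (Groth.Agent.PCohLib.singleQIso 0 _).symm)) e
  simp only [DRing.IsPseudoCoherentModule, DRing.IsPseudoCoherentModule', Groth.Agent.DRingPC.isPC'_iff, Groth.Agent.DRingPC.isPC_iff_NPC]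
  exact ⟨key m, fun h j => key j (h j)⟩

end Groth.Agent.S7000
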