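import Groth.Statements.S7004
import Groth.Agent.TwoTerm.Split
-- import your own Groth.Agent.* helpers here

set_option autoImplicit false
universe u
open CategoryTheory CategoryTheory.Limits
attribute [local instance] HasDerivedCategory.standard
open DRing

namespace Groth.Agent.S7004

/-- Let R be a commutative ring, a an integer and K an object of D(R) whose cohomology vanishes in large
degrees, such that Hom(K, M[-a]) = 0 in D(R) for every R-module M. Then K ≅ τ_(≤ a-1) K ⊕ τ_(≥ a+1)
K by an isomorphism carrying τ_(≤ a-1) K → K to the first inclusion and K → τ_(≥ a+1) K to the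
second projection, and τ_(≥ a+1) K is isomorphic in D(R) to a complex of projective modules
vanishing outside [a+1, b] for some integer b. (The published statement also asserts that the
decomposition is unique; that part is not restated.) -/
theorem result (R : Type u) [CommRing R] (a : ℤ) (K : Dual.D R)
    (hKb : ∃ b : ℤ, ∀ i : ℤ, b < i → Subsingleton (Dual.HD R K i))
    (h : ∀ (M : Type u) [AddCommGroup M] [Module R M],
      Subsingleton (K ⟶ (shiftFunctor (Dual.D R) (-a)).obj (Dual.inD R M)))
    [HasBinaryBiproduct (((DerivedCategory.TStructure.t : Triangulated.TStructure (Dual.D R)).truncLT a).obj K) (((DerivedCategory.TStructure.t : Triangulated.TStructure (Dual.D R)).truncGE (a + 1)).obj K)] :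
    (∃ e : K ≅ ((DerivedCategory.TStructure.t : Triangulated.TStructure (Dual.D R)).truncLT a).obj K ⊞ ((DerivedCategory.TStructure.t : Triangulated.TStructure (Dual.D R)).truncGE (a + 1)).obj K,
      ((DerivedCategory.TStructure.t : Triangulated.TStructure (Dual.D R)).truncLTι a).app K ≫ e.hom = biprod.inl ∧
        e.hom ≫ biprod.snd = ((DerivedCategory.TStructure.t : Triangulated.TStructure (Dual.D R)).truncGEπ (a + 1)).app K) ∧
      ∃ (P : DRing.Cx R) (b : ℤ), DRing.VanishesOutside P (a + 1) b ∧ (∀ i : ℤ, Module.Projective R (P.X i)) ∧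
        Nonempty (DRing.toD P ≅ ((DerivedCategory.TStructure.t : Triangulated.TStructure (Dual.D R)).truncGE (a + 1)).obj K) := by
  let t : Triangulated.TStructure (Dual.D R) := DerivedCategory.TStructure.t
  let H := fun i : ℤ => DerivedCategory.homologyFunctor (ModuleCat.{u} R) i
  obtain ⟨p, rfl⟩ : ∃ p, a = -p := ⟨-a, (neg_neg a).symm⟩
  obtain ⟨b, hb⟩ := hKb
  haveI := Groth.Agent.DRingPC.isLE_of_subsingleton hb
  obtain ⟨P, hP, hPz, ⟨e⟩⟩ := Groth.Agent.DRingPC.exists_projective_rep R K b
  rw [neg_neg] at h
  obtain ⟨hw, hQ⟩ := Groth.Agent.TwoTerm.split_of_projective_opcycles e (-p) b hPz hP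
    (Groth.Agent.TwoTerm.projective_opcycles e p b hPz hP fun M M' _ _ _ _ g _ =>
      haveI := h M
      Function.injective_of_subsingleton _)
  -- the cohomology in degree `-p` vanishes
  have hHa : Limits.IsZero ((H (-p)).obj K) := by
    let L := (t.truncLE (-p)).obj K
    haveI : DerivedCategory.IsLE L (-p) := inferInstanceAs (t.IsLE ((t.truncLE (-p)).obj K) (-p))
    haveI := Groth.Agent.TriH.EndNilp.isIso_homology_ι K (-p) (-p + 1) (-p) rfl le_rfl
    obtain ⟨e', h1, h2⟩ := Pretriangulated.exists_iso_binaryBiproduct_of_distTriang _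
      (t.triangleLEGE_distinguished (-p) (-p + 1) rfl K) hw
    haveI : DerivedCategory.IsGE ((t.truncGE (-p)).obj L) (-p) :=
      inferInstanceAs (t.IsGE ((t.truncGE (-p)).obj L) (-p))
    haveI : DerivedCategory.IsLE ((t.truncGE (-p)).obj L) (-p) := by
      rw [DerivedCategory.isLE_iff]
      intro i hi
      haveI := Groth.Agent.TriH.EndNilp.isIso_homology_π L (-p - 1) (-p) i (by lia) (by lia)
      exact (DerivedCategory.isZero_of_isLE L (-p) i hi).of_iso
        (asIso ((H i).map ((t.truncGEπ (-p)).app L))).symm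
    obtain ⟨M, ⟨eM⟩⟩ :=
      DerivedCategory.exists_iso_singleFunctor_obj_of_isGE_of_isLE ((t.truncGE (-p)).obj L) (-p)
    haveI := h M
    let r : K ⟶ L := e'.hom ≫ Limits.biprod.fst
    have hr : (t.truncLEι (-p)).app K ≫ r = 𝟙 L :=
      (Category.assoc _ _ _).symm.trans ((congrArg (· ≫ Limits.biprod.fst) h1).trans Limits.biprod.inl_fst)
    let es := ((DerivedCategory.singleFunctors (ModuleCat.{u} R)).shiftIso p (-p) 0 (by lia)).app (ModuleCat.of R M)
    have h0 : r ≫ (t.truncGEπ (-p)).app L ≫ eM.hom ≫ es.inv = 0 := (h M).elim _ _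
    have hzero : (t.truncGEπ (-p)).app L = 0 := by
      have h3 := congrArg (fun f => (t.truncLEι (-p)).app K ≫ f) h0
      simp only [Limits.comp_zero, ← Category.assoc, hr, Category.id_comp] at h3
      simpa using congrArg (fun f => f ≫ es.hom ≫ eM.inv) h3
    haveI := Groth.Agent.TriH.EndNilp.isIso_homology_π L (-p - 1) (-p) (-p) (by lia) le_rfl
    have hz : Limits.IsZero ((H (-p)).obj L) := by
      rw [Limits.IsZero.iff_id_eq_zero, ← cancel_mono ((H (-p)).map ((t.truncGEπ (-p)).app L)),
        Category.id_comp, Limits.zero_comp, hzero, Functor.map_zero]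
    exact hz.of_iso (asIso ((H (-p)).map ((t.truncLEι (-p)).app K))).symm
  let j : (t.truncLT (-p)).obj K ⟶ (t.truncLE (-p)).obj K :=
    (t.natTransTruncLTOfLE (-p) (-p + 1) (by lia)).app K
  have hj : j ≫ (t.truncLEι (-p)).app K = (t.truncLTι (-p)).app K :=
    t.natTransTruncLTOfLE_ι_app (-p) (-p + 1) (by lia) K
  haveI : IsIso j := by
    obtain ⟨c, hc⟩ : ∃ c : ℤ, -p = c + 1 := ⟨-p - 1, by lia⟩
    rw [DerivedCategory.isIso_iff]
    intro i
    rcases lt_trichotomy i (-p) with hi | rfl | hi
    · haveI := Groth.Agent.TriH.EndNilp.isIso_homology_ι K (-p) (-p + 1) i rfl hi.le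
      have h1 : IsIso ((H i).map ((t.truncLTι (-p)).app K)) := by
        rw [hc]
        exact Groth.Agent.TriH.EndNilp.isIso_homology_ι K c (c + 1) i rfl (by lia)
      rw [← hj, Functor.map_comp] at h1
      exact IsIso.of_isIso_comp_right _ ((H i).map ((t.truncLEι (-p)).app K))
    · haveI := Groth.Agent.TriH.EndNilp.isIso_homology_ι K (-p) (-p + 1) (-p) rfl le_rfl
      refine Limits.isIso_of_source_target_iso_zero _ ?_
        (hHa.of_iso (asIso ((H (-p)).map ((t.truncLEι (-p)).app K)))).isoZero
      haveI : DerivedCategory.IsLE ((t.truncLT (-p)).obj K) c := by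
        rw [hc]
        exact inferInstanceAs (t.IsLE ((t.truncLE c).obj K) c)
      exact (DerivedCategory.isZero_of_isLE ((t.truncLT (-p)).obj K) c (-p) (by lia)).isoZero
    · haveI : DerivedCategory.IsLE ((t.truncLT (-p)).obj K) c := by
        rw [hc]
        exact inferInstanceAs (t.IsLE ((t.truncLE c).obj K) c)
      haveI : DerivedCategory.IsLE ((t.truncLE (-p)).obj K) (-p) :=
        inferInstanceAs (t.IsLE ((t.truncLE (-p)).obj K) (-p))
      exact Limits.isIso_of_source_target_iso_zero _
        (DerivedCategory.isZero_of_isLE ((t.truncLT (-p)).obj K) c i (by lia)).isoZero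
        (DerivedCategory.isZero_of_isLE ((t.truncLE (-p)).obj K) (-p) i hi).isoZero
  have hT := t.triangleLEGE_distinguished (-p) (-p + 1) rfl K
  let ej := asIso j
  let T : Pretriangulated.Triangle (Dual.D R) := Pretriangulated.Triangle.mk
    ((t.truncLTι (-p)).app K) ((t.truncGEπ (-p + 1)).app K) 0
  have hT' : T ∈ Pretriangulated.distinguishedTriangles := by
    refine Pretriangulated.isomorphic_distinguished _ hT _ ?_
    refine Pretriangulated.Triangle.isoMk _ _ ej (Iso.refl _) (Iso.refl _) ?_ ?_ ?_
    · exact (Category.comp_id _).trans hj.symm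
    · exact (Category.comp_id _).trans (Category.id_comp _).symm
    · exact Limits.zero_comp.trans ((Category.id_comp _).trans hw).symm
  obtain ⟨e', h1, h2⟩ := Pretriangulated.exists_iso_binaryBiproduct_of_distTriang T hT' rfl
  exact ⟨⟨e', h1, h2.symm⟩, hQ⟩

end Groth.Agent.S7004
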