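import Groth.Statements.S7015
import Mathlib.LinearAlgebra.TensorProduct.Finiteness
import Mathlib.LinearAlgebra.FreeModule.Basic
import Mathlib.RingTheory.Finiteness.Basic
import Mathlib.LinearAlgebra.StdBasis
-- import your own Groth.Agent.* helpers here

set_option autoImplicit false
universe u
open CategoryTheory MonoidalCategory
open DRing

namespace Groth.Agent.S7015

/-- Let R be a commutative ring and M, N R-modules such that N is a left dual of M for the tensor
product of R-modules, i.e. there are a coevaluation R → M ⊗ N and an evaluation N ⊗ M → R satisfying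
the triangle identities (an exact pairing). Then M and N are finitely generated projective
R-modules. -/
theorem result (R : Type u) [CommRing R] (M N : Type u) [AddCommGroup M]
    [Module R M] [AddCommGroup N] [Module R N] [ExactPairing (ModuleCat.of R M) (ModuleCat.of R N)] :
    Module.Finite R M ∧ Module.Projective R M ∧ Module.Finite R N ∧ Module.Projective R N := by
  let Mc := ModuleCat.of R M
  let Nc := ModuleCat.of R N
  let η : R →ₗ[R] TensorProduct R M N := (ExactPairing.coevaluation Mc Nc).hom
  let ε : TensorProduct R N M →ₗ[R] R := (ExactPairing.evaluation Mc Nc).hom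
  obtain ⟨S, hS⟩ := TensorProduct.exists_finset (η 1)
  have key : ∀ (P : Type u) [AddCommGroup P] [Module R P] (f : S → P →ₗ[R] R) (v : S → P),
      (∀ x, ∑ k, f k x • v k = x) → Module.Finite R P ∧ Module.Projective R P := by
    intro P _ _ f v hx
    let p : (S → R) →ₗ[R] P := Fintype.linearCombination R v
    let s : P →ₗ[R] (S → R) := LinearMap.pi f
    have hps : p ∘ₗ s = LinearMap.id := LinearMap.ext fun x => by
      refine Eq.trans ?_ (hx x)
      simp [p, s, Fintype.linearCombination_apply]
    haveI : Module.Projective R (S → R) := Module.Projective.of_free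
    exact ⟨Module.Finite.of_surjective p fun x => ⟨s x, LinearMap.congr_fun hps x⟩,
      Module.Projective.of_split s p hps⟩
  have hM : ∀ x : M, ∑ k : S, ε (k.1.2 ⊗ₜ x) • k.1.1 = x := fun x => by
    have h : ε.lTensor M (TensorProduct.assoc R M N M (η.rTensor M ((1 : R) ⊗ₜ[R] x))) =
        (TensorProduct.rid R M).symm (TensorProduct.lid R M ((1 : R) ⊗ₜ[R] x)) :=
      congrArg (fun φ => ModuleCat.Hom.hom φ ((1 : R) ⊗ₜ[R] x))
        (ExactPairing.evaluation_coevaluation Mc Nc)
    have h' := congrArg (TensorProduct.rid R M) h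
    rw [LinearMap.rTensor_tmul, hS, TensorProduct.sum_tmul, map_sum, map_sum, map_sum,
      LinearEquiv.apply_symm_apply, TensorProduct.lid_tmul, one_smul] at h'
    rw [Finset.sum_coe_sort S (fun k => ε (k.2 ⊗ₜ x) • k.1)]
    refine Eq.trans (Finset.sum_congr rfl fun k _ => ?_) h'
    simp
  have hN : ∀ y : N, ∑ k : S, ε (y ⊗ₜ k.1.1) • k.1.2 = y := fun y => by
    have h : ε.rTensor N ((TensorProduct.assoc R N M N).symm (η.lTensor N (y ⊗ₜ[R] (1 : R)))) =
        (TensorProduct.lid R N).symm (TensorProduct.rid R N (y ⊗ₜ[R] (1 : R))) :=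
      congrArg (fun φ => ModuleCat.Hom.hom φ (y ⊗ₜ[R] (1 : R)))
        (ExactPairing.coevaluation_evaluation Mc Nc)
    have h' := congrArg (TensorProduct.lid R N) h
    rw [LinearMap.lTensor_tmul, hS, TensorProduct.tmul_sum, map_sum, map_sum, map_sum,
      LinearEquiv.apply_symm_apply, TensorProduct.rid_tmul, one_smul] at h'
    rw [Finset.sum_coe_sort S (fun k => ε (y ⊗ₜ k.1) • k.2)]
    refine Eq.trans (Finset.sum_congr rfl fun k _ => ?_) h'
    simp
  obtain ⟨h₁, h₂⟩ := key M (fun k => ε ∘ₗ (TensorProduct.mk R N M k.1.2)) (fun k => k.1.1) hM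
  obtain ⟨h₃, h₄⟩ := key N (fun k => ε ∘ₗ ((TensorProduct.mk R N M).flip k.1.1)) (fun k => k.1.2) hN
  exact ⟨h₁, h₂, h₃, h₄⟩

end Groth.Agent.S7015
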