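import Groth.Statements.S7020
import Groth.Agent.DRingPC.Rel
-- import your own Groth.Agent.* helpers here

set_option autoImplicit false
universe u
open CategoryTheory CategoryTheory.Limits
attribute [local instance] HasDerivedCategory.standard
open DerCA

namespace Groth.Agent.S7020

open CategoryTheory.Pretriangulated in
/-- Let R → A be a finite type homomorphism of commutative rings, m an integer and K → L → M → K[1] a
distinguished triangle in D(A); all pseudo-coherence below is relative to R. (1) M is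
m-pseudo-coherent when K is (m+1)-pseudo-coherent and L is m-pseudo-coherent. (2) L is
m-pseudo-coherent when K and M are. (3) K is (m+1)-pseudo-coherent when L is (m+1)-pseudo-coherent
and M is m-pseudo-coherent. (4) Pseudo-coherence in every degree of any two of K, L, M implies that
of the third. -/
theorem result {R A : Type u} [CommRing R] [CommRing A] [Algebra R A] [Algebra.FiniteType R A] (m : ℤ) (T : Triangle (Dual.D A))
    (hT : T ∈ distinguishedTriangles) :
    (DerCA.IsRelPseudoCoherent R A (m + 1) T.obj₁ → DerCA.IsRelPseudoCoherent R A m T.obj₂ →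
        DerCA.IsRelPseudoCoherent R A m T.obj₃) ∧
      (DerCA.IsRelPseudoCoherent R A m T.obj₁ → DerCA.IsRelPseudoCoherent R A m T.obj₃ →
        DerCA.IsRelPseudoCoherent R A m T.obj₂) ∧
      (DerCA.IsRelPseudoCoherent R A (m + 1) T.obj₂ → DerCA.IsRelPseudoCoherent R A m T.obj₃ →
        DerCA.IsRelPseudoCoherent R A (m + 1) T.obj₁) ∧
      ((DerCA.IsRelPseudoCoherentAll R A T.obj₁ → DerCA.IsRelPseudoCoherentAll R A T.obj₂ →
          DerCA.IsRelPseudoCoherentAll R A T.obj₃) ∧
        (DerCA.IsRelPseudoCoherentAll R A T.obj₁ → DerCA.IsRelPseudoCoherentAll R A T.obj₃ →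
          DerCA.IsRelPseudoCoherentAll R A T.obj₂) ∧
        (DerCA.IsRelPseudoCoherentAll R A T.obj₂ → DerCA.IsRelPseudoCoherentAll R A T.obj₃ →
          DerCA.IsRelPseudoCoherentAll R A T.obj₁)) := by
  obtain ⟨n, α, hα⟩ := Groth.Agent.DRingPC.exists_presentation_ft R A
  simp only [DerCA.IsRelPseudoCoherentAll, Groth.Agent.DRingPC.relPC_iff α hα]
  have hT' := (DRing.restrictD α.toRingHom).map_distinguished T hT
  have h3 := fun j => @Groth.Agent.PCohLib.NPC.of_triangle₃ _ _ _ _ (Groth.Agent.DRingPC.FF _) _ _ (Groth.Agent.DRingPC.FF.sum _) (Groth.Agent.DRingPC.FF.qs _) (Groth.Agent.DRingPC.FF.ql _) j _ hT'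
  have h2 := fun j => @Groth.Agent.PCohLib.NPC.of_triangle₂ _ _ _ _ (Groth.Agent.DRingPC.FF _) _ _ (Groth.Agent.DRingPC.FF.sum _) (Groth.Agent.DRingPC.FF.qs _) (Groth.Agent.DRingPC.FF.ql _) j _ hT'
  have h1 := fun j => @Groth.Agent.PCohLib.NPC.of_triangle₁ _ _ _ _ (Groth.Agent.DRingPC.FF _) _ _ (Groth.Agent.DRingPC.FF.sum _) (Groth.Agent.DRingPC.FF.qs _) (Groth.Agent.DRingPC.FF.ql _) j _ hT'
  exact ⟨h3 m, h2 m, h1 m, fun a b j => h3 j (a _) (b j), fun a b j => h2 j (a j) (b j),
    fun a b j => (h1 (j - 1) (a _) (b _)).mono (by lia)⟩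

end Groth.Agent.S7020
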