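import Groth.Statements.S7023
import Groth.Agent.DRingPC.Rel
-- import your own Groth.Agent.* helpers here

set_option autoImplicit false
universe u
open CategoryTheory CategoryTheory.Limits
attribute [local instance] HasDerivedCategory.standard
open DerCA

namespace Groth.Agent.S7023

/-- Let R → A be a finite type homomorphism of commutative rings, m an integer and K a bounded above
cochain complex of A-modules such that the module K^i is (m - i)-pseudo-coherent relative to R for
every i. Then K is m-pseudo-coherent relative to R. Moreover, K is pseudo-coherent over R as soon as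
each of its terms K^i is so. -/
theorem result {R A : Type u} [CommRing R] [CommRing A] [Algebra R A] [Algebra.FiniteType R A] (m : ℤ) (K : DRing.Cx A) (b : ℤ)
    (hb : DRing.VanishesAbove K b) :
    ((∀ i : ℤ, DerCA.IsRelPseudoCoherentModule R A (m - i) (K.X i)) → DerCA.IsRelPseudoCoherent R A m (DRing.toD K)) ∧
      ((∀ i : ℤ, DerCA.IsRelPseudoCoherentModuleAll R A (K.X i)) →
        DerCA.IsRelPseudoCoherentAll R A (DRing.toD K)) := by
  obtain ⟨n, α, hα⟩ := Groth.Agent.DRingPC.exists_presentation_ft R A
  simp only [DerCA.IsRelPseudoCoherentAll, DerCA.IsRelPseudoCoherentModule,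
    DerCA.IsRelPseudoCoherentModuleAll, Groth.Agent.DRingPC.relPC_iff α hα]
  have key : ∀ j : ℤ, (∀ i, Groth.Agent.PCohLib.NPC (Groth.Agent.DRingPC.FF _) (j - i) ((DRing.restrictD α.toRingHom).obj (Dual.inD A (K.X i)))) →
      Groth.Agent.PCohLib.NPC (Groth.Agent.DRingPC.FF _) j ((DRing.restrictD α.toRingHom).obj (DRing.toD K)) := fun j h =>
    (Groth.Agent.PCohLib.NPC_of_terms (Groth.Agent.DRingPC.FF.sum _) (Groth.Agent.DRingPC.FF.qs _) (Groth.Agent.DRingPC.FF.ql _) j _ b
      (fun i hi => (ModuleCat.restrictScalars α.toRingHom).map_isZero (hb i hi))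
      (fun i _ => Groth.Agent.PCohLib.NPC.of_iso (h i) (Groth.Agent.DRingPC.restrictSingle α.toRingHom 0 (K.X i)))).of_iso
      (Groth.Agent.DRingPC.restrictQ α.toRingHom K).symm
  exact ⟨key m, fun h j => key j fun i => h i _⟩

end Groth.Agent.S7023
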