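import Groth.Statements.S7026
import Groth.Agent.DRingPC.Rel
-- import your own Groth.Agent.* helpers here

set_option autoImplicit false
universe u
open CategoryTheory CategoryTheory.Limits
attribute [local instance] HasDerivedCategory.standard
open DerCA

namespace Groth.Agent.S7026

/-- Let R be a Noetherian commutative ring, R → A a finite type ring homomorphism, m an integer, K an
object of D(A) and M an A-module. Then: m-pseudo-coherence of K relative to R is equivalent to
H^i(K) vanishing for all large i together with H^i(K) being a finitely generated A-module for each i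
≥ m; pseudo-coherence of K relative to R (every degree) is equivalent to the same with H^i(K)
finitely generated for every i; and the A-module M is pseudo-coherent relative to R exactly when M
is finitely generated. -/
theorem result {R A : Type u} [CommRing R]
    [IsNoetherianRing R] [CommRing A] [Algebra R A] [Algebra.FiniteType R A] (m : ℤ) (K : Dual.D A)
    (M : Type u) [AddCommGroup M] [Module A M] :
    (DerCA.IsRelPseudoCoherent R A m K ↔
      (∃ b : ℤ, ∀ i : ℤ, b < i → Subsingleton (Dual.HD A K i)) ∧ ∀ i : ℤ, m ≤ i → Module.Finite A (Dual.HD A K i)) ∧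
    (DerCA.IsRelPseudoCoherentAll R A K ↔
      (∃ b : ℤ, ∀ i : ℤ, b < i → Subsingleton (Dual.HD A K i)) ∧ ∀ i : ℤ, Module.Finite A (Dual.HD A K i)) ∧
    (DerCA.IsRelPseudoCoherentModuleAll R A M ↔ Module.Finite A M) := by
  refine ⟨Groth.Agent.DRingPC.relPC_iff_finite m K, ⟨fun h => ⟨((Groth.Agent.DRingPC.relPC_iff_finite 0 K).1 (h 0)).1,
      fun i => ((Groth.Agent.DRingPC.relPC_iff_finite i K).1 (h i)).2 i le_rfl⟩,
    fun h j => (Groth.Agent.DRingPC.relPC_iff_finite j K).2 ⟨h.1, fun i _ => h.2 i⟩⟩, ?_⟩
  constructor
  · intro h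
    exact (Groth.Agent.DRingPC.finite_HD_inD_iff M).1 (((Groth.Agent.DRingPC.relPC_iff_finite 0 _).1 (h 0)).2 0 le_rfl)
  · intro h j
    refine (Groth.Agent.DRingPC.relPC_iff_finite j _).2 ⟨⟨0, fun i hi => Groth.Agent.DRingPC.subsingleton_HD_inD M i hi.ne'⟩, fun i _ => ?_⟩
    by_cases hi : i = 0
    · subst hi
      exact (Groth.Agent.DRingPC.finite_HD_inD_iff M).2 h
    · haveI : Subsingleton (Dual.HD A (Dual.inD A M) i) := Groth.Agent.DRingPC.subsingleton_HD_inD M i hi
      exact Module.Finite.of_finite

end Groth.Agent.S7026
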