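import Groth.Statements.S7031
import Groth.Agent.DRingPC.RegularPerfect
-- import your own Groth.Agent.* helpers here

set_option autoImplicit false
universe u
open CategoryTheory CategoryTheory.Limits
attribute [local instance] HasDerivedCategory.standard
open DRing

namespace Groth.Agent.S7031

/-- Let R be a regular commutative ring (Noetherian, with regular local rings at all primes) such that
the derived tensor product - ⊗^L_R M exists on D(R) for every R-module M, and let K be an object of
D(R). Then K is perfect if and only if H^i(K) = 0 outside a bounded range of degrees and every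
H^i(K) is a finitely generated R-module. -/
theorem result (R : Type u) [CommRing R] [IsNoetherianRing R]
    (hreg : ∀ p : PrimeSpectrum R, IsRegularLocalRing (Localization.AtPrime p.asIdeal)) [∀ M : ModuleCat.{u} R, DRing.HasLTensor R M] (K : Dual.D R) :
    DRing.IsPerfect R K ↔
      (∃ a b : ℤ, ∀ i : ℤ, (i < a ∨ b < i) → Subsingleton (Dual.HD R K i)) ∧ ∀ i : ℤ, Module.Finite R (Dual.HD R K i) := by
  constructor
  · rintro ⟨E, a, b, hz, hE, ⟨e⟩⟩
    obtain ⟨h1, -, hz', -⟩ := DRingPC.amplitude_rep_conv hz hE e
    refine ⟨⟨a, b, fun i hi => (DRingPC.subsingleton_iff_isZero _).2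
      (((HomologicalComplex.exactAt_iff_isZero_homology _ _).1
        (ShortComplex.exact_of_isZero_X₂ (E.sc i) (hz i hi))).of_iso
        ((DerivedCategory.homologyFunctor _ i).mapIso e.symm ≪≫ PCohLib.homologyQIso E i))⟩, fun i => ?_⟩
    exact ((DRingPC.NPC_iff_finite_of_noetherian i K).1 ((DRingPC.isPC_iff_NPC R i K).1 (h1 i))).2 i le_rfl
  · rintro ⟨⟨a, b, hb⟩, hK⟩
    haveI := DRingPC.isLE_of_subsingleton fun i hi => hb i (Or.inr hi)
    exact DRingPC.isPerfect_of_homology K a b
      (fun i hi => (DRingPC.subsingleton_iff_isZero _).1 (hb i (Or.inl hi)))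
      (fun i => (DRingPC.isPerfectModule_iff_finite_of_regular hreg _).2 (hK i))

end Groth.Agent.S7031
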