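import Groth.Statements.S7037
import Groth.Agent.DRingPC.LTensorCxValue
-- import your own Groth.Agent.* helpers here

set_option autoImplicit false
universe u
open CategoryTheory CategoryTheory.Limits
attribute [local instance] HasDerivedCategory.standard
open DRing

namespace Groth.Agent.S7037

/-- Let R be a commutative ring, K a pseudo-coherent object of D(R), and L a cochain complex of
R-modules which is pseudo-coherent as an object of D(R); assume the derived tensor product - ⊗^L_R L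
exists on D(R). Then K ⊗^L_R L is pseudo-coherent. -/
theorem result (R : Type u) [CommRing R] (K : Dual.D R) (hK : DRing.IsPseudoCoherent' R K)
    (L : DRing.Cx R) (hL : DRing.IsPseudoCoherent' R (DRing.toD L)) [DRing.HasLTensorCx R L] :
    DRing.IsPseudoCoherent' R ((DRing.LTensorCx R L).obj K) := by
  rw [Groth.Agent.DRingPC.isPC'_iff] at hK hL ⊢
  have rep : ∀ (M : Dual.D R), (∀ m, Groth.Agent.PCohLib.NPC (Groth.Agent.DRingPC.FF R) m M) →
      ∃ (E : DRing.Cx R) (b : ℤ), (∀ i, Groth.Agent.DRingPC.FF R (E.X i)) ∧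
        (∀ i, b < i → IsZero (E.X i)) ∧ Nonempty (DerivedCategory.Q.obj E ≅ M) := fun M hM => by
    obtain ⟨b, hb⟩ := (hM 0).isLE
    obtain ⟨E, hE, hz, he⟩ := Groth.Agent.PCohLib.exists_strictPCAll_vanishing
      (Groth.Agent.DRingPC.FF.sum R) (Groth.Agent.DRingPC.FF.qs R) (Groth.Agent.DRingPC.FF.ql R)
      (m := b + 1) (DerivedCategory.Q.objObjPreimageIso M)
      (fun k => (hM k).of_iso (DerivedCategory.Q.objObjPreimageIso M).symm)
      (fun i hi => M.isZero_of_isLE b i (by lia))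
    exact ⟨E, b, hE, fun i hi => hz i (by lia), he⟩
  obtain ⟨P, b₁, hP, hz₁, ⟨e₁⟩⟩ := rep K hK
  obtain ⟨L', b₂, hL', hz₂, ⟨e₂⟩⟩ := rep (DRing.toD L) hL
  obtain ⟨g, hg⟩ := Groth.Agent.PCohLib.exists_Q_map_eq (P := Groth.Agent.DRingPC.FPj R)
    (Groth.Agent.DRingPC.FPj.lift R) L' (fun i => Groth.Agent.DRingPC.FF.toFPj R (hL' i)) b₂ hz₂ L e₂.hom
  haveI : QuasiIso g := by
    rw [← DerivedCategory.isIso_Q_map_iff_quasiIso, hg]; infer_instance
  obtain ⟨e⟩ := Groth.Agent.DRingPC.nonempty_ltensorCx_iso L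
    (Groth.Agent.KFlat.isKFlat_of_boundedAbove b₁ hz₁
      (fun i => Groth.Agent.DRingPC.flat_of_FPj (Groth.Agent.DRingPC.FF.toFPj R (hP i)))) e₁ g inferInstance
  exact fun m => (Groth.Agent.DRingPC.NPC_FPj_iff m _).1 (Groth.Agent.PCohLib.NPC.mk
    ⟨⟨b₁ + b₂, Groth.Agent.DRingPC.isZero_tensorCx b₁ b₂ hz₁ hz₂⟩, fun i _ =>
      Groth.Agent.DRingPC.FPj_tensorCx b₁ b₂ hz₁ hz₂ (fun j => Groth.Agent.DRingPC.FF.toFPj R (hP j))
        (fun j => Groth.Agent.DRingPC.FF.toFPj R (hL' j)) i⟩ e)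

end Groth.Agent.S7037
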