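import Groth.Statements.S7038
import Groth.Agent.Torsion.PowerTorsion

set_option autoImplicit false
universe u
open LocCoh

namespace Groth.Agent.S7038

/-- For an ideal I of a commutative ring R and an R-module M, if every element of M is killed by a power
of I then the support of M is contained in the closed set V(I); conversely, when I is finitely
generated and the support of M is contained in V(I), every element of M is killed by a power of I.
(Finite generation is used only for the converse.) -/
theorem result {R : Type u} [CommRing R] (I : Ideal R)
    (M : Type u) [AddCommGroup M] [Module R M] :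
    (LocCoh.IsPowerTorsion I M → Module.support R M ⊆ PrimeSpectrum.zeroLocus (I : Set R)) ∧
    (I.FG → Module.support R M ⊆ PrimeSpectrum.zeroLocus (I : Set R) → LocCoh.IsPowerTorsion I M) := by
  constructor
  · intro h p hp
    rw [Module.mem_support_iff'] at hp
    obtain ⟨m, hm⟩ := hp
    obtain ⟨n, hn⟩ := h m
    rw [PrimeSpectrum.mem_zeroLocus, SetLike.coe_subset_coe]
    refine (Ideal.IsPrime.pow_le_iff (n := n + 1) (Nat.succ_ne_zero n)).mp fun a ha => ?_
    by_contra hap
    exact hm a hap (hn a (Ideal.pow_le_pow_right (Nat.le_succ n) ha))
  · intro hI h m
    apply Torsion.exists_pow_smul_eq_zero_of_le_radical I hI m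
    rw [Ideal.radical_eq_sInf]
    refine le_sInf fun P ⟨hP, hPp⟩ => ?_
    have hmem : (⟨P, hPp⟩ : PrimeSpectrum R) ∈ Module.support R M := by
      rw [Module.mem_support_iff']
      exact ⟨m, fun r hr hrm => hr (hP (Submodule.mem_annihilator_span_singleton _ _ |>.mpr hrm))⟩
    exact h hmem

end Groth.Agent.S7038
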