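import Groth.Statements.S7039
import Groth.Agent.Torsion.PowerTorsion

set_option autoImplicit false
universe u
open LocCoh

namespace Groth.Agent.S7039

/-- For a finitely generated ideal I of a commutative ring R and any R-module M, the quotient of M by
its submodule of I-power torsion elements has no nonzero element annihilated by I. -/
theorem result {R : Type u} [CommRing R] (I : Ideal R) (hI : I.FG)
    (M : Type u) [AddCommGroup M] [Module R M] :
    LocCoh.torsionBy I (M ⧸ DRing.torsionSub I M) = ⊥ := by
  rw [eq_bot_iff]
  intro x hx
  obtain ⟨m, rfl⟩ := Submodule.Quotient.mk_surjective _ x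
  rw [Submodule.mem_torsionBySet_iff] at hx
  rw [Submodule.mem_bot, Submodule.Quotient.mk_eq_zero]
  obtain ⟨k, hk⟩ := Torsion.exists_pow_mul_smul_eq_zero I I hI m fun a ha => by
    have := hx ⟨a, ha⟩
    rwa [← Submodule.Quotient.mk_smul, Submodule.Quotient.mk_eq_zero] at this
  exact ⟨k + 1, fun a ha => hk a (by rwa [← pow_succ])⟩

end Groth.Agent.S7039
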