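import Groth.Statements.S7040
import Groth.Agent.Torsion.PowerTorsion
import Mathlib.Algebra.Homology.ShortComplex.ModuleCat

set_option autoImplicit false
universe u
open CategoryTheory
open LocCoh

namespace Groth.Agent.S7040

/-- For a finitely generated ideal I of a commutative ring R, the property of being an I-power torsion
module (every element killed by a power of I) is a Serre class in the category of R-modules: it
holds for 0 and is closed under subobjects, quotients and extensions. -/
theorem result {R : Type u} [CommRing R] (I : Ideal R) (hI : I.FG) :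
    ObjectProperty.IsSerreClass (C := ModuleCat.{u} R) (fun M => LocCoh.IsPowerTorsion I M) := by
  exact
  { exists_zero := ⟨ModuleCat.of R PUnit.{u + 1}, ModuleCat.isZero_of_subsingleton _,
      fun m => ⟨0, fun a _ => Subsingleton.elim _ _⟩⟩
    prop_of_mono := fun {X Y} f _ hY m => by
      obtain ⟨n, hn⟩ := hY (f m)
      refine ⟨n, fun a ha => (ModuleCat.mono_iff_injective f).mp inferInstance ?_⟩
      rw [map_smul, hn a ha, map_zero]
    prop_of_epi := fun {X Y} f _ hX m => by
      obtain ⟨x, rfl⟩ := (ModuleCat.epi_iff_surjective f).mp inferInstance m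
      obtain ⟨n, hn⟩ := hX x
      exact ⟨n, fun a ha => by rw [← map_smul, hn a ha, map_zero]⟩
    prop_X₂_of_shortExact := fun {S} hS h₁ h₃ m => by
      obtain ⟨n, hn⟩ := h₃ (S.g m)
      obtain ⟨k, hk⟩ := Torsion.exists_pow_mul_smul_eq_zero I (I ^ n) (hI.pow) m fun a ha => by
        obtain ⟨y, hy⟩ := (S.moduleCat_exact_iff).mp hS.exact (a • m) (by rw [map_smul, hn a ha])
        obtain ⟨j, hj⟩ := h₁ y
        exact ⟨j, fun b hb => by rw [← hy, ← map_smul, hj b hb, map_zero]⟩
      exact ⟨k + n, fun a ha => hk a (by rwa [← pow_add])⟩ }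

end Groth.Agent.S7040
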