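import Groth.Statements.S7046
import Groth.Agent.DComplete.Adic
-- import your own Groth.Agent.* helpers here

set_option autoImplicit false
universe u
attribute [local instance] HasDerivedCategory.standard
open DRing

namespace Groth.Agent.S7046

/-- A reduced commutative ring A which, placed in degree 0 of D(A), is derived complete with respect to
a finitely generated ideal I is I-adically complete, i.e. separated and complete for the I-adic
topology. -/
theorem result {A : Type u} [CommRing A] [IsReduced A]
    (I : Ideal A) (hI : I.FG) (hc : DRing.IsDerivedComplete I (Dual.inD A A)) :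
    IsAdicComplete I A := by
  have h := (DComplete.isDerivedComplete_inD_iff I A).1 hc
  obtain ⟨l, hl⟩ := DComplete.exists_list_of_fg hI
  have hJ := DComplete.iInf_pow_eq_bot _ l rfl fun f hf => h f (hl ▸ Ideal.subset_span hf)
  rw [hl] at hJ
  have hJ' : (⨅ n : ℕ, I ^ n) = ⊥ := eq_bot_iff.2 fun x hx => by
    have hx' := Ideal.pow_mem_pow hx (2 ^ l.length)
    rw [hJ, Ideal.mem_bot] at hx'
    exact Ideal.mem_bot.2 (IsNilpotent.eq_zero ⟨_, hx'⟩)
  rw [← AdicCompletion.of_bijective_iff]
  refine ⟨(injective_iff_map_eq_zero _).2 fun x hx => ?_, DComplete.surjective_of I hI h⟩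
  have : x ∈ ⨅ n : ℕ, I ^ n := Submodule.mem_iInf _ |>.2 fun n => by
    have h1 := congrArg (fun y => y.val n) hx
    simp only [AdicCompletion.of_apply, AdicCompletion.val_zero, Pi.zero_apply,
      Submodule.mkQ_apply, Submodule.Quotient.mk_eq_zero, smul_eq_mul, Ideal.mul_top] at h1
    exact h1
  rwa [hJ', Ideal.mem_bot] at this

end Groth.Agent.S7046
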