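import Groth.Statements.S7047
import Groth.Agent.DComplete.Basic
-- import your own Groth.Agent.* helpers here

set_option autoImplicit false
universe u
attribute [local instance] HasDerivedCategory.standard
open DRing

namespace Groth.Agent.S7047

open CategoryTheory CategoryTheory.Limits CategoryTheory.Pretriangulated Groth.Agent.DComplete in
attribute [local instance] HasDerivedCategory.standard in
theorem isDerivedComplete_iff_single {A : Type u} [CommRing A] (f : A) (K : Dual.D A) :
    (∀ n : ℤ, Subsingleton (Dual.inD A (Localization.Away f) ⟶ K⟦n⟧)) ↔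
      ∀ n : ℤ, Tele (smulEnd (Dual.HD A K n) f) := by
  haveI : Mono (teleP f) := (ModuleCat.mono_iff_injective _).2 (teleP_injective f)
  haveI : Epi (awayP f) := (ModuleCat.epi_iff_surjective _).2 (awayP_surjective f)
  let S := ShortComplex.mk (teleP f) (awayP f)
    (ModuleCat.hom_ext (LinearMap.ext fun p => (tele_exact f).apply_apply_eq_zero p))
  have hS : S.ShortExact :=
    { exact := (ShortComplex.ShortExact.moduleCat_exact_iff_function_exact S).2 (tele_exact f) }
  have hproj : Module.Projective A (Polynomial A) :=
    Module.Projective.of_basis (Polynomial.basisMonomials A)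
  refine (forall_shift_hom_subsingleton_iff hS.singleTriangle_distinguished K).trans
    (forall_congr' fun n => ?_)
  have h1 := homZero_bijective (P := ModuleCat.of A (Polynomial A)) hproj (K⟦n⟧)
  let e := Equiv.ofBijective _ h1
  have hsq : (fun φ => teleP f ≫ φ) ∘ e = e ∘ fun α => hS.singleTriangle.mor₁ ≫ α := by
    funext α
    exact (homZero_comp (teleP f) α).symm
  have hiff : Function.Bijective (fun α => hS.singleTriangle.mor₁ ≫ α :
      (_ ⟶ K⟦n⟧) → (_ ⟶ K⟦n⟧)) ↔ Function.Bijective fun φ : _ ⟶ (DerivedCategory.homologyFunctor (ModuleCat.{u} A) 0).obj (K⟦n⟧) => teleP f ≫ φ := by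
    exact (Function.Bijective.of_comp_iff' e.bijective _).symm.trans
      (hsq ▸ Function.Bijective.of_comp_iff _ e.bijective)
  refine hiff.trans ((bijective_teleP_iff f _).trans ?_)
  let i := (((DerivedCategory.homologyFunctor (ModuleCat.{u} A) 0).shiftIso n 0 n (by lia)).app K).toLinearEquiv
  exact ⟨fun h => tele_of_bijective h i.toAddEquiv fun x => map_smul i f x,
    fun h => tele_of_bijective h i.symm.toAddEquiv fun x => map_smul i.symm f x⟩

open Groth.Agent.DComplete in
theorem tele_of_pow {M : Type*} [AddCommGroup M] (φ : M →+ M) (N : ℕ) (hN : 0 < N)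
    (ψ : M →+ M) (hψ : ∀ x, ψ x = φ^[N] x) (h : Tele ψ) : Tele φ := by
  have hadd : ∀ (i : ℕ) (x y : M), φ^[i] (x + y) = φ^[i] x + φ^[i] y := fun i => iterate_map_add φ i
  have hinj : ∀ x : ℕ → M, (∀ n, x n = φ^[N] (x (n + N))) → x = 0 := fun x hx => funext fun n => by
    have := congrFun (h.eq_zero (fun k => x (n + N * k)) fun k => by
      show x (n + N * k) = ψ (x (n + N * (k + 1)))
      rw [hψ, hx (n + N * k)]; congr 2; ring) 0
    simpa using this
  refine ⟨fun x y hxy => ?_, fun m => ?_⟩
  · have hd : ∀ n, (x - y) n = φ ((x - y) (n + 1)) := fun n => by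
      have := congrFun hxy n
      simp only [teleMap] at this
      simp only [Pi.sub_apply, map_sub]
      rw [sub_eq_sub_iff_sub_eq_sub] at this
      exact this
    have hd' : ∀ i n, (x - y) n = φ^[i] ((x - y) (n + i)) := by
      intro i
      induction i with
      | zero => exact fun n => rfl
      | succ i ih =>
        intro n
        rw [Function.iterate_succ_apply, show n + (i + 1) = n + i + 1 from rfl, ← hd (n + i)]
        exact ih n
    exact sub_eq_zero.1 (hinj _ fun n => hd' N n)
  · let m' : ℕ → M := fun n => ∑ i ∈ Finset.range N, φ^[i] (m (n + i))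
    let x : ℕ → M := fun n => h.sol fun k => m' (n + N * k)
    have hx : ∀ n, x n = m' n + φ^[N] (x (n + N)) := fun n => by
      refine (h.sol_succ _).trans ?_
      rw [hψ]
      have e : (fun k => m' (n + N * (k + 1))) = fun k => m' (n + N + N * k) :=
        funext fun k => by rw [show n + N * (k + 1) = n + N + N * k by ring]
      simp only [mul_zero, add_zero]
      rw [e]
    have hm' : ∀ n, m' n - φ (m' (n + 1)) = m n - φ^[N] (m (n + N)) := fun n => by
      simp only [m', map_sum, ← Function.iterate_succ_apply' φ]
      rw [← Finset.sum_sub_distrib]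
      have e : ∀ i, φ^[i + 1] (m (n + 1 + i)) = φ^[i + 1] (m (n + (i + 1))) := fun i => by
        rw [show n + 1 + i = n + (i + 1) by ring]
      simp only [Nat.succ_eq_add_one, e]
      exact Finset.sum_range_sub' (fun i => φ^[i] (m (n + i))) N
    refine ⟨x, funext fun n => sub_eq_zero.1 (congrFun (hinj (fun n => x n - φ (x (n + 1)) - m n) fun n => ?_) n)⟩
    rw [iterate_map_sub, iterate_map_sub, ← Function.iterate_succ_apply φ, Function.iterate_succ_apply' φ,
      show n + N + 1 = n + 1 + N by ring]
    have h1 := hx n
    have h2 := congrArg φ (hx (n + 1))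
    rw [map_add] at h2
    rw [h1, h2]
    have h3 := hm' n
    rw [sub_eq_iff_eq_add] at h3
    rw [h3]
    abel


/-- For a commutative ring A and an object K of D(A), the set of elements f of A such that every
morphism from A_f (placed in degree 0) to any shift K[n] vanishes is a radical ideal of A. -/
theorem result {A : Type u} [CommRing A] (K : Dual.D A) :
    ∃ J : Ideal A, J.IsRadical ∧
      (J : Set A) = {f : A | ∀ n : ℤ, Subsingleton (Dual.inD A (Localization.Away f) ⟶ K⟦n⟧)} := by
  open Groth.Agent.DComplete in
  have key : ∀ f : A, (∀ n : ℤ, Subsingleton (Dual.inD A (Localization.Away f) ⟶ K⟦n⟧)) ↔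
      ∀ n : ℤ, Tele (smulEnd (Dual.HD A K n) f) := by
    intro f
    exact isDerivedComplete_iff_single f K
  open Groth.Agent.DComplete in
  refine ⟨{ carrier := {f : A | ∀ n : ℤ, Tele (smulEnd (Dual.HD A K n) f)}
            add_mem' := fun {a b} ha hb n => ?_
            zero_mem' := fun n => ?_
            smul_mem' := fun c a ha n => ?_ }, ?_, ?_⟩
  · have := (ha n).add (hb n) fun x => smul_comm a b x
    rwa [show smulEnd (Dual.HD A K n) (a + b) = smulEnd _ a + smulEnd _ b from AddMonoidHom.ext fun x => add_smul a b x]
  · have : smulEnd (Dual.HD A K n) (0 : A) = 0 := AddMonoidHom.ext fun x => zero_smul A x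
    rw [this]; exact tele_zero
  · have := (ha n).mul (ψ := smulEnd _ c) fun x => smul_comm a c x
    rwa [show smulEnd (Dual.HD A K n) (c • a) = (smulEnd _ a).comp (smulEnd _ c) from
      AddMonoidHom.ext fun x => by
        show (c * a) • x = a • c • x
        rw [← mul_smul, mul_comm]]
  · rintro f ⟨N, hN⟩ n
    rcases Nat.eq_zero_or_pos N with rfl | hpos
    · have := (hN n).mul (ψ := smulEnd (Dual.HD A K n) f) fun x => smul_comm (f ^ 0) f x
      rwa [show (smulEnd (Dual.HD A K n) (f ^ 0)).comp (smulEnd _ f) = smulEnd _ f from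
        AddMonoidHom.ext fun x => by
          show (f ^ 0) • f • x = f • x
          rw [pow_zero, one_smul]] at this
    · exact tele_of_pow _ N hpos _ (fun x => (congrFun (smul_iterate (α := Dual.HD A K n) f N) x).symm) (hN n)
  · ext f; exact (key f).symm

end Groth.Agent.S7047
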