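import Groth.Statements.S7054
import Groth.Agent.DComplete.Module
-- import your own Groth.Agent.* helpers here

set_option autoImplicit false
universe u
attribute [local instance] HasDerivedCategory.standard
open DRing

namespace Groth.Agent.S7054

/-- For a commutative ring A and an ideal I such that A, placed in degree 0, is derived complete with
respect to I, every object of D(A) isomorphic to a bounded above complex of finite free A-modules is
derived complete with respect to I. -/
theorem result {A : Type u} [CommRing A] (I : Ideal A)
    (hA : DRing.IsDerivedComplete I (Dual.inD A A)) (K : Dual.D A) (hK : DRing.IsPseudoCoherent' A K) :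
    DRing.IsDerivedComplete I K := by
  rw [DComplete.isDerivedComplete_inD_iff] at hA
  obtain ⟨E, b, -, hE, ⟨e⟩⟩ := hK
  have h := DComplete.isDerivedComplete_of_termwise I E fun f hf i => by
    obtain ⟨h1, h2⟩ := hE i
    exact DComplete.tele_of_linearEquiv f (Module.Free.chooseBasis A (E.X i)).equivFun.symm
      (DComplete.tele_pi f fun _ => hA f hf)
  rw [DComplete.isDerivedComplete_iff] at h ⊢
  exact fun f hf n => DComplete.tele_of_linearEquiv f
    ((DerivedCategory.homologyFunctor _ n).mapIso e).toLinearEquiv (h f hf n)

end Groth.Agent.S7054
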