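import Groth.Statements.S7065
import Mathlib.RingTheory.Spectrum.Prime.Topology
-- import your own Groth.Agent.* helpers here

set_option autoImplicit false
universe u
open EtGlue

namespace Groth.Agent.S7065

/-- Let R → R' be a homomorphism of commutative rings and f an element of R such that the induced map
R/fR → R'/fR' is bijective. Then Spec(R') ⊔ Spec(R_f) → Spec(R) is surjective: every prime of R is
the contraction of a prime of R' or of a prime of R_f. -/
theorem result {R R' : Type u} [CommRing R] [CommRing R']
    [Algebra R R'] (f : R)
    (hq : Function.Bijective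
      (Ideal.quotientMap (Ideal.map (algebraMap R R') (Ideal.span {f})) (algebraMap R R') Ideal.le_comap_map))
    (p : PrimeSpectrum R) :
    (∃ q : PrimeSpectrum R', PrimeSpectrum.comap (algebraMap R R') q = p) ∨
      ∃ q : PrimeSpectrum (Localization.Away f), PrimeSpectrum.comap (algebraMap R (Localization.Away f)) q = p := by
  by_cases hfp : f ∈ p.asIdeal
  · left
    set e := RingEquiv.ofBijective _ hq
    haveI : (p.asIdeal.map (Ideal.Quotient.mk (Ideal.span {f}))).IsPrime :=
      Ideal.map_isPrime_of_surjective Ideal.Quotient.mk_surjective
        (by rw [Ideal.mk_ker, Ideal.span_singleton_le_iff_mem]; exact hfp)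
    refine ⟨⟨Ideal.comap (e.symm.toRingHom.comp (Ideal.Quotient.mk _))
      (p.asIdeal.map (Ideal.Quotient.mk (Ideal.span {f}))), Ideal.IsPrime.comap _⟩, PrimeSpectrum.ext ?_⟩
    have h1 : (e.symm.toRingHom.comp (Ideal.Quotient.mk _)).comp (algebraMap R R') =
        Ideal.Quotient.mk (Ideal.span {f}) := by
      refine RingHom.ext fun r => e.injective ?_
      simp only [RingHom.comp_apply, RingEquiv.toRingHom_eq_coe, RingEquiv.coe_toRingHom,
        RingEquiv.apply_symm_apply]
      rfl
    rw [PrimeSpectrum.comap_asIdeal]
    show Ideal.comap _ (Ideal.comap _ _) = _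
    rw [Ideal.comap_comap, h1, Ideal.comap_map_of_surjective _ Ideal.Quotient.mk_surjective,
      ← RingHom.ker_eq_comap_bot, Ideal.mk_ker, sup_eq_left, Ideal.span_singleton_le_iff_mem]
    exact hfp
  · right
    have h : p ∈ Set.range (PrimeSpectrum.comap (algebraMap R (Localization.Away f))) := by
      rw [PrimeSpectrum.localization_away_comap_range (Localization.Away f) f]
      exact hfp
    exact h

end Groth.Agent.S7065
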