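import Groth.Statements.S7069
import Groth.Agent.DRingPC.RegularPerfect
-- import your own Groth.Agent.* helpers here

set_option autoImplicit false
universe u
attribute [local instance] HasDerivedCategory.standard
open MoreMor

namespace Groth.Agent.S7069

/-- A finite type homomorphism of commutative rings A → B, where A is a regular ring of finite Krull
dimension, is perfect: pseudo-coherent with B of finite tor dimension as an A-module. -/
theorem result (A B : Type u) [CommRing A] [CommRing B] [Algebra A B]
    [IsRegularRing A] (hdim : ringKrullDim A < ⊤) [Algebra.FiniteType A B] : MoreMor.IsPerfectHom A B := by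
  obtain ⟨n, α, hα⟩ := DRingPC.exists_presentation_ft A B
  letI := α.toRingHom.toAlgebra
  haveI : IsScalarTower A (MvPolynomial (Fin n) A) B :=
    IsScalarTower.of_algebraMap_eq fun a => (α.commutes a).symm
  haveI : Module.Finite (MvPolynomial (Fin n) A) B :=
    Module.Finite.of_surjective (Algebra.linearMap (MvPolynomial (Fin n) A) B) hα
  haveI : IsRegularRing (MvPolynomial (Fin n) A) := inferInstance
  have hp : DRing.IsPerfectModule (MvPolynomial (Fin n) A) B :=
    (DRingPC.isPerfectModule_iff_finite_of_regular
      (fun p => IsRegularRing.isRegularLocalRing_localization p.asIdeal) B).2 inferInstance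
  obtain ⟨h1, h2⟩ := DRingPC.perfectModule_iff_torDim.1 hp
  exact ⟨⟨n, α, hα, h1⟩, h2⟩

end Groth.Agent.S7069
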