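import Groth.Statements.S7073
import Groth.Agent.DRingPC.LTensorValue
-- import your own Groth.Agent.* helpers here

set_option autoImplicit false
universe u
attribute [local instance] HasDerivedCategory.standard
open Dual2

namespace Groth.Agent.S7073

/-- For a flat homomorphism of finite presentation R → A of commutative rings, every perfect object of
D(A) is R-perfect, i.e. pseudo-coherent over A and of finite tor dimension as a complex of
R-modules. -/
theorem result (R A : Type u) [CommRing R] [CommRing A] [Algebra R A]
    [Module.Flat R A] [Algebra.FinitePresentation R A] (K : Dual.D A) (hK : DRing.IsPerfect A K) :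
    Dual2.IsRelPerfect R A K := by
  obtain ⟨E, a, b, hz, hE, ⟨e⟩⟩ := hK
  refine ⟨(Groth.Agent.DRingPC.isPC'_iff A K).2 fun m => (Groth.Agent.DRingPC.NPC_FPj_iff m _).1
    (Groth.Agent.PCohLib.NPC.mk ⟨⟨b, fun i hi => hz i (Or.inr hi)⟩, fun i _ => hE i⟩ e), a, b,
    ((ModuleCat.restrictScalars.{u} (algebraMap R A)).mapHomologicalComplex (ComplexShape.up ℤ)).obj E,
    fun i hi => (ModuleCat.restrictScalars.{u} (algebraMap R A)).map_isZero (hz i hi), fun i => ?_,
    ⟨(Groth.Agent.DRingPC.restrictQ (algebraMap R A) E).symm ≪≫
      (DRing.restrictD (algebraMap R A)).mapIso e⟩⟩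
  letI : Module R (E.X i) := Module.compHom (E.X i) (algebraMap R A)
  haveI : IsScalarTower R A (E.X i) := IsScalarTower.of_algebraMap_smul fun _ _ => rfl
  haveI : Module.Flat A (E.X i) := Groth.Agent.DRingPC.flat_of_FPj (hE i)
  exact Module.Flat.trans R A (E.X i)

end Groth.Agent.S7073
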