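import Groth.Statements.S7075
import Groth.Agent.DRingPC.PushoutTor
-- import your own Groth.Agent.* helpers here

set_option autoImplicit false
universe u
attribute [local instance] HasDerivedCategory.standard
open TensorProduct
open Dual2

namespace Groth.Agent.S7075

/-- Let R → A be a flat homomorphism of finite presentation of commutative rings, R → R' any ring map
and A' = R' ⊗_R A. If K in D(A) is R-perfect then its derived base change K ⊗^L_A A' (the total left
derived functor of extension of scalars, assumed to exist) is R'-perfect in D(A'). -/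
theorem result (R A R' : Type u) [CommRing R] [CommRing A] [Algebra R A] [CommRing R'] [Algebra R R']
    [Module.Flat R A] [Algebra.FinitePresentation R A]
    [DRing.HasLBaseChange (Algebra.TensorProduct.includeRight.toRingHom : A →+* R' ⊗[R] A)]
    (K : Dual.D A) (hK : Dual2.IsRelPerfect R A K) :
    Dual2.IsRelPerfect R' (R' ⊗[R] A)
      ((DRing.LBaseChange (Algebra.TensorProduct.includeRight.toRingHom : A →+* R' ⊗[R] A)).obj K) := by
  letI : Algebra A (R' ⊗[R] A) := Algebra.TensorProduct.rightAlgebra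
  haveI : DRing.HasLBaseChange (algebraMap A (R' ⊗[R] A)) :=
    (inferInstance : DRing.HasLBaseChange (Algebra.TensorProduct.includeRight.toRingHom : A →+* R' ⊗[R] A))
  refine ⟨Groth.Agent.DRingPC.isPC'_LBC _ hK.1, ?_⟩
  have hK' := (Groth.Agent.DRingPC.isPC'_iff A K).1 hK.1
  obtain ⟨a, b, hab⟩ := hK.2
  let K0 := K
  obtain ⟨c, hc⟩ := (hK' 0).isLE
  obtain ⟨E, hE, hz, ⟨e⟩⟩ := Groth.Agent.PCohLib.exists_strictPCAll_vanishing
    (Groth.Agent.DRingPC.FF.sum _) (Groth.Agent.DRingPC.FF.qs _) (Groth.Agent.DRingPC.FF.ql _)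
    (m := c + 1) (DerivedCategory.Q.objObjPreimageIso K0)
    (fun k => (hK' k).of_iso (DerivedCategory.Q.objObjPreimageIso K0).symm)
    (fun i hi => DerivedCategory.isZero_of_isLE K0 c i (by lia))
  have hEflat : ∀ i, Module.Flat A (E.X i) := fun i =>
    Groth.Agent.DRingPC.flat_of_FPj (Groth.Agent.DRingPC.FF.toFPj A (hE i))
  have hzE : ∀ i, c < i → CategoryTheory.Limits.IsZero (E.X i) := fun i hi => hz i (by lia)
  haveI := Groth.Agent.PCohLib.isKProjective_of_mem (P := Groth.Agent.DRingPC.FPj A)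
    (Groth.Agent.DRingPC.FPj.lift A) E (fun j => Groth.Agent.DRingPC.FF.toFPj A (hE j)) c hzE
  have hv := (Groth.Agent.DRingPC.torAmp_iff_kFlat
    (Groth.Agent.DRingPC.isKFlat_restrict (R := R) E c hzE hEflat)
    ((Groth.Agent.DRingPC.restrictQ (algebraMap R A) E).symm ≪≫
      (DRing.restrictD (algebraMap R A)).mapIso e) a b).1 hab
  refine ⟨a, b, (Groth.Agent.DRingPC.torAmp_iff_kFlat
    (Groth.Agent.DRingPC.isKFlat_restrict (R := R')
      ((Groth.Agent.LBC.ext (algebraMap A (R' ⊗[R] A))).obj E) c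
      (fun i hi => (ModuleCat.extendScalars _).map_isZero (hzE i hi))
      (fun i => Groth.Agent.DRingPC.flat_of_FPj
        (Groth.Agent.DRingPC.FPj_extend _ (Groth.Agent.DRingPC.FF.toFPj A (hE i)))))
    ((Groth.Agent.DRingPC.restrictQ (algebraMap R' (R' ⊗[R] A)) _).symm ≪≫
      (DRing.restrictD (algebraMap R' (R' ⊗[R] A))).mapIso
        ((Groth.Agent.LBC.valueIso (algebraMap A (R' ⊗[R] A)) E).symm ≪≫
          (DRing.LBaseChange _).mapIso e)) a b).2 fun N i hi => ?_⟩
  letI : Module R N := Module.compHom N (algebraMap R R')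
  haveI : IsScalarTower R R' N := IsScalarTower.of_algebraMap_smul fun _ _ => rfl
  exact (Groth.Agent.DRingPC.exactAt_tensor_pushout (R := R) (S := R') (A := A)
    (B := R' ⊗[R] A) N E i).2 (hv (ModuleCat.of R N) i hi)

end Groth.Agent.S7075
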