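import Groth.Statements.S7076
import Groth.Agent.DRingPC.PushoutTor
-- import your own Groth.Agent.* helpers here

set_option autoImplicit false
universe u
attribute [local instance] HasDerivedCategory.standard
open TensorProduct
open Dual2

namespace Groth.Agent.S7076

/-- Let R' → A' be a flat homomorphism of finite presentation of commutative rings, R' → R a surjective
homomorphism of rings with nilpotent kernel, A = R ⊗_{R'} A', and K' an object of D(A'). If the
derived base change K' ⊗^L_{A'} A (total left derived functor of extension of scalars, assumed to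
exist) is R-perfect in D(A), then K' is R'-perfect in D(A'). -/
theorem result (R' A' R : Type u) [CommRing R'] [CommRing A'] [Algebra R' A']
    [CommRing R] [Algebra R' R] [Module.Flat R' A'] [Algebra.FinitePresentation R' A']
    (hs : Function.Surjective (algebraMap R' R)) (hn : IsNilpotent (RingHom.ker (algebraMap R' R)))
    [DRing.HasLBaseChange (Algebra.TensorProduct.includeRight.toRingHom : A' →+* R ⊗[R'] A')]
    (K' : Dual.D A')
    (hK : Dual2.IsRelPerfect R (R ⊗[R'] A')
      ((DRing.LBaseChange (Algebra.TensorProduct.includeRight.toRingHom : A' →+* R ⊗[R'] A')).obj K')) :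
    Dual2.IsRelPerfect R' A' K' := by
  letI : Algebra A' (R ⊗[R'] A') := Algebra.TensorProduct.rightAlgebra
  haveI : DRing.HasLBaseChange (algebraMap A' (R ⊗[R'] A')) :=
    (inferInstance : DRing.HasLBaseChange (Algebra.TensorProduct.includeRight.toRingHom : A' →+* R ⊗[R'] A'))
  have hsurj : Function.Surjective (algebraMap A' (R ⊗[R'] A')) :=
    TensorProduct.mk_surjective _ _ _ hs
  have hker : IsNilpotent (RingHom.ker (algebraMap A' (R ⊗[R'] A'))) := by
    obtain ⟨n, hn⟩ := hn
    have hle : RingHom.ker (algebraMap A' (R ⊗[R'] A')) ≤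
        (RingHom.ker (algebraMap R' R)).map (algebraMap R' A') := by
      intro x hx
      let q := TensorProduct.congr
        (Ideal.quotientKerAlgEquivOfSurjective (f := Algebra.ofId R' R) hs).toLinearEquiv.symm
        (LinearEquiv.refl R' A')
      have h1 : q ((1 : R) ⊗ₜ[R'] x) = 0 := by
        rw [show ((1 : R) ⊗ₜ[R'] x) = 0 from hx, map_zero]
      have h2 : ((1 : R' ⧸ RingHom.ker (Algebra.ofId R' R).toRingHom) ⊗ₜ[R'] x) = 0 := by
        refine Eq.trans ?_ h1
        show _ = (Ideal.quotientKerAlgEquivOfSurjective (f := Algebra.ofId R' R) hs).symm 1 ⊗ₜ[R'] x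
        rw [map_one]
        rfl
      have h3 := congrArg (TensorProduct.quotTensorEquivQuotSMul A'
        (RingHom.ker (Algebra.ofId R' R).toRingHom)) h2
      rw [map_zero, ← map_one (Ideal.Quotient.mk _),
        TensorProduct.quotTensorEquivQuotSMul_mk_tmul, one_smul,
        Submodule.Quotient.mk_eq_zero, Ideal.smul_top_eq_map] at h3
      exact h3
    refine ⟨n, eq_bot_iff.2 ((Ideal.pow_right_mono hle n).trans ?_)⟩
    rw [← Ideal.map_pow, hn, Ideal.zero_eq_bot, Ideal.map_bot]
  obtain ⟨P, hP, hfl, ⟨eP⟩⟩ := Groth.Agent.DRingPC.exists_kFlat_rep K'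
  have hPC := (Groth.Agent.DRingPC.isPC'_iff _ _).1 hK.1
  obtain ⟨b₀, hb₀⟩ := (hPC 0).isLE
  obtain ⟨k, hk⟩ := Groth.Agent.DRingPC.prod_replicate_eq_bot hker
  have e' := Groth.Agent.DRingPC.lbcRep (algebraMap A' (R ⊗[R'] A')) hP eP
  have hK'pc : DRing.IsPseudoCoherent' A' K' := by
    have := (Groth.Agent.DRingPC.isPC'_iff _ _).1 (Groth.Agent.DRingPC.isPC'_of_thicken hk P hP hfl b₀
      (Groth.Agent.DRingPC.thickens_replicate _ hsurj k
        (@CategoryTheory.Triangulated.TStructure.isLE_of_iso _ _ _ _ _ _ _ DerivedCategory.TStructure.t _ _ e'.symm b₀ hb₀))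
      (Groth.Agent.DRingPC.thickens_replicate _ hsurj k (fun m => (hPC m).of_iso e'.symm)))
    exact (Groth.Agent.DRingPC.isPC'_iff _ _).2 fun m => (this m).of_iso eP
  refine ⟨hK'pc, ?_⟩
  have hK' := (Groth.Agent.DRingPC.isPC'_iff A' K').1 hK'pc
  obtain ⟨a, b, hab⟩ := hK.2
  let K0 := K'
  obtain ⟨c, hc⟩ := (hK' 0).isLE
  obtain ⟨E, hE, hz, ⟨e⟩⟩ := Groth.Agent.PCohLib.exists_strictPCAll_vanishing
    (Groth.Agent.DRingPC.FF.sum _) (Groth.Agent.DRingPC.FF.qs _) (Groth.Agent.DRingPC.FF.ql _)
    (m := c + 1) (DerivedCategory.Q.objObjPreimageIso K0)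
    (fun k => (hK' k).of_iso (DerivedCategory.Q.objObjPreimageIso K0).symm)
    (fun i hi => DerivedCategory.isZero_of_isLE K0 c i (by lia))
  have hEflat : ∀ i, Module.Flat A' (E.X i) := fun i =>
    Groth.Agent.DRingPC.flat_of_FPj (Groth.Agent.DRingPC.FF.toFPj A' (hE i))
  have hzE : ∀ i, c < i → CategoryTheory.Limits.IsZero (E.X i) := fun i hi => hz i (by lia)
  haveI := Groth.Agent.PCohLib.isKProjective_of_mem (P := Groth.Agent.DRingPC.FPj A')
    (Groth.Agent.DRingPC.FPj.lift A') E (fun j => Groth.Agent.DRingPC.FF.toFPj A' (hE j)) c hzE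
  have hv := (Groth.Agent.DRingPC.torAmp_iff_kFlat
    (Groth.Agent.DRingPC.isKFlat_restrict (R := R)
      ((Groth.Agent.LBC.ext (algebraMap A' (R ⊗[R'] A'))).obj E) c
      (fun i hi => (ModuleCat.extendScalars _).map_isZero (hzE i hi))
      (fun i => Groth.Agent.DRingPC.flat_of_FPj
        (Groth.Agent.DRingPC.FPj_extend _ (Groth.Agent.DRingPC.FF.toFPj A' (hE i)))))
    ((Groth.Agent.DRingPC.restrictQ (algebraMap R (R ⊗[R'] A')) _).symm ≪≫
      (DRing.restrictD (algebraMap R (R ⊗[R'] A'))).mapIso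
        ((Groth.Agent.LBC.valueIso (algebraMap A' (R ⊗[R'] A')) E).symm ≪≫
          (DRing.LBaseChange _).mapIso e)) a b).1 hab
  obtain ⟨n, hn'⟩ := hn
  refine ⟨a, b, (Groth.Agent.DRingPC.torAmp_iff_kFlat
    (Groth.Agent.DRingPC.isKFlat_restrict (R := R') E c hzE hEflat)
    ((Groth.Agent.DRingPC.restrictQ (algebraMap R' A') E).symm ≪≫
      (DRing.restrictD (algebraMap R' A')).mapIso e) a b).2 fun N i hi => ?_⟩
  refine Groth.Agent.DRingPC.exactAt_tensor_of_pow (RingHom.ker (algebraMap R' R))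
    (((ModuleCat.restrictScalars.{u} (algebraMap R' A')).mapHomologicalComplex (ComplexShape.up ℤ)).obj E)
    (fun j => Groth.Agent.DRingPC.flat_restrict (hEflat j)) i (fun N' hN' => ?_) n N
    (by rw [hn', Ideal.zero_eq_bot, Submodule.bot_smul])
  obtain ⟨m, htow⟩ := Groth.Agent.DRingPC.exists_module_of_surjective (B := R) hs N' hN'
  letI := m
  haveI := htow
  exact (Groth.Agent.DRingPC.exactAt_tensor_pushout (R := R') (S := R) (A := A')
    (B := R ⊗[R'] A') N' E i).1 (hv (ModuleCat.of R N') i hi)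

end Groth.Agent.S7076
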