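import Groth.Statements.S7077
import Groth.Agent.TwoTerm.Rep
-- import your own Groth.Agent.* helpers here

set_option autoImplicit false
universe u
attribute [local instance] HasDerivedCategory.standard
open CategoryTheory
open DRing

namespace Groth.Agent.S7077
open Groth.Agent.TwoTerm Groth.Agent.DRingPC Groth.Agent.PCohLib CategoryTheory.Limits

/-- (1)⇔(2): let R be a commutative ring and K an object of D(R) whose cohomology modules vanish outside
degrees -1 and 0. Then H^{-1}(K) vanishes and H^0(K) is a projective R-module if and only if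
Ext^1_R(K, M) = Hom_{D(R)}(K, M[1]) vanishes for every R-module M. -/
theorem result {R : Type u} [CommRing R] (K : Dual.D R)
    (hK : ∀ i : ℤ, i ≠ -1 → i ≠ 0 → Subsingleton (Dual.HD R K i)) :
    (Subsingleton (Dual.HD R K (-1)) ∧ Module.Projective R (Dual.HD R K 0)) ↔
      ∀ (M : Type u) [AddCommGroup M] [Module R M], Subsingleton (K ⟶ (Dual.inD R M)⟦(1 : ℤ)⟧) := by
  obtain ⟨E, hE, hE0, ⟨e⟩⟩ := exists_twoTerm_rep K hK
  have hb : ∀ i, 0 < i → IsZero (E.X i) := fun i hi => hE i (Or.inr hi)
  let d : E.X (-1) →ₗ[R] E.X 0 := (E.d (-1) 0).hom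
  let q : (E.X 0 ⧸ LinearMap.range d) ≃ₗ[R] Dual.HD R K 0 := HD_zero_equiv e hE
  rw [subsingleton_HD_neg_one_iff e hE]
  constructor
  · rintro ⟨hinj, hproj⟩ M _ _
    refine subsingleton_of_forall_eq 0 fun ξ => ?_
    obtain ⟨g, hg⟩ := cls_surjective_one (N := ModuleCat.of R M) hb hE0 (e.hom ≫ ξ)
    haveI := hproj
    haveI : Module.Projective R (E.X 0 ⧸ LinearMap.range d) := Module.Projective.of_equiv q.symm
    obtain ⟨s, hs⟩ := Module.projective_lifting_property (LinearMap.range d).mkQ LinearMap.id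
      (Submodule.mkQ_surjective _)
    obtain ⟨t, ht⟩ : ∃ t : E.X 0 →ₗ[R] E.X (-1), t ∘ₗ d = LinearMap.id := by
      have hmem : ∀ x, x - s ((LinearMap.range d).mkQ x) ∈ LinearMap.range d := fun x => by
        rw [← Submodule.Quotient.mk_eq_zero, Submodule.Quotient.mk_sub, sub_eq_zero]
        exact (LinearMap.congr_fun hs _).symm
      refine ⟨(LinearEquiv.ofInjective d hinj).symm.toLinearMap ∘ₗ
        LinearMap.codRestrict (LinearMap.range d) (LinearMap.id - s ∘ₗ (LinearMap.range d).mkQ) hmem, ?_⟩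
      refine LinearMap.ext fun x => hinj ?_
      have h0 : (LinearMap.range d).mkQ (d x) = 0 := (Submodule.Quotient.mk_eq_zero _).2 ⟨x, rfl⟩
      refine (LinearEquiv.ofInjective_symm_apply d (h := hinj) _).trans ?_
      show d x - s ((LinearMap.range d).mkQ (d x)) = d x
      rw [h0, map_zero, sub_zero]
    rw [← cancel_epi e.hom, comp_zero, ← hg]
    exact (cls_eq_zero_iff_one hb _).2 ⟨ModuleCat.ofHom (g.1 ∘ₗ t),
      ModuleCat.hom_ext ((LinearMap.comp_assoc _ _ _).trans (congrArg (g.1 ∘ₗ ·) ht))⟩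
  · intro h
    have h0 : cls (idCocyc hE) = 0 := by
      haveI := h (E.X (-1))
      rw [← cancel_epi e.inv, comp_zero]
      exact Subsingleton.elim _ _
    obtain ⟨t, ht⟩ := (cls_eq_zero_iff_one hb _).1 h0
    have ht' : ∀ x, t.hom (d x) = x := fun x => LinearMap.congr_fun (congrArg ModuleCat.Hom.hom ht) x
    refine ⟨Function.LeftInverse.injective ht', ?_⟩
    haveI : Module.Projective R (E.X 0 ⧸ LinearMap.range d) := by
      refine Module.Projective.of_split ((LinearMap.range d).liftQ (LinearMap.id - d ∘ₗ t.hom) ?_)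
        (LinearMap.range d).mkQ ?_
      · rintro _ ⟨x, rfl⟩
        show d x - d (t.hom (d x)) = 0
        rw [ht', sub_self]
      · refine Submodule.linearMap_qext _ (LinearMap.ext fun x => ?_)
        show (LinearMap.range d).mkQ (x - d (t.hom x)) = (LinearMap.range d).mkQ x
        rw [map_sub, sub_eq_self]
        exact (Submodule.Quotient.mk_eq_zero _).2 ⟨_, rfl⟩
    exact Module.Projective.of_equiv q

end Groth.Agent.S7077
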