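import Groth.Statements.S7078
import Groth.Agent.DRingPC.TorAmp
-- import your own Groth.Agent.* helpers here

set_option autoImplicit false
universe u
attribute [local instance] HasDerivedCategory.standard
open CategoryTheory
open DRing

namespace Groth.Agent.S7078
open Groth.Agent.PCohLib Groth.Agent.DRingPC CategoryTheory.Limits

variable (A : Type u) [CommRing A]

/-- Free modules. -/
def FR : ObjectProperty (ModuleCat.{u} A) := fun M => Module.Free A M

instance : (FR A).IsClosedUnderIsomorphisms where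
  of_iso {X Y} e h := haveI : Module.Free A X := h; Module.Free.of_equiv e.toLinearEquiv

instance : (FR A).ContainsZero where
  exists_zero := ⟨ModuleCat.of A PUnit.{u + 1}, ModuleCat.isZero_of_subsingleton _,
    (inferInstance : Module.Free A PUnit.{u + 1})⟩

lemma FR.sum (X Y : ModuleCat.{u} A) (hX : FR A X) (hY : FR A Y) : FR A (X ⨯ Y) := by
  haveI : Module.Free A X := hX
  haveI : Module.Free A Y := hY
  exact (FR A).prop_of_iso ((ModuleCat.biprodIsoProd X Y).symm ≪≫ biprod.isoProd X Y)
    (inferInstance : Module.Free A (X × Y))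

lemma FR.ft (M : ModuleCat.{u} A) : PCoh.IsOfFiniteType (FR A) M :=
  ⟨ModuleCat.of A (M →₀ A), ModuleCat.ofHom (Finsupp.linearCombination A (id : M → M)),
    (inferInstance : Module.Free A (M →₀ A)),
    (ModuleCat.epi_iff_surjective _).2 (Finsupp.linearCombination_id_surjective A M)⟩

lemma FR.qs : PCoh.IsQuasiStableUnderKernels (FR A) := fun _ _ _ _ => FR.ft A _

lemma FR.lift (E F : ModuleCat.{u} A) (f : E ⟶ F) (hf : Epi f) (hF : FR A F) : IsSplitEpi f :=
  PR.lift A E F f hf (haveI : Module.Free A F := hF; (inferInstance : Module.Projective A F))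

lemma FR.ql : PCoh.IsQuasiLiftable (FR A) := quasiLiftable_of_liftable (FR.lift A)

lemma exists_free_rep (K : Dual.D A) (b : ℤ) [K.IsLE b] :
    ∃ P : DRing.Cx A, (∀ i, Module.Free A (P.X i)) ∧ (∀ i, b < i → IsZero (P.X i)) ∧
      Nonempty (DerivedCategory.Q.obj P ≅ K) := by
  have hPC : ∀ n, NPC (FR A) n K := fun n =>
    NPC_of_homology (FR.sum A) (FR.qs A) (FR.ql A) n K b fun i _ =>
      NPC_single_of_coh (FR.sum A) (FR.ql A) (fun X _ => fun _ _ _ => FR.ft A _)
        ⟨FR.ft A _, fun _ _ _ => FR.ft A _⟩ _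
  obtain ⟨P, hP, hPz, e⟩ := exists_strictPCAll_vanishing (FR.sum A) (FR.qs A) (FR.ql A)
    (m := b + 1) (DerivedCategory.Q.objObjPreimageIso K)
    (fun n => (hPC n).of_iso (DerivedCategory.Q.objObjPreimageIso K).symm)
    (fun i hi => K.isZero_of_isLE b i (by lia))
  exact ⟨P, hP, fun i hi => hPz i (by lia), e⟩

/-- For a commutative ring R and an object K of D(R) whose cohomology modules vanish outside degrees -1
and 0, K is represented by a two-term complex K^{-1} → K^0 with K^0 a free R-module. -/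
theorem result {R : Type u} [CommRing R] (K : Dual.D R)
    (hK : ∀ i : ℤ, i ≠ -1 → i ≠ 0 → Subsingleton (Dual.HD R K i)) :
    ∃ E : DRing.Cx R, DRing.VanishesOutside E (-1) 0 ∧ Module.Free R (E.X 0) ∧ Nonempty (DRing.toD E ≅ K) := by
  haveI : K.IsLE 0 := (DerivedCategory.isLE_iff _ _).2 fun i hi =>
    (subsingleton_iff_isZero _).1 (hK i (by lia) (by lia))
  obtain ⟨P, hP, hz, ⟨e⟩⟩ := exists_free_rep R K 0
  haveI : P.IsGE (-1) := (CochainComplex.isGE_iff _ _).2 fun i hi => by
    rw [HomologicalComplex.exactAt_iff_isZero_homology]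
    exact ((subsingleton_iff_isZero _).1 (hK i (by lia) (by lia))).of_iso
      ((homologyQIso P i).symm ≪≫ (DerivedCategory.homologyFunctor _ i).mapIso e)
  refine ⟨P.truncGE (-1), fun i hi => ?_, (FR R).prop_of_iso (P.truncGEXIso (-1) 0 (by lia)).symm (hP 0),
    ⟨(asIso (DerivedCategory.Q.map (P.πTruncGE (-1)))).symm ≪≫ e⟩⟩
  rcases hi with hi | hi
  · exact (P.truncGE (-1)).isZero_of_isStrictlyGE (-1) i hi
  · exact (hz i hi).of_iso (P.truncGEXIso (-1) i (by lia))

end Groth.Agent.S7078
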