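import Groth.Statements.S7079
import Groth.Agent.TwoTerm.Rep
import Groth.Agent.DRingPC.Module
-- import your own Groth.Agent.* helpers here

set_option autoImplicit false
universe u
attribute [local instance] HasDerivedCategory.standard
open CategoryTheory
open DRing

namespace Groth.Agent.S7079
open Groth.Agent.TwoTerm Groth.Agent.DRingPC Groth.Agent.PCohLib CategoryTheory.Limits

/-- For a Noetherian commutative ring R and an object K of D(R) whose cohomology modules vanish outside
degrees -1 and 0 and are finite modules in those two degrees, K is represented by a two-term complex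
K^{-1} → K^0 with K^0 finite free and K^{-1} finite. -/
theorem result {R : Type u} [CommRing R] [IsNoetherianRing R] (K : Dual.D R)
    (hK : ∀ i : ℤ, i ≠ -1 → i ≠ 0 → Subsingleton (Dual.HD R K i))
    (h1 : Module.Finite R (Dual.HD R K (-1))) (h0 : Module.Finite R (Dual.HD R K 0)) :
    ∃ E : DRing.Cx R, DRing.VanishesOutside E (-1) 0 ∧ Module.Free R (E.X 0) ∧ Module.Finite R (E.X 0) ∧
      Module.Finite R (E.X (-1)) ∧ Nonempty (DRing.toD E ≅ K) := by
  haveI := isLE_of_subsingleton (K := K) (b := 0) (fun i hi => hK i (by lia) (by lia))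
  have hfin : ∀ i : ℤ, Module.Finite R (Dual.HD R K i) := fun i => by
    by_cases a : i = -1
    · subst a; exact h1
    by_cases b : i = 0
    · subst b; exact h0
    haveI := hK i a b
    infer_instance
  have hPC : ∀ n, NPC (FF R) n K := fun n => (NPC_iff_finite_of_noetherian n K).2
    ⟨⟨0, fun i hi => hK i (by lia) (by lia)⟩, fun i _ => hfin i⟩
  obtain ⟨P, hP, hPz, ⟨e⟩⟩ := exists_strictPCAll_vanishing (FF.sum R) (FF.qs R) (FF.ql R)
    (m := (1 : ℤ)) (DerivedCategory.Q.objObjPreimageIso K)
    (fun n => (hPC n).of_iso (DerivedCategory.Q.objObjPreimageIso K).symm)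
    (fun i hi => K.isZero_of_isLE 0 i (by lia))
  obtain ⟨hv, he⟩ := twoTerm_of_rep (fun i hi => hPz i (by lia)) e hK
  haveI := (hP 0).1
  haveI := (hP 0).2
  haveI := (hP (-1)).1
  let q := (P.truncGEXIso (-1) 0 (by lia)).symm.toLinearEquiv
  refine ⟨_, hv, Module.Free.of_equiv q, Module.Finite.equiv q, ?_, he⟩
  exact Module.Finite.of_surjective (P.pOpcycles (-1) ≫ (P.truncGEXIsoOpcycles (-1)).inv).hom
    ((ModuleCat.epi_iff_surjective _).1 inferInstance)

end Groth.Agent.S7079
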