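import Groth.Statements.S7080
import Groth.Agent.DRingPC.Basic
import Mathlib.Algebra.Homology.DerivedCategory.TStructure
-- import your own Groth.Agent.* helpers here

set_option autoImplicit false
universe u
attribute [local instance] HasDerivedCategory.standard
open CategoryTheory
open DRing

namespace Groth.Agent.S7080
open Groth.Agent.DRingPC CategoryTheory.Limits

/-- Let R be a commutative ring and α : K → K' a morphism in D(R) between objects whose cohomology
vanishes outside degrees -1 and 0, such that H^0(α) is an isomorphism and H^{-1}(α) is surjective.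
If multiplication by an element f of R is the zero endomorphism of K in D(R), then it is also the
zero endomorphism of K'. -/
theorem result {R : Type u} [CommRing R] {K K' : Dual.D R} (α : K ⟶ K')
    (hK : ∀ i : ℤ, i ≠ -1 → i ≠ 0 → Subsingleton (Dual.HD R K i))
    (hK' : ∀ i : ℤ, i ≠ -1 → i ≠ 0 → Subsingleton (Dual.HD R K' i))
    (h0 : IsIso ((DerivedCategory.homologyFunctor (ModuleCat.{u} R) 0).map α))
    (h1 : Epi ((DerivedCategory.homologyFunctor (ModuleCat.{u} R) (-1)).map α))
    (f : R) (hf : f • (𝟙 K) = 0) : f • (𝟙 K') = 0 := by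
  obtain ⟨C, g, w, hT⟩ := Pretriangulated.distinguished_cocone_triangle α
  haveI : IsIso ((DerivedCategory.homologyFunctor (ModuleCat.{u} R) 0).map α) := h0
  have hz : ∀ (L : Dual.D R) (i : ℤ), (∀ i : ℤ, i ≠ -1 → i ≠ 0 → Subsingleton (Dual.HD R L i)) →
      i ≠ -1 → i ≠ 0 → IsZero ((DerivedCategory.homologyFunctor (ModuleCat.{u} R) i).obj L) :=
    fun L i hL a b => (subsingleton_iff_isZero _).1 (hL i a b)
  have hepi : ∀ i : ℤ, -1 ≤ i → Epi ((DerivedCategory.homologyFunctor (ModuleCat.{u} R) i).map α) := by
    intro i hi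
    by_cases a : i = -1
    · subst a; exact h1
    by_cases b : i = 0
    · subst b; infer_instance
    exact (hz K' i hK' a b).epi _
  have hmono : ∀ i : ℤ, 0 ≤ i → Mono ((DerivedCategory.homologyFunctor (ModuleCat.{u} R) i).map α) := by
    intro i hi
    by_cases b : i = 0
    · subst b; infer_instance
    exact (hz K i hK (by lia) b).mono _
  haveI : C.IsLE (-2) := by
    rw [DerivedCategory.isLE_iff]
    intro i hi
    haveI := hepi i (by lia)
    haveI := hmono (i + 1) (by lia)
    refine (DerivedCategory.HomologySequence.exact₃ _ hT i (i + 1) rfl).isZero_of_both_zeros ?_ ?_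
    · exact (DerivedCategory.HomologySequence.epi_homologyMap_mor₁_iff _ hT i).1 (hepi i (by lia))
    · exact (DerivedCategory.HomologySequence.mono_homologyMap_mor₁_iff _ hT i (i + 1) rfl).1 (hmono (i + 1) (by lia))
  haveI : K'.IsGE (-1) := by
    rw [DerivedCategory.isGE_iff]
    intro i hi
    exact hz K' i hK' (by lia) (by lia)
  have hα : α ≫ (f • 𝟙 K') = 0 := by
    rw [Linear.comp_smul, Category.comp_id, ← Category.id_comp α, ← Linear.smul_comp, hf, zero_comp]
  obtain ⟨β, hβ⟩ := Pretriangulated.Triangle.yoneda_exact₂ _ hT (f • 𝟙 K') hα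
  exact hβ.trans ((congrArg (_ ≫ ·) ((DerivedCategory.TStructure.t).zero_of_isLE_of_isGE β (-2) (-1) (by lia)
    ‹C.IsLE (-2)› ‹K'.IsGE (-1)›)).trans comp_zero)

end Groth.Agent.S7080
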