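import Groth.Statements.S7081
import Groth.Agent.TwoTerm.Cone
-- import your own Groth.Agent.* helpers here

set_option autoImplicit false
universe u
attribute [local instance] HasDerivedCategory.standard
open CategoryTheory
open DRing

namespace Groth.Agent.S7081

/-- Let R be a commutative ring and φ : K₁ → K₂, ψ : K₂ → K₃ morphisms in D(R) between objects whose
cohomology vanishes outside degrees -1 and 0. If φ induces the zero map on H^0 and ψ induces the
zero map on H^{-1}, then the composite K₁ → K₃ is zero. -/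
theorem result {R : Type u} [CommRing R] {K₁ K₂ K₃ : Dual.D R}
    (φ : K₁ ⟶ K₂) (ψ : K₂ ⟶ K₃)
    (h₁ : ∀ i : ℤ, i ≠ -1 → i ≠ 0 → Subsingleton (Dual.HD R K₁ i))
    (h₂ : ∀ i : ℤ, i ≠ -1 → i ≠ 0 → Subsingleton (Dual.HD R K₂ i))
    (h₃ : ∀ i : ℤ, i ≠ -1 → i ≠ 0 → Subsingleton (Dual.HD R K₃ i))
    (hφ : (DerivedCategory.homologyFunctor (ModuleCat.{u} R) 0).map φ = 0)
    (hψ : (DerivedCategory.homologyFunctor (ModuleCat.{u} R) (-1)).map ψ = 0) :
    φ ≫ ψ = 0 := by
  let t : Triangulated.TStructure (Dual.D R) := DerivedCategory.TStructure.t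
  haveI : K₁.IsLE 0 := (K₁.isLE_iff 0).2 fun i hi =>
    @ModuleCat.isZero_of_subsingleton _ _ _ (h₁ i (by lia) (by lia))
  haveI : K₃.IsGE (-1) := (K₃.isGE_iff (-1)).2 fun i hi =>
    @ModuleCat.isZero_of_subsingleton _ _ _ (h₃ i (by lia) (by lia))
  have hπ : φ ≫ (t.truncGEπ 0).app K₂ = 0 := by
    haveI : DerivedCategory.IsGE ((t.truncGE 0).obj K₂) 0 := inferInstanceAs (t.IsGE ((t.truncGE 0).obj K₂) 0)
    refine Groth.Agent.TriH.TruncFactor.eq_zero_of_homology 0 _ ?_
    rw [Functor.map_comp, hφ, Limits.zero_comp]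
  obtain ⟨φ', hφ'⟩ := Pretriangulated.Triangle.coyoneda_exact₂ _
    (t.triangleLEGE_distinguished (-1) 0 (by lia) K₂) φ hπ
  have hι : (t.truncLEι (-1)).app K₂ ≫ ψ = 0 := by
    haveI : DerivedCategory.IsLE ((t.truncLE (-1)).obj K₂) (-1) := inferInstanceAs (t.IsLE ((t.truncLE (-1)).obj K₂) (-1))
    refine Groth.Agent.TriH.TruncFactor.eq_zero_of_homology (-1) _ ?_
    rw [Functor.map_comp, hψ, Limits.comp_zero]
  exact (congrArg (· ≫ ψ) hφ').trans ((Category.assoc _ _ _).trans ((congrArg (φ' ≫ ·) hι).trans Limits.comp_zero))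

end Groth.Agent.S7081
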