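import Groth.Statements.S7082
import Groth.Agent.TwoTerm.Rep
-- import your own Groth.Agent.* helpers here

set_option autoImplicit false
universe u
attribute [local instance] HasDerivedCategory.standard
open CategoryTheory
open DRing

namespace Groth.Agent.S7082
open Groth.Agent.TwoTerm Groth.Agent.DRingPC Groth.Agent.PCohLib CategoryTheory.Limits

/-- (1)⇔(3): let R be a commutative ring, I an ideal and K an object of D(R) whose cohomology vanishes
outside degrees -1 and 0. Then I annihilates Ext^1_R(K, N) = Hom_{D(R)}(K, N[1]) for every R-module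
N if and only if, for every two-term complex E in degrees -1 and 0 with E^0 projective that
represents K, and every a in I, multiplication by a on E^{-1} factors through the differential
E^{-1} → E^0. -/
theorem result {R : Type u} [CommRing R] (I : Ideal R) (K : Dual.D R)
    (hK : ∀ i : ℤ, i ≠ -1 → i ≠ 0 → Subsingleton (Dual.HD R K i)) :
    (∀ (N : Type u) [AddCommGroup N] [Module R N] (a : R), a ∈ I →
        ∀ ξ : K ⟶ (Dual.inD R N)⟦(1 : ℤ)⟧, a • ξ = 0) ↔
      ∀ (E : DRing.Cx R), DRing.VanishesOutside E (-1) 0 → Module.Projective R (E.X 0) →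
        Nonempty (DRing.toD E ≅ K) → ∀ a : R, a ∈ I →
          ∃ h : E.X 0 ⟶ E.X (-1), E.d (-1) 0 ≫ h = a • 𝟙 (E.X (-1)) := by
  constructor
  · rintro h E hE hE0 ⟨e⟩ a ha
    have h0 := h (E.X (-1)) a ha (e.inv ≫ cls (idCocyc hE))
    rw [← Linear.comp_smul, ← cls_smul] at h0
    have h1 : cls (a • idCocyc hE) = 0 := by
      rw [← cancel_epi e.inv, comp_zero]
      exact h0
    obtain ⟨g, hg⟩ := (cls_eq_zero_iff_one (fun i hi => hE i (Or.inr hi)) _).1 h1
    exact ⟨g, hg⟩
  · intro h N _ _ a ha ξ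
    obtain ⟨E, hE, hE0, ⟨e⟩⟩ := exists_twoTerm_rep K hK
    obtain ⟨g, hg⟩ := cls_surjective_one (N := ModuleCat.of R N) (fun i hi => hE i (Or.inr hi)) hE0 (e.hom ≫ ξ)
    obtain ⟨k, hk⟩ := h E hE hE0 ⟨e⟩ a ha
    have h1 : cls (a • g) = 0 := (cls_eq_zero_iff_one (fun i hi => hE i (Or.inr hi)) _).2
      ⟨k ≫ ModuleCat.ofHom g.1, by
        rw [← Category.assoc, hk, Linear.smul_comp, Category.id_comp]
        rfl⟩
    rw [← cancel_epi e.hom, comp_zero, Linear.comp_smul, ← hg, ← cls_smul]
    exact h1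

end Groth.Agent.S7082
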