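import Groth.Statements.S7085
import Groth.Agent.Torsion.PowerTorsion

set_option autoImplicit false
universe u
open LocCoh

namespace Groth.Agent.S7085

/-- Let R be a commutative ring, I an ideal generated by finitely many elements f_1, …, f_t, and M an
R-module. Then: M has no nonzero element killed by I if and only if it has no nonzero element killed
by I^n for every n ≥ 1; and M has no nonzero element killed by I if and only if an element of M
vanishing in every localization M_{f_i} is zero. -/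
theorem result {R : Type u} [CommRing R] {t : ℕ} (f : Fin t → R)
    (I : Ideal R) (hI : Ideal.span (Set.range f) = I) (M : Type u) [AddCommGroup M] [Module R M] :
    (LocCoh.torsionBy I M = ⊥ ↔ ∀ n : ℕ, 1 ≤ n → LocCoh.torsionBy (I ^ n) M = ⊥) ∧
    (LocCoh.torsionBy I M = ⊥ ↔
      ∀ m : M, (∀ i : Fin t, LocalizedModule.mkLinearMap (Submonoid.powers (f i)) M m = 0) → m = 0) := by
  have key : ∀ (J : Ideal R), LocCoh.torsionBy J M = ⊥ ↔ ∀ m : M, (∀ a ∈ J, a • m = 0) → m = 0 := by
    intro J
    simp [LocCoh.torsionBy, Submodule.eq_bot_iff, Submodule.mem_torsionBySet_iff]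
  have hloc : ∀ (i : Fin t) (m : M),
      LocalizedModule.mkLinearMap (Submonoid.powers (f i)) M m = 0 ↔ ∃ k : ℕ, f i ^ k • m = 0 := by
    intro i m
    rw [IsLocalizedModule.eq_zero_iff (Submonoid.powers (f i))]
    constructor
    · rintro ⟨⟨_, k, rfl⟩, h⟩; exact ⟨k, h⟩
    · rintro ⟨k, h⟩; exact ⟨⟨_, k, rfl⟩, h⟩
  refine ⟨⟨fun h n _ => (key _).mpr (Torsion.eq_zero_of_pow_smul_eq_zero I ((key I).mp h) n),
    fun h => by simpa using h 1 le_rfl⟩, ⟨fun h m hm => ?_, fun h => (key I).mpr fun m hm => ?_⟩⟩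
  · have hfg : I.FG := hI ▸ Submodule.fg_span (Set.finite_range f)
    obtain ⟨n, hn⟩ := Torsion.exists_pow_smul_eq_zero_of_le_radical I hfg m (by
      rw [← hI, Ideal.span_le]
      rintro _ ⟨i, rfl⟩
      obtain ⟨k, hk⟩ := (hloc i m).mp (hm i)
      exact ⟨k, (Submodule.mem_annihilator_span_singleton _ _).mpr hk⟩)
    exact Torsion.eq_zero_of_pow_smul_eq_zero I ((key I).mp h) n m hn
  · exact h m fun i => (hloc i m).mpr ⟨1, by simpa using hm _ (hI ▸ Ideal.subset_span ⟨i, rfl⟩)⟩

end Groth.Agent.S7085
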