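import Groth.Statements.S7087
import Mathlib.RingTheory.Ideal.Operations
import Mathlib.Tactic.Ring

set_option autoImplicit false
universe u
open LocCoh

namespace Groth.Agent.S7087

/-- Let R be a commutative ring and f_1, …, f_n elements generating an ideal I. Let M be the module with
generators e_1, …, e_n and relations f_i e_j = f_j e_i. Then e_i ↦ f_i defines a surjection M → I
whose kernel is annihilated by I. Elementwise: if a tuple (a_1, …, a_n) in R^n satisfies Σ a_i f_i =
0, then for every b in I the tuple b • a lies in the submodule of R^n spanned by the vectors f_i e_j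
− f_j e_i. -/
theorem result {R : Type u} [CommRing R] {n : ℕ} (f : Fin n → R)
    (a : Fin n → R) (ha : ∑ i, a i * f i = 0) (b : R) (hb : b ∈ Ideal.span (Set.range f)) :
    b • a ∈ Submodule.span R {v : Fin n → R | ∃ i j : Fin n, v = f i • Pi.single j (1 : R) - f j • Pi.single i (1 : R)} := by
  obtain ⟨c, rfl⟩ := (Submodule.mem_span_range_iff_exists_fun R).mp hb
  have : (∑ i, c i • f i) • a = ∑ i, ∑ j, (c i * a j) •
      (f i • Pi.single j (1 : R) - f j • Pi.single i (1 : R) : Fin n → R) := by
    ext l
    simp only [Finset.sum_apply, Pi.smul_apply, Pi.sub_apply, Pi.single_apply, smul_eq_mul,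
      mul_ite, mul_one, mul_zero, mul_sub, Finset.sum_sub_distrib]
    have h1 : ∀ i, ∑ j, (if l = j then c i * a j * f i else 0) = c i * a l * f i := fun i => by
      simp
    have h2 : ∑ i, ∑ j, (if l = i then c i * a j * f j else 0) = 0 := by
      rw [Finset.sum_eq_single l (fun i _ hi => by simp [Ne.symm hi]) (by simp)]
      simp [mul_assoc, ← Finset.mul_sum, ha]
    simp only [h1, h2, sub_zero, Finset.sum_mul]
    exact Finset.sum_congr rfl fun i _ => by ring
  rw [this]
  exact sum_mem fun i _ => sum_mem fun j _ =>
    Submodule.smul_mem _ _ (Submodule.subset_span ⟨i, j, rfl⟩)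

end Groth.Agent.S7087
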