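import Groth.Statements.S7093
import Groth.Agent.DRingPC.TorDescent
import Groth.Agent.DRingPC.TorAmpOps
import Groth.Agent.PCohLib.Biprod
-- import your own Groth.Agent.* helpers here

set_option autoImplicit false
universe u
attribute [local instance] HasDerivedCategory.standard
open CategoryTheory CategoryTheory.Limits
open Dual2
open scoped ZeroObject

namespace Groth.Agent.S7093

/-- For a flat homomorphism of finite presentation R → A of commutative rings, the R-perfect objects of
D(A) (pseudo-coherent over A, finite tor dimension over R) form a strictly full, saturated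
triangulated subcategory: the property is a triangulated object property (contains zero, stable
under shifts and under extensions in distinguished triangles), is closed under isomorphisms, and
passes to direct summands. -/
theorem result (R A : Type u) [CommRing R] [CommRing A] [Algebra R A]
    [Module.Flat R A] [Algebra.FinitePresentation R A] :
    ObjectProperty.IsTriangulated (C := Dual.D A) (fun K => Dual2.IsRelPerfect R A K) ∧
      ObjectProperty.IsClosedUnderIsomorphisms (C := Dual.D A) (fun K => Dual2.IsRelPerfect R A K) ∧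
      ∀ X Y : Dual.D A, Dual2.IsRelPerfect R A (X ⊞ Y) → Dual2.IsRelPerfect R A X ∧ Dual2.IsRelPerfect R A Y := by
  have hiso : ObjectProperty.IsClosedUnderIsomorphisms (C := Dual.D A)
      (fun K => Dual2.IsRelPerfect R A K) := ⟨fun {X Y} e h => by
    obtain ⟨hpc, a, b, hab⟩ := h
    rw [Groth.Agent.DRingPC.isPC'_iff] at hpc
    exact ⟨(Groth.Agent.DRingPC.isPC'_iff A Y).2 fun m => (hpc m).of_iso e, a, b,
      Groth.Agent.DRingPC.torAmp_of_iso hab ((DRing.restrictD (algebraMap R A)).mapIso e)⟩⟩
  refine ⟨?_, hiso, fun X Y h => ?_⟩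
  · haveI := hiso
    refine
      { exists_zero := ⟨0, Limits.isZero_zero _,
          (Groth.Agent.DRingPC.isPC'_iff A _).2 fun m => ?_, 0, 0,
          Groth.Agent.DRingPC.torAmp_of_isZero (Functor.map_isZero _ (Limits.isZero_zero _)) 0 0⟩
        isStableUnderShiftBy := fun k => ⟨fun X h => ?_⟩
        ext₂' := fun T hT h₁ h₃ => ObjectProperty.le_isoClosure _ _ ?_ }
    · exact (Groth.Agent.DRingPC.NPC_FPj_iff m _).1 (Groth.Agent.PCohLib.NPC.mk (E := 0)
        ⟨⟨0, fun i _ => (HomologicalComplex.eval _ _ i).map_isZero (Limits.isZero_zero _)⟩,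
          fun i _ => (Groth.Agent.DRingPC.FPj A).prop_of_isZero
            ((HomologicalComplex.eval _ _ i).map_isZero (Limits.isZero_zero _))⟩
        ((DerivedCategory.Q.map_isZero (Limits.isZero_zero _)).iso (Limits.isZero_zero _)))
    · obtain ⟨hpc, a, b, hab⟩ := h
      rw [Groth.Agent.DRingPC.isPC'_iff] at hpc
      exact ⟨(Groth.Agent.DRingPC.isPC'_iff A _).2 fun m => (hpc (m + k)).shift k m rfl, a - k, b - k,
        Groth.Agent.DRingPC.torAmp_of_iso (Groth.Agent.DRingPC.torAmp_shift hab k _ _ (by lia) (by lia))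
          (((DRing.restrictD (algebraMap R A)).commShiftIso k).app X).symm⟩
    · obtain ⟨hpc₁, a₁, b₁, hab₁⟩ := h₁
      obtain ⟨hpc₃, a₃, b₃, hab₃⟩ := h₃
      rw [Groth.Agent.DRingPC.isPC'_iff] at hpc₁ hpc₃
      refine ⟨(Groth.Agent.DRingPC.isPC'_iff A _).2 fun m => Groth.Agent.PCohLib.NPC.of_triangle₂
        (Groth.Agent.DRingPC.FF.sum A) (Groth.Agent.DRingPC.FF.qs A) (Groth.Agent.DRingPC.FF.ql A)
        hT (hpc₁ m) (hpc₃ m), min a₁ a₃, max b₁ b₃, ?_⟩
      exact Groth.Agent.DRingPC.torAmp_triangle₂
        ((DRing.restrictD (algebraMap R A)).map_distinguished T hT)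
        (Groth.Agent.DRingPC.torAmp_mono hab₁ (min_le_left _ _) (le_max_left _ _))
        (Groth.Agent.DRingPC.torAmp_mono hab₃ (min_le_right _ _) (le_max_right _ _))
  · obtain ⟨hpc, a, b, hab⟩ := h
    rw [Groth.Agent.DRingPC.isPC'_iff] at hpc
    refine ⟨⟨(Groth.Agent.DRingPC.isPC'_iff A X).2 fun m => (Groth.Agent.PCohLib.NPC.of_biprod
        (Groth.Agent.DRingPC.FF.sum A) (Groth.Agent.DRingPC.FF.qs A) (Groth.Agent.DRingPC.FF.ql A) (hpc m)).1,
        a, b, Groth.Agent.DRingPC.torAmp_of_retract
          ((DRing.restrictD (algebraMap R A)).map Limits.biprod.inl)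
          ((DRing.restrictD (algebraMap R A)).map Limits.biprod.fst) ?_ hab⟩,
      ⟨(Groth.Agent.DRingPC.isPC'_iff A Y).2 fun m => (Groth.Agent.PCohLib.NPC.of_biprod
        (Groth.Agent.DRingPC.FF.sum A) (Groth.Agent.DRingPC.FF.qs A) (Groth.Agent.DRingPC.FF.ql A) (hpc m)).2,
        a, b, Groth.Agent.DRingPC.torAmp_of_retract
          ((DRing.restrictD (algebraMap R A)).map Limits.biprod.inr)
          ((DRing.restrictD (algebraMap R A)).map Limits.biprod.snd) ?_ hab⟩⟩
    · rw [← Functor.map_comp, Limits.biprod.inl_fst, CategoryTheory.Functor.map_id]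
    · rw [← Functor.map_comp, Limits.biprod.inr_snd, CategoryTheory.Functor.map_id]

end Groth.Agent.S7093
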