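import Groth.Statements.S7105
import Groth.Agent.DRingPC.HomTwoTerm
-- import your own Groth.Agent.* helpers here

set_option autoImplicit false
universe u
attribute [local instance] HasDerivedCategory.standard
open CategoryTheory
open DRing

namespace Groth.Agent.S7105

/-- Let R be a commutative ring, M a cochain complex of R-modules with M^i = 0 for i > 0 and M^0
projective, and K a cochain complex with K^i = 0 for all i ≤ -2. Then the canonical map
Hom_{K(R)}(M, K) → Hom_{D(R)}(M, K), from homotopy classes of chain maps to morphisms in the derived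
category, is bijective. -/
theorem result {R : Type u} [CommRing R] (M K : DRing.Cx R)
    (hM : ∀ i : ℤ, 0 < i → Limits.IsZero (M.X i)) (hM0 : Module.Projective R (M.X 0))
    (hK : ∀ i : ℤ, i ≤ -2 → Limits.IsZero (K.X i)) :
    Function.Bijective (fun φ : (HomotopyCategory.quotient (ModuleCat.{u} R) (ComplexShape.up ℤ)).obj M ⟶
        (HomotopyCategory.quotient (ModuleCat.{u} R) (ComplexShape.up ℤ)).obj K => DerivedCategory.Qh.map φ) := by
  haveI : (DRing.toD M).IsLE 0 := (DerivedCategory.isLE_iff _ _).2 fun i hi =>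
    ((HomologicalComplex.exactAt_iff_isZero_homology _ _).1
      (ShortComplex.exact_of_isZero_X₂ (M.sc i) (hM i hi))).of_iso (Groth.Agent.PCohLib.homologyQIso M i)
  obtain ⟨P, hPp, hPz, ⟨e⟩⟩ := Groth.Agent.DRingPC.exists_projective_rep R (DRing.toD M) 0
  obtain ⟨s, hs⟩ := Groth.Agent.PCohLib.exists_Q_map_eq (P := Groth.Agent.DRingPC.PR R)
    (Groth.Agent.DRingPC.PR.lift R) P hPp 0 hPz M e.hom
  haveI : QuasiIso s := by
    rw [← DerivedCategory.isIso_Q_map_iff_quasiIso, hs]
    infer_instance
  haveI := Groth.Agent.PCohLib.isKProjective_of_mem (P := Groth.Agent.DRingPC.PR R)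
    (Groth.Agent.DRingPC.PR.lift R) P hPp 0 hPz
  haveI : IsIso (DerivedCategory.Qh.map ((HomotopyCategory.quotient _ _).map s)) := by
    have n := (DerivedCategory.quotientCompQhIso (ModuleCat.{u} R)).hom.naturality s
    haveI : IsIso (DerivedCategory.Q.map s) := by rw [hs]; infer_instance
    exact (NatIso.isIso_map_iff (DerivedCategory.quotientCompQhIso (ModuleCat.{u} R)) s).2 inferInstance
  obtain ⟨hinj, hsurj⟩ := Groth.Agent.DRingPC.HomTwoTerm.bijective_precomp hPz hM hM0 hK s
  constructor
  · intro q q' h
    obtain ⟨φ, rfl⟩ := (HomotopyCategory.quotient _ _).map_surjective q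
    obtain ⟨φ', rfl⟩ := (HomotopyCategory.quotient _ _).map_surjective q'
    refine hinj φ φ' ((CochainComplex.IsKProjective.Qh_map_bijective P _).injective ?_)
    rw [Functor.map_comp, Functor.map_comp, Functor.map_comp, Functor.map_comp]
    exact congrArg (_ ≫ ·) h
  · intro f
    obtain ⟨q, hq⟩ := (CochainComplex.IsKProjective.Qh_map_bijective P _).surjective
      (DerivedCategory.Qh.map ((HomotopyCategory.quotient _ _).map s) ≫ f)
    obtain ⟨ψ, rfl⟩ := (HomotopyCategory.quotient _ _).map_surjective q
    obtain ⟨φ, hφ⟩ := hsurj ψ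
    refine ⟨(HomotopyCategory.quotient _ _).map φ, ?_⟩
    rw [← hφ, Functor.map_comp, Functor.map_comp] at hq
    exact (cancel_epi _).1 hq

end Groth.Agent.S7105
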