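import Groth.Statements.S7106
import Groth.Agent.TwoTerm.Rep
-- import your own Groth.Agent.* helpers here

set_option autoImplicit false
universe u
attribute [local instance] HasDerivedCategory.standard
open CategoryTheory
open DRing

namespace Groth.Agent.S7106
open Groth.Agent.TwoTerm Groth.Agent.DRingPC Groth.Agent.PCohLib CategoryTheory.Limits

/-- Let R be a commutative ring, M a cochain complex of R-modules with M^i = 0 for i > 0 and M^0
projective, K a cochain complex with K^i = 0 for i outside [-1, 0] and K^0 projective, and a : M → K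
a chain map. Then precomposition with a is the zero map Ext^1_R(K, N) → Ext^1_R(M, N) (morphisms
into N[1] in D(R)) for every R-module N if and only if there is a map h : M^0 → K^{-1} with a^{-1} +
h ∘ d_M^{-1} = 0. (The published statement composes h^0 with the differential K^{-1} → K^0 of K,
which is not defined; this row composes it with the differential M^{-1} → M^0 of M, as the homotopy
in the published proof does.) -/
theorem result {R : Type u} [CommRing R] (M K : DRing.Cx R)
    (hM : ∀ i : ℤ, 0 < i → Limits.IsZero (M.X i)) (hM0 : Module.Projective R (M.X 0))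
    (hK : ∀ i : ℤ, i ≠ -1 → i ≠ 0 → Limits.IsZero (K.X i)) (hK0 : Module.Projective R (K.X 0))
    (a : M ⟶ K) :
    (∀ (N : Type u) [AddCommGroup N] [Module R N] (ξ : DRing.toD K ⟶ (Dual.inD R N)⟦(1 : ℤ)⟧),
        DerivedCategory.Q.map a ≫ ξ = 0) ↔
      ∃ h : M.X 0 ⟶ K.X (-1), a.f (-1) + M.d (-1) 0 ≫ h = 0 := by
  have hKv : DRing.VanishesOutside K (-1) 0 := fun i hi => hK i (by lia) (by lia)
  have hKb : ∀ i, 0 < i → IsZero (K.X i) := fun i hi => hKv i (Or.inr hi)
  have hcoc : ∀ {N : ModuleCat.{u} R} (g : K.X (-(1 : ℤ)) →ₗ[R] N),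
      (ModuleCat.Hom.hom (a.f (-(1 : ℤ)) ≫ ModuleCat.ofHom g)) ∈ Cocyc M 1 N := by
    intro N g
    rw [mem_cocyc, ← ModuleCat.hom_comp, ← Category.assoc, ← a.comm,
      (hKv (-(1 : ℤ) - 1) (Or.inl (by lia))).eq_of_tgt (a.f _) 0, zero_comp, zero_comp]
    rfl
  constructor
  · intro h
    have h0 := h (K.X (-1)) (cls (idCocyc hKv))
    rw [map_comp_cls a (idCocyc hKv) ⟨_, hcoc LinearMap.id⟩ rfl] at h0
    obtain ⟨g, hg⟩ := (cls_eq_zero_iff_one hM _).1 h0
    refine ⟨-g, ?_⟩
    rw [Preadditive.comp_neg, add_neg_eq_zero]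
    exact hg.symm
  · rintro ⟨h, hh⟩ N _ _ ξ
    obtain ⟨g, rfl⟩ := cls_surjective_one hKb hK0 ξ
    refine (map_comp_cls a g ⟨_, hcoc g.1⟩ rfl).trans ((cls_eq_zero_iff_one hM _).2
      ⟨(-h) ≫ ModuleCat.ofHom g.1, ?_⟩)
    rw [← Category.assoc, Preadditive.comp_neg, ← eq_neg_of_add_eq_zero_left hh]
    rfl

end Groth.Agent.S7106
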