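import Mathlib
import Groth.Statements.S7107
-- import your own Groth.Agent.* helpers here

set_option autoImplicit false
universe u
open CAlg

namespace Groth.Agent.S7107

/-- Let R be a ring and P, Q modules such that P ⊕ Q is isomorphic to a free module F on an infinite
basis. Then P ⊕ F is isomorphic to F. -/
theorem result (R : Type u) [CommRing R] (P Q : Type u) [AddCommGroup P] [Module R P]
    [AddCommGroup Q] [Module R Q] (ι : Type u) [Infinite ι] (e : (P × Q) ≃ₗ[R] (ι →₀ R)) :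
    Nonempty ((P × (ι →₀ R)) ≃ₗ[R] (ι →₀ R)) := by
  let N := ULift.{u} ℕ
  have hι : Cardinal.mk (ι × N) = Cardinal.mk ι := by
    simp [N, Cardinal.mul_eq_left (Cardinal.aleph0_le_mk ι) (Cardinal.aleph0_le_mk ι) Cardinal.aleph0_ne_zero]
  obtain ⟨eι⟩ := Cardinal.eq.mp hι
  let sw : (ι →₀ R) ≃ₗ[R] (N →₀ (ι →₀ R)) :=
    (Finsupp.domLCongr (eι.symm.trans (Equiv.prodComm ι N))).trans (Finsupp.curryLinearEquiv R)
  let split : (N →₀ (P × Q)) ≃ₗ[R] (N →₀ P) × (N →₀ Q) := LinearEquiv.ofLinear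
    ((Finsupp.mapRange.linearMap (LinearMap.fst R P Q)).prod (Finsupp.mapRange.linearMap (LinearMap.snd R P Q)))
    ((Finsupp.mapRange.linearMap (LinearMap.inl R P Q)).coprod (Finsupp.mapRange.linearMap (LinearMap.inr R P Q)))
    (by ext <;> simp) (by ext <;> simp)
  let key : (ι →₀ R) ≃ₗ[R] (N →₀ P) × (N →₀ Q) := sw.trans ((Finsupp.mapRange.linearEquiv e.symm).trans split)
  obtain ⟨eN⟩ : Nonempty (PUnit.{u+1} ⊕ N ≃ N) := Cardinal.eq.mp (by simp [N])
  let absorb : (P × (N →₀ P)) ≃ₗ[R] (N →₀ P) :=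
    ((Finsupp.LinearEquiv.finsuppUnique R P PUnit.{u+1}).symm.prodCongr (LinearEquiv.refl R _)).trans
      ((Finsupp.sumFinsuppLEquivProdFinsupp R).symm.trans (Finsupp.domLCongr eN))
  exact ⟨((LinearEquiv.refl R P).prodCongr key).trans ((LinearEquiv.prodAssoc R P (N →₀ P) (N →₀ Q)).symm.trans
    ((absorb.prodCongr (LinearEquiv.refl R _)).trans key.symm))⟩

end Groth.Agent.S7107
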