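import Groth.Statements.S7108
import Mathlib

set_option autoImplicit false
universe u
open CAlg

namespace Groth.Agent.S7108

/-- Every projective module P over a ring R becomes free after adding a suitable free module: P ⊕ F is
free for some free module F (here F is the free module on some index type). -/
theorem result (R : Type u) [CommRing R] (P : Type u) [AddCommGroup P]
    [Module R P] [Module.Projective R P] : ∃ ι : Type u, Module.Free R (P × (ι →₀ R)) := by
  obtain ⟨i, hi⟩ := Module.Projective.out (R := R) (P := P)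
  let s : (P →₀ R) →ₗ[R] P := Finsupp.linearCombination R id
  have hs : ∀ x, s (i x) = x := hi
  let e : (P →₀ R) ≃ₗ[R] P × LinearMap.ker s :=
    LinearEquiv.ofLinear
      (LinearMap.prod s (LinearMap.codRestrict _ (LinearMap.id - i ∘ₗ s) fun x => by
        simp [LinearMap.mem_ker, hs]))
      (LinearMap.coprod i (LinearMap.ker s).subtype)
      (LinearMap.ext fun z => by
        obtain ⟨p, k⟩ := z
        ext <;> simp [hs, LinearMap.mem_ker.1 k.2])
      (LinearMap.ext fun x => by simp)
  refine ⟨ℕ × P, ?_⟩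
  let eF : (ℕ × P →₀ R) ≃ₗ[R] (ℕ →₀ (P →₀ R)) := Finsupp.curryLinearEquiv R
  let eS : (ℕ →₀ P × LinearMap.ker s) ≃ₗ[R] (ℕ →₀ P) × (ℕ →₀ LinearMap.ker s) :=
    LinearEquiv.ofLinear
      (LinearMap.prod (Finsupp.mapRange.linearMap (LinearMap.fst R _ _))
        (Finsupp.mapRange.linearMap (LinearMap.snd R _ _)))
      (LinearMap.coprod (Finsupp.mapRange.linearMap (LinearMap.inl R _ _))
        (Finsupp.mapRange.linearMap (LinearMap.inr R _ _)))
      (LinearMap.ext fun z => by
        obtain ⟨p, k⟩ := z
        ext <;> simp)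
      (LinearMap.ext fun x => by ext <;> simp)
  let o : (P × (ℕ →₀ P)) ≃ (Option ℕ →₀ P) := Finsupp.optionEquiv.symm
  let eO : (P × (ℕ →₀ P)) ≃ₗ[R] (ℕ →₀ P) :=
    ({ o with
        map_add' := fun x y => by ext (_ | a) <;> simp [o, Finsupp.update]
        map_smul' := fun c x => by ext (_ | a) <;> simp [o, Finsupp.update] } :
      (P × (ℕ →₀ P)) ≃ₗ[R] (Option ℕ →₀ P)).trans
      (Finsupp.domLCongr (Denumerable.eqv (Option ℕ)))
  let eA := eF.trans ((Finsupp.mapRange.linearEquiv e).trans eS)
  let big : (P × (ℕ × P →₀ R)) ≃ₗ[R] (ℕ × P →₀ R) :=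
    (((LinearEquiv.refl R P).prodCongr eA).trans
      ((LinearEquiv.prodAssoc R _ _ _).symm.trans
        (eO.prodCongr (LinearEquiv.refl R _)))).trans eA.symm
  exact Module.Free.of_equiv big.symm

end Groth.Agent.S7108
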