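import Mathlib
import Groth.Statements.S7109
-- import your own Groth.Agent.* helpers here

set_option autoImplicit false
universe u
open CAlg

namespace Groth.Agent.S7109

/-- Let P be a projective module over a ring R and s an element of P. Then there are a finite free
module R^n and a direct summand K of R^n ⊕ P which is finite free and contains (0, s). -/
theorem result (R : Type u) [CommRing R] (P : Type u) [AddCommGroup P]
    [Module R P] [Module.Projective R P] (s : P) :
    ∃ (n : ℕ) (K K' : Submodule R ((Fin n → R) × P)), IsCompl K K' ∧ Module.Free R K ∧ Module.Finite R K ∧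
      ((0, s) : (Fin n → R) × P) ∈ K := by
  classical
  obtain ⟨σ, hσ⟩ := Module.projective_def'.mp (inferInstance : Module.Projective R P)
  let n := (σ s).support.card
  let e := (σ s).support.equivFin
  let g : P →ₗ[R] (Fin n → R) := LinearMap.pi fun i => (Finsupp.lapply ((e.symm i).1)) ∘ₗ σ
  let h : (Fin n → R) →ₗ[R] P := Fintype.linearCombination R fun i => ((e.symm i).1 : P)
  have hgs : h (g s) = s := by
    have := LinearMap.congr_fun hσ s
    simp only [LinearMap.comp_apply, LinearMap.id_apply, Finsupp.linearCombination_apply, Finsupp.sum, id] at this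
    conv_rhs => rw [← this, ← Finset.sum_coe_sort, ← e.symm.sum_comp]
    simp [h, g, n, e, Fintype.linearCombination_apply]
  let ι : (Fin n → R) →ₗ[R] (Fin n → R) × P := (LinearMap.id - g ∘ₗ h).prod h
  let r : (Fin n → R) × P →ₗ[R] (Fin n → R) := LinearMap.coprod LinearMap.id g
  have hr : ∀ v, r (ι v) = v := fun v => by simp [r, ι]
  have hinj : Function.Injective ι := Function.LeftInverse.injective hr
  refine ⟨n, LinearMap.range ι, LinearMap.ker r, ⟨?_, ?_⟩, Module.Free.of_equiv (LinearEquiv.ofInjective ι hinj),
    Module.Finite.range ι, ⟨g s, by simp [ι, hgs]⟩⟩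
  · rw [Submodule.disjoint_def]
    rintro _ ⟨v, rfl⟩ hv
    rw [LinearMap.mem_ker, hr] at hv
    rw [hv, map_zero]
  · rw [codisjoint_iff, eq_top_iff]
    intro q _
    exact Submodule.mem_sup.mpr ⟨ι (r q), ⟨_, rfl⟩, q - ι (r q), by simp [hr], add_sub_cancel _ _⟩

end Groth.Agent.S7109
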