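import Mathlib
import Groth.Statements.S7114
-- import your own Groth.Agent.* helpers here

set_option autoImplicit false
universe u
open CAlg

namespace Groth.Agent.S7114

/-- Let R be a Noetherian local ring of Krull dimension one and x an element of the maximal ideal lying
in no minimal prime of R. Then for every n the length of R/xⁿR is at most n times the length of
R/xR, and equality holds when x is a nonzerodivisor. -/
theorem result (R : Type u) [CommRing R] [IsNoetherianRing R] [IsLocalRing R]
    (hdim : ringKrullDim R = 1) (x : R) (hx : x ∈ IsLocalRing.maximalIdeal R)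
    (hmin : ∀ p ∈ minimalPrimes R, x ∉ p) (n : ℕ) :
    Module.length R (R ⧸ Ideal.span {x ^ n}) ≤ (n : ℕ∞) * Module.length R (R ⧸ Ideal.span {x}) ∧
      (x ∈ nonZeroDivisors R →
        Module.length R (R ⧸ Ideal.span {x ^ n}) = (n : ℕ∞) * Module.length R (R ⧸ Ideal.span {x})) := by
  have key : ∀ k : ℕ, Module.length R (R ⧸ Ideal.span {x ^ (k + 1)}) ≤
        Module.length R (R ⧸ Ideal.span {x ^ k}) + Module.length R (R ⧸ Ideal.span {x}) ∧
      (x ∈ nonZeroDivisors R → Module.length R (R ⧸ Ideal.span {x ^ (k + 1)}) =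
        Module.length R (R ⧸ Ideal.span {x ^ k}) + Module.length R (R ⧸ Ideal.span {x})) := by
    intro k
    let S₁ : Submodule R R := Ideal.span {x ^ k}
    let S₂ : Submodule R R := Ideal.span {x ^ (k + 1)}
    let S₀ : Submodule R R := Ideal.span {x}
    let f : (R ⧸ S₁) →ₗ[R] (R ⧸ S₂) := Submodule.mapQ S₁ S₂ (x • LinearMap.id) (fun y hy => by
      obtain ⟨c, rfl⟩ := Ideal.mem_span_singleton'.1 hy
      exact Ideal.mem_span_singleton'.2 ⟨c, by simp [pow_succ]; ring⟩)
    let g : (R ⧸ S₂) →ₗ[R] (R ⧸ S₀) := Submodule.mapQ S₂ S₀ LinearMap.id (fun y hy => by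
      obtain ⟨c, rfl⟩ := Ideal.mem_span_singleton'.1 hy
      exact Ideal.mem_span_singleton'.2 ⟨c * x ^ k, by simp [pow_succ]; ring⟩)
    have hg : Function.Surjective g := fun z => by
      obtain ⟨z, rfl⟩ := Submodule.Quotient.mk_surjective _ z
      exact ⟨Submodule.Quotient.mk z, rfl⟩
    have hex : Function.Exact f g := by
      intro z
      obtain ⟨z, rfl⟩ := Submodule.Quotient.mk_surjective _ z
      constructor
      · intro hz
        rw [Submodule.mapQ_apply, Submodule.Quotient.mk_eq_zero] at hz
        obtain ⟨c, hc⟩ := Ideal.mem_span_singleton'.1 hz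
        exact ⟨Submodule.Quotient.mk c, congrArg Submodule.Quotient.mk (show x • c = z by rw [smul_eq_mul, mul_comm]; exact hc)⟩
      · rintro ⟨w, hw⟩
        obtain ⟨w, rfl⟩ := Submodule.Quotient.mk_surjective _ w
        rw [← hw]
        exact (Submodule.Quotient.mk_eq_zero S₀).2 (Ideal.mem_span_singleton'.2 ⟨w, by simp [mul_comm]⟩)
    constructor
    · have := Module.length_eq_add_of_exact (LinearMap.range f).subtype g Subtype.val_injective hg
        (LinearMap.exact_iff.2 (by rw [Submodule.range_subtype]; exact hex.linearMap_ker_eq))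
      rw [this]
      exact add_le_add (Module.length_le_of_surjective f.rangeRestrict f.surjective_rangeRestrict) le_rfl
    · intro hx0
      refine Module.length_eq_add_of_exact f g ?_ hg hex
      rw [injective_iff_map_eq_zero]
      intro z hz
      obtain ⟨z, rfl⟩ := Submodule.Quotient.mk_surjective _ z
      rw [Submodule.mapQ_apply, Submodule.Quotient.mk_eq_zero] at hz
      obtain ⟨c, hc⟩ := Ideal.mem_span_singleton'.1 hz
      rw [Submodule.Quotient.mk_eq_zero]
      refine Ideal.mem_span_singleton'.2 ⟨c, ?_⟩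
      have h2 : (c * x ^ k - z) * x = 0 := by
        rw [sub_mul, mul_assoc, ← pow_succ, hc]; simp; ring
      exact sub_eq_zero.1 ((mem_nonZeroDivisors_iff_right.1 hx0) _ h2)
  induction n with
  | zero =>
    have : Subsingleton (R ⧸ Ideal.span {x ^ 0}) := Ideal.Quotient.subsingleton_iff.2 (by simp)
    simp [Module.length_eq_zero]
  | succ k ih =>
    refine ⟨(key k).1.trans ?_, fun hx0 => ?_⟩
    · rw [Nat.cast_succ, add_mul, one_mul]; exact add_le_add ih.1 le_rfl
    · rw [(key k).2 hx0, ih.2 hx0, Nat.cast_succ, add_mul, one_mul]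

end Groth.Agent.S7114
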