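import Groth.Statements.S7115
import Mathlib

set_option autoImplicit false
universe u
open CAlg

namespace Groth.Agent.S7115

/-- Let R be a Noetherian local ring of Krull dimension d > 1 with maximal ideal m, let f be an element
of m contained in no minimal prime, and let k be a natural number. Then there are elements g_1, ...,
g_{d-1} of m lying in m^k such that f, g_1, ..., g_{d-1} form a system of parameters: these d
elements of m generate an ideal whose radical is m. -/
theorem result (R : Type u) [CommRing R] [IsNoetherianRing R] [IsLocalRing R]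
    (d : ℕ) (hd : ringKrullDim R = d) (h1 : 1 < d) (f : R) (hf : f ∈ IsLocalRing.maximalIdeal R)
    (hmin : ∀ p ∈ minimalPrimes R, f ∉ p) (k : ℕ) :
    ∃ g : Fin (d - 1) → R, (∀ i, g i ∈ IsLocalRing.maximalIdeal R ^ k) ∧ (∀ i, g i ∈ IsLocalRing.maximalIdeal R) ∧
      IsLocalRing.maximalIdeal R ≤ (Ideal.span (insert f (Set.range g))).radical := by
  classical
  set m := IsLocalRing.maximalIdeal R with hm
  have hmh : (m.height : WithBot ℕ∞) = (d : WithBot ℕ∞) := by
    rw [hm, IsLocalRing.maximalIdeal_height_eq_ringKrullDim, hd]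
  have hmh' : m.height = (d : ℕ∞) := by exact_mod_cast hmh
  haveI : m.IsPrime := (IsLocalRing.maximalIdeal.isMaximal R).isPrime
  haveI : m.FiniteHeight := Ideal.finiteHeight_of_isNoetherianRing m
  have key : ∀ i : ℕ, i ≤ d - 1 → ∃ g : Fin i → R, (∀ j, g j ∈ m ^ (k + 1)) ∧
      ∀ P : Ideal R, P.IsPrime → Ideal.span (insert f (Set.range g)) ≤ P →
        ((i + 1 : ℕ) : ℕ∞) ≤ P.height := by
    intro i
    induction i with
    | zero =>
      intro _
      refine ⟨Fin.elim0, fun j => j.elim0, fun P hP hle => ?_⟩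
      obtain ⟨q, hq, hqP⟩ := Ideal.exists_minimalPrimes_le (bot_le : (⊥ : Ideal R) ≤ P)
      haveI : q.IsPrime := hq.1.1
      haveI := hP
      have hlt : q < P := lt_of_le_of_ne hqP (fun h => hmin q hq
        (h ▸ hle (Ideal.subset_span (Set.mem_insert _ _))))
      have h := Ideal.height_add_one_le_of_lt_of_isPrime hlt
      calc ((0 + 1 : ℕ) : ℕ∞) = 1 := by simp
        _ ≤ q.height + 1 := le_add_self
        _ ≤ P.height := h
    | succ i ih =>
      intro hi
      obtain ⟨g, hg, hP⟩ := ih (by omega)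
      set J := Ideal.span (insert f (Set.range g)) with hJ
      have hfin := Ideal.finite_minimalPrimes_of_isNoetherianRing R J
      let T := hfin.toFinset.filter (fun q => q ≠ m)
      obtain ⟨x, hx, hxT⟩ : ∃ x ∈ m ^ (k + 1), ∀ q ∈ T, x ∉ q := by
        by_contra hcon
        push Not at hcon
        have hsub : ((m ^ (k + 1) : Ideal R) : Set R) ⊆ ⋃ q ∈ (↑T : Set (Ideal R)), (q : Set R) := by
          intro x hx
          obtain ⟨q, hq, hxq⟩ := hcon x hx
          exact Set.mem_biUnion hq hxq
        have hTp : ∀ q ∈ T, (q : Ideal R).IsPrime := fun q hq =>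
          ((hfin.mem_toFinset).1 (Finset.mem_filter.1 hq).1).1.1
        obtain ⟨q, hq, hle⟩ := (Ideal.subset_union_prime (f := fun q : Ideal R => q) ⊥ ⊥
          (fun q hq _ _ => hTp q hq)).1 hsub
        haveI := hTp q hq
        have hmq : m ≤ q := (Ideal.IsPrime.pow_le_iff (Nat.succ_ne_zero k)).1 hle
        exact (Finset.mem_filter.1 hq).2
          ((IsLocalRing.maximalIdeal.isMaximal R).eq_of_le (hTp q hq).ne_top hmq).symm
      refine ⟨Fin.snoc g x, fun j => ?_, fun P hPp hle => ?_⟩
      · refine Fin.lastCases ?_ (fun j' => ?_) j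
        · simpa using hx
        · simpa using hg j'
      haveI := hPp
      have hJP : J ≤ P := by
        refine le_trans (Ideal.span_mono (Set.insert_subset_insert ?_)) hle
        rintro _ ⟨j, rfl⟩
        exact ⟨j.castSucc, by simp⟩
      obtain ⟨q, hq, hqP⟩ := Ideal.exists_minimalPrimes_le hJP
      haveI : q.IsPrime := hq.1.1
      have hxP : x ∈ P := hle (Ideal.subset_span (Set.mem_insert_of_mem _ ⟨Fin.last i, by simp⟩))
      by_cases hqm : q = m
      · have : P = m := le_antisymm (IsLocalRing.le_maximalIdeal hPp.ne_top) (hqm ▸ hqP)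
        rw [this, hmh']
        exact_mod_cast (by omega : i + 1 + 1 ≤ d)
      have hqT : q ∈ T := Finset.mem_filter.2 ⟨hfin.mem_toFinset.2 hq, hqm⟩
      have hlt : q < P := lt_of_le_of_ne hqP (fun h => hxT q hqT (h ▸ hxP))
      calc ((i + 1 + 1 : ℕ) : ℕ∞) = ((i + 1 : ℕ) : ℕ∞) + 1 := by push_cast; rfl
        _ ≤ q.height + 1 := add_le_add (hP q hq.1.1 hq.1.2) le_rfl
        _ ≤ P.height := Ideal.height_add_one_le_of_lt_of_isPrime hlt
  obtain ⟨g, hg, hP⟩ := key (d - 1) le_rfl
  refine ⟨g, fun i => Ideal.pow_le_pow_right (Nat.le_succ k) (hg i),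
    fun i => Ideal.pow_le_self (Nat.succ_ne_zero k) (hg i), ?_⟩
  rw [Ideal.radical_eq_sInf]
  refine le_sInf ?_
  rintro P ⟨hle, hPp⟩
  haveI := hPp
  have h1' : (d : ℕ∞) ≤ P.height := by
    have := hP P hPp hle
    rwa [show d - 1 + 1 = d by omega] at this
  have hPm : P ≤ m := IsLocalRing.le_maximalIdeal hPp.ne_top
  haveI : P.FiniteHeight := Ideal.finiteHeight_of_isNoetherianRing P
  exact le_of_eq (Ideal.eq_of_le_of_height_le P hPm (hmh' ▸ h1')).symm

end Groth.Agent.S7115
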