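import Groth.Statements.S7118
import Groth.Agent.ReducedHypersurface.Main
-- import your own Groth.Agent.* helpers here

set_option autoImplicit false
universe u
open CAlg

namespace Groth.Agent.S7118

/-- Let A be a Noetherian normal local domain of Krull dimension 2 and a a nonzero element of the
maximal ideal. Then there is a nonzero element c of A such that A/cA is reduced and a divides some
power cⁿ. (The published statement does not require c to be nonzero and is then satisfied by c = 0;
this row requires c ≠ 0.) -/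
theorem result (A : Type u) [CommRing A] [IsDomain A] [IsNoetherianRing A]
    [IsLocalRing A] [IsIntegrallyClosed A] (hdim : ringKrullDim A = 2) (a : A)
    (ha : a ∈ IsLocalRing.maximalIdeal A) (ha0 : a ≠ 0) :
    ∃ c : A, c ≠ 0 ∧ IsReduced (A ⧸ Ideal.span {c}) ∧ ∃ n : ℕ, a ∣ c ^ n := by
  have H : ∀ (Q : Ideal A) (y : A), Q.IsPrime → Q.height = 1 → y ∉ Q →
      ∀ Z ∈ (Q ⊔ Ideal.span {y}).minimalPrimes, Z.height ≤ 2 := by
    intro Q y _ _ _ Z hZ
    haveI := hZ.isPrime
    have h := Ideal.height_le_ringKrullDim_of_ne_top hZ.isPrime.ne_top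
    rw [hdim] at h
    exact WithBot.coe_le_coe.1 (h.trans_eq (rfl : (2 : WithBot ℕ∞) = ((2 : ℕ∞) : WithBot ℕ∞)))
  obtain ⟨c, hc, hc0, hred⟩ := ReducedHypersurface.exists_isReduced H
    (J := (Ideal.span {a}).radical) (Ideal.radical_isRadical _)
    (fun e => ha0 (by
      have : a ∈ (Ideal.span {a}).radical := Ideal.le_radical (Ideal.mem_span_singleton_self a)
      rwa [e, Submodule.mem_bot] at this))
  obtain ⟨n, hn⟩ := hc
  exact ⟨c, hc0, hred, n, Ideal.mem_span_singleton.1 hn⟩

end Groth.Agent.S7118
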