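import Groth.Statements.S7119
import Groth.Agent.ReducedHypersurface.Main
-- import your own Groth.Agent.* helpers here

set_option autoImplicit false
universe u
open CAlg

namespace Groth.Agent.S7119

/-- Let R be a Noetherian normal local domain of Krull dimension 2 and let p_1, ..., p_r be finitely
many prime ideals of height one. Then there is a nonzero element f lying in all the p_i such that
R/fR is reduced. -/
theorem result (R : Type u) [CommRing R] [IsDomain R]
    [IsNoetherianRing R] [IsLocalRing R] [IsIntegrallyClosed R] (hdim : ringKrullDim R = 2)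
    (s : Finset (Ideal R)) (hs : ∀ p ∈ s, p.IsPrime ∧ p.height = 1) :
    ∃ f : R, f ≠ 0 ∧ (∀ p ∈ s, f ∈ p) ∧ IsReduced (R ⧸ Ideal.span {f}) := by
  classical
  have H : ∀ (Q : Ideal R) (y : R), Q.IsPrime → Q.height = 1 → y ∉ Q →
      ∀ Z ∈ (Q ⊔ Ideal.span {y}).minimalPrimes, Z.height ≤ 2 := by
    intro Q y _ _ _ Z hZ
    haveI := hZ.isPrime
    have h := Ideal.height_le_ringKrullDim_of_ne_top hZ.isPrime.ne_top
    rw [hdim] at h
    exact WithBot.coe_le_coe.1 (h.trans_eq (rfl : (2 : WithBot ℕ∞) = ((2 : ℕ∞) : WithBot ℕ∞)))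
  have hJ : (s.inf id).IsRadical := fun x ⟨n, hn⟩ =>
    Submodule.mem_finsetInf.2 fun p hp => (hs p hp).1.mem_of_pow_mem n (Submodule.mem_finsetInf.1 hn p hp)
  have hJ0 : s.inf id ≠ ⊥ := by
    intro e
    obtain ⟨p, hp, hle⟩ := (Ideal.IsPrime.inf_le' Ideal.isPrime_bot).1 e.le
    exact Ideal.ne_bot_of_height_eq_one (hs p hp).2 (le_bot_iff.1 hle)
  obtain ⟨f, hf, hf0, hred⟩ := ReducedHypersurface.exists_isReduced H hJ hJ0
  exact ⟨f, hf0, fun p hp => Submodule.mem_finsetInf.1 hf p hp, hred⟩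

end Groth.Agent.S7119
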