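import Mathlib
import Groth.Statements.S7120
import Groth.Agent.S6867
-- import your own Groth.Agent.* helpers here

set_option autoImplicit false
universe u
open CAlg

namespace Groth.Agent.S7120

theorem free_aux {R : Type u} [CommRing R] [IsDomain R] [IsBezout R] :
    ∀ (n : ℕ) (M : Type u) [AddCommGroup M] [Module R M] [Module.Finite R M] (f : M →ₗ[R] (Fin n → R)),
      Function.Injective f → Module.Free R M := by
  intro n
  induction n with
  | zero =>
    intro M _ _ _ f hf
    haveI := hf.subsingleton
    exact Module.Free.of_subsingleton R M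
  | succ n ih =>
    intro M _ _ _ f hf
    let g : M →ₗ[R] R := LinearMap.proj 0 ∘ₗ f
    obtain ⟨a, ha⟩ := (IsBezout.isPrincipal_of_FG (LinearMap.range g) (by
      rw [LinearMap.range_eq_map]; exact Module.Finite.fg_top.map g)).principal
    haveI : Module.Free R (LinearMap.range g) := by
      by_cases h0 : a = 0
      · have : LinearMap.range g = ⊥ := by simp [ha, h0]
        haveI : Subsingleton (LinearMap.range g) := by rw [this]; infer_instance
        exact Module.Free.of_subsingleton R _
      · rw [ha]
        exact Module.Free.of_equiv (LinearEquiv.toSpanNonzeroSingleton R R a h0)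
    obtain ⟨s, hs⟩ := Module.projective_lifting_property g.rangeRestrict LinearMap.id g.surjective_rangeRestrict
    have hs' : ∀ y, g.rangeRestrict (s y) = y := fun y => LinearMap.congr_fun hs y
    let ψ : M →ₗ[R] LinearMap.ker g := LinearMap.codRestrict _ (LinearMap.id - s ∘ₗ g.rangeRestrict) fun m => by
      have := congrArg Subtype.val (hs' (g.rangeRestrict m))
      simp only [LinearMap.mem_ker, LinearMap.sub_apply, LinearMap.id_apply, LinearMap.comp_apply, map_sub]
      exact sub_eq_zero.mpr this.symm
    haveI : Module.Finite R (LinearMap.ker g) := Module.Finite.of_surjective ψ fun k => ⟨k, by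
      apply Subtype.ext
      have : g.rangeRestrict (k : M) = 0 := Subtype.ext k.2
      simp [ψ, this]⟩
    let t : LinearMap.ker g →ₗ[R] (Fin n → R) := LinearMap.funLeft R R Fin.succ ∘ₗ f ∘ₗ (LinearMap.ker g).subtype
    haveI := ih _ t fun x y hxy => Subtype.ext <| hf <| funext fun i => by
      refine Fin.cases ?_ (fun j => congrFun hxy j) i
      exact (LinearMap.mem_ker.mp x.2).trans (LinearMap.mem_ker.mp y.2).symm
    let e : M ≃ₗ[R] LinearMap.ker g × LinearMap.range g := LinearEquiv.ofLinear
      (ψ.prod g.rangeRestrict) ((LinearMap.ker g).subtype.coprod s)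
      (LinearMap.ext fun ⟨k, y⟩ => by
        have hk : g.rangeRestrict (k : M) = 0 := Subtype.ext k.2
        apply Prod.ext
        · apply Subtype.ext; simp [ψ, hk, hs']
        · simp [hk, hs'])
      (LinearMap.ext fun m => by simp [ψ])
    exact Module.Free.of_equiv e.symm

/-- Over a Bézout domain, a finitely generated submodule of a free module is itself free of finite rank. -/
theorem result (R : Type u) [CommRing R] [IsDomain R] [IsBezout R]
    (F : Type u) [AddCommGroup F] [Module R F] [Module.Free R F] (N : Submodule R F) (hN : N.FG) :
    Module.Free R N ∧ Module.Finite R N := by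
  haveI : Module.Finite R N := Module.Finite.iff_fg.mpr hN
  obtain ⟨n, f, hf⟩ := (Groth.Agent.S6867.result R N).mp inferInstance
  exact ⟨free_aux n N f hf, inferInstance⟩

end Groth.Agent.S7120
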