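import Groth.Statements.S7121
import Mathlib

set_option autoImplicit false
universe u
open CAlg

namespace Groth.Agent.S7121

section helper

variable {R : Type u} [CommRing R] [IsDomain R] [IsBezout R]

theorem free_of_fg : ∀ (n : ℕ) (N : Submodule R (Fin n → R)), N.FG → Module.Free R N := by
  intro n
  induction n with
  | zero => intro N _; exact Module.Free.of_subsingleton R N
  | succ n ih =>
    intro N hN
    haveI : Module.Finite R N := Module.Finite.iff_fg.mpr hN
    let g : N →ₗ[R] R := LinearMap.proj 0 ∘ₗ N.subtype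
    haveI : Module.Free R (LinearMap.range g) := by
      have hpr : (LinearMap.range g).IsPrincipal :=
        IsBezout.isPrincipal_of_FG _ (by rw [LinearMap.range_eq_map]; exact Module.Finite.fg_top.map g)
      obtain ⟨c, hc⟩ := hpr.principal
      rw [hc]
      by_cases hc0 : c = 0
      · subst hc0
        haveI : Subsingleton (R ∙ (0 : R)) := by rw [Submodule.span_zero_singleton]; infer_instance
        exact Module.Free.of_subsingleton R _
      · exact Module.Free.of_equiv (LinearEquiv.toSpanNonzeroSingleton R R c hc0)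
    obtain ⟨s, hs⟩ := Module.projective_lifting_property g.rangeRestrict LinearMap.id g.surjective_rangeRestrict
    have hsg : ∀ y, g.rangeRestrict (s y) = y := fun y => LinearMap.congr_fun hs y
    let ρ : N →ₗ[R] LinearMap.ker g.rangeRestrict :=
      (LinearMap.id - s ∘ₗ g.rangeRestrict).codRestrict _ fun x => LinearMap.mem_ker.mpr (by
        show g.rangeRestrict (x - s (g.rangeRestrict x)) = 0
        rw [map_sub, hsg, sub_self])
    have hρ : ∀ x : LinearMap.ker g.rangeRestrict, ρ x = x := fun x => by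
      apply Subtype.ext
      show (x : N) - s (g.rangeRestrict x) = x
      rw [LinearMap.mem_ker.mp x.2, map_zero, sub_zero]
    haveI : Module.Finite R (LinearMap.ker g.rangeRestrict) := Module.Finite.of_surjective ρ fun x => ⟨x, hρ x⟩
    let τ : LinearMap.ker g.rangeRestrict →ₗ[R] (Fin n → R) :=
      LinearMap.funLeft R R Fin.succ ∘ₗ N.subtype ∘ₗ (LinearMap.ker g.rangeRestrict).subtype
    have hτ : Function.Injective τ := by
      refine (injective_iff_map_eq_zero _).mpr fun x hx => Subtype.ext (Subtype.ext (funext fun i => ?_))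
      induction i using Fin.cases with
      | zero => exact congrArg Subtype.val (LinearMap.mem_ker.mp x.2)
      | succ i => exact congrFun hx i
    haveI := ih (LinearMap.range τ) (by rw [LinearMap.range_eq_map]; exact Module.Finite.fg_top.map τ)
    haveI : Module.Free R (LinearMap.ker g.rangeRestrict) := Module.Free.of_equiv (LinearEquiv.ofInjective τ hτ).symm
    refine Module.Free.of_equiv (LinearEquiv.ofLinear ((LinearMap.ker g.rangeRestrict).subtype.coprod s)
      (ρ.prod g.rangeRestrict) (LinearMap.ext fun x => ?_) (LinearMap.ext fun x => ?_))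
    · show (x - s (g.rangeRestrict x)) + s (g.rangeRestrict x) = x
      rw [sub_add_cancel]
    · refine Prod.ext ?_ ?_
      · apply Subtype.ext
        show (x.1 : N) + s x.2 - s (g.rangeRestrict (x.1 + s x.2)) = x.1
        rw [map_add, LinearMap.mem_ker.mp x.1.2, hsg, zero_add, add_sub_cancel_right]
      · show g.rangeRestrict (x.1 + s x.2) = x.2
        rw [map_add, LinearMap.mem_ker.mp x.1.2, hsg, zero_add]

theorem dvd_or_dvd (m : Ideal R) [m.IsPrime] (a b : R) : ∃ u ∉ m, a ∣ u * b ∨ b ∣ u * a := by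
  classical
  obtain ⟨d, hd⟩ := (IsBezout.isPrincipal_of_FG (Ideal.span {a, b}) ⟨{a, b}, by simp⟩).principal
  by_cases h0 : d = 0
  · refine ⟨1, fun h => Ideal.IsPrime.ne_top ‹_› ((Ideal.eq_top_iff_one m).mpr h), Or.inl ?_⟩
    have hb : b ∈ Ideal.span {a, b} := Ideal.subset_span (by simp)
    rw [hd, h0, Submodule.mem_span_singleton] at hb
    obtain ⟨r, hr⟩ := hb
    exact ⟨0, by simp [← hr]⟩
  obtain ⟨a', ha⟩ : ∃ a', a' * d = a := Submodule.mem_span_singleton.mp (hd ▸ Ideal.subset_span (by simp))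
  obtain ⟨b', hb⟩ : ∃ b', b' * d = b := Submodule.mem_span_singleton.mp (hd ▸ Ideal.subset_span (by simp))
  by_cases hm : a' ∈ m ∧ b' ∈ m
  · -- then `d ∈ (a', b') d` forces a contradiction
    exfalso
    have hd' : d ∈ Ideal.span {a, b} := hd ▸ Submodule.mem_span_singleton_self d
    obtain ⟨x, y, hxy⟩ := Ideal.mem_span_pair.mp hd'
    have h1 : (x * a' + y * b' - 1) * d = 0 := by
      rw [← ha, ← hb] at hxy
      linear_combination hxy
    have h1' := (mul_eq_zero.mp h1).resolve_right h0
    exact Ideal.IsPrime.ne_top ‹_› ((Ideal.eq_top_iff_one m).mpr (by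
      rw [← sub_eq_zero.mp h1']
      exact add_mem (m.mul_mem_left x hm.1) (m.mul_mem_left y hm.2)))
  rcases not_and_or.mp hm with hm | hm
  · exact ⟨a', hm, Or.inl ⟨b', by rw [← ha, ← hb]; ring⟩⟩
  · exact ⟨b', hm, Or.inr ⟨a', by rw [← ha, ← hb]; ring⟩⟩

theorem exists_min (m : Ideal R) [m.IsPrime] (s : Finset R) (hs : s.Nonempty) :
    ∃ a ∈ s, ∃ u ∉ m, ∀ b ∈ s, a ∣ u * b := by
  classical
  induction hs using Finset.Nonempty.cons_induction with
  | singleton a =>
    exact ⟨a, Finset.mem_singleton_self a, 1, fun h => Ideal.IsPrime.ne_top ‹_› ((Ideal.eq_top_iff_one m).mpr h),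
      fun b hb => by rw [Finset.mem_singleton.mp hb, one_mul]⟩
  | cons b s _ _ ih =>
    obtain ⟨a, ha, u, hu, hall⟩ := ih
    obtain ⟨t, ht, h⟩ := dvd_or_dvd m a b
    rcases h with h | h
    · refine ⟨a, Finset.mem_cons_of_mem ha, t * u, (Ideal.IsPrime.mul_notMem ‹_› ht hu), fun c hc => ?_⟩
      rcases Finset.mem_cons.mp hc with rfl | hc
      · exact h.trans ⟨u, by ring⟩
      · exact (hall c hc).trans ⟨t, by ring⟩
    · refine ⟨b, Finset.mem_cons_self _ _, t * u, (Ideal.IsPrime.mul_notMem ‹_› ht hu), fun c hc => ?_⟩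
      rcases Finset.mem_cons.mp hc with rfl | hc
      · exact dvd_mul_left _ _
      · obtain ⟨x, hx⟩ := hall c hc
        obtain ⟨y, hy⟩ := h
        exact ⟨y * x, by linear_combination x * hy + t * hx⟩

/-- Scalars through which `M` factors via a sum of cyclic modules. -/
def Retr (M : Type u) [AddCommGroup M] [Module R M] (s : R) : Prop :=
  ∃ (ι : Type) (_ : Fintype ι) (f : ι → R) (α : M →ₗ[R] ((j : ι) → R ⧸ Ideal.span {f j}))
    (β : ((j : ι) → R ⧸ Ideal.span {f j}) →ₗ[R] M), ∀ x, β (α x) = s • x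

theorem retr_local (m : Ideal R) [m.IsPrime] : ∀ (n : ℕ) (N : Submodule R (Fin n → R)), N.FG →
    ∃ s ∉ m, Retr ((Fin n → R) ⧸ N) s := by
  classical
  have h1m : (1 : R) ∉ m := fun h => Ideal.IsPrime.ne_top ‹_› ((Ideal.eq_top_iff_one m).mpr h)
  intro n
  induction n with
  | zero =>
    intro N _
    exact ⟨1, h1m, PEmpty, inferInstance, PEmpty.elim, 0, 0, fun x => Subsingleton.elim _ _⟩
  | succ n ih =>
    intro N hN
    obtain ⟨G, hG⟩ := hN
    obtain ⟨a, g, hg, i₀, rfl, u, hu, hall⟩ : ∃ a, ∃ g : Fin (n + 1) → R, g ∈ N ∧ ∃ i, g i = a ∧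
        ∃ u ∉ m, ∀ g' ∈ G, ∀ i, a ∣ u * g' i := by
      rcases G.eq_empty_or_nonempty with rfl | hne
      · exact ⟨0, 0, N.zero_mem, 0, rfl, 1, h1m, fun _ h => absurd h (Finset.notMem_empty _)⟩
      obtain ⟨a, ha, u, hu, hall⟩ := exists_min m ((G ×ˢ (Finset.univ : Finset (Fin (n + 1)))).image fun p => p.1 p.2)
        ((hne.product Finset.univ_nonempty).image _)
      obtain ⟨⟨g, i⟩, hgi, rfl⟩ := Finset.mem_image.mp ha
      exact ⟨_, g, hG.le (Submodule.subset_span (Finset.mem_product.mp hgi).1), i, rfl, u, hu, fun g' hg' j =>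
        hall _ (Finset.mem_image.mpr ⟨(g', j), Finset.mem_product.mpr ⟨hg', Finset.mem_univ _⟩, rfl⟩)⟩
    set a := g i₀ with ha
    obtain ⟨w, hw⟩ : ∃ w : Fin (n + 1) → R, u • g = a • w ∧ w i₀ = u ∧ a • w ∈ N := by
      by_cases ha0 : a = 0
      · have hG0 : ∀ g' ∈ G, g' = 0 := fun g' hg' => funext fun i => by
          have := hall g' hg' i
          rw [ha0, zero_dvd_iff] at this
          exact (mul_eq_zero.mp this).resolve_left fun h => hu (h ▸ m.zero_mem)
        have hg0 : g = 0 := by
          have : N ≤ ⊥ := by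
            rw [← hG, Submodule.span_le]
            exact fun g' hg' => hG0 g' hg'
          exact (Submodule.mem_bot R).mp (this hg)
        exact ⟨fun _ => u, by simp [hg0, ha0], rfl, by simp [ha0]⟩
      have hdvd : ∀ i, a ∣ u * g i := by
        intro i
        have key : ∀ x ∈ N, a ∣ u * x i := by
          intro x hx
          rw [← hG] at hx
          induction hx using Submodule.span_induction with
          | mem x hx => exact hall x hx i
          | zero => simp
          | add x y _ _ hx hy => rw [Pi.add_apply, mul_add]; exact dvd_add hx hy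
          | smul c x _ hx => rw [Pi.smul_apply, smul_eq_mul, mul_left_comm]; exact hx.mul_left c
        exact key g hg
      choose w hw using hdvd
      have hwg : u • g = a • w := funext hw
      refine ⟨w, hwg, mul_left_cancel₀ ha0 ?_, hwg ▸ N.smul_mem u hg⟩
      rw [← hw, ← ha, mul_comm]
    obtain ⟨hug, hwi, hawN⟩ := hw
    let π : (Fin (n + 1) → R) →ₗ[R] (Fin n → R) :=
      LinearMap.pi fun j => u • LinearMap.proj (i₀.succAbove j) - w (i₀.succAbove j) • LinearMap.proj i₀
    let ι' : (Fin n → R) →ₗ[R] (Fin (n + 1) → R) :=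
      ∑ j, (LinearMap.proj j).smulRight (Pi.single (i₀.succAbove j) 1)
    have hιπ : ∀ x, ι' (π x) = u • x - x i₀ • w := by
      intro x
      have h' : ∀ j, ι' (π x) j = ∑ k, π x k * (Pi.single (i₀.succAbove k) 1 : Fin (n + 1) → R) j := fun j => by
        simp [ι']
      ext j
      rw [h']
      rcases Fin.eq_self_or_eq_succAbove i₀ j with rfl | ⟨k, rfl⟩
      · simp [Pi.single_apply, (Fin.succAbove_ne j _).symm, hwi, mul_comm]
      · simp [π, Pi.single_apply, Fin.succAbove_right_inj, mul_comm (x i₀)]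
    obtain ⟨s', hs', κ, hκ, f, α, β, hβα⟩ := ih (N.map π) ((show N.FG from ⟨G, hG⟩).map π)
    let fP : Option κ → R := fun o => o.elim a f
    let A₀ : ((Fin (n + 1) → R) ⧸ N) →ₗ[R] R ⧸ Ideal.span {a} :=
      N.liftQ (u • ((Ideal.span {a} : Ideal R).mkQ ∘ₗ LinearMap.proj i₀)) (by
        rw [← hG, Submodule.span_le]
        intro g' hg'
        rw [SetLike.mem_coe, LinearMap.mem_ker]
        show u • (Ideal.span {a} : Ideal R).mkQ (g' i₀) = 0
        rw [← map_smul, Submodule.mkQ_apply, Submodule.Quotient.mk_eq_zero]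
        exact Ideal.mem_span_singleton.mpr (hall g' hg' i₀))
    let A₁ := N.mapQ (N.map π) π (Submodule.le_comap_map π N)
    let B₀ : (R ⧸ Ideal.span {a}) →ₗ[R] (Fin (n + 1) → R) ⧸ N :=
      (Ideal.span {a} : Ideal R).liftQ (N.mkQ ∘ₗ LinearMap.toSpanSingleton R _ w) (by
        intro r hr
        obtain ⟨c, rfl⟩ := Ideal.mem_span_singleton'.mp hr
        rw [LinearMap.mem_ker, LinearMap.comp_apply, LinearMap.toSpanSingleton_apply, mul_smul,
          Submodule.mkQ_apply, Submodule.Quotient.mk_eq_zero]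
        exact N.smul_mem c hawN)
    let B₁ : ((Fin n → R) ⧸ N.map π) →ₗ[R] (Fin (n + 1) → R) ⧸ N :=
      (N.map π).liftQ (N.mkQ ∘ₗ (u • ι')) (by
        rw [Submodule.map_le_iff_le_comap, ← hG, Submodule.span_le]
        intro g' hg'
        rw [SetLike.mem_coe, Submodule.mem_comap, LinearMap.mem_ker, LinearMap.comp_apply, LinearMap.smul_apply,
          Submodule.mkQ_apply, Submodule.Quotient.mk_eq_zero, hιπ, smul_sub, smul_smul u (g' i₀)]
        obtain ⟨c, hc⟩ := hall g' hg' i₀
        rw [hc, mul_comm a c, mul_smul]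
        rw [hG]
        exact N.sub_mem (N.smul_mem _ (N.smul_mem _ (hG.le (Submodule.subset_span hg')))) (N.smul_mem _ hawN))
    refine ⟨u * u * s', Ideal.IsPrime.mul_notMem ‹_› (Ideal.IsPrime.mul_notMem ‹_› hu hu) hs',
      Option κ, inferInstance, fP,
      LinearMap.pi fun o => match o with
        | none => s' • A₀
        | some j => LinearMap.proj j ∘ₗ α ∘ₗ A₁,
      B₀ ∘ₗ LinearMap.proj none + B₁ ∘ₗ β ∘ₗ LinearMap.pi fun j => LinearMap.proj (some j), fun x => ?_⟩
    obtain ⟨y, rfl⟩ := N.mkQ_surjective x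
    show B₀ (s' • A₀ (N.mkQ y)) + B₁ (β (α (A₁ (N.mkQ y)))) = _
    rw [hβα, map_smul, map_smul]
    show s' • N.mkQ ((u * y i₀) • w) + s' • N.mkQ (u • ι' (π y)) = (u * u * s') • N.mkQ y
    rw [hιπ, ← map_smul, ← map_smul, ← map_smul, ← map_add]
    congr 1
    ext j
    simp only [Pi.add_apply, Pi.smul_apply, Pi.sub_apply, smul_eq_mul]
    ring

theorem retr_one {M : Type u} [AddCommGroup M] [Module R M] [Module.FinitePresentation R M] : Retr M (1 : R) := by
  classical
  obtain ⟨n, π, hπ⟩ := Module.Finite.exists_fin' R M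
  have hker : (LinearMap.ker π).FG := Module.FinitePresentation.fg_ker π hπ
  let e := π.quotKerEquivOfSurjective hπ
  let J : Ideal R :=
    { carrier := {s | Retr M s}
      zero_mem' := ⟨PEmpty, inferInstance, PEmpty.elim, 0, 0, fun x => by simp⟩
      add_mem' := by
        rintro a b ⟨ι, hι, f, α, β, h⟩ ⟨κ, hκ, g, α', β', h'⟩
        refine ⟨ι ⊕ κ, inferInstance, Sum.elim f g, LinearMap.pi fun o => match o with
            | .inl i => LinearMap.proj i ∘ₗ α
            | .inr i => LinearMap.proj i ∘ₗ α',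
          (β ∘ₗ LinearMap.pi fun i => LinearMap.proj (Sum.inl i)) +
            β' ∘ₗ LinearMap.pi fun i => LinearMap.proj (Sum.inr i), fun x => ?_⟩
        show β (α x) + β' (α' x) = (a + b) • x
        rw [h, h', add_smul]
      smul_mem' := by
        rintro c a ⟨ι, hι, f, α, β, h⟩
        exact ⟨ι, hι, f, α, c • β, fun x => by rw [LinearMap.smul_apply, h, smul_eq_mul, mul_smul]⟩ }
  suffices J = ⊤ from (Ideal.eq_top_iff_one J).mp this
  by_contra hJ
  obtain ⟨m, hm, hJm⟩ := Ideal.exists_le_maximal J hJ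
  haveI := hm.isPrime
  obtain ⟨s, hs, ι, hι, f, α, β, h⟩ := retr_local m n (LinearMap.ker π) hker
  refine hs (hJm ⟨ι, hι, f, α ∘ₗ e.symm.toLinearMap, e.toLinearMap ∘ₗ β, fun x => ?_⟩)
  show e (β (α (e.symm x))) = s • x
  rw [h, map_smul, LinearEquiv.apply_symm_apply]

theorem free_quotient_torsion {M : Type u} [AddCommGroup M] [Module R M] [Module.Finite R M] :
    Module.Free R (M ⧸ Submodule.torsion R M) := by
  classical
  have htf : ∀ (a : R) (x : M ⧸ Submodule.torsion R M), a ≠ 0 → a • x = 0 → x = 0 := by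
    intro a x ha hx
    obtain ⟨x, rfl⟩ := Submodule.Quotient.mk_surjective _ x
    rw [← Submodule.Quotient.mk_smul, Submodule.Quotient.mk_eq_zero] at hx
    obtain ⟨b, hb⟩ := hx
    refine (Submodule.Quotient.mk_eq_zero _).mpr ⟨b * ⟨a, mem_nonZeroDivisors_of_ne_zero ha⟩, ?_⟩
    rw [mul_smul]
    exact hb
  obtain ⟨k, π, hπ⟩ := Module.Finite.exists_fin' R (M ⧸ Submodule.torsion R M)
  let v : Fin k → M ⧸ Submodule.torsion R M := fun i => π (Pi.single i 1)
  obtain ⟨I, hI, hmax⟩ := exists_maximal_linearIndepOn R v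
  have hex : ∀ i, ∃ a : R, a ≠ 0 ∧ a • v i ∈ Submodule.span R (v '' I) := fun i => by
    by_cases hi : i ∈ I
    · exact ⟨1, one_ne_zero, by rw [one_smul]; exact Submodule.subset_span ⟨i, hi, rfl⟩⟩
    · exact hmax i hi
  choose a ha ha' using hex
  let A := ∏ i, a i
  have hA : A ≠ 0 := Finset.prod_ne_zero_iff.mpr fun i _ => ha i
  let F : Submodule R (M ⧸ Submodule.torsion R M) := Submodule.span R (v '' I)
  have hall : ∀ x, A • x ∈ F := by
    intro x
    obtain ⟨c, rfl⟩ := hπ x
    rw [pi_eq_sum_univ' c, map_sum, Finset.smul_sum]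
    refine F.sum_mem fun i _ => ?_
    obtain ⟨b, hb⟩ := Finset.dvd_prod_of_mem a (Finset.mem_univ i)
    rw [map_smul, smul_comm]
    refine F.smul_mem _ ?_
    rw [show A = b * a i from hb.trans (mul_comm _ _), mul_smul]
    exact F.smul_mem _ (ha' i)
  let B : Module.Basis I R F := (Module.Basis.span hI.linearIndependent).map (LinearEquiv.ofEq _ _ (by simp [F, Set.image_eq_range]))
  haveI : Fintype I := Fintype.ofFinite I
  let e : F ≃ₗ[R] (Fin (Fintype.card I) → R) := (B.reindex (Fintype.equivFin I)).equivFun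
  let T : (M ⧸ Submodule.torsion R M) →ₗ[R] (Fin (Fintype.card I) → R) :=
    e.toLinearMap ∘ₗ (A • LinearMap.id).codRestrict F hall
  have hT : Function.Injective T := (injective_iff_map_eq_zero _).mpr fun x hx =>
    htf A x hA (congrArg Subtype.val (e.map_eq_zero_iff.mp hx))
  haveI := free_of_fg _ (LinearMap.range T) (by rw [LinearMap.range_eq_map]; exact Module.Finite.fg_top.map T)
  exact Module.Free.of_equiv (LinearEquiv.ofInjective T hT).symm

end helper

/-- Over a Bézout domain R, a finitely presented module M splits as R^r ⊕ M_tors for some r, and its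
torsion part M_tors is a retract (direct summand) of R/f_1R ⊕ … ⊕ R/f_nR for some nonzero f_1, …,
f_n. -/
theorem result (R : Type u) [CommRing R] [IsDomain R] [IsBezout R]
    (M : Type u) [AddCommGroup M] [Module R M] [Module.FinitePresentation R M] :
    (∃ r : ℕ, Nonempty (M ≃ₗ[R] ((Fin r → R) × Submodule.torsion R M))) ∧
      ∃ (n : ℕ) (f : Fin n → R), (∀ j, f j ≠ 0) ∧
        ∃ (i : Submodule.torsion R M →ₗ[R] ((j : Fin n) → R ⧸ Ideal.span {f j}))
          (p : ((j : Fin n) → R ⧸ Ideal.span {f j}) →ₗ[R] Submodule.torsion R M),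
          p ∘ₗ i = LinearMap.id := by
  classical
  let T := Submodule.torsion R M
  haveI := free_quotient_torsion (R := R) (M := M)
  obtain ⟨σ, hσ⟩ := Module.projective_lifting_property T.mkQ LinearMap.id T.mkQ_surjective
  have hσ' : ∀ y, T.mkQ (σ y) = y := fun y => LinearMap.congr_fun hσ y
  let ρ : M →ₗ[R] T := (LinearMap.id - σ ∘ₗ T.mkQ).codRestrict T fun x => (Submodule.Quotient.mk_eq_zero T).mp (by
    show T.mkQ (x - σ (T.mkQ x)) = 0
    rw [map_sub, hσ', sub_self])
  have hρ : ∀ x : T, ρ x = x := fun x => Subtype.ext (by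
    show (x : M) - σ (T.mkQ x) = x
    rw [show T.mkQ (x : M) = 0 from (Submodule.Quotient.mk_eq_zero T).mpr x.2, map_zero, sub_zero])
  refine ⟨⟨Fintype.card (Module.Free.ChooseBasisIndex R (M ⧸ T)), ⟨?_⟩⟩, ?_⟩
  · let b := (Module.Free.chooseBasis R (M ⧸ T)).reindex (Fintype.equivFin _)
    refine (LinearEquiv.ofLinear ((b.equivFun.toLinearMap ∘ₗ T.mkQ).prod ρ)
      ((σ ∘ₗ b.equivFun.symm.toLinearMap).coprod T.subtype) (LinearMap.ext fun x => ?_) (LinearMap.ext fun x => ?_))
    · refine Prod.ext ?_ ?_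
      · show b.equivFun (T.mkQ (σ (b.equivFun.symm x.1) + x.2)) = x.1
        rw [map_add, hσ', show T.mkQ (x.2 : M) = 0 from (Submodule.Quotient.mk_eq_zero T).mpr x.2.2, add_zero,
          LinearEquiv.apply_symm_apply]
      · show ρ (σ (b.equivFun.symm x.1) + x.2) = x.2
        rw [map_add, hρ, show ρ (σ (b.equivFun.symm x.1)) = 0 from Subtype.ext (by
          show σ _ - σ (T.mkQ (σ _)) = 0
          rw [hσ', sub_self]), zero_add]
    · show σ (b.equivFun.symm (b.equivFun (T.mkQ x))) + (x - σ (T.mkQ x)) = x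
      rw [LinearEquiv.symm_apply_apply, add_sub_cancel]
  obtain ⟨ι, hι, f, α, β, hβα⟩ := retr_one (R := R) (M := M)
  have hzero : ∀ j, f j = 0 → ∀ x : T, α x j = 0 := by
    intro j hj x
    obtain ⟨c, hc⟩ := x.2
    have h1 : (c : R) • α x j = 0 := by
      rw [← Pi.smul_apply, ← map_smul, show (c : R) • (x : M) = 0 from hc, map_zero]
      rfl
    obtain ⟨r, hr⟩ := Submodule.Quotient.mk_surjective _ (α x j)
    rw [← hr] at h1 ⊢
    rw [← Submodule.Quotient.mk_smul, Submodule.Quotient.mk_eq_zero, hj, Ideal.span_singleton_zero, Submodule.mem_bot,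
      smul_eq_mul] at h1
    rw [(mul_eq_zero.mp h1).resolve_left (nonZeroDivisors.ne_zero c.2)]
    rfl
  let e := (Fintype.equivFin ι).symm
  let g : Fin (Fintype.card ι) → R := fun j => if f (e j) = 0 then 1 else f (e j)
  refine ⟨_, g, fun j => by dsimp [g]; split_ifs <;> simp_all, ?_⟩
  let up : ∀ j, (R ⧸ Ideal.span {f (e j)}) →ₗ[R] R ⧸ Ideal.span {g j} := fun j =>
    if h : f (e j) = 0 then 0 else (Submodule.quotEquivOfEq _ _ (by simp [g, h])).toLinearMap
  let down : ∀ i, (R ⧸ Ideal.span {g (e.symm i)}) →ₗ[R] R ⧸ Ideal.span {f i} := fun i =>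
    if h : f i = 0 then 0 else (Submodule.quotEquivOfEq _ _ (by simp [g, h])).toLinearMap
  refine ⟨LinearMap.pi fun j => up j ∘ₗ LinearMap.proj (e j) ∘ₗ α ∘ₗ T.subtype,
    ρ ∘ₗ β ∘ₗ LinearMap.pi fun i => down i ∘ₗ LinearMap.proj (e.symm i), LinearMap.ext fun x => ?_⟩
  show ρ (β fun i => down i (up (e.symm i) (α x (e (e.symm i))))) = x
  have key : (fun i => down i (up (e.symm i) (α x (e (e.symm i))))) = α x := by
    funext i
    have h2 : ∀ (j : ι) (hj : j = i) (r : R), α x j = Submodule.Quotient.mk r → α x i = Submodule.Quotient.mk r := by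
      rintro j rfl r h; exact h
    by_cases hi : f i = 0
    · rw [hzero i hi x, show down i = 0 from dif_pos hi]
      rfl
    · have hj : ¬ f (e (e.symm i)) = 0 := by simpa using hi
      obtain ⟨r, hr⟩ := Submodule.Quotient.mk_surjective _ (α x (e (e.symm i)))
      rw [show down i = _ from dif_neg hi, show up (e.symm i) = _ from dif_neg hj, ← hr,
        h2 _ (e.apply_symm_apply i) r hr.symm]
      rfl
  rw [key, hβα, one_smul, hρ]

end Groth.Agent.S7121
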