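import Mathlib
import Groth.Statements.S7122
-- import your own Groth.Agent.* helpers here

set_option autoImplicit false
universe u
open CAlg

namespace Groth.Agent.S7122

/-- Let R be a Bézout domain, n ≥ 1, and f_1, ..., f_n elements generating the unit ideal. Then some
invertible n × n matrix over R has (f_1, ..., f_n) as its first row. -/
theorem result (R : Type u) [CommRing R] [IsDomain R] [IsBezout R]
    (n : ℕ) (f : Fin (n + 1) → R) (hf : Ideal.span (Set.range f) = ⊤) :
    ∃ A : Matrix (Fin (n + 1)) (Fin (n + 1)) R, IsUnit A.det ∧ A 0 = f := by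
  classical
  suffices H : ∀ (n : ℕ) (f : Fin (n + 1) → R), Ideal.span (Set.range f) = ⊤ →
      ∃ e : (Fin (n + 1) → R) ≃ₗ[R] (Fin (n + 1) → R), e (Pi.single 0 1) = f by
    obtain ⟨e, he⟩ := H n f hf
    refine ⟨(LinearMap.toMatrix' (e : (Fin (n + 1) → R) →ₗ[R] _)).transpose, ?_, ?_⟩
    · rw [Matrix.det_transpose, LinearMap.det_toMatrix']
      exact e.isUnit_det'
    · ext j
      rw [← he]
      simp [Matrix.transpose_apply, LinearMap.toMatrix'_apply, Pi.single_apply, eq_comm]
  intro n
  induction n with
  | zero =>
    intro f hf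
    have hu : IsUnit (f 0) := by
      rw [← Ideal.span_singleton_eq_top, ← hf]
      congr
      ext x
      simp [Set.range_unique, eq_comm]
    refine ⟨LinearEquiv.smulOfUnit hu.unit, funext fun i => ?_⟩
    fin_cases i
    simp [LinearEquiv.smulOfUnit, Units.smul_def]
  | succ n ih =>
    intro f hf
    let g : Fin (n + 1) → R := Fin.tail f
    obtain ⟨d, g', hg', hu⟩ : ∃ (d : R) (g' : Fin (n + 1) → R),
        (∀ i, g i = d * g' i) ∧ Ideal.span (Set.range g') = ⊤ := by
      have : (Ideal.span (Set.range g)).IsPrincipal :=
        IsBezout.isPrincipal_of_FG _ (Submodule.fg_span (Set.finite_range g))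
      obtain ⟨d, hd⟩ := this.principal
      have hdvd : ∀ i, ∃ c, g i = d * c := fun i => by
        have h1 : g i ∈ Ideal.span (Set.range g) := Ideal.subset_span ⟨i, rfl⟩
        rw [hd] at h1
        obtain ⟨c, hc⟩ := Submodule.mem_span_singleton.1 h1
        exact ⟨c, by rw [← hc, smul_eq_mul, mul_comm]⟩
      choose g' hg' using hdvd
      by_cases hd0 : d = 0
      · refine ⟨d, Pi.single 0 1, fun i => by rw [hg' i, hd0, zero_mul, zero_mul], ?_⟩
        rw [Ideal.eq_top_iff_one]
        exact Ideal.subset_span ⟨0, by simp⟩
      · refine ⟨d, g', hg', ?_⟩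
        have h1 : d ∈ Ideal.span (Set.range g) := by rw [hd]; exact Submodule.mem_span_singleton_self d
        obtain ⟨c, hc⟩ := (Ideal.mem_span_range_iff_exists_fun).1 h1
        rw [Ideal.eq_top_iff_one, Ideal.mem_span_range_iff_exists_fun]
        refine ⟨c, mul_left_cancel₀ hd0 ?_⟩
        rw [mul_one, Finset.mul_sum]
        conv_rhs => rw [← hc]
        exact Finset.sum_congr rfl fun i _ => by rw [hg' i]; ring
    obtain ⟨e', he'⟩ := ih g' hu
    obtain ⟨u, v, huv⟩ : ∃ u v : R, u * f 0 + v * d = 1 := by
      have h1 : Ideal.span (Set.range f) ≤ Ideal.span {f 0, d} := by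
        rw [Ideal.span_le]
        rintro _ ⟨i, rfl⟩
        induction i using Fin.cases with
        | zero => exact Ideal.subset_span (Or.inl rfl)
        | succ i =>
          rw [SetLike.mem_coe, show f i.succ = g' i * d from (hg' i).trans (mul_comm _ _)]
          exact Ideal.mul_mem_left _ _ (Ideal.subset_span (Or.inr rfl))
      rw [hf] at h1
      exact Ideal.mem_span_pair.1 (h1 (Submodule.mem_top (x := (1 : R))))
    let E : (R × (Fin (n + 1) → R)) ≃ₗ[R] R × (Fin (n + 1) → R) :=
      { toFun := fun z => (f 0 * z.1 - v * z.2 0, Function.update z.2 0 (d * z.1 + u * z.2 0))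
        map_add' := fun a b => Prod.ext (by simp; ring) (funext fun i => by
          by_cases hi : i = 0
          · subst hi; simp; ring
          · simp [hi])
        map_smul' := fun c a => Prod.ext (by simp; ring) (funext fun i => by
          by_cases hi : i = 0
          · subst hi; simp; ring
          · simp [hi])
        invFun := fun z => (u * z.1 + v * z.2 0, Function.update z.2 0 (f 0 * z.2 0 - d * z.1))
        left_inv := fun z => Prod.ext (by simp; linear_combination z.1 * huv) (funext fun i => by
          by_cases hi : i = 0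
          · subst hi; simp; linear_combination z.2 0 * huv
          · simp [hi])
        right_inv := fun z => Prod.ext (by simp; linear_combination z.1 * huv) (funext fun i => by
          by_cases hi : i = 0
          · subst hi; simp; linear_combination z.2 0 * huv
          · simp [hi]) }
    let c := Fin.consLinearEquiv R (fun _ : Fin (n + 2) => R)
    refine ⟨(c.symm ≪≫ₗ E) ≪≫ₗ (((LinearEquiv.refl R R).prodCongr e') ≪≫ₗ c), ?_⟩
    have h1 : c.symm (Pi.single 0 1) = ((1 : R), 0) := by
      rw [LinearEquiv.symm_apply_eq]
      ext i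
      induction i using Fin.cases <;> simp [c]
    have h2 : E ((1 : R), 0) = (f 0, d • (Pi.single 0 1 : Fin (n + 1) → R)) := Prod.ext (by simp [E]) (funext fun i => by
      by_cases hi : i = 0
      · subst hi; simp [E]
      · simp [E, hi])
    simp only [LinearEquiv.trans_apply]
    rw [h1, h2]
    rw [LinearEquiv.prodCongr_apply]
    simp only [LinearEquiv.refl_apply, map_smul, he']
    ext i
    induction i using Fin.cases with
    | zero => simp [c]
    | succ i => simp [c]; exact (hg' i).symm

end Groth.Agent.S7122
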