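import Groth.Statements.S7123
import Mathlib
-- import your own Groth.Agent.* helpers here

set_option autoImplicit false
universe u
open CAlg

namespace Groth.Agent.S7123

open DirectSum in
/-- For a module P over a ring R these two conditions are equivalent: (1) P is a retract (direct
summand) of a direct sum of cyclic modules R/fR, f ranging over R; (2) for every surjection of
R-modules π : B → C whose kernel A satisfies fA = A ∩ fB for every f in R, each linear map P → C
lifts through π. -/
theorem result (R : Type u) [CommRing R] (P : Type u)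
    [AddCommGroup P] [Module R P] :
    (∃ (ι : Type u) (f : ι → R) (i : P →ₗ[R] (⨁ j, R ⧸ Ideal.span {f j}))
        (p : (⨁ j, R ⧸ Ideal.span {f j}) →ₗ[R] P), p ∘ₗ i = LinearMap.id) ↔
      ∀ (B C : Type u) [AddCommGroup B] [Module R B] [AddCommGroup C] [Module R C] (π : B →ₗ[R] C),
        Function.Surjective π →
        (∀ (f : R) (b : B), π (f • b) = 0 → ∃ a : B, π a = 0 ∧ f • a = f • b) →
        ∀ ψ : P →ₗ[R] C, ∃ φ : P →ₗ[R] B, π ∘ₗ φ = ψ := by
  classical
  constructor
  · rintro ⟨ι, f, i, p, hpi⟩ B C _ _ _ _ π hπ hRD ψ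
    have hl : ∀ j, ∃ b : B, f j • b = 0 ∧
        π b = ψ (p (DirectSum.lof R ι (fun j => R ⧸ Ideal.span {f j}) j (Submodule.Quotient.mk 1))) := by
      intro j
      obtain ⟨b, hb⟩ := hπ (ψ (p (DirectSum.lof R ι (fun j => R ⧸ Ideal.span {f j}) j (Submodule.Quotient.mk 1))))
      obtain ⟨a, ha, hfa⟩ := hRD (f j) b (by
        rw [map_smul, hb, ← map_smul, ← map_smul, ← map_smul, ← Submodule.Quotient.mk_smul, smul_eq_mul, mul_one,
          (Submodule.Quotient.mk_eq_zero _).2 (Ideal.mem_span_singleton_self _), map_zero, map_zero, map_zero])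
      exact ⟨b - a, by rw [smul_sub, hfa, sub_self], by rw [map_sub, ha, sub_zero, hb]⟩
    choose b hb0 hb using hl
    let g : ∀ j, (R ⧸ Ideal.span {f j}) →ₗ[R] B := fun j =>
      Submodule.liftQ _ (LinearMap.toSpanSingleton R B (b j)) ((Submodule.span_singleton_le_iff_mem _ _).2 (by
        simpa [LinearMap.mem_ker] using hb0 j))
    let G := DirectSum.toModule R ι B g
    refine ⟨G ∘ₗ i, ?_⟩
    have hG : π ∘ₗ G = ψ ∘ₗ p := by
      refine DirectSum.linearMap_ext R fun j => Submodule.linearMap_qext _ (LinearMap.ext_ring ?_)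
      simp only [G, g, LinearMap.comp_apply, Submodule.mkQ_apply, DirectSum.toModule_lof, Submodule.liftQ_apply, LinearMap.toSpanSingleton_apply, one_smul, hb j]
    rw [← LinearMap.comp_assoc, hG, LinearMap.comp_assoc, hpi, LinearMap.comp_id]
  · intro h
    let ι := {z : R × P // z.1 • z.2 = 0}
    let f : ι → R := fun z => z.1.1
    let g : ∀ j : ι, (R ⧸ Ideal.span {f j}) →ₗ[R] P := fun j =>
      Submodule.liftQ _ (LinearMap.toSpanSingleton R P j.1.2) ((Submodule.span_singleton_le_iff_mem _ _).2 (by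
        simpa [LinearMap.mem_ker] using j.2))
    let π := DirectSum.toModule R ι P g
    have hπe : ∀ j : ι, π (DirectSum.lof R ι (fun j => R ⧸ Ideal.span {f j}) j (Submodule.Quotient.mk 1)) = j.1.2 := by
      intro j; simp only [π, g, DirectSum.toModule_lof, Submodule.liftQ_apply, LinearMap.toSpanSingleton_apply, one_smul]
    obtain ⟨φ, hφ⟩ := h (⨁ j : ι, R ⧸ Ideal.span {f j}) P π
      (fun x => ⟨_, hπe ⟨(0, x), zero_smul R x⟩⟩)
      (fun r b hrb => by
        have hz : r • π b = 0 := by rw [← map_smul, hrb]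
        refine ⟨b - DirectSum.lof R ι (fun j => R ⧸ Ideal.span {f j}) ⟨(r, π b), hz⟩ (Submodule.Quotient.mk 1), ?_, ?_⟩
        · rw [map_sub, hπe, sub_self]
        · rw [smul_sub, ← map_smul, ← Submodule.Quotient.mk_smul, smul_eq_mul, mul_one,
            (Submodule.Quotient.mk_eq_zero _).2 (Ideal.mem_span_singleton_self _), map_zero, sub_zero])
      LinearMap.id
    exact ⟨ι, f, φ, π, hφ⟩

end Groth.Agent.S7123
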