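import Groth.Statements.S7125
import Mathlib
import Groth.Agent.Ref1.Algebra

set_option autoImplicit false
universe u
open CAlg

namespace Groth.Agent.S7125

open scoped TensorProduct

section

variable {A : Type*} [CommRing A] [IsDomain A] [IsNoetherianRing A] [IsIntegrallyClosed A]

theorem isDVR_atPrime (p : Ideal A) [p.IsPrime] (hp : p.height = 1) :
    IsDiscreteValuationRing (Localization.AtPrime p) := by
  have : IsNoetherianRing (Localization.AtPrime p) :=
    IsLocalization.isNoetherianRing p.primeCompl _ inferInstance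
  have : IsIntegrallyClosed (Localization.AtPrime p) :=
    isIntegrallyClosed_of_isLocalization (Localization.AtPrime p) p.primeCompl
      p.primeCompl_le_nonZeroDivisors
  have hdim : ringKrullDim (Localization.AtPrime p) = 1 := by
    rw [IsLocalization.AtPrime.ringKrullDim_eq_height p, hp]; rfl
  have : Ring.KrullDimLE 1 (Localization.AtPrime p) := Ring.krullDimLE_iff.2 hdim.le
  have hnf : ¬ IsField (Localization.AtPrime p) := fun h => by
    rw [ringKrullDim_eq_zero_of_isField h] at hdim
    exact zero_ne_one (α := WithBot ℕ∞) hdim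
  refine ((IsDiscreteValuationRing.TFAE _ hnf).out 3 0 rfl rfl).mp
    ⟨inferInstance, IsLocalRing.maximalIdeal _, ⟨?_, inferInstance⟩, fun P hP => ?_⟩
  · exact fun h => hnf (IsLocalRing.isField_iff_maximalIdeal_eq.mpr h)
  · have := hP.2
    exact IsLocalRing.eq_maximalIdeal (hP.2.isMaximal_of_ne_bot hP.1)

/-- A local equation of a nonzero element at a height one prime. -/
theorem exists_eq_pow (p : Ideal A) [p.IsPrime] (hp : p.height = 1) (f : A) (hf : f ≠ 0) :
    ∃ (π : A) (k : ℕ) (s c : A), s ∉ p ∧ c ∉ p ∧ s * f = c * π ^ k ∧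
      π ∈ p ∧ π ≠ 0 ∧ Ideal.map (algebraMap A (Localization.AtPrime p)) (Ideal.span {π}) =
        IsLocalRing.maximalIdeal (Localization.AtPrime p) := by
  haveI := isDVR_atPrime p hp
  let Ap := Localization.AtPrime p
  obtain ⟨ϖ, hϖ⟩ := IsDiscreteValuationRing.exists_irreducible Ap
  obtain ⟨⟨π, t⟩, hπ⟩ := IsLocalization.surj p.primeCompl ϖ
  have hu := IsLocalization.map_units Ap t
  have hirr : Irreducible (algebraMap A Ap π) := by
    rw [← hπ]; exact (irreducible_mul_isUnit hu).2 hϖ
  have hmax : Ideal.map (algebraMap A Ap) (Ideal.span {π}) = IsLocalRing.maximalIdeal Ap := by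
    rw [Ideal.map_span, Set.image_singleton, hirr.maximalIdeal_eq]
  obtain ⟨k, u, hk⟩ := IsDiscreteValuationRing.eq_unit_mul_pow_irreducible
    (x := algebraMap A Ap f) ((map_ne_zero_iff _ (IsLocalization.injective Ap p.primeCompl_le_nonZeroDivisors)).2 hf) hirr
  obtain ⟨⟨c, s⟩, hcs⟩ := IsLocalization.surj p.primeCompl (u : Ap)
  refine ⟨π, k, s, c, s.2, fun hc => ?_,
    IsLocalization.injective Ap p.primeCompl_le_nonZeroDivisors ?_,
    (IsLocalization.AtPrime.to_map_mem_maximal_iff Ap p π).1 ?_, fun h0 => ?_, hmax⟩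
  · have h1 : IsUnit (algebraMap A Ap c) := hcs ▸ u.isUnit.mul (IsLocalization.map_units Ap s)
    exact (IsLocalization.AtPrime.isUnit_to_map_iff Ap p c).1 h1 hc
  · rw [map_mul, map_mul, map_pow, hk, ← hcs]; ring
  · rw [hirr.maximalIdeal_eq]; exact Ideal.mem_span_singleton_self _
  · exact hirr.ne_zero (by rw [h0, map_zero])

theorem dvd_of_forall_height_one {f b : A} (hf : f ≠ 0)
    (h : ∀ p : Ideal A, p.IsPrime → p.height = 1 → f ∈ p → ∃ s t : A, s ∉ p ∧ s * b = t * f) :
    f ∣ b := by
  let K := FractionRing A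
  have hfK : algebraMap A K f ≠ 0 := by simpa using hf
  obtain ⟨c, hc⟩ := Groth.Agent.Ref1.mem_range_of_forall_height_one (A := A)
    (algebraMap A K b / algebraMap A K f) (fun p hp h1 => by
      by_cases hfp : f ∈ p
      · obtain ⟨s, t, hs, e⟩ := h p hp h1 hfp
        exact ⟨s, t, hs, by rw [mul_div_assoc', ← map_mul, e, map_mul, mul_div_cancel_right₀ _ hfK]⟩
      · exact ⟨f, b, hfp, mul_div_cancel₀ _ hfK⟩)
  refine ⟨c, IsFractionRing.injective A K ?_⟩
  rw [map_mul, hc, mul_div_cancel₀ _ hfK]

theorem dvd_of_pow_dvd_pow {f b : A} {n : ℕ} (hn : 0 < n) (h : f ^ n ∣ b ^ n) : f ∣ b :=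
  (IsIntegrallyClosed.pow_dvd_pow_iff hn.ne').1 h

end

/-- Let A and B be Noetherian local normal domains and A → B a flat homomorphism that is local, and let
f in A, h in B, n > 1 and a unit w of B satisfy f = w·hⁿ in B. Assume that for every height-one
prime p of A there is a height-one prime q of B lying over p such that A_p ⊆ B_q is weakly
unramified, i.e. p generates the maximal ideal of B_q. Then f = u·gⁿ for some g in A and some unit u
of A. -/
theorem result (A B : Type u) [CommRing A] [IsDomain A]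
    [IsNoetherianRing A] [IsLocalRing A] [IsIntegrallyClosed A] [CommRing B] [IsDomain B] [IsNoetherianRing B]
    [IsLocalRing B] [IsIntegrallyClosed B] [Algebra A B] [IsLocalHom (algebraMap A B)] [Module.Flat A B]
    (f : A) (h : B) (n : ℕ) (hn : 1 < n) (w : Bˣ) (hf : algebraMap A B f = (w : B) * h ^ n)
    (hram : ∀ (p : Ideal A) [p.IsPrime], p.height = 1 →
      ∃ (q : Ideal B) (_ : q.IsPrime), q.height = 1 ∧ q.comap (algebraMap A B) = p ∧
        Ideal.map (algebraMap B (Localization.AtPrime q)) (Ideal.map (algebraMap A B) p) =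
          IsLocalRing.maximalIdeal (Localization.AtPrime q)) :
    ∃ (g : A) (u : Aˣ), f = (u : A) * g ^ n := by
  classical
  haveI : Module.FaithfullyFlat A B := Module.FaithfullyFlat.of_flat_of_isLocalHom
  have hinj : Function.Injective (algebraMap A B) := FaithfulSMul.algebraMap_injective A B
  have hn0 : 0 < n := by omega
  rcases eq_or_ne f 0 with rfl | hf0
  · exact ⟨0, 1, by rw [Units.val_one, one_mul, zero_pow hn0.ne']⟩
  have hh0 : h ≠ 0 := fun h0 => hf0 (hinj (by rw [hf, h0, zero_pow hn0.ne', mul_zero, map_zero]))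
  by_cases hfu : IsUnit f
  · exact ⟨1, hfu.unit, by rw [one_pow, mul_one, hfu.unit_spec]⟩
  have hspan : Ideal.span {f} ≠ ⊤ := fun ht => hfu (Ideal.span_singleton_eq_top.1 ht)
  -- the finitely many relevant primes
  let P := {p : Ideal A | p ∈ (Ideal.span {f}).minimalPrimes}
  have hPfin : P.Finite := (Ideal.span {f}).finite_minimalPrimes_of_isNoetherianRing A
  haveI : Fintype P := hPfin.fintype
  have hP1 : ∀ p : Ideal A, p.IsPrime → p.height = 1 → f ∈ p → p ∈ P := by
    intro p hp h1 hfp
    obtain ⟨p', hp', hle⟩ := Ideal.exists_minimalPrimes_le (J := p)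
      ((Ideal.span_singleton_le_iff_mem p).2 hfp)
    rcases hle.lt_or_eq with hlt | rfl
    · haveI := hp'.1.1
      haveI : p'.FiniteHeight := ⟨Or.inr (ne_top_of_le_ne_top (by rw [h1]; exact ENat.coe_ne_top 1)
        (Ideal.height_mono hle))⟩
      have h2 := Ideal.height_strict_mono_of_isPrime hlt
      rw [h1, ENat.lt_one_iff_eq_zero, Ideal.height_eq_zero_iff_eq_bot] at h2
      have := hp'.1.2 (Ideal.mem_span_singleton_self f)
      rw [h2, Ideal.mem_bot] at this
      exact absurd this hf0
    · exact hp'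
  have hdata : ∀ p : P, ∃ (π : A) (j : ℕ) (s c : A), s ∉ p.1 ∧ c ∉ p.1 ∧ π ≠ 0 ∧
      s * f = c * π ^ (n * j) ∧ ∃ b : B, algebraMap A B s * h = algebraMap A B π ^ j * b := by
    rintro ⟨p, hp⟩
    haveI : p.IsPrime := hp.1.1
    have h1 : p.height = 1 := by
      refine le_antisymm (Ideal.height_le_one_of_isPrincipal_of_mem_minimalPrimes _ _ hp) ?_
      rw [ENat.one_le_iff_ne_zero, ne_eq, Ideal.height_eq_zero_iff_eq_bot]
      rintro rfl
      exact hf0 (Ideal.mem_bot.1 (hp.1.2 (Ideal.mem_span_singleton_self f)))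
    obtain ⟨π, k, s, c, hs, hc, hsc, hπp, hπ0, hπmax⟩ := exists_eq_pow p h1 f hf0
    obtain ⟨q, hq, hq1, hqp, hqmax⟩ := hram p h1
    -- in B_q the element π generates the maximal ideal
    let Bq := Localization.AtPrime q
    haveI := isDVR_atPrime q hq1
    have hunit : ∀ a, a ∉ p → IsUnit (algebraMap B Bq (algebraMap A B a)) := fun a ha =>
      (IsLocalization.AtPrime.isUnit_to_map_iff Bq q _).2 fun hmem => ha (hqp ▸ hmem)
    have hgen : Ideal.span {algebraMap B Bq (algebraMap A B π)} = IsLocalRing.maximalIdeal Bq := by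
      rw [← hqmax]
      refine le_antisymm ?_ ?_
      · rw [Ideal.span_singleton_le_iff_mem]
        exact Ideal.mem_map_of_mem _ (Ideal.mem_map_of_mem _ hπp)
      · rw [Ideal.map_le_iff_le_comap, Ideal.map_le_iff_le_comap]
        intro a ha
        have ha' : algebraMap A (Localization.AtPrime p) a ∈
            Ideal.map (algebraMap A (Localization.AtPrime p)) (Ideal.span {π}) := by
          rw [hπmax]; exact (IsLocalization.AtPrime.to_map_mem_maximal_iff _ p a).2 ha
        obtain ⟨t, ht, hta⟩ := (IsLocalization.algebraMap_mem_map_algebraMap_iff p.primeCompl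
          (Localization.AtPrime p) _ _).1 ha'
        obtain ⟨r, hr⟩ := Ideal.mem_span_singleton.1 hta
        rw [Ideal.mem_comap, Ideal.mem_comap, Ideal.mem_span_singleton]
        rw [← (hunit t ht).dvd_mul_left, ← map_mul, ← map_mul, hr, map_mul, map_mul]
        exact dvd_mul_right _ _
    have hirr : Irreducible (algebraMap B Bq (algebraMap A B π)) :=
      (IsDiscreteValuationRing.irreducible_iff_uniformizer _).2 hgen.symm
    obtain ⟨j, u, hj⟩ := IsDiscreteValuationRing.eq_unit_mul_pow_irreducible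
      (x := algebraMap B Bq h) ((map_ne_zero_iff _
        (IsLocalization.injective Bq q.primeCompl_le_nonZeroDivisors)).2 hh0) hirr
    have hk : k = n * j := by
      have e := congrArg (fun a => algebraMap B Bq (algebraMap A B a)) hsc
      simp only [map_mul, map_pow, hf, hj] at e
      rw [mul_pow, ← pow_mul, mul_comm j n] at e
      have hu' : IsUnit (algebraMap B Bq (algebraMap A B s) * (algebraMap B Bq w * (u : Bq) ^ n)) :=
        (hunit s hs).mul ((w.isUnit.map _).mul (u.isUnit.pow n))
      refine IsDiscreteValuationRing.unit_mul_pow_congr_pow hirr hirr (hunit c hc).unit hu'.unit k (n * j) ?_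
      rw [IsUnit.unit_spec, IsUnit.unit_spec, ← e]
      ring
    subst hk
    refine ⟨π, j, s, c, hs, hc, hπ0, hsc, ?_⟩
    have hdvd : (algebraMap A B π ^ j) ^ n ∣ (algebraMap A B s * h) ^ n := by
      refine ⟨algebraMap A B (s ^ (n - 1) * c) * (w⁻¹ : Bˣ), ?_⟩
      have e := congrArg (algebraMap A B) hsc
      simp only [map_mul, map_pow, hf] at e
      obtain ⟨m, rfl⟩ : ∃ m, n = m + 1 := ⟨n - 1, by omega⟩
      calc (algebraMap A B s * h) ^ (m + 1)
          = algebraMap A B s ^ m * ((algebraMap A B s) * ((w : B) * h ^ (m + 1))) * (w⁻¹ : Bˣ) := by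
            rw [mul_pow, pow_succ (algebraMap A B s) m]
            linear_combination (-(algebraMap A B s ^ m * algebraMap A B s * h ^ (m + 1))) * w.mul_inv
        _ = _ := by
            rw [e, ← pow_mul, mul_comm j, map_mul, map_pow, Nat.add_sub_cancel]
            ring
    obtain ⟨b, hb⟩ := dvd_of_pow_dvd_pow hn0 hdvd
    exact ⟨b, hb⟩
  choose π j s c hs hc hπ0 hsc b hb using hdata
  let φ : A →ₗ[A] ((p : P) → A ⧸ Ideal.span {π p ^ j p}) :=
    LinearMap.pi fun p => (Submodule.mkQ _) ∘ₗ LinearMap.toSpanSingleton A A (s p)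
  let I : Ideal A := LinearMap.ker φ
  -- elements of `I` are divisible by `h` in `B`
  have hIdvd : ∀ a ∈ I, h ∣ algebraMap A B a := by
    intro a ha
    refine dvd_of_pow_dvd_pow hn0 ?_
    have hfa : f ∣ a ^ n := dvd_of_forall_height_one hf0 fun p hp h1 hfp => by
      have := congrFun ha (⟨p, hP1 p hp h1 hfp⟩ : P)
      obtain ⟨r, hr⟩ := Ideal.mem_span_singleton.1 (Ideal.Quotient.eq_zero_iff_mem.1 this)
      set p' : P := ⟨p, hP1 p hp h1 hfp⟩
      refine ⟨c p' * s p' ^ n, r ^ n * s p', fun hm => ?_, ?_⟩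
      · rcases hp.mem_or_mem hm with hm | hm
        · exact hc p' hm
        · exact hs p' (hp.mem_of_pow_mem _ hm)
      · change a • s p' = π p' ^ j p' * r at hr
        rw [smul_eq_mul] at hr
        calc c p' * s p' ^ n * a ^ n = c p' * (a * s p') ^ n := by ring
          _ = r ^ n * (c p' * π p' ^ (n * j p')) := by rw [hr]; ring
          _ = r ^ n * s p' * f := by rw [← hsc p']; ring
    obtain ⟨t, ht⟩ := hfa
    exact ⟨(w : B) * algebraMap A B t, by rw [← map_pow, ht, map_mul, hf]; ring⟩
  -- `h` lies in `I B`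
  have hmem : h ∈ I.map (algebraMap A B) := by
    have hexact : Function.Exact (LinearMap.lTensor B I.subtype) (LinearMap.lTensor B φ) :=
      Module.Flat.lTensor_exact B (LinearMap.exact_subtype_ker_map φ)
    have hz : LinearMap.lTensor B φ (h ⊗ₜ 1) = 0 := by
      refine (TensorProduct.piRight A A B _).injective (funext fun p => ?_)
      rw [LinearMap.lTensor_tmul, map_zero, TensorProduct.piRight_apply, TensorProduct.piRightHom_tmul,
        Pi.zero_apply]
      change h ⊗ₜ[A] Submodule.Quotient.mk ((1 : A) • s p) = 0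
      rw [one_smul, show (Submodule.Quotient.mk (s p) : A ⧸ Ideal.span {π p ^ j p}) =
          s p • Submodule.Quotient.mk 1 by rw [← Submodule.Quotient.mk_smul, smul_eq_mul, mul_one],
        ← TensorProduct.smul_tmul, Algebra.smul_def, hb p, ← map_pow, ← Algebra.smul_def,
        TensorProduct.smul_tmul, ← Submodule.Quotient.mk_smul, smul_eq_mul, mul_one,
        (Submodule.Quotient.mk_eq_zero _).2 (Ideal.mem_span_singleton_self _), TensorProduct.tmul_zero]
    obtain ⟨x, hx⟩ := (hexact _).1 hz
    have key : ∀ y : B ⊗[A] I,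
        TensorProduct.rid A B (LinearMap.lTensor B I.subtype y) ∈ I.map (algebraMap A B) := by
      intro y
      induction y using TensorProduct.induction_on with
      | zero => simp
      | add u v hu hv => rw [map_add, map_add]; exact Ideal.add_mem _ hu hv
      | tmul b a =>
        simp only [LinearMap.lTensor_tmul, Submodule.subtype_apply, TensorProduct.rid_tmul,
          Algebra.smul_def]
        exact Ideal.mul_mem_right _ _ (Ideal.mem_map_of_mem _ a.2)
    have := key x
    rwa [hx, TensorProduct.rid_tmul, one_smul] at this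
  -- one of the generators is `h` times a unit
  obtain ⟨a, ha, hau⟩ : ∃ a ∈ I, ∃ u : Bˣ, algebraMap A B a = h * u := by
    by_contra hcon
    have hle : I.map (algebraMap A B) ≤ Ideal.span {h} * IsLocalRing.maximalIdeal B := by
      rw [Ideal.map_le_iff_le_comap]
      intro a ha
      obtain ⟨t, ht⟩ := hIdvd a ha
      rw [Ideal.mem_comap, ht]
      exact Ideal.mul_mem_mul (Ideal.mem_span_singleton_self h)
        ((IsLocalRing.mem_maximalIdeal _).2 fun hu => hcon ⟨a, ha, hu.unit, ht⟩)
    obtain ⟨z, hz, hzh⟩ := Ideal.mem_span_singleton_mul.1 (hle hmem)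
    have hz1 : z = 1 := mul_left_cancel₀ hh0 (by rw [hzh, mul_one])
    exact (IsLocalRing.mem_maximalIdeal _).1 (hz1 ▸ hz) isUnit_one
  obtain ⟨u, hu⟩ := hau
  have e : algebraMap A B (a ^ n) = ((u ^ n * w⁻¹ : Bˣ) : B) * algebraMap A B f := by
    rw [map_pow, hu, hf, mul_pow, Units.val_mul, Units.val_pow_eq_pow_val]
    linear_combination (-(h ^ n * (u : B) ^ n)) * w.mul_inv
  have hmemf : algebraMap A B (a ^ n) ∈ (Ideal.span {f}).map (algebraMap A B) := by
    rw [e]; exact Ideal.mul_mem_left _ _ (Ideal.mem_map_of_mem _ (Ideal.mem_span_singleton_self f))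
  rw [← Ideal.mem_comap, Ideal.comap_map_eq_self_of_faithfullyFlat] at hmemf
  obtain ⟨t, ht⟩ := Ideal.mem_span_singleton.1 hmemf
  have htu : IsUnit t := by
    refine isUnit_of_map_unit (algebraMap A B) t ?_
    have : algebraMap A B t = ((u ^ n * w⁻¹ : Bˣ) : B) := by
      refine mul_left_cancel₀ (a := algebraMap A B f) ?_ ?_
      · rwa [ne_eq, map_eq_zero_iff _ hinj]
      · rw [← map_mul, ← ht, e]; ring
    rw [this]; exact Units.isUnit _
  refine ⟨a, htu.unit⁻¹, ?_⟩
  rw [ht, mul_left_comm, IsUnit.val_inv_mul, mul_one]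



end Groth.Agent.S7125
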