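import Mathlib
import Groth.Statements.S7129
-- import your own Groth.Agent.* helpers here

set_option autoImplicit false
universe u
open EtAlg

namespace Groth.Agent.S7129

/-- Every module over a product of fields ∏ K_i is flat over it (the product is an absolutely flat
ring). -/
theorem result (ι : Type u) (K : ι → Type u) [∀ i, Field (K i)] (M : Type u)
    [AddCommGroup M] [Module (∀ i, K i) M] : Module.Flat (∀ i, K i) M := by
  classical
  have hprinc : ∀ I : Ideal (∀ i, K i), I.FG → ∃ e ∈ I, ∀ x ∈ I, x * e = x := by
    intro I hI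
    induction I, hI using Submodule.fg_induction with
    | singleton x =>
      refine ⟨fun i => (x i)⁻¹ * x i, Submodule.mem_span_singleton.2 ⟨fun i => (x i)⁻¹, rfl⟩, fun z hz => ?_⟩
      obtain ⟨w, rfl⟩ := Submodule.mem_span_singleton.1 hz
      funext i
      by_cases h : x i = 0
      · simp [h]
      · simp [h]
    | sup I₁ I₂ _ _ h₁ h₂ =>
      obtain ⟨e, he, he'⟩ := h₁
      obtain ⟨f, hf, hf'⟩ := h₂
      refine ⟨e + f - e * f, ?_, fun z hz => ?_⟩
      · exact sub_mem (add_mem (Submodule.mem_sup_left he) (Submodule.mem_sup_right hf))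
          (Ideal.mul_mem_left _ _ (Submodule.mem_sup_right hf))
      · obtain ⟨a, ha, b, hb, rfl⟩ := Submodule.mem_sup.1 hz
        linear_combination (1 - f) * he' a ha + (1 - e) * hf' b hb
  rw [Module.Flat.iff_rTensor_injective]
  intro I hI
  obtain ⟨e, he, he'⟩ := hprinc I hI
  let r : (∀ i, K i) →ₗ[∀ i, K i] I := (LinearMap.toSpanSingleton _ _ e).codRestrict I fun x => I.mul_mem_left x he
  have hr : r.comp I.subtype = LinearMap.id := LinearMap.ext fun x => Subtype.ext (he' x.1 x.2)
  have h2 := LinearMap.rTensor_comp M r I.subtype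
  rw [hr, LinearMap.rTensor_id] at h2
  exact fun a b hab => by
    have ha := LinearMap.congr_fun h2 a
    have hb := LinearMap.congr_fun h2 b
    simp only [LinearMap.comp_apply, LinearMap.id_apply] at ha hb
    rw [ha, hb, hab]

end Groth.Agent.S7129
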