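import Groth.Statements.S7131
import Groth.Agent.DiagSmooth.TorBase
import Groth.Agent.EtAlgLib.Weakly
-- import your own Groth.Agent.* helpers here

set_option autoImplicit false
set_option linter.style.haveILetI false
universe u
open EtAlg

namespace Groth.Agent.S7131

theorem key (A B : Type u) [CommRing A] [CommRing B] [Algebra A B]
    [Algebra.WeaklyEtale A B] (d : ℕ) :
    ∀ k : ℕ, k ≤ d → ∀ (N : Type u) [AddCommGroup N] [Module B N] [Module A N] [IsScalarTower A B N],
      DRing.HasTorDimLE A k N → DRing.HasTorDimLE B k N := by
  intro k
  induction k with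
  | zero =>
    intro _ N _ _ _ _ h
    haveI : Module.Flat A N := Groth.Agent.DiagSmooth.flat_of_td h
    haveI : Module.Flat B N :=
      Groth.Agent.EtAlgLib.flat_of_flat_lmul A (Algebra.WeaklyEtale.flat_lmul' A B) N
    exact Groth.Agent.DiagSmooth.td_of_isFlat N 0
  | succ n ih =>
    intro hk N _ _ _ _ h
    let g : (N →₀ B) →ₗ[B] N := Finsupp.linearCombination B (id : N → N)
    have hg : Function.Surjective g := Finsupp.linearCombination_id_surjective B N
    haveI : Module.Flat A (N →₀ B) := Module.Flat.trans A B (N →₀ B)
    refine (Groth.Agent.DiagSmooth.td_succ_iff g hg n).2 (ih (by omega) _ ?_)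
    exact Groth.Agent.DiagSmooth.td_of_linearEquiv (LinearEquiv.refl A (LinearMap.ker g))
      ((Groth.Agent.DiagSmooth.td_succ_iff (g.restrictScalars A) hg n).1 h)

/-- Suppose A → B is weakly étale and every A-module has tor dimension at most d. Then every B-module
has tor dimension at most d over B (weak dimension at most d ascends along weakly étale maps). -/
theorem result (A B : Type u) [CommRing A] [CommRing B] [Algebra A B]
    [Algebra.WeaklyEtale A B] (d : ℕ)
    (hA : ∀ (M : Type u) [AddCommGroup M] [Module A M], DRing.HasTorDimLE A d M)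
    (N : Type u) [AddCommGroup N] [Module B N] : DRing.HasTorDimLE B d N := by
  letI := Module.compHom N (algebraMap A B)
  haveI : IsScalarTower A B N := IsScalarTower.of_algebraMap_smul fun _ _ => rfl
  exact key A B d d le_rfl N (hA N)

end Groth.Agent.S7131
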