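import Groth.Statements.S7133
import Mathlib
-- import your own Groth.Agent.* helpers here

set_option autoImplicit false
universe u
open EtAlg

namespace Groth.Agent.S7133

/-- For an injective local homomorphism A → B of discrete valuation rings whose fields of fractions are
K ⊆ L: if K has characteristic p > 0 and L/K is purely inseparable, then the ramification index of B
over A is a power of p. -/
theorem result (A B K L : Type u) [CommRing A] [IsDomain A]
    [IsDiscreteValuationRing A] [CommRing B] [IsDomain B] [IsDiscreteValuationRing B] [Algebra A B]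
    (hinj : Function.Injective (algebraMap A B)) [IsLocalHom (algebraMap A B)]
    [Field K] [Field L] [Algebra A K] [IsFractionRing A K] [Algebra B L] [IsFractionRing B L]
    [Algebra K L] [Algebra A L] [IsScalarTower A K L] [IsScalarTower A B L]
    (p : ℕ) (hp : p.Prime) [CharP K p] [IsPurelyInseparable K L] :
    ∃ k : ℕ, Ideal.ramificationIdx' (IsLocalRing.maximalIdeal A) (IsLocalRing.maximalIdeal B) =
      p ^ k := by
  haveI : ExpChar K p := ExpChar.prime hp
  obtain ⟨ϖA, hA⟩ := IsDiscreteValuationRing.exists_irreducible A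
  obtain ⟨ϖB, hB⟩ := IsDiscreteValuationRing.exists_irreducible B
  obtain ⟨k0, y, hy⟩ := IsPurelyInseparable.pow_mem K p (algebraMap B L ϖB)
  have hKL : ∀ a : A, algebraMap K L (algebraMap A K a) = algebraMap B L (algebraMap A B a) := fun a => by
    rw [← IsScalarTower.algebraMap_apply A K L, ← IsScalarTower.algebraMap_apply A B L]
  obtain ⟨a, s, hs, hay⟩ := IsFractionRing.div_surjective (A := A) y
  have hs0 : s ≠ 0 := nonZeroDivisors.ne_zero hs
  have heq : algebraMap A B a = ϖB ^ (p ^ k0) * algebraMap A B s := by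
    apply IsFractionRing.injective B L
    rw [map_mul, map_pow, ← hKL, ← hKL, ← hy, ← map_mul, ← hay,
      div_mul_cancel₀ _ ((map_ne_zero_iff _ (IsFractionRing.injective A K)).mpr hs0)]
  have hB0 : ϖB ≠ 0 := hB.ne_zero
  have ha0 : a ≠ 0 := by
    rintro rfl
    rw [map_zero] at heq
    exact mul_ne_zero (pow_ne_zero _ hB0) ((map_ne_zero_iff _ hinj).mpr hs0) heq.symm
  obtain ⟨i, ua, hia⟩ := IsDiscreteValuationRing.eq_unit_mul_pow_irreducible ha0 hA
  obtain ⟨j, us, hjs⟩ := IsDiscreteValuationRing.eq_unit_mul_pow_irreducible hs0 hA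
  have hA0 : algebraMap A B ϖA ≠ 0 := (map_ne_zero_iff _ hinj).mpr hA.ne_zero
  obtain ⟨e, ue, he⟩ := IsDiscreteValuationRing.eq_unit_mul_pow_irreducible hA0 hB
  let f : Aˣ →* Bˣ := Units.map (algebraMap A B).toMonoidHom
  have hkey : e * i = p ^ k0 + e * j := by
    refine IsDiscreteValuationRing.unit_mul_pow_congr_pow hB hB (f ua * ue ^ i) (f us * ue ^ j)
      (e * i) (p ^ k0 + e * j) ?_
    have h := heq
    rw [hia, hjs, map_mul, map_mul, map_pow, map_pow, he, mul_pow, mul_pow, ← pow_mul, ← pow_mul] at h
    simp only [Units.val_mul, Units.val_pow_eq_pow_val, f, Units.coe_map, RingHom.toMonoidHom_eq_coe,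
      MonoidHom.coe_coe, pow_add]
    linear_combination h
  have hle : j ≤ i := by
    by_contra hlt
    push Not at hlt
    have : e * i ≤ e * j := Nat.mul_le_mul_left e hlt.le
    have := Nat.pow_pos (n := k0) hp.pos
    omega
  have hdvd : e ∣ p ^ k0 := ⟨i - j, by rw [Nat.mul_sub]; omega⟩
  obtain ⟨k, -, hk⟩ := (Nat.dvd_prime_pow hp).mp hdvd
  refine ⟨k, ?_⟩
  have hmap : (IsLocalRing.maximalIdeal A).map (algebraMap A B) = IsLocalRing.maximalIdeal B ^ e := by
    rw [hA.maximalIdeal_eq, Ideal.map_span, Set.image_singleton, he, hB.maximalIdeal_eq,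
      Ideal.span_singleton_pow]
    exact Ideal.span_singleton_mul_left_unit ue.isUnit _
  rw [← hk]
  refine Ideal.ramificationIdx'_spec hmap.le fun hle' => ?_
  rw [hmap, hB.maximalIdeal_eq, Ideal.span_singleton_pow, Ideal.span_singleton_pow,
    Ideal.span_singleton_le_span_singleton] at hle'
  exact absurd ((pow_dvd_pow_iff hB.ne_zero hB.not_isUnit).mp hle') (by omega)

end Groth.Agent.S7133
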