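import Groth.Statements.S7134
import Groth.Agent.GRing17.AdicSmoothFlat
import Groth.Agent.EGA41Lib.Separable
import Groth.Agent.CohenStruct.QuasiExcellent

set_option autoImplicit false
universe u
open EtAlg

namespace Groth.Agent.S7134

/-- For an injective local homomorphism A → B of discrete valuation rings, A → B is formally smooth for
the adic topology of the maximal ideal of B if and only if A → B is weakly unramified and the
residue field of B is a separable (possibly transcendental, i.e. geometrically reduced) extension of
the residue field of A. -/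
theorem result (A B : Type u) [CommRing A]
    [IsDomain A] [IsDiscreteValuationRing A] [CommRing B] [IsDomain B] [IsDiscreteValuationRing B] [Algebra A B]
    (hinj : Function.Injective (algebraMap A B)) [IsLocalHom (algebraMap A B)] :
    CAlgX.IsAdicFormallySmooth A B (IsLocalRing.maximalIdeal B) ↔
      EtRam.IsWeaklyUnramified A B ∧
        Algebra.IsGeometricallyReduced (IsLocalRing.ResidueField A) (IsLocalRing.ResidueField B) := by
  open IsLocalRing in
  classical
  have : Module.IsTorsionFree A B := Module.isTorsionFree_iff_algebraMap_injective.mpr hinj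
  let k := ResidueField A
  let K := ResidueField B
  rw [← EGA41Lib.formallySmooth_iff_isGeometricallyReduced]
  refine ⟨fun h => ?_, fun ⟨hw, hK⟩ => ?_⟩
  · let J : Ideal B := (maximalIdeal A).map (algebraMap A B)
    have hle : J ≤ maximalIdeal B := Ideal.map_le_iff_le_comap.mpr fun a ha => map_nonunit (algebraMap A B) a ha
    have : Nontrivial (B ⧸ J) :=
      Ideal.Quotient.nontrivial_iff.mpr (ne_top_of_le_ne_top (maximalIdeal.isMaximal B).ne_top hle)
    have : IsLocalRing (B ⧸ J) := IsLocalRing.of_surjective' _ Ideal.Quotient.mk_surjective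
    let _ : Algebra k (B ⧸ J) := (Ideal.Quotient.lift (maximalIdeal A) ((Ideal.Quotient.mk J).comp (algebraMap A B))
      fun a ha => Ideal.Quotient.eq_zero_iff_mem.mpr (Ideal.mem_map_of_mem _ ha)).toAlgebra
    have hQ : CAlgX.IsAdicFormallySmooth k (B ⧸ J) (maximalIdeal (B ⧸ J)) :=
      GRing17.adicSmooth_quotient (residue A) residue_surjective (Ideal.Quotient.mk J) Ideal.Quotient.mk_surjective
        (fun a => rfl) (by
          rw [Ideal.mk_ker]
          exact Ideal.map_mono (fun a ha => (residue_eq_zero_iff a).mpr ha)) h
    have hreg : IsRegularRing (B ⧸ J) :=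
      FlatAscent.isRegularRing_transport (Algebra.TensorProduct.lid k (B ⧸ J)).toRingEquiv
        ((S4512.result hQ).1 k inferInstance)
    have := CohenStruct.isReduced_of_isRegularRing _ hreg
    have hrad : J.IsRadical := Ideal.isRadical_iff_quotient_reduced J |>.mpr inferInstance
    have hJ0 : J ≠ ⊥ := fun h0 => IsDiscreteValuationRing.not_a_field A
      ((Ideal.map_eq_bot_iff_of_injective hinj).mp h0)
    have hJ : J = maximalIdeal B := by
      refine le_antisymm hle ?_
      rw [← hrad.radical, Ideal.radical_eq_sInf]
      refine le_sInf fun P ⟨hP, hPp⟩ => ?_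
      exact (IsLocalRing.eq_maximalIdeal (hPp.isMaximal (ne_bot_of_le_ne_bot hJ0 hP))).ge
    refine ⟨hJ, ?_⟩
    have hKfs : CAlgX.IsAdicFormallySmooth k K (maximalIdeal K) :=
      GRing17.adicSmooth_quotient (residue A) residue_surjective (residue B) residue_surjective
        (fun a => rfl) (fun x hx => by
          have h1 : x ∈ J := hJ.ge ((residue_eq_zero_iff x).mp hx)
          exact Ideal.map_mono (fun a ha => (residue_eq_zero_iff a).mpr ha) h1) h
    refine Algebra.FormallySmooth.of_comp_surjective fun E _ _ N hN ψ => hKfs E N hN ψ ⟨1, fun x hx => ?_⟩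
    rw [pow_one, IsLocalRing.isField_iff_maximalIdeal_eq.mp (Field.toIsField K)] at hx
    rw [(Submodule.mem_bot K).mp hx, map_zero]
  · refine GRing17.adicSmooth_of_fibre (residue A) residue_surjective Ideal.mk_ker (residue B) residue_surjective
      (fun a => rfl) (fun x hx => hw.ge ((residue_eq_zero_iff x).mp hx))
      fun E _ _ N hN ψ _ => Algebra.FormallySmooth.comp_surjective _ _ N hN ψ

end Groth.Agent.S7134
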