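import Groth.Statements.S7135
import Mathlib.RingTheory.AdicCompletion.Functoriality
import Mathlib.RingTheory.Filtration
import Mathlib.RingTheory.Finiteness.Basic

set_option autoImplicit false
universe u
open CAlg

namespace Groth.Agent.S7135

/-- Let A be a Noetherian ring, I an ideal and M, N finite A-modules. If M/IⁿM and N/IⁿN are isomorphic
for every n, then the I-adic completions of M and N are isomorphic as modules over the I-adic
completion of A. -/
theorem result (A : Type u) [CommRing A] [IsNoetherianRing A] (I : Ideal A)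
    (M N : Type u) [AddCommGroup M] [Module A M] [Module.Finite A M] [AddCommGroup N] [Module A N]
    [Module.Finite A N]
    (h : ∀ n : ℕ, Nonempty ((M ⧸ (I ^ n • ⊤ : Submodule A M)) ≃ₗ[A] (N ⧸ (I ^ n • ⊤ : Submodule A N)))) :
    Nonempty (AdicCompletion I M ≃ₗ[AdicCompletion I A] AdicCompletion I N) := by
  classical
  -- lift a map at a deep level
  have key : ∀ (P Q : Type u) [AddCommGroup P] [Module A P] [Module.Finite A P] [AddCommGroup Q] [Module A Q] [Module.Finite A Q],
      (∀ n : ℕ, Nonempty ((P ⧸ (I ^ n • ⊤ : Submodule A P)) ≃ₗ[A] (Q ⧸ (I ^ n • ⊤ : Submodule A Q)))) →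
      ∃ ψ : P →ₗ[A] Q, ∀ n : ℕ, ∀ q : Q, ∃ p : P, q - ψ p ∈ (I ^ n • ⊤ : Submodule A Q) := by
    intro P Q _ _ _ _ _ _ hPQ
    obtain ⟨r, π, hπ⟩ := Module.Finite.exists_fin' A P
    obtain ⟨s, κ, hκ⟩ := Submodule.fg_iff_exists_fin_generating_family.1 (IsNoetherian.noetherian (LinearMap.ker π))
    let H : (Fin r → Q) →ₗ[A] (Fin s → Q) := LinearMap.pi fun i => ∑ j, κ i j • LinearMap.proj j
    obtain ⟨k, hk⟩ := Ideal.exists_pow_inf_eq_pow_smul I (LinearMap.range H)
    obtain ⟨φ⟩ := hPQ (k + 1)
    choose x hx using fun j : Fin r => Submodule.Quotient.mk_surjective (I ^ (k + 1) • ⊤ : Submodule A Q)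
      (φ (Submodule.Quotient.mk (π (Pi.single j 1))))
    have hexp : ∀ c : Fin r → A, c = ∑ j, c j • Pi.single j (1 : A) := fun c => by
      funext i; simp [Finset.sum_apply, Pi.single_apply]
    have hval : ∀ c : Fin r → A, Submodule.Quotient.mk (∑ j, c j • x j) = φ (Submodule.Quotient.mk (π c)) := fun c => by
      conv_rhs => rw [hexp c]
      simp only [map_sum, map_smul, Submodule.mkQ_apply]
      rw [← Submodule.mkQ_apply, ← Submodule.mkQ_apply, map_sum, map_sum, map_sum]
      refine Finset.sum_congr rfl fun j _ => ?_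
      rw [map_smul, map_smul, map_smul, Submodule.mkQ_apply, hx, Submodule.mkQ_apply]
    have hHmem : H x ∈ (I ^ (k + 1) • ⊤ : Submodule A (Fin s → Q)) := by
      rw [show H x = ∑ i, Pi.single i (H x i) from (Finset.univ_sum_single _).symm]
      refine Submodule.sum_mem _ fun i _ => ?_
      have hi : H x i ∈ (I ^ (k + 1) • ⊤ : Submodule A Q) := by
        rw [← Submodule.Quotient.mk_eq_zero]
        have hker : π (κ i) = 0 := LinearMap.mem_ker.1 (hκ ▸ Submodule.subset_span ⟨i, rfl⟩)
        simp only [H, LinearMap.pi_apply, LinearMap.sum_apply, LinearMap.smul_apply, LinearMap.proj_apply]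
        rw [hval, hker, Submodule.Quotient.mk_zero, map_zero]
      have := Submodule.mem_map_of_mem (f := LinearMap.single A (fun _ : Fin s => Q) i) hi
      rw [Submodule.map_smul''] at this
      exact Submodule.smul_mono le_rfl le_top this
    have h1 : H x ∈ I ^ 1 • (I ^ k • ⊤ ⊓ LinearMap.range H) := by
      have := hk (k + 1) k.le_succ
      rw [Nat.add_sub_cancel_left] at this
      rw [← this]
      exact ⟨hHmem, x, rfl⟩
    have h2 : H x ∈ Submodule.map H (I • ⊤) := by
      rw [Submodule.map_smul'', Submodule.map_top]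
      exact Submodule.smul_mono (pow_one I).le inf_le_right h1
    obtain ⟨y, hy, hyx⟩ := h2
    let x' := x - y
    let Ψ : (Fin r → A) →ₗ[A] Q := ∑ j, (LinearMap.proj j : (Fin r → A) →ₗ[A] A).smulRight (x' j)
    have hΨ : ∀ c, Ψ c = ∑ j, c j • x' j := fun c => by simp [Ψ]
    have hle : LinearMap.ker π ≤ LinearMap.ker Ψ := by
      rw [← hκ, Submodule.span_le]
      rintro _ ⟨i, rfl⟩
      have h0 : H x' i = 0 := by rw [map_sub, hyx, sub_self]; rfl
      simp only [H, LinearMap.pi_apply, LinearMap.sum_apply, LinearMap.smul_apply, LinearMap.proj_apply] at h0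
      rw [SetLike.mem_coe, LinearMap.mem_ker, hΨ]
      exact h0
    let ψ : P →ₗ[A] Q := (LinearMap.ker π).liftQ Ψ hle ∘ₗ (π.quotKerEquivOfSurjective hπ).symm.toLinearMap
    have hψ : ∀ c, ψ (π c) = Ψ c := fun c => by
      simp only [ψ, LinearMap.comp_apply, LinearEquiv.coe_coe]
      rw [show (π.quotKerEquivOfSurjective hπ).symm (π c) = Submodule.Quotient.mk c from
        (LinearEquiv.symm_apply_eq _).2 rfl, Submodule.liftQ_apply]
    have hyj : ∀ j, y j ∈ (I • ⊤ : Submodule A Q) := fun j => by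
      have := Submodule.mem_map_of_mem (f := LinearMap.proj (R := A) (φ := fun _ : Fin r => Q) j) hy
      rw [Submodule.map_smul''] at this
      exact Submodule.smul_mono le_rfl le_top this
    refine ⟨ψ, ?_⟩
    have hone : ∀ q : Q, ∃ p : P, q - ψ p ∈ (I • ⊤ : Submodule A Q) := fun q => by
      obtain ⟨p₀, hp₀⟩ := Submodule.Quotient.mk_surjective _ (φ.symm (Submodule.Quotient.mk q))
      obtain ⟨c, rfl⟩ := hπ p₀
      refine ⟨π c, ?_⟩
      have hq : q - ∑ j, c j • x j ∈ (I ^ (k + 1) • ⊤ : Submodule A Q) := by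
        rw [← Submodule.Quotient.mk_eq_zero, Submodule.Quotient.mk_sub, hval, hp₀, φ.apply_symm_apply, sub_self]
      rw [hψ, hΨ, show q - ∑ j, c j • x' j = (q - ∑ j, c j • x j) + ∑ j, c j • y j by
        simp only [x', Pi.sub_apply, smul_sub, Finset.sum_sub_distrib]; abel]
      exact add_mem (Submodule.smul_mono (Ideal.pow_le_self (Nat.succ_ne_zero k)) le_rfl hq)
        (sum_mem fun j _ => Submodule.smul_mem _ _ (hyj j))
    intro n
    have hsup : ∀ n : ℕ, LinearMap.range ψ ⊔ I ^ n • ⊤ = ⊤ := fun n => by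
      induction n with
      | zero => simp
      | succ n ih =>
        refine top_le_iff.1 (ih.symm.le.trans (sup_le le_sup_left ?_))
        have h1 : (⊤ : Submodule A Q) ≤ LinearMap.range ψ ⊔ I • ⊤ := fun q _ => by
          obtain ⟨p, hp⟩ := hone q
          exact Submodule.mem_sup.2 ⟨ψ p, ⟨p, rfl⟩, q - ψ p, hp, add_sub_cancel _ _⟩
        refine (Submodule.smul_mono le_rfl h1).trans ?_
        rw [Submodule.smul_sup, ← Submodule.smul_assoc, smul_eq_mul, ← pow_succ]
        exact sup_le_sup_right (fun z hz => Submodule.smul_le_right hz) _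
    intro q
    obtain ⟨_, ⟨p, rfl⟩, z, hz, hq⟩ := Submodule.mem_sup.1 ((hsup n).ge (Submodule.mem_top : q ∈ ⊤))
    exact ⟨p, by rw [← hq, add_sub_cancel_left]; exact hz⟩
  obtain ⟨ψ, hψ⟩ := key M N h
  obtain ⟨χ, hχ⟩ := key N M fun n => (h n).map LinearEquiv.symm
  have hsurj : ∀ {P Q : Type u} [AddCommGroup P] [Module A P] [AddCommGroup Q] [Module A Q] (f : P →ₗ[A] Q),
      (∀ n : ℕ, ∀ q : Q, ∃ p : P, q - f p ∈ (I ^ n • ⊤ : Submodule A Q)) →
      ∀ n, Function.Surjective (LinearMap.reduceModIdeal (I ^ n) f) := fun f hf n q => by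
    obtain ⟨q, rfl⟩ := Submodule.Quotient.mk_surjective _ q
    obtain ⟨p, hp⟩ := hf n q
    exact ⟨Submodule.Quotient.mk p, ((Submodule.Quotient.eq _).2 hp).symm⟩
  have hbij : ∀ n, Function.Bijective (LinearMap.reduceModIdeal (I ^ n) ψ) := fun n => by
    refine ⟨?_, hsurj ψ hψ n⟩
    let e := (LinearMap.reduceModIdeal (I ^ n) χ).restrictScalars A ∘ₗ (LinearMap.reduceModIdeal (I ^ n) ψ).restrictScalars A
    have he : Function.Injective e :=
      OrzechProperty.injective_of_surjective_endomorphism e ((hsurj χ hχ n).comp (hsurj ψ hψ n))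
    exact Function.Injective.of_comp (f := LinearMap.reduceModIdeal (I ^ n) χ) he
  refine ⟨LinearEquiv.ofBijective (AdicCompletion.map I ψ) ⟨fun x y hxy => ?_, fun y => ?_⟩⟩
  · ext n
    apply (hbij n).1
    have := congrArg (fun z : AdicCompletion I N => z.val n) hxy
    simpa using this
  · choose x hx using fun n => (hbij n).2 (y.val n)
    refine ⟨⟨x, fun {m n} hmn => ?_⟩, ?_⟩
    · apply (hbij m).1
      obtain ⟨p, hp⟩ := Submodule.Quotient.mk_surjective _ (x n)
      rw [hx m, ← y.property hmn, ← hx n, ← hp]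
      rfl
    · ext n; simpa using hx n

end Groth.Agent.S7135
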