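import Groth.Statements.S7136
import Mathlib

set_option autoImplicit false
universe u
open CAlg

namespace Groth.Agent.S7136

/-- Let A be a Noetherian ring, I an ideal, and M, N finite A-modules; write N_n = N/IⁿN, so that
Hom_A(M/IⁿM, N_n) = Hom_A(M, N_n). Then (1) the inverse system (Hom_A(M, N_n))_n, with transition
maps induced by the projections N_k → N_n, is Mittag-Leffler; (2) there is c ≥ 0 such that for all n
the kernel and the cokernel of Hom_A(M, N)/IⁿHom_A(M, N) → Hom_A(M, N_n) are annihilated by I^c. -/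
theorem result (A : Type u) [CommRing A] [IsNoetherianRing A]
    (I : Ideal A) (M N : Type u) [AddCommGroup M] [Module A M] [Module.Finite A M] [AddCommGroup N] [Module A N]
    [Module.Finite A N] :
    let Nq : ℕ → Submodule A N := fun n => I ^ n • ⊤
    let pr : ∀ n k : ℕ, n ≤ k → (N ⧸ Nq k) →ₗ[A] (N ⧸ Nq n) :=
      fun n k hnk => Submodule.mapQ (Nq k) (Nq n) (LinearMap.id : N →ₗ[A] N) (Submodule.smul_mono_left (Ideal.pow_le_pow_right hnk))
    let red : ∀ n : ℕ, (M →ₗ[A] N) → (M →ₗ[A] N ⧸ Nq n) := fun n φ => (Nq n).mkQ ∘ₗ φ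
    (∀ n : ℕ, ∃ m : ℕ, n ≤ m ∧ ∀ (k : ℕ) (hmk : m ≤ k) (hnm : n ≤ m) (ψ : M →ₗ[A] N ⧸ Nq m),
        ∃ ψ' : M →ₗ[A] N ⧸ Nq k, pr n k (hnm.trans hmk) ∘ₗ ψ' = pr n m hnm ∘ₗ ψ) ∧
    ∃ c : ℕ, ∀ n : ℕ,
      (∀ φ : M →ₗ[A] N, red n φ = 0 → ∀ a ∈ I ^ c, a • φ ∈ (I ^ n • ⊤ : Submodule A (M →ₗ[A] N))) ∧
      (∀ (ψ : M →ₗ[A] N ⧸ Nq n), ∀ a ∈ I ^ c, ∃ φ : M →ₗ[A] N, red n φ = a • ψ) := by
  intro Nq pr red
  classical
  obtain ⟨k, π, hπ⟩ := Module.Finite.exists_fin' A M
  obtain ⟨l, r, hr⟩ := Submodule.fg_iff_exists_fin_generating_family.mp (IsNoetherian.noetherian (LinearMap.ker π))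
  let T : (Fin k → N) →ₗ[A] (Fin l → N) :=
    LinearMap.pi fun j => ∑ i, r j i • LinearMap.proj i
  have hT : ∀ v j, T v j = ∑ i, r j i • v i := fun v j => by simp [T]
  let E : (M →ₗ[A] N) →ₗ[A] (Fin k → N) :=
    LinearMap.pi fun i => LinearMap.applyₗ (π (Pi.single i 1))
  have hext : ∀ {P : Type u} [AddCommGroup P] [Module A P] (f g : M →ₗ[A] P),
      (∀ i, f (π (Pi.single i 1)) = g (π (Pi.single i 1))) → f = g := by
    intro P _ _ f g h
    refine (LinearMap.cancel_right hπ).mp (LinearMap.pi_ext' fun i => LinearMap.ext_ring ?_)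
    simpa using h i
  have hEinj : Function.Injective E := fun f g h => hext f g fun i => congrFun h i
  have hπr : ∀ {P : Type u} [AddCommGroup P] [Module A P] (f : M →ₗ[A] P) (j : Fin l),
      ∑ i, r j i • f (π (Pi.single i 1)) = 0 := by
    intro P _ _ f j
    have h0 : π (r j) = 0 := LinearMap.mem_ker.mp (hr ▸ Submodule.subset_span ⟨j, rfl⟩)
    have h1 := congrArg f h0
    rw [pi_eq_sum_univ' (r j)] at h1
    simpa [map_sum, map_smul] using h1
  have hlift : ∀ v, T v = 0 → ∃ φ : M →ₗ[A] N, E φ = v := by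
    intro v hv
    let g := Fintype.linearCombination A v
    have hker : LinearMap.ker π ≤ LinearMap.ker g := by
      rw [← hr, Submodule.span_le]
      rintro _ ⟨j, rfl⟩
      show g (r j) = 0
      rw [Fintype.linearCombination_apply, ← hT, hv]
      rfl
    refine ⟨(LinearMap.ker π).liftQ g hker ∘ₗ (π.quotKerEquivOfSurjective hπ).symm.toLinearMap, funext fun i => ?_⟩
    show (LinearMap.ker π).liftQ g hker ((π.quotKerEquivOfSurjective hπ).symm (π (Pi.single i 1))) = v i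
    rw [show (π.quotKerEquivOfSurjective hπ).symm (π (Pi.single i 1)) = Submodule.Quotient.mk (Pi.single i 1) from
      (LinearEquiv.symm_apply_eq _).mpr rfl, Submodule.liftQ_apply, Fintype.linearCombination_apply_single, one_smul]
  have hpi : ∀ (ι : Type) [Fintype ι] (J : Ideal A) (v : ι → N),
      v ∈ (J • ⊤ : Submodule A (ι → N)) ↔ ∀ i, v i ∈ (J • ⊤ : Submodule A N) := by
    intro ι _ J v
    refine ⟨fun h i => ?_, fun h => ?_⟩
    · exact Submodule.smul_mono le_rfl le_top ((Submodule.map_smul'' J ⊤ (LinearMap.proj (φ := fun _ : ι => N) i)).le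
        (Submodule.mem_map_of_mem h))
    · rw [← Finset.univ_sum_single v]
      exact sum_mem fun i _ => Submodule.smul_mono le_rfl le_top
        ((Submodule.map_smul'' J ⊤ (LinearMap.single A (fun _ : ι => N) i)).le (Submodule.mem_map_of_mem (h i)))
  obtain ⟨c₁, hc₁⟩ := I.exists_pow_inf_eq_pow_smul (LinearMap.range T)
  obtain ⟨c₂, hc₂⟩ := I.exists_pow_inf_eq_pow_smul (LinearMap.range E)
  have hsplit : ∀ n v, T v ∈ (I ^ n • ⊤ : Submodule A (Fin l → N)) →
      ∃ φ, v - E φ ∈ (I ^ (n - c₁) • ⊤ : Submodule A (Fin k → N)) := by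
    intro n v hv
    rcases lt_or_ge n c₁ with hn | hn
    · exact ⟨0, by rw [Nat.sub_eq_zero_of_le hn.le]; simp⟩
    have h1 : T v ∈ (I ^ n • ⊤ ⊓ LinearMap.range T : Submodule A (Fin l → N)) := ⟨hv, v, rfl⟩
    rw [hc₁ n hn] at h1
    have h2 := Submodule.smul_mono le_rfl inf_le_right h1
    rw [LinearMap.range_eq_map, ← Submodule.map_smul''] at h2
    obtain ⟨w, hw, hwT⟩ := h2
    obtain ⟨φ, hφ⟩ := hlift (v - w) (by rw [map_sub, hwT, sub_self])
    exact ⟨φ, by rw [hφ, sub_sub_cancel]; exact hw⟩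
  have hvec : ∀ n (ψ : M →ₗ[A] N ⧸ Nq n), ∃ v : Fin k → N, (∀ i, (Nq n).mkQ (v i) = ψ (π (Pi.single i 1))) ∧
      T v ∈ (I ^ n • ⊤ : Submodule A (Fin l → N)) := by
    intro n ψ
    choose v hv using fun i => (Nq n).mkQ_surjective (ψ (π (Pi.single i 1)))
    refine ⟨v, hv, (hpi _ _ _).mpr fun j => ?_⟩
    rw [hT]
    refine (Submodule.Quotient.mk_eq_zero (Nq n)).mp ?_
    show (Nq n).mkQ (∑ i, r j i • v i) = 0
    simp only [map_sum, map_smul, hv]
    exact hπr ψ j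
  refine ⟨fun n => ⟨n + c₁, le_self_add, fun K hmk hnm ψ => ?_⟩, c₁ + c₂, fun n => ⟨fun φ hφ a ha => ?_, fun ψ a ha => ?_⟩⟩
  · obtain ⟨v, hv, hTv⟩ := hvec _ ψ
    obtain ⟨φ, hφ⟩ := hsplit _ v hTv
    rw [Nat.add_sub_cancel] at hφ
    refine ⟨red K φ, hext _ _ fun i => ?_⟩
    show pr n K (hnm.trans hmk) ((Nq K).mkQ (φ (π (Pi.single i 1)))) = pr n (n + c₁) hnm (ψ (π (Pi.single i 1)))
    rw [← hv i]
    exact ((Submodule.Quotient.eq (Nq n)).mpr ((hpi _ _ _).mp hφ i)).symm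
  · have hE : E φ ∈ (I ^ n • ⊤ : Submodule A (Fin k → N)) := (hpi _ _ _).mpr fun i =>
      (Submodule.Quotient.mk_eq_zero (Nq n)).mp (LinearMap.congr_fun hφ (π (Pi.single i 1)))
    have h1 : φ ∈ (I ^ (n - c₂) • ⊤ : Submodule A (M →ₗ[A] N)) := by
      rcases lt_or_ge n c₂ with hn | hn
      · rw [Nat.sub_eq_zero_of_le hn.le]; simp
      have h2 : E φ ∈ (I ^ n • ⊤ ⊓ LinearMap.range E : Submodule A (Fin k → N)) := ⟨hE, φ, rfl⟩
      rw [hc₂ n hn] at h2
      have h3 := Submodule.smul_mono le_rfl inf_le_right h2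
      rw [LinearMap.range_eq_map, ← Submodule.map_smul''] at h3
      obtain ⟨φ', hφ', he⟩ := h3
      rwa [← hEinj he]
    have h2 := Submodule.smul_mem_smul ha h1
    rw [← Submodule.smul_assoc, smul_eq_mul, ← pow_add] at h2
    exact Submodule.smul_mono_left (Ideal.pow_le_pow_right (by omega)) h2
  · obtain ⟨v, hv, hTv⟩ := hvec _ ψ
    obtain ⟨φ, hφ⟩ := hsplit _ v hTv
    refine ⟨a • φ, hext _ _ fun i => ?_⟩
    show (Nq n).mkQ (a • φ (π (Pi.single i 1))) = a • ψ (π (Pi.single i 1))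
    rw [← hv i, ← map_smul]
    refine ((Submodule.Quotient.eq (Nq n)).mpr ?_).symm
    rw [map_smul]
    show a • v i - a • φ (π (Pi.single i 1)) ∈ Nq n
    rw [← smul_sub]
    have h2 := Submodule.smul_mem_smul ha ((hpi _ _ _).mp hφ i)
    rw [← Submodule.smul_assoc, smul_eq_mul, ← pow_add] at h2
    exact Submodule.smul_mono_left (Ideal.pow_le_pow_right (by omega)) h2

end Groth.Agent.S7136
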