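import Groth.Statements.S7137
import Groth.Agent.S0604
import Groth.Agent.FreeCx.Resolution
import Groth.Agent.DepthLib.RegularLocal
-- import your own Groth.Agent.* helpers here

set_option autoImplicit false
universe u
open CategoryTheory
open CAlg

namespace Groth.Agent.S7137

open CategoryTheory in
/-- Finite powers keep a bound on the projective dimension. -/
theorem hasPdLT_pi {R : Type u} [CommRing R] [IsNoetherianRing R] {N : Type u} [AddCommGroup N] [Module R N] [Module.Finite R N] {n : ℕ}
    (h : HasProjectiveDimensionLT (ModuleCat.of R N) n) :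
    ∀ m : ℕ, HasProjectiveDimensionLT (ModuleCat.of R (Fin m → N)) n
  | 0 => by
    have := (ModuleCat.isZero_of_subsingleton (ModuleCat.of R (Fin 0 → N))).hasProjectiveDimensionLT_zero
    exact hasProjectiveDimensionLT_of_ge _ 0 n (Nat.zero_le n)
  | m + 1 => by
    let e : (N × (Fin m → N)) ≃ₗ[R] (Fin (m + 1) → N) := Fin.consLinearEquiv R fun _ => N
    have := DepthLib.shortExact_of_exact (f := LinearMap.inl R N (Fin m → N)) (g := LinearMap.snd R N (Fin m → N))
      LinearMap.inl_injective LinearMap.snd_surjective Function.Exact.inl_snd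
    have h2 := this.hasProjectiveDimensionLT_X₂ n h (hasPdLT_pi h m)
    exact hasProjectiveDimensionLT_of_iso e.toModuleIso n

open CategoryTheory in
/-- Finiteness of projective dimension along `R → R ⧸ I`. -/
theorem hasPdLT_restrict {R : Type u} [CommRing R] [IsNoetherianRing R] (I : Ideal R) [IsLocalRing (R ⧸ I)] {a : ℕ}
    (ha : HasProjectiveDimensionLT (ModuleCat.of R (R ⧸ I)) (a + 1)) :
    ∀ (b : ℕ) (E : Type u) [AddCommGroup E] [Module (R ⧸ I) E] [Module R E] [IsScalarTower R (R ⧸ I) E]
      [Module.Finite (R ⧸ I) E], HasProjectiveDimensionLT (ModuleCat.of (R ⧸ I) E) (b + 1) →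
      HasProjectiveDimensionLT (ModuleCat.of R E) (a + b + 1)
  | 0, E, _, _, _, _, _, h => by
    have : Module.Free (R ⧸ I) E := FreeCx.projective_zero_step h
    let e := (Module.finBasis (R ⧸ I) E).equivFun.restrictScalars R
    have h2 := hasPdLT_pi ha (Module.finrank (R ⧸ I) E)
    exact hasProjectiveDimensionLT_of_iso e.symm.toModuleIso _
  | b + 1, E, _, _, _, _, _, h => by
    obtain ⟨m, f, hf, -⟩ := FreeCx.exists_min_cover (A := R ⧸ I) E
    have h1 := hasPdLT_restrict I ha b (LinearMap.ker f) ((FreeCx.shortExact_cover f hf b).1 h)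
    have : Module.Finite R (LinearMap.ker f) := Module.Finite.trans (R ⧸ I) _
    have : Module.Finite R E := Module.Finite.trans (R ⧸ I) _
    have hS := DepthLib.shortExact_of_exact (f := (LinearMap.ker f).subtype.restrictScalars R)
      (g := f.restrictScalars R) (LinearMap.ker f).injective_subtype hf (LinearMap.exact_subtype_ker_map f)
    have h2 : HasProjectiveDimensionLT (ModuleCat.of R (Fin m → R ⧸ I)) (a + b + 1 + 1) := by
      have := hasPdLT_pi ha m
      exact hasProjectiveDimensionLT_of_ge _ (a + 1) _ (by omega)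
    exact hS.hasProjectiveDimensionLT_X₃ (a + b + 1) h1 h2

/-- Take a Noetherian local ring R, an ideal I and a finite module E ≠ 0 over R/I. Suppose that R/I, as
an R-module, and E, as an R/I-module, both have finite projective dimension. Then E, as an R-module,
has finite projective dimension too, and it equals pd_R(R/I) + pd_{R/I}(E). -/
theorem result (R : Type u) [CommRing R] [IsNoetherianRing R] [IsLocalRing R]
    (I : Ideal R) (E : Type u) [AddCommGroup E] [Module (R ⧸ I) E] [Module R E] [IsScalarTower R (R ⧸ I) E]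
    [Module.Finite (R ⧸ I) E] [Nontrivial E]
    (h1 : projectiveDimension (ModuleCat.of R (R ⧸ I)) ≠ ⊤)
    (h2 : projectiveDimension (ModuleCat.of (R ⧸ I) E) ≠ ⊤) :
    projectiveDimension (ModuleCat.of R E) ≠ ⊤ ∧
      projectiveDimension (ModuleCat.of R E) =
        projectiveDimension (ModuleCat.of R (R ⧸ I)) + projectiveDimension (ModuleCat.of (R ⧸ I) E) := by
  have hI : I ≠ ⊤ := fun h => by
    have : Subsingleton (R ⧸ I) := Ideal.Quotient.subsingleton_iff.mpr h
    have := Module.subsingleton (R ⧸ I) E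
    exact not_subsingleton E this
  have : Nontrivial (R ⧸ I) := Ideal.Quotient.nontrivial_iff.mpr hI
  have : IsLocalRing (R ⧸ I) := .of_surjective' _ Ideal.Quotient.mk_surjective
  have : Module.Finite R E := Module.Finite.trans (R ⧸ I) E
  have key : ∀ {S : Type u} [CommRing S] (X : ModuleCat.{u} S), Nontrivial X → projectiveDimension X ≠ ⊤ →
      ∃ n : ℕ, projectiveDimension X = n := by
    intro S _ X hX hne
    have h1 : projectiveDimension X ≠ ⊥ := fun h => by
      have := ModuleCat.subsingleton_of_isZero ((projectiveDimension_eq_bot_iff X).mp h)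
      exact not_subsingleton X this
    obtain ⟨x, hx⟩ := WithBot.ne_bot_iff_exists.mp h1
    obtain ⟨n, rfl⟩ : ∃ n : ℕ, (n : ℕ∞) = x := by
      induction x using ENat.recTopCoe with
      | top => exact absurd hx.symm hne
      | coe n => exact ⟨n, rfl⟩
    exact ⟨n, hx.symm⟩
  obtain ⟨a, ha⟩ := key (ModuleCat.of R (R ⧸ I)) ‹_› h1
  obtain ⟨b, hb⟩ := key (ModuleCat.of (R ⧸ I) E) ‹_› h2
  have hfin : HasProjectiveDimensionLE (ModuleCat.of R E) (a + b) :=
    hasPdLT_restrict I ((projectiveDimension_le_iff _ a).1 ha.le) b E ((projectiveDimension_le_iff _ b).1 hb.le)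
  have hle := (projectiveDimension_le_iff (ModuleCat.of R E) (a + b)).2 hfin
  have hne : projectiveDimension (ModuleCat.of R E) ≠ ⊤ := fun h => by
    rw [h] at hle
    exact absurd (WithBot.coe_le_coe.mp (show ((⊤ : ℕ∞) : WithBot ℕ∞) ≤ ((a + b : ℕ) : ℕ∞) from hle))
      (not_le.mpr (ENat.natCast_lt_top _))
  obtain ⟨c, hc⟩ := key (ModuleCat.of R E) ‹_› hne
  refine ⟨hne, ?_⟩
  have e1 := S0604.result R (R ⧸ I) a ha
  have e2 := S0604.result (R ⧸ I) E b hb
  have e3 := S0604.result R E c hc
  rw [DepthLib.depth_eq_of_surjective (R := R) (S := R ⧸ I) (M := R ⧸ I) Ideal.Quotient.mk_surjective,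
    DepthLib.depth_eq_of_surjective (R := R) (S := R ⧸ I) (M := E) Ideal.Quotient.mk_surjective] at e2
  obtain ⟨x, hx⟩ := ENat.ne_top_iff_exists.mp (DepthLib.depth_ne_top (R := R) E)
  rw [e2, e3, ← hx] at e1
  rw [ha, hb, hc]
  have : c + x = a + (b + x) := by exact_mod_cast e1
  exact_mod_cast (show c = a + b by omega)

end Groth.Agent.S7137
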