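import Groth.Statements.S7138
import Groth.Agent.KrasnerLib.Basic
import Groth.Agent.AdicLim.Noetherian
import Groth.Agent.S0549
-- import your own Groth.Agent.* helpers here

set_option autoImplicit false
universe u
open EtAlg
open Polynomial IntermediateField

namespace Groth.Agent.S7138

open TensorProduct in
/-- Let A be a discrete valuation ring, K its field of fractions, A^ its completion and K^ the fraction
field of A^. Every finite separable extension M of K^ arises by base change: M ≅ K^ ⊗_K L as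
K^-algebras for some finite separable extension L/K. -/
theorem result (A K : Type u) [CommRing A] [IsDomain A]
    [IsDiscreteValuationRing A] [Field K] [Algebra A K] [IsFractionRing A K]
    (Kh : Type u) [Field Kh] [Algebra (AdicCompletion (IsLocalRing.maximalIdeal A) A) Kh]
    [IsFractionRing (AdicCompletion (IsLocalRing.maximalIdeal A) A) Kh] [Algebra A Kh] [Algebra K Kh]
    [IsScalarTower A (AdicCompletion (IsLocalRing.maximalIdeal A) A) Kh] [IsScalarTower A K Kh]
    (M : Type u) [Field M] [Algebra Kh M] [FiniteDimensional Kh M] [Algebra.IsSeparable Kh M] :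
    ∃ (L : Type u) (_ : Field L) (_ : Algebra K L), FiniteDimensional K L ∧ Algebra.IsSeparable K L ∧
      Nonempty ((Kh ⊗[K] L) ≃ₐ[Kh] M) := by
  classical
  obtain ⟨_, _⟩ := (Groth.Agent.S0549.result A).1 ⟨inferInstance, inferInstance⟩
  generalize hm : IsLocalRing.maximalIdeal A = m at *
  obtain ⟨ϖ, hϖ⟩ := IsDiscreteValuationRing.exists_irreducible A
  have hmϖ : m = Ideal.span {ϖ} := by rw [← hm]; exact hϖ.maximalIdeal_eq
  have hfg : m.FG := m.fg_of_isNoetherianRing
  let π : AdicCompletion m A := algebraMap A _ ϖ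
  have hI : m.map (algebraMap A (AdicCompletion m A)) = Ideal.span {π} := by
    exact (congrArg (Ideal.map _) hmϖ).trans (by rw [Ideal.map_span, Set.image_singleton])
  haveI hcR : IsAdicComplete (Ideal.span {π}) (AdicCompletion m A) :=
    hI ▸ AdicCompletion.isAdicComplete_self m hfg
  have hπmax : IsLocalRing.maximalIdeal (AdicCompletion m A) = Ideal.span {π} := by
    subst hm
    rw [← hI]
    exact AdicCompletion.maximalIdeal_eq_map
  have hπirr : Irreducible π :=
    (IsDiscreteValuationRing.irreducible_iff_uniformizer π).2 hπmax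
  have happrox : ∀ (x : AdicCompletion m A) (N : ℕ),
      ∃ (a : A) (c : AdicCompletion m A), x = algebraMap A _ a + π ^ N * c := by
    intro x N
    obtain ⟨a, ha⟩ := Submodule.Quotient.mk_surjective _ (AdicCompletion.eval m A N x)
    have h1 : x - algebraMap A _ a ∈ (AdicCompletion.eval m A N).ker := by
      rw [LinearMap.mem_ker, map_sub, sub_eq_zero, ← ha]
      rfl
    rw [← AdicCompletion.pow_smul_top_eq_ker_eval hfg, Ideal.smul_top_eq_map,
      Submodule.restrictScalars_mem, Ideal.map_pow, hI, Ideal.span_singleton_pow,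
      Ideal.mem_span_singleton'] at h1
    obtain ⟨c, hc⟩ := h1
    exact ⟨a, c, by linear_combination -hc⟩
  letI : Algebra (AdicCompletion m A) M :=
    ((algebraMap Kh M).comp (algebraMap (AdicCompletion m A) Kh)).toAlgebra
  haveI : IsScalarTower (AdicCompletion m A) Kh M := IsScalarTower.of_algebraMap_eq fun _ => rfl
  haveI : FaithfulSMul (AdicCompletion m A) M := (faithfulSMul_iff_algebraMap_injective _ _).2
    ((algebraMap Kh M).injective.comp (IsFractionRing.injective (AdicCompletion m A) Kh))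
  obtain ⟨α₀, hα₀⟩ := Field.exists_primitive_element Kh M
  obtain ⟨⟨t, ht⟩, hint⟩ := IsIntegral.exists_multiple_integral_of_isLocalization
    (nonZeroDivisors (AdicCompletion m A)) (Rₘ := Kh) α₀ (IsIntegral.of_finite Kh α₀)
  obtain ⟨α, hαdef⟩ : ∃ α, α = t • α₀ := ⟨_, rfl⟩
  replace hint : IsIntegral (AdicCompletion m A) α := by rw [hαdef]; exact hint
  have hα : Kh⟮α⟯ = ⊤ := by
    rw [eq_top_iff, ← hα₀, adjoin_simple_le_iff]
    have ht0 : algebraMap (AdicCompletion m A) Kh t ≠ 0 :=
      IsFractionRing.to_map_ne_zero_of_mem_nonZeroDivisors ht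
    have : α₀ = (algebraMap (AdicCompletion m A) Kh t)⁻¹ • α := by
      rw [hαdef, ← algebraMap_smul Kh t α₀, inv_smul_smul₀ ht0]
    rw [this]
    exact Kh⟮α⟯.smul_mem (mem_adjoin_simple_self Kh α)
  obtain ⟨f, hfdef⟩ : ∃ f, f = minpoly (AdicCompletion m A) α := ⟨_, rfl⟩
  have hf : f.Monic := hfdef ▸ minpoly.monic hint
  have hfmap : minpoly Kh α = f.map (algebraMap (AdicCompletion m A) Kh) :=
    hfdef ▸ minpoly.isIntegrallyClosed_eq_field_fractions' Kh hint
  have hdeg : Module.finrank Kh M = f.natDegree := by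
    rw [← IntermediateField.finrank_top' (F := Kh) (E := M), ← hα,
      adjoin.finrank (IsIntegral.of_finite Kh α), hfmap, hf.natDegree_map]
  have hf' : aeval α f.derivative ≠ 0 := by
    have := (Algebra.IsSeparable.isSeparable Kh α).aeval_derivative_ne_zero (minpoly.aeval Kh α)
    rwa [hfmap, derivative_map, aeval_map_algebraMap] at this
  -- the order `B`
  haveI : Module.Finite (AdicCompletion m A) (AdjoinRoot f) := hf.finite_adjoinRoot
  let πB : AdjoinRoot f := algebraMap (AdicCompletion m A) _ π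
  haveI hcB : IsAdicComplete (Ideal.span {πB}) (AdjoinRoot f) := by
    have := (IsAdicComplete.map_algebraMap_iff (I := Ideal.span {π}) (S := AdjoinRoot f)
      (M := AdjoinRoot f)).2 (Groth.Agent.AdicLim.isAdicComplete_of_finite (AdjoinRoot f))
    rwa [Ideal.map_span, Set.image_singleton] at this
  let φ : AdjoinRoot f →ₐ[AdicCompletion m A] M :=
    AdjoinRoot.liftAlgHom f (Algebra.ofId _ M) α (hfdef ▸ minpoly.aeval _ α)
  have hφroot : φ (AdjoinRoot.root f) = α := AdjoinRoot.liftAlgHom_root _ _ _ _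
  have hφmk : ∀ p, φ (AdjoinRoot.mk f p) = aeval α p := fun p => by
    rw [← AdjoinRoot.aeval_eq, ← aeval_algHom_apply, hφroot]
  have hφinj : Function.Injective φ := by
    rw [injective_iff_map_eq_zero]
    intro x hx
    obtain ⟨p, rfl⟩ := AdjoinRoot.mk_surjective x
    rw [hφmk] at hx
    exact AdjoinRoot.mk_eq_zero.2 (hfdef ▸ minpoly.isIntegrallyClosed_dvd hint hx)
  -- `π ^ e` is a multiple of `f'(α)` in `B`
  obtain ⟨e, c, hec⟩ : ∃ (e : ℕ) (c : AdjoinRoot f),
      πB ^ e = aeval (AdjoinRoot.root f) f.derivative * c := by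
    obtain ⟨p, hp⟩ : ∃ p : Kh[X], aeval α p = (aeval α f.derivative)⁻¹ := by
      have h1 : (aeval α f.derivative)⁻¹ ∈ Algebra.adjoin Kh {α} := by
        rw [← adjoin_simple_toSubalgebra_of_isAlgebraic (Algebra.IsAlgebraic.isAlgebraic α), hα]
        trivial
      rwa [Algebra.adjoin_singleton_eq_range_aeval] at h1
    obtain ⟨⟨b, hb⟩, hb'⟩ :=
      IsLocalization.integerNormalization_map_to_map (nonZeroDivisors (AdicCompletion m A)) p
    obtain ⟨n, u, hu⟩ := IsDiscreteValuationRing.eq_unit_mul_pow_irreducible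
      (nonZeroDivisors.ne_zero hb) hπirr
    refine ⟨n, algebraMap (AdicCompletion m A) _ (↑u⁻¹) * AdjoinRoot.mk f
      (IsLocalization.integerNormalization (nonZeroDivisors (AdicCompletion m A)) p), hφinj ?_⟩
    rw [map_pow, AlgHom.commutes, map_mul, map_mul, AlgHom.commutes, hφmk, ← aeval_algHom_apply,
      hφroot, ← aeval_map_algebraMap Kh α (IsLocalization.integerNormalization _ p), hb']
    rw [AlgHom.map_smul_of_tower, hp, Algebra.smul_def]
    dsimp only
    rw [hu]
    simp only [map_mul, map_pow]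
    have h2 : algebraMap (AdicCompletion m A) M ↑u⁻¹ * algebraMap (AdicCompletion m A) M ↑u = 1 := by
      rw [← map_mul, Units.inv_mul, map_one]
    field_simp
    linear_combination (-(algebraMap (AdicCompletion m A) M π) ^ n) * h2
  -- the approximation `g`
  obtain ⟨a, c', hac⟩ : ∃ (a : ℕ → A) (c' : ℕ → AdicCompletion m A),
      ∀ i, f.coeff i = algebraMap A _ (a i) + π ^ (2 * e + 1) * c' i := by
    choose a c' h using fun i => happrox (f.coeff i) (2 * e + 1)
    exact ⟨a, c', h⟩
  obtain ⟨g, hgdef⟩ : ∃ g : A[X], g = X ^ f.natDegree + ∑ i ∈ Finset.range f.natDegree,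
    C (a i) * X ^ i := ⟨_, rfl⟩
  have hlt : (∑ i ∈ Finset.range f.natDegree, C (a i) * X ^ i).degree < (f.natDegree : WithBot ℕ) := by
    rw [← Fin.sum_univ_eq_sum_range (fun i => C (a i) * X ^ i)]
    exact degree_sum_fin_lt _
  have hg : g.Monic := hgdef ▸ monic_X_pow_add hlt
  have hgdeg : g.natDegree = f.natDegree :=
    natDegree_eq_of_degree_eq_some (by
      rw [hgdef, degree_add_eq_left_of_degree_lt (by rwa [degree_X_pow]), degree_X_pow])
  obtain ⟨q, hq⟩ : ∃ q, g.map (algebraMap A (AdicCompletion m A)) =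
      f - C (π ^ (2 * e + 1)) * q := by
    refine ⟨∑ i ∈ Finset.range f.natDegree, C (c' i) * X ^ i, ?_⟩
    have hs := hf.as_sum
    rw [hgdef]
    generalize f.natDegree = d at hs ⊢
    conv_rhs => rw [hs]
    simp only [ Polynomial.map_add, Polynomial.map_sum, Polynomial.map_mul, Polynomial.map_pow,
      map_X, map_C, hac, C_add, C_mul, add_mul, Finset.sum_add_distrib, Finset.mul_sum, ← mul_assoc]
    ring
  obtain ⟨gB, hgB⟩ : ∃ gB : (AdjoinRoot f)[X],
      gB = (g.map (algebraMap A (AdicCompletion m A))).map (algebraMap _ (AdjoinRoot f)) := ⟨_, rfl⟩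
  let qa := aeval (AdjoinRoot.root f) q
  let qb := aeval (AdjoinRoot.root f) q.derivative
  let fd := aeval (AdjoinRoot.root f) f.derivative
  have hg0 : gB.eval (AdjoinRoot.root f) = -(πB ^ (2 * e + 1) * qa) := by
    rw [hgB, eval_map_algebraMap, hq, map_sub, map_mul, aeval_C, AdjoinRoot.aeval_eq f,
      AdjoinRoot.mk_self, map_pow, zero_sub]
  have hg1 : gB.derivative.eval (AdjoinRoot.root f) = fd * (1 - c * qb * πB ^ (e + 1)) := by
    rw [hgB, derivative_map, eval_map_algebraMap, hq, derivative_sub, derivative_C_mul, map_sub,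
      map_mul, aeval_C, map_pow]
    show fd - πB ^ (2 * e + 1) * qb = _
    have he : πB ^ e = fd * c := hec
    linear_combination (-(πB ^ (e + 1) * qb)) * he
  obtain ⟨U, hU⟩ : IsUnit (1 - c * qb * πB ^ (e + 1)) := by
    have h1 : -(c * qb * πB ^ e) * πB ∈ (⊥ : Ideal (AdjoinRoot f)).jacobson :=
      IsAdicComplete.le_jacobson_bot (Ideal.span {πB})
        (Ideal.mul_mem_left _ _ (Ideal.subset_span rfl))
    have h2 := Ideal.mem_jacobson_bot.1 h1 1
    convert h2 using 1
    ring
  obtain ⟨β, hβ0, hβα⟩ := Groth.Agent.KrasnerLib.exists_root_of_newton πB gB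
    (AdjoinRoot.root f) (-(c ^ 2 * qa * (↑U⁻¹ : AdjoinRoot f) ^ 2)) (by
      rw [hg0, hg1, ← hU]
      have h3 : (U : AdjoinRoot f) * ↑U⁻¹ = 1 := U.mul_inv
      have he : πB ^ e = fd * c := hec
      linear_combination
        (πB * fd ^ 2 * c ^ 2 * qa * ((U : AdjoinRoot f) * ↑U⁻¹ + 1)) * h3 +
          (-(πB * qa * (πB ^ e + fd * c))) * he)
  -- `β` generates `B`, hence `M`
  have hgen : AdjoinRoot.root f ∈ Algebra.adjoin (AdicCompletion m A) {β} := by
    have key : (⊤ : Submodule (AdicCompletion m A) (AdjoinRoot f)) ≤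
        Subalgebra.toSubmodule (Algebra.adjoin (AdicCompletion m A) {β}) := by
      refine Submodule.le_of_le_smul_of_le_jacobson_bot Module.Finite.fg_top
        (IsAdicComplete.le_jacobson_bot (Ideal.span {π})) fun x _ => ?_
      obtain ⟨p, rfl⟩ := AdjoinRoot.mk_surjective x
      have h1 : AdjoinRoot.mk f p = aeval β p + (AdjoinRoot.mk f p - aeval β p) := by ring
      rw [h1]
      refine Submodule.add_mem_sup ?_ ?_
      · exact aeval_mem_adjoin_singleton _ _
      · rw [Ideal.smul_top_eq_map, Submodule.restrictScalars_mem, Ideal.map_span,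
          Set.image_singleton, ← AdjoinRoot.aeval_eq]
        have h2 := Polynomial.sub_dvd_eval_sub (AdjoinRoot.root f) β
          (p.map (algebraMap _ (AdjoinRoot f)))
        rw [eval_map_algebraMap, eval_map_algebraMap] at h2
        refine Ideal.mem_span_singleton.2 (dvd_trans ?_ h2)
        rw [dvd_sub_comm]
        exact Ideal.mem_span_singleton.1 hβα
    exact key (Submodule.mem_top)
  have hβtop : Kh⟮φ β⟯ = ⊤ := by
    rw [eq_top_iff, ← hα, adjoin_simple_le_iff, ← hφroot]
    rw [Algebra.adjoin_singleton_eq_range_aeval] at hgen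
    obtain ⟨p, hp⟩ := hgen
    rw [← hp]
    show φ (aeval β p) ∈ _
    rw [← aeval_algHom_apply, ← aeval_map_algebraMap Kh (φ β) p]
    exact IntermediateField.algebra_adjoin_le_adjoin Kh _ (aeval_mem_adjoin_singleton _ _)
  -- the descended field
  letI : Algebra K M := ((algebraMap Kh M).comp (algebraMap K Kh)).toAlgebra
  haveI : IsScalarTower K Kh M := IsScalarTower.of_algebraMap_eq fun _ => rfl
  obtain ⟨gK, hgK⟩ : ∃ gK : K[X], gK = g.map (algebraMap A K) := ⟨_, rfl⟩
  have hmapmap : gK.map (algebraMap K Kh) =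
      (g.map (algebraMap A (AdicCompletion m A))).map (algebraMap (AdicCompletion m A) Kh) := by
    rw [hgK, Polynomial.map_map, Polynomial.map_map, ← IsScalarTower.algebraMap_eq,
      ← IsScalarTower.algebraMap_eq]
  have hroot : aeval (φ β) gK = 0 := by
    rw [← aeval_map_algebraMap Kh, hmapmap, aeval_map_algebraMap, aeval_algHom_apply]
    rw [hgB, eval_map_algebraMap] at hβ0
    rw [hβ0, map_zero]
  have hmin : minpoly Kh (φ β) = gK.map (algebraMap K Kh) := by
    have h1 : (minpoly Kh (φ β)).natDegree = f.natDegree := by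
      rw [← adjoin.finrank (IsIntegral.of_finite Kh (φ β)), hβtop,
        IntermediateField.finrank_top', hdeg]
    refine (Polynomial.eq_of_monic_of_dvd_of_natDegree_le (minpoly.monic (IsIntegral.of_finite _ _))
      ((hgK ▸ hg.map _ : gK.Monic).map _) (minpoly.dvd _ _ ?_) ?_).symm
    · rw [aeval_map_algebraMap, hroot]
    · rw [natDegree_map, hgK, hg.natDegree_map, hgdeg, h1]
  have hgKm : gK.Monic := hgK ▸ hg.map _
  have hirr : Irreducible gK := hgKm.irreducible_of_irreducible_map (algebraMap K Kh) _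
    (hmin ▸ minpoly.irreducible (IsIntegral.of_finite Kh (φ β)))
  have hsep : gK.Separable :=
    (separable_map (algebraMap K Kh)).1 (hmin ▸ Algebra.IsSeparable.isSeparable Kh (φ β))
  haveI : Fact (Irreducible gK) := ⟨hirr⟩
  haveI hfin : FiniteDimensional K (AdjoinRoot gK) := (AdjoinRoot.powerBasis hirr.ne_zero).finite
  refine ⟨AdjoinRoot gK, inferInstance, inferInstance, hfin, ?_, ?_⟩
  · have h1 : IsSeparable K (AdjoinRoot.root gK) := by
      rw [IsSeparable, AdjoinRoot.minpoly_root hirr.ne_zero, hgKm.leadingCoeff, inv_one, C_1,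
        mul_one]
      exact hsep
    haveI := (IntermediateField.isSeparable_adjoin_simple_iff_isSeparable K (AdjoinRoot gK)).2 h1
    exact AlgEquiv.Algebra.isSeparable
      ((IntermediateField.equivOfEq (IntermediateField.adjoin_root_eq_top gK)).trans
        IntermediateField.topEquiv)
  · let lift : AdjoinRoot gK →ₐ[K] M :=
      AdjoinRoot.liftAlgHom gK (Algebra.ofId K M) (φ β) hroot
    let Φ : Kh ⊗[K] AdjoinRoot gK →ₐ[Kh] M :=
      Algebra.TensorProduct.lift (Algebra.ofId Kh M) lift fun _ _ => Commute.all _ _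
    have hsurj : Function.Surjective Φ := by
      intro x
      have h1 : x ∈ Algebra.adjoin Kh {φ β} := by
        rw [← adjoin_simple_toSubalgebra_of_isAlgebraic
          (Algebra.IsAlgebraic.isAlgebraic (φ β)), hβtop]
        trivial
      have h2 : Algebra.adjoin Kh {φ β} ≤ Φ.range := Algebra.adjoin_le (by
        rintro _ rfl
        exact ⟨1 ⊗ₜ AdjoinRoot.root gK, by simp [Φ, lift]⟩)
      exact h2 h1
    have hfr : Module.finrank Kh (Kh ⊗[K] AdjoinRoot gK) = Module.finrank Kh M := by
      rw [Module.finrank_baseChange, (AdjoinRoot.powerBasis hirr.ne_zero).finrank,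
        AdjoinRoot.powerBasis_dim, hgK, hg.natDegree_map, hgdeg, hdeg]
    exact ⟨AlgEquiv.ofBijective Φ
      ⟨(LinearMap.injective_iff_surjective_of_finrank_eq_finrank hfr (f := Φ.toLinearMap)).2 hsurj,
        hsurj⟩⟩

end Groth.Agent.S7138
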