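import Mathlib
import Groth.Statements.S7140
-- import your own Groth.Agent.* helpers here

set_option autoImplicit false
universe u
open EtAlg

namespace Groth.Agent.S7140

section
open Polynomial

lemma core (O : Type*) [CommRing O] [IsDomain O] (p : ℕ) [hp : Fact p.Prime] (ζ : O) (hζ : IsPrimitiveRoot ζ p) :
    ∃ (P : O[X]) (a : ℕ → O), C ((1 - ζ) ^ p) * P = (1 + C (1 - ζ) * X) ^ p - 1 ∧ (∀ i, a i ∈ Ideal.span {1 - ζ}) ∧
      P = X ^ p - X + (Finset.Ioo 0 p).sum (fun i => C (a i) * X ^ i) := by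
  classical
  set w := 1 - ζ with hw
  have hp0 := hp.out
  have hw0 : w ≠ 0 := sub_ne_zero.2 (hζ.ne_one hp0.one_lt).symm
  obtain ⟨ε, hε⟩ : ∃ ε, (p : O) = w ^ (p - 1) * ε := by
    have h := eval_one_cyclotomic_prime (R := O) (p := p)
    rw [cyclotomic_eq_prod_X_sub_primitiveRoots hζ, eval_prod] at h
    simp only [eval_sub, eval_X, eval_C] at h
    have hdiv : ∀ μ ∈ primitiveRoots p O, w ∣ 1 - μ := fun μ hμ => by
      obtain ⟨i, -, rfl⟩ := hζ.eq_pow_of_pow_eq_one ((mem_primitiveRoots hp0.pos).1 hμ).pow_eq_one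
      exact one_sub_dvd_one_sub_pow ζ i
    have h2 := Finset.prod_dvd_prod_of_dvd _ _ hdiv
    rw [Finset.prod_const, hζ.card_primitiveRoots, Nat.totient_prime hp0, h] at h2
    obtain ⟨ε, h3⟩ := h2
    exact ⟨ε, h3⟩
  let c : ℕ → O := fun i => ((p.choose i / p : ℕ) : O) * ε * w ^ (i - 1)
  have hc : ∀ i ∈ Finset.Ioo 0 p, w ^ p * c i = (p.choose i : O) * w ^ i := by
    intro i hi
    obtain ⟨h0, h1⟩ := Finset.mem_Ioo.1 hi
    conv_rhs => rw [← Nat.div_mul_cancel (hp0.dvd_choose_self h0.ne' h1), Nat.cast_mul, hε]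
    obtain ⟨j, rfl⟩ : ∃ j, i = j + 1 := ⟨i - 1, by omega⟩
    simp only [c, Nat.add_sub_cancel]
    have : w ^ p = w ^ (p - 1) * w := by rw [← pow_succ, Nat.sub_add_cancel hp0.one_le]
    rw [this, pow_succ]; ring
  let P : O[X] := X ^ p + (Finset.Ioo 0 p).sum (fun i => C (c i) * X ^ i)
  have hP : C (w ^ p) * P = (1 + C w * X) ^ p - 1 := by
    have hr : Finset.range (p + 1) = insert 0 (insert p (Finset.Ioo 0 p)) := by
      ext i; simp only [Finset.mem_range, Finset.mem_insert, Finset.mem_Ioo]; omega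
    rw [add_comm (1 : O[X]), add_pow, hr, Finset.sum_insert (by simp [hp0.ne_zero.symm]), Finset.sum_insert (by simp)]
    simp only [one_pow, mul_one, pow_zero, Nat.choose_zero_right, Nat.cast_one, Nat.choose_self, P, mul_add, Finset.mul_sum]
    have : ∀ i ∈ Finset.Ioo 0 p, C (w ^ p) * (C (c i) * X ^ i) = (C w * X) ^ i * (p.choose i : O[X]) := fun i hi => by
      rw [← mul_assoc, ← C_mul, hc i hi, C_mul, map_natCast, mul_pow, ← C_pow]; ring
    rw [Finset.sum_congr rfl this, mul_pow, ← C_pow]; ring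
  have h1 : ε + 1 ∈ Ideal.span {w} := by
    have h := congrArg (eval (-1)) hP
    simp only [eval_mul, eval_C, eval_sub, eval_pow, eval_add, eval_one, eval_X, P, eval_finsetSum, mul_neg, mul_one] at h
    have e : (1 + -w : O) = ζ := by rw [hw]; ring
    rw [e, hζ.pow_eq_one, sub_self, mul_eq_zero] at h
    have h' := h.resolve_left (pow_ne_zero _ hw0)
    have hI : ∀ i ∈ Finset.Ioo 0 p, i ≠ 1 → c i * (-1) ^ i ∈ Ideal.span {w} := fun i hi hi1 => by
      obtain ⟨j, hj⟩ : ∃ j, i - 1 = j + 1 := ⟨i - 2, by have := (Finset.mem_Ioo.1 hi).1; omega⟩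
      refine Ideal.mem_span_singleton.2 ?_
      simp only [c, hj, pow_succ]
      exact Dvd.dvd.mul_right (Dvd.dvd.mul_left (dvd_mul_left w _) _) _
    have hmem : (1 : ℕ) ∈ Finset.Ioo 0 p := Finset.mem_Ioo.2 ⟨one_pos, hp0.one_lt⟩
    rw [← Finset.add_sum_erase _ _ hmem] at h'
    have hc1 : c 1 = ε := by simp [c, Nat.div_self hp0.pos]
    rw [hc1] at h'
    have hrest : (∑ i ∈ (Finset.Ioo 0 p).erase 1, c i * (-1) ^ i) ∈ Ideal.span {w} :=
      Ideal.sum_mem _ fun i hi => hI i (Finset.mem_of_mem_erase hi) (Finset.ne_of_mem_erase hi)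
    rcases hp0.eq_two_or_odd' with rfl | hodd
    · have h2 : (2 : O) ∈ Ideal.span {w} := Ideal.mem_span_singleton.2 ⟨ε, by simpa using hε⟩
      have : ε + 1 = 2 + ∑ i ∈ (Finset.Ioo 0 2).erase 1, c i * (-1) ^ i := by linear_combination -h'
      rw [this]; exact add_mem h2 hrest
    · rw [hodd.neg_one_pow] at h'
      have : ε + 1 = ∑ i ∈ (Finset.Ioo 0 p).erase 1, c i * (-1) ^ i := by linear_combination -h'
      rw [this]; exact hrest
  refine ⟨P, fun i => if i = 1 then ε + 1 else if i = 0 then 0 else c i, hP, fun i => ?_, ?_⟩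
  · dsimp only
    split_ifs with hi hi0
    · exact h1
    · exact zero_mem _
    · obtain ⟨j, hj⟩ : ∃ j, i - 1 = j + 1 := ⟨i - 2, by omega⟩
      simp only [c, hj, pow_succ]
      exact Ideal.mem_span_singleton.2 (Dvd.dvd.mul_left (dvd_mul_left w _) _)
  · have hmem : (1 : ℕ) ∈ Finset.Ioo 0 p := Finset.mem_Ioo.2 ⟨one_pos, hp0.one_lt⟩
    simp only [P]
    rw [← Finset.add_sum_erase _ _ hmem, ← Finset.add_sum_erase _ _ hmem, if_pos rfl]
    have : ∀ i ∈ (Finset.Ioo 0 p).erase 1, C (if i = 1 then ε + 1 else if i = 0 then 0 else c i) * X ^ i = C (c i) * X ^ i := fun i hi => by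
      rw [if_neg (Finset.ne_of_mem_erase hi), if_neg (Finset.mem_Ioo.1 (Finset.mem_of_mem_erase hi)).1.ne']
    rw [Finset.sum_congr rfl this, show c 1 = ε by simp [c, Nat.div_self hp0.pos], C_add, C_1]
    ring

end


open Polynomial in
/-- Let p be a prime and A a ring with an element ζ satisfying 1 + ζ + ... + ζ^(p-1) = 0 (so that A is
an algebra over the ring of integers of the p-th cyclotomic field); set w = 1 - ζ. Then the
polynomial ((1 + wz)^p - 1)/w^p makes sense in A[z]: there is P in A[z] with w^p·P = (1 + wz)^p - 1,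
of the form z^p - z + Σ_{0<i<p} a_i z^i with all a_i in the ideal (w), and P(z₁ + z₂ + w z₁ z₂) =
P(z₁) + P(z₂) + w^p P(z₁)P(z₂) for all z₁, z₂ in any A-algebra. (The published statement asks only
for a primitive p-th root of unity; this row asks that ζ be a root of the p-th cyclotomic
polynomial, the case its proof treats. With ζ only of multiplicative order p the published statement
fails, for example for ζ = (1, e^{2πi/p}) in ℂ × ℂ.) -/
theorem result (p : ℕ) (hp : p.Prime) (A : Type u) [CommRing A] (ζ : A)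
    (hζ : aeval ζ (cyclotomic p ℤ) = 0) :
    ∃ P : A[X], C ((1 - ζ) ^ p) * P = (1 + C (1 - ζ) * X) ^ p - 1 ∧
      (∃ a : ℕ → A, (∀ i, a i ∈ Ideal.span {1 - ζ}) ∧
        P = X ^ p - X + (Finset.Ioo 0 p).sum (fun i => C (a i) * X ^ i)) ∧
      ∀ (S : Type u) [CommRing S] [Algebra A S] (z₁ z₂ : S),
        aeval (z₁ + z₂ + algebraMap A S (1 - ζ) * z₁ * z₂) P =
          aeval z₁ P + aeval z₂ P + algebraMap A S ((1 - ζ) ^ p) * aeval z₁ P * aeval z₂ P := by
  classical
  have : Fact p.Prime := ⟨hp⟩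
  let f : ℤ[X] := cyclotomic p ℤ
  have : Fact (Irreducible f) := ⟨cyclotomic.irreducible hp.pos⟩
  have hprime : Prime f := UniqueFactorizationMonoid.irreducible_iff_prime.1 (cyclotomic.irreducible hp.pos)
  have : IsDomain (AdjoinRoot f) := AdjoinRoot.isDomain_of_prime hprime
  have hinj : Function.Injective (algebraMap ℤ (AdjoinRoot f)) :=
    AdjoinRoot.of.injective_of_degree_ne_zero (by rw [degree_cyclotomic]; exact_mod_cast (Nat.totient_pos.2 hp.pos).ne')
  have : CharZero (AdjoinRoot f) := charZero_of_injective_algebraMap hinj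
  have : NeZero (p : AdjoinRoot f) := ⟨Nat.cast_ne_zero.2 hp.ne_zero⟩
  have hroot : IsPrimitiveRoot (AdjoinRoot.root f) p := by
    rw [← isRoot_cyclotomic_iff, ← map_cyclotomic p (AdjoinRoot.of f)]
    exact AdjoinRoot.isRoot_root f
  obtain ⟨P, a, hP, ha, hPa⟩ := core (AdjoinRoot f) p (AdjoinRoot.root f) hroot
  let ι : AdjoinRoot f →+* A := AdjoinRoot.lift (Int.castRingHom A) ζ (by simpa [aeval_def, f] using hζ)
  have hι : ι (AdjoinRoot.root f) = ζ := AdjoinRoot.lift_root _
  refine ⟨P.map ι, ?_, ⟨fun i => ι (a i), fun i => ?_, ?_⟩, ?_⟩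
  · have := congrArg (Polynomial.map ι) hP
    simpa [hι] using this
  · obtain ⟨b, hb⟩ := Ideal.mem_span_singleton.1 (ha i)
    refine Ideal.mem_span_singleton.2 ⟨ι b, ?_⟩
    show ι (a i) = _
    rw [hb, map_mul, map_sub, map_one, hι]
  · rw [hPa]; simp [Polynomial.map_sum]
  · intro S _ _ z₁ z₂
    have hd : (1 - AdjoinRoot.root f) ≠ 0 := sub_ne_zero.2 (hroot.ne_one hp.one_lt).symm
    let w : MvPolynomial (Fin 2) (AdjoinRoot f) := MvPolynomial.C (1 - AdjoinRoot.root f)
    let x : MvPolynomial (Fin 2) (AdjoinRoot f) := MvPolynomial.X 0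
    let y : MvPolynomial (Fin 2) (AdjoinRoot f) := MvPolynomial.X 1
    have hev : ∀ z : MvPolynomial (Fin 2) (AdjoinRoot f), w ^ p * aeval z P = (1 + w * z) ^ p - 1 := fun z => by
      have := congrArg (aeval z) hP
      simpa [MvPolynomial.algebraMap_eq, w] using this
    have hid : aeval (x + y + w * x * y) P = aeval x P + aeval y P + w ^ p * aeval x P * aeval y P := by
      refine mul_left_cancel₀ (pow_ne_zero p (show w ≠ 0 from fun h => hd (MvPolynomial.C_eq_zero.1 h))) ?_
      rw [mul_add, mul_add, show w ^ p * (w ^ p * aeval x P * aeval y P) = (w ^ p * aeval x P) * (w ^ p * aeval y P) by ring, hev, hev, hev,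
        show 1 + w * (x + y + w * x * y) = (1 + w * x) * (1 + w * y) by ring, mul_pow]
      ring
    set F := MvPolynomial.eval₂Hom ((algebraMap A S).comp ι) ![z₁, z₂] with hF
    have hC : F.comp (algebraMap (AdjoinRoot f) (MvPolynomial (Fin 2) (AdjoinRoot f))) = (algebraMap A S).comp ι := MvPolynomial.eval₂Hom_comp_C _ _
    have hw : F w = algebraMap A S (1 - ζ) := by
      simp [hF, w, hι]
    have hx : F x = z₁ := by simp [hF, x]
    have hy : F y = z₂ := by simp [hF, y]
    have := congrArg F hid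
    simp only [map_add, map_mul, map_pow, Polynomial.aeval_def, Polynomial.hom_eval₂, hC, hw, hx, hy] at this
    simp only [Polynomial.aeval_def, Polynomial.eval₂_map, map_pow]
    exact this

end Groth.Agent.S7140
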