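import Groth.Statements.S7141
import Groth.Agent.WEtaleField.Basic
-- import your own Groth.Agent.* helpers here

set_option autoImplicit false
set_option linter.style.haveILetI false
universe u
open EtAlg

namespace Groth.Agent.S7141

/-- Let K be a field and, for a K-algebra A, let B_max(A) be its largest weakly étale K-subalgebra. (2)
For a K-subalgebra A' ⊆ A one has B_max(A') = B_max(A) ∩ A'. (4) The quotient map A → A_red =
A/nilradical restricts to a bijection B_max(A) → B_max(A_red). (6) If A ≠ 0 and its only idempotents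
are 0 and 1, then B_max(A) is a field, algebraic and separable over K. (The published statement
omits A ≠ 0; this row assumes it, since for A = 0 the largest weakly étale subalgebra is the zero
ring.) -/
theorem result (K : Type u) [Field K] (A : Type u) [CommRing A] [Algebra K A] :
    (∀ A' : Subalgebra K A,
      (EtAlgD.maxWeaklyEtale K A').map A'.val = EtAlgD.maxWeaklyEtale K A ⊓ A') ∧
    (Set.BijOn (Ideal.Quotient.mkₐ K (nilradical A)) (EtAlgD.maxWeaklyEtale K A)
      (EtAlgD.maxWeaklyEtale K (A ⧸ nilradical A))) ∧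
    ((∀ e : A, IsIdempotentElem e → e = 0 ∨ e = 1) → Nontrivial A →
      IsField (EtAlgD.maxWeaklyEtale K A) ∧ Algebra.IsSeparable K (EtAlgD.maxWeaklyEtale K A)) := by
  let M := EtAlgD.maxWeaklyEtale K A
  have hM : ∀ (C : Type u) [CommRing C] [Algebra K C],
      Algebra.WeaklyEtale K (EtAlgD.maxWeaklyEtale K C) := fun C _ _ =>
    Groth.Agent.WEtaleField.weaklyEtale_sSup
  haveI : Algebra.WeaklyEtale K (EtAlgD.maxWeaklyEtale K A) := hM A
  have le_max : ∀ {C : Type u} [CommRing C] [Algebra K C] (S : Subalgebra K C),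
      Algebra.WeaklyEtale K S → S ≤ EtAlgD.maxWeaklyEtale K C := fun {C} _ _ S h => le_sSup h
  have hmap : ∀ {C D : Type u} [CommRing C] [Algebra K C] [CommRing D] [Algebra K D] (f : C →ₐ[K] D),
      (EtAlgD.maxWeaklyEtale K C).map f ≤ EtAlgD.maxWeaklyEtale K D := by
    intro C D _ _ _ _ f
    haveI := hM C
    refine le_max _ ?_
    have := Groth.Agent.WEtaleField.range_weaklyEtale (f.comp (EtAlgD.maxWeaklyEtale K C).val)
    rwa [AlgHom.range_comp, Subalgebra.range_val] at this
  refine ⟨fun A' => ?_, ?_, ?_⟩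
  · refine le_antisymm (le_inf (hmap _) ?_) ?_
    · rintro _ ⟨x, -, rfl⟩
      exact x.2
    · let U := M.comap A'.val
      let f : U →ₐ[K] M := (A'.val.comp U.val).codRestrict M fun x => x.2
      have hU : Algebra.WeaklyEtale K U :=
        Groth.Agent.WEtaleField.of_injective f fun a b h =>
          Subtype.ext (Subtype.ext (congrArg (fun y : M => (y : A)) h))
      intro x hx
      exact ⟨⟨x, hx.2⟩, le_max U hU hx.1, rfl⟩
  · refine ⟨fun x hx => hmap (Ideal.Quotient.mkₐ K (nilradical A)) ⟨x, hx, rfl⟩, ?_, ?_⟩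
    · intro x hx y hy hxy
      have hn : IsNilpotent (x - y) := mem_nilradical.1 ((Ideal.Quotient.mk_eq_mk_iff_sub_mem x y).1 hxy)
      haveI := Groth.Agent.WEtaleField.isReduced K (B := EtAlgD.maxWeaklyEtale K A)
      have hn' : IsNilpotent (⟨x - y, sub_mem hx hy⟩ : EtAlgD.maxWeaklyEtale K A) :=
        (IsNilpotent.map_iff (f := (EtAlgD.maxWeaklyEtale K A).val) Subtype.val_injective).1 hn
      exact sub_eq_zero.1 (congrArg Subtype.val hn'.eq_zero)
    · intro z hz
      obtain ⟨a, rfl⟩ := Ideal.Quotient.mkₐ_surjective K (nilradical A) z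
      let π := Ideal.Quotient.mkₐ K (nilradical A)
      let A0 : Subalgebra K A := Algebra.adjoin K {a}
      haveI : Algebra.FiniteType K A0 := A0.fg_iff_finiteType.1 (Subalgebra.fg_def.2 ⟨{a}, Set.finite_singleton a, rfl⟩)
      haveI : IsNoetherianRing A0 := Algebra.FiniteType.isNoetherianRing K A0
      let U : Subalgebra K (A ⧸ nilradical A) := Algebra.adjoin K {π a}
      haveI : Algebra.FiniteType K U := U.fg_iff_finiteType.1 (Subalgebra.fg_def.2 ⟨{π a}, Set.finite_singleton _, rfl⟩)
      have hU : A0.map π = U := by rw [AlgHom.map_adjoin, Set.image_singleton]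
      have hUM : U ≤ EtAlgD.maxWeaklyEtale K (A ⧸ nilradical A) :=
        Algebra.adjoin_le (Set.singleton_subset_iff.2 hz)
      haveI := hM (A ⧸ nilradical A)
      haveI : Algebra.Etale K U :=
        Groth.Agent.WEtaleField.etale_of_injective (Subalgebra.inclusion hUM) (Subalgebra.inclusion_injective hUM)
      let g : A0 →ₐ[K] U := (π.comp A0.val).codRestrict U fun x => hU ▸ ⟨x.1, x.2, rfl⟩
      have hg : Function.Surjective g := by
        rintro ⟨y, hy⟩
        obtain ⟨x, hx, rfl⟩ := (hU ▸ hy : y ∈ A0.map π)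
        exact ⟨⟨x, hx⟩, rfl⟩
      have hker : IsNilpotent (RingHom.ker g) := by
        rw [Ideal.FG.isNilpotent_iff_le_nilradical (IsNoetherian.noetherian _)]
        intro x hx
        refine mem_nilradical.2 ((IsNilpotent.map_iff (f := A0.val) Subtype.val_injective).1 ?_)
        exact mem_nilradical.1 (Ideal.Quotient.eq_zero_iff_mem.1 (congrArg Subtype.val hx))
      let s := Algebra.FormallySmooth.liftOfSurjective (AlgHom.id K U) g hg hker
      have hs : g.comp s = AlgHom.id K U := Algebra.FormallySmooth.comp_liftOfSurjective _ _ hg hker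
      let w : U := ⟨π a, Algebra.subset_adjoin rfl⟩
      refine ⟨(s w).1, le_max _ (Groth.Agent.WEtaleField.range_weaklyEtale (A0.val.comp s)) ⟨w, rfl⟩, ?_⟩
      exact congrArg Subtype.val (AlgHom.congr_fun hs w)
  · intro hidem hA
    haveI := hA
    have hidem' : ∀ e : EtAlgD.maxWeaklyEtale K A, IsIdempotentElem e → e = 0 ∨ e = 1 := fun e he =>
      (hidem e.1 (congrArg Subtype.val he)).imp (fun h => Subtype.ext h) (fun h => Subtype.ext h)
    haveI : Nontrivial (EtAlgD.maxWeaklyEtale K A) :=
      ⟨⟨0, 1, fun h => zero_ne_one (congrArg Subtype.val h)⟩⟩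
    have hF := Groth.Agent.WEtaleField.isField_of_idempotents K hidem'
    refine ⟨hF, ?_⟩
    letI := hF.toField
    exact Groth.Agent.WEtaleField.isSeparable_field

end Groth.Agent.S7141
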