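import Groth.Statements.S7143
import Groth.Agent.WEtaleVal.PiLoc

set_option autoImplicit false
set_option linter.style.haveILetI false
universe u
open CategoryTheory
open EtAlg

namespace Groth.Agent.S7143

/-- Every normal domain A with fraction field K is the fibre product V ×_L K for suitable rings V and L
with maps A → V, V → L, K → L (together with the given A → K), where every ideal of V is flat (weak
dimension at most one) and V → L is flat, injective and an epimorphism of rings. -/
theorem result (A K : Type u) [CommRing A] [IsDomain A] [Field K] [Algebra A K]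
    [IsFractionRing A K] [IsIntegrallyClosed A] :
    ∃ (V L : Type u) (_ : CommRing V) (_ : CommRing L) (f : A →+* V) (g : V →+* L) (h : K →+* L),
      g.comp f = h.comp (algebraMap A K) ∧
      (∀ I : Ideal V, Module.Flat V I) ∧ g.Flat ∧ Function.Injective g ∧ Epi (CommRingCat.ofHom g) ∧
      ∀ (v : V) (k : K), g v = h k → ∃! a : A, f a = v ∧ algebraMap A K a = k := by
  let ι := {W : ValuationSubring K // ∀ a, algebraMap A K a ∈ W}
  let V := ∀ i : ι, i.1
  let f : A →+* V := RingHom.pi fun i => (algebraMap A K).codRestrict i.1.toSubring i.2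
  let g : V →+* (ι → K) := RingHom.pi fun i => i.1.toSubring.subtype.comp (Pi.evalRingHom _ i)
  let h : K →+* (ι → K) := RingHom.pi fun _ => RingHom.id K
  letI : Algebra V (ι → K) := g.toAlgebra
  haveI hloc : IsLocalization (nonZeroDivisors V) (ι → K) :=
    Groth.Agent.WEtaleVal.isLocalization_pi (fun i : ι => i.1) (fun _ => K) (RingEquiv.refl _) fun _ _ => rfl
  refine ⟨V, ι → K, inferInstance, inferInstance, f, g, h, rfl,
    fun I => Groth.Agent.WEtaleVal.flat_ideal_pi (fun i : ι => i.1) I,
    (IsLocalization.flat (ι → K) (nonZeroDivisors V) : Module.Flat V (ι → K)),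
    IsLocalization.injective (ι → K) le_rfl, ?_, fun v k hvk => ?_⟩
  · constructor
    intro Z φ ψ hφψ
    exact CommRingCat.hom_ext (IsLocalization.ringHom_ext (nonZeroDivisors V) (congrArg CommRingCat.Hom.hom hφψ))
  · obtain ⟨a, ha⟩ : ∃ a, algebraMap A K a = k := by
      haveI : IsIntegrallyClosedIn (algebraMap A K).range K := by
        rw [Subring.isIntegrallyClosedIn_iff]
        rintro y ⟨P, hP, hy⟩
        obtain ⟨Q, hQ, -, hQm⟩ := Polynomial.lifts_and_degree_eq_and_monic
          ((Polynomial.map_surjective _ (algebraMap A K).rangeRestrict_surjective) P) hP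
        have : IsIntegral A y := ⟨Q, hQm, by rw [← hQ, Polynomial.eval₂_map] at hy; exact hy⟩
        obtain ⟨a, ha⟩ := IsIntegrallyClosed.isIntegral_iff.1 this
        exact ⟨a, ha⟩
      by_contra hne
      obtain ⟨W, hW, hxW⟩ := Subring.exists_le_valuationSubring_of_isIntegrallyClosedIn
        (R := (algebraMap A K).range) (x := k) (by rintro ⟨a, ha⟩; exact hne ⟨a, ha⟩)
      have h1 := congrFun hvk ⟨W, fun a => hW ⟨a, rfl⟩⟩
      change ((v ⟨W, fun a => hW ⟨a, rfl⟩⟩ : W) : K) = k at h1
      exact hxW (h1 ▸ SetLike.coe_mem _)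
    refine ⟨a, ⟨funext fun i => Subtype.ext ?_, ha⟩,
      fun b hb => IsFractionRing.injective A K (hb.2.trans ha.symm)⟩
    exact ha.trans (congrFun hvk i).symm

end Groth.Agent.S7143
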