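import Mathlib
import Groth.Statements.S7144
-- import your own Groth.Agent.* helpers here

set_option autoImplicit false
universe u
open CAlg

namespace Groth.Agent.S7144

/-- (1) ⇔ (2): let R be a nonzero ring. Then for all a, b in R one of a, b divides the other if and only
if R is local and every finitely generated ideal of R is principal. (The further equivalence with
the total ordering of the set of ideals by inclusion is standard and not restated here.) -/
theorem result (R : Type u) [CommRing R] [Nontrivial R] :
    PreValuationRing R ↔ IsLocalRing R ∧ IsBezout R := by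
  constructor
  · intro h
    refine ⟨IsLocalRing.of_isUnit_or_isUnit_one_sub_self fun a => ?_, IsBezout.iff_span_pair_isPrincipal.mpr fun x y => ?_⟩
    · obtain ⟨c, hc | hc⟩ := PreValuationRing.cond a (1 - a)
      · exact Or.inl (IsUnit.of_mul_eq_one (c + 1) (by rw [mul_add, mul_one, hc]; ring))
      · exact Or.inr (IsUnit.of_mul_eq_one (c + 1) (by rw [mul_add, mul_one, hc]; ring))
    · obtain ⟨c, hc | hc⟩ := PreValuationRing.cond x y
      · exact ⟨x, le_antisymm (Submodule.span_le.mpr (by
          rintro z (rfl | rfl)
          · exact Ideal.mem_span_singleton_self _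
          · exact Ideal.mem_span_singleton.mpr ⟨c, hc.symm⟩)) (Ideal.span_mono (by simp))⟩
      · exact ⟨y, le_antisymm (Submodule.span_le.mpr (by
          rintro z (rfl | rfl)
          · exact Ideal.mem_span_singleton.mpr ⟨c, hc.symm⟩
          · exact Ideal.mem_span_singleton_self _)) (Ideal.span_mono (by simp))⟩
  · rintro ⟨hl, hb⟩
    refine ⟨fun a b => ?_⟩
    obtain ⟨d, hd'⟩ := (IsBezout.span_pair_isPrincipal a b).principal
    have hd : Ideal.span {a, b} = Ideal.span {d} := hd'
    obtain ⟨a', ha⟩ := Ideal.mem_span_singleton'.mp (hd ▸ Ideal.subset_span (by simp) : a ∈ Ideal.span {d})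
    obtain ⟨b', hb'⟩ := Ideal.mem_span_singleton'.mp (hd ▸ Ideal.subset_span (by simp) : b ∈ Ideal.span {d})
    obtain ⟨x, y, hxy⟩ := Ideal.mem_span_pair.mp (hd.symm ▸ Ideal.mem_span_singleton_self d : d ∈ Ideal.span {a, b})
    subst ha hb'
    rcases IsLocalRing.isUnit_or_isUnit_one_sub_self (x * a' + y * b') with h | h
    · rcases IsLocalRing.isUnit_or_isUnit_of_isUnit_add h with h' | h'
      · obtain ⟨v, hv⟩ := isUnit_of_mul_isUnit_right h' |>.exists_right_inv
        exact ⟨v * b', Or.inl (by linear_combination (b' * d) * hv)⟩
      · obtain ⟨v, hv⟩ := isUnit_of_mul_isUnit_right h' |>.exists_right_inv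
        exact ⟨v * a', Or.inr (by linear_combination (a' * d) * hv)⟩
    · have : d = 0 := by
        rw [← h.mul_right_eq_zero]; linear_combination -hxy
      exact ⟨0, Or.inl (by simp [this])⟩

end Groth.Agent.S7144
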