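import Groth.Statements.S7145
import Mathlib
-- import your own Groth.Agent.* helpers here

set_option autoImplicit false
universe u
open CategoryTheory CategoryTheory.Limits
open CAlg

namespace Groth.Agent.S7145

section Aux
open CategoryTheory CategoryTheory.Limits

private inductive Reach {ι : ℤ → Type u} (start : ∀ n, Set (ι n)) (edge : ∀ n m, ι n → Set (ι m)) :
    ∀ n, ι n → Prop
  | base {n : ℤ} {i : ι n} : i ∈ start n → Reach start edge n i
  | step {n m : ℤ} {i : ι n} {j : ι m} : n + 1 = m → Reach start edge n i → j ∈ edge n m i →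
      Reach start edge m j

private lemma reach_finite {ι : ℤ → Type u} {start : ∀ n, Set (ι n)}
    {edge : ∀ n m, ι n → Set (ι m)} (hs : ∀ n, (start n).Finite)
    (he : ∀ n m i, (edge n m i).Finite) (a : ℤ) (ha : ∀ n, n < a → start n = ∅) :
    (∀ n, n < a → {i | Reach start edge n i} = ∅) ∧ ∀ n, {i | Reach start edge n i}.Finite := by
  have h1 : ∀ n i, Reach start edge n i → a ≤ n := by
    intro n i h
    induction h with
    | @base n i h =>
      by_contra hn
      rw [ha n (not_le.mp hn)] at h
      exact h
    | step h _ _ ih => omega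
  have h2 : ∀ n, n < a → {i | Reach start edge n i} = ∅ := fun n hn =>
    Set.eq_empty_iff_forall_notMem.mpr fun i hi => absurd (h1 n i hi) (not_le.mpr hn)
  have h3 : ∀ m, {i | Reach start edge (m - 1) i}.Finite → {i | Reach start edge m i}.Finite := by
    intro m hm
    refine ((hs m).union (hm.biUnion fun i _ => he (m - 1) m i)).subset ?_
    intro j hj
    cases hj with
    | base h => exact Or.inl h
    | @step n _ i _ h hr hj =>
      obtain rfl : n = m - 1 := by omega
      exact Or.inr (Set.mem_biUnion hr hj)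
  refine ⟨h2, fun n => ?_⟩
  rcases lt_or_ge n (a - 1) with hn | hn
  · rw [h2 n (by omega)]; exact Set.finite_empty
  · induction n, hn using Int.le_induction with
    | base => rw [h2 (a - 1) (by omega)]; exact Set.finite_empty
    | succ n _ ih => exact h3 (n + 1) (by rw [add_sub_cancel_right]; exact ih)

end Aux

/-- Let R be a ring and F a cochain complex of free R-modules that is zero in all sufficiently large
degrees. Given finitely many elements f_i of F, f_i lying in degree n_i, there is a subcomplex G of
F (a map of complexes G → F injective in every degree) through which every f_i passes, such that G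
is zero outside a finite range of degrees and each term of G is a finitely generated free R-module. -/
theorem result (R : Type u) [CommRing R]
    (F : CochainComplex (ModuleCat.{u} R) ℤ) (hfree : ∀ n : ℤ, Module.Free R (F.X n))
    (b : ℤ) (hb : ∀ n : ℤ, b < n → IsZero (F.X n))
    (N : ℕ) (deg : Fin N → ℤ) (f : ∀ i : Fin N, F.X (deg i)) :
    ∃ (G : CochainComplex (ModuleCat.{u} R) ℤ) (ι : G ⟶ F),
      (∀ n : ℤ, Function.Injective (ι.f n)) ∧
      (∃ a c : ℤ, ∀ n : ℤ, (n < a ∨ c < n) → IsZero (G.X n)) ∧
      (∀ n : ℤ, Module.Finite R (G.X n) ∧ Module.Free R (G.X n)) ∧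
      ∀ i : Fin N, f i ∈ Set.range (ι.f (deg i)) := by
  classical
  let e := fun n => @Module.Free.chooseBasis R (F.X n) _ _ _ (hfree n)
  let ι : ℤ → Type u := fun n => @Module.Free.ChooseBasisIndex R (F.X n) _ _ _ (hfree n)
  let start : ∀ n, Set (ι n) := fun n =>
    {j | ∃ i : Fin N, ∃ h : deg i = n, j ∈ ((e n).repr (h ▸ f i)).support}
  let edge : ∀ n m, ι n → Set (ι m) := fun n m i => ((e m).repr ((F.d n m).hom (e n i))).support
  obtain ⟨a, ha⟩ : ∃ a : ℤ, ∀ i, a ≤ deg i :=
    ⟨-∑ i, |deg i|, fun i => (neg_le_neg (Finset.single_le_sum (fun j _ => abs_nonneg (deg j))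
      (Finset.mem_univ i))).trans (neg_abs_le _)⟩
  have hstart : ∀ n, (start n).Finite := by
    intro n
    refine (Set.finite_iUnion (fun i : Fin N => Set.finite_iUnion
      (fun h : PLift (deg i = n) => ((e n).repr (h.down ▸ f i)).support.finite_toSet))).subset ?_
    rintro j ⟨i, h, hj⟩
    exact Set.mem_iUnion.mpr ⟨i, Set.mem_iUnion.mpr ⟨⟨h⟩, hj⟩⟩
  obtain ⟨hempty, hfin⟩ := reach_finite hstart (edge := edge) (fun n m i => Finset.finite_toSet _) a
    (fun n hn => Set.eq_empty_iff_forall_notMem.mpr fun j ⟨i, h, _⟩ => by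
      have := ha i; omega)
  let s : ∀ n, Set (ι n) := fun n => {i | Reach start edge n i ∧ n ≤ b}
  have hsfin : ∀ n, (s n).Finite := fun n => (hfin n).subset fun i hi => hi.1
  let G₀ : ∀ n, Submodule R (F.X n) := fun n => Submodule.span R (e n '' s n)
  have hzero : ∀ n, b < n → ∀ x : F.X n, x = 0 := fun n hn x => by
    haveI := ModuleCat.subsingleton_of_isZero (hb n hn)
    exact Subsingleton.elim _ _
  have hd : ∀ n m, ∀ x ∈ G₀ n, (F.d n m).hom x ∈ G₀ m := by
    intro n m x hx
    by_cases hnm : n + 1 = m
    swap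
    · rw [F.shape n m hnm]; simp
    by_cases hm : b < m
    · rw [hzero m hm ((F.d n m).hom x)]; exact zero_mem _
    refine (Submodule.span_le (p := (G₀ m).comap (F.d n m).hom)).mpr ?_ hx
    rintro _ ⟨i, hi, rfl⟩
    rw [SetLike.mem_coe, Submodule.mem_comap, ← (e m).linearCombination_repr ((F.d n m).hom (e n i)),
      Finsupp.linearCombination_apply]
    refine Submodule.sum_mem _ fun j hj => Submodule.smul_mem _ _ (Submodule.subset_span ⟨j, ?_, rfl⟩)
    exact ⟨Reach.step hnm hi.1 hj, not_lt.mp hm⟩
  let G : CochainComplex (ModuleCat.{u} R) ℤ :=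
    { X := fun n => ModuleCat.of R (G₀ n)
      d := fun n m => ModuleCat.ofHom (((F.d n m).hom).restrict (hd n m))
      shape := fun n m h => by
        ext ⟨x, hx⟩
        simp [F.shape n m h]
      d_comp_d' := fun n m k _ _ => by
        apply ModuleCat.hom_ext
        refine LinearMap.ext fun x => Subtype.ext ?_
        show ((F.d n m) ≫ (F.d m k)).hom x.1 = 0
        simp }
  let φ : G ⟶ F :=
    { f := fun n => ModuleCat.ofHom (G₀ n).subtype
      comm' := fun n m _ => rfl }
  refine ⟨G, φ, fun n => Subtype.val_injective, ⟨a, b, fun n hn => ?_⟩, fun n => ⟨?_, ?_⟩, fun i => ?_⟩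
  · haveI : Subsingleton (G₀ n) := by
      have : s n = ∅ := by
        rcases hn with hn | hn
        · exact Set.eq_empty_iff_forall_notMem.mpr fun j hj =>
            (Set.eq_empty_iff_forall_notMem.mp (hempty n hn) j) hj.1
        · exact Set.eq_empty_iff_forall_notMem.mpr fun j hj => absurd hj.2 (not_le.mpr hn)
      rw [Submodule.subsingleton_iff_eq_bot]
      simp [G₀, this]
    exact ModuleCat.isZero_of_subsingleton _
  · exact Module.Finite.span_of_finite R ((hsfin n).image _)
  · show Module.Free R (G₀ n)
    have h := (e n).linearIndependent.comp ((↑) : s n → ι n) Subtype.val_injective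
    have : G₀ n = Submodule.span R (Set.range (e n ∘ ((↑) : s n → ι n))) := by
      simp only [G₀, Set.range_comp, Subtype.range_coe]
    rw [this]
    exact Module.Free.of_basis (Module.Basis.span h)
  · by_cases hi : b < deg i
    · exact ⟨0, (map_zero _).trans (hzero _ hi (f i)).symm⟩
    refine ⟨⟨f i, ?_⟩, rfl⟩
    rw [← (e (deg i)).linearCombination_repr (f i), Finsupp.linearCombination_apply]
    refine Submodule.sum_mem _ fun j hj => Submodule.smul_mem _ _ (Submodule.subset_span ⟨j, ?_, rfl⟩)
    exact ⟨Reach.base ⟨i, rfl, hj⟩, not_lt.mp hi⟩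

end Groth.Agent.S7145
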