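import Groth.Statements.S7146
import Mathlib.RingTheory.Length
import Mathlib.Analysis.SpecificLimits.Basic
-- import your own Groth.Agent.* helpers here

set_option autoImplicit false
universe u
open Filter
open CAlg

namespace Groth.Agent.S7146

theorem length_pow_le : ∀ (e : ℕ) {R : Type u} [CommRing R] (f : Fin e → R) (s : ℕ),
    Module.length R (R ⧸ Ideal.span (Set.range f) ^ (s + 1)) ≤
      ((s + e).choose e : ℕ∞) * Module.length R (R ⧸ Ideal.span (Set.range f)) := by
  intro e
  induction e with
  | zero =>
    intro R _ f s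
    rw [Set.range_eq_empty f, Ideal.span_empty, ← Ideal.zero_eq_bot, zero_pow (Nat.succ_ne_zero s)]
    simp
  | succ e ih =>
    intro R _ f s
    let I := Ideal.span (Set.range f)
    let mk := Ideal.Quotient.mk (Ideal.span {f 0})
    have hx : f 0 ∈ I := Ideal.subset_span ⟨0, rfl⟩
    have hmap : Ideal.span (Set.range fun i : Fin e => mk (f i.succ)) = I.map mk := by
      rw [Ideal.map_span, ← Set.range_comp]
      apply le_antisymm <;> rw [Ideal.span_le]
      · rintro _ ⟨i, rfl⟩
        exact Ideal.subset_span ⟨i.succ, rfl⟩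
      · rintro _ ⟨i, rfl⟩
        refine Fin.cases ?_ (fun i => Ideal.subset_span ⟨i, rfl⟩) i
        simp [mk, Ideal.Quotient.eq_zero_iff_mem.2 (Ideal.mem_span_singleton_self (f 0))]
    have hrec : ∀ t : ℕ, Module.length R (R ⧸ I ^ (t + 1)) ≤
        Module.length R (R ⧸ I ^ t) + ((t + e).choose e : ℕ∞) * Module.length R (R ⧸ I) := by
      intro t
      let g : (R ⧸ I ^ t) →ₗ[R] R ⧸ I ^ (t + 1) :=
        Submodule.mapQ _ _ (LinearMap.lsmul R R (f 0)) fun a ha => by
          rw [Submodule.mem_comap, LinearMap.lsmul_apply, smul_eq_mul, pow_succ']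
          exact Ideal.mul_mem_mul hx ha
      let B := (R ⧸ Ideal.span {f 0}) ⧸ (I.map mk) ^ (t + 1)
      let h : (R ⧸ I ^ (t + 1)) →ₗ[R] B :=
        Submodule.liftQ _ (Algebra.linearMap R B) fun a ha => by
          show Ideal.Quotient.mk _ (mk a) = 0
          rw [Ideal.Quotient.eq_zero_iff_mem, ← Ideal.map_pow]
          exact Ideal.mem_map_of_mem _ ha
      have hh : Function.Surjective h := fun y => by
        obtain ⟨y, rfl⟩ := Ideal.Quotient.mk_surjective y
        obtain ⟨y, rfl⟩ := Ideal.Quotient.mk_surjective y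
        exact ⟨Submodule.Quotient.mk y, rfl⟩
      have hker : LinearMap.ker h ≤ LinearMap.range g := fun y hy => by
        obtain ⟨a, rfl⟩ := Submodule.Quotient.mk_surjective _ y
        have ha' : mk a ∈ (I ^ (t + 1)).map mk := by
          rw [Ideal.map_pow]
          exact Ideal.Quotient.eq_zero_iff_mem.1 hy
        obtain ⟨b, hb, hb'⟩ := (Ideal.mem_map_iff_of_surjective _ Ideal.Quotient.mk_surjective).1 ha'
        obtain ⟨c, hc⟩ := Ideal.mem_span_singleton.1 (Ideal.Quotient.eq.1 hb'.symm)
        exact ⟨Submodule.Quotient.mk c, (Submodule.Quotient.eq _).2 (by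
          rw [LinearMap.lsmul_apply, smul_eq_mul, show f 0 * c - a = -b by rw [← hc]; ring]
          exact neg_mem hb)⟩
      rw [Module.length_eq_add_of_exact (LinearMap.ker h).subtype h (Subtype.val_injective) hh
        (LinearMap.exact_subtype_ker_map h)]
      refine add_le_add ?_ ?_
      · exact (Module.length_le_of_injective (Submodule.inclusion hker) (Submodule.inclusion_injective hker)).trans
          (Module.length_le_of_surjective g.rangeRestrict g.surjective_rangeRestrict)
      · rw [Module.length_eq_of_surjective (S := R) (R := R ⧸ Ideal.span {f 0}) (M := B) Ideal.Quotient.mk_surjective]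
        have h4 := ih (fun i : Fin e => mk (f i.succ)) t
        rw [hmap] at h4
        refine h4.trans ?_
        gcongr
        rw [← Module.length_eq_of_surjective (S := R) (R := R ⧸ Ideal.span {f 0})
          (M := (R ⧸ Ideal.span {f 0}) ⧸ I.map mk) Ideal.Quotient.mk_surjective]
        exact Module.length_le_of_surjective
          (Submodule.liftQ _ (Algebra.linearMap R ((R ⧸ Ideal.span {f 0}) ⧸ I.map mk)) fun a ha => by
            show Ideal.Quotient.mk _ (mk a) = 0
            rw [Ideal.Quotient.eq_zero_iff_mem]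
            exact Ideal.mem_map_of_mem _ ha)
          (fun y => by
            obtain ⟨y, rfl⟩ := Ideal.Quotient.mk_surjective y
            obtain ⟨y, rfl⟩ := Ideal.Quotient.mk_surjective y
            exact ⟨Submodule.Quotient.mk y, rfl⟩)
    induction s with
    | zero =>
      simp only [zero_add, Nat.choose_self, Nat.cast_one, one_mul]
      rw [Submodule.pow_one]
    | succ s hs =>
      refine ((hrec (s + 1)).trans (add_le_add_left hs _)).trans_eq ?_
      rw [← add_mul, ← Nat.cast_add]
      congr 2
      rw [show s + 1 + (e + 1) = (s + e + 1) + 1 by ring,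
        Nat.choose_succ_succ' (s + e + 1) e, show s + (e + 1) = s + e + 1 by ring,
        show s + 1 + e = s + e + 1 by ring, add_comm]


/-- Let R be a Noetherian local ring of Krull dimension d and I the ideal generated by a system of
parameters g_1, ..., g_d (d elements of the maximal ideal generating an ideal with radical the
maximal ideal); let e_I be the multiplicity of I, i.e. d! times the top coefficient of the numerical
polynomial n ↦ length(R/I^(n+1)), equivalently the limit of d!·length(R/Iⁿ)/n^d. Then e_I ≤
length(R/I). (Stated for a natural number e equal to that limit.) -/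
theorem result (R : Type u) [CommRing R] [IsNoetherianRing R] [IsLocalRing R]
    (d : ℕ) (hd : ringKrullDim R = d) (g : Fin d → R) (hg : ∀ i, g i ∈ IsLocalRing.maximalIdeal R)
    (hsop : IsLocalRing.maximalIdeal R ≤ (Ideal.span (Set.range g)).radical) (e : ℕ)
    (he : Tendsto (fun n : ℕ => (d.factorial : ℝ) * ((Module.length R (R ⧸ Ideal.span (Set.range g) ^ n)).toNat : ℝ) / (n : ℝ) ^ d)
      atTop (nhds (e : ℝ))) :
    (e : ℕ∞) ≤ Module.length R (R ⧸ Ideal.span (Set.range g)) := by
  cases hL : Module.length R (R ⧸ Ideal.span (Set.range g)) with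
  | top => exact le_top
  | coe L =>
    have hb : ∀ n : ℕ, (d.factorial : ℝ) *
        ((Module.length R (R ⧸ Ideal.span (Set.range g) ^ (n + 1))).toNat : ℝ) / ((n + 1 : ℕ) : ℝ) ^ d ≤
          (L : ℝ) * (1 + (d : ℝ) / ((n + 1 : ℕ) : ℝ)) ^ d := fun n => by
      have h1 := length_pow_le d g n
      rw [hL, ← Nat.cast_mul] at h1
      have h2 : (Module.length R (R ⧸ Ideal.span (Set.range g) ^ (n + 1))).toNat ≤ (n + d).choose d * L :=
        ENat.toNat_le_of_le_natCast h1
      have h3 : d.factorial * (n + d).choose d ≤ (n + 1 + d) ^ d := by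
        rw [← Nat.descFactorial_eq_factorial_mul_choose]
        exact (Nat.descFactorial_le_pow _ _).trans (Nat.pow_le_pow_left (by lia) _)
      have hn : (0 : ℝ) < ((n + 1 : ℕ) : ℝ) := Nat.cast_pos.2 n.succ_pos
      rw [one_add_div hn.ne', div_pow, ← mul_div_assoc, div_le_div_iff_of_pos_right (pow_pos hn d)]
      calc (d.factorial : ℝ) * ((Module.length R (R ⧸ Ideal.span (Set.range g) ^ (n + 1))).toNat : ℝ)
          ≤ ((d.factorial * (n + d).choose d * L : ℕ) : ℝ) := by
            rw [mul_assoc, Nat.cast_mul]; gcongr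
        _ ≤ (((n + 1 + d) ^ d * L : ℕ) : ℝ) := by gcongr
        _ = _ := by push_cast; ring
    have hlim : Tendsto (fun n : ℕ => (L : ℝ) * (1 + (d : ℝ) / ((n + 1 : ℕ) : ℝ)) ^ d) atTop (nhds (L : ℝ)) := by
      simpa using (((tendsto_const_div_atTop_nhds_zero_nat (d : ℝ)).comp (tendsto_add_atTop_nat 1)).const_add 1
        |>.pow d).const_mul (L : ℝ)
    have := le_of_tendsto_of_tendsto' (he.comp (tendsto_add_atTop_nat 1)) hlim hb
    exact_mod_cast this

end Groth.Agent.S7146
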