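import Groth.Statements.S7147
import Mathlib

set_option autoImplicit false
universe u
open CAlg

namespace Groth.Agent.S7147

/-- Let R be a ring, M a finitely presented R-module and x a maximal ideal of R with residue field κ(x);
write M(x) = M/xM and let B(x) ⊆ M(x) be the orthogonal of the image of Hom_R(M, R) in the dual of
M(x), i.e. the classes of those m in M with φ(m) in x for every linear form φ on M, and V(x) =
M(x)/B(x). For s_1, ..., s_r in M the following are equivalent: (1) there is f in R, f not in x,
such that the map R_f^r → M_f given by the s_i is the inclusion of a direct summand; (2) the images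
of s_1, ..., s_r in V(x) are linearly independent over κ(x). -/
theorem result (R : Type u) [CommRing R] (M : Type u)
    [AddCommGroup M] [Module R M] [Module.FinitePresentation R M] (x : Ideal R) [x.IsMaximal]
    (r : ℕ) (s : Fin r → M) :
    let Mx := M ⧸ (x • ⊤ : Submodule R M)
    let Bx : Submodule (R ⧸ x) Mx :=
      Submodule.span (R ⧸ x) ((x • ⊤ : Submodule R M).mkQ '' {m : M | ∀ φ : M →ₗ[R] R, φ m ∈ x})
    (∃ f : R, f ∉ x ∧
      ∃ g : LocalizedModule (Submonoid.powers f) M →ₗ[Localization.Away f] (Fin r → Localization.Away f),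
        g ∘ₗ Fintype.linearCombination (Localization.Away f)
            (fun i => LocalizedModule.mkLinearMap (Submonoid.powers f) M (s i)) = LinearMap.id) ↔
    LinearIndependent (R ⧸ x) (fun i => Bx.mkQ ((x • ⊤ : Submodule R M).mkQ (s i))) := by
  classical
  intro Mx Bx
  let q := (x • ⊤ : Submodule R M).mkQ
  let S0 : Submodule R M := ⨅ φ : M →ₗ[R] R, Submodule.comap φ x
  have hS0 : ∀ m, m ∈ S0 ↔ ∀ φ : M →ₗ[R] R, φ m ∈ x := fun m => by
    simp [S0, Submodule.mem_iInf]
  have hsmul : ∀ (a : R) (m : M), Ideal.Quotient.mk x a • q m = q (a • m) := fun a m => rfl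
  have hB : ∀ m, q m ∈ Bx ↔ m ∈ S0 := by
    intro m
    constructor
    · intro hm
      have hsub : ∀ y ∈ Bx, ∃ m ∈ S0, q m = y := by
        intro y hy
        induction hy using Submodule.span_induction with
        | mem y hy =>
          obtain ⟨m, hm, rfl⟩ := hy
          exact ⟨m, (hS0 m).2 hm, rfl⟩
        | zero => exact ⟨0, zero_mem _, map_zero _⟩
        | add a b _ _ ha hb =>
          obtain ⟨m, hm, rfl⟩ := ha; obtain ⟨m', hm', rfl⟩ := hb
          exact ⟨m + m', add_mem hm hm', map_add _ _ _⟩
        | smul c y _ hy =>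
          obtain ⟨m, hm, rfl⟩ := hy
          obtain ⟨a, rfl⟩ := Ideal.Quotient.mk_surjective c
          exact ⟨a • m, S0.smul_mem a hm, rfl⟩
      obtain ⟨m', hm', he⟩ := hsub _ hm
      have hx : m - m' ∈ S0 := by
        have hmem : m - m' ∈ (x • ⊤ : Submodule R M) := (Submodule.Quotient.eq _).1 he.symm
        refine (hS0 _).2 fun φ => ?_
        have := Submodule.mem_map_of_mem (f := φ) hmem
        rw [Submodule.map_smul''] at this
        exact (Submodule.smul_le.2 fun a ha b _ => by rw [smul_eq_mul]; exact x.mul_mem_right b ha) this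
      simpa using add_mem hx hm'
    · intro hm
      exact Submodule.subset_span ⟨m, (hS0 m).1 hm, rfl⟩
  have hli : LinearIndependent (R ⧸ x) (fun i => Bx.mkQ (q (s i))) ↔
      ∀ a : Fin r → R, (∑ i, a i • s i) ∈ S0 → ∀ i, a i ∈ x := by
    rw [Fintype.linearIndependent_iff]
    constructor
    · intro h a ha i
      rw [← Ideal.Quotient.eq_zero_iff_mem]
      refine h (fun i => Ideal.Quotient.mk x (a i)) ?_ i
      simp only [← map_smul, hsmul, ← map_sum]
      exact (Submodule.Quotient.mk_eq_zero _).2 ((hB _).2 ha)
    · intro h c hc i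
      choose a ha using fun i => Ideal.Quotient.mk_surjective (c i)
      have := h a ((hB _).1 ((Submodule.Quotient.mk_eq_zero _).1 (by
        simp only [← ha, ← map_smul, hsmul, ← map_sum] at hc
        exact hc))) i
      rw [← ha, Ideal.Quotient.eq_zero_iff_mem.2 this]
  rw [hli]
  constructor
  · rintro ⟨f, hf, g, hg⟩ a ha i
    let A := Localization.Away f
    let mk := LocalizedModule.mkLinearMap (Submonoid.powers f) M
    have hgs : ∀ j, g (mk (s j)) = Pi.single j 1 := fun j => by
      have := LinearMap.congr_fun hg (Pi.single j 1)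
      simpa [Fintype.linearCombination_apply_single, mk] using this
    let ψ : M →ₗ[R] A := (LinearMap.proj i).comp ((g.restrictScalars R).comp mk)
    obtain ⟨φ, ⟨_, k, rfl⟩, hφ⟩ := Module.FinitePresentation.exists_lift_of_isLocalizedModule
      (Submonoid.powers f) (Algebra.linearMap R A) ψ
    have hψ : ψ (∑ j, a j • s j) = algebraMap R A (a i) := by
      simp [ψ, hgs, Finset.sum_apply, Pi.single_apply, Algebra.smul_def]
    have h1 : algebraMap R A (φ (∑ j, a j • s j)) = algebraMap R A (f ^ k * a i) := by
      have := LinearMap.congr_fun hφ (∑ j, a j • s j)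
      rw [LinearMap.comp_apply, LinearMap.smul_apply, hψ, Submonoid.smul_def, Algebra.smul_def,
        Algebra.linearMap_apply] at this
      rw [this, map_mul]
    obtain ⟨⟨_, l, rfl⟩, hl⟩ := (IsLocalization.eq_iff_exists (Submonoid.powers f) A).1 h1
    have hp : x.IsPrime := inferInstance
    have : f ^ l * (f ^ k * a i) ∈ x := hl ▸ x.mul_mem_left _ ((hS0 _).1 ha φ)
    rcases hp.mem_or_mem this with h | h
    · exact absurd (hp.mem_of_pow_mem _ h) hf
    · rcases hp.mem_or_mem h with h | h
      · exact absurd (hp.mem_of_pow_mem _ h) hf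
      · exact h
  · intro h
    letI : Field (R ⧸ x) := Ideal.Quotient.field x
    let ev : (M →ₗ[R] R) →ₗ[R] (Fin r → R ⧸ x) :=
      LinearMap.pi fun i => (Algebra.linearMap R (R ⧸ x)).comp (LinearMap.applyₗ (s i))
    let W : Submodule (R ⧸ x) (Fin r → R ⧸ x) := Submodule.span (R ⧸ x) (Set.range ev)
    have hW : W = ⊤ := by
      by_contra hne
      obtain ⟨c, hc, hcW⟩ := Submodule.exists_dual_map_eq_bot_of_lt_top (lt_top_iff_ne_top.2 hne) inferInstance
      choose a ha using fun i => Ideal.Quotient.mk_surjective (c (Pi.single i 1))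
      have hmem : (∑ i, a i • s i) ∈ S0 := (hS0 _).2 fun φ => by
        have h1 : c (ev φ) = 0 := by
          have : c (ev φ) ∈ W.map c := Submodule.mem_map_of_mem (Submodule.subset_span ⟨φ, rfl⟩)
          rw [hcW] at this
          simpa using this
        rw [pi_eq_sum_univ' (ev φ)] at h1
        simp only [map_sum, map_smul, ← ha, smul_eq_mul] at h1
        rw [← Ideal.Quotient.eq_zero_iff_mem, map_sum, map_sum, ← h1]
        refine Finset.sum_congr rfl fun i _ => ?_
        simp [ev, mul_comm]
      refine hc (LinearMap.ext fun v => ?_)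
      rw [pi_eq_sum_univ' v]
      simp [← ha, Ideal.Quotient.eq_zero_iff_mem.2 (h a hmem _)]
    have hspan : ∀ v ∈ W, ∃ φ, ev φ = v := by
      intro v hv
      induction hv using Submodule.span_induction with
      | mem v hv => exact hv
      | zero => exact ⟨0, map_zero _⟩
      | add a b _ _ ha hb =>
        obtain ⟨φ, rfl⟩ := ha; obtain ⟨φ', rfl⟩ := hb
        exact ⟨φ + φ', map_add _ _ _⟩
      | smul c v _ hv =>
        obtain ⟨φ, rfl⟩ := hv
        obtain ⟨a, rfl⟩ := Ideal.Quotient.mk_surjective c
        refine ⟨a • φ, ?_⟩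
        rw [map_smul]
        funext i
        simp [Algebra.smul_def]
    choose φ hφ using fun j => hspan (Pi.single j 1) (hW ▸ Submodule.mem_top)
    let Φ : Matrix (Fin r) (Fin r) R := fun j i => φ j (s i)
    have hdet : Φ.det ∉ x := by
      rw [← Ideal.Quotient.eq_zero_iff_mem, RingHom.map_det]
      have : (Ideal.Quotient.mk x).mapMatrix Φ = 1 := by
        ext j i
        have := congrFun (hφ j) i
        simp only [ev, LinearMap.pi_apply, LinearMap.comp_apply, Algebra.linearMap_apply,
          LinearMap.applyₗ_apply_apply] at this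
        rw [RingHom.mapMatrix_apply, Matrix.map_apply, Matrix.one_apply]
        show Ideal.Quotient.mk x (φ j (s i)) = _
        rw [show Ideal.Quotient.mk x (φ j (s i)) = algebraMap R (R ⧸ x) (φ j (s i)) from rfl, this,
          Pi.single_apply]
        simp [eq_comm]
      rw [this, Matrix.det_one]
      exact one_ne_zero
    set f := Φ.det
    let A := Localization.Away f
    let G : M →ₗ[R] (Fin r → R) := (Matrix.toLin' Φ.adjugate).comp (LinearMap.pi φ)
    let G' : M →ₗ[R] (Fin r → A) := (IsLocalization.Away.invSelf f : A) •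
      ((Algebra.linearMap R A).compLeft (Fin r)).comp G
    have hunit : ∀ t : Submonoid.powers f, IsUnit (algebraMap R (Module.End R (Fin r → A)) t) := by
      intro t
      rw [Module.End.isUnit_iff]
      have hu := IsLocalization.map_units A t
      refine ⟨fun v w hvw => funext fun i => ?_, fun v => ⟨fun i => (hu.unit⁻¹ : Aˣ) * v i, funext fun i => ?_⟩⟩
      · have := congrFun hvw i
        simp only [Module.algebraMap_end_apply, Pi.smul_apply, Algebra.smul_def] at this
        exact hu.mul_left_cancel this
      · simp [Algebra.smul_def]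
        rw [← mul_assoc, IsUnit.mul_val_inv, one_mul]
    let g₀ := LocalizedModule.lift (Submonoid.powers f) G' hunit
    refine ⟨f, hdet, g₀.extendScalarsOfIsLocalization (Submonoid.powers f) A, ?_⟩
    refine LinearMap.pi_ext fun j a => ?_
    rw [LinearMap.comp_apply, Fintype.linearCombination_apply_single, map_smul, LinearMap.id_apply,
      LinearMap.extendScalarsOfIsLocalization_apply']
    have hg : g₀ (LocalizedModule.mkLinearMap (Submonoid.powers f) M (s j)) = G' (s j) :=
      LinearMap.congr_fun (LocalizedModule.lift_comp _ G' hunit) (s j)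
    rw [hg]
    have hG : G (s j) = fun i => (f • (1 : Matrix (Fin r) (Fin r) R)) i j := by
      funext i
      rw [← Matrix.adjugate_mul]
      simp [G, Φ, Matrix.mulVec, dotProduct]
      rfl
    funext i
    simp only [G', LinearMap.smul_apply, LinearMap.comp_apply, LinearMap.compLeft_apply, Pi.smul_apply,
      Function.comp_apply, Algebra.linearMap_apply, hG, Matrix.smul_apply, Matrix.one_apply, smul_eq_mul]
    rw [Pi.single_apply]
    by_cases hij : i = j
    · rw [if_pos hij, if_pos hij, mul_one, mul_comm (IsLocalization.Away.invSelf f),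
        IsLocalization.Away.mul_invSelf, mul_one]
    · simp [hij]

end Groth.Agent.S7147
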