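import Groth.Statements.S7150
import Groth.Agent.EGA41Lib.GeomReducedApps
-- import your own Groth.Agent.* helpers here

set_option autoImplicit false
universe u
open EtAlg

namespace Groth.Agent.S7150

/-- Suppose p is a prime with p·1 = 0 in the local ring A and some power of the maximal ideal of A is
zero. Then the residue map A → κ_A has a section σ : κ_A → A that is a ring map. If moreover A → A'
is a local homomorphism to another local ring whose maximal ideal has a vanishing power, and the
residue field extension κ_{A'}/κ_A is separable (possibly transcendental, i.e. geometrically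
reduced), then for any such σ there is a section σ' : κ_{A'} → A' compatible with σ. -/
theorem result (p : ℕ) (hp : p.Prime) (A : Type u) [CommRing A]
    [IsLocalRing A] [CharP A p] (hnil : ∃ n : ℕ, IsLocalRing.maximalIdeal A ^ n = ⊥) :
    (∃ σ : IsLocalRing.ResidueField A →+* A, (IsLocalRing.residue A).comp σ = RingHom.id _) ∧
    ∀ (A' : Type u) [CommRing A'] [IsLocalRing A'] [Algebra A A'] [IsLocalHom (algebraMap A A')],
      (∃ n : ℕ, IsLocalRing.maximalIdeal A' ^ n = ⊥) →
      Algebra.IsGeometricallyReduced (IsLocalRing.ResidueField A) (IsLocalRing.ResidueField A') →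
      ∀ σ : IsLocalRing.ResidueField A →+* A, (IsLocalRing.residue A).comp σ = RingHom.id _ →
        ∃ σ' : IsLocalRing.ResidueField A' →+* A', (IsLocalRing.residue A').comp σ' = RingHom.id _ ∧
          σ'.comp (IsLocalRing.ResidueField.map (algebraMap A A')) = (algebraMap A A').comp σ := by
  have : Fact p.Prime := ⟨hp⟩
  refine ⟨?_, ?_⟩
  · let K := IsLocalRing.ResidueField A
    have : CharP K p := (CharP.charP_iff_prime_eq_zero hp).2 (by
      rw [← map_natCast (IsLocalRing.residue A), CharP.cast_eq_zero, map_zero])
    let : Algebra (ZMod p) A := ZMod.algebra A p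
    let : Algebra (ZMod p) K := ((IsLocalRing.residue A).comp (algebraMap (ZMod p) A)).toAlgebra
    have : Algebra.FormallySmooth (ZMod p) K := Groth.Agent.EGA41Lib.formallySmooth_zmod
    let q : A →ₐ[ZMod p] K := { IsLocalRing.residue A with commutes' := fun _ => rfl }
    obtain ⟨n, hn⟩ := hnil
    have hq : IsNilpotent (RingHom.ker (q : A →+* K)) := by
      refine ⟨n, ?_⟩
      have e : RingHom.ker (q : A →+* K) = IsLocalRing.maximalIdeal A := IsLocalRing.ker_residue (R := A)
      rw [e, hn]
      rfl
    exact ⟨(Algebra.FormallySmooth.liftOfSurjective (AlgHom.id _ K) q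
      IsLocalRing.residue_surjective hq).toRingHom, RingHom.ext fun y =>
        Algebra.FormallySmooth.liftOfSurjective_apply (AlgHom.id _ K) q
          IsLocalRing.residue_surjective hq y⟩
  · intro A' _ _ _ _ hnil' hsep σ hσ
    let κ := IsLocalRing.ResidueField A
    let κ' := IsLocalRing.ResidueField A'
    have : Algebra.FormallySmooth κ κ' :=
      Groth.Agent.EGA41Lib.formallySmooth_iff_isGeometricallyReduced.2 hsep
    let : Algebra κ A' := ((algebraMap A A').comp σ).toAlgebra
    let q : A' →ₐ[κ] κ' :=
      { IsLocalRing.residue A' with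
        commutes' := fun y => by
          show IsLocalRing.residue A' (algebraMap A A' (σ y)) = _
          conv_rhs => rw [← RingHom.id_apply y, ← hσ]
          rfl }
    obtain ⟨n, hn⟩ := hnil'
    have hq : IsNilpotent (RingHom.ker (q : A' →+* κ')) := by
      refine ⟨n, ?_⟩
      have e : RingHom.ker (q : A' →+* κ') = IsLocalRing.maximalIdeal A' := IsLocalRing.ker_residue (R := A')
      rw [e, hn]
      rfl
    let s := Algebra.FormallySmooth.liftOfSurjective (AlgHom.id κ κ') q
      IsLocalRing.residue_surjective hq
    exact ⟨s.toRingHom, RingHom.ext fun y =>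
      Algebra.FormallySmooth.liftOfSurjective_apply (AlgHom.id κ κ') q
        IsLocalRing.residue_surjective hq y, RingHom.ext fun y => s.commutes y⟩

end Groth.Agent.S7150
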