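import Groth.Statements.S7152
import Mathlib
-- import your own Groth.Agent.* helpers here

set_option autoImplicit false
universe u
open EtAlg

namespace Groth.Agent.S7152

/-- Let A' ⊆ A be an extension of rings and f an element of A'. Assume A is finite over A', f is a
nonzerodivisor on A, and A'_f = A_f. Then there is n₀ > 0 such that for all n ≥ n₀ the following
holds: given a ring B', a nonzerodivisor g of B' and an isomorphism φ' : A'/fⁿA' → B'/gⁿB' sending
the class of f to the class of g, one can find a ring B containing B' as a subring and finite as a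
B'-module, together with a ring isomorphism φ : A/fA → B/gB that agrees with φ' (i.e. the square
formed by the maps A'/fⁿA' → A/fA and B'/gⁿB' → B/gB commutes). -/
theorem result (A' A : Type u) [CommRing A'] [CommRing A] [Algebra A' A]
    (hinj : Function.Injective (algebraMap A' A)) [Module.Finite A' A] (f : A')
    (hf : algebraMap A' A f ∈ nonZeroDivisors A)
    (hloc : Function.Bijective (IsLocalization.Away.map (Localization.Away f)
      (Localization.Away (algebraMap A' A f)) (algebraMap A' A) f)) :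
    ∃ n₀ : ℕ, 0 < n₀ ∧ ∀ n : ℕ, n₀ ≤ n →
      ∀ (B' : Type u) [CommRing B'] (g : B'), g ∈ nonZeroDivisors B' →
        ∀ φ' : (A' ⧸ Ideal.span {f ^ n}) ≃+* (B' ⧸ Ideal.span {g ^ n}),
        φ' (Ideal.Quotient.mk (Ideal.span {f ^ n}) f) = Ideal.Quotient.mk (Ideal.span {g ^ n}) g →
        ∃ (B : Type u) (_ : CommRing B) (_ : Algebra B' B),
          Function.Injective (algebraMap B' B) ∧ Module.Finite B' B ∧
          ∃ φ : (A ⧸ Ideal.span {algebraMap A' A f}) ≃+* (B ⧸ Ideal.span {algebraMap B' B g}),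
            ∀ (a' : A') (b' : B'),
              φ' (Ideal.Quotient.mk (Ideal.span {f ^ n}) a') = Ideal.Quotient.mk (Ideal.span {g ^ n}) b' →
              φ (Ideal.Quotient.mk (Ideal.span {algebraMap A' A f}) (algebraMap A' A a')) =
                Ideal.Quotient.mk (Ideal.span {algebraMap B' B g}) (algebraMap B' B b') := by
  classical
  set F := algebraMap A' A f with hF
  -- a uniform exponent
  have hexp : ∀ a : A, ∃ k : ℕ, ∀ j, k ≤ j → ∃ a' : A', algebraMap A' A a' = F ^ j * a := by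
    intro a
    obtain ⟨z, hz⟩ := hloc.2 (algebraMap A (Localization.Away F) a)
    obtain ⟨⟨a', ⟨_, k, rfl⟩⟩, rfl⟩ := IsLocalization.mk'_surjective (Submonoid.powers f) z
    dsimp only at hz
    refine ⟨k, fun j hj => ⟨f ^ (j - k) * a', ?_⟩⟩
    rw [IsLocalization.Away.map, IsLocalization.map_mk', IsLocalization.mk'_eq_iff_eq_mul] at hz
    rw [← map_mul] at hz
    have hinjA : Function.Injective (algebraMap A (Localization.Away F)) :=
      IsLocalization.injective _ (Submonoid.powers_le.2 hf)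
    rw [map_mul, map_pow, hinjA hz]
    show F ^ (j - k) * (a * algebraMap A' A (f ^ k)) = F ^ j * a
    rw [map_pow, mul_left_comm, ← pow_add, Nat.sub_add_cancel hj, mul_comm]
  obtain ⟨m, e, he⟩ := Module.Finite.exists_fin (R := A') (M := A)
  choose k hk using fun i => hexp (e i)
  set c := Finset.univ.sup k with hc
  have hcA : ∀ a : A, ∃ a' : A', algebraMap A' A a' = F ^ c * a := by
    intro a
    have ha : a ∈ Submodule.span A' (Set.range e) := by rw [he]; trivial
    induction ha using Submodule.span_induction with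
    | mem x hx => obtain ⟨i, rfl⟩ := hx; exact hk i c (Finset.le_sup (Finset.mem_univ i))
    | zero => exact ⟨0, by simp⟩
    | add x y _ _ hx hy =>
      obtain ⟨a, ha⟩ := hx
      obtain ⟨b, hb⟩ := hy
      exact ⟨a + b, by rw [map_add, ha, hb, mul_add]⟩
    | smul r x _ hx =>
      obtain ⟨a, ha⟩ := hx
      exact ⟨r * a, by rw [map_mul, ha, Algebra.smul_def]; ring⟩
  refine ⟨2 * c + 1, Nat.succ_pos _, fun n hn B' _ g hg φ' hφ' => ?_⟩
  let R : A' → B' → Prop := fun a' b' =>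
    φ' (Ideal.Quotient.mk (Ideal.span {f ^ n}) a') = Ideal.Quotient.mk (Ideal.span {g ^ n}) b'
  have Radd : ∀ {a b a₁ b₁}, R a b → R a₁ b₁ → R (a + a₁) (b + b₁) := fun h h₁ => by
    simp only [R, map_add] at *; rw [h, h₁]
  have Rmul : ∀ {a b a₁ b₁}, R a b → R a₁ b₁ → R (a * a₁) (b * b₁) := fun h h₁ => by
    simp only [R, map_mul] at *; rw [h, h₁]
  have Rneg : ∀ {a b}, R a b → R (-a) (-b) := fun h => by simp only [R, map_neg] at *; rw [h]
  have Rpow : ∀ j : ℕ, R (f ^ j) (g ^ j) := fun j => by simp only [R, map_pow]; rw [hφ']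
  have Rlift : ∀ a, ∃ b, R a b := fun a => by
    obtain ⟨b, hb⟩ := Ideal.Quotient.mk_surjective (φ' (Ideal.Quotient.mk _ a)); exact ⟨b, hb.symm⟩
  have Rlift' : ∀ b, ∃ a, R a b := fun b => by
    obtain ⟨a, ha⟩ := Ideal.Quotient.mk_surjective (φ'.symm (Ideal.Quotient.mk _ b))
    exact ⟨a, by simp only [R]; rw [ha, φ'.apply_symm_apply]⟩
  have Runiq : ∀ {a a₁ b}, R a b → R a₁ b → ∃ w, a - a₁ = f ^ n * w := fun {a a₁ b} h h₁ => by
    have := φ'.injective (h.trans h₁.symm)
    rw [Ideal.Quotient.eq, Ideal.mem_span_singleton] at this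
    exact this
  have Runiq' : ∀ {a b b₁}, R a b → R a b₁ → ∃ w, b - b₁ = g ^ n * w := fun {a b b₁} h h₁ => by
    have h2 : Ideal.Quotient.mk (Ideal.span {g ^ n}) b = Ideal.Quotient.mk (Ideal.span {g ^ n}) b₁ := h.symm.trans h₁
    rw [Ideal.Quotient.eq, Ideal.mem_span_singleton] at h2
    exact h2
  let ι := algebraMap B' (Localization.Away g)
  have hι : Function.Injective ι := IsLocalization.injective _ (Submonoid.powers_le.2 hg)
  have hgu : IsUnit (ι g) := IsLocalization.Away.algebraMap_isUnit g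
  have hsolve : ∀ b : B', ∃ t : Localization.Away g, ι g ^ c * t = ι b := fun b =>
    ⟨↑((hgu.pow c).unit⁻¹) * ι b, by rw [← mul_assoc, IsUnit.mul_val_inv, one_mul]⟩
  let Rep : Localization.Away g → A → Prop := fun t a =>
    ∃ (a' : A') (b' : B'), algebraMap A' A a' = F ^ c * a ∧ R a' b' ∧ ι g ^ c * t = ι b'
  have hcan : ∀ j : ℕ, ∀ x y : A, F ^ j * x = F ^ j * y → x = y := fun j x y h =>
    mul_cancel_left_mem_nonZeroDivisors (pow_mem hf j) |>.1 h
  have hrepB : ∀ a₀ b₀, R a₀ b₀ → Rep (ι b₀) (algebraMap A' A a₀) := fun a₀ b₀ h =>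
    ⟨f ^ c * a₀, g ^ c * b₀, by rw [map_mul, map_pow], Rmul (Rpow c) h, by rw [map_mul, map_pow]⟩
  have hadd : ∀ {t a t₁ a₁}, Rep t a → Rep t₁ a₁ → Rep (t + t₁) (a + a₁) := by
    rintro t a t₁ a₁ ⟨a', b', h1, h2, h3⟩ ⟨a₁', b₁', k1, k2, k3⟩
    exact ⟨a' + a₁', b' + b₁', by rw [map_add, h1, k1, mul_add], Radd h2 k2, by rw [map_add, mul_add, h3, k3]⟩
  have hneg : ∀ {t a}, Rep t a → Rep (-t) (-a) := by
    rintro t a ⟨a', b', h1, h2, h3⟩
    exact ⟨-a', -b', by rw [map_neg, h1, mul_neg], Rneg h2, by rw [map_neg, mul_neg, h3]⟩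
  have hmul : ∀ {t a t₁ a₁}, Rep t a → Rep t₁ a₁ → ∃ d : A, Rep (t * t₁) (a * a₁ + F * d) := by
    rintro t a t₁ a₁ ⟨a', b', h1, h2, h3⟩ ⟨a₁', b₁', k1, k2, k3⟩
    obtain ⟨a₃, ha₃⟩ := hcA (a * a₁)
    obtain ⟨b₃, hb₃⟩ := Rlift a₃
    have hprod : f ^ c * a₃ = a' * a₁' := hinj (by
      rw [map_mul, map_mul, map_pow, h1, k1, ha₃]; ring)
    have h4 : R (a' * a₁') (g ^ c * b₃) := hprod ▸ Rmul (Rpow c) hb₃
    obtain ⟨z, hz⟩ := Runiq' (Rmul h2 k2) h4
    obtain ⟨w, hw⟩ := Rlift' z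
    refine ⟨F ^ (n - 2 * c - 1) * algebraMap A' A w, a₃ + f ^ (n - c) * w, b₃ + g ^ (n - c) * z,
      ?_, Radd hb₃ (Rmul (Rpow (n - c)) hw), ?_⟩
    · rw [map_add, ha₃, map_mul, map_pow, ← hF, mul_add]
      congr 1
      rw [show n - c = c + (1 + (n - 2 * c - 1)) by omega, pow_add, pow_add, pow_one]
      ring
    · apply (hgu.pow c).mul_left_cancel
      have h5 : b' * b₁' = g ^ c * (b₃ + g ^ (n - c) * z) := by
        rw [mul_add, ← mul_assoc, ← pow_add, Nat.add_sub_cancel' (by omega), ← hz]; ring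
      calc ι g ^ c * (ι g ^ c * (t * t₁)) = ι g ^ c * t * (ι g ^ c * t₁) := by ring
        _ = ι (b' * b₁') := by rw [h3, k3, map_mul]
        _ = ι g ^ c * ι (b₃ + g ^ (n - c) * z) := by rw [h5, map_mul, map_pow]
  have hone : Rep 1 1 := by
    have h := hrepB 1 1 (by simp [R])
    simpa using h
  let S : Subalgebra B' (Localization.Away g) :=
    { carrier := {t | ∃ a, Rep t a}
      mul_mem' := fun ⟨a, ha⟩ ⟨b, hb⟩ => by obtain ⟨d, hd⟩ := hmul ha hb; exact ⟨_, hd⟩
      add_mem' := fun ⟨a, ha⟩ ⟨b, hb⟩ => ⟨_, hadd ha hb⟩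
      algebraMap_mem' := fun b₀ => by obtain ⟨a₀, h⟩ := Rlift' b₀; exact ⟨_, hrepB a₀ b₀ h⟩ }
  have huniq : ∀ {t a a₁}, Rep t a → Rep t a₁ → F ∣ a - a₁ := by
    rintro t a a₁ ⟨a', b', h1, h2, h3⟩ ⟨a₁', b₁', k1, k2, k3⟩
    have hb : b' = b₁' := hι (h3.symm.trans k3)
    subst hb
    obtain ⟨w, hw⟩ := Runiq h2 k2
    refine ⟨F ^ (n - c - 1) * algebraMap A' A w, hcan c _ _ ?_⟩
    rw [mul_sub, ← h1, ← k1, ← map_sub, hw, map_mul, map_pow, ← hF, ← mul_assoc F, ← pow_succ', ← mul_assoc,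
      ← pow_add]
    congr 2
    omega
  let ψ₀ : S → A ⧸ Ideal.span {F} := fun t => Ideal.Quotient.mk _ t.2.choose
  have hψ₀ : ∀ (t : S) a, Rep t a → ψ₀ t = Ideal.Quotient.mk _ a := fun t a h =>
    Ideal.Quotient.eq.2 (Ideal.mem_span_singleton.2 (huniq t.2.choose_spec h))
  let ψ : S →+* A ⧸ Ideal.span {F} :=
    { toFun := ψ₀
      map_one' := (hψ₀ 1 1 hone).trans (map_one _)
      map_mul' := fun x y => by
        obtain ⟨d, hd⟩ := hmul x.2.choose_spec y.2.choose_spec
        rw [hψ₀ (x * y) _ hd, map_add, map_mul, map_mul,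
          Ideal.Quotient.eq_zero_iff_mem.2 (Ideal.mem_span_singleton_self F), zero_mul, add_zero]
      map_zero' := (hψ₀ 0 0 ⟨0, 0, by simp, by simp [R], by simp⟩).trans (map_zero _)
      map_add' := fun x y => by
        rw [hψ₀ (x + y) _ (hadd x.2.choose_spec y.2.choose_spec), map_add] }
  have hψsurj : Function.Surjective ψ := by
    intro q
    obtain ⟨a, rfl⟩ := Ideal.Quotient.mk_surjective q
    obtain ⟨a', ha'⟩ := hcA a
    obtain ⟨b', hb'⟩ := Rlift a'
    obtain ⟨t, ht⟩ := hsolve b'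
    exact ⟨⟨t, a, a', b', ha', hb', ht⟩, hψ₀ _ a ⟨a', b', ha', hb', ht⟩⟩
  have hψg : ψ (algebraMap B' S g) = 0 := by
    rw [show ψ (algebraMap B' S g) = Ideal.Quotient.mk _ (algebraMap A' A f) from
      hψ₀ _ _ (hrepB f g (by simpa using Rpow 1))]
    exact Ideal.Quotient.eq_zero_iff_mem.2 (Ideal.mem_span_singleton_self F)
  have hker : RingHom.ker ψ = Ideal.span {algebraMap B' S g} := by
    refine le_antisymm (fun t ht => ?_) ((Ideal.span_singleton_le_iff_mem _).2 hψg)
    obtain ⟨a, hrep⟩ := t.2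
    rw [RingHom.mem_ker, show ψ t = Ideal.Quotient.mk _ a from hψ₀ t a hrep, Ideal.Quotient.eq_zero_iff_mem,
      Ideal.mem_span_singleton] at ht
    obtain ⟨a₁, rfl⟩ := ht
    obtain ⟨a', b', h1, h2, h3⟩ := hrep
    obtain ⟨a₁', ha₁⟩ := hcA a₁
    obtain ⟨b₁, hb₁⟩ := Rlift a₁'
    have ha' : a' = f ^ 1 * a₁' := hinj (by rw [h1, map_mul, map_pow, ha₁, ← hF, pow_one]; ring)
    obtain ⟨z, hz⟩ := Runiq' h2 (ha' ▸ Rmul (Rpow 1) hb₁ : R a' (g ^ 1 * b₁))
    obtain ⟨w, hw⟩ := Rlift' z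
    obtain ⟨t₁, ht₁⟩ := hsolve (b₁ + g ^ (n - 1) * z)
    have hmem : Rep t₁ (a₁ + F ^ (n - 1 - c) * algebraMap A' A w) :=
      ⟨a₁' + f ^ (n - 1) * w, b₁ + g ^ (n - 1) * z, by
        rw [map_add, ha₁, map_mul, map_pow, ← hF, mul_add, ← mul_assoc, ← pow_add,
          show c + (n - 1 - c) = n - 1 by omega],
        Radd hb₁ (Rmul (Rpow (n - 1)) hw), ht₁⟩
    refine Ideal.mem_span_singleton.2 ⟨⟨t₁, _, hmem⟩, Subtype.ext ?_⟩
    show (t : Localization.Away g) = ι g * t₁
    apply (hgu.pow c).mul_left_cancel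
    rw [h3, mul_left_comm, ht₁, ← map_mul]
    congr 1
    rw [mul_add, ← mul_assoc, ← pow_succ', Nat.sub_add_cancel (by omega)]
    linear_combination hz
  refine ⟨S, inferInstance, inferInstance, fun x y h => hι (congrArg Subtype.val h), ?_, ?_⟩
  · choose a' ha' using fun i => hcA (e i)
    choose b' hb' using fun i => Rlift (a' i)
    choose t ht using fun i => hsolve (b' i)
    let t' : Fin m → S := fun i => ⟨t i, e i, a' i, b' i, ha' i, hb' i, ht i⟩
    refine ⟨⟨insert 1 (Finset.univ.image t'), ?_⟩⟩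
    rw [eq_top_iff]
    rintro x -
    obtain ⟨a, a₀, b₀, h1, h2, h3⟩ := x.2
    obtain ⟨lam, hlam⟩ := (Submodule.mem_span_range_iff_exists_fun A').1 (show a ∈ Submodule.span A' (Set.range e) by rw [he]; trivial)
    choose mu hmu using fun i => Rlift (lam i)
    have hsum : R (∑ i, lam i * a' i) (∑ i, mu i * b' i) := by
      have : ∀ s : Finset (Fin m), R (∑ i ∈ s, lam i * a' i) (∑ i ∈ s, mu i * b' i) := by
        intro s
        induction s using Finset.induction with
        | empty => simp [R]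
        | insert i s hi ih => rw [Finset.sum_insert hi, Finset.sum_insert hi]; exact Radd (Rmul (hmu i) (hb' i)) ih
      exact this _
    have ha0 : a₀ = ∑ i, lam i * a' i := hinj (by
      rw [h1, map_sum, ← hlam, Finset.mul_sum]
      refine Finset.sum_congr rfl fun i _ => ?_
      rw [map_mul, ha' i, Algebra.smul_def]; ring)
    obtain ⟨z, hz⟩ := Runiq' h2 (ha0 ▸ hsum : R a₀ (∑ i, mu i * b' i))
    have hx : x = (g ^ (n - c) * z) • (1 : S) + ∑ i, mu i • t' i := by
      apply Subtype.ext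
      show (x : Localization.Away g) = _
      simp only [AddMemClass.coe_add, AddSubmonoidClass.coe_finsetSum, Algebra.smul_def, Subalgebra.coe_mul,
        OneMemClass.coe_one, mul_one, Subalgebra.coe_algebraMap, t']
      apply (hgu.pow c).mul_left_cancel
      rw [h3, mul_add, Finset.mul_sum]
      have : ∀ i, ι g ^ c * (algebraMap B' (Localization.Away g) (mu i) * t i) = ι (mu i * b' i) := fun i => by
        rw [map_mul, ← ht i]; ring
      rw [Finset.sum_congr rfl (fun i _ => this i), ← map_sum, ← map_pow, ← map_mul, ← map_add]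
      congr 1
      rw [← mul_assoc, ← pow_add, Nat.add_sub_cancel' (by omega)]
      linear_combination hz
    rw [hx, Finset.coe_insert, Finset.coe_image, Finset.coe_univ, Set.image_univ]
    refine add_mem (Submodule.smul_mem _ _ (Submodule.subset_span (Set.mem_insert _ _)))
      (Submodule.sum_mem _ fun i _ => Submodule.smul_mem _ _ (Submodule.subset_span (Set.mem_insert_of_mem _ ⟨i, rfl⟩)))
  · let e₁ : (S ⧸ Ideal.span {algebraMap B' S g}) ≃+* A ⧸ Ideal.span {F} :=
      (Ideal.quotEquivOfEq hker.symm).trans (RingHom.quotientKerEquivOfSurjective hψsurj)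
    refine ⟨e₁.symm, fun a₀ b₀ h => ?_⟩
    rw [RingEquiv.symm_apply_eq]
    show _ = ψ (algebraMap B' S b₀)
    exact (hψ₀ _ _ (hrepB a₀ b₀ h)).symm

end Groth.Agent.S7152
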