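import Groth.Statements.S7153
import Mathlib.Tactic
import Mathlib.RingTheory.Filtration
-- import your own Groth.Agent.* helpers here

set_option autoImplicit false
universe u
open CAlg

namespace Groth.Agent.S7153

/-- Let A be a Noetherian ring, I an ideal and K → L → M a complex of finite A-modules with maps α, β
and homology H = Ker β / Im α; for n ≥ 0 let H_n be the homology of the induced complex K/IⁿK →
L/IⁿL → M/IⁿM, which is β⁻¹(IⁿM)/(Im α + IⁿL). Then there is c > 0 such that for every n: (i) the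
image of H_(n+c) → H_n is contained in, hence equal to, the image of H → H_n; (ii) the kernel and
the cokernel of H/IⁿH → H_n are annihilated by I^c. Everything is phrased with representatives in L. -/
theorem result (A : Type u) [CommRing A] [IsNoetherianRing A] (I : Ideal A)
    (K L M : Type u) [AddCommGroup K] [Module A K] [Module.Finite A K] [AddCommGroup L] [Module A L]
    [Module.Finite A L] [AddCommGroup M] [Module A M] [Module.Finite A M]
    (α : K →ₗ[A] L) (β : L →ₗ[A] M) (hαβ : β ∘ₗ α = 0) :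
    ∃ c : ℕ, 0 < c ∧ ∀ n : ℕ,
      (∀ y ∈ (I ^ (n + c) • ⊤ : Submodule A M).comap β,
        ∃ z ∈ LinearMap.ker β, y - z ∈ LinearMap.range α ⊔ (I ^ n • ⊤ : Submodule A L)) ∧
      (∀ z ∈ LinearMap.ker β, z ∈ LinearMap.range α ⊔ (I ^ n • ⊤ : Submodule A L) →
        ∀ a ∈ I ^ c, a • z ∈ LinearMap.range α ⊔ I ^ n • LinearMap.ker β) ∧
      (∀ y ∈ (I ^ n • ⊤ : Submodule A M).comap β, ∀ a ∈ I ^ c,
        ∃ z ∈ LinearMap.ker β, a • y - z ∈ LinearMap.range α ⊔ (I ^ n • ⊤ : Submodule A L)) := by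
  have ar : ∀ {X : Type u} [AddCommGroup X] [Module A X] [Module.Finite A X] (N : Submodule A X),
      ∃ k, ∀ n m, k + n ≤ m → I ^ m • ⊤ ⊓ N ≤ I ^ n • N := by
    intro X _ _ _ N
    obtain ⟨k, hk⟩ := Ideal.exists_pow_inf_eq_pow_smul I N
    refine ⟨k, fun n m hm => ?_⟩
    rw [hk m (by omega)]
    exact Submodule.smul_mono (Ideal.pow_le_pow_right (by omega)) inf_le_right
  obtain ⟨c₁, h₁⟩ := ar (LinearMap.ker β)
  obtain ⟨c₂, h₂⟩ := ar (LinearMap.range β)
  refine ⟨c₁ + c₂ + 1, by omega, fun n => ?_⟩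
  have lift : ∀ y : L, β y ∈ (I ^ (n + (c₁ + c₂ + 1)) • ⊤ : Submodule A M) →
      ∃ z ∈ LinearMap.ker β, y - z ∈ LinearMap.range α ⊔ (I ^ n • ⊤ : Submodule A L) := by
    intro y hy
    have := h₂ n _ (by omega) ⟨hy, LinearMap.mem_range_self β y⟩
    rw [LinearMap.range_eq_map, ← Submodule.map_smul''] at this
    obtain ⟨w, hw, hwy⟩ := this
    refine ⟨y - w, by simp [hwy], ?_⟩
    rw [sub_sub_cancel]
    exact Submodule.mem_sup_right hw
  refine ⟨fun y hy => lift y hy, ?_, ?_⟩
  · intro z hz hz' a ha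
    obtain ⟨u, hu, w, hw, rfl⟩ := Submodule.mem_sup.mp hz'
    rw [smul_add]
    refine Submodule.add_mem_sup (Submodule.smul_mem _ a hu) ?_
    obtain ⟨x, rfl⟩ := hu
    have hwk : w ∈ LinearMap.ker β := by
      rw [LinearMap.mem_ker] at hz ⊢
      rw [map_add] at hz
      have : β (α x) = 0 := LinearMap.congr_fun hαβ x
      rwa [this, zero_add] at hz
    refine h₁ n (c₁ + c₂ + 1 + n) (by omega) ⟨?_, Submodule.smul_mem _ a hwk⟩
    rw [pow_add, ← smul_eq_mul, Submodule.smul_assoc]
    exact Submodule.smul_mem_smul ha hw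
  · intro y hy a ha
    apply lift
    rw [map_smul, add_comm, pow_add, ← smul_eq_mul, Submodule.smul_assoc]
    exact Submodule.smul_mem_smul ha hy

end Groth.Agent.S7153
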