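import Groth.Statements.S7157
import Mathlib
-- import your own Groth.Agent.* helpers here

set_option autoImplicit false
universe u
open EtAlg

namespace Groth.Agent.S7157

open Polynomial

variable {A K L : Type u} [CommRing A] [IsDomain A] [IsDiscreteValuationRing A] [Field K] [Algebra A K] [IsFractionRing A K]
  [Field L] [Algebra A L] [Algebra K L] [IsScalarTower A K L]

/-- the valuation of `∑ cᵢ xⁱ` when `xᵠ` is a uniformizer up to a unit. -/
theorem coeff_mem (π : A) (hπ : Irreducible π) (q : ℕ) (hq : 0 < q) (x : L) (u : L) (hxu : x ^ q = algebraMap A L π * u)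
    (V : ValuationSubring L) (hdom : EtRam.Dominates A (algebraMap A L) V) (hu : V.valuation u = 1)
    (c : Fin q → K) (hz : V.valuation (∑ i : Fin q, algebraMap K L (c i) * x ^ (i : ℕ)) ≤ 1) :
    ∀ i, ∃ a : A, algebraMap A K a = c i := by
  classical
  set v := V.valuation
  have hinjL : Function.Injective (algebraMap A L) := by
    rw [IsScalarTower.algebraMap_eq A K L]; exact (algebraMap K L).injective.comp (IsFractionRing.injective A K)
  have hπlt : v (algebraMap A L π) < 1 := hdom.2 π (by rw [hπ.maximalIdeal_eq]; exact Ideal.mem_span_singleton_self π)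
  have hπ0 : v (algebraMap A L π) ≠ 0 := v.ne_zero_iff.2 fun h => hπ.ne_zero (hinjL (by rw [h, map_zero]))
  have hxq : v x ^ q = v (algebraMap A L π) := by rw [← map_pow, hxu, map_mul, hu, mul_one]
  have hx0 : v x ≠ 0 := fun h => hπ0 (by rw [← hxq, h, zero_pow hq.ne'])
  have hxlt : v x < 1 := by
    by_contra h
    exact absurd (one_le_pow₀ (not_lt.1 h) (n := q)) (not_le.2 (hxq.symm ▸ hπlt))
  have hval : ∀ i, c i ≠ 0 → ∃ m : ℤ, v (algebraMap K L (c i) * x ^ (i : ℕ)) = v x ^ (m * q + (i : ℕ)) ∧
      (0 ≤ m → ∃ a : A, algebraMap A K a = c i) := by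
    intro i hi
    obtain ⟨a, b, hb, hab⟩ := IsFractionRing.div_surjective (A := A) (c i)
    have hb0 : b ≠ 0 := nonZeroDivisors.ne_zero hb
    have ha0 : a ≠ 0 := fun e => hi (by rw [← hab, e, map_zero, zero_div])
    obtain ⟨s, ua, rfl⟩ := IsDiscreteValuationRing.eq_unit_mul_pow_irreducible ha0 hπ
    obtain ⟨t, ub, rfl⟩ := IsDiscreteValuationRing.eq_unit_mul_pow_irreducible hb0 hπ
    have hun : ∀ w : Aˣ, v (algebraMap A L w) = 1 := fun w => by
      refine le_antisymm ((V.valuation_le_one_iff _).2 (hdom.1 _)) ?_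
      have h1 : v (algebraMap A L w) * v (algebraMap A L ↑(w⁻¹)) = 1 := by
        rw [← map_mul, ← map_mul, Units.mul_inv, map_one, map_one]
      calc (1 : _) = v (algebraMap A L w) * v (algebraMap A L ↑(w⁻¹)) := h1.symm
        _ ≤ v (algebraMap A L w) * 1 := mul_le_mul' le_rfl ((V.valuation_le_one_iff _).2 (hdom.1 _))
        _ = _ := mul_one _
    refine ⟨(s : ℤ) - t, ?_, fun hst => ⟨ua * ↑(ub⁻¹) * π ^ (s - t), ?_⟩⟩
    · rw [← hab, map_div₀, ← IsScalarTower.algebraMap_apply, ← IsScalarTower.algebraMap_apply]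
      simp only [map_mul, map_div₀, map_pow, hun, one_mul]
      rw [← hxq, zpow_add₀ hx0, zpow_natCast, sub_mul, zpow_sub₀ hx0, ← Nat.cast_mul, ← Nat.cast_mul, zpow_natCast,
        zpow_natCast, ← pow_mul, ← pow_mul, mul_comm s q, mul_comm t q]
    · rw [← hab, eq_div_iff (IsFractionRing.to_map_ne_zero_of_mem_nonZeroDivisors hb), ← map_mul]
      congr 1
      calc (ua : A) * ↑(ub⁻¹) * π ^ (s - t) * (↑ub * π ^ t) = ua * (↑(ub⁻¹) * ↑ub) * (π ^ (s - t) * π ^ t) := by ring
        _ = ua * π ^ s := by rw [Units.inv_mul, mul_one, ← pow_add, Nat.sub_add_cancel (by omega)]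
  intro i
  by_cases hi : c i = 0
  · exact ⟨0, by rw [hi, map_zero]⟩
  choose! m hm hm' using hval
  refine hm' i hi (not_lt.1 fun hneg => ?_)
  obtain ⟨j, hj, hjmin⟩ := (Finset.univ.filter fun l => c l ≠ 0).exists_min_image (fun l => m l * q + (l : ℕ))
    ⟨i, by simpa using hi⟩
  rw [Finset.mem_filter] at hj
  have hjneg : m j * q + (j : ℕ) < 0 := by
    refine lt_of_le_of_lt (hjmin i (by simpa using hi)) ?_
    have := i.2
    nlinarith
  have hmax := v.map_sum_eq_of_lt (s := Finset.univ) (f := fun l : Fin q => algebraMap K L (c l) * x ^ (l : ℕ))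
    (j := j) (Finset.mem_univ j) fun l hl => by
    have hlj : l ≠ j := by simpa using hl
    rw [hm j hj.2]
    by_cases hl0 : c l = 0
    · rw [hl0, map_zero, zero_mul, map_zero]; exact zero_lt_iff.2 (zpow_ne_zero _ hx0)
    rw [hm l hl0]
    have hne : m l * q + (l : ℕ) ≠ m j * q + (j : ℕ) := fun e => hlj (Fin.ext (by
      have := congrArg (· % (q : ℤ)) e
      simp only [Int.add_emod, Int.mul_emod_left, zero_add, Int.emod_emod] at this
      rw [Int.emod_eq_of_lt (by omega) (by exact_mod_cast l.2), Int.emod_eq_of_lt (by omega) (by exact_mod_cast j.2)] at this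
      exact_mod_cast this))
    exact zpow_lt_zpow_right_of_lt_one₀ (zero_lt_iff.2 hx0) hxlt
      (lt_of_le_of_ne (hjmin l (by simpa using hl0)) (Ne.symm hne))
  rw [hmax, hm j hj.2] at hz
  exact absurd hz (not_le.2 (one_lt_zpow_of_neg₀ (zero_lt_iff.2 hx0) hxlt hjneg))


/-- Let A be a discrete valuation ring, π a uniformizer, K its field of fractions, and suppose the
residue field of A has characteristic p > 0. For every n > 1 and every power q of p there is a
separable degree-q extension L/K that is totally ramified with respect to A and whose ring of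
integers B (the integral closure of A in L) contains elements π_B, b, b' with π_B^q = π + πⁿ·b and
π_B^q = π + π_B^(nq)·b' (π_B is then a uniformizer of B and the ramification index is q). -/
theorem result (p : ℕ) (hp : p.Prime) (A K : Type u)
    [CommRing A] [IsDomain A] [IsDiscreteValuationRing A] [Field K] [Algebra A K] [IsFractionRing A K]
    [CharP (IsLocalRing.ResidueField A) p] (π : A) (hπ : IsLocalRing.maximalIdeal A = Ideal.span {π})
    (n : ℕ) (hn : 1 < n) (k : ℕ) :
    ∃ (L : Type u) (_ : Field L) (_ : Algebra K L) (_ : Algebra A L) (_ : IsScalarTower A K L),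
      Module.finrank K L = p ^ k ∧ Algebra.IsSeparable K L ∧ EtRam.IsTotallyRamified A (algebraMap A L) ∧
      ∃ πB b b' : L, πB ∈ integralClosure A L ∧ b ∈ integralClosure A L ∧ b' ∈ integralClosure A L ∧
        πB ^ (p ^ k) = algebraMap A L π + algebraMap A L π ^ n * b ∧
        πB ^ (p ^ k) = algebraMap A L π + πB ^ (n * p ^ k) * b' := by
  classical
  have hπi : Irreducible π := (IsDiscreteValuationRing.irreducible_iff_uniformizer π).2 hπ
  set q := p ^ k with hq
  have hq0 : 0 < q := pow_pos hp.pos k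
  set e := 1 % q
  have heq : e < q := Nat.mod_lt 1 hq0
  set P : A[X] := X ^ q + (C (π ^ n) * X ^ e - C π)
  have hlow : (C (π ^ n) * X ^ e - C π : A[X]).degree < q := lt_of_le_of_lt (degree_sub_le _ _)
    (max_lt (lt_of_le_of_lt (degree_C_mul_X_pow_le _ _) (WithBot.coe_lt_coe.2 heq))
      (lt_of_le_of_lt degree_C_le (WithBot.coe_lt_coe.2 hq0)))
  have hPm : P.Monic := monic_X_pow_add hlow
  have hPd : P.natDegree = q := natDegree_eq_of_degree_eq_some (by
    rw [degree_add_eq_left_of_degree_lt (by rw [degree_X_pow]; exact hlow), degree_X_pow])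
  have hEis : P.IsEisensteinAt (IsLocalRing.maximalIdeal A) := by
    refine ⟨by rw [hPm.leadingCoeff, hπ, Ideal.mem_span_singleton]; exact fun h => hπi.not_isUnit (isUnit_of_dvd_one h),
      fun {i} hi => ?_, ?_⟩
    · rw [hPd] at hi
      rw [hπ, Ideal.mem_span_singleton]
      simp only [P, coeff_add, coeff_sub, coeff_X_pow, coeff_C_mul, coeff_C, hi.ne, if_false, zero_add]
      refine dvd_sub (Dvd.dvd.mul_right (dvd_pow_self π (by omega)) _) ?_
      split_ifs <;> simp
    · rw [hπ, Ideal.span_singleton_pow, Ideal.mem_span_singleton]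
      simp only [P, coeff_add, coeff_sub, coeff_X_pow, coeff_C_mul, coeff_C, hq0.ne, if_false, zero_add, if_true]
      intro h
      have h' : π ^ 2 ∣ π := by
        have h2 : π ^ 2 ∣ π ^ n * (if 0 = e then 1 else 0) := Dvd.dvd.mul_right (pow_dvd_pow π (by omega)) _
        simpa using dvd_sub h2 h
      obtain ⟨c, hc⟩ := h'
      exact hπi.not_isUnit (IsUnit.of_mul_eq_one c (mul_left_cancel₀ hπi.ne_zero (by linear_combination -hc)))
  have hirr := hEis.irreducible (IsLocalRing.maximalIdeal.isMaximal A).isPrime hPm.isPrimitive (by rw [hPd]; exact hq0)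
  set PK := P.map (algebraMap A K) with hPK
  have hirrK : Irreducible PK := (Monic.irreducible_iff_irreducible_map_fraction_map hPm).1 hirr
  haveI : Fact (Irreducible PK) := ⟨hirrK⟩
  have hPKm : PK.Monic := hPm.map _
  have hPKd : PK.natDegree = q := by rw [hPK, hPm.natDegree_map, hPd]
  let L := AdjoinRoot PK
  let x : L := AdjoinRoot.root PK
  let pb := AdjoinRoot.powerBasis hPKm.ne_zero
  have hinjK : Function.Injective (algebraMap A K) := IsFractionRing.injective A K
  haveI : Module.IsTorsionFree A L := Module.isTorsionFree_iff_algebraMap_injective.2 (by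
    rw [IsScalarTower.algebraMap_eq A K L]; exact (algebraMap K L).injective.comp hinjK)
  have hrel : x ^ q = algebraMap A L π * (1 - algebraMap A L π ^ (n - 1) * x ^ e) := by
    have h := AdjoinRoot.eval₂_root PK
    rw [← AdjoinRoot.algebraMap_eq, ← Polynomial.aeval_def, hPK, Polynomial.aeval_map_algebraMap] at h
    simp only [P, map_add, map_sub, map_mul, map_pow, aeval_X, aeval_C] at h
    have hn' : algebraMap A L π ^ n = algebraMap A L π * algebraMap A L π ^ (n - 1) := by
      rw [← pow_succ', Nat.sub_add_cancel (by omega : 1 ≤ n)]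
    linear_combination h + (-(x ^ e)) * hn'
  have hxint : IsIntegral A x := ⟨P, hPm, by
    rw [← Polynomial.aeval_def, ← Polynomial.aeval_map_algebraMap K, ← hPK]
    exact (Polynomial.aeval_def _ _).trans (AdjoinRoot.eval₂_root PK)⟩
  have hsep : PK.Separable := by
    refine (separable_iff_derivative_ne_zero hirrK).2 fun h => ?_
    have h0 := congrArg (fun f => coeff f 0) h
    rw [hPK, derivative_map] at h0
    simp only [coeff_map, coeff_zero] at h0
    rw [map_eq_zero_iff _ hinjK, coeff_derivative] at h0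
    simp only [P, coeff_add, coeff_sub, coeff_X_pow, coeff_C_mul, coeff_C, Nat.cast_zero, zero_add, mul_one, one_ne_zero, if_false, sub_zero] at h0
    rcases eq_or_ne q 1 with h1 | h1
    · rw [if_pos h1.symm, if_neg (show ¬ 1 = e by omega), mul_zero, add_zero] at h0
      exact one_ne_zero h0
    · rw [if_neg h1.symm, if_pos (show 1 = e from (Nat.mod_eq_of_lt (by omega)).symm), mul_one, zero_add] at h0
      exact pow_ne_zero n hπi.ne_zero h0
  haveI : Algebra.IsSeparable K L := by
    have hx : IsSeparable K x := by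
      unfold IsSeparable
      rw [AdjoinRoot.minpoly_root hPKm.ne_zero, hPKm.leadingCoeff, inv_one, C_1, mul_one]
      exact hsep
    haveI := (IntermediateField.isSeparable_adjoin_simple_iff_isSeparable K L).2 hx
    have htop : IntermediateField.adjoin K ({x} : Set L) = ⊤ := top_le_iff.1 fun z _ =>
      (IntermediateField.algebra_adjoin_le_adjoin K _) (by rw [AdjoinRoot.adjoinRoot_eq_top]; exact Algebra.mem_top)
    exact AlgEquiv.Algebra.isSeparable ((IntermediateField.equivOfEq htop).trans IntermediateField.topEquiv)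
  haveI := hPKm.finite_adjoinRoot
  have hfr : Module.finrank K L = q := by rw [pb.finrank, AdjoinRoot.powerBasis_dim, hPKd]
  have hrep : ∀ z : L, ∃ c : Fin q → K, z = ∑ i : Fin q, algebraMap K L (c i) * x ^ (i : ℕ) := by
    intro z
    obtain ⟨f, hfd, rfl⟩ := pb.exists_eq_aeval z
    rw [AdjoinRoot.powerBasis_dim, hPKd] at hfd
    refine ⟨fun i => f.coeff i, ?_⟩
    rw [AdjoinRoot.powerBasis_gen, aeval_eq_sum_range' hfd, Finset.sum_range]
    simp only [Algebra.smul_def, x]
    rfl
  have hmemV : ∀ (V : ValuationSubring L), EtRam.Dominates A (algebraMap A L) V → x ∈ V := fun V hV => by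
    have hint : IsIntegral V x := by
      obtain ⟨Q, hQm, hQ⟩ := hxint
      refine ⟨Q.map ((algebraMap A L).codRestrict V hV.1), hQm.map _, ?_⟩
      rw [eval₂_map]; exact hQ
    obtain ⟨y, hy⟩ := IsIntegrallyClosed.isIntegral_iff.1 hint
    exact hy ▸ y.2
  have hval1 : ∀ (V : ValuationSubring L), EtRam.Dominates A (algebraMap A L) V →
      V.valuation (1 - algebraMap A L π ^ (n - 1) * x ^ e) = 1 := fun V hV => by
    refine V.valuation.map_one_sub_of_lt ?_
    rw [map_mul, map_pow, map_pow]
    refine lt_of_le_of_lt (mul_le_of_le_one_right' (pow_le_one' ((V.valuation_le_one_iff _).2 (hmemV V hV)) e)) ?_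
    exact pow_lt_one₀ zero_le (hV.2 π (by rw [hπ]; exact Ideal.mem_span_singleton_self π)) (by omega)
  have hV_iff : ∀ (V : ValuationSubring L), EtRam.Dominates A (algebraMap A L) V → ∀ z,
      z ∈ V ↔ ∃ c : Fin q → A, z = ∑ i : Fin q, algebraMap A L (c i) * x ^ (i : ℕ) := fun V hV z => by
    constructor
    · intro hz
      obtain ⟨c, hc⟩ := hrep z
      choose a ha using coeff_mem π hπi q hq0 x _ hrel V hV (hval1 V hV) c (by rw [← hc]; exact (V.valuation_le_one_iff _).2 hz)
      exact ⟨a, by rw [hc]; simp [IsScalarTower.algebraMap_apply A K L, ha]⟩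
    · rintro ⟨c, rfl⟩
      exact sum_mem fun i _ => mul_mem (hV.1 _) (pow_mem (hmemV V hV) _)
  obtain ⟨V₀, hV₀, hloc⟩ := IsLocalRing.exists_factor_valuationRing (algebraMap A L)
  have hdom₀ : EtRam.Dominates A (algebraMap A L) V₀ := ⟨hV₀, fun a ha => by
    refine lt_of_le_of_ne ((V₀.valuation_le_one_iff _).2 (hV₀ a)) fun h => ?_
    have hu : IsUnit (⟨algebraMap A L a, hV₀ a⟩ : V₀) := (V₀.valuation_eq_one_iff ⟨_, hV₀ a⟩).2 h
    exact (IsLocalRing.mem_maximalIdeal a).1 ha (hloc.map_nonunit a hu)⟩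
  have hintV : ∀ z, z ∈ V₀ → z ∈ integralClosure A L := fun z hz => by
    obtain ⟨c, rfl⟩ := (hV_iff V₀ hdom₀ z).1 hz
    exact sum_mem fun i _ => mul_mem (Subalgebra.algebraMap_mem _ _) (pow_mem hxint _)
  refine ⟨L, inferInstance, inferInstance, inferInstance, inferInstance, hfr, inferInstance, ⟨⟨V₀, hdom₀⟩, ?_, ?_⟩, ?_⟩
  · intro V V' hV hV'
    ext z
    rw [hV_iff V hV, hV_iff V' hV']
  · intro V hV y
    obtain ⟨z, rfl⟩ := IsLocalRing.residue_surjective y
    obtain ⟨c, hc⟩ := (hV_iff V hV z).1 z.2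
    refine ⟨c ⟨0, hq0⟩, ?_⟩
    rw [← sub_eq_zero, ← map_sub, IsLocalRing.residue_eq_zero_iff, ValuationSubring.valuation_lt_one_iff]
    show V.valuation (algebraMap A L (c ⟨0, hq0⟩) - (z : L)) < 1
    rw [hc, ← Finset.add_sum_erase _ _ (Finset.mem_univ (⟨0, hq0⟩ : Fin q)), pow_zero, mul_one, sub_add_cancel_left,
      Valuation.map_neg]
    refine V.valuation.map_sum_lt one_ne_zero fun i hi => ?_
    rw [map_mul, map_pow]
    refine lt_of_le_of_lt (mul_le_of_le_one_left' ((V.valuation_le_one_iff _).2 (hV.1 _))) ?_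
    have hi0 : (i : ℕ) ≠ 0 := fun h => (Finset.ne_of_mem_erase hi) (Fin.ext h)
    refine pow_lt_one₀ zero_le ?_ hi0
    by_contra hge
    have := congrArg V.valuation hrel
    rw [map_mul, hval1 V hV, mul_one, map_pow] at this
    exact absurd (one_le_pow₀ (not_lt.1 hge) (n := q)) (not_le.2 (this.symm ▸ hV.2 π (by rw [hπ]; exact Ideal.mem_span_singleton_self π)))
  · set u := 1 - algebraMap A L π ^ (n - 1) * x ^ e
    have hu1 := hval1 V₀ hdom₀
    have hu0 : u ≠ 0 := fun h => by rw [h, map_zero] at hu1; exact zero_ne_one hu1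
    have hw : u⁻¹ ∈ integralClosure A L := hintV _ ((V₀.valuation_le_one_iff _).1 (by rw [map_inv₀, hu1, inv_one]))
    refine ⟨x, -(x ^ e), -(x ^ e * u⁻¹ ^ n), hxint, neg_mem (pow_mem hxint _), neg_mem (mul_mem (pow_mem hxint _) (pow_mem hw _)), ?_, ?_⟩
    · have hn' : algebraMap A L π ^ n = algebraMap A L π * algebraMap A L π ^ (n - 1) := by
        rw [← pow_succ', Nat.sub_add_cancel (by omega : 1 ≤ n)]
      rw [hrel, hn']; ring
    · have hn' : algebraMap A L π ^ n = algebraMap A L π * algebraMap A L π ^ (n - 1) := by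
        rw [← pow_succ', Nat.sub_add_cancel (by omega : 1 ≤ n)]
      have hun : u ^ n * u⁻¹ ^ n = 1 := by rw [← mul_pow, mul_inv_cancel₀ hu0, one_pow]
      rw [mul_comm n q, pow_mul, hrel, mul_pow]
      linear_combination (algebraMap A L π ^ n * x ^ e) * hun + x ^ e * hn'

end Groth.Agent.S7157
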