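import Groth.Statements.S7160
import Mathlib

set_option autoImplicit false
universe u
open CategoryTheory CategoryTheory.Pretriangulated
attribute [local instance] HasDerivedCategory.standard
open CAlg

namespace Groth.Agent.S7160

/-- Let R be a ring, f an element of R, M an object of D(R) and C the cone of f : M → M. Suppose that
H^i(M)_f = 0 whenever i < 0 (every element of H^i(M) is killed by a power of f) and that H^i(C) = 0
whenever i < -1. Then H^i(M) vanishes for every i < 0. -/
theorem result (R : Type u) [CommRing R] (f : R) (M C : Dual.D R)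
    (g : M ⟶ C) (h : C ⟶ M⟦(1 : ℤ)⟧) (hT : Triangle.mk (f • 𝟙 M) g h ∈ distinguishedTriangles)
    (hloc : ∀ i : ℤ, i < 0 → ∀ x : Dual.HD R M i, ∃ n : ℕ, f ^ n • x = 0)
    (hC : ∀ i : ℤ, i < -1 → Subsingleton (Dual.HD R C i)) :
    ∀ i : ℤ, i < 0 → Subsingleton (Dual.HD R M i) := by
  intro i hi
  have hsub := hC (i - 1) (by omega)
  have hex := DerivedCategory.HomologySequence.exact₁ _ hT (i - 1) i (by omega)
  have hz : DerivedCategory.HomologySequence.δ (Triangle.mk (f • 𝟙 M) g h) (i - 1) i (by omega) = 0 :=
    (@ModuleCat.isZero_of_subsingleton.{u} R _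
      ((DerivedCategory.homologyFunctor (ModuleCat.{u} R) (i - 1)).obj C) hsub).eq_of_src _ _
  have hmono : Mono ((DerivedCategory.homologyFunctor (ModuleCat.{u} R) i).map (f • 𝟙 M)) :=
    (DerivedCategory.HomologySequence.mono_homologyMap_mor₁_iff _ hT (i - 1) i (by omega)).2 hz
  have hmap : (DerivedCategory.homologyFunctor (ModuleCat.{u} R) i).map (f • 𝟙 M) = f • 𝟙 _ := by
    let e := DerivedCategory.Q.objObjPreimageIso M
    let K := DerivedCategory.Q.objPreimage M
    have hM : f • 𝟙 M = e.inv ≫ DerivedCategory.Q.map (f • 𝟙 K) ≫ e.hom := by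
      rw [Functor.map_smul, CategoryTheory.Functor.map_id]; simp
    have hK : HomologicalComplex.homologyMap (f • 𝟙 K) i = f • 𝟙 _ := by
      have h1 : (HomologicalComplex.shortComplexFunctor (ModuleCat.{u} R) (ComplexShape.up ℤ) i).map
          (f • 𝟙 K) = f • 𝟙 _ := rfl
      show ShortComplex.homologyMap ((HomologicalComplex.shortComplexFunctor (ModuleCat.{u} R)
        (ComplexShape.up ℤ) i).map (f • 𝟙 K)) = _
      rw [h1, ShortComplex.homologyMap_smul, ShortComplex.homologyMap_id]; rfl
    have hnat := (DerivedCategory.homologyFunctorFactors (ModuleCat.{u} R) i).hom.naturality (f • 𝟙 K)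
    dsimp at hnat
    rw [show (HomologicalComplex.homologyFunctor (ModuleCat.{u} R) (ComplexShape.up ℤ) i).map
      (f • 𝟙 K) = _ from hK] at hnat
    have hQ : (DerivedCategory.homologyFunctor (ModuleCat.{u} R) i).map
        (DerivedCategory.Q.map (f • 𝟙 K)) = f • 𝟙 _ := by
      rw [← cancel_mono ((DerivedCategory.homologyFunctorFactors (ModuleCat.{u} R) i).app K).hom]
      refine hnat.trans ?_
      simp only [Linear.comp_smul, Linear.smul_comp, Category.comp_id, Category.id_comp]
      rfl
    rw [hM, Functor.map_comp, Functor.map_comp, hQ, Linear.smul_comp, Category.id_comp,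
      Linear.comp_smul, ← Functor.map_comp, e.inv_hom_id, CategoryTheory.Functor.map_id]
  have hinj : Function.Injective fun x : Dual.HD R M i => f • x := by
    have := (ModuleCat.mono_iff_injective _).1 hmono
    rw [hmap] at this
    exact this
  refine ⟨fun a b => ?_⟩
  have : ∀ x : Dual.HD R M i, x = 0 := by
    intro x
    obtain ⟨n, hn⟩ := hloc i hi x
    induction n generalizing x with
    | zero => simpa using hn
    | succ n ih =>
      apply hinj
      show f • x = f • 0
      rw [smul_zero]
      exact ih (f • x) (by rw [smul_smul, ← pow_succ]; exact hn)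
  rw [this a, this b]

end Groth.Agent.S7160
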