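import Groth.Statements.S7177
import Groth.Agent.EtAlgLib.Weakly
import Mathlib

set_option autoImplicit false
set_option linter.style.haveILetI false
universe u
open FlatMor

namespace Groth.Agent.S7177

open AlgebraicGeometry CategoryTheory Limits in
/-- Let f : X → Y have flat diagonal and let F be an O_X-module flat over Y. Then F is flat as an
O_X-module. -/
theorem result {X Y : Scheme.{u}} (f : X ⟶ Y) [Flat (pullback.diagonal f)] (F : X.Modules)
    (hF : FlatMod.IsFlatOver f F) : FlatMod.IsFlat F := by
  intro x
  letI := (f.stalkMap x).hom.toAlgebra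
  letI := FlatMod.moduleStalkOver f F x
  haveI : Module.Flat (Y.presheaf.stalk (f x)) (F.presheaf.stalk x) := hF x
  haveI : IsScalarTower (Y.presheaf.stalk (f x)) (X.presheaf.stalk x) (F.presheaf.stalk x) :=
    ⟨fun a b m => mul_smul ((f.stalkMap x).hom a) b m⟩
  let φ := CommRingCat.ofHom (algebraMap (Y.presheaf.stalk (f x)) (X.presheaf.stalk x))
  have hd : MorphismProperty.diagonal @Flat (Spec.map φ ≫ Y.fromSpecStalk (f x)) := by
    have h1 : MorphismProperty.diagonal @Flat (X.fromSpecStalk x) := by
      show Flat _
      infer_instance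
    rw [show Spec.map φ ≫ Y.fromSpecStalk (f x) = X.fromSpecStalk x ≫ f from
      Scheme.SpecMap_stalkMap_fromSpecStalk f]
    exact MorphismProperty.comp_mem _ _ _ h1 ‹Flat (pullback.diagonal f)›
  have hd' : Flat (pullback.diagonal (Spec.map φ)) := by
    have h2 : Flat _ := hd
    rw [pullback.diagonal_comp] at h2
    exact (MorphismProperty.cancel_right_of_respectsIso @Flat _ _).1 h2
  rw [show φ = CommRingCat.ofHom (algebraMap _ _) from rfl,
    diagonal_SpecMap (Y.presheaf.stalk (f x)) (X.presheaf.stalk x),
    MorphismProperty.cancel_right_of_respectsIso @Flat, HasRingHomProperty.Spec_iff (P := @Flat)] at hd'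
  exact Groth.Agent.EtAlgLib.flat_of_flat_lmul (Y.presheaf.stalk (f x)) hd' (F.presheaf.stalk x)

end Groth.Agent.S7177
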