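import Groth.Statements.S7178
import Groth.Agent.S1412

set_option autoImplicit false
set_option linter.style.haveILetI false
universe u
open FlatMor

namespace Groth.Agent.S7178

open AlgebraicGeometry CategoryTheory Limits in
/-- (1) ⇔ (2): f : X → S is weakly étale if and only if, whenever U ⊆ X and V ⊆ S are affine opens and f
maps U into V, the ring O_X(U) is a weakly étale O_S(V)-algebra (flat, with flat multiplication map
O_X(U) ⊗ O_X(U) → O_X(U) over O_S(V)). -/
theorem result {X S : Scheme.{u}} (f : X ⟶ S) :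
    WeaklyEtale f ↔ ∀ (U : X.Opens) (V : S.Opens) (_ : IsAffineOpen U) (_ : IsAffineOpen V) (hUV : U ≤ f ⁻¹ᵁ V),
      (letI := (f.appLE V U hUV).hom.toAlgebra
       Algebra.WeaklyEtale Γ(S, V) Γ(X, U)) := by
  constructor
  · intro _ U V hU hV hUV
    have : WeaklyEtale (Spec.map (f.appLE V U hUV) ≫ hV.fromSpec) := by
      rw [IsAffineOpen.SpecMap_appLE_fromSpec f hV hU hUV]; infer_instance
    have h := (Groth.Agent.S1412.weaklyEtale_SpecMap_iff _).1 (WeaklyEtale.of_comp (Spec.map (f.appLE V U hUV)) hV.fromSpec)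
    letI := (f.appLE V U hUV).hom.toAlgebra
    exact { flat := h.1, flat_lmul' := h.2 }
  · intro h
    have hx : ∀ x : X, ∃ U : X.Opens, x ∈ U ∧ WeaklyEtale (U.ι ≫ f) := by
      intro x
      obtain ⟨V, hV, hxV, -⟩ := exists_isAffineOpen_mem_and_subset (X := S) (x := f x) (U := ⊤) trivial
      obtain ⟨U, hU, hxU, hUV⟩ := exists_isAffineOpen_mem_and_subset (X := X) (x := x) (U := f ⁻¹ᵁ V) hxV
      refine ⟨U, hxU, ?_⟩
      letI := (f.appLE V U hUV).hom.toAlgebra
      have hUVw := h U V hU hV hUV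
      have : WeaklyEtale (Spec.map (f.appLE V U hUV)) :=
        (Groth.Agent.S1412.weaklyEtale_SpecMap_iff _).2
          ⟨hUVw.flat, Algebra.WeaklyEtale.flat_lmul' Γ(S, V) Γ(X, U)⟩
      have : WeaklyEtale (hU.fromSpec ≫ f) := by
        rw [← IsAffineOpen.SpecMap_appLE_fromSpec f hV hU hUV]; infer_instance
      rw [← IsAffineOpen.isoSpec_hom_fromSpec hU, Category.assoc]
      infer_instance
    choose U hxU hWU using hx
    exact IsZariskiLocalAtSource.of_iSup_eq_top (P := @WeaklyEtale) U
      (eq_top_iff.2 fun x _ => TopologicalSpace.Opens.mem_iSup.2 ⟨x, hxU x⟩) hWU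

end Groth.Agent.S7178
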