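import Groth.Statements.S7185
import Groth.Agent.Weighting.Basic

set_option linter.style.haveILetI false
set_option backward.isDefEq.respectTransparency false
set_option backward.isDefEq.respectTransparency.types false

set_option autoImplicit false
universe u
open FlatMor

namespace Groth.Agent.S7185

open AlgebraicGeometry CategoryTheory Limits in
/-- The constant function one is a weighting of an open immersion. -/
theorem isWeighting_one_of_isOpenImmersion {X Y : Scheme.{u}} (j : X ⟶ Y) [IsOpenImmersion j] :
    MoreMor.IsWeighting j (fun _ => 1) := by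
  classical
  intro V g _ U hU
  set π := U.ι ≫ pullback.snd j g
  haveI : IsFinite π := hU
  haveI : IsOpenImmersion π := inferInstance
  have hval : ∀ v, MoreMor.fibreIntegral π (fun _ => (1 : ℤ)) v = if v ∈ Set.range π then 1 else 0 := by
    intro v
    unfold MoreMor.fibreIntegral
    by_cases hv : v ∈ Set.range π
    · rw [if_pos hv]
      obtain ⟨u, rfl⟩ := hv
      rw [finsum_eq_single _ (⟨u, rfl⟩ : {u' // π u' = π u}) fun x hx =>
        (hx (Subtype.ext (π.isOpenEmbedding.injective x.2))).elim]
      letI := (π.residueFieldMap u).hom.toAlgebra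
      have hb : Function.Bijective (algebraMap (V.residueField (π u)) ((U : Scheme.{u}).residueField u)) :=
        ConcreteCategory.bijective_of_isIso (π.residueFieldMap u)
      have h1 : Field.finSepDegree (V.residueField (π u)) ((U : Scheme.{u}).residueField u) = 1 := by
        rw [← Field.finSepDegree_eq_of_equiv _ _ _ (AlgEquiv.ofBijective (Algebra.ofId _ _) hb)]
        exact Field.finSepDegree_self _
      simp [h1]
    · rw [if_neg hv]
      haveI : IsEmpty {u // π u = v} := ⟨fun x => hv ⟨x.1, x.2⟩⟩
      exact finsum_of_isEmpty _
  refine (IsLocallyConstant.iff_exists_open _).2 fun v => ?_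
  by_cases hv : v ∈ Set.range π
  · exact ⟨Set.range π, π.isOpenEmbedding.isOpen_range, hv, fun v' hv' => by
      rw [hval, hval, if_pos hv', if_pos hv]⟩
  · exact ⟨(Set.range π)ᶜ, π.isClosedMap.isClosed_range.isOpen_compl, hv, fun v' hv' => by
      rw [hval, hval, if_neg hv', if_neg hv]⟩

open AlgebraicGeometry CategoryTheory Limits in
/-- The restriction of a weighting of a locally quasi-finite morphism f : X → Y (locally of finite type
with discrete fibres) to an open subscheme X' of X is a weighting of X' → Y. -/
theorem result {X Y : Scheme.{u}} (f : X ⟶ Y) [LocallyQuasiFinite f] [LocallyOfFiniteType f] (w : X → ℤ)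
    (hw : MoreMor.IsWeighting f w) (X' : X.Opens) : MoreMor.IsWeighting (X'.ι ≫ f) (fun x => w (X'.ι x)) := by
  have h := Groth.Agent.Weighting.isWeighting_comp (isWeighting_one_of_isOpenImmersion X'.ι) hw
  simpa using h

end Groth.Agent.S7185
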