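import Mathlib
import Groth.Statements.S7204
-- import your own Groth.Agent.* helpers here

set_option autoImplicit false
universe w u
open FlatMor

namespace Groth.Agent.S7204

section

open AlgebraicGeometry CategoryTheory Limits Opposite

/-- Descent of morphisms into a scheme along an fpqc covering. -/
lemma existsUnique_glue {S : Scheme.{u}} {ι : Type w} {X : ι → Scheme.{u}} (f : ∀ i, X i ⟶ S)
    (hf : Presieve.ofArrows X f ∈ Scheme.fpqcPrecoverage S) {Y : Scheme.{u}} (g : ∀ i, X i ⟶ Y)
    (hg : ∀ a b, pullback.fst (f a) (f b) ≫ g a = pullback.snd (f a) (f b) ≫ g b) :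
    ∃! t : S ⟶ Y, ∀ i, f i ≫ t = g i := by
  have h : (Presieve.ofArrows X f).IsSheafFor (yoneda.obj Y) :=
    (GrothendieckTopology.Subcanonical.isSheaf_of_isRepresentable (J := Scheme.fpqcTopology) _).isSheafFor _
      (Precoverage.generate_mem_toGrothendieck hf)
  exact (Presieve.isSheafFor_arrows_iff_pullbacks _ _).1 h g hg

end

open AlgebraicGeometry CategoryTheory Limits in
/-- Let (X_i)_{i ∈ I} be a diagram of schemes and (W, X_i → W) a cocone under it. If there is an fpqc
covering {W_a → W} such that each W_a is the colimit (in schemes) of the base-changed diagram (X_i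
×_W W_a), and each W_a ×_W W_b is the colimit of (X_i ×_W W_a ×_W W_b), then W is the colimit of
(X_i) in the category of schemes. -/
theorem result {J : Type u} [SmallCategory J] (D : J ⥤ Scheme.{u}) (c : Cocone D)
    (F : PreZeroHypercover.{w} c.pt) (hF : F.presieve₀ ∈ Scheme.fpqcPrecoverage c.pt)
    (h1 : ∀ a : F.I₀, Nonempty (IsColimit ((Over.forgetCocone (F.X a)).whisker
      (D.toOver c.pt (fun j => c.ι.app j) (fun g => c.w g) ⋙ Over.pullback (F.f a)))))
    (h2 : ∀ a b : F.I₀, Nonempty (IsColimit ((Over.forgetCocone (pullback (F.f a) (F.f b))).whisker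
      (D.toOver c.pt (fun j => c.ι.app j) (fun g => c.w g) ⋙ Over.pullback (pullback.fst (F.f a) (F.f b) ≫ F.f a))))) :
    Nonempty (IsColimit c) := by
  classical
  have hc1 := fun a => (h1 a).some
  have hc2 := fun a b => (h2 a b).some
  set E := D.toOver c.pt (fun j => c.ι.app j) (fun g => c.w g) with hE
  have key : ∀ (s : Cocone D) {W : Scheme.{u}} (f : W ⟶ c.pt) {j j' : J} (m : j ⟶ j'),
      ((Over.pullback f).map (E.map m)).left ≫ (pullback.fst (c.ι.app j') f ≫ s.ι.app j') =
        pullback.fst (c.ι.app j) f ≫ s.ι.app j := by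
    intro s W f j j' m
    rw [← Category.assoc]
    erw [pullback.lift_fst]
    exact (Category.assoc _ _ _).trans (congrArg (fun t => pullback.fst (c.ι.app j) f ≫ t) (s.w m))
  let cs (s : Cocone D) (a : F.I₀) : Cocone ((E ⋙ Over.pullback (F.f a)) ⋙ Over.forget _) :=
    { pt := s.pt
      ι := { app := fun j => pullback.fst (c.ι.app j) (F.f a) ≫ s.ι.app j
             naturality := fun j j' m => (key s (F.f a) m).trans (Category.comp_id _).symm } }
  let g (s : Cocone D) (a : F.I₀) : F.X a ⟶ s.pt := (hc1 a).desc (cs s a)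
  have hg : ∀ s a j, pullback.snd (c.ι.app j) (F.f a) ≫ g s a = pullback.fst (c.ι.app j) (F.f a) ≫ s.ι.app j :=
    fun s a j => (hc1 a).fac (cs s a) j
  have side : ∀ s (a : F.I₀) {W : Scheme.{u}} (f : W ⟶ c.pt) (q : W ⟶ F.X a) (_ : q ≫ F.f a = f) (j : J),
      pullback.snd (c.ι.app j) f ≫ q ≫ g s a = pullback.fst (c.ι.app j) f ≫ s.ι.app j := by
    intro s a W f q hq j
    let l : pullback (c.ι.app j) f ⟶ pullback (c.ι.app j) (F.f a) :=
      pullback.lift (pullback.fst (c.ι.app j) f) (pullback.snd (c.ι.app j) f ≫ q)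
        (by rw [Category.assoc, hq]; exact pullback.condition)
    have := congrArg (fun t => l ≫ t) (hg s a j)
    simp only [l, ← Category.assoc, pullback.lift_fst, pullback.lift_snd] at this
    rw [← Category.assoc]
    exact this
  have glue : ∀ s : Cocone D, ∃! t : c.pt ⟶ s.pt, ∀ a, F.f a ≫ t = g s a := fun s => by
    refine existsUnique_glue F.f hF (g s) fun a b => (hc2 a b).hom_ext fun j => ?_
    refine (side s a _ (pullback.fst (F.f a) (F.f b)) rfl j).trans ?_
    exact (side s b _ (pullback.snd (F.f a) (F.f b)) pullback.condition.symm j).symm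
  choose t ht htu using glue
  refine ⟨{ desc := t, fac := fun s j => ?_, uniq := fun s m hm => htu s m fun a => ?_ }⟩
  · have hcov : Presieve.ofArrows (fun a => pullback (c.ι.app j) (F.f a))
        (fun a => pullback.fst (c.ι.app j) (F.f a)) ∈ Scheme.fpqcPrecoverage (D.obj j) :=
      Precoverage.mem_coverings_of_isPullback F.f hF (c.ι.app j) _ _ fun a => IsPullback.of_hasPullback _ _
    refine (existsUnique_glue _ hcov (fun a => pullback.fst (c.ι.app j) (F.f a) ≫ s.ι.app j) fun a b => ?_).unique
      (fun a => ?_) (fun a => rfl)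
    · rw [← Category.assoc, ← Category.assoc, pullback.condition]
    · rw [← Category.assoc, pullback.condition, Category.assoc, ht, hg]
  · refine (hc1 a).hom_ext fun j => ?_
    refine Eq.trans ?_ (hg s a j).symm
    change pullback.snd (c.ι.app j) (F.f a) ≫ F.f a ≫ m = _
    rw [← Category.assoc, ← pullback.condition, Category.assoc, hm]

end Groth.Agent.S7204
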