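import Groth.Statements.S7221
import Groth.Agent.NL17.Pushout

set_option autoImplicit false
universe u
open CategoryTheory CategoryTheory.Limits TensorProduct
attribute [local instance] HasDerivedCategory.standard
open FlatMor

namespace Groth.Agent.S7221

/-- Let R → S and R → R' be ring homomorphisms and let S' be an algebra over R' and over S making the
square cocartesian, S' = S ⊗_R R'. Let G be a presentation of S over R by a polynomial algebra and
G' the presentation of S' over R' on the same set of variables, each variable mapping to the image
of the corresponding generator (the base change of G). Then the canonical map H^{-1}(NL(G) ⊗_S S') →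
H^{-1}(NL(G')) is surjective. The same holds for the canonical map H^{-1}(NL_{S/R} ⊗_S S') →
H^{-1}(NL_{S'/R'}) between the complexes of the presentations on all elements. (In degree 0 the
corresponding map S' ⊗_S Ω_{S/R} → Ω_{S'/R'} is bijective; that part is not restated.) -/
theorem result (R S R' S' : Type u) [CommRing R] [CommRing S] [CommRing R']
    [CommRing S'] [Algebra R S] [Algebra R' S'] [Algebra R R'] [Algebra S S'] [Algebra R S']
    [IsScalarTower R R' S'] [IsScalarTower R S S'] [Algebra.IsPushout R R' S S']
    {ι : Type u} (G : Algebra.Generators R S ι) (G' : Algebra.Generators R' S' ι)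
    (h : ∀ i, G'.val i = algebraMap S S' (G.val i)) :
    Function.Surjective (NLCx.bcH1Map (NLCx.sameVarsHom G G' h).toExtensionHom) ∧
      Function.Surjective (NLCx.bcH1Map
        ((Algebra.Generators.self R S).defaultHom (Algebra.Generators.self R' S')).toExtensionHom) := by
  refine ⟨Groth.Agent.NL17.surjective_bcH1Map G G' h, fun y => ?_⟩
  let G₀ := Groth.Agent.NL17.baseGen R S R' S'
  let f₀ := (NLCx.sameVarsHom (Algebra.Generators.self R S) G₀
    (Groth.Agent.NL17.baseGen_val R S R' S')).toExtensionHom
  let g := (G₀.defaultHom (Algebra.Generators.self R' S')).toExtensionHom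
  let g' := ((Algebra.Generators.self R' S').defaultHom G₀).toExtensionHom
  obtain ⟨x, hx⟩ := Groth.Agent.NL17.surjective_bcH1Map (Algebra.Generators.self R S) G₀
    (Groth.Agent.NL17.baseGen_val R S R' S') (Algebra.Extension.H1Cotangent.map g' y)
  refine ⟨x, ?_⟩
  have h2 := congrArg (Algebra.Extension.H1Cotangent.map g) hx
  rw [← Algebra.Extension.H1Cotangent.map_comp_apply,
    Algebra.Extension.H1Cotangent.map_eq (g.comp g') (.id _),
    Algebra.Extension.H1Cotangent.map_id, LinearMap.id_apply] at h2
  rw [← h2]
  apply Subtype.ext
  let d := ((Algebra.Generators.self R S).defaultHom (Algebra.Generators.self R' S')).toExtensionHom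
  have key : ∀ z : S' ⊗[S] (Algebra.Generators.self R S).toExtension.Cotangent,
      Algebra.Extension.Cotangent.map g (Groth.Agent.NL17.cotF f₀ z) =
        Groth.Agent.NL17.cotF (g.comp f₀) z := fun z => by
    induction z using TensorProduct.induction_on with
    | zero => simp only [map_zero]
    | add a b ha hb => simp only [map_add, ha, hb]
    | tmul s a => simp [Algebra.Extension.Cotangent.map_comp]
  show Groth.Agent.NL17.cotF d x.1 = Algebra.Extension.Cotangent.map g (Groth.Agent.NL17.cotF f₀ x.1)
  rw [key]
  have hsub : Groth.Agent.NL17.cotF d - Groth.Agent.NL17.cotF (g.comp f₀) =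
      LinearMap.liftBaseChange S' (d.sub (g.comp f₀)) ∘ₗ
        (Algebra.Generators.self R S).toExtension.cotangentComplex.baseChange S' := by
    ext a
    simpa using congrArg Algebra.Extension.Cotangent.val
      (LinearMap.congr_fun (Algebra.Extension.Cotangent.map_sub_map d (g.comp f₀)) a)
  have h3 := LinearMap.congr_fun hsub x.1
  rw [LinearMap.comp_apply, LinearMap.mem_ker.1 x.2, map_zero, LinearMap.sub_apply, sub_eq_zero] at h3
  exact h3

end Groth.Agent.S7221
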