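import Groth.Statements.S7222
import Groth.Agent.NL17.Pushout
import Groth.Agent.NL17.Derived

set_option autoImplicit false
universe u
open CategoryTheory CategoryTheory.Limits TensorProduct
attribute [local instance] HasDerivedCategory.standard
open FlatMor

namespace Groth.Agent.S7222

/-- Let A → B and A → A' be ring homomorphisms and B' an algebra over A' and over B making the square
cocartesian, B' = B ⊗_A A'. If B is flat over A, then the canonical chain map NL_{B/A} ⊗_B B' →
NL_{B'/A'} (for the presentations by the polynomial algebras on all elements) is a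
quasi-isomorphism. If moreover NL_{B/A} has tor-amplitude in [-1, 0], then, the derived base change
functor along B → B' being assumed to exist, NL_{B/A} ⊗^L_B B' is isomorphic to NL_{B'/A'} in D(B')
(existence of an isomorphism only: the derived comparison map is not named here). -/
theorem result (A B A' B' : Type u) [CommRing A] [CommRing B]
    [CommRing A'] [CommRing B'] [Algebra A B] [Algebra A' B'] [Algebra A A'] [Algebra B B'] [Algebra A B']
    [IsScalarTower A A' B'] [IsScalarTower A B B'] [Algebra.IsPushout A A' B B'] [Module.Flat A B] :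
    QuasiIso (NLCx.bcMapSelf A B A' B') ∧
      (DRing.HasTorAmplitudeIn B (-1) 0 (LCI.NL A B) → ∀ [DRing.HasLBaseChange (algebraMap B B')],
        Nonempty ((DRing.LBaseChange (algebraMap B B')).obj (LCI.NL A B) ≅ LCI.NL A' B')) := by
  have e := Groth.Agent.NL17.exists_homotopyEquiv_self A B A' B'
    (Groth.Agent.NL17.bijective_cotF_of_flat' _ _ _)
  haveI hq : QuasiIso (NLCx.bcMapSelf A B A' B') := Groth.Agent.NL17.quasiIso_of_homotopyEquiv e
  refine ⟨hq, fun h => ?_⟩
  intro _
  obtain ⟨e'⟩ := Groth.Agent.NL17.nonempty_LBaseChange_double (S' := B')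
    (ModuleCat.ofHom (Algebra.Generators.self A B).toExtension.cotangentComplex)
    (Module.Flat.of_free (R := B) (M := (Algebra.Generators.self A B).toExtension.CotangentSpace)) h
  have hiso := (DerivedCategory.isIso_Q_map_iff_quasiIso (C := ModuleCat.{u} B') (NLCx.bcMapSelf A B A' B')).2 hq
  exact ⟨e' ≪≫ @asIso _ _ _ _ _ hiso⟩

end Groth.Agent.S7222
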