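import Groth.Statements.S7225
import Groth.Agent.NL17.Pushout
import Groth.Agent.H1Sheaf.Ring

set_option autoImplicit false
universe u
open CategoryTheory CategoryTheory.Limits TensorProduct
attribute [local instance] HasDerivedCategory.standard
open FlatMor

namespace Groth.Agent.S7225

/-- Let A be a ring, M a submonoid of A, A' a localization of A at M and B an A'-algebra, viewed also as
an A-algebra. Let G be a presentation of B over A by a polynomial algebra and G' the presentation of
B over A' with the same generators (G'(i) = G(i), written through the identity algebra map of B).
Then the canonical chain map NL(G) → NL(G') from the naive cotangent complex of the presentation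
over A to that of the presentation over A' is an isomorphism of complexes (so that NL_{B/A} →
NL_{B/A'} is a homotopy equivalence). -/
theorem result (A A' B : Type u) [CommRing A] [CommRing A'] [CommRing B]
    [Algebra A A'] (M : Submonoid A) [IsLocalization M A'] [Algebra A' B] [Algebra A B] [IsScalarTower A A' B]
    {ι : Type u} (G : Algebra.Generators A B ι) (G' : Algebra.Generators A' B ι) (h : ∀ i, G'.val i = algebraMap B B (G.val i)) :
    IsIso (NLCx.map (NLCx.sameVarsHom (S' := B) G G' h).toExtensionHom) := by
  haveI : Module.Flat A A' := IsLocalization.flat A' M
  haveI : Algebra.IsPushout A A' B B :=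
    Groth.Agent.H1Sheaf.isPushout_of_epi A A' B (IsLocalization.epi M A')
  refine Groth.Agent.NL17.isIso_map _ ?_ ?_
  · have h0 := Groth.Agent.NL17.bijective_cotF_of_flat G G' h
    have e : (Algebra.Extension.Cotangent.map (Groth.Agent.NL17.sv G G' h) : _ → _) =
        Groth.Agent.NL17.cotF (Groth.Agent.NL17.sv G G' h) ∘
          (TensorProduct.lid B G.toExtension.Cotangent).symm := funext fun x => by simp
    exact e ▸ h0.comp (LinearEquiv.bijective _)
  · have h1 := Groth.Agent.NL17.bijective_spF G G' h
    have e : (Algebra.Extension.CotangentSpace.map (Groth.Agent.NL17.sv G G' h) : _ → _) =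
        Groth.Agent.NL17.spF (Groth.Agent.NL17.sv G G' h) ∘
          (TensorProduct.lid B G.toExtension.CotangentSpace).symm := funext fun x => by simp
    exact e ▸ h1.comp (LinearEquiv.bijective _)

end Groth.Agent.S7225
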