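import Groth.Statements.S7237
import Mathlib.Algebra.TrivSqZeroExt.Basic
import Mathlib.LinearAlgebra.SymmetricAlgebra.Basic

set_option autoImplicit false
universe u
open TensorProduct
open FlatMor

namespace Groth.Agent.S7237

/-- Let A be a ring and M a finitely generated A-module, and let C = Sym_A(M) be the symmetric algebra
of M with its canonical A-linear map ι : M → C. Then Ω_{C/A} = M ⊗_A C: the C-linear map C ⊗_A M →
Ω_{C/A} obtained by extending scalars in the A-linear map m ↦ d(ι m), d being the universal
A-derivation of C, is bijective. (The published lemma also computes the whole naive cotangent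
complex of the presentation of C attached to a surjection A^m → M with kernel K, namely as K ⊗_A C →
⊕_j C dy_j; only its consequence for Ω is asserted here.) -/
theorem result (A : Type u) [CommRing A] (M : Type u)
    [AddCommGroup M] [Module A M] [Module.Finite A M] :
    Function.Bijective (LinearMap.liftBaseChange (SymmetricAlgebra A M)
      ((KaehlerDifferential.D A (SymmetricAlgebra A M)).toLinearMap.restrictScalars A ∘ₗ SymmetricAlgebra.ι A M)) := by
  let C := SymmetricAlgebra A M
  let L : C ⊗[A] M →ₗ[C] Ω[C⁄A] := LinearMap.liftBaseChange C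
    ((KaehlerDifferential.D A C).toLinearMap.restrictScalars A ∘ₗ SymmetricAlgebra.ι A M)
  let N := C ⊗[A] M
  haveI : IsCentralScalar C N := ⟨fun c n => by
    induction n using TensorProduct.induction_on with
    | zero => rw [smul_zero, smul_zero]
    | add x y hx hy => rw [smul_add, smul_add, hx, hy]
    | tmul d m => rw [TensorProduct.smul_tmul', TensorProduct.smul_tmul', op_smul_eq_smul]⟩
  let g : M →ₗ[A] TrivSqZeroExt C N :=
    LinearMap.prod (SymmetricAlgebra.ι A M) ((TensorProduct.mk A C M) 1)
  let F := SymmetricAlgebra.lift g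
  have hfst : (TrivSqZeroExt.fstHom A C N).comp F = AlgHom.id A C :=
    SymmetricAlgebra.algHom_ext (LinearMap.ext fun m => by
      show TrivSqZeroExt.fst (F (SymmetricAlgebra.ι A M m)) = SymmetricAlgebra.ι A M m
      rw [SymmetricAlgebra.lift_ι_apply]; rfl)
  have hfst' : ∀ x, TrivSqZeroExt.fst (F x) = x := fun x => DFunLike.congr_fun hfst x
  let δ : Derivation A C N := Derivation.mk'
    ({ toFun := fun x => TrivSqZeroExt.snd (F x)
       map_add' := fun x y => by rw [map_add, TrivSqZeroExt.snd_add]
       map_smul' := fun a x => by rw [map_smul, TrivSqZeroExt.snd_smul, RingHom.id_apply] } : C →ₗ[A] N)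
    fun x y => by
      show TrivSqZeroExt.snd (F (x * y)) = _
      rw [map_mul, TrivSqZeroExt.snd_mul, hfst' x, hfst' y, op_smul_eq_smul]
      rfl
  let K : Ω[C⁄A] →ₗ[C] N := δ.liftKaehlerDifferential
  have hKL : K ∘ₗ L = LinearMap.id := TensorProduct.AlgebraTensorModule.ext fun c m => by
    show K (L (c ⊗ₜ m)) = c ⊗ₜ m
    rw [LinearMap.liftBaseChange_tmul, map_smul, LinearMap.comp_apply, LinearMap.restrictScalars_apply]
    show c • K (KaehlerDifferential.D A C (SymmetricAlgebra.ι A M m)) = c ⊗ₜ m
    rw [Derivation.liftKaehlerDifferential_comp_D]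
    show c • TrivSqZeroExt.snd (F (SymmetricAlgebra.ι A M m)) = c ⊗ₜ m
    rw [SymmetricAlgebra.lift_ι_apply]
    show c • ((1 : C) ⊗ₜ[A] m) = c ⊗ₜ m
    rw [TensorProduct.smul_tmul', smul_eq_mul, mul_one]
  have hLK : L ∘ₗ K = LinearMap.id := by
    refine Derivation.liftKaehlerDifferential_unique _ _ (Derivation.ext fun x => ?_)
    show L (K (KaehlerDifferential.D A C x)) = KaehlerDifferential.D A C x
    rw [Derivation.liftKaehlerDifferential_comp_D]
    induction x using SymmetricAlgebra.induction with
    | algebraMap r => exact (congrArg L (δ.map_algebraMap r)).trans ((map_zero L).trans ((KaehlerDifferential.D A C).map_algebraMap r).symm)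
    | ι m =>
      show L (TrivSqZeroExt.snd (F (SymmetricAlgebra.ι A M m))) = _
      rw [SymmetricAlgebra.lift_ι_apply]
      show L ((1 : C) ⊗ₜ[A] m) = _
      rw [LinearMap.liftBaseChange_tmul, one_smul]
      rfl
    | mul x y hx hy => simp only [Derivation.leibniz, map_add, map_smul, hx, hy]
    | add x y hx hy => simp only [map_add, hx, hy]
  exact Function.bijective_iff_has_inverse.2
    ⟨K, LinearMap.congr_fun hKL, LinearMap.congr_fun hLK⟩

end Groth.Agent.S7237
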