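import Groth.Statements.S7248
import Groth.Agent.ModGroth.PerfLocal
import Groth.Agent.ModGroth.PerfTensor
import Groth.Agent.DCohPerf.Perfect
import Groth.Agent.DCohPerf.Summand
import Groth.Agent.ModGroth.FinLocFree
-- import your own Groth.Agent.* helpers here

set_option autoImplicit false
universe u
open CategoryTheory CategoryTheory.Limits AlgebraicGeometry
attribute [local instance] HasDerivedCategory.standard
open Perf

namespace Groth.Agent.S7248

/-- Let f : X ⟶ S be flat and locally of finite presentation. Then a perfect object E of D(O_X) is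
S-perfect, that is, E is pseudo-coherent (m-pseudo-coherent for every m) and, locally on X, the tor
dimension of E over the sheaf of rings f⁻¹O_S is finite (locally represented by a bounded complex of
O_X-modules flat over S). -/
theorem result {X S : Scheme.{u}} (f : X ⟶ S) [Flat f] [LocallyOfFinitePresentation f]
    (E : DCoh.D X) (hE : DCoh.IsPerfect E) :
    (∀ m : ℤ, DCoh.IsPseudoCoherentD m E) ∧ DCoh.LocHasFiniteRelTorDim f E := by
  refine ⟨fun m => DCohPerf.isPC_of_isPerfect hE, fun x => ?_⟩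
  obtain ⟨V, hx, E₀, hE₀, ⟨e⟩⟩ := (ModGroth.Perf.isPerfect_iff E).1 hE x
  obtain ⟨⟨a, b, hv⟩, hl⟩ := hE₀
  refine ⟨V, a, b, hx, fun F' hF' => ?_⟩
  obtain ⟨eF⟩ := hF'
  refine ⟨E₀, hv, fun i => ?_, ⟨e.symm ≪≫ (ModGroth.Perf.rDIso V eF).symm⟩⟩
  intro y
  letI := ((V.ι ≫ f).stalkMap y).hom.toAlgebra
  letI : Module (S.presheaf.stalk ((V.ι ≫ f).base y)) ((E₀.X i).presheaf.stalk y) := FlatMod.moduleStalkOver (V.ι ≫ f) (E₀.X i) y
  haveI : IsScalarTower (S.presheaf.stalk ((V.ι ≫ f).base y)) ((V : Scheme.{u}).presheaf.stalk y) ((E₀.X i).presheaf.stalk y) :=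
    IsScalarTower.of_algebraMap_smul fun _ _ => rfl
  haveI : Flat (V.ι ≫ f) := inferInstance
  haveI : Module.Flat (S.presheaf.stalk ((V.ι ≫ f).base y)) ((V : Scheme.{u}).presheaf.stalk y) := Flat.stalkMap (V.ι ≫ f) y
  haveI : Module.Flat ((V : Scheme.{u}).presheaf.stalk y) ((E₀.X i).presheaf.stalk y) := ModGroth.Perf.isFlat_of_isFinLocFree (hl i) y
  exact Module.Flat.trans (S.presheaf.stalk ((V.ι ≫ f).base y)) ((V : Scheme.{u}).presheaf.stalk y) ((E₀.X i).presheaf.stalk y)

end Groth.Agent.S7248
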