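import Groth.Statements.S7251
import Groth.Agent.DQC.Ops
-- import your own Groth.Agent.* helpers here

set_option autoImplicit false
universe u
open CategoryTheory CategoryTheory.Limits AlgebraicGeometry
attribute [local instance] HasDerivedCategory.standard
open Perf

namespace Groth.Agent.S7251

/-- Let f : X ⟶ Y be a quasi-compact and quasi-separated morphism of schemes. Assume Rf_* exists and
sends D_QCoh(O_X) into D_QCoh(O_Y), let an adjunction Lf^* ⊣ Rf_* be given as data, and assume the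
inclusion functors D_QCoh ⥤ D have (chosen) right adjoints DQ_X and DQ_Y. Then Rf_* ∘ DQ_X = DQ_Y ∘
Rf_*: for every K ∈ D(O_X) the comparison map Rf_*(DQ_X K) ⟶ DQ_Y(Rf_* K) in D_QCoh(O_Y),
corresponding under the adjunction to Rf_* applied to the counit DQ_X K ⟶ K, is an isomorphism. -/
theorem result {X Y : Scheme.{u}} (f : X ⟶ Y) [QuasiCompact f] [QuasiSeparated f]
    [DCoh.HasRpush f] (h : DCoh.RpushPreservesQCoh f) [DCoh.HasLpull f] (adj : DCoh.Lpull f ⊣ DCoh.Rpush f)
    [(ObjectProperty.ι (DCoh.IsQCohD (X := X))).IsLeftAdjoint] [(ObjectProperty.ι (DCoh.IsQCohD (X := Y))).IsLeftAdjoint]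
    (K : DCoh.D X) :
    IsIso ((Adjunction.ofIsLeftAdjoint (ObjectProperty.ι (DCoh.IsQCohD (X := Y)))).homEquiv
      (⟨(DCoh.Rpush f).obj (((ObjectProperty.ι (DCoh.IsQCohD (X := X))).rightAdjoint.obj K).obj),
        h _ (((ObjectProperty.ι (DCoh.IsQCohD (X := X))).rightAdjoint.obj K).property)⟩ : DCoh.DQCoh Y)
      ((DCoh.Rpush f).obj K)
      ((DCoh.Rpush f).map ((Adjunction.ofIsLeftAdjoint (ObjectProperty.ι (DCoh.IsQCohD (X := X)))).counit.app K))) := by
  let aX := Adjunction.ofIsLeftAdjoint (ObjectProperty.ι (DCoh.IsQCohD (X := X)))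
  let aY := Adjunction.ofIsLeftAdjoint (ObjectProperty.ι (DCoh.IsQCohD (X := Y)))
  let S : DCoh.DQCoh Y := ⟨(DCoh.Rpush f).obj (((ObjectProperty.ι (DCoh.IsQCohD (X := X))).rightAdjoint.obj K).obj),
    h _ (((ObjectProperty.ι (DCoh.IsQCohD (X := X))).rightAdjoint.obj K).property)⟩
  let c : S.obj ⟶ (DCoh.Rpush f).obj K := (DCoh.Rpush f).map (aX.counit.app K)
  show IsIso (aY.homEquiv S _ c)
  suffices hb : ∀ Q : DCoh.DQCoh Y, Function.Bijective (fun g : Q ⟶ S => g.hom ≫ c) by
    refine isIso_of_yoneda_map_bijective _ fun Q => ?_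
    have e : (fun g : Q ⟶ S => g ≫ aY.homEquiv S _ c) = aY.homEquiv Q _ ∘ (fun g : Q ⟶ S => g.hom ≫ c) := by
      funext g
      exact (aY.homEquiv_naturality_left g c).symm
    rw [e]
    exact (aY.homEquiv Q _).bijective.comp (hb Q)
  intro Q
  let Q' : DCoh.DQCoh X := ⟨(DCoh.Lpull f).obj Q.obj, Groth.Agent.DQC.isQCohD_lpull f Q.property⟩
  let e₁ : (Q ⟶ S) ≃ (Q' ⟶ (ObjectProperty.ι (DCoh.IsQCohD (X := X))).rightAdjoint.obj K) :=
    ((ObjectProperty.fullyFaithfulι _).homEquiv.trans (adj.homEquiv _ _).symm).trans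
      (ObjectProperty.fullyFaithfulι _).homEquiv.symm
  have e : (fun g : Q ⟶ S => g.hom ≫ c) = adj.homEquiv _ _ ∘ (aX.homEquiv Q' K).symm ∘ e₁ := by
    funext g
    have h1 : (aX.homEquiv Q' K).symm (e₁ g) = (adj.homEquiv _ _).symm g.hom ≫ aX.counit.app K := by
      rw [aX.homEquiv_counit]
      rfl
    simp only [Function.comp_apply]
    rw [h1, adj.homEquiv_naturality_right, Equiv.apply_symm_apply]
  rw [e]
  exact (adj.homEquiv _ _).bijective.comp ((aX.homEquiv Q' K).symm.bijective.comp e₁.bijective)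

end Groth.Agent.S7251
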