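import Groth.Statements.S7260
import Groth.Agent.RlimLib.RlimSingle
import Groth.Agent.RlimLib.FreeExtConv
import Groth.Agent.RlimLib.LimOne
import Groth.Agent.CohVanish.Affine
import Groth.Agent.QCohLib.Closure
-- import your own Groth.Agent.* helpers here

set_option autoImplicit false
universe u
open CategoryTheory CategoryTheory.Limits AlgebraicGeometry
attribute [local instance] HasDerivedCategory.standard
open Perf

namespace Groth.Agent.S7260

/-- Let X be a scheme and (F_n)_{n ≥ 0} an inverse system of quasi-coherent O_X-modules whose transition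
maps F_{n+1} ⟶ F_n are surjective for n ≥ 1. Then R lim F_n = lim F_n, that is, lim F_n placed in
degree 0 is a derived limit in D(O_X) of the system (F_n[0]) (granted the countable product exists
there), and H^p(U, lim F_n) = 0 for every affine open U ⊆ X and every p > 0. (The published
statement is phrased for the system of q-th cohomology sheaves of an inverse system in D_QCoh(O_X);
the proof uses only that these form an inverse system of quasi-coherent modules with surjective
transition maps, which is the form stated here.) -/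
theorem result {X : Scheme.{u}} (F : ℕ → X.Modules)
    (hF : ∀ n, Coh.IsQCoh (F n)) (t : ∀ n, F (n + 1) ⟶ F n) (ht : ∀ n, 1 ≤ n → Epi (t n))
    [HasProduct fun n => DCoh.inD X (F n)] :
    DCoh.IsRlim (fun n => DCoh.inD X (F n)) (fun n => (DerivedCategory.singleFunctor X.Modules 0).map (t n))
        (DCoh.inD X (Limits.limit (Functor.ofOpSequence t))) ∧
      ∀ (U : X.Opens), IsAffineOpen U → ∀ p : ℕ, 0 < p →
        Subsingleton (Coh.HHon X (Limits.limit (Functor.ofOpSequence t)) U p) := by
  let O := X.sheaf
  let G : Groth.Agent.RlimLib.Gen (Opens.grothendieckTopology X) X.Modules := Groth.Agent.RlimLib.modGen O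
  haveI hGA := Groth.Agent.ModGroth.sheaf_isGrothendieckAbelian (ModSite.ringSh O)
  haveI : IsGrothendieckAbelian.{u} X.Modules := hGA
  haveI : HasExt.{u + 1} X.Modules := HasExt.standard _
  haveI : HasExt.{u + 1} (ModSite.Mod O) := HasExt.standard _
  haveI : HasLimitsOfShape ℕᵒᵖ X.Modules := inferInstance
  haveI := hF
  obtain ⟨h1, h2⟩ := Groth.Agent.RlimLib.Gen.isRlim_single
    (C := X.Opens) (J := Opens.grothendieckTopology X) (A := X.Modules) G F t (fun U => IsAffineOpen U)
    (Groth.Agent.RlimLib.covers_of_basis {U : X.Opens | IsAffineOpen U} X.isBasis_affineOpens)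
    (fun U hU n k hk => by
      obtain ⟨p, rfl⟩ : ∃ p, k = p + 1 := ⟨k - 1, by omega⟩
      exact Groth.Agent.RlimLib.subsingleton_ext_freeOn O U (p + 1) (F n)
        (Groth.Agent.CohVanish.subsingleton_EU_of_isAffineOpen (F n) hU p))
    (fun U hU => Groth.Agent.RlimLib.limOne_of_surjective_preadditive _ _ 1 fun n hn g => by
      haveI := ht n hn
      obtain ⟨s, hs⟩ := Groth.Agent.QCohLib.app_surjective_of_epi (t n) hU
        (Groth.Agent.ModGroth.FreeOn.homEquiv O U (F n) g)
      refine ⟨(Groth.Agent.ModGroth.FreeOn.homEquiv O U (F (n + 1))).symm s,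
        (Groth.Agent.ModGroth.FreeOn.homEquiv O U (F n)).injective ?_⟩
      refine (Groth.Agent.ModGroth.FreeOn.homEquiv_comp O U _ (t n)).trans ?_
      exact (congrArg ((t n).val.app _) (Equiv.apply_symm_apply _ _)).trans hs)
  refine ⟨h1, fun U hU p hp => ?_⟩
  obtain ⟨e⟩ := Groth.Agent.CohVanish.nonempty_EU_equiv_HH U.ι (Limits.limit (Functor.ofOpSequence t)) p
  rw [Scheme.Opens.opensRange_ι] at e
  haveI := Groth.Agent.RlimLib.subsingleton_HU_of_ext_freeOn O U p (Limits.limit (Functor.ofOpSequence t))
    (h2 U hU p hp)
  haveI : Subsingleton (Groth.Agent.CohVanish.EU (X := Groth.Agent.CohVanish.sp X)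
    (Coh.toAb (Limits.limit (Functor.ofOpSequence t))) U p) := this
  exact e.symm.injective.subsingleton

end Groth.Agent.S7260
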