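import Groth.Statements.S7290
import Mathlib
-- import your own Groth.Agent.* helpers here

set_option autoImplicit false
open CategoryTheory CategoryTheory.Limits AlgebraicGeometry Opposite
universe u
open ProEtW

namespace Groth.Agent.S7290

/-- Let A be a ring and let Spec A be the disjoint union of finitely many constructible subsets T_i.
Then there is a finite subset E of A such that the stratification of Spec A according to which
elements of E vanish at a point refines the given one: each nonempty stratum, consisting of the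
primes whose intersection with E is a prescribed subset, is contained in one of the T_i. -/
theorem result (A : Type u) [CommRing A] {ι : Type u} [Finite ι]
    (T : ι → Set (PrimeSpectrum A)) (hT : ∀ i, Topology.IsConstructible (T i))
    (hcov : ⋃ i, T i = Set.univ) (hdisj : Pairwise fun i j => Disjoint (T i) (T j)) :
    ∃ E : Finset A, ∀ E'' : Finset A, E'' ⊆ E →
      ∀ x : PrimeSpectrum A, (∀ f ∈ E, f ∈ x.asIdeal ↔ f ∈ E'') →
        ∃ i, {y : PrimeSpectrum A | ∀ f ∈ E, f ∈ y.asIdeal ↔ f ∈ E''} ⊆ T i := by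
  classical
  haveI := Fintype.ofFinite ι
  choose S hS using fun i => PrimeSpectrum.exists_constructibleSetData_iff.mpr (hT i)
  refine ⟨Finset.univ.biUnion fun i => (S i).biUnion fun C => insert C.f (Finset.univ.image C.g), ?_⟩
  intro E'' _ x hx
  obtain ⟨i, hi⟩ := Set.mem_iUnion.mp (hcov.symm ▸ Set.mem_univ x : x ∈ ⋃ i, T i)
  refine ⟨i, fun y hy => ?_⟩
  rw [← hS i] at hi ⊢
  simp only [PrimeSpectrum.ConstructibleSetData.toSet, Set.mem_iUnion,
    PrimeSpectrum.BasicConstructibleSetData.toSet] at hi ⊢
  obtain ⟨C, hC, hg, hf⟩ := hi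
  have hmem : ∀ a ∈ insert C.f (Finset.univ.image C.g),
      a ∈ Finset.univ.biUnion fun i => (S i).biUnion fun C => insert C.f (Finset.univ.image C.g) :=
    fun a ha => Finset.mem_biUnion.mpr ⟨i, Finset.mem_univ i, Finset.mem_biUnion.mpr ⟨C, hC, ha⟩⟩
  have hyx : ∀ a ∈ insert C.f (Finset.univ.image C.g), a ∈ y.asIdeal ↔ a ∈ x.asIdeal :=
    fun a ha => (hy a (hmem a ha)).trans (hx a (hmem a ha)).symm
  refine ⟨C, hC, ?_, ?_⟩
  · rintro _ ⟨j, rfl⟩
    exact (hyx _ (by simp)).mpr (hg ⟨j, rfl⟩)
  · intro h
    apply hf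
    rintro _ rfl
    exact (hyx _ (by simp)).mp (h rfl)

end Groth.Agent.S7290
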