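import Groth.Statements.S7318
import Groth.Agent.NumType.QuadForm


set_option autoImplicit false
open Finset
open Models Models.NumericalType

namespace Groth.Agent.S7318

/-- For a numerical type T on n indices with e pairs i < j such that a_ij > 0, the topological genus 1 -
n + e is ≥ 0. -/
theorem result {n : ℕ} (T : Models.NumericalType n) : 0 ≤ T.topGenus := by
  have hgrow : ∀ k : ℕ, 1 ≤ k → k ≤ n → ∃ I : Finset (Fin n), I.card = k ∧
      k - 1 ≤ ((univ.filter fun p : Fin n × Fin n =>
        p.1 < p.2 ∧ 0 < T.a p.1 p.2 ∧ p.1 ∈ I ∧ p.2 ∈ I)).card := by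
    intro k hk
    induction k, hk using Nat.le_induction with
    | base => intro _; exact ⟨{⟨0, T.pos⟩}, by simp, by simp⟩
    | succ k hk ih =>
      intro hkn
      obtain ⟨I, hc, hcard⟩ := ih (by omega)
      obtain ⟨i, hi, j, hj, hij⟩ := T.connected I (Finset.card_pos.1 (by omega)) (by
        intro h; rw [h] at hc; simp at hc; omega)
      have hne : i ≠ j := fun e => hj (e ▸ hi)
      have hpos : 0 < T.a i j := lt_of_le_of_ne (T.offDiag_nonneg i j hne) hij.symm
      refine ⟨insert j I, by rw [Finset.card_insert_of_notMem hj, hc], ?_⟩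
      obtain ⟨p, hp1, hp2, hp⟩ : ∃ p : Fin n × Fin n, p.1 < p.2 ∧ 0 < T.a p.1 p.2 ∧
          (p = (i, j) ∨ p = (j, i)) := by
        rcases lt_or_gt_of_ne hne with h | h
        · exact ⟨(i, j), h, hpos, Or.inl rfl⟩
        · exact ⟨(j, i), h, by rw [NumType.a_symm]; exact hpos, Or.inr rfl⟩
      refine le_trans ?_ (Finset.card_le_card (s := insert p (univ.filter fun p : Fin n × Fin n =>
        p.1 < p.2 ∧ 0 < T.a p.1 p.2 ∧ p.1 ∈ I ∧ p.2 ∈ I)) ?_)
      · rw [Finset.card_insert_of_notMem]
        · omega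
        · rcases hp with rfl | rfl <;> simp [hj]
      · intro q hq
        simp only [Finset.mem_insert, mem_filter, mem_univ, true_and] at hq ⊢
        rcases hq with rfl | ⟨a, b, c, d⟩
        · rcases hp with rfl | rfl <;> simp [hi, hp1, hp2]
        · exact ⟨a, b, Or.inr c, Or.inr d⟩
  obtain ⟨I, -, hcard⟩ := hgrow n T.pos le_rfl
  have hle : (univ.filter fun p : Fin n × Fin n =>
      p.1 < p.2 ∧ 0 < T.a p.1 p.2 ∧ p.1 ∈ I ∧ p.2 ∈ I).card ≤ T.edgeCount :=
    Finset.card_le_card fun q hq => by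
      simp only [mem_filter, mem_univ, true_and] at hq ⊢; exact ⟨hq.1, hq.2.1⟩
  unfold Models.NumericalType.topGenus
  omega

end Groth.Agent.S7318
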