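import Groth.Statements.S7340
import Mathlib
-- import your own Groth.Agent.* helpers here

set_option autoImplicit false
universe u
open Polynomial
open Resolve

namespace Groth.Agent.S7340

section
variable {n : ℕ} [Fact (n + 1).Prime] {R : Type u} [CommRing R] [CharP R (n + 1)] (b : R)

theorem root_pow :
    AdjoinRoot.root (X ^ (n + 1) - C b : R[X]) ^ (n + 1) = algebraMap R _ b := by
  have h := AdjoinRoot.eval₂_root (X ^ (n + 1) - C b : R[X])
  simp only [eval₂_sub, eval₂_X_pow, eval₂_C, sub_eq_zero] at h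
  simpa [AdjoinRoot.algebraMap_eq] using h

theorem algebraMap_inj {r s : R}
    (h : algebraMap R (AdjoinRoot (X ^ (n + 1) - C b : R[X])) r = algebraMap R _ s) : r = s := by
  have : Nontrivial R := CharP.nontrivial_of_char_ne_one (Fact.out : (n + 1).Prime).ne_one
  have hm : (X ^ (n + 1) - C b : R[X]).Monic := monic_X_pow_sub_C b (Nat.succ_ne_zero n)
  have h' := congrArg (AdjoinRoot.modByMonicHom hm) h
  simp only [AdjoinRoot.algebraMap_eq, AdjoinRoot.of, RingHom.comp_apply, ← AdjoinRoot.mk_C] at h'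
  rw [AdjoinRoot.modByMonicHom_mk, AdjoinRoot.modByMonicHom_mk] at h'
  have hd : ∀ z : R, C z %ₘ (X ^ (n + 1) - C b) = C z := fun z => by
    rw [Polynomial.modByMonic_eq_self_iff hm, Polynomial.degree_X_pow_sub_C (Nat.succ_pos n)]
    exact lt_of_le_of_lt Polynomial.degree_C_le (by exact_mod_cast Nat.succ_pos n)
  rw [hd, hd] at h'
  exact C_injective h'

theorem map_pow_smul {S : Type*} [CommRing S] [Algebra R S] {P : Type*} [AddCommGroup P]
    [Module R P] (T : Ω[S⁄R] →ₗ[R] P) (u : S) (r : R) (h : u ^ (n + 1) = algebraMap R S r) (i : ℕ)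
    (w : Ω[S⁄R]) : T (u ^ i • w) = r ^ (i / (n + 1)) • T (u ^ (i % (n + 1)) • w) := by
  conv_lhs => rw [← Nat.mod_add_div i (n + 1), pow_add, pow_mul, h, ← map_pow, mul_comm,
    ← Algebra.smul_def, smul_assoc, map_smul]

variable (T : Ω[AdjoinRoot (X ^ (n + 1) - C b : R[X])⁄R] →ₗ[R] Ω[R⁄ℤ])
  (hT : ∀ i : ℕ, i + 2 ≤ n + 1 →
    T (AdjoinRoot.root (X ^ (n + 1) - C b) ^ i • KaehlerDifferential.D R _ (AdjoinRoot.root (X ^ (n + 1) - C b))) = 0)

include hT in
theorem T_D (u : AdjoinRoot (X ^ (n + 1) - C b : R[X])) : T (KaehlerDifferential.D R _ u) = 0 := by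
  induction u using AdjoinRoot.induction_on with
  | ih f =>
    rw [← AdjoinRoot.aeval_eq]
    induction f using Polynomial.induction_on' with
    | add f g hf hg => simp only [map_add, hf, hg, add_zero]
    | monomial i c =>
      rw [aeval_monomial, ← Algebra.smul_def, Derivation.map_smul, map_smul, Derivation.leibniz_pow,
        ← Nat.cast_smul_eq_nsmul R, map_smul, smul_smul]
      cases i with
      | zero => simp
      | succ j =>
        rw [Nat.add_sub_cancel, map_pow_smul T _ b (root_pow b) j]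
        rcases Nat.lt_or_ge (j % (n + 1)) n with h | h
        · rw [hT _ (by omega)]
          simp
        · have h' : j % (n + 1) = n := le_antisymm (Nat.lt_succ_iff.1 (Nat.mod_lt _ (Nat.succ_pos n))) h
          have h0 : ((j + 1 : ℕ) : R) = 0 := by
            rw [CharP.cast_eq_zero_iff R (n + 1)]
            exact ⟨j / (n + 1) + 1, by nlinarith [Nat.mod_add_div j (n + 1)]⟩
          rw [h0]
          simp

theorem pow_add_D {S : Type*} [CommRing S] [Algebra R S] (u v : S) :
    ∃ G : S, (u + v) ^ n • KaehlerDifferential.D R S (u + v) =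
      u ^ n • KaehlerDifferential.D R S u + v ^ n • KaehlerDifferential.D R S v
        + KaehlerDifferential.D R S G := by
  have hp : (n + 1).Prime := Fact.out
  let c : ℕ → ℕ := fun j => (n + 1).choose (j + 1) / (n + 1)
  have hc : ∀ j, j < n → (n + 1) * c j = (n + 1).choose (j + 1) := fun j hj =>
    Nat.mul_div_cancel' (hp.dvd_choose_self (Nat.succ_ne_zero j) (by omega))
  have hc1 : ∀ j, j < n → c j * (j + 1) = n.choose j := fun j hj =>
    Nat.eq_of_mul_eq_mul_left (Nat.succ_pos n) (by
      rw [← mul_assoc, hc j hj]; exact (Nat.add_one_mul_choose_eq n j).symm)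
  have hc2 : ∀ j, j < n → c j * (n - j) = n.choose (j + 1) := fun j hj => by
    refine Nat.eq_of_mul_eq_mul_left (Nat.succ_pos n) ?_
    have h1 := Nat.add_one_mul_choose_eq n j
    have h2 := Nat.choose_succ_succ n j
    obtain ⟨k, rfl⟩ : ∃ k, n = j + k := ⟨n - j, by omega⟩
    rw [← mul_assoc, hc j hj, Nat.add_sub_cancel_left]
    simp only [Nat.succ_eq_add_one] at *
    rw [h2] at h1 ⊢
    nlinarith
  refine ⟨∑ j ∈ Finset.range n, c j • (u ^ (j + 1) * v ^ (n - j)), ?_⟩
  have hA : (u + v) ^ n = (∑ j ∈ Finset.range n, c j • ((j + 1) • (u ^ j * v ^ (n - j)))) + u ^ n := by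
    rw [add_pow, Finset.sum_range_succ, Nat.choose_self, Nat.sub_self]
    congr 1
    · refine Finset.sum_congr rfl fun j hj => ?_
      rw [smul_smul, hc1 j (Finset.mem_range.1 hj), nsmul_eq_mul]
      ring
    · simp
  have hB : (u + v) ^ n =
      (∑ j ∈ Finset.range n, c j • ((n - j) • (u ^ (j + 1) * v ^ (n - j - 1)))) + v ^ n := by
    rw [add_pow, Finset.sum_range_succ', Nat.choose_zero_right, Nat.sub_zero]
    congr 1
    · refine Finset.sum_congr rfl fun j hj => ?_
      rw [smul_smul, hc2 j (Finset.mem_range.1 hj), nsmul_eq_mul, Nat.sub_sub]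
      ring
    · simp
  rw [map_add, smul_add]
  nth_rewrite 1 [hA]
  nth_rewrite 1 [hB]
  rw [add_smul, add_smul]
  simp only [Finset.sum_smul, map_sum, map_nsmul, Derivation.leibniz, Derivation.leibniz_pow,
    Nat.add_sub_cancel]
  have hG : ∀ j ∈ Finset.range n,
      c j • (u ^ (j + 1) • (n - j) • v ^ (n - j - 1) • KaehlerDifferential.D R S v +
        v ^ (n - j) • (j + 1) • u ^ j • KaehlerDifferential.D R S u) =
      (c j • ((j + 1) • (u ^ j * v ^ (n - j)))) • KaehlerDifferential.D R S u +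
      (c j • ((n - j) • (u ^ (j + 1) * v ^ (n - j - 1)))) • KaehlerDifferential.D R S v := by
    intro j _
    simp only [nsmul_eq_mul, ← Nat.cast_smul_eq_nsmul S, smul_eq_mul]
    module
  rw [Finset.sum_congr rfl hG, Finset.sum_add_distrib]
  abel

variable (hT' : T (AdjoinRoot.root (X ^ (n + 1) - C b) ^ n •
    KaehlerDifferential.D R _ (AdjoinRoot.root (X ^ (n + 1) - C b))) = KaehlerDifferential.D ℤ R b)

include hT hT' in
theorem T_pow (u : AdjoinRoot (X ^ (n + 1) - C b : R[X])) :
    ∃ r : R, u ^ (n + 1) = algebraMap R _ r ∧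
      T (u ^ n • KaehlerDifferential.D R _ u) = KaehlerDifferential.D ℤ R r := by
  induction u using AdjoinRoot.induction_on with
  | ih f =>
    rw [← AdjoinRoot.aeval_eq]
    induction f using Polynomial.induction_on' with
    | add f g hf hg =>
      obtain ⟨r, hr1, hr2⟩ := hf
      obtain ⟨s, hs1, hs2⟩ := hg
      refine ⟨r + s, ?_, ?_⟩
      · obtain ⟨z, hz⟩ := exists_add_pow_prime_eq (Fact.out : (n + 1).Prime)
          (aeval (AdjoinRoot.root (X ^ (n + 1) - C b : R[X])) f)
          (aeval (AdjoinRoot.root (X ^ (n + 1) - C b : R[X])) g)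
        rw [map_add, hz, hr1, hs1, map_add]
        rw [← map_natCast (algebraMap R (AdjoinRoot (X ^ (n + 1) - C b : R[X]))), CharP.cast_eq_zero]
        simp
      · obtain ⟨G, hG⟩ := pow_add_D (R := R) (n := n)
          (aeval (AdjoinRoot.root (X ^ (n + 1) - C b : R[X])) f)
          (aeval (AdjoinRoot.root (X ^ (n + 1) - C b : R[X])) g)
        rw [map_add (aeval _), hG, map_add, map_add, hr2, hs2, T_D b T hT, add_zero, map_add]
    | monomial j c =>
      refine ⟨c ^ (n + 1) * b ^ j, ?_, ?_⟩
      · rw [aeval_monomial, mul_pow, ← pow_mul, mul_comm j (n + 1), pow_mul, root_pow, map_mul,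
          map_pow, map_pow]
      · have hc : KaehlerDifferential.D ℤ R (c ^ (n + 1)) = 0 := by
          rw [Derivation.leibniz_pow, ← Nat.cast_smul_eq_nsmul R, CharP.cast_eq_zero, zero_smul]
        rw [Derivation.leibniz, hc, smul_zero, add_zero, Derivation.leibniz_pow, aeval_monomial,
          ← Algebra.smul_def, Derivation.map_smul, Derivation.leibniz_pow]
        cases j with
        | zero => simp
        | succ k =>
          try simp only [Nat.add_sub_cancel]
          have e : (c • AdjoinRoot.root (X ^ (n + 1) - C b : R[X]) ^ (k + 1)) ^ n •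
              c • (k + 1) • AdjoinRoot.root (X ^ (n + 1) - C b : R[X]) ^ k •
                KaehlerDifferential.D R _ (AdjoinRoot.root (X ^ (n + 1) - C b : R[X])) =
              (c ^ (n + 1) * ((k + 1 : ℕ) : R) * b ^ k) • AdjoinRoot.root (X ^ (n + 1) - C b : R[X]) ^ n •
                KaehlerDifferential.D R _ (AdjoinRoot.root (X ^ (n + 1) - C b : R[X])) := by
            set S := AdjoinRoot (X ^ (n + 1) - C b : R[X])
            rw [← algebraMap_smul S c, ← algebraMap_smul S c, ← algebraMap_smul S (_ * _ * _),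
              ← Nat.cast_smul_eq_nsmul S (k + 1), smul_smul, smul_smul, smul_smul, smul_smul]
            congr 1
            rw [map_mul, map_mul, map_pow, map_pow, map_natCast, ← root_pow b, smul_eq_mul]
            ring
          rw [e, map_smul, hT', ← Nat.cast_smul_eq_nsmul R, smul_smul, smul_smul]

end


/-- Let p be a prime number and R an F_p-algebra, a, b ∈ R, S_a = R[x]/(x^p - a) and S_b = R[y]/(y^p -
b). The trace Tr_x : Ω_{S_a/R} → Ω_R is the R-linear map with x^i dx ↦ 0 for 0 ≤ i ≤ p - 2 and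
x^{p-1} dx ↦ da (these determine it, Ω_{S_a/R} being free over R on the x^i dx), and similarly Tr_y.
Then for every R-algebra homomorphism φ : S_a → S_b one has Tr_x = Tr_y ∘ φ_*: for all s, t ∈ S_a,
Tr_x(s dt) = Tr_y(φ(s) dφ(t)). Here Ω_R is the module of absolute differentials Ω_{R/Z}. -/
theorem result (p : ℕ) [Fact p.Prime] (R : Type u) [CommRing R] [CharP R p] (a b : R)
    (φ : AdjoinRoot (X ^ p - C a : R[X]) →ₐ[R] AdjoinRoot (X ^ p - C b : R[X]))
    (Tx : Ω[AdjoinRoot (X ^ p - C a : R[X])⁄R] →ₗ[R] Ω[R⁄ℤ])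
    (Ty : Ω[AdjoinRoot (X ^ p - C b : R[X])⁄R] →ₗ[R] Ω[R⁄ℤ])
    (hTx : ∀ i : ℕ, i + 2 ≤ p →
      Tx (AdjoinRoot.root (X ^ p - C a) ^ i • KaehlerDifferential.D R _ (AdjoinRoot.root (X ^ p - C a))) = 0)
    (hTx' : Tx (AdjoinRoot.root (X ^ p - C a) ^ (p - 1) • KaehlerDifferential.D R _ (AdjoinRoot.root (X ^ p - C a))) =
      KaehlerDifferential.D ℤ R a)
    (hTy : ∀ i : ℕ, i + 2 ≤ p →
      Ty (AdjoinRoot.root (X ^ p - C b) ^ i • KaehlerDifferential.D R _ (AdjoinRoot.root (X ^ p - C b))) = 0)
    (hTy' : Ty (AdjoinRoot.root (X ^ p - C b) ^ (p - 1) • KaehlerDifferential.D R _ (AdjoinRoot.root (X ^ p - C b))) =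
      KaehlerDifferential.D ℤ R b)
    (s t : AdjoinRoot (X ^ p - C a : R[X])) :
    Tx (s • KaehlerDifferential.D R _ t) = Ty (φ s • KaehlerDifferential.D R _ (φ t)) := by
  classical
  obtain ⟨n, rfl⟩ : ∃ n, p = n + 1 :=
    ⟨p - 1, (Nat.sub_add_cancel (Nat.Prime.one_le (Fact.out : p.Prime))).symm⟩
  have hp : (n + 1).Prime := Fact.out
  simp only [Nat.add_sub_cancel] at hTx' hTy'
  set x := AdjoinRoot.root (X ^ (n + 1) - C a : R[X]) with hx
  -- the key identity on the monomials
  have key : ∀ i : ℕ, Tx (x ^ i • KaehlerDifferential.D R _ x) =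
      Ty (φ x ^ i • KaehlerDifferential.D R _ (φ x)) := by
    intro i
    have hi := Nat.mod_add_div i (n + 1)
    have h1 : x ^ (n + 1) = algebraMap R _ a := root_pow a
    have h2 : φ x ^ (n + 1) = algebraMap R _ a := by rw [← map_pow, h1, AlgHom.commutes]
    rw [map_pow_smul Tx x a h1 i, map_pow_smul Ty (φ x) a h2 i]
    congr 1
    have hr : i % (n + 1) < n + 1 := Nat.mod_lt _ (Nat.succ_pos _)
    generalize i % (n + 1) = r at hr
    rcases Nat.lt_or_ge r n with hrn | hrn
    · rw [hTx r (by omega)]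
      have hu : IsUnit ((r + 1 : ℕ) : R) := by
        have h : IsUnit ((r + 1 : ℕ) : ZMod (n + 1)) :=
          (ZMod.isUnit_iff_coprime _ _).2 (Nat.coprime_of_lt_prime (by omega) (by omega) hp).symm
        simpa only [map_natCast] using h.map (ZMod.castHom (dvd_refl (n + 1)) R)
      have h3 := T_D b Ty hTy (φ x ^ (r + 1))
      rw [Derivation.leibniz_pow, Nat.add_sub_cancel, ← Nat.cast_smul_eq_nsmul R, map_smul] at h3
      exact ((hu.smul_eq_zero).1 h3).symm
    · obtain rfl : r = n := by omega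
      rw [hTx']
      obtain ⟨r', hr', hr''⟩ := T_pow b Ty hTy hTy' (φ x)
      rw [hr'']
      exact congrArg _ (algebraMap_inj b (h2.symm.trans hr'))
  have key' : ∀ s' : AdjoinRoot (X ^ (n + 1) - C a : R[X]),
      Tx (s' • KaehlerDifferential.D R _ x) = Ty (φ s' • KaehlerDifferential.D R _ (φ x)) := by
    intro s'
    induction s' using AdjoinRoot.induction_on with
    | ih f =>
      rw [← AdjoinRoot.aeval_eq, ← hx]
      induction f using Polynomial.induction_on' with
      | add f g hf hg => simp only [map_add, add_smul, hf, hg]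
      | monomial i c =>
        simp only [aeval_monomial, ← Algebra.smul_def, map_smul, map_pow, smul_assoc, key]
  induction t using AdjoinRoot.induction_on with
  | ih f =>
    rw [← AdjoinRoot.aeval_eq, ← hx, ← Polynomial.aeval_algHom_apply φ x f]
    rw [Derivation.map_aeval, Derivation.map_aeval, Polynomial.aeval_algHom_apply φ x, smul_smul,
      smul_smul, ← map_mul, key']

end Groth.Agent.S7340
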