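import Groth.Statements.S7341
import Groth.Agent.NumType.Dynkin

set_option autoImplicit false
open Finset
open Models Models.NumericalType

namespace Groth.Agent.S7341

/-- Classification of proper subgraphs which are chains of three vertices: let T be a numerical type on
n > 3 indices and i, j, k distinct (-2)-indices with a_ij > 0 and a_jk > 0. Then a_ik = 0 and, up to
reversing the order of i, j, k, one of the following holds for some integer w: (A3) w_i = w_j = w_k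
= w, a_ij = a_jk = w, with 2 m_i ≥ m_j, 2 m_j ≥ m_i + m_k, 2 m_k ≥ m_j; (C3) w_i = w_j = w, w_k =
2w, a_ij = w, a_jk = 2w, with 2 m_i ≥ m_j, 2 m_j ≥ m_i + 2 m_k, 2 m_k ≥ m_j; (B3) w_i = w_j = 2w,
w_k = w, a_ij = a_jk = 2w, with 2 m_i ≥ m_j, 2 m_j ≥ m_i + m_k, m_k ≥ m_j. -/
theorem result {n : ℕ} (T : Models.NumericalType n) (hn : 3 < n) (i j k : Fin n)
    (hij : i ≠ j) (hjk : j ≠ k) (hik : i ≠ k) (hi : T.IsMinusTwo i) (hj : T.IsMinusTwo j) (hk : T.IsMinusTwo k)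
    (h1 : 0 < T.a i j) (h2 : 0 < T.a j k) :
    T.a i k = 0 ∧ ∃ (i' k' : Fin n) (w : ℤ), ((i' = i ∧ k' = k) ∨ (i' = k ∧ k' = i)) ∧
      ((T.w i' = w ∧ T.w j = w ∧ T.w k' = w ∧ T.a i' j = w ∧ T.a j k' = w ∧
          T.m j ≤ 2 * T.m i' ∧ T.m i' + T.m k' ≤ 2 * T.m j ∧ T.m j ≤ 2 * T.m k') ∨
        (T.w i' = w ∧ T.w j = w ∧ T.w k' = 2 * w ∧ T.a i' j = w ∧ T.a j k' = 2 * w ∧
          T.m j ≤ 2 * T.m i' ∧ T.m i' + 2 * T.m k' ≤ 2 * T.m j ∧ T.m j ≤ 2 * T.m k') ∨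
        (T.w i' = 2 * w ∧ T.w j = 2 * w ∧ T.w k' = w ∧ T.a i' j = 2 * w ∧ T.a j k' = 2 * w ∧
          T.m j ≤ 2 * T.m i' ∧ T.m i' + T.m k' ≤ 2 * T.m j ∧ T.m j ≤ T.m k')) := by
  let v : Fin 3 ↪ Fin n := ⟨![i, j, k], by
    intro a b h; fin_cases a <;> fin_cases b <;> simp_all [Ne.symm hij, Ne.symm hjk, Ne.symm hik]⟩
  have hv : ∀ s, T.IsMinusTwo (v s) := by intro s; fin_cases s <;> assumption
  have h01 : T.a (v 0) (v 1) ≠ 0 := h1.ne'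
  have h12 : T.a (v 1) (v 2) ≠ 0 := h2.ne'
  show T.a (v 0) (v 2) = 0 ∧ ∃ (i' k' : Fin n) (w : ℤ), ((i' = (v 0) ∧ k' = (v 2)) ∨ (i' = (v 2) ∧ k' = (v 0))) ∧
      ((T.w i' = w ∧ T.w (v 1) = w ∧ T.w k' = w ∧ T.a i' (v 1) = w ∧ T.a (v 1) k' = w ∧
          T.m (v 1) ≤ 2 * T.m i' ∧ T.m i' + T.m k' ≤ 2 * T.m (v 1) ∧ T.m (v 1) ≤ 2 * T.m k') ∨
        (T.w i' = w ∧ T.w (v 1) = w ∧ T.w k' = 2 * w ∧ T.a i' (v 1) = w ∧ T.a (v 1) k' = 2 * w ∧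
          T.m (v 1) ≤ 2 * T.m i' ∧ T.m i' + 2 * T.m k' ≤ 2 * T.m (v 1) ∧ T.m (v 1) ≤ 2 * T.m k') ∨
        (T.w i' = 2 * w ∧ T.w (v 1) = 2 * w ∧ T.w k' = w ∧ T.a i' (v 1) = 2 * w ∧ T.a (v 1) k' = 2 * w ∧
          T.m (v 1) ≤ 2 * T.m i' ∧ T.m i' + T.m k' ≤ 2 * T.m (v 1) ∧ T.m (v 1) ≤ T.m k'))
  have hchain : ∀ s s' : Fin 3, s'.val = s.val + 1 → T.a (v s) (v s') ≠ 0 := by
    intro s s' e
    fin_cases s <;> fin_cases s' <;> simp at e <;> assumption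
  have hch := NumType.chain_no_chord T v (by omega) hv hchain
  have z02 : T.a (v 0) (v 2) = 0 := hch 0 2 (by decide)
  have y20 : T.a (v 2) (v 0) = 0 := by rw [NumType.a_symm]; exact z02
  obtain ⟨x, p, q, w, hx, hpq, hw, hwt, ha⟩ :=
    NumType.chain_classify T v (by omega) hv hchain (by omega)
  have W0 : T.w (v 0) = _ := hwt 0
  have W1 : T.w (v 1) = _ := hwt 1
  have W2 : T.w (v 2) = _ := hwt 2
  have A0 : T.a (v 0) (v 1) = _ := ha 0 1 rfl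
  have B0 : T.a (v 1) (v 0) = _ := (NumType.a_symm T (v 1) (v 0)).trans A0
  have A1 : T.a (v 1) (v 2) = _ := ha 1 2 rfl
  have B1 : T.a (v 2) (v 1) = _ := (NumType.a_symm T (v 2) (v 1)).trans A1
  have R0 := NumType.sub_row_nonpos T v 0
  rw [Fin.sum_univ_three, (hv 0).2, W0, A0, z02] at R0
  have R1 := NumType.sub_row_nonpos T v 1
  rw [Fin.sum_univ_three, (hv 1).2, W1, B0, A1] at R1
  have R2 := NumType.sub_row_nonpos T v 2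
  rw [Fin.sum_univ_three, (hv 2).2, W2, y20, B1] at R2
  refine ⟨z02, ?_⟩
  rcases hpq with ⟨rfl, rfl⟩ | ⟨hpq, h5⟩
  · simp only [ite_self, one_mul] at W0 W1 W2 A0 B0 A1 B1 R0 R1 R2
    refine ⟨v 0, v 2, w, Or.inl ⟨rfl, rfl⟩, Or.inl ⟨?_, ?_, ?_, ?_, ?_, ?_, ?_, ?_⟩⟩ <;>
      first | linarith | exact le_of_mul_le_mul_left (by linarith) hw
  · rcases (show x = 0 ∨ x = 1 by omega) with rfl | rfl <;>
      rcases hpq with ⟨rfl, rfl⟩ | ⟨rfl, rfl⟩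
    · norm_num at W0 W1 W2 A0 B0 A1 B1 R0 R1 R2
      refine ⟨v 2, v 0, w, Or.inr ⟨rfl, rfl⟩, Or.inr (Or.inr (⟨?_, ?_, ?_, ?_, ?_, ?_, ?_, ?_⟩))⟩ <;>
        first | linarith | exact le_of_mul_le_mul_left (by linarith) hw
    · norm_num at W0 W1 W2 A0 B0 A1 B1 R0 R1 R2
      refine ⟨v 2, v 0, w, Or.inr ⟨rfl, rfl⟩, Or.inr (Or.inl ⟨?_, ?_, ?_, ?_, ?_, ?_, ?_, ?_⟩)⟩ <;>
        first | linarith | exact le_of_mul_le_mul_left (by linarith) hw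
    · norm_num at W0 W1 W2 A0 B0 A1 B1 R0 R1 R2
      refine ⟨v 0, v 2, w, Or.inl ⟨rfl, rfl⟩, Or.inr (Or.inl ⟨?_, ?_, ?_, ?_, ?_, ?_, ?_, ?_⟩)⟩ <;>
        first | linarith | exact le_of_mul_le_mul_left (by linarith) hw
    · norm_num at W0 W1 W2 A0 B0 A1 B1 R0 R1 R2
      refine ⟨v 0, v 2, w, Or.inl ⟨rfl, rfl⟩, Or.inr (Or.inr (⟨?_, ?_, ?_, ?_, ?_, ?_, ?_, ?_⟩))⟩ <;>
        first | linarith | exact le_of_mul_le_mul_left (by linarith) hw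

end Groth.Agent.S7341
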