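import Groth.Statements.S7342
import Groth.Agent.NumType.QuadForm

set_option autoImplicit false
open Finset
open Models Models.NumericalType

namespace Groth.Agent.S7342

/-- Let T be a numerical type on n indices, t ≥ 4 and n > t + 2. Then no t + 2 (-2)-indices of T,
pairwise distinct and numbered i_0, …, i_{t+1}, satisfy: a_{i_j i_{j+1}} > 0 for 1 ≤ j ≤ t - 1,
a_{i_0 i_2} > 0 and a_{i_{t-1} i_{t+1}} > 0. -/
theorem result {n : ℕ} (T : Models.NumericalType n) (t : ℕ) (ht : 4 ≤ t) (hn : t + 2 < n)
    (v : Fin (t + 2) ↪ Fin n) (hv : ∀ j, T.IsMinusTwo (v j))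
    (hchain : ∀ j j' : Fin (t + 2), 1 ≤ j.val → j.val + 1 ≤ t → j'.val = j.val + 1 → 0 < T.a (v j) (v j'))
    (h02 : ∀ j j' : Fin (t + 2), j.val = 0 → j'.val = 2 → 0 < T.a (v j) (v j'))
    (hlast : ∀ j j' : Fin (t + 2), j.val = t - 1 → j'.val = t + 1 → 0 < T.a (v j) (v j')) : False := by
  set c : Fin (t + 2) → ℕ := fun s => if s.val ≤ 1 ∨ t ≤ s.val then 1 else 2
  set Adj : Fin (t + 2) → Fin (t + 2) → Prop := fun s r =>
    (1 ≤ s.val ∧ s.val + 1 ≤ t ∧ r.val = s.val + 1) ∨ (1 ≤ r.val ∧ r.val + 1 ≤ t ∧ s.val = r.val + 1) ∨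
    (s.val = 0 ∧ r.val = 2) ∨ (r.val = 0 ∧ s.val = 2) ∨
    (s.val = t - 1 ∧ r.val = t + 1) ∨ (r.val = t - 1 ∧ s.val = t + 1) with hAdj
  classical
  refine NumType.no_config T v hn hv (fun s r => if Adj s r then 1 else 0) ?_ ?_ c
    ⟨⟨0, by omega⟩, by simp [c]⟩ ?_
  · intro s; simp only [hAdj]; rw [if_neg]; omega
  · intro s r hsr
    split_ifs with h
    · simp only [hAdj] at h
      have hpos : 0 < T.a (v s) (v r) := by
        rcases h with ⟨a, b, c⟩ | ⟨a, b, c⟩ | ⟨a, b⟩ | ⟨a, b⟩ | ⟨a, b⟩ | ⟨a, b⟩
        · exact hchain s r a b c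
        · rw [NumType.a_symm]; exact hchain r s a b c
        · exact h02 s r a b
        · rw [NumType.a_symm]; exact h02 r s a b
        · exact hlast s r a b
        · rw [NumType.a_symm]; exact hlast r s a b
      simpa using NumType.w_le_a T (v.injective.ne hsr) hpos.ne'
    · simpa using T.offDiag_nonneg _ _ (v.injective.ne hsr)
  · intro s _
    have two : ∀ a b : Fin (t + 2), a ≠ b → Adj s a → Adj s b → c a + c b ≤
        ∑ r, (if Adj s r then 1 else 0) * c r := by
      intro a b hab ha hb
      refine le_trans (le_of_eq ?_) (Finset.sum_le_sum_of_subset (Finset.subset_univ {a, b}))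
      rw [Finset.sum_pair hab, if_pos ha, if_pos hb, one_mul, one_mul]
    have three : ∀ a b d : Fin (t + 2), a ≠ b → a ≠ d → b ≠ d → Adj s a → Adj s b → Adj s d →
        c a + c b + c d ≤ ∑ r, (if Adj s r then 1 else 0) * c r := by
      intro a b d hab had hbd ha hb hd
      refine le_trans (le_of_eq ?_) (Finset.sum_le_sum_of_subset (Finset.subset_univ {a, b, d}))
      rw [Finset.sum_insert (by simp [hab, had]), Finset.sum_pair hbd, if_pos ha, if_pos hb,
        if_pos hd, one_mul, one_mul, one_mul, add_assoc]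
    have one : ∀ a : Fin (t + 2), Adj s a → c a ≤ ∑ r, (if Adj s r then 1 else 0) * c r := by
      intro a ha
      have := Finset.single_le_sum (f := fun r => (if Adj s r then 1 else 0) * c r)
        (fun _ _ => Nat.zero_le _) (Finset.mem_univ a)
      simpa [ha] using this
    have hs := s.isLt
    rcases (show s.val = 0 ∨ s.val = 1 ∨ s.val = 2 ∨ (3 ≤ s.val ∧ s.val + 2 ≤ t) ∨ s.val + 1 = t ∨
        s.val = t ∨ s.val = t + 1 by omega) with h | h | h | h | h | h | h
    · refine le_trans ?_ (one ⟨2, by omega⟩ (by simp only [hAdj, and_true, true_and, or_true, true_or] <;> omega)); simp only [c]; split_ifs <;> omega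
    · refine le_trans ?_ (one ⟨2, by omega⟩ (by simp only [hAdj, and_true, true_and, or_true, true_or] <;> omega)); simp only [c]; split_ifs <;> omega
    · refine le_trans ?_ (three ⟨0, by omega⟩ ⟨1, by omega⟩ ⟨3, by omega⟩ (by simp) (by simp) (by simp)
        (by simp only [hAdj, and_true, true_and, or_true, true_or] <;> omega) (by simp only [hAdj, and_true, true_and, or_true, true_or] <;> omega) (by simp only [hAdj, and_true, true_and, or_true, true_or] <;> omega))
      simp only [c]; split_ifs <;> omega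
    · refine le_trans ?_ (two ⟨s.val - 1, by omega⟩ ⟨s.val + 1, by omega⟩ (by simp [Fin.ext_iff] <;> omega)
        (by simp only [hAdj, and_true, true_and, or_true, true_or] <;> omega) (by simp only [hAdj, and_true, true_and, or_true, true_or] <;> omega))
      simp only [c]; split_ifs <;> omega
    · refine le_trans ?_ (three ⟨t - 2, by omega⟩ ⟨t, by omega⟩ ⟨t + 1, by omega⟩
        (by simp [Fin.ext_iff]; omega) (by simp [Fin.ext_iff]; omega) (by simp [Fin.ext_iff])
        (by simp only [hAdj, and_true, true_and, or_true, true_or] <;> omega) (by simp only [hAdj, and_true, true_and, or_true, true_or] <;> omega) (by simp only [hAdj, and_true, true_and, or_true, true_or] <;> omega))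
      simp only [c]; split_ifs <;> omega
    · refine le_trans ?_ (one ⟨t - 1, by omega⟩ (by simp only [hAdj, and_true, true_and, or_true, true_or] <;> omega)); simp only [c]; split_ifs <;> omega
    · refine le_trans ?_ (one ⟨t - 1, by omega⟩ (by simp only [hAdj, and_true, true_and, or_true, true_or] <;> omega)); simp only [c]; split_ifs <;> omega

end Groth.Agent.S7342
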