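import Groth.Statements.S7346
import Groth.Agent.NumType.Dynkin

set_option autoImplicit false
open Finset
open Models Models.NumericalType

namespace Groth.Agent.S7346

/-- Classification of proper subgraphs of type D4 (one vertex joined to three others): let T be a
numerical type on n > 4 indices and i_1, …, i_4 distinct (-2)-indices with a_{12}, a_{13}, a_{14}
nonzero. Then for some integer w all w_{i_j} equal w, these intersection numbers equal w, all other
a_{i_j i_k} (j ≠ k) vanish, and 2 m_1 ≥ m_2 + m_3 + m_4, 2 m_2 ≥ m_1, 2 m_3 ≥ m_1, 2 m_4 ≥ m_1. -/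
theorem result {n : ℕ} (T : Models.NumericalType n) (hn : 4 < n)
    (v : Fin 4 ↪ Fin n) (hv : ∀ j, T.IsMinusTwo (v j)) (h01 : T.a (v 0) (v 1) ≠ 0) (h02 : T.a (v 0) (v 2) ≠ 0) (h03 : T.a (v 0) (v 3) ≠ 0) :
    ∃ w : ℤ, (∀ j : Fin 4, T.w (v j) = w) ∧
      T.a (v 0) (v 1) = w ∧
      T.a (v 0) (v 2) = w ∧
      T.a (v 0) (v 3) = w ∧
      T.a (v 1) (v 2) = 0 ∧
      T.a (v 1) (v 3) = 0 ∧
      T.a (v 2) (v 3) = 0 ∧
      T.m (v 1) + T.m (v 2) + T.m (v 3) ≤ 2 * T.m (v 0) ∧
      T.m (v 0) ≤ 2 * T.m (v 1) ∧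
      T.m (v 0) ≤ 2 * T.m (v 2) ∧
      T.m (v 0) ≤ 2 * T.m (v 3) := by

  obtain ⟨he, hne⟩ := NumType.rigid T v hn hv [(0, 1), (0, 2), (0, 3)]
    (by decide) (by simp only [List.forall_mem_cons]; exact ⟨h01,h02,h03, fun x hx => by simp at hx⟩)
    [![2, 1, 1, 1], ![2, 2, 1, 1], ![1, 1, 1, 0], ![1, 1, 0, 1], ![2, 1, 2, 1], ![1, 0, 1, 1], ![2, 1, 1, 2]] (by decide +kernel)
  obtain ⟨e01, f01⟩ := he 0 1 (by decide)
  obtain ⟨e02, f02⟩ := he 0 2 (by decide)
  obtain ⟨e03, f03⟩ := he 0 3 (by decide)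
  refine ⟨T.w (v 0), fun j => by fin_cases j <;> simp <;> linarith, by linarith, by linarith, by linarith, hne 1 2 (by decide) (by decide), hne 1 3 (by decide) (by decide), hne 2 3 (by decide) (by decide), ?_, ?_, ?_, ?_⟩
  · have h := NumType.sub_row_nonpos T v 0
    simp only [Fin.sum_univ_four] at h
    rw [(hv 0).2, e01, e02, e03] at h
    nlinarith [T.w_pos (v 0)]
  · have h := NumType.sub_row_nonpos T v 1
    simp only [Fin.sum_univ_four] at h
    rw [NumType.a_symm T (v 1) (v 0), f01, (hv 1).2, hne 1 2 (by decide) (by decide), hne 1 3 (by decide) (by decide)] at h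
    nlinarith [T.w_pos (v 1)]
  · have h := NumType.sub_row_nonpos T v 2
    simp only [Fin.sum_univ_four] at h
    rw [NumType.a_symm T (v 2) (v 0), f02, hne 2 1 (by decide) (by decide), (hv 2).2, hne 2 3 (by decide) (by decide)] at h
    nlinarith [T.w_pos (v 2)]
  · have h := NumType.sub_row_nonpos T v 3
    simp only [Fin.sum_univ_four] at h
    rw [NumType.a_symm T (v 3) (v 0), f03, hne 3 1 (by decide) (by decide), hne 3 2 (by decide) (by decide), (hv 3).2] at h
    nlinarith [T.w_pos (v 3)]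

end Groth.Agent.S7346
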