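import Groth.Statements.S7347
import Groth.Agent.NumType.Dynkin

set_option autoImplicit false
open Finset
open Models Models.NumericalType

namespace Groth.Agent.S7347

/-- Classification of proper subgraphs of type D5 (a chain i_1 i_2 i_3 with i_4 and i_5 both joined to
i_3): let T be a numerical type on n > 5 indices and i_1, …, i_5 distinct (-2)-indices with a_{12},
a_{23}, a_{34}, a_{35} nonzero. Then for some integer w all w_{i_j} equal w, these intersection
numbers equal w, all other a_{i_j i_k} (j ≠ k) vanish, and 2 m_1 ≥ m_2, 2 m_2 ≥ m_1 + m_3, 2 m_3 ≥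
m_2 + m_4 + m_5, 2 m_4 ≥ m_3, 2 m_5 ≥ m_3. -/
theorem result {n : ℕ} (T : Models.NumericalType n) (hn : 5 < n)
    (v : Fin 5 ↪ Fin n) (hv : ∀ j, T.IsMinusTwo (v j)) (h01 : T.a (v 0) (v 1) ≠ 0) (h12 : T.a (v 1) (v 2) ≠ 0) (h23 : T.a (v 2) (v 3) ≠ 0) (h24 : T.a (v 2) (v 4) ≠ 0) :
    ∃ w : ℤ, (∀ j : Fin 5, T.w (v j) = w) ∧
      T.a (v 0) (v 1) = w ∧
      T.a (v 1) (v 2) = w ∧
      T.a (v 2) (v 3) = w ∧
      T.a (v 2) (v 4) = w ∧
      T.a (v 0) (v 2) = 0 ∧
      T.a (v 0) (v 3) = 0 ∧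
      T.a (v 0) (v 4) = 0 ∧
      T.a (v 1) (v 3) = 0 ∧
      T.a (v 1) (v 4) = 0 ∧
      T.a (v 3) (v 4) = 0 ∧
      T.m (v 1) ≤ 2 * T.m (v 0) ∧
      T.m (v 0) + T.m (v 2) ≤ 2 * T.m (v 1) ∧
      T.m (v 1) + T.m (v 3) + T.m (v 4) ≤ 2 * T.m (v 2) ∧
      T.m (v 2) ≤ 2 * T.m (v 3) ∧
      T.m (v 2) ≤ 2 * T.m (v 4) := by

  obtain ⟨he, hne⟩ := NumType.rigid T v hn hv [(0, 1), (1, 2), (2, 3), (2, 4)]
    (by decide) (by simp only [List.forall_mem_cons]; exact ⟨h01,h12,h23,h24, fun x hx => by simp at hx⟩)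
    [![2, 2, 2, 1, 1], ![1, 1, 1, 1, 0], ![1, 1, 1, 0, 1], ![1, 2, 2, 1, 1], ![0, 1, 2, 1, 1], ![0, 1, 2, 2, 1], ![0, 0, 1, 1, 1], ![0, 1, 2, 1, 2]] (by decide +kernel)
  obtain ⟨e01, f01⟩ := he 0 1 (by decide)
  obtain ⟨e12, f12⟩ := he 1 2 (by decide)
  obtain ⟨e23, f23⟩ := he 2 3 (by decide)
  obtain ⟨e24, f24⟩ := he 2 4 (by decide)
  refine ⟨T.w (v 0), fun j => by fin_cases j <;> simp <;> linarith, by linarith, by linarith, by linarith, by linarith, hne 0 2 (by decide) (by decide), hne 0 3 (by decide) (by decide), hne 0 4 (by decide) (by decide), hne 1 3 (by decide) (by decide), hne 1 4 (by decide) (by decide), hne 3 4 (by decide) (by decide), ?_, ?_, ?_, ?_, ?_⟩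
  · have h := NumType.sub_row_nonpos T v 0
    simp only [Fin.sum_univ_five] at h
    rw [(hv 0).2, e01, hne 0 2 (by decide) (by decide), hne 0 3 (by decide) (by decide), hne 0 4 (by decide) (by decide)] at h
    nlinarith [T.w_pos (v 0)]
  · have h := NumType.sub_row_nonpos T v 1
    simp only [Fin.sum_univ_five] at h
    rw [NumType.a_symm T (v 1) (v 0), f01, (hv 1).2, e12, hne 1 3 (by decide) (by decide), hne 1 4 (by decide) (by decide)] at h
    nlinarith [T.w_pos (v 1)]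
  · have h := NumType.sub_row_nonpos T v 2
    simp only [Fin.sum_univ_five] at h
    rw [hne 2 0 (by decide) (by decide), NumType.a_symm T (v 2) (v 1), f12, (hv 2).2, e23, e24] at h
    nlinarith [T.w_pos (v 2)]
  · have h := NumType.sub_row_nonpos T v 3
    simp only [Fin.sum_univ_five] at h
    rw [hne 3 0 (by decide) (by decide), hne 3 1 (by decide) (by decide), NumType.a_symm T (v 3) (v 2), f23, (hv 3).2, hne 3 4 (by decide) (by decide)] at h
    nlinarith [T.w_pos (v 3)]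
  · have h := NumType.sub_row_nonpos T v 4
    simp only [Fin.sum_univ_five] at h
    rw [hne 4 0 (by decide) (by decide), hne 4 1 (by decide) (by decide), NumType.a_symm T (v 4) (v 2), f24, hne 4 3 (by decide) (by decide), (hv 4).2] at h
    nlinarith [T.w_pos (v 4)]

end Groth.Agent.S7347
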