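import Groth.Statements.S7348
import Groth.Agent.NumType.Dynkin

set_option autoImplicit false
open Finset
open Models Models.NumericalType

namespace Groth.Agent.S7348

/-- Classification of proper subgraphs of type E6 (a chain i_1 … i_5 with i_6 joined to i_3): let T be a
numerical type on n > 6 indices and i_1, …, i_6 distinct (-2)-indices with a_{12}, a_{23}, a_{34},
a_{45}, a_{36} nonzero. Then for some integer w all w_{i_j} equal w, these intersection numbers
equal w, all other a_{i_j i_k} (j ≠ k) vanish, and 2 m_1 ≥ m_2, 2 m_2 ≥ m_1 + m_3, 2 m_3 ≥ m_2 + m_4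
+ m_6, 2 m_4 ≥ m_3 + m_5, 2 m_5 ≥ m_4, 2 m_6 ≥ m_3. (The published list of inequalities has 2 m_5 ≥
m_3 where the intersection matrix gives 2 m_5 ≥ m_4; the former fails for the extended E8
configuration of multiplicities 4, 5, 6, 4, 2 with 3 attached to the third vertex, so 2 m_5 ≥ m_4 is
stated.) -/
theorem result {n : ℕ} (T : Models.NumericalType n) (hn : 6 < n)
    (v : Fin 6 ↪ Fin n) (hv : ∀ j, T.IsMinusTwo (v j)) (h01 : T.a (v 0) (v 1) ≠ 0) (h12 : T.a (v 1) (v 2) ≠ 0) (h23 : T.a (v 2) (v 3) ≠ 0) (h34 : T.a (v 3) (v 4) ≠ 0) (h25 : T.a (v 2) (v 5) ≠ 0) :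
    ∃ w : ℤ, (∀ j : Fin 6, T.w (v j) = w) ∧
      T.a (v 0) (v 1) = w ∧
      T.a (v 1) (v 2) = w ∧
      T.a (v 2) (v 3) = w ∧
      T.a (v 3) (v 4) = w ∧
      T.a (v 2) (v 5) = w ∧
      T.a (v 0) (v 2) = 0 ∧
      T.a (v 0) (v 3) = 0 ∧
      T.a (v 0) (v 4) = 0 ∧
      T.a (v 0) (v 5) = 0 ∧
      T.a (v 1) (v 3) = 0 ∧
      T.a (v 1) (v 4) = 0 ∧
      T.a (v 1) (v 5) = 0 ∧
      T.a (v 2) (v 4) = 0 ∧
      T.a (v 3) (v 5) = 0 ∧
      T.a (v 4) (v 5) = 0 ∧
      T.m (v 1) ≤ 2 * T.m (v 0) ∧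
      T.m (v 0) + T.m (v 2) ≤ 2 * T.m (v 1) ∧
      T.m (v 1) + T.m (v 3) + T.m (v 5) ≤ 2 * T.m (v 2) ∧
      T.m (v 2) + T.m (v 4) ≤ 2 * T.m (v 3) ∧
      T.m (v 3) ≤ 2 * T.m (v 4) ∧
      T.m (v 2) ≤ 2 * T.m (v 5) := by

  obtain ⟨he, hne⟩ := NumType.rigid T v hn hv [(0, 1), (1, 2), (2, 3), (3, 4), (2, 5)]
    (by decide) (by simp only [List.forall_mem_cons]; exact ⟨h01,h12,h23,h34,h25, fun x hx => by simp at hx⟩)
    [![2, 2, 2, 1, 0, 1], ![1, 1, 1, 1, 0, 0], ![1, 1, 1, 1, 1, 0], ![1, 1, 1, 0, 0, 1], ![1, 2, 2, 1, 0, 1], ![0, 1, 1, 1, 1, 0], ![0, 1, 2, 1, 0, 1], ![0, 0, 1, 1, 1, 0], ![0, 1, 2, 2, 0, 1], ![0, 1, 2, 2, 1, 1], ![0, 1, 2, 2, 2, 1], ![0, 0, 1, 1, 1, 1], ![0, 1, 2, 1, 0, 2]] (by decide +kernel)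
  obtain ⟨e01, f01⟩ := he 0 1 (by decide)
  obtain ⟨e12, f12⟩ := he 1 2 (by decide)
  obtain ⟨e23, f23⟩ := he 2 3 (by decide)
  obtain ⟨e34, f34⟩ := he 3 4 (by decide)
  obtain ⟨e25, f25⟩ := he 2 5 (by decide)
  refine ⟨T.w (v 0), fun j => by fin_cases j <;> simp <;> linarith, by linarith, by linarith, by linarith, by linarith, by linarith, hne 0 2 (by decide) (by decide), hne 0 3 (by decide) (by decide), hne 0 4 (by decide) (by decide), hne 0 5 (by decide) (by decide), hne 1 3 (by decide) (by decide), hne 1 4 (by decide) (by decide), hne 1 5 (by decide) (by decide), hne 2 4 (by decide) (by decide), hne 3 5 (by decide) (by decide), hne 4 5 (by decide) (by decide), ?_, ?_, ?_, ?_, ?_, ?_⟩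
  · have h := NumType.sub_row_nonpos T v 0
    simp only [Fin.sum_univ_six] at h
    rw [(hv 0).2, e01, hne 0 2 (by decide) (by decide), hne 0 3 (by decide) (by decide), hne 0 4 (by decide) (by decide), hne 0 5 (by decide) (by decide)] at h
    nlinarith [T.w_pos (v 0)]
  · have h := NumType.sub_row_nonpos T v 1
    simp only [Fin.sum_univ_six] at h
    rw [NumType.a_symm T (v 1) (v 0), f01, (hv 1).2, e12, hne 1 3 (by decide) (by decide), hne 1 4 (by decide) (by decide), hne 1 5 (by decide) (by decide)] at h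
    nlinarith [T.w_pos (v 1)]
  · have h := NumType.sub_row_nonpos T v 2
    simp only [Fin.sum_univ_six] at h
    rw [hne 2 0 (by decide) (by decide), NumType.a_symm T (v 2) (v 1), f12, (hv 2).2, e23, hne 2 4 (by decide) (by decide), e25] at h
    nlinarith [T.w_pos (v 2)]
  · have h := NumType.sub_row_nonpos T v 3
    simp only [Fin.sum_univ_six] at h
    rw [hne 3 0 (by decide) (by decide), hne 3 1 (by decide) (by decide), NumType.a_symm T (v 3) (v 2), f23, (hv 3).2, e34, hne 3 5 (by decide) (by decide)] at h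
    nlinarith [T.w_pos (v 3)]
  · have h := NumType.sub_row_nonpos T v 4
    simp only [Fin.sum_univ_six] at h
    rw [hne 4 0 (by decide) (by decide), hne 4 1 (by decide) (by decide), hne 4 2 (by decide) (by decide), NumType.a_symm T (v 4) (v 3), f34, (hv 4).2, hne 4 5 (by decide) (by decide)] at h
    nlinarith [T.w_pos (v 4)]
  · have h := NumType.sub_row_nonpos T v 5
    simp only [Fin.sum_univ_six] at h
    rw [hne 5 0 (by decide) (by decide), hne 5 1 (by decide) (by decide), NumType.a_symm T (v 5) (v 2), f25, hne 5 3 (by decide) (by decide), hne 5 4 (by decide) (by decide), (hv 5).2] at h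
    nlinarith [T.w_pos (v 5)]

end Groth.Agent.S7348
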