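import Groth.Statements.S7350
import Groth.Agent.NumType.Dynkin

set_option autoImplicit false
open Finset
open Models Models.NumericalType

namespace Groth.Agent.S7350

/-- Classification of proper subgraphs of type E8 (a chain i_1 … i_7 with i_8 joined to i_5): let T be a
numerical type on n > 8 indices and i_1, …, i_8 distinct (-2)-indices with a_{12}, a_{23}, a_{34},
a_{45}, a_{56}, a_{67}, a_{58} nonzero. Then for some integer w all w_{i_j} equal w, these
intersection numbers equal w, all other a_{i_j i_k} (j ≠ k) vanish, and 2 m_1 ≥ m_2, 2 m_2 ≥ m_1 +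
m_3, 2 m_3 ≥ m_2 + m_4, 2 m_4 ≥ m_3 + m_5, 2 m_5 ≥ m_4 + m_6 + m_8, 2 m_6 ≥ m_5 + m_7, 2 m_7 ≥ m_6,
2 m_8 ≥ m_5. (The published statement lists a_{65} and a_{57} among the nonzero entries, which
contradicts its own conclusion a_{57} = 0; this row uses the edges of the E8 graph, a_{67} and
a_{58}, as the pictured graph and the matrix give them.) -/
theorem result {n : ℕ} (T : Models.NumericalType n) (hn : 8 < n)
    (v : Fin 8 ↪ Fin n) (hv : ∀ j, T.IsMinusTwo (v j)) (h01 : T.a (v 0) (v 1) ≠ 0) (h12 : T.a (v 1) (v 2) ≠ 0) (h23 : T.a (v 2) (v 3) ≠ 0) (h34 : T.a (v 3) (v 4) ≠ 0) (h45 : T.a (v 4) (v 5) ≠ 0) (h56 : T.a (v 5) (v 6) ≠ 0) (h47 : T.a (v 4) (v 7) ≠ 0) :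
    ∃ w : ℤ, (∀ j : Fin 8, T.w (v j) = w) ∧
      T.a (v 0) (v 1) = w ∧
      T.a (v 1) (v 2) = w ∧
      T.a (v 2) (v 3) = w ∧
      T.a (v 3) (v 4) = w ∧
      T.a (v 4) (v 5) = w ∧
      T.a (v 5) (v 6) = w ∧
      T.a (v 4) (v 7) = w ∧
      T.a (v 0) (v 2) = 0 ∧
      T.a (v 0) (v 3) = 0 ∧
      T.a (v 0) (v 4) = 0 ∧
      T.a (v 0) (v 5) = 0 ∧
      T.a (v 0) (v 6) = 0 ∧
      T.a (v 0) (v 7) = 0 ∧
      T.a (v 1) (v 3) = 0 ∧
      T.a (v 1) (v 4) = 0 ∧
      T.a (v 1) (v 5) = 0 ∧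
      T.a (v 1) (v 6) = 0 ∧
      T.a (v 1) (v 7) = 0 ∧
      T.a (v 2) (v 4) = 0 ∧
      T.a (v 2) (v 5) = 0 ∧
      T.a (v 2) (v 6) = 0 ∧
      T.a (v 2) (v 7) = 0 ∧
      T.a (v 3) (v 5) = 0 ∧
      T.a (v 3) (v 6) = 0 ∧
      T.a (v 3) (v 7) = 0 ∧
      T.a (v 4) (v 6) = 0 ∧
      T.a (v 5) (v 7) = 0 ∧
      T.a (v 6) (v 7) = 0 ∧
      T.m (v 1) ≤ 2 * T.m (v 0) ∧
      T.m (v 0) + T.m (v 2) ≤ 2 * T.m (v 1) ∧
      T.m (v 1) + T.m (v 3) ≤ 2 * T.m (v 2) ∧
      T.m (v 2) + T.m (v 4) ≤ 2 * T.m (v 3) ∧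
      T.m (v 3) + T.m (v 5) + T.m (v 7) ≤ 2 * T.m (v 4) ∧
      T.m (v 4) + T.m (v 6) ≤ 2 * T.m (v 5) ∧
      T.m (v 5) ≤ 2 * T.m (v 6) ∧
      T.m (v 4) ≤ 2 * T.m (v 7) := by

  obtain ⟨he, hne⟩ := NumType.rigid T v hn hv [(0, 1), (1, 2), (2, 3), (3, 4), (4, 5), (5, 6), (4, 7)]
    (by decide) (by simp only [List.forall_mem_cons]; exact ⟨h01,h12,h23,h34,h45,h56,h47, fun x hx => by simp at hx⟩)
    [![2, 2, 2, 2, 2, 1, 0, 1], ![1, 1, 1, 1, 1, 1, 0, 0], ![1, 1, 1, 1, 1, 1, 1, 0], ![1, 1, 1, 1, 1, 0, 0, 1], ![1, 2, 2, 2, 2, 1, 0, 1], ![0, 1, 1, 1, 1, 1, 1, 0], ![0, 1, 2, 2, 2, 1, 0, 1], ![0, 0, 1, 1, 1, 1, 1, 0], ![0, 0, 1, 2, 2, 1, 0, 1], ![0, 0, 0, 1, 1, 1, 1, 0], ![0, 0, 0, 1, 2, 1, 0, 1], ![0, 0, 0, 0, 1, 1, 1, 0], ![0, 0, 0, 1, 2, 2, 0, 1], ![0, 0, 0, 1, 2, 2, 1, 1], ![0, 0, 0, 1, 2, 2, 2, 1], ![0, 0, 0, 0, 1, 1, 1, 1], ![0, 0, 0, 1, 2, 1, 0, 2]] (by decide +kernel)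
  obtain ⟨e01, f01⟩ := he 0 1 (by decide)
  obtain ⟨e12, f12⟩ := he 1 2 (by decide)
  obtain ⟨e23, f23⟩ := he 2 3 (by decide)
  obtain ⟨e34, f34⟩ := he 3 4 (by decide)
  obtain ⟨e45, f45⟩ := he 4 5 (by decide)
  obtain ⟨e56, f56⟩ := he 5 6 (by decide)
  obtain ⟨e47, f47⟩ := he 4 7 (by decide)
  refine ⟨T.w (v 0), fun j => by fin_cases j <;> simp <;> linarith, by linarith, by linarith, by linarith, by linarith, by linarith, by linarith, by linarith, hne 0 2 (by decide) (by decide), hne 0 3 (by decide) (by decide), hne 0 4 (by decide) (by decide), hne 0 5 (by decide) (by decide), hne 0 6 (by decide) (by decide), hne 0 7 (by decide) (by decide), hne 1 3 (by decide) (by decide), hne 1 4 (by decide) (by decide), hne 1 5 (by decide) (by decide), hne 1 6 (by decide) (by decide), hne 1 7 (by decide) (by decide), hne 2 4 (by decide) (by decide), hne 2 5 (by decide) (by decide), hne 2 6 (by decide) (by decide), hne 2 7 (by decide) (by decide),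 hne 3 5 (by decide) (by decide), hne 3 6 (by decide) (by decide), hne 3 7 (by decide) (by decide), hne 4 6 (by decide) (by decide), hne 5 7 (by decide) (by decide), hne 6 7 (by decide) (by decide), ?_, ?_, ?_, ?_, ?_, ?_, ?_, ?_⟩
  · have h := NumType.sub_row_nonpos T v 0
    simp only [Fin.sum_univ_eight] at h
    rw [(hv 0).2, e01, hne 0 2 (by decide) (by decide), hne 0 3 (by decide) (by decide), hne 0 4 (by decide) (by decide), hne 0 5 (by decide) (by decide), hne 0 6 (by decide) (by decide), hne 0 7 (by decide) (by decide)] at h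
    nlinarith [T.w_pos (v 0)]
  · have h := NumType.sub_row_nonpos T v 1
    simp only [Fin.sum_univ_eight] at h
    rw [NumType.a_symm T (v 1) (v 0), f01, (hv 1).2, e12, hne 1 3 (by decide) (by decide), hne 1 4 (by decide) (by decide), hne 1 5 (by decide) (by decide), hne 1 6 (by decide) (by decide), hne 1 7 (by decide) (by decide)] at h
    nlinarith [T.w_pos (v 1)]
  · have h := NumType.sub_row_nonpos T v 2
    simp only [Fin.sum_univ_eight] at h
    rw [hne 2 0 (by decide) (by decide), NumType.a_symm T (v 2) (v 1), f12, (hv 2).2, e23, hne 2 4 (by decide) (by decide), hne 2 5 (by decide) (by decide), hne 2 6 (by decide) (by decide), hne 2 7 (by decide) (by decide)] at h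
    nlinarith [T.w_pos (v 2)]
  · have h := NumType.sub_row_nonpos T v 3
    simp only [Fin.sum_univ_eight] at h
    rw [hne 3 0 (by decide) (by decide), hne 3 1 (by decide) (by decide), NumType.a_symm T (v 3) (v 2), f23, (hv 3).2, e34, hne 3 5 (by decide) (by decide), hne 3 6 (by decide) (by decide), hne 3 7 (by decide) (by decide)] at h
    nlinarith [T.w_pos (v 3)]
  · have h := NumType.sub_row_nonpos T v 4
    simp only [Fin.sum_univ_eight] at h
    rw [hne 4 0 (by decide) (by decide), hne 4 1 (by decide) (by decide), hne 4 2 (by decide) (by decide), NumType.a_symm T (v 4) (v 3), f34, (hv 4).2, e45, hne 4 6 (by decide) (by decide), e47] at h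
    nlinarith [T.w_pos (v 4)]
  · have h := NumType.sub_row_nonpos T v 5
    simp only [Fin.sum_univ_eight] at h
    rw [hne 5 0 (by decide) (by decide), hne 5 1 (by decide) (by decide), hne 5 2 (by decide) (by decide), hne 5 3 (by decide) (by decide), NumType.a_symm T (v 5) (v 4), f45, (hv 5).2, e56, hne 5 7 (by decide) (by decide)] at h
    nlinarith [T.w_pos (v 5)]
  · have h := NumType.sub_row_nonpos T v 6
    simp only [Fin.sum_univ_eight] at h
    rw [hne 6 0 (by decide) (by decide), hne 6 1 (by decide) (by decide), hne 6 2 (by decide) (by decide), hne 6 3 (by decide) (by decide), hne 6 4 (by decide) (by decide), NumType.a_symm T (v 6) (v 5), f56, (hv 6).2, hne 6 7 (by decide) (by decide)] at h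
    nlinarith [T.w_pos (v 6)]
  · have h := NumType.sub_row_nonpos T v 7
    simp only [Fin.sum_univ_eight] at h
    rw [hne 7 0 (by decide) (by decide), hne 7 1 (by decide) (by decide), hne 7 2 (by decide) (by decide), hne 7 3 (by decide) (by decide), NumType.a_symm T (v 7) (v 4), f47, hne 7 5 (by decide) (by decide), hne 7 6 (by decide) (by decide), (hv 7).2] at h
    nlinarith [T.w_pos (v 7)]

end Groth.Agent.S7350
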