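import Groth.Statements.S7352
import Groth.Agent.NumType.Dynkin

set_option autoImplicit false
open Finset
open Models Models.NumericalType

namespace Groth.Agent.S7352

/-- Classification of proper subgraphs which are chains of four vertices: let T be a numerical type on n
> 4 indices and i_1, …, i_4 distinct (-2)-indices with a_{i_j i_{j+1}} nonzero for j < 4. Then
a_{i_j i_l} = 0 for |j - l| ≥ 2 and, after possibly reversing the order of the indices, for some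
integer w one of the following holds: (A4) w = (w, w, w, w), consecutive a = (w, w, w), with 2m_1 ≥
m_2, 2m_2 ≥ m_1 + m_3, 2m_3 ≥ m_2 + m_4, 2m_4 ≥ m_3; (C4) w = (w, w, w, 2w), consecutive a = (w, w,
2w), with 2m_1 ≥ m_2, 2m_2 ≥ m_1 + m_3, 2m_3 ≥ m_2 + 2m_4, 2m_4 ≥ m_3; (B4) w = (2w, 2w, 2w, w),
consecutive a = (2w, 2w, 2w), with 2m_1 ≥ m_2, 2m_2 ≥ m_1 + m_3, 2m_3 ≥ m_2 + m_4, m_4 ≥ m_3; (F4) w
= (w, w, 2w, 2w), consecutive a = (w, 2w, 2w), with 2m_1 ≥ m_2, 2m_2 ≥ m_1 + 2m_3, 2m_3 ≥ m_2 + m_4,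
2m_4 ≥ m_3. -/
theorem result {n : ℕ} (T : Models.NumericalType n) (hn : 4 < n)
    (v : Fin 4 ↪ Fin n) (hv : ∀ j, T.IsMinusTwo (v j)) (h01 : T.a (v 0) (v 1) ≠ 0) (h12 : T.a (v 1) (v 2) ≠ 0) (h23 : T.a (v 2) (v 3) ≠ 0) :
    (T.a (v 0) (v 2) = 0 ∧ T.a (v 0) (v 3) = 0 ∧ T.a (v 1) (v 3) = 0) ∧
    ∃ (u : Fin 4 → Fin n) (w : ℤ), ((∀ j, u j = v j) ∨ (∀ j, u j = v (Fin.rev j))) ∧
      ((T.w (u 0) = w ∧ T.w (u 1) = w ∧ T.w (u 2) = w ∧ T.w (u 3) = w ∧ T.a (u 0) (u 1) = w ∧ T.a (u 1) (u 2) = w ∧ T.a (u 2) (u 3) = w ∧ T.m (u 1) ≤ 2 * T.m (u 0) ∧ T.m (u 0) + T.m (u 2) ≤ 2 * T.m (u 1) ∧ T.m (u 1) + T.m (u 3) ≤ 2 * T.m (u 2) ∧ T.m (u 2) ≤ 2 * T.m (u 3)) ∨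
      (T.w (u 0) = w ∧ T.w (u 1) = w ∧ T.w (u 2) = w ∧ T.w (u 3) = 2 * w ∧ T.a (u 0) (u 1) = w ∧ T.a (u 1) (u 2) = w ∧ T.a (u 2) (u 3) = 2 * w ∧ T.m (u 1) ≤ 2 * T.m (u 0) ∧ T.m (u 0) + T.m (u 2) ≤ 2 * T.m (u 1) ∧ T.m (u 1) + 2 * T.m (u 3) ≤ 2 * T.m (u 2) ∧ T.m (u 2) ≤ 2 * T.m (u 3)) ∨
      (T.w (u 0) = 2 * w ∧ T.w (u 1) = 2 * w ∧ T.w (u 2) = 2 * w ∧ T.w (u 3) = w ∧ T.a (u 0) (u 1) = 2 * w ∧ T.a (u 1) (u 2) = 2 * w ∧ T.a (u 2) (u 3) = 2 * w ∧ T.m (u 1) ≤ 2 * T.m (u 0) ∧ T.m (u 0) + T.m (u 2) ≤ 2 * T.m (u 1) ∧ T.m (u 1) + T.m (u 3) ≤ 2 * T.m (u 2) ∧ T.m (u 2) ≤ T.m (u 3)) ∨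
      (T.w (u 0) = w ∧ T.w (u 1) = w ∧ T.w (u 2) = 2 * w ∧ T.w (u 3) = 2 * w ∧ T.a (u 0) (u 1) = w ∧ T.a (u 1) (u 2) = 2 * w ∧ T.a (u 2) (u 3) = 2 * w ∧ T.m (u 1) ≤ 2 * T.m (u 0) ∧ T.m (u 0) + 2 * T.m (u 2) ≤ 2 * T.m (u 1) ∧ T.m (u 1) + T.m (u 3) ≤ 2 * T.m (u 2) ∧ T.m (u 2) ≤ 2 * T.m (u 3))) := by
  have hchain : ∀ s s' : Fin 4, s'.val = s.val + 1 → T.a (v s) (v s') ≠ 0 := by
    intro s s' e
    fin_cases s <;> fin_cases s' <;> simp at e <;> assumption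
  have hch := NumType.chain_no_chord T v (by omega) hv hchain
  have z02 : T.a (v 0) (v 2) = 0 := hch 0 2 (by decide)
  have y20 : T.a (v 2) (v 0) = 0 := by rw [NumType.a_symm]; exact z02
  have z03 : T.a (v 0) (v 3) = 0 := hch 0 3 (by decide)
  have y30 : T.a (v 3) (v 0) = 0 := by rw [NumType.a_symm]; exact z03
  have z13 : T.a (v 1) (v 3) = 0 := hch 1 3 (by decide)
  have y31 : T.a (v 3) (v 1) = 0 := by rw [NumType.a_symm]; exact z13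
  obtain ⟨x, p, q, w, hx, hpq, hw, hwt, ha⟩ :=
    NumType.chain_classify T v (by omega) hv hchain (by omega)
  have W0 : T.w (v 0) = _ := hwt 0
  have W1 : T.w (v 1) = _ := hwt 1
  have W2 : T.w (v 2) = _ := hwt 2
  have W3 : T.w (v 3) = _ := hwt 3
  have A0 : T.a (v 0) (v 1) = _ := ha 0 1 rfl
  have B0 : T.a (v 1) (v 0) = _ := (NumType.a_symm T (v 1) (v 0)).trans A0
  have A1 : T.a (v 1) (v 2) = _ := ha 1 2 rfl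
  have B1 : T.a (v 2) (v 1) = _ := (NumType.a_symm T (v 2) (v 1)).trans A1
  have A2 : T.a (v 2) (v 3) = _ := ha 2 3 rfl
  have B2 : T.a (v 3) (v 2) = _ := (NumType.a_symm T (v 3) (v 2)).trans A2
  have R0 := NumType.sub_row_nonpos T v 0
  rw [Fin.sum_univ_four, (hv 0).2, W0, A0, z02, z03] at R0
  have R1 := NumType.sub_row_nonpos T v 1
  rw [Fin.sum_univ_four, (hv 1).2, W1, B0, A1, z13] at R1
  have R2 := NumType.sub_row_nonpos T v 2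
  rw [Fin.sum_univ_four, (hv 2).2, W2, y20, B1, A2] at R2
  have R3 := NumType.sub_row_nonpos T v 3
  rw [Fin.sum_univ_four, (hv 3).2, W3, y30, y31, B2] at R3
  refine ⟨⟨z02, z03, z13⟩, ?_⟩
  rcases hpq with ⟨rfl, rfl⟩ | ⟨hpq, h5⟩
  · simp only [ite_self, one_mul] at W0 W1 W2 W3 A0 B0 A1 B1 A2 B2 R0 R1 R2 R3
    refine ⟨v, w, Or.inl (fun _ => rfl), Or.inl ⟨?_, ?_, ?_, ?_, ?_, ?_, ?_, ?_, ?_, ?_, ?_⟩⟩ <;>
      first | linarith | exact le_of_mul_le_mul_left (by linarith) hw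
  · rcases (show x = 0 ∨ x = 1 ∨ x = 2 by omega) with rfl | rfl | rfl <;>
      rcases hpq with ⟨rfl, rfl⟩ | ⟨rfl, rfl⟩
    · norm_num at W0 W1 W2 W3 A0 B0 A1 B1 A2 B2 R0 R1 R2 R3
      refine ⟨fun s => v (Fin.rev s), w, Or.inr (fun _ => rfl), Or.inr (Or.inr (Or.inl ⟨?_, ?_, ?_, ?_, ?_, ?_, ?_, ?_, ?_, ?_, ?_⟩))⟩ <;>
        simp only [show (Fin.rev 0 : Fin 4) = 3 from rfl, show (Fin.rev 1 : Fin 4) = 2 from rfl, show (Fin.rev 2 : Fin 4) = 1 from rfl, show (Fin.rev 3 : Fin 4) = 0 from rfl] <;>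
        first | linarith | exact le_of_mul_le_mul_left (by linarith) hw
    · norm_num at W0 W1 W2 W3 A0 B0 A1 B1 A2 B2 R0 R1 R2 R3
      refine ⟨fun s => v (Fin.rev s), w, Or.inr (fun _ => rfl), Or.inr (Or.inl ⟨?_, ?_, ?_, ?_, ?_, ?_, ?_, ?_, ?_, ?_, ?_⟩)⟩ <;>
        simp only [show (Fin.rev 0 : Fin 4) = 3 from rfl, show (Fin.rev 1 : Fin 4) = 2 from rfl, show (Fin.rev 2 : Fin 4) = 1 from rfl, show (Fin.rev 3 : Fin 4) = 0 from rfl] <;>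
        first | linarith | exact le_of_mul_le_mul_left (by linarith) hw
    · norm_num at W0 W1 W2 W3 A0 B0 A1 B1 A2 B2 R0 R1 R2 R3
      refine ⟨v, w, Or.inl (fun _ => rfl), Or.inr (Or.inr (Or.inr (⟨?_, ?_, ?_, ?_, ?_, ?_, ?_, ?_, ?_, ?_, ?_⟩)))⟩ <;>
        first | linarith | exact le_of_mul_le_mul_left (by linarith) hw
    · norm_num at W0 W1 W2 W3 A0 B0 A1 B1 A2 B2 R0 R1 R2 R3
      refine ⟨fun s => v (Fin.rev s), w, Or.inr (fun _ => rfl), Or.inr (Or.inr (Or.inr (⟨?_, ?_, ?_, ?_, ?_, ?_, ?_, ?_, ?_, ?_, ?_⟩)))⟩ <;>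
        simp only [show (Fin.rev 0 : Fin 4) = 3 from rfl, show (Fin.rev 1 : Fin 4) = 2 from rfl, show (Fin.rev 2 : Fin 4) = 1 from rfl, show (Fin.rev 3 : Fin 4) = 0 from rfl] <;>
        first | linarith | exact le_of_mul_le_mul_left (by linarith) hw
    · norm_num at W0 W1 W2 W3 A0 B0 A1 B1 A2 B2 R0 R1 R2 R3
      refine ⟨v, w, Or.inl (fun _ => rfl), Or.inr (Or.inl ⟨?_, ?_, ?_, ?_, ?_, ?_, ?_, ?_, ?_, ?_, ?_⟩)⟩ <;>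
        first | linarith | exact le_of_mul_le_mul_left (by linarith) hw
    · norm_num at W0 W1 W2 W3 A0 B0 A1 B1 A2 B2 R0 R1 R2 R3
      refine ⟨v, w, Or.inl (fun _ => rfl), Or.inr (Or.inr (Or.inl ⟨?_, ?_, ?_, ?_, ?_, ?_, ?_, ?_, ?_, ?_, ?_⟩))⟩ <;>
        first | linarith | exact le_of_mul_le_mul_left (by linarith) hw

end Groth.Agent.S7352
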