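import Groth.Statements.S7353
import Groth.Agent.NumType.Dynkin

set_option autoImplicit false
set_option maxHeartbeats 1000000
open Finset
open Models Models.NumericalType

namespace Groth.Agent.S7353

/-- Classification of proper subgraphs which are chains of five vertices: let T be a numerical type on n
> 5 indices and i_1, …, i_5 distinct (-2)-indices with a_{i_j i_{j+1}} nonzero for j < 5. Then
a_{i_j i_l} = 0 for |j - l| ≥ 2 and, after possibly reversing the order of the indices, for some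
integer w one of the following holds: (A5) w = (w, w, w, w, w), consecutive a = (w, w, w, w), with
2m_1 ≥ m_2, 2m_2 ≥ m_1 + m_3, 2m_3 ≥ m_2 + m_4, 2m_4 ≥ m_3 + m_5, 2m_5 ≥ m_4; (C5) w = (w, w, w, w,
2w), consecutive a = (w, w, w, 2w), with 2m_1 ≥ m_2, 2m_2 ≥ m_1 + m_3, 2m_3 ≥ m_2 + m_4, 2m_4 ≥ m_3
+ 2m_5, 2m_5 ≥ m_4; (B5) w = (2w, 2w, 2w, 2w, w), consecutive a = (2w, 2w, 2w, 2w), with 2m_1 ≥ m_2,
2m_2 ≥ m_1 + m_3, 2m_3 ≥ m_2 + m_4, 2m_4 ≥ m_3 + m_5, m_5 ≥ m_4. (The inequalities are those given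
by the rows Σ_l a_{kl} m_l = 0 of the displayed matrices; the published text has 2m_3 ≥ m_2 + 2m_4
and 2m_4 ≥ m_3 + m_5 in case C5 and m_4 ≥ m_3 in case B5, of which the first does not follow — for
the numerical type with six indices, weights (1,1,1,1,2,1), chain intersection numbers (1,1,1,2)
plus a_{16} = 1, a_{66} = -1 and multiplicities (2,2,2,2,1,2) one has 2m_3 = 4 < m_2 + 2m_4 = 6 — so
the matrix inequalities are stated.) -/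
theorem result {n : ℕ} (T : Models.NumericalType n) (hn : 5 < n)
    (v : Fin 5 ↪ Fin n) (hv : ∀ j, T.IsMinusTwo (v j)) (h01 : T.a (v 0) (v 1) ≠ 0) (h12 : T.a (v 1) (v 2) ≠ 0) (h23 : T.a (v 2) (v 3) ≠ 0) (h34 : T.a (v 3) (v 4) ≠ 0) :
    (T.a (v 0) (v 2) = 0 ∧ T.a (v 0) (v 3) = 0 ∧ T.a (v 0) (v 4) = 0 ∧ T.a (v 1) (v 3) = 0 ∧ T.a (v 1) (v 4) = 0 ∧ T.a (v 2) (v 4) = 0) ∧
    ∃ (u : Fin 5 → Fin n) (w : ℤ), ((∀ j, u j = v j) ∨ (∀ j, u j = v (Fin.rev j))) ∧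
      ((T.w (u 0) = w ∧ T.w (u 1) = w ∧ T.w (u 2) = w ∧ T.w (u 3) = w ∧ T.w (u 4) = w ∧ T.a (u 0) (u 1) = w ∧ T.a (u 1) (u 2) = w ∧ T.a (u 2) (u 3) = w ∧ T.a (u 3) (u 4) = w ∧ T.m (u 1) ≤ 2 * T.m (u 0) ∧ T.m (u 0) + T.m (u 2) ≤ 2 * T.m (u 1) ∧ T.m (u 1) + T.m (u 3) ≤ 2 * T.m (u 2) ∧ T.m (u 2) + T.m (u 4) ≤ 2 * T.m (u 3) ∧ T.m (u 3) ≤ 2 * T.m (u 4)) ∨
      (T.w (u 0) = w ∧ T.w (u 1) = w ∧ T.w (u 2) = w ∧ T.w (u 3) = w ∧ T.w (u 4) = 2 * w ∧ T.a (u 0) (u 1) = w ∧ T.a (u 1) (u 2) = w ∧ T.a (u 2) (u 3) = w ∧ T.a (u 3) (u 4) = 2 * w ∧ T.m (u 1) ≤ 2 * T.m (u 0) ∧ T.m (u 0) + T.m (u 2) ≤ 2 * T.m (u 1) ∧ T.m (u 1) + T.m (u 3) ≤ 2 * T.m (u 2) ∧ T.m (u 2) + 2 * T.m (u 4) ≤ 2 * T.m (u 3) ∧ T.m (u 3) ≤ 2 * T.m (u 4)) ∨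
      (T.w (u 0) = 2 * w ∧ T.w (u 1) = 2 * w ∧ T.w (u 2) = 2 * w ∧ T.w (u 3) = 2 * w ∧ T.w (u 4) = w ∧ T.a (u 0) (u 1) = 2 * w ∧ T.a (u 1) (u 2) = 2 * w ∧ T.a (u 2) (u 3) = 2 * w ∧ T.a (u 3) (u 4) = 2 * w ∧ T.m (u 1) ≤ 2 * T.m (u 0) ∧ T.m (u 0) + T.m (u 2) ≤ 2 * T.m (u 1) ∧ T.m (u 1) + T.m (u 3) ≤ 2 * T.m (u 2) ∧ T.m (u 2) + T.m (u 4) ≤ 2 * T.m (u 3) ∧ T.m (u 3) ≤ T.m (u 4))) := by
  have hchain : ∀ s s' : Fin 5, s'.val = s.val + 1 → T.a (v s) (v s') ≠ 0 := by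
    intro s s' e
    fin_cases s <;> fin_cases s' <;> simp at e <;> assumption
  have hch := NumType.chain_no_chord T v (by omega) hv hchain
  have z02 : T.a (v 0) (v 2) = 0 := hch 0 2 (by decide)
  have y20 : T.a (v 2) (v 0) = 0 := by rw [NumType.a_symm]; exact z02
  have z03 : T.a (v 0) (v 3) = 0 := hch 0 3 (by decide)
  have y30 : T.a (v 3) (v 0) = 0 := by rw [NumType.a_symm]; exact z03
  have z04 : T.a (v 0) (v 4) = 0 := hch 0 4 (by decide)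
  have y40 : T.a (v 4) (v 0) = 0 := by rw [NumType.a_symm]; exact z04
  have z13 : T.a (v 1) (v 3) = 0 := hch 1 3 (by decide)
  have y31 : T.a (v 3) (v 1) = 0 := by rw [NumType.a_symm]; exact z13
  have z14 : T.a (v 1) (v 4) = 0 := hch 1 4 (by decide)
  have y41 : T.a (v 4) (v 1) = 0 := by rw [NumType.a_symm]; exact z14
  have z24 : T.a (v 2) (v 4) = 0 := hch 2 4 (by decide)
  have y42 : T.a (v 4) (v 2) = 0 := by rw [NumType.a_symm]; exact z24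
  obtain ⟨x, p, q, w, hx, hpq, hw, hwt, ha⟩ :=
    NumType.chain_classify T v (by omega) hv hchain (by omega)
  have W0 : T.w (v 0) = _ := hwt 0
  have W1 : T.w (v 1) = _ := hwt 1
  have W2 : T.w (v 2) = _ := hwt 2
  have W3 : T.w (v 3) = _ := hwt 3
  have W4 : T.w (v 4) = _ := hwt 4
  have A0 : T.a (v 0) (v 1) = _ := ha 0 1 rfl
  have B0 : T.a (v 1) (v 0) = _ := (NumType.a_symm T (v 1) (v 0)).trans A0
  have A1 : T.a (v 1) (v 2) = _ := ha 1 2 rfl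
  have B1 : T.a (v 2) (v 1) = _ := (NumType.a_symm T (v 2) (v 1)).trans A1
  have A2 : T.a (v 2) (v 3) = _ := ha 2 3 rfl
  have B2 : T.a (v 3) (v 2) = _ := (NumType.a_symm T (v 3) (v 2)).trans A2
  have A3 : T.a (v 3) (v 4) = _ := ha 3 4 rfl
  have B3 : T.a (v 4) (v 3) = _ := (NumType.a_symm T (v 4) (v 3)).trans A3
  have R0 := NumType.sub_row_nonpos T v 0
  rw [Fin.sum_univ_five, (hv 0).2, W0, A0, z02, z03, z04] at R0
  have R1 := NumType.sub_row_nonpos T v 1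
  rw [Fin.sum_univ_five, (hv 1).2, W1, B0, A1, z13, z14] at R1
  have R2 := NumType.sub_row_nonpos T v 2
  rw [Fin.sum_univ_five, (hv 2).2, W2, y20, B1, A2, z24] at R2
  have R3 := NumType.sub_row_nonpos T v 3
  rw [Fin.sum_univ_five, (hv 3).2, W3, y30, y31, B2, A3] at R3
  have R4 := NumType.sub_row_nonpos T v 4
  rw [Fin.sum_univ_five, (hv 4).2, W4, y40, y41, y42, B3] at R4
  refine ⟨⟨z02, z03, z04, z13, z14, z24⟩, ?_⟩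
  rcases hpq with ⟨rfl, rfl⟩ | ⟨hpq, h5⟩
  · simp only [ite_self, one_mul] at W0 W1 W2 W3 W4 A0 B0 A1 B1 A2 B2 A3 B3 R0 R1 R2 R3 R4
    refine ⟨v, w, Or.inl (fun _ => rfl), Or.inl ⟨?_, ?_, ?_, ?_, ?_, ?_, ?_, ?_, ?_, ?_, ?_, ?_, ?_, ?_⟩⟩ <;>
      first | linarith | exact le_of_mul_le_mul_left (by linarith) hw
  · rcases (show x = 0 ∨ x = 3 by have := h5 (by omega); omega) with rfl | rfl <;>
      rcases hpq with ⟨rfl, rfl⟩ | ⟨rfl, rfl⟩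
    · norm_num at W0 W1 W2 W3 W4 A0 B0 A1 B1 A2 B2 A3 B3 R0 R1 R2 R3 R4
      refine ⟨fun s => v (Fin.rev s), w, Or.inr (fun _ => rfl), Or.inr (Or.inr (⟨?_, ?_, ?_, ?_, ?_, ?_, ?_, ?_, ?_, ?_, ?_, ?_, ?_, ?_⟩))⟩ <;>
        simp only [show (Fin.rev 0 : Fin 5) = 4 from rfl, show (Fin.rev 1 : Fin 5) = 3 from rfl, show (Fin.rev 2 : Fin 5) = 2 from rfl, show (Fin.rev 3 : Fin 5) = 1 from rfl, show (Fin.rev 4 : Fin 5) = 0 from rfl] <;>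
        first | linarith | exact le_of_mul_le_mul_left (by linarith) hw
    · norm_num at W0 W1 W2 W3 W4 A0 B0 A1 B1 A2 B2 A3 B3 R0 R1 R2 R3 R4
      refine ⟨fun s => v (Fin.rev s), w, Or.inr (fun _ => rfl), Or.inr (Or.inl ⟨?_, ?_, ?_, ?_, ?_, ?_, ?_, ?_, ?_, ?_, ?_, ?_, ?_, ?_⟩)⟩ <;>
        simp only [show (Fin.rev 0 : Fin 5) = 4 from rfl, show (Fin.rev 1 : Fin 5) = 3 from rfl, show (Fin.rev 2 : Fin 5) = 2 from rfl, show (Fin.rev 3 : Fin 5) = 1 from rfl, show (Fin.rev 4 : Fin 5) = 0 from rfl] <;>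
        first | linarith | exact le_of_mul_le_mul_left (by linarith) hw
    · norm_num at W0 W1 W2 W3 W4 A0 B0 A1 B1 A2 B2 A3 B3 R0 R1 R2 R3 R4
      refine ⟨v, w, Or.inl (fun _ => rfl), Or.inr (Or.inl ⟨?_, ?_, ?_, ?_, ?_, ?_, ?_, ?_, ?_, ?_, ?_, ?_, ?_, ?_⟩)⟩ <;>
        first | linarith | exact le_of_mul_le_mul_left (by linarith) hw
    · norm_num at W0 W1 W2 W3 W4 A0 B0 A1 B1 A2 B2 A3 B3 R0 R1 R2 R3 R4
      refine ⟨v, w, Or.inl (fun _ => rfl), Or.inr (Or.inr (⟨?_, ?_, ?_, ?_, ?_, ?_, ?_, ?_, ?_, ?_, ?_, ?_, ?_, ?_⟩))⟩ <;>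
        first | linarith | exact le_of_mul_le_mul_left (by linarith) hw

end Groth.Agent.S7353
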