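import Groth.Statements.S7354
import Groth.Agent.NumType.Dynkin

set_option autoImplicit false
open Finset
open Models Models.NumericalType

namespace Groth.Agent.S7354

/-- Let T be a numerical type on n indices, t > 5 with n > t, and i_1, …, i_t distinct (-2)-indices with
a_{i_j i_{j+1}} nonzero for j = 1, …, t - 1. Then, after possibly reversing the order of the
indices, for some integer w either (A) w_{i_1} = … = w_{i_t} = w and a_{i_j i_{j+1}} = w for all j;
or (C) w_{i_1} = … = w_{i_{t-1}} = w, w_{i_t} = 2w, a_{i_j i_{j+1}} = w for j < t - 1 and a_{i_{t-1}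
i_t} = 2w; or (B) w_{i_1} = … = w_{i_{t-1}} = 2w, w_{i_t} = w and a_{i_j i_{j+1}} = 2w for all j;
and in every case a_{i_j i_k} = 0 whenever k > j + 1. -/
theorem result {n : ℕ} (T : Models.NumericalType n) (t : ℕ) (ht : 5 < t) (hn : t < n)
    (v : Fin t ↪ Fin n) (hv : ∀ j, T.IsMinusTwo (v j))
    (hchain : ∀ j j' : Fin t, j'.val = j.val + 1 → T.a (v j) (v j') ≠ 0) :
    ∃ (u : Fin t → Fin n) (w : ℤ), ((∀ j, u j = v j) ∨ (∀ j, u j = v (Fin.rev j))) ∧
      (∀ j k : Fin t, j.val + 1 < k.val → T.a (u j) (u k) = 0) ∧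
      ((∀ j : Fin t, T.w (u j) = w) ∧ (∀ j j' : Fin t, j'.val = j.val + 1 → T.a (u j) (u j') = w) ∨
        ((∀ j : Fin t, j.val + 1 < t → T.w (u j) = w) ∧ (∀ j : Fin t, j.val + 1 = t → T.w (u j) = 2 * w) ∧
          (∀ j j' : Fin t, j'.val = j.val + 1 → j'.val + 1 < t → T.a (u j) (u j') = w) ∧
          (∀ j j' : Fin t, j'.val = j.val + 1 → j'.val + 1 = t → T.a (u j) (u j') = 2 * w)) ∨
        ((∀ j : Fin t, j.val + 1 < t → T.w (u j) = 2 * w) ∧ (∀ j : Fin t, j.val + 1 = t → T.w (u j) = w) ∧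
          (∀ j j' : Fin t, j'.val = j.val + 1 → T.a (u j) (u j') = 2 * w))) := by
  have hch := NumType.chain_no_chord T v hn hv hchain
  obtain ⟨x, p, q, w, hx, hpq, hw, hwt, ha⟩ := NumType.chain_classify T v hn hv hchain (by omega)
  have hrev : ∀ j : Fin t, (Fin.rev j).val = t - 1 - j.val := fun j => by rw [Fin.val_rev]; omega
  have hch' : ∀ j k : Fin t, j.val + 1 < k.val → T.a (v (Fin.rev j)) (v (Fin.rev k)) = 0 := by
    intro j k h
    rw [NumType.a_symm]
    exact hch _ _ (by rw [hrev, hrev]; omega)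
  have ha' : ∀ j j' : Fin t, j'.val = j.val + 1 → T.a (v (Fin.rev j)) (v (Fin.rev j')) =
      if (Fin.rev j').val < x then q * w else if (Fin.rev j').val = x then p * q * w else p * w := by
    intro j j' e
    rw [NumType.a_symm]
    exact ha _ _ (by rw [hrev, hrev]; omega)
  rcases hpq with ⟨rfl, rfl⟩ | ⟨hpq, h5⟩
  · refine ⟨v, w, Or.inl fun _ => rfl, hch, Or.inl ⟨fun j => ?_, fun j j' e => ?_⟩⟩
    · rw [hwt]; simp
    · rw [ha j j' e]; simp
  rcases h5 (by omega) with rfl | hlast <;> rcases hpq with ⟨rfl, rfl⟩ | ⟨rfl, rfl⟩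
  · refine ⟨fun j => v (Fin.rev j), w, Or.inr fun _ => rfl, hch',
      Or.inr (Or.inr ⟨fun j h => ?_, fun j h => ?_, fun j j' e => ?_⟩)⟩
    · rw [hwt, if_neg (by rw [hrev]; omega)]
    · rw [hwt, if_pos (by rw [hrev]; omega), one_mul]
    · rw [ha' j j' e, if_neg (by omega)]; split_ifs <;> ring
  · refine ⟨fun j => v (Fin.rev j), w, Or.inr fun _ => rfl, hch',
      Or.inr (Or.inl ⟨fun j h => ?_, fun j h => ?_, fun j j' e h => ?_, fun j j' e h => ?_⟩)⟩
    · rw [hwt, if_neg (by rw [hrev]; omega), one_mul]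
    · rw [hwt, if_pos (by rw [hrev]; omega)]
    · rw [ha' j j' e, if_neg (by omega), if_neg (by rw [hrev]; omega), one_mul]
    · rw [ha' j j' e, if_neg (by omega), if_pos (by rw [hrev]; omega), one_mul]
  · refine ⟨v, w, Or.inl fun _ => rfl, hch,
      Or.inr (Or.inl ⟨fun j h => ?_, fun j h => ?_, fun j j' e h => ?_, fun j j' e h => ?_⟩)⟩
    · rw [hwt, if_pos (by omega), one_mul]
    · rw [hwt, if_neg (by omega)]
    · rw [ha j j' e, if_pos (by omega), one_mul]
    · rw [ha j j' e, if_neg (by omega), if_pos (by omega), mul_one]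
  · refine ⟨v, w, Or.inl fun _ => rfl, hch,
      Or.inr (Or.inr ⟨fun j h => ?_, fun j h => ?_, fun j j' e => ?_⟩)⟩
    · rw [hwt, if_pos (by omega)]
    · rw [hwt, if_neg (by omega), one_mul]
    · rw [ha j j' e]; split_ifs with h1 h2
      · rfl
      · ring
      · exact absurd j'.isLt (by omega)

end Groth.Agent.S7354
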