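import Groth.Statements.S7355
import Groth.Agent.NumType.Dynkin

set_option autoImplicit false
open Finset
open Models Models.NumericalType

namespace Groth.Agent.S7355

/-- Classification of proper subgraphs of type D: let T be a numerical type on n indices, t > 4 with n >
t + 1, and i_1, …, i_{t+1} distinct (-2)-indices such that a_{i_j i_{j+1}} is nonzero for j = 1, …,
t - 1 and a_{i_{t-1} i_{t+1}} is nonzero. Then for some integer w one has w_{i_1} = … = w_{i_{t+1}}
= w, a_{i_j i_{j+1}} = w for j < t, a_{i_{t-1} i_{t+1}} = w, and a_{i_j i_k} = 0 for all other pairs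
j ≠ k. -/
theorem result {n : ℕ} (T : Models.NumericalType n) (t : ℕ) (ht : 4 < t) (hn : t + 1 < n)
    (v : Fin (t + 1) ↪ Fin n) (hv : ∀ j, T.IsMinusTwo (v j))
    (hchain : ∀ j j' : Fin (t + 1), j'.val = j.val + 1 → j'.val < t → T.a (v j) (v j') ≠ 0)
    (hbranch : ∀ j j' : Fin (t + 1), j.val + 2 = t → j'.val = t → T.a (v j) (v j') ≠ 0) :
    ∃ w : ℤ, (∀ j : Fin (t + 1), T.w (v j) = w) ∧
      (∀ j j' : Fin (t + 1), j'.val = j.val + 1 → j'.val < t → T.a (v j) (v j') = w) ∧
      (∀ j j' : Fin (t + 1), j.val + 2 = t → j'.val = t → T.a (v j) (v j') = w) ∧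
      (∀ j k : Fin (t + 1), j.val < k.val → ¬ (k.val = j.val + 1 ∧ k.val < t) → ¬ (j.val + 2 = t ∧ k.val = t) →
        T.a (v j) (v k) = 0) := by
  classical
  let Adj : Fin (t + 1) → Fin (t + 1) → Prop := fun x y =>
    (x.val + 1 = y.val ∧ y.val < t) ∨ (y.val + 1 = x.val ∧ x.val < t) ∨
    (x.val + 2 = t ∧ y.val = t) ∨ (y.val + 2 = t ∧ x.val = t)
  have hadj : ∀ x y, Adj x y → x ≠ y ∧ T.a (v x) (v y) ≠ 0 := by
    intro x y h
    refine ⟨fun e => by subst e; simp only [Adj] at h; omega, ?_⟩
    rcases h with ⟨a, b⟩ | ⟨a, b⟩ | ⟨a, b⟩ | ⟨a, b⟩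
    · exact hchain x y a.symm b
    · rw [NumType.a_symm]; exact hchain y x a.symm b
    · exact hbranch x y a b
    · rw [NumType.a_symm]; exact hbranch y x a b
  let Kb : Fin (t + 1) → Fin (t + 1) → ℕ := fun x y =>
    if x = y then 0 else if 2 * T.w (v x) ≤ T.a (v x) (v y) then 2
      else if T.a (v x) (v y) ≠ 0 then 1 else 0
  have hKle : ∀ x y, x ≠ y → (Kb x y : ℤ) * T.w (v x) ≤ T.a (v x) (v y) := by
    intro x y h
    simp only [Kb, if_neg h]
    split_ifs with h1 h2
    · exact_mod_cast h1
    · simpa using NumType.w_le_a T (v.injective.ne h) h2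
    · simpa using T.offDiag_nonneg _ _ (v.injective.ne h)
  have kill : ∀ c : Fin (t + 1) → ℕ, (∃ s, c s ≠ 0) →
      (∀ x, c x ≠ 0 → 2 * c x ≤ ∑ y, Kb x y * c y) → False := fun c hc hs =>
    NumType.no_config T v hn hv Kb (fun x => if_pos rfl) hKle c hc hs
  have hK1 : ∀ x y, x ≠ y → T.a (v x) (v y) ≠ 0 → 1 ≤ Kb x y := by
    intro x y h h'; simp only [Kb, if_neg h]; split_ifs <;> omega
  have hK2 : ∀ x y, x ≠ y → 2 * T.w (v x) ≤ T.a (v x) (v y) → 2 ≤ Kb x y := by
    intro x y h h'; simp only [Kb, if_neg h, if_pos h', le_refl]
  have hA1 : ∀ x y, Adj x y → 1 ≤ Kb x y := fun x y h => hK1 x y (hadj x y h).1 (hadj x y h).2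
  -- no extra edges
  have hnone : ∀ j k : Fin (t + 1), j.val < k.val → ¬ Adj j k → T.a (v j) (v k) = 0 := by
    intro j k hjk hna
    by_contra h0
    have hne : j ≠ k := fun e => by subst e; omega
    have hkt := k.isLt
    simp only [Adj] at hna
    have hjk1 : 1 ≤ Kb j k := hK1 j k hne h0
    have hkj1 : 1 ≤ Kb k j := hK1 k j hne.symm (by rwa [NumType.a_symm])
    -- the cycle
    let last : Fin (t + 1) := ⟨t, by omega⟩
    let S : Finset (Fin (t + 1)) := Finset.univ.filter fun x =>
      if k.val < t then j.val ≤ x.val ∧ x.val ≤ k.val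
      else x.val = t ∨ (j.val ≤ x.val ∧ x.val + 2 ≤ t) ∨ (t ≤ j.val + 1 ∧ (x.val + 2 = t ∨ x.val + 1 = t))
    let c : Fin (t + 1) → ℕ := fun x => if x ∈ S then 1 else 0
    refine kill c ⟨j, ?_⟩ fun x hx => ?_
    · simp only [c, S, Finset.mem_filter, Finset.mem_univ, true_and]
      rw [if_pos (by split_ifs <;> omega)]; omega
    have hxS : x ∈ S := by by_contra h; exact hx (if_neg h)
    rw [show c x = 1 from if_pos hxS]
    suffices h : ∃ a b, a ≠ b ∧ a ∈ S ∧ b ∈ S ∧ 1 ≤ Kb x a ∧ 1 ≤ Kb x b by
      obtain ⟨a, b, hab, ha, hb, h1, h2⟩ := h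
      refine le_trans ?_ (NumType.pair_le_sum _ hab)
      rw [show c a = 1 from if_pos ha, show c b = 1 from if_pos hb]; omega
    simp only [S, Finset.mem_filter, Finset.mem_univ, true_and] at hxS ⊢
    by_cases hk : k.val < t
    · rw [if_pos hk] at hxS
      simp only [if_pos hk]
      rcases eq_or_lt_of_le hxS.1 with h | h
      · obtain rfl : j = x := Fin.ext h
        exact ⟨⟨j.val + 1, by omega⟩, k, by simp [Fin.ext_iff] <;> omega, by simp <;> omega, by omega,
          hA1 _ _ (by simp only [Adj, true_and, and_true, true_or, or_true] <;> omega), hjk1⟩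
      rcases eq_or_lt_of_le hxS.2 with h' | h'
      · obtain rfl : x = k := Fin.ext h'
        exact ⟨⟨x.val - 1, by omega⟩, j, by simp [Fin.ext_iff] <;> omega, by simp <;> omega, by omega,
          hA1 _ _ (by simp only [Adj, true_and, and_true, true_or, or_true] <;> omega), hkj1⟩
      · exact ⟨⟨x.val - 1, by omega⟩, ⟨x.val + 1, by omega⟩, by simp [Fin.ext_iff] <;> omega,
          by simp <;> omega, by simp <;> omega, hA1 _ _ (by simp only [Adj, true_and, and_true, true_or, or_true] <;> omega),
          hA1 _ _ (by simp only [Adj, true_and, and_true, true_or, or_true] <;> omega)⟩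
    · rw [if_neg hk] at hxS
      simp only [if_neg hk]
      have hk' : k.val = t := by omega
      let m : Fin (t + 1) := ⟨t - 2, by omega⟩
      by_cases hj : j.val + 2 ≤ t
      · by_cases h1 : x.val = t
        · obtain rfl : x = k := Fin.ext (by omega)
          exact ⟨j, m, by simp [m, Fin.ext_iff] <;> omega, by omega, by simp [m] <;> omega, hkj1,
            hA1 _ _ (by simp only [Adj, m, true_and, and_true, true_or, or_true] <;> omega)⟩
        by_cases h2 : x.val = j.val
        · obtain rfl : x = j := Fin.ext h2
          exact ⟨k, ⟨x.val + 1, by omega⟩, by simp [Fin.ext_iff] <;> omega, by omega, by simp <;> omega,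
            hjk1, hA1 _ _ (by simp only [Adj, true_and, and_true, true_or, or_true] <;> omega)⟩
        by_cases h3 : x.val + 2 = t
        · exact ⟨k, ⟨x.val - 1, by omega⟩, by simp [Fin.ext_iff] <;> omega, by omega, by simp <;> omega,
            hA1 _ _ (by simp only [Adj, true_and, and_true, true_or, or_true] <;> omega), hA1 _ _ (by simp only [Adj, true_and, and_true, true_or, or_true] <;> omega)⟩
        exact ⟨⟨x.val - 1, by omega⟩, ⟨x.val + 1, by omega⟩, by simp [Fin.ext_iff] <;> omega,
          by simp <;> omega, by simp <;> omega, hA1 _ _ (by simp only [Adj, true_and, and_true, true_or, or_true] <;> omega),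
          hA1 _ _ (by simp only [Adj, true_and, and_true, true_or, or_true] <;> omega)⟩
      · have hj' : j.val + 1 = t := by omega
        by_cases h1 : x.val = t
        · obtain rfl : x = k := Fin.ext (by omega)
          exact ⟨j, m, by simp [m, Fin.ext_iff] <;> omega, by omega, by simp [m] <;> omega, hkj1,
            hA1 _ _ (by simp only [Adj, m, true_and, and_true, true_or, or_true] <;> omega)⟩
        by_cases h2 : x.val = j.val
        · obtain rfl : x = j := Fin.ext h2
          exact ⟨k, m, by simp [m, Fin.ext_iff] <;> omega, by omega, by simp [m] <;> omega,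
            hjk1, hA1 _ _ (by simp only [Adj, m, true_and, and_true, true_or, or_true] <;> omega)⟩
        exact ⟨k, j, hne.symm, by omega, by omega, hA1 _ _ (by simp only [Adj, true_and, and_true, true_or, or_true] <;> omega),
          hA1 _ _ (by simp only [Adj, true_and, and_true, true_or, or_true] <;> omega)⟩
  -- simply laced
  have hsimp : ∀ g l : Fin (t + 1), Adj g l →
      ¬ (2 * T.w (v g) ≤ T.a (v g) (v l)) := by
    intro g l hgl h2
    have hgl2 := hK2 g l (hadj g l hgl).1 h2
    simp only [Adj] at hgl
    let m : Fin (t + 1) := ⟨t - 2, by omega⟩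
    let p : Fin (t + 1) := ⟨t - 3, by omega⟩
    let e1 : Fin (t + 1) := ⟨t - 1, by omega⟩
    let e2 : Fin (t + 1) := ⟨t, by omega⟩
    by_cases hbr : g.val + 1 = t ∨ g.val = t ∨ l.val + 1 = t ∨ l.val = t
    · -- an edge at the branch point
      let c : Fin (t + 1) → ℕ := fun x =>
        if x.val + 2 = t then 2 else
          if (x = g ∧ (g.val + 1 = t ∨ g.val = t)) then 2 else
            if x.val + 3 = t ∨ x.val + 1 = t ∨ x.val = t then 1 else 0
      refine kill c ⟨m, by simp only [c, m]; rw [if_pos (by omega)]; omega⟩ fun x hx => ?_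
      simp only [c] at hx
      by_cases hxm : x.val + 2 = t
      · obtain rfl : x = m := Fin.ext (by simp [m] <;> omega)
        refine le_trans ?_ (NumType.triple_le_sum _ (a := p) (b := e1) (d := e2)
          (by simp [p, e1, Fin.ext_iff] <;> omega) (by simp [p, e2, Fin.ext_iff] <;> omega)
          (by simp [e1, e2, Fin.ext_iff] <;> omega))
        have h1 := hA1 m p (by simp only [Adj, m, p, true_and, and_true, true_or, or_true] <;> omega)
        have h3 := hA1 m e1 (by simp only [Adj, m, e1, true_and, and_true, true_or, or_true] <;> omega)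
        have h4 := hA1 m e2 (by simp only [Adj, m, e2, true_and, and_true, true_or, or_true] <;> omega)
        have cp : c p = 1 := by
          simp only [c]
          rw [if_neg (by simp [p] <;> omega), if_neg (by rintro ⟨e, h⟩; have := congrArg Fin.val e; simp [p] at this; omega),
            if_pos (by simp [p] <;> omega)]
        have cm : c m = 2 := by simp only [c]; rw [if_pos hxm]
        rw [cp, cm]
        by_cases hg : g.val + 1 = t ∨ g.val = t
        · rcases hg with hg | hg
          · have : c e1 = 2 := by
              simp only [c]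
              rw [if_neg (by simp [e1] <;> omega), if_pos ⟨Fin.ext (by simp [e1] <;> omega), Or.inl hg⟩]
            have : 1 ≤ c e2 := by
              simp only [c]; rw [if_neg (by simp [e2])]; split_ifs <;> simp_all [e2]
            nlinarith
          · have : c e2 = 2 := by
              simp only [c]
              rw [if_neg (by simp [e2]), if_pos ⟨Fin.ext (by simp [e2] <;> omega), Or.inr hg⟩]
            have : 1 ≤ c e1 := by
              simp only [c]; rw [if_neg (by simp [e1] <;> omega)]; split_ifs with a b <;> simp [e1] at * <;> omega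
            nlinarith
        · obtain hgm : g = m := Fin.ext (by simp [m] <;> omega)
          have c1 : c e1 = 1 := by
            simp only [c]
            rw [if_neg (by simp [e1] <;> omega), if_neg (fun h => hg h.2), if_pos (by simp [e1] <;> omega)]
          have c2 : c e2 = 1 := by
            simp only [c]
            rw [if_neg (by simp [e2]), if_neg (fun h => hg h.2), if_pos (by simp [e2])]
          rw [c1, c2]
          rw [hgm] at hgl2
          rcases (show l = e1 ∨ l = e2 by simp [e1, e2, Fin.ext_iff] <;> omega) with h | h <;>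
            rw [h] at hgl2 <;> omega
      · have cm : c m = 2 := by simp only [c]; rw [if_pos (by simp [m] <;> omega)]
        refine le_trans ?_ (NumType.term_le_sum _ m)
        rw [cm]
        simp only [c]
        rw [if_neg hxm]
        split_ifs with h1 h3
        · obtain ⟨rfl, h1⟩ := h1
          have hlm : l = m := Fin.ext (by simp [m] <;> omega)
          rw [hlm] at hgl2
          omega
        · have := hA1 x m (by simp only [Adj, m, true_and, and_true, true_or, or_true] <;> omega)
          omega
        · rw [if_neg hxm, if_neg h1, if_neg h3] at hx; exact absurd rfl hx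
    · -- an edge of the long arm: `lo`, `lo + 1`
      let lo := min g.val l.val
      let c : Fin (t + 1) → ℕ := fun x =>
        if x.val = lo then (if g.val = lo then 2 else 1)
        else if lo < x.val ∧ x.val + 2 ≤ t then 2 else
          if x.val + 1 = t ∨ x.val = t then 1 else 0
      have hlo : lo + 3 ≤ t ∧ (g.val = lo ∧ l.val = lo + 1 ∨ l.val = lo ∧ g.val = lo + 1) := by
        simp only [lo]; omega
      obtain ⟨hlo3, hor⟩ := hlo
      refine kill c ⟨⟨lo, by omega⟩, by simp only [c]; rw [if_pos trivial]; split_ifs <;> omega⟩ fun x hx => ?_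
      simp only [c] at hx
      by_cases h0 : x.val = lo
      · let u : Fin (t + 1) := ⟨lo + 1, by omega⟩
        refine le_trans ?_ (NumType.term_le_sum _ u)
        have cu : c u = 2 := by
          simp only [c, u]; rw [if_neg (by omega), if_pos (by omega)]
        rw [cu]
        simp only [c, if_pos h0]
        have := hA1 x u (by simp only [Adj, u, true_and, and_true, true_or, or_true] <;> omega)
        split_ifs with h1
        · obtain rfl : x = g := Fin.ext (by omega)
          have hlu : l = u := Fin.ext (by simp [u] <;> omega)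
          rw [hlu] at hgl2
          omega
        · omega
      by_cases h4 : x.val + 1 = t ∨ x.val = t
      · refine le_trans ?_ (NumType.term_le_sum _ m)
        have cm : c m = 2 := by simp only [c, m]; rw [if_neg (by omega), if_pos (by omega)]
        rw [cm]
        simp only [c]
        rw [if_neg h0, if_neg (by omega), if_pos h4]
        have := hA1 x m (by simp only [Adj, m, true_and, and_true, true_or, or_true] <;> omega)
        omega
      have hxr : lo < x.val ∧ x.val + 2 ≤ t := by
        by_contra h; rw [if_neg h0, if_neg h, if_neg h4] at hx; exact hx rfl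
      have cx : c x = 2 := by simp only [c]; rw [if_neg h0, if_pos hxr]
      let a : Fin (t + 1) := ⟨x.val - 1, by omega⟩
      have hA := hA1 x a (by simp only [Adj, a, true_and, and_true, true_or, or_true] <;> omega)
      have hL : 2 ≤ Kb x a * c a := by
        by_cases h1 : x.val - 1 = lo
        · have ca : c a = if g.val = lo then 2 else 1 := by simp only [c, a]; rw [if_pos h1]
          rw [ca]
          split_ifs with h5
          · omega
          · obtain rfl : x = g := Fin.ext (by omega)
            have hla : l = a := Fin.ext (by simp [a] <;> omega)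
            rw [hla] at hgl2
            omega
        · have ca : c a = 2 := by simp only [c, a]; rw [if_neg h1, if_pos (by omega)]
          rw [ca]; omega
      by_cases h5 : x.val + 2 = t
      · refine le_trans ?_ (NumType.triple_le_sum _ (a := a) (b := e1) (d := e2)
          (by simp [a, e1, Fin.ext_iff] <;> omega) (by simp [a, e2, Fin.ext_iff] <;> omega)
          (by simp [e1, e2, Fin.ext_iff] <;> omega))
        have := hA1 x e1 (by simp only [Adj, e1, true_and, and_true, true_or, or_true] <;> omega)
        have := hA1 x e2 (by simp only [Adj, e2, true_and, and_true, true_or, or_true] <;> omega)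
        have c1 : c e1 = 1 := by simp only [c, e1]; rw [if_neg (by omega), if_neg (by omega), if_pos (by omega)]
        have c2 : c e2 = 1 := by simp only [c, e2]; rw [if_neg (by omega), if_neg (by omega), if_pos (by simp)]
        rw [cx, c1, c2]; omega
      · let b : Fin (t + 1) := ⟨x.val + 1, by omega⟩
        refine le_trans ?_ (NumType.pair_le_sum _ (a := a) (b := b) (by simp [a, b, Fin.ext_iff] <;> omega))
        have := hA1 x b (by simp only [Adj, b, true_and, and_true, true_or, or_true] <;> omega)
        have cb : c b = 2 := by simp only [c, b]; rw [if_neg (by omega), if_pos (by omega)]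
        rw [cx, cb]; omega
  have hedge : ∀ g l, Adj g l → T.a (v g) (v l) = T.w (v g) ∧ T.w (v g) = T.w (v l) := by
    intro g l h
    obtain ⟨hne, h0⟩ := hadj g l h
    have h1 := NumType.eq_w_of_lt T (v.injective.ne hne) h0 (hsimp g l h)
    have h' : Adj l g := by simp only [Adj] at h ⊢; omega
    have h2 := NumType.eq_w_of_lt T (v.injective.ne hne.symm) (hadj l g h').2 (hsimp l g h')
    exact ⟨h1, by rw [← h1, ← h2, NumType.a_symm]⟩
  have harm : ∀ d : ℕ, ∀ h : d + 1 ≤ t, T.w (v ⟨d, by omega⟩) = T.w (v ⟨0, by omega⟩) := by
    intro d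
    induction d with
    | zero => intro _; rfl
    | succ d ih =>
      intro h
      rw [← ih (by omega)]
      exact ((hedge ⟨d, by omega⟩ ⟨d + 1, by omega⟩ (by simp only [Adj, true_and, and_true, true_or, or_true] <;> omega)).2).symm
  refine ⟨T.w (v ⟨0, by omega⟩), fun j => ?_, fun j j' e h => ?_, fun j j' e h => ?_,
    fun j k h h1 h2 => ?_⟩
  · by_cases hj : j.val + 1 ≤ t
    · exact harm j.val hj
    · rw [← harm (t - 2) (by omega)]
      exact (hedge j ⟨t - 2, by omega⟩ (by simp only [Adj, true_and, and_true, true_or, or_true] <;> omega)).2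
  · rw [(hedge j j' (by simp only [Adj, true_and, and_true, true_or, or_true] <;> omega)).1]; exact harm j.val (by omega)
  · rw [(hedge j j' (by simp only [Adj, true_and, and_true, true_or, or_true] <;> omega)).1]; exact harm j.val (by omega)
  · exact hnone j k h (by simp only [Adj, true_and, and_true, true_or, or_true] <;> omega)

end Groth.Agent.S7355
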