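import Groth.Statements.S7359
import Groth.Agent.NagataUJ.Scheme
import Groth.Agent.BlowUpLib.Proper
import Groth.Agent.NagataLib.Scheme
import Groth.Agent.NormalizationAffine.Cokernel
-- import your own Groth.Agent.* helpers here

set_option autoImplicit false
universe u
open CategoryTheory CategoryTheory.Limits AlgebraicGeometry
open Resolve

namespace Groth.Agent.S7359

/-- Let X be an integral locally Noetherian Nagata scheme (every affine open has a Nagata coordinate
ring), x ∈ X a closed point, b : X' → X the blowing up of X at x (in the reduced point; X' is again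
integral) and X'' → X' the normalization of X'. Then the normalized blowing up X'' is a normal
scheme, is Nagata, and X'' → X is proper. (The quasi-compactness and quasi-separatedness binders on
Spec K(X') → X' always hold; they are needed only to form the normalization.) -/
theorem result (X : Scheme.{u}) [IsIntegral X] [IsLocallyNoetherian X]
    (hN : ∀ U : X.affineOpens, CAlg.IsNagata Γ(X, U.1)) (x : X) (hx : IsClosed ({x} : Set X))
    (X' : Scheme.{u}) (b : X' ⟶ X) (hb : BlowUp.IsBlowUp b (Scheme.IdealSheafData.vanishingIdeal ⟨{x}, hx⟩)) [IsIntegral X']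
    [QuasiCompact (X'.fromSpecStalk (genericPoint X'))] [QuasiSeparated (X'.fromSpecStalk (genericPoint X'))] :
    Pi1.IsNormalScheme (Curv2.normalization X') ∧
      (∀ U : (Curv2.normalization X').affineOpens, CAlg.IsNagata Γ(Curv2.normalization X', U.1)) ∧
      IsProper (Curv2.normalizationι X' ≫ b) := by
  have hN' : ∀ V : X.Opens, IsAffineOpen V → CAlg.IsNagata Γ(X, V) := fun V hV => hN ⟨V, hV⟩
  have hft : BlowUp.IsFiniteTypeIdeal (Scheme.IdealSheafData.vanishingIdeal ⟨{x}, hx⟩) := fun U => by
    have : IsNoetherianRing Γ(X, U.1) := (hN U).1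
    exact IsNoetherian.noetherian _
  have : IsProper b := Groth.Agent.BlowUpLib.isProper_of_isBlowUp hb hft
  have hg : X'.fromSpecStalk (genericPoint X') =
      Spec.map (CommRingCat.ofHom (RingHom.id X'.functionField)) ≫
        X'.fromSpecStalk (genericPoint X') := by
    rw [CommRingCat.ofHom_id, Spec.map_id, Category.id_comp]
  have : IsFinite (Curv2.normalizationι X') :=
    Groth.Agent.NormalizationAffine.isFinite_normalizationι
      fun U => Groth.Agent.NagataUJ.isNagata_of_lft b hN' U.1 U.2
  exact ⟨Groth.Agent.NagataLib.isNormalScheme_normalization _ _ hg,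
    fun U => Groth.Agent.NagataUJ.isNagata_of_lft (Curv2.normalizationι X' ≫ b) hN' U.1 U.2,
    inferInstance⟩

end Groth.Agent.S7359
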