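import Groth.Statements.S7362
import Groth.Agent.NumType.Genus
import Mathlib.Tactic.IntervalCases

set_option autoImplicit false
open Finset
open Models Models.NumericalType

namespace Groth.Agent.S7362

/-- Genus one classification: case n = 2: let T be a minimal numerical type of genus 1 on two indices.
Then for some ordering i, j of the indices and some integers m, w, either m_i = m_j = m, a_ii = a_jj
= -2w, a_ij = 2w, w_i = w_j = w, g_i = g_j = 0; or m_i = 2m, m_j = m, a_ii = -2w, a_ij = 4w, a_jj =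
-8w, w_i = w, w_j = 4w, g_i = g_j = 0. Only the classification direction is stated. -/
theorem result (T : Models.NumericalType 2) (hmin : T.IsMinimal) (hg : T.genus = 1) :
    ∃ (i j : Fin 2) (m w : ℤ), i ≠ j ∧ T.g i = 0 ∧ T.g j = 0 ∧
      ((T.m i = m ∧ T.m j = m ∧ T.a i i = -2 * w ∧ T.a i j = 2 * w ∧ T.a j j = -2 * w ∧ T.w i = w ∧ T.w j = w) ∨
        (T.m i = 2 * m ∧ T.m j = m ∧ T.a i i = -2 * w ∧ T.a i j = 4 * w ∧ T.a j j = -8 * w ∧ T.w i = w ∧ T.w j = 4 * w)) := by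
  have hc : ∀ i, T.IsMinusTwo i := fun i => by
    refine NumType.minusTwo_of_contrib_zero T (by norm_num) i ?_
    have := NumType.contrib_le T hmin (by norm_num) i
    have := NumType.contrib_nonneg T hmin (by norm_num) i
    omega
  have hpos : 0 < T.a 0 1 := by
    obtain ⟨i, hi, j, hj, h⟩ := T.connected {0} (by simp) (by decide)
    simp only [Finset.mem_singleton] at hi hj
    subst hi
    obtain rfl : j = 1 := by omega
    exact lt_of_le_of_ne (T.offDiag_nonneg 0 1 (by decide)) (Ne.symm h)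
  have r0 := NumType.row_eq T 0
  have r1 := NumType.row_eq T 1
  simp only [Fin.sum_univ_two, (hc 0).2, (hc 1).2, NumType.a_symm T 1 0] at r0 r1
  obtain ⟨p, hp⟩ := T.w_dvd 0 1
  obtain ⟨q, hq⟩ := (NumType.a_symm T 1 0) ▸ T.w_dvd 1 0
  have hw0 := T.w_pos 0
  have hw1 := T.w_pos 1
  have hp0 : 0 < p := by rw [hp] at hpos; exact (mul_pos_iff_of_pos_left hw0).1 hpos
  have hq0 : 0 < q := by rw [hq] at hpos; exact (mul_pos_iff_of_pos_left hw1).1 hpos
  have e0 : p * T.m 1 = 2 * T.m 0 := by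
    rw [hp] at r0
    exact mul_left_cancel₀ hw0.ne' (by linarith)
  have e1 : q * T.m 0 = 2 * T.m 1 := by
    rw [hq] at r1
    exact mul_left_cancel₀ hw1.ne' (by linarith)
  have hpq : p * q = 4 := by
    have : (p * q) * T.m 1 = 4 * T.m 1 := by
      rw [mul_comm p q, mul_assoc, e0]; linarith
    exact mul_right_cancel₀ (T.m_pos 1).ne' this
  have e := hp.symm.trans hq
  have hp4 : p ≤ 4 := Int.le_of_dvd (by norm_num) ⟨q, hpq.symm⟩
  have g0 := (hc 0).1
  have g1 := (hc 1).1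
  have s10 := NumType.a_symm T 1 0
  rcases (show (p = 1 ∧ q = 4) ∨ (p = 2 ∧ q = 2) ∨ (p = 4 ∧ q = 1) by
    interval_cases p <;> omega) with ⟨rfl, rfl⟩ | ⟨rfl, rfl⟩ | ⟨rfl, rfl⟩
  · refine ⟨1, 0, T.m 0, T.w 1, by decide, g1, g0, Or.inr ⟨?_, ?_, ?_, ?_, ?_, ?_, ?_⟩⟩ <;>
      linarith [(hc 0).2, (hc 1).2]
  · refine ⟨0, 1, T.m 0, T.w 0, by decide, g0, g1, Or.inl ⟨?_, ?_, ?_, ?_, ?_, ?_, ?_⟩⟩ <;>
      linarith [(hc 0).2, (hc 1).2]
  · refine ⟨0, 1, T.m 1, T.w 0, by decide, g0, g1, Or.inr ⟨?_, ?_, ?_, ?_, ?_, ?_, ?_⟩⟩ <;>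
      linarith [(hc 0).2, (hc 1).2]

end Groth.Agent.S7362
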