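import Groth.Statements.S7363
import Groth.Agent.NumType.Genus
import Mathlib

set_option autoImplicit false
open Finset
open Models Models.NumericalType

namespace Groth.Agent.S7363

/-- Genus one classification: case n = 3: let T be a minimal numerical type of genus 1 on three indices.
Then all g = 0 and, for some ordering i, j, k of the indices and some integers m, w, the data (m; a;
w) is one of: (m,m,m; a_ii = a_jj = a_kk = -2w, a_ij = a_ik = a_jk = w; w,w,w); (m,2m,m; a_ii = -2w,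
a_ij = w, a_ik = 0, a_jj = -2w, a_jk = 3w, a_kk = -6w; w,w,3w); (m,2m,3m; a_ii = -6w, a_ij = 3w,
a_ik = 0, a_jj = -6w, a_jk = 3w, a_kk = -2w; 3w,3w,w); (2m,2m,m; a_ii = -2w, a_ij = 2w, a_ik = 0,
a_jj = -4w, a_jk = 4w, a_kk = -8w; w,2w,4w); (m,m,m; a_ii = -2w, a_ij = 2w, a_ik = 0, a_jj = -4w,
a_jk = 2w, a_kk = -2w; w,2w,w); (m,2m,m; a_ii = -4w, a_ij = 2w, a_ik = 0, a_jj = -2w, a_jk = 2w,
a_kk = -4w; 2w,w,2w). Only the classification direction is stated. -/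
theorem result (T : Models.NumericalType 3) (hmin : T.IsMinimal) (hg : T.genus = 1) :
    ∃ (i j k : Fin 3) (m w : ℤ), i ≠ j ∧ j ≠ k ∧ i ≠ k ∧ T.g i = 0 ∧ T.g j = 0 ∧ T.g k = 0 ∧
      ((T.m i = m ∧ T.m j = m ∧ T.m k = m ∧ T.a i i = -2 * w ∧ T.a j j = -2 * w ∧ T.a k k = -2 * w ∧
          T.a i j = w ∧ T.a i k = w ∧ T.a j k = w ∧ T.w i = w ∧ T.w j = w ∧ T.w k = w) ∨
        (T.m i = m ∧ T.m j = 2 * m ∧ T.m k = m ∧ T.a i i = -2 * w ∧ T.a i j = w ∧ T.a i k = 0 ∧ T.a j j = -2 * w ∧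
          T.a j k = 3 * w ∧ T.a k k = -6 * w ∧ T.w i = w ∧ T.w j = w ∧ T.w k = 3 * w) ∨
        (T.m i = m ∧ T.m j = 2 * m ∧ T.m k = 3 * m ∧ T.a i i = -6 * w ∧ T.a i j = 3 * w ∧ T.a i k = 0 ∧ T.a j j = -6 * w ∧
          T.a j k = 3 * w ∧ T.a k k = -2 * w ∧ T.w i = 3 * w ∧ T.w j = 3 * w ∧ T.w k = w) ∨
        (T.m i = 2 * m ∧ T.m j = 2 * m ∧ T.m k = m ∧ T.a i i = -2 * w ∧ T.a i j = 2 * w ∧ T.a i k = 0 ∧ T.a j j = -4 * w ∧
          T.a j k = 4 * w ∧ T.a k k = -8 * w ∧ T.w i = w ∧ T.w j = 2 * w ∧ T.w k = 4 * w) ∨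
        (T.m i = m ∧ T.m j = m ∧ T.m k = m ∧ T.a i i = -2 * w ∧ T.a i j = 2 * w ∧ T.a i k = 0 ∧ T.a j j = -4 * w ∧
          T.a j k = 2 * w ∧ T.a k k = -2 * w ∧ T.w i = w ∧ T.w j = 2 * w ∧ T.w k = w) ∨
        (T.m i = m ∧ T.m j = 2 * m ∧ T.m k = m ∧ T.a i i = -4 * w ∧ T.a i j = 2 * w ∧ T.a i k = 0 ∧ T.a j j = -2 * w ∧
          T.a j k = 2 * w ∧ T.a k k = -4 * w ∧ T.w i = 2 * w ∧ T.w j = w ∧ T.w k = 2 * w)) := by

  have hc : ∀ i, T.IsMinusTwo i := fun i => by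
    refine NumType.minusTwo_of_contrib_zero T (by norm_num) i ?_
    have := NumType.contrib_le T hmin (by norm_num) i
    have := NumType.contrib_nonneg T hmin (by norm_num) i
    omega
  have hg0 : ∀ i, T.g i = 0 := fun i => (hc i).1
  have hd : ∀ i, T.a i i = -2 * T.w i := fun i => (hc i).2
  choose p hp using T.w_dvd
  have hsym : ∀ i j, T.a i j = T.a j i := fun i j => NumType.a_symm T i j
  have hp0 : ∀ i j, i ≠ j → 0 ≤ p i j := fun i j h => by
    have := T.offDiag_nonneg i j h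
    rw [hp] at this
    exact nonneg_of_mul_nonneg_right this (T.w_pos i)
  have hp1 : ∀ i j, 0 < T.a i j → 0 < p i j := fun i j h => by
    rw [hp] at h
    exact (mul_pos_iff_of_pos_left (T.w_pos i)).1 h
  have row : ∀ i j k : Fin 3, i ≠ j → j ≠ k → i ≠ k → 2 * T.m i = p i j * T.m j + p i k * T.m k := by
    intro i j k h1 h2 h3
    have h := congrFun T.mulVec_m i
    have hu : (Finset.univ : Finset (Fin 3)) = {i, j, k} := by
      revert h1 h2 h3; clear * -; revert i j k; decide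
    simp only [Matrix.mulVec, dotProduct, Pi.zero_apply] at h
    rw [hu, Finset.sum_insert (by simp [h1, h3]), Finset.sum_pair h2, hd, hp i j, hp i k] at h
    refine mul_left_cancel₀ (T.w_pos i).ne' ?_
    linarith
  by_cases htri : ∀ i j, i ≠ j → 0 < T.a i j
  · have q : ∀ i j, i ≠ j → 1 ≤ p i j := fun i j h => hp1 i j (htri i j h)
    have h01 := q 0 1 (by decide)
    have h02 := q 0 2 (by decide)
    have h10 := q 1 0 (by decide)
    have h12 := q 1 2 (by decide)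
    have h20 := q 2 0 (by decide)
    have h21 := q 2 1 (by decide)
    have r0 := row 0 1 2 (by decide) (by decide) (by decide)
    have r1 := row 1 0 2 (by decide) (by decide) (by decide)
    have r2 := row 2 0 1 (by decide) (by decide) (by decide)
    have m0 := T.m_pos 0
    have m1 := T.m_pos 1
    have m2 := T.m_pos 2
    have a1 : T.m 1 ≤ p 0 1 * T.m 1 := le_mul_of_one_le_left m1.le h01
    have a2 : T.m 2 ≤ p 0 2 * T.m 2 := le_mul_of_one_le_left m2.le h02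
    have b0 : T.m 0 ≤ p 1 0 * T.m 0 := le_mul_of_one_le_left m0.le h10
    have b2 : T.m 2 ≤ p 1 2 * T.m 2 := le_mul_of_one_le_left m2.le h12
    have c0 : T.m 0 ≤ p 2 0 * T.m 0 := le_mul_of_one_le_left m0.le h20
    have c1 : T.m 1 ≤ p 2 1 * T.m 1 := le_mul_of_one_le_left m1.le h21
    have cancel : ∀ {x y : ℤ}, 0 < y → x * y = y → x = 1 := fun hy h =>
      mul_right_cancel₀ hy.ne' (h.trans (one_mul _).symm)
    have e01 : p 0 1 = 1 := cancel m1 (by linarith)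
    have e02 : p 0 2 = 1 := cancel m2 (by linarith)
    have e10 : p 1 0 = 1 := cancel m0 (by linarith)
    have e12 : p 1 2 = 1 := cancel m2 (by linarith)
    have e20 : p 2 0 = 1 := cancel m0 (by linarith)
    have e21 : p 2 1 = 1 := cancel m1 (by linarith)
    have t01 := hp 0 1
    have t10 := hp 1 0
    have t02 := hp 0 2
    have t20 := hp 2 0
    have t12 := hp 1 2
    rw [e01, mul_one] at t01
    rw [e10, mul_one, hsym] at t10
    rw [e02, mul_one] at t02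
    rw [e20, mul_one, hsym] at t20
    rw [e12, mul_one] at t12
    refine ⟨0, 1, 2, T.m 0, T.w 0, by decide, by decide, by decide, hg0 0, hg0 1, hg0 2, Or.inl ?_⟩
    rw [e01, e02] at r0
    rw [e10, e12] at r1
    exact ⟨rfl, by linarith, by linarith, hd 0, by linarith [hd 1], by linarith [hd 2],
      t01, t02, by linarith, rfl, by linarith, by linarith⟩
  push Not at htri
  obtain ⟨i, k, hik, hle⟩ := htri
  have haik : T.a i k = 0 := le_antisymm hle (T.offDiag_nonneg i k hik)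
  obtain ⟨j, hij, hjk⟩ : ∃ j, i ≠ j ∧ j ≠ k := by
    revert hik; clear * -; revert i k; decide
  have conn : ∀ x y : Fin 3, x ≠ y → (∀ z, z ≠ x → z ≠ y → T.a x z = 0) → 0 < T.a x y := by
    intro x y hxy hz
    obtain ⟨u, hu, z, hzm, hne⟩ := T.connected {x} (by simp) (by
      intro h; exact hxy (Finset.mem_singleton.1 (h ▸ Finset.mem_univ y : y ∈ ({x} : Finset (Fin 3)))).symm)
    rw [Finset.mem_singleton] at hu hzm
    subst hu
    rcases eq_or_ne z y with rfl | hzy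
    · exact lt_of_le_of_ne (T.offDiag_nonneg _ _ hxy) (Ne.symm hne)
    · exact absurd (hz z hzm hzy) hne
  have only : ∀ x y z : Fin 3, x ≠ y → z ≠ x → z ≠ y → ∀ z', z' ≠ x → z' ≠ y → z' = z := by
    clear * -; decide
  have hai : 0 < T.a i j := conn i j hij fun z h1 h2 => by
    rw [only i j k hij hik.symm hjk.symm z h1 h2]; exact haik
  have hak : 0 < T.a k j := conn k j hjk.symm fun z h1 h2 => by
    rw [only k j i hjk.symm hik hij z h1 h2, hsym]; exact haik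
  -- all possibilities for a path `x - y - z`
  have main : ∀ x z : Fin 3, x ≠ z → x ≠ j → j ≠ z → T.a x z = 0 → 0 < T.a x j → 0 < T.a z j →
      p x j * p j x ≤ p z j * p j z → ∃ (i j k : Fin 3) (m w : ℤ), i ≠ j ∧ j ≠ k ∧ i ≠ k ∧
      T.g i = 0 ∧ T.g j = 0 ∧ T.g k = 0 ∧
      ((T.m i = m ∧ T.m j = m ∧ T.m k = m ∧ T.a i i = -2 * w ∧ T.a j j = -2 * w ∧ T.a k k = -2 * w ∧
          T.a i j = w ∧ T.a i k = w ∧ T.a j k = w ∧ T.w i = w ∧ T.w j = w ∧ T.w k = w) ∨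
        (T.m i = m ∧ T.m j = 2 * m ∧ T.m k = m ∧ T.a i i = -2 * w ∧ T.a i j = w ∧ T.a i k = 0 ∧ T.a j j = -2 * w ∧
          T.a j k = 3 * w ∧ T.a k k = -6 * w ∧ T.w i = w ∧ T.w j = w ∧ T.w k = 3 * w) ∨
        (T.m i = m ∧ T.m j = 2 * m ∧ T.m k = 3 * m ∧ T.a i i = -6 * w ∧ T.a i j = 3 * w ∧ T.a i k = 0 ∧ T.a j j = -6 * w ∧
          T.a j k = 3 * w ∧ T.a k k = -2 * w ∧ T.w i = 3 * w ∧ T.w j = 3 * w ∧ T.w k = w) ∨
        (T.m i = 2 * m ∧ T.m j = 2 * m ∧ T.m k = m ∧ T.a i i = -2 * w ∧ T.a i j = 2 * w ∧ T.a i k = 0 ∧ T.a j j = -4 * w ∧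
          T.a j k = 4 * w ∧ T.a k k = -8 * w ∧ T.w i = w ∧ T.w j = 2 * w ∧ T.w k = 4 * w) ∨
        (T.m i = m ∧ T.m j = m ∧ T.m k = m ∧ T.a i i = -2 * w ∧ T.a i j = 2 * w ∧ T.a i k = 0 ∧ T.a j j = -4 * w ∧
          T.a j k = 2 * w ∧ T.a k k = -2 * w ∧ T.w i = w ∧ T.w j = 2 * w ∧ T.w k = w) ∨
        (T.m i = m ∧ T.m j = 2 * m ∧ T.m k = m ∧ T.a i i = -4 * w ∧ T.a i j = 2 * w ∧ T.a i k = 0 ∧ T.a j j = -2 * w ∧
          T.a j k = 2 * w ∧ T.a k k = -4 * w ∧ T.w i = 2 * w ∧ T.w j = w ∧ T.w k = 2 * w)) := by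
    intro x z hxz hxj hjz hax hx hz hcmp
    have rx := row x j z hxj hjz hxz
    have rz := row z j x hjz.symm hxj.symm hxz.symm
    have rj := row j x z hxj.symm hxz hjz
    have e1 : p x z = 0 := by
      have := hp x z; rw [hax] at this
      exact (mul_eq_zero.1 this.symm).resolve_left (T.w_pos x).ne'
    have e2 : p z x = 0 := by
      have := hp z x; rw [hsym, hax] at this
      exact (mul_eq_zero.1 this.symm).resolve_left (T.w_pos z).ne'
    rw [e1, zero_mul, add_zero] at rx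
    rw [e2, zero_mul, add_zero] at rz
    have hA : 0 < p x j := hp1 x j hx
    have hB : 0 < p j x := hp1 j x (hsym x j ▸ hx)
    have hC : 0 < p z j := hp1 z j hz
    have hD : 0 < p j z := hp1 j z (hsym z j ▸ hz)
    have hsum : p x j * p j x + p z j * p j z = 4 := by
      refine mul_right_cancel₀ (T.m_pos j).ne' ?_
      linear_combination (-2 : ℤ) * rj + (-p j x) * rx + (-p j z) * rz
    have hAB : 1 ≤ p x j * p j x := Int.mul_pos hA hB
    have hCD : 1 ≤ p z j * p j z := Int.mul_pos hC hD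
    have bA : p x j ≤ 2 := le_trans (le_mul_of_one_le_right hA.le hB) (by linarith)
    have bB : p j x ≤ 2 := le_trans (le_mul_of_one_le_left hB.le hA) (by linarith)
    have bC : p z j ≤ 3 := le_trans (le_mul_of_one_le_right hC.le hD) (by linarith)
    have bD : p j z ≤ 3 := le_trans (le_mul_of_one_le_left hD.le hC) (by linarith)
    have k1 := hp x j
    have k2 := hp j x
    have k3 := hp z j
    have k4 := hp j z
    rw [← hsym x j] at k2
    rw [hsym z j] at k3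
    have dx := hd x
    have dj := hd j
    have dz := hd z
    obtain ⟨hA', hB', hC', hD'⟩ | ⟨hA', hB', hC', hD'⟩ | ⟨hA', hB', hC', hD'⟩ | ⟨hA', hB', hC', hD'⟩ |
        ⟨hA', hB', hC', hD'⟩ | ⟨hA', hB', hC', hD'⟩ :
        (p x j = 1 ∧ p j x = 1 ∧ p z j = 1 ∧ p j z = 3) ∨ (p x j = 1 ∧ p j x = 1 ∧ p z j = 3 ∧ p j z = 1) ∨
        (p x j = 2 ∧ p j x = 1 ∧ p z j = 1 ∧ p j z = 2) ∨ (p x j = 1 ∧ p j x = 2 ∧ p z j = 2 ∧ p j z = 1) ∨
        (p x j = 2 ∧ p j x = 1 ∧ p z j = 2 ∧ p j z = 1) ∨ (p x j = 1 ∧ p j x = 2 ∧ p z j = 1 ∧ p j z = 2) := by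
      generalize p x j = A at *
      generalize p j x = B at *
      generalize p z j = C at *
      generalize p j z = D at *
      interval_cases A <;> interval_cases B <;> interval_cases C <;> interval_cases D <;> omega
    all_goals rw [hA'] at rx k1; rw [hB'] at k2; rw [hC'] at rz k3; rw [hD'] at k4
    · refine ⟨x, j, z, T.m x, T.w x, hxj, hjz, hxz, hg0 x, hg0 j, hg0 z, Or.inr (Or.inl ?_)⟩
      refine ⟨rfl, ?_, ?_, dx, ?_, hax, ?_, ?_, ?_, rfl, ?_, ?_⟩ <;> linarith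
    · refine ⟨x, j, z, T.m x, T.w z, hxj, hjz, hxz, hg0 x, hg0 j, hg0 z, Or.inr (Or.inr (Or.inl ?_))⟩
      refine ⟨rfl, ?_, ?_, ?_, ?_, hax, ?_, ?_, dz, ?_, ?_, rfl⟩ <;> linarith
    · refine ⟨x, j, z, T.m z, T.w x, hxj, hjz, hxz, hg0 x, hg0 j, hg0 z,
        Or.inr (Or.inr (Or.inr (Or.inl ?_)))⟩
      refine ⟨?_, ?_, rfl, dx, ?_, hax, ?_, ?_, ?_, rfl, ?_, ?_⟩ <;> linarith
    · refine ⟨z, j, x, T.m x, T.w z, hjz.symm, hxj.symm, hxz.symm, hg0 z, hg0 j, hg0 x,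
        Or.inr (Or.inr (Or.inr (Or.inl ?_)))⟩
      have := hsym z x
      have := hsym z j
      have := hsym j x
      refine ⟨?_, ?_, rfl, dz, ?_, ?_, ?_, ?_, ?_, rfl, ?_, ?_⟩ <;> linarith
    · refine ⟨x, j, z, T.m x, T.w x, hxj, hjz, hxz, hg0 x, hg0 j, hg0 z,
        Or.inr (Or.inr (Or.inr (Or.inr (Or.inl ?_))))⟩
      refine ⟨rfl, ?_, ?_, dx, ?_, hax, ?_, ?_, ?_, rfl, ?_, ?_⟩ <;> linarith
    · refine ⟨x, j, z, T.m x, T.w j, hxj, hjz, hxz, hg0 x, hg0 j, hg0 z,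
        Or.inr (Or.inr (Or.inr (Or.inr (Or.inr ?_))))⟩
      refine ⟨rfl, ?_, ?_, ?_, ?_, hax, dj, ?_, ?_, ?_, rfl, ?_⟩ <;> linarith
  rcases le_total (p i j * p j i) (p k j * p j k) with hcmp | hcmp
  · exact main i k hik hij hjk haik hai hak hcmp
  · exact main k i hik.symm hjk.symm hij.symm (by rw [hsym]; exact haik) hak hai hcmp

end Groth.Agent.S7363
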