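import Groth.Statements.S7386
import Groth.Agent.GenericAffine.Basic
-- import your own Groth.Agent.* helpers here

set_option autoImplicit false
universe u
open CategoryTheory AlgebraicGeometry
open Mor

namespace Groth.Agent.S7386

/-- Let `X` be a quasi-separated scheme, `η_1, …, η_n` generic points of irreducible components of `X`
and `x` any point of `X`. Then some affine open of `X` contains `x` and all the `η_i`. -/
theorem result (X : Scheme.{u}) [QuasiSeparatedSpace X] {n : ℕ}
    (η : Fin n → X) (hη : ∀ i, closure ({η i} : Set X) ∈ irreducibleComponents (X : Type u)) (x : X) :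
    ∃ U : X.Opens, IsAffineOpen U ∧ x ∈ U ∧ ∀ i, η i ∈ U := by
  obtain ⟨U₀, hU₀, hxU₀, -⟩ := exists_isAffineOpen_mem_and_subset (x := x) (U := ⊤) (Set.mem_univ x)
  obtain ⟨U, hU, hle, hT⟩ := GenericAffine.exists_affine_superset (Set.range η) (Set.finite_range η)
    (by rintro _ ⟨i, rfl⟩ y hy
        exact GenericAffine.eq_of_specializes_of_mem_irreducibleComponents (hη i) hy) U₀ hU₀
  exact ⟨U, hU, hle hxU₀, fun i => hT ⟨i, rfl⟩⟩

end Groth.Agent.S7386
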