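import Mathlib
import Groth.Statements.S7387
-- import your own Groth.Agent.* helpers here

set_option autoImplicit false
universe u
open CategoryTheory AlgebraicGeometry
open Mor

namespace Groth.Agent.S7387

set_option backward.isDefEq.respectTransparency false
set_option backward.isDefEq.respectTransparency.types false

/-- A quasi-compact scheme has a dense open subscheme which is separated. -/
theorem result (X : Scheme.{u}) [CompactSpace X] :
    ∃ V : X.Opens, Dense (V : Set X) ∧ (V : Scheme.{u}).IsSeparated := by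
  classical
  obtain ⟨s, hs⟩ := isCompact_univ.elim_finite_subcover (fun U : X.affineOpens => ((U : X.Opens) : Set X))
    (fun U => (U : X.Opens).isOpen) (fun x _ => by
      obtain ⟨_, ⟨U, hU, rfl⟩, hx, -⟩ := X.isBasis_affineOpens.exists_subset_of_mem_open (Set.mem_univ x) isOpen_univ
      exact Set.mem_iUnion.2 ⟨⟨U, hU⟩, hx⟩)
  let n := s.card
  let e := s.equivFin
  let U : Fin n → X.Opens := fun i => (e.symm i).1.1
  have hUcov : ∀ x : X, ∃ i, x ∈ U i := fun x => by
    obtain ⟨V, hV, hx⟩ := Set.mem_iUnion₂.1 (hs (Set.mem_univ x))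
    exact ⟨e ⟨V, hV⟩, by simpa [U] using hx⟩
  let W : Fin n → X.Opens := fun i => U i ⊓ ⟨(closure (⋃ j, ⋃ (_ : j < i), (U j : Set X)))ᶜ, isClosed_closure.isOpen_compl⟩
  have hW : ∀ i, W i ≤ U i := fun i => inf_le_left
  let V : X.Opens := ⨆ i, W i
  refine ⟨V, ?_, ?_⟩
  · rw [dense_iff_inter_open]
    intro O hO hne
    obtain ⟨x, hx⟩ := hne
    obtain ⟨i, hi⟩ := hUcov x
    let S := Finset.univ.filter fun j => (O ∩ (U j : Set X)).Nonempty
    have hSne : S.Nonempty := ⟨i, by simpa [S] using ⟨x, hx, hi⟩⟩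
    have hmin := S.min'_mem hSne
    set i₀ := S.min' hSne
    obtain ⟨y, hyO, hyU⟩ : (O ∩ (U i₀ : Set X)).Nonempty := by simpa [S] using hmin
    refine ⟨y, hyO, TopologicalSpace.Opens.mem_iSup.2 ⟨i₀, hyU, fun hy => ?_⟩⟩
    obtain ⟨z, hzO, hz⟩ := mem_closure_iff.1 hy O hO hyO
    obtain ⟨j, hj, hzj⟩ := Set.mem_iUnion₂.1 hz
    exact (not_lt.2 (S.min'_le j (by simpa [S] using ⟨z, hzO, hzj⟩))) hj
  · have hdisjW : ∀ i j, i < j → ∀ x ∈ W i, x ∉ W j := fun i j hij x hxi hxj =>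
      hxj.2 (subset_closure (Set.mem_iUnion₂.2 ⟨i, hij, hxi.1⟩))
    let g : Fin n → Scheme.{u} := fun i => (W i).toScheme
    let gU : Fin n → Scheme.{u} := fun i => (U i).toScheme
    haveI : ∀ i, IsAffine (gU i) := fun i => (e.symm i).1.2
    let m : (∐ g) ⟶ ∐ gU := Limits.Sigma.desc fun i => X.homOfLE (hW i) ≫ Limits.Sigma.ι gU i
    haveI : IsOpenImmersion m := isOpenImmersion_sigmaDesc _ _ (fun i j hij => by
      rw [Function.onFun, Set.disjoint_left]
      rintro _ ⟨a, rfl⟩ ⟨b, hb⟩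
      exact (disjoint_opensRange_sigmaι gU i j hij).le_bot
        (⟨⟨X.homOfLE (hW i) a, rfl⟩, ⟨X.homOfLE (hW j) b, hb⟩⟩ : _ ∈ ((Limits.Sigma.ι gU i).opensRange ⊓ (Limits.Sigma.ι gU j).opensRange : (∐ gU).Opens)))
    let d : (∐ g) ⟶ X := Limits.Sigma.desc fun i => (W i).ι
    haveI : IsOpenImmersion d := isOpenImmersion_sigmaDesc _ _ (fun i j hij => by
      rw [Function.onFun, Set.disjoint_left]
      rintro _ ⟨a, rfl⟩ ⟨b, hb⟩
      have h1 : (a : W i).1 ∈ W i := (a : W i).2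
      have h2 : (b : W j).1 ∈ W j := (b : W j).2
      have h3 : (b : W j).1 = (a : W i).1 := hb
      rcases lt_or_gt_of_ne hij with h | h
      · exact hdisjW i j h _ h1 (h3 ▸ h2)
      · exact hdisjW j i h _ h2 (h3.symm ▸ h1))
    have hr : Set.range d = Set.range V.ι := by
      rw [Scheme.Opens.range_ι]
      ext x
      constructor
      · rintro ⟨z, rfl⟩
        obtain ⟨i, a, rfl⟩ : ∃ i, ∃ a, Limits.Sigma.ι g i a = z := ⟨_, (sigmaOpenCover g).covers z⟩
        rw [← Scheme.Hom.comp_apply, Limits.Sigma.ι_desc]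
        exact TopologicalSpace.Opens.mem_iSup.2 ⟨i, a.2⟩
      · intro hx
        obtain ⟨i, hi⟩ := TopologicalSpace.Opens.mem_iSup.1 hx
        exact ⟨Limits.Sigma.ι g i ⟨x, hi⟩, by rw [← Scheme.Hom.comp_apply, Limits.Sigma.ι_desc]; rfl⟩
    let iso := IsOpenImmersion.isoOfRangeEq d V.ι hr
    refine ⟨?_⟩
    rw [show Limits.terminal.from (V : Scheme.{u}) = iso.inv ≫ m ≫ Limits.terminal.from (∐ gU) from Subsingleton.elim _ _]
    infer_instance

end Groth.Agent.S7387
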