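import Groth.Statements.S7390
-- import your own Groth.Agent.* helpers here
import Groth.Agent.InvPow.SecTwistExtend
import Groth.Agent.InvPow.Ample

set_option autoImplicit false
universe u
open CategoryTheory AlgebraicGeometry
open Mor

namespace Groth.Agent.S7390

/-- Let `X` be a scheme such that every point lies in some affine open `X_s`, the locus where a global
section `s` generates an invertible `O_X`-module `L` (both depending on the point). Then the
diagonal of `X` is an affine morphism. -/
theorem result (X : Scheme.{u})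
    (h : ∀ x : X, ∃ (L : X.Modules) (s : Coh.structureModule X ⟶ L), PicF.IsInvertible L ∧
      x ∈ CohB1.genLocus L s ∧ IsAffineOpen (CohB1.genLocus L s)) :
    IsAffineHom (Limits.pullback.diagonal (Limits.terminal.from X)) := by
  choose L s hL hx hs using h
  refine isAffineHom_diagonal_iff.2 fun W _ V₁ hV₁ V₂ hV₂ h₁ h₂ => ?_
  haveI hA : IsAffineHom V₁.ι := isAffineHom_of_forall_exists_isAffineOpen _ fun x => ⟨_, hx x, hs x, by
    have h3 : IsAffineOpen (CohB1.genLocus (L x) (s x) ⊓ V₁) := by
      rw [InvPow.genLocus_eq_sec (s x) (hL x)]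
      exact InvPow.isAffineOpen_genOpen_inf (hL x) _ h₁
    rw [← Scheme.Hom.isAffineOpen_iff_of_isOpenImmersion V₁.ι]
    rwa [Scheme.Hom.image_preimage_eq_opensRange_inf, Scheme.Opens.opensRange_ι, inf_comm]⟩
  have h4 := h₂.preimage V₁.ι
  rw [← Scheme.Hom.isAffineOpen_iff_of_isOpenImmersion V₁.ι, Scheme.Hom.image_preimage_eq_opensRange_inf,
    Scheme.Opens.opensRange_ι] at h4
  exact h4

end Groth.Agent.S7390
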