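import Groth.Statements.S7392
import Groth.Agent.ProjLocal.Basic

set_option autoImplicit false
universe u
open CategoryTheory AlgebraicGeometry
open Opposite
open Mor

namespace Groth.Agent.S7392

/-- For a ring `A` and an `A`-module `M`, the module `M~` on `Spec A` is locally projective (projective
sections over every affine open) if and only if `M` is a projective `A`-module. -/
theorem result (A : CommRingCat.{u}) (M : ModuleCat.{u} A) :
    (∀ U : (Spec A).Opens, IsAffineOpen U →
      Module.Projective ((Spec A).ringCatSheaf.obj.obj (op U)) ((tilde M).val.obj (op U))) ↔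
      Module.Projective A M := by
  let e : M ≃ₗ[A] Groth.Agent.QCohLib.ΓR (tilde M) := (tilde.isoTop M).toLinearEquiv
  let σ : A ≃+* Γ(Spec A, ⊤) := (Scheme.ΓSpecIso A).symm.commRingCatIsoToRingEquiv
  haveI := RingHomInvPair.of_ringEquiv σ
  haveI := RingHomInvPair.of_ringEquiv_symm σ
  let e' : M ≃ₛₗ[(σ : A →+* Γ(Spec A, ⊤))] Γ(tilde M, ⊤) :=
    { toFun := fun x => e x
      map_add' := fun x y => e.map_add x y
      map_smul' := fun r x => e.map_smul r x
      invFun := fun y => e.symm y
      left_inv := fun x => e.symm_apply_apply x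
      right_inv := fun y => e.apply_symm_apply y }
  constructor
  · intro h
    haveI : Module.Projective Γ(Spec A, ⊤) Γ(tilde M, ⊤) := h ⊤ (isAffineOpen_top _)
    exact Module.Projective.of_equiv e'.symm
  · intro h V hV
    exact Groth.Agent.ProjLocal.projective_of_cover (tilde M)
      (fun _ : Unit => ⟨⊤, isAffineOpen_top _⟩) (iSup_const)
      (fun _ => Module.Projective.of_equiv e') ⟨V, hV⟩


end Groth.Agent.S7392
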