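import Groth.Statements.S7397

set_option autoImplicit false
universe u
open Mor

namespace Groth.Agent.S7397

/-- Let `A ⊆ B` be a ring extension and `b ∈ B`, `b ∉ A`, with `b^n, b^(n+1) ∈ A` for some `n ≥ 2`. Then
some `b' ∈ B` with `b' ∉ A` has `b'^2 ∈ A` and `b'^3 ∈ A`. -/
theorem result {B : Type u} [CommRing B] (A : Subring B) (b : B) (hb : b ∉ A)
    (n : ℕ) (hn : 2 ≤ n) (h1 : b ^ n ∈ A) (h2 : b ^ (n + 1) ∈ A) :
    ∃ b' : B, b' ∉ A ∧ b' ^ 2 ∈ A ∧ b' ^ 3 ∈ A := by
  classical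
  have hbig : ∀ j, n * n ≤ j → b ^ j ∈ A := by
    intro j hj
    have hn0 : 0 < n := by omega
    have hr : j % n < n := Nat.mod_lt _ hn0
    have hq : n ≤ j / n := (Nat.le_div_iff_mul_le hn0).mpr hj
    have h3 : j = n * (j / n - j % n) + (n + 1) * (j % n) := by
      obtain ⟨e, he⟩ := Nat.exists_eq_add_of_le (hr.le.trans hq)
      have hdm := Nat.div_add_mod j n
      rw [he] at hdm ⊢
      rw [Nat.add_sub_cancel_left]
      rw [Nat.mul_add] at hdm
      rw [Nat.add_mul, Nat.one_mul]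
      omega
    rw [h3, pow_add, pow_mul, pow_mul]
    exact mul_mem (pow_mem h1 _) (pow_mem h2 _)
  have hex : ∃ N, ∀ j, N ≤ j → b ^ j ∈ A := ⟨n * n, hbig⟩
  have hspec := Nat.find_spec hex
  have hN : 2 ≤ Nat.find hex := by
    by_contra hlt
    exact hb (by simpa using hspec 1 (by omega))
  have hmem : b ^ (Nat.find hex - 1) ∉ A := by
    intro hm
    refine Nat.find_min hex (m := Nat.find hex - 1) (by omega) fun j hj => ?_
    rcases eq_or_lt_of_le hj with h | h
    · exact h ▸ hm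
    · exact hspec j (by omega)
  refine ⟨b ^ (Nat.find hex - 1), hmem, ?_, ?_⟩
  · rw [← pow_mul]; exact hspec _ (by omega)
  · rw [← pow_mul]; exact hspec _ (by omega)

end Groth.Agent.S7397
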