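import Groth.Statements.S7402
import Groth.Agent.UHTower.Tower
-- import your own Groth.Agent.* helpers here

set_option autoImplicit false
universe u
open CategoryTheory AlgebraicGeometry
open Polynomial
open Mor

namespace Groth.Agent.S7402

/-- Let `A` be a ring and `x, y ∈ A` with `x^3 = y^2`. Then `A → B = A[t]/(t^2 - x, t^3 - y)` induces a
universal homeomorphism on spectra and isomorphisms on residue fields. -/
theorem result (A : Type u) [CommRing A] (x y : A) (h : x ^ 3 = y ^ 2) :
    FlatMor.IsUnivHomeo (Spec.map (CommRingCat.ofHom (algebraMap A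
      (A[X] ⧸ Ideal.span ({X ^ 2 - C x, X ^ 3 - C y} : Set A[X]))))) ∧
    ∀ q : Spec (CommRingCat.of (A[X] ⧸ Ideal.span ({X ^ 2 - C x, X ^ 3 - C y} : Set A[X]))),
      Function.Surjective ((Spec.map (CommRingCat.ofHom (algebraMap A
        (A[X] ⧸ Ideal.span ({X ^ 2 - C x, X ^ 3 - C y} : Set A[X]))))).residueFieldMap q) := by
  let I : Ideal A[X] := Ideal.span ({X ^ 2 - C x, X ^ 3 - C y} : Set A[X])
  let t : A[X] ⧸ I := Ideal.Quotient.mk I X
  have h2 : t ^ 2 = algebraMap A (A[X] ⧸ I) x := (Ideal.Quotient.mk_eq_mk_iff_sub_mem _ _).mpr (Ideal.subset_span (by simp))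
  have h3 : t ^ 3 = algebraMap A (A[X] ⧸ I) y := (Ideal.Quotient.mk_eq_mk_iff_sub_mem _ _).mpr (Ideal.subset_span (by simp))
  have hgen : ∀ z : A[X] ⧸ I, z ∈ Algebra.adjoin A {b | b ∈ [t]} := by
    intro z
    obtain ⟨P, rfl⟩ := Ideal.Quotient.mk_surjective z
    have : Ideal.Quotient.mk I P = aeval t P := (aeval_algHom_apply (Ideal.Quotient.mkₐ A I) X P).trans (by simp) |>.symm
    rw [this]
    exact Polynomial.aeval_mem_adjoin_singleton A t |> (Algebra.adjoin_mono (by simp) ·)
  have hc : Groth.Agent.UHTower.Covered A (A[X] ⧸ I) False := fun z =>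
    ⟨[t], fun i hi => by
      have : i = 0 := by simp at hi; omega
      subst this
      exact .inl ⟨by simp only [List.getElem_cons_zero, h2]; exact Subalgebra.algebraMap_mem _ x,
        by simp only [List.getElem_cons_zero, h3]; exact Subalgebra.algebraMap_mem _ y⟩, hgen z⟩
  refine ⟨Groth.Agent.UHTower.univHomeo_of_covered ?_ hc, Groth.Agent.UHTower.residue_of_covered hc⟩
  intro a ha
  rw [nilradical_eq_sInf, Ideal.mem_sInf]
  intro P hP
  have hP' : P.IsPrime := hP
  let g : A →+* P.ResidueField := algebraMap A P.ResidueField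
  let z : P.ResidueField := g y / g x
  have hz : z ^ 2 = g x ∧ z ^ 3 = g y := by
    have hh : g x ^ 3 = g y ^ 2 := by rw [← map_pow, ← map_pow, h]
    by_cases h0 : g x = 0
    · have hy0 : g y = 0 := (pow_eq_zero_iff two_ne_zero).mp (by rw [← hh, h0]; simp)
      simp [z, h0, hy0]
    · constructor
      · show (g y / g x) ^ 2 = g x
        rw [div_pow, ← hh, div_eq_iff (pow_ne_zero 2 h0)]; ring
      · show (g y / g x) ^ 3 = g y
        rw [div_pow, div_eq_iff (pow_ne_zero 3 h0), hh]; ring
  let ψ : A[X] ⧸ I →+* P.ResidueField := Ideal.Quotient.lift I (eval₂RingHom g z) fun q hq => by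
    have : I ≤ RingHom.ker (eval₂RingHom g z) := Ideal.span_le.mpr (by
      rintro _ (rfl | rfl) <;> simp [hz.1, hz.2])
    exact this hq
  have hψ : ψ (algebraMap A (A[X] ⧸ I) a) = g a := by
    show eval₂RingHom g z (C a) = g a
    simp
  have ha' : algebraMap A (A[X] ⧸ I) a = 0 := ha
  rw [ha', map_zero] at hψ
  exact Ideal.algebraMap_residueField_eq_zero.mp hψ.symm

end Groth.Agent.S7402
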