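import Groth.Statements.S7403
import Groth.Agent.UHTower.Tower
-- import your own Groth.Agent.* helpers here

set_option autoImplicit false
universe u
open CategoryTheory AlgebraicGeometry
open Polynomial
open Mor

namespace Groth.Agent.S7403

/-- Let `A` be a ring, `p` a prime number and `x, y ∈ A` with `p^p x = y^p`. Then `A → B = A[t]/(t^p -
x, p t - y)` induces a universal homeomorphism on spectra. -/
theorem result (A : Type u) [CommRing A] (p : ℕ) (hp : p.Prime) (x y : A)
    (h : (p : A) ^ p * x = y ^ p) :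
    FlatMor.IsUnivHomeo (Spec.map (CommRingCat.ofHom (algebraMap A
      (A[X] ⧸ Ideal.span ({X ^ p - C x, C (p : A) * X - C y} : Set A[X]))))) := by
  let I : Ideal A[X] := Ideal.span ({X ^ p - C x, C (p : A) * X - C y} : Set A[X])
  let t : A[X] ⧸ I := Ideal.Quotient.mk I X
  have h2 : t ^ p = algebraMap A (A[X] ⧸ I) x := (Ideal.Quotient.mk_eq_mk_iff_sub_mem _ _).mpr (Ideal.subset_span (by simp))
  have h3 : (p : A[X] ⧸ I) * t = algebraMap A (A[X] ⧸ I) y := by
    have e : Ideal.Quotient.mk I (C (p : A) * X) = Ideal.Quotient.mk I (C y) :=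
      (Ideal.Quotient.mk_eq_mk_iff_sub_mem _ _).mpr (Ideal.subset_span (by simp))
    simp only [map_mul, map_natCast] at e
    exact e
  have hgen : ∀ z : A[X] ⧸ I, z ∈ Algebra.adjoin A {b | b ∈ [t]} := by
    intro z
    obtain ⟨P, rfl⟩ := Ideal.Quotient.mk_surjective z
    have : Ideal.Quotient.mk I P = aeval t P := (aeval_algHom_apply (Ideal.Quotient.mkₐ A I) X P).trans (by simp) |>.symm
    rw [this]
    exact Polynomial.aeval_mem_adjoin_singleton A t |> (Algebra.adjoin_mono (by simp) ·)
  have hc : Groth.Agent.UHTower.Covered A (A[X] ⧸ I) True := fun z =>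
    ⟨[t], fun i hi => by
      have : i = 0 := by simp at hi; omega
      subst this
      exact .inr ⟨trivial, p, hp, by simp only [List.getElem_cons_zero, h3]; exact Subalgebra.algebraMap_mem _ y,
        by simp only [List.getElem_cons_zero, h2]; exact Subalgebra.algebraMap_mem _ x⟩, hgen z⟩
  refine Groth.Agent.UHTower.univHomeo_of_covered ?_ hc
  intro a ha
  rw [nilradical_eq_sInf, Ideal.mem_sInf]
  intro P hP
  have hP' : P.IsPrime := hP
  let K := AlgebraicClosure P.ResidueField
  let g : A →+* K := (algebraMap P.ResidueField K).comp (algebraMap A P.ResidueField)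
  have hh : (p : K) ^ p * g x = g y ^ p := by
    have := congrArg g h
    simpa using this
  obtain ⟨z, hz1, hz2⟩ : ∃ z : K, z ^ p = g x ∧ (p : K) * z = g y := by
    by_cases h0 : (p : K) = 0
    · obtain ⟨z, hz⟩ := IsAlgClosed.exists_pow_nat_eq (g x) hp.pos
      have hy0 : g y = 0 := (pow_eq_zero_iff hp.ne_zero).mp (by rw [← hh, h0, zero_pow hp.ne_zero, zero_mul])
      exact ⟨z, hz, by rw [h0, hy0, zero_mul]⟩
    · refine ⟨g y / (p : K), ?_, mul_div_cancel₀ _ h0⟩
      rw [div_pow, div_eq_iff (pow_ne_zero p h0), ← hh, mul_comm]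
  let ψ : A[X] ⧸ I →+* K := Ideal.Quotient.lift I (eval₂RingHom g z) fun q hq => by
    have : I ≤ RingHom.ker (eval₂RingHom g z) := Ideal.span_le.mpr (by
      rintro _ (rfl | rfl) <;> simp [hz1, hz2])
    exact this hq
  have hψ : ψ (algebraMap A (A[X] ⧸ I) a) = g a := by
    show eval₂RingHom g z (C a) = g a
    simp
  have ha' : algebraMap A (A[X] ⧸ I) a = 0 := ha
  rw [ha', map_zero] at hψ
  exact Ideal.algebraMap_residueField_eq_zero.mp
    ((algebraMap P.ResidueField K).injective (hψ.symm.trans (map_zero _).symm))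

end Groth.Agent.S7403
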