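import Groth.Statements.S7404
import Groth.Agent.UHTower.Tower
import Groth.Agent.AWN.Ring
-- import your own Groth.Agent.* helpers here

set_option autoImplicit false
universe u
open CategoryTheory AlgebraicGeometry
open Mor

namespace Groth.Agent.S7404

/-- Let `A → B` be a ring map and `B' ⊆ B` an `A`-subalgebra, with `f : Spec B → Spec A` and `f' : Spec
B' → Spec A` the induced morphisms. Each of the following properties passes from `f` to `f'`: being
a universal homeomorphism; being a universal homeomorphism with trivial residue field extensions;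
being universally closed; being both universally closed and universally injective. -/
theorem result {A B : Type u} [CommRing A] [CommRing B] [Algebra A B]
    (B' : Subalgebra A B) :
    (FlatMor.IsUnivHomeo (Spec.map (CommRingCat.ofHom (algebraMap A B))) →
      FlatMor.IsUnivHomeo (Spec.map (CommRingCat.ofHom (algebraMap A B')))) ∧
    ((FlatMor.IsUnivHomeo (Spec.map (CommRingCat.ofHom (algebraMap A B))) ∧
      ∀ x : Spec (CommRingCat.of B),
        Function.Surjective ((Spec.map (CommRingCat.ofHom (algebraMap A B))).residueFieldMap x)) →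
      FlatMor.IsUnivHomeo (Spec.map (CommRingCat.ofHom (algebraMap A B'))) ∧
      ∀ x : Spec (CommRingCat.of B'),
        Function.Surjective ((Spec.map (CommRingCat.ofHom (algebraMap A B'))).residueFieldMap x)) ∧
    (UniversallyClosed (Spec.map (CommRingCat.ofHom (algebraMap A B))) →
      UniversallyClosed (Spec.map (CommRingCat.ofHom (algebraMap A B')))) ∧
    (UniversallyClosed (Spec.map (CommRingCat.ofHom (algebraMap A B))) →
      UniversallyInjective (Spec.map (CommRingCat.ofHom (algebraMap A B))) →
      UniversallyClosed (Spec.map (CommRingCat.ofHom (algebraMap A B'))) ∧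
      UniversallyInjective (Spec.map (CommRingCat.ofHom (algebraMap A B')))) := by
  have hint : UniversallyClosed (Spec.map (CommRingCat.ofHom (algebraMap A B))) →
      Algebra.IsIntegral A B' := fun hU => by
    have hAB : Algebra.IsIntegral A B := algebraMap_isIntegral_iff.mp (IsIntegralHom.SpecMap_iff.mp
      (IsIntegralHom.iff_universallyClosed_and_isAffineHom.mpr ⟨hU, inferInstance⟩))
    exact ⟨fun b => (isIntegral_algHom_iff B'.val Subtype.val_injective).mp (hAB.isIntegral _)⟩
  have huc : Algebra.IsIntegral A B' → UniversallyClosed (Spec.map (CommRingCat.ofHom (algebraMap A B'))) :=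
    fun h => (IsIntegralHom.iff_universallyClosed_and_isAffineHom.mp
      (IsIntegralHom.SpecMap_iff.mpr (algebraMap_isIntegral_iff.mpr h))).1
  have hhom : Algebra.IsIntegral A B → Groth.Agent.AWN.HomInj (algebraMap A B) →
      Groth.Agent.AWN.HomInj (algebraMap A B') := by
    intro hAB hi K _ g g' hgg
    have hBB : Algebra.IsIntegral B' B := Algebra.IsIntegral.tower_top A
    let Kb := AlgebraicClosure K
    have hker : ∀ r : B' →+* Kb, RingHom.ker (algebraMap B' B) ≤ RingHom.ker r := fun r b hb => by
      have hb0 : b = 0 := Subtype.ext hb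
      rw [hb0]; exact Ideal.zero_mem _
    obtain ⟨G, hG⟩ := Groth.Agent.AWN.exists_extend_field (algebraMap B' B) (algebraMap_isIntegral_iff.mpr hBB) ((algebraMap K Kb).comp g) (hker _)
    obtain ⟨G', hG'⟩ := Groth.Agent.AWN.exists_extend_field (algebraMap B' B) (algebraMap_isIntegral_iff.mpr hBB) ((algebraMap K Kb).comp g') (hker _)
    have : G = G' := hi Kb G G' (by
      rw [IsScalarTower.algebraMap_eq A B' B, ← RingHom.comp_assoc, ← RingHom.comp_assoc, hG, hG',
        RingHom.comp_assoc, RingHom.comp_assoc, hgg])
    refine RingHom.ext fun b => (algebraMap K Kb).injective ?_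
    exact (DFunLike.congr_fun hG b).symm.trans ((by rw [this] : G (algebraMap B' B b) = G' (algebraMap B' B b)).trans
      (DFunLike.congr_fun hG' b))
  have hUH : FlatMor.IsUnivHomeo (Spec.map (CommRingCat.ofHom (algebraMap A B))) →
      FlatMor.IsUnivHomeo (Spec.map (CommRingCat.ofHom (algebraMap A B'))) := fun hU => by
    obtain ⟨h1, h2, h3⟩ := (Groth.Agent.AWN.isUnivHomeo_spec_iff _).mp hU
    have hAB := algebraMap_isIntegral_iff.mp h1
    refine (Groth.Agent.AWN.isUnivHomeo_spec_iff _).mpr
      ⟨algebraMap_isIntegral_iff.mpr ⟨fun b => (isIntegral_algHom_iff B'.val Subtype.val_injective).mp (hAB.isIntegral _)⟩,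
        hhom hAB h2, fun x => ?_⟩
    obtain ⟨Q, rfl⟩ := h3 x
    exact ⟨PrimeSpectrum.comap (algebraMap B' B) Q, rfl⟩
  refine ⟨hUH, fun ⟨hU, hres⟩ => ⟨hUH hU, ?_⟩, fun hU => huc (hint hU), fun hU hUI =>
    ⟨huc (hint hU), ?_⟩⟩
  · rw [Groth.Agent.UHTower.surjective_residueFieldMap_iff] at hres ⊢
    intro q hq b
    obtain ⟨h1, -, -⟩ := Groth.Agent.UHTower.of_univHomeo hU
    have hBB : Algebra.IsIntegral B' B := Algebra.IsIntegral.tower_top A
    obtain ⟨Q, -, hQ, hQq⟩ := Ideal.exists_ideal_over_prime_of_isIntegral q (⊥ : Ideal B) (by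
      intro c hc
      rw [Ideal.mem_comap, Ideal.mem_bot] at hc
      have : c = 0 := Subtype.ext hc
      exact this ▸ q.zero_mem)
    obtain ⟨c, e, he, hm⟩ := hres Q hQ b
    exact ⟨c, e, fun h' => he (by rw [← hQq] at h'; exact h'), by rw [← hQq]; exact hm⟩
  · have hAB : Algebra.IsIntegral A B := algebraMap_isIntegral_iff.mp (IsIntegralHom.SpecMap_iff.mp
      (IsIntegralHom.iff_universallyClosed_and_isAffineHom.mpr ⟨hU, inferInstance⟩))
    exact (Groth.Agent.AWN.universallyInjective_spec_iff _).mpr
      (hhom hAB ((Groth.Agent.AWN.universallyInjective_spec_iff _).mp hUI))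

end Groth.Agent.S7404
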