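import Groth.Statements.S7405
import Groth.Agent.AWN.Hom

set_option autoImplicit false
universe u
open CategoryTheory AlgebraicGeometry
open Mor

namespace Groth.Agent.S7405

open Limits in
private lemma exists_preimage {A : CommRingCat.{u}} {J : Type u} [SmallCategory J] [IsFiltered J] (F : J ⥤ Under A)
    (c : Cocone F) (hc : IsColimit c) (b : c.pt.right) : ∃ (j : J) (x : (F.obj j).right), (c.ι.app j).right x = b :=
  Types.jointly_surjective_of_isColimit (isColimitOfPreserves (Under.forget A ⋙ forget CommRingCat) hc) b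

open Limits in
private lemma eq_zero_of_map_eq_zero {A : CommRingCat.{u}} {J : Type u} [SmallCategory J] [IsFiltered J]
    (F : J ⥤ Under A) (c : Cocone F) (hc : IsColimit c) (a : A) (ha : c.pt.hom a = 0) :
    ∃ j, (F.obj j).hom a = 0 := by
  obtain ⟨j⟩ := IsFiltered.nonempty (C := J)
  have h : ((Under.forget A ⋙ forget CommRingCat).mapCocone c).ι.app j ((F.obj j).hom a) =
      ((Under.forget A ⋙ forget CommRingCat).mapCocone c).ι.app j (0 : (F.obj j).right) := by
    show (c.ι.app j).right ((F.obj j).hom a) = (c.ι.app j).right 0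
    rw [map_zero, ← CommRingCat.comp_apply, Under.w (c.ι.app j)]
    exact ha
  obtain ⟨k, f, g, hk⟩ := (Types.FilteredColimit.isColimit_eq_iff _
    (isColimitOfPreserves (Under.forget A ⋙ forget CommRingCat) hc)).mp h
  refine ⟨k, ?_⟩
  rw [← Under.w (F.map f), CommRingCat.comp_apply]
  exact hk.trans (map_zero ((F.map g).right).hom)

/-- Let `A` be a ring and `B` the colimit of a filtered diagram `j ↦ B_j` of `A`-algebras. Each of the
following properties, when it holds for every `Spec B_j → Spec A`, holds for `Spec B → Spec A`: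
being a universal homeomorphism; being a universal homeomorphism with trivial residue field
extensions; being universally closed; being both universally closed and universally injective. -/
theorem result (A : CommRingCat.{u}) {J : Type u} [SmallCategory J]
    [IsFiltered J] (F : J ⥤ Under A) (c : Limits.Cocone F) (hc : Limits.IsColimit c) :
    ((∀ j, FlatMor.IsUnivHomeo (Spec.map (F.obj j).hom)) → FlatMor.IsUnivHomeo (Spec.map c.pt.hom)) ∧
    ((∀ j, FlatMor.IsUnivHomeo (Spec.map (F.obj j).hom) ∧
        ∀ x : Spec (F.obj j).right, Function.Surjective ((Spec.map (F.obj j).hom).residueFieldMap x)) →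
      FlatMor.IsUnivHomeo (Spec.map c.pt.hom) ∧
        ∀ x : Spec c.pt.right, Function.Surjective ((Spec.map c.pt.hom).residueFieldMap x)) ∧
    ((∀ j, UniversallyClosed (Spec.map (F.obj j).hom)) → UniversallyClosed (Spec.map c.pt.hom)) ∧
    ((∀ j, UniversallyClosed (Spec.map (F.obj j).hom) ∧ UniversallyInjective (Spec.map (F.obj j).hom)) →
      UniversallyClosed (Spec.map c.pt.hom) ∧ UniversallyInjective (Spec.map c.pt.hom)) := by
  let φ := c.pt.hom.hom
  have hint : (∀ j, UniversallyClosed (Spec.map (F.obj j).hom)) → φ.IsIntegral := by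
    intro h b
    obtain ⟨j, x, rfl⟩ := exists_preimage F c hc b
    haveI := h j
    have : (F.obj j).hom.hom.IsIntegral := IsIntegralHom.SpecMap_iff.mp
      (IsIntegralHom.iff_universallyClosed_and_isAffineHom.mpr ⟨inferInstance, inferInstance⟩)
    obtain ⟨p, hp, hpx⟩ := this x
    refine ⟨p, hp, ?_⟩
    have h2 := congrArg ((c.ι.app j).right).hom hpx
    rw [Polynomial.hom_eval₂, map_zero, ← CommRingCat.hom_comp, Under.w] at h2
    exact h2
  have hinj : (∀ j, UniversallyInjective (Spec.map (F.obj j).hom)) → AWN.HomInj φ := by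
    intro h K _ g g' hgg
    refine RingHom.ext fun b => ?_
    obtain ⟨j, x, rfl⟩ := exists_preimage F c hc b
    refine RingHom.congr_fun ((AWN.universallyInjective_spec_iff (F.obj j).hom.hom).mp (h j) K
      (g.comp (c.ι.app j).right.hom) (g'.comp (c.ι.app j).right.hom) ?_) x
    rw [RingHom.comp_assoc, RingHom.comp_assoc, ← CommRingCat.hom_comp, Under.w]
    exact hgg
  have huc : (∀ j, UniversallyClosed (Spec.map (F.obj j).hom)) → UniversallyClosed (Spec.map c.pt.hom) := by
    intro h
    haveI : IsIntegralHom (Spec.map c.pt.hom) := IsIntegralHom.SpecMap_iff.mpr (hint h)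
    infer_instance
  have hhom : (∀ j, FlatMor.IsUnivHomeo (Spec.map (F.obj j).hom)) → FlatMor.IsUnivHomeo (Spec.map c.pt.hom) := by
    intro h
    have hi : φ.IsIntegral := hint fun j => by
      haveI := ((AWN.isUnivHomeo_iff _).mp (h j)).1
      infer_instance
    refine (AWN.isUnivHomeo_spec_iff φ).mpr ⟨hi, hinj fun j => ((AWN.isUnivHomeo_iff _).mp (h j)).2.1, fun p => ?_⟩
    have hker : RingHom.ker φ ≤ p.asIdeal := fun a ha => by
      obtain ⟨j, hj⟩ := eq_zero_of_map_eq_zero F c hc a ha
      obtain ⟨q, hq⟩ := ((AWN.isUnivHomeo_spec_iff (F.obj j).hom.hom).mp (h j)).2.2 p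
      rw [← hq]
      show (F.obj j).hom a ∈ q.asIdeal
      rw [hj]
      exact zero_mem _
    letI := φ.toAlgebra
    haveI : Algebra.IsIntegral A c.pt.right := ⟨hi⟩
    obtain ⟨q, -, hq, hqp⟩ := Ideal.exists_ideal_over_prime_of_isIntegral p.asIdeal (⊥ : Ideal c.pt.right) hker
    exact ⟨⟨q, hq⟩, PrimeSpectrum.ext hqp⟩
  refine ⟨hhom, fun h => ⟨hhom fun j => (h j).1, fun x => ?_⟩, huc,
    fun h => ⟨huc fun j => (h j).1, (AWN.universallyInjective_spec_iff φ).mpr (hinj fun j => (h j).2)⟩⟩
  have hres : AWN.ResTriv φ := by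
    intro K _ g b
    obtain ⟨j, y, rfl⟩ := exists_preimage F c hc b
    have h1 : HTop.ResidueFieldsIso (Spec.map (F.obj j).hom) := fun z =>
      (ConcreteCategory.isIso_iff_bijective _).mpr ⟨RingHom.injective _, (h j).2 z⟩
    have h2 := (AWN.resTriv_iff (F.obj j).hom.hom).mpr h1 K (g.comp (c.ι.app j).right.hom) y
    rw [RingHom.comp_assoc, ← CommRingCat.hom_comp, Under.w] at h2
    exact h2
  haveI := (AWN.resTriv_iff φ).mp hres x
  exact ((ConcreteCategory.isIso_iff_bijective _).mp this).2

end Groth.Agent.S7405
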