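import Groth.Statements.S7407
import Groth.Agent.Weighting.Geom
import Groth.Agent.Weighting.Local
import Mathlib
-- import your own Groth.Agent.* helpers here

set_option autoImplicit false
universe u
open CategoryTheory AlgebraicGeometry
open Desc

set_option linter.style.haveILetI false
namespace Groth.Agent.S7407

/-- The transcendence degree of the residue field extension `κ(x)/κ(s)` of a morphism of germs `(X, x) →
(S, s)` is étale local on the source-and-target: for a commutative square with horizontal maps `h' :
U' → V'`, `h : U → V`, étale vertical maps `a : U' → U`, `b : V' → V` and `u' ∈ U'` with `u =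
a(u')`, the transcendence degree of `κ(u)` over `κ(h(u))` equals that of `κ(u')` over `κ(h'(u'))`. -/
theorem result {U U' V V' : Scheme.{u}} (h : U ⟶ V) (h' : U' ⟶ V') (a : U' ⟶ U)
    (b : V' ⟶ V) [Etale a] [Etale b] (comm : h' ≫ b = a ≫ h) (u' : U') :
    @Algebra.trdeg (V.residueField (h (a u'))) (U.residueField (a u')) _ _ (h.residueFieldMap (a u')).hom.toAlgebra =
      @Algebra.trdeg (V'.residueField (h' u')) (U'.residueField u') _ _ (h'.residueFieldMap u').hom.toAlgebra := by
    have key : ∀ {A B C : CommRingCat.{u}} (_ : IsField A) (_ : IsField B) (_ : IsField C) (φ : A ⟶ B) (ψ : B ⟶ C),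
        @Algebra.trdeg A C _ _ (φ ≫ ψ).hom.toAlgebra =
          @Algebra.trdeg A B _ _ φ.hom.toAlgebra + @Algebra.trdeg B C _ _ ψ.hom.toAlgebra := by
      intro A B C hA hB hC φ ψ
      letI := hA.toField
      letI := hB.toField
      letI := hC.toField
      letI := φ.hom.toAlgebra
      letI := ψ.hom.toAlgebra
      letI := (φ ≫ ψ).hom.toAlgebra
      haveI : IsScalarTower A B C := IsScalarTower.of_algebraMap_eq' rfl
      haveI : FaithfulSMul A B := (faithfulSMul_iff_algebraMap_injective A B).mpr φ.hom.injective
      haveI : FaithfulSMul B C := (faithfulSMul_iff_algebraMap_injective B C).mpr ψ.hom.injective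
      exact (trdeg_add_eq A B (A := C)).symm
    have zero : ∀ {A B : CommRingCat.{u}} (_ : IsField A) (φ : A ⟶ B), φ.hom.Finite →
        @Algebra.trdeg A B _ _ φ.hom.toAlgebra = 0 := by
      intro A B hA φ hφ
      letI := hA.toField
      letI := φ.hom.toAlgebra
      haveI : Module.Finite A B := hφ
      exact trdeg_eq_zero
    have hF : ∀ {X : Scheme.{u}} (x : X), IsField (X.residueField x) := fun x => Field.toIsField _
    have hfin : ∀ {X : Scheme.{u}} {x y : X} (e : x = y), (X.residueFieldCongr e).hom.hom.Finite := by
      intro X x y e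
      subst e
      simpa using RingHom.Finite.id (X.residueField x)
    have e : (a ≫ h).residueFieldMap u' = _ := Scheme.Hom.residueFieldMap_congr comm.symm u'
    rw [Scheme.residueFieldMap_comp, Scheme.residueFieldMap_comp] at e
    have e2 : @Algebra.trdeg _ _ _ _ (h.residueFieldMap (a u') ≫ a.residueFieldMap u').hom.toAlgebra =
      @Algebra.trdeg _ _ _ _ (((V.residueFieldCongr (by rw [← Scheme.Hom.comp_apply, ← Scheme.Hom.comp_apply, comm])).hom :
          V.residueField (h (a u')) ⟶ V.residueField (b (h' u'))) ≫
        b.residueFieldMap (h' u') ≫ h'.residueFieldMap u').hom.toAlgebra := by rw [e]; rfl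
    have k1 := key (hF _) (hF _) (hF _) (h.residueFieldMap (a u')) (a.residueFieldMap u')
    have k2 := key (hF _) (hF _) (hF _) ((V.residueFieldCongr (by rw [← Scheme.Hom.comp_apply, ← Scheme.Hom.comp_apply, comm])).hom :
        V.residueField (h (a u')) ⟶ V.residueField (b (h' u'))) (b.residueFieldMap (h' u') ≫ h'.residueFieldMap u')
    have k3 := key (hF _) (hF _) (hF _) (b.residueFieldMap (h' u')) (h'.residueFieldMap u')
    have z1 := zero (hF _) _ (Groth.Agent.Weighting.residueFieldMap_finite a u')
    have z2 := zero (hF _) _ (Groth.Agent.Weighting.residueFieldMap_finite b (h' u'))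
    have z3 := zero (hF _) _ (hfin (X := V) (x := h (a u')) (y := b (h' u')) (by rw [← Scheme.Hom.comp_apply, ← Scheme.Hom.comp_apply, comm]))
    rw [k1, k2, k3, z1, z2, z3, add_zero, zero_add, zero_add] at e2
    exact e2

end Groth.Agent.S7407
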