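import Mathlib
import Groth.Statements.S7412
-- import your own Groth.Agent.* helpers here

set_option autoImplicit false
universe u
open Desc

namespace Groth.Agent.S7412

open scoped TensorProduct

/-- Let `R` be a ring and `f : M → N` a map of `R`-modules. Then `f` is universally injective (`f ⊗ 1_P`
is injective for every `R`-module `P`; here `P` ranges over modules in the same universe, which
suffices) if and only if the map of character modules `C(N) → C(M)`, `C(-) = Hom_ℤ(-, ℚ/ℤ)`, is a
split surjection of `R`-modules. -/
theorem result {R : Type u} [CommRing R] {M N : Type u}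
    [AddCommGroup M] [Module R M] [AddCommGroup N] [Module R N] (f : M →ₗ[R] N) :
    (∀ (P : Type u) [AddCommGroup P] [Module R P], Function.Injective (f.lTensor P)) ↔
      ∃ g : CharacterModule M →ₗ[R] CharacterModule N, (CharacterModule.dual f).comp g = LinearMap.id := by
  constructor
  · intro h
    obtain ⟨c, hc⟩ := CharacterModule.dual_surjective_of_injective (f.lTensor (CharacterModule M)) (h _)
      (CharacterModule.uncurry (LinearMap.id : CharacterModule M →ₗ[R] CharacterModule M))
    refine ⟨CharacterModule.curry c, LinearMap.ext fun φ => CharacterModule.ext (A := M) fun m => ?_⟩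
    exact DFunLike.congr_fun hc (φ ⊗ₜ[R] m)
  · rintro ⟨g, hg⟩ P _ _
    rw [← CharacterModule.dual_surjective_iff_injective]
    intro c
    refine ⟨CharacterModule.uncurry (g ∘ₗ CharacterModule.curry c), CharacterModule.ext (A := P ⊗[R] M) fun x => ?_⟩
    induction x using TensorProduct.induction_on with
    | zero => rw [map_zero, map_zero]
    | tmul q m => exact DFunLike.congr_fun (LinearMap.congr_fun hg (CharacterModule.curry c q)) m
    | add a b ha hb => rw [map_add, map_add, ha, hb]

end Groth.Agent.S7412
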