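import Groth.Statements.S7413
import Groth.Agent.ProjLocal.Basic
import Groth.Agent.DepthAlong.Basic

set_option autoImplicit false
universe u
open CategoryTheory AlgebraicGeometry
open Opposite
open Mor

namespace Groth.Agent.S7413

/-- Let `f : X → Y` be a morphism of schemes and `G` a quasi-coherent, locally projective `O_Y`-module
(projective sections over every affine open). Then `f^* G` is locally projective on `X`. -/
theorem result {X Y : Scheme.{u}} (f : X ⟶ Y) (G : Y.Modules) [Coh.IsQCoh G]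
    (hG : ∀ V : Y.Opens, IsAffineOpen V → Module.Projective (Y.ringCatSheaf.obj.obj (op V)) (G.val.obj (op V)))
    (U : X.Opens) (hU : IsAffineOpen U) :
    Module.Projective (X.ringCatSheaf.obj.obj (op U)) (((Scheme.Modules.pullback f).obj G).val.obj (op U)) := by
  haveI : G.IsQuasicoherent := inferInstanceAs (Coh.IsQCoh G)
  haveI := Groth.Agent.QCohLib.isQuasicoherent_pullback f G
  let I := { p : Y.affineOpens × X.affineOpens // p.2.1 ≤ f ⁻¹ᵁ p.1.1 }
  refine Groth.Agent.ProjLocal.projective_of_cover ((Scheme.Modules.pullback f).obj G)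
    (fun i : I => i.1.2) ?_ ?_ ⟨U, hU⟩
  · refine top_le_iff.1 fun x _ => ?_
    obtain ⟨W, hW, hxW, -⟩ := exists_isAffineOpen_mem_and_subset (x := f x) (U := ⊤) trivial
    obtain ⟨W', hW', hxW', hle⟩ := exists_isAffineOpen_mem_and_subset (x := x) (U := f ⁻¹ᵁ W) hxW
    exact TopologicalSpace.Opens.mem_iSup.2 ⟨⟨(⟨W, hW⟩, ⟨W', hW'⟩), hle⟩, hxW'⟩
  · rintro ⟨⟨W, W'⟩, hle⟩
    letI := (f.appLE W.1 W'.1 hle).hom.toAlgebra
    haveI : Module.Projective Γ(Y, W.1) Γ(G, W.1) := hG W.1 W.2
    obtain ⟨e⟩ := Groth.Agent.DepthAlong.nonempty_pullback_sections f G W.2 W'.2 hle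
    exact Module.Projective.of_equiv e


end Groth.Agent.S7413
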