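import Groth.Statements.S7414
import Groth.Agent.GRingLib.Transport

set_option autoImplicit false
universe u
open CategoryTheory AlgebraicGeometry
open Mor

namespace Groth.Agent.S7414

/-- A scheme `X` is a G-scheme (every point has an affine open neighbourhood with G-ring coordinate
ring) if and only if `O_X(U)` is a G-ring for every affine open `U ⊆ X`. -/
theorem result (X : Scheme.{u}) :
    (∀ x : X, ∃ U : X.Opens, x ∈ U ∧ IsAffineOpen U ∧ CAlg.IsGRing Γ(X, U)) ↔
      ∀ U : X.Opens, IsAffineOpen U → CAlg.IsGRing Γ(X, U) := by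
  constructor
  · intro h V hV
    choose U hxU hU hG using h
    haveI : IsLocallyNoetherian X := isLocallyNoetherian_of_affine_cover
      (S := fun x => ⟨U x, hU x⟩)
      (top_le_iff.mp fun x _ => TopologicalSpace.Opens.mem_iSup.mpr ⟨x, hxU x⟩)
      (fun x => (hG x).1)
    refine ⟨IsLocallyNoetherian.component_noetherian ⟨V, hV⟩, ?_⟩
    intro p _
    have hxV : hV.fromSpec ⟨p, inferInstance⟩ ∈ V := by
      rw [← SetLike.mem_coe, ← hV.range_fromSpec]
      exact ⟨_, rfl⟩
    set x := hV.fromSpec ⟨p, inferInstance⟩ with hx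
    have hp : hV.primeIdealOf ⟨x, hxV⟩ = ⟨p, inferInstance⟩ :=
      hV.fromSpec.isOpenEmbedding.injective (hV.fromSpec_primeIdealOf ⟨x, hxV⟩)
    letI := TopCat.Presheaf.algebra_section_stalk X.presheaf (⟨x, hxV⟩ : V)
    haveI hl1 : IsLocalization.AtPrime (X.presheaf.stalk x) p := by
      have := hV.isLocalization_stalk ⟨x, hxV⟩
      rw [hp] at this
      exact this
    let e1 : Localization.AtPrime p ≃+* X.presheaf.stalk x :=
      (IsLocalization.algEquiv p.primeCompl (Localization.AtPrime p)
        (X.presheaf.stalk x)).toRingEquiv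
    letI := TopCat.Presheaf.algebra_section_stalk X.presheaf (⟨x, hxU x⟩ : U x)
    haveI hl2 := (hU x).isLocalization_stalk ⟨x, hxU x⟩
    let q := ((hU x).primeIdealOf ⟨x, hxU x⟩).asIdeal
    let e2 : Localization.AtPrime q ≃+* X.presheaf.stalk x :=
      (IsLocalization.algEquiv q.primeCompl (Localization.AtPrime q)
        (X.presheaf.stalk x)).toRingEquiv
    exact GRingLib.isRegularHom_completion_of_equiv (e2.trans e1.symm) ((hG x).2 q)
  · intro h x
    obtain ⟨U, hU, hxU, -⟩ := exists_isAffineOpen_mem_and_subset (X := X) (x := x)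
      (U := (⊤ : X.Opens)) trivial
    exact ⟨U, hxU, hU, h U hU⟩

end Groth.Agent.S7414
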