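import Mathlib
import Groth.Statements.S7415
-- import your own Groth.Agent.* helpers here

set_option autoImplicit false
universe u
open CategoryTheory AlgebraicGeometry
open Mor

namespace Groth.Agent.S7415

/-- Let `X` be a reduced scheme with finitely many irreducible components and `x ∈ X`. Then `x` has an
affine open neighbourhood `U` such that `O_X(U) → O_{X,x}` is injective. -/
theorem result (X : Scheme.{u}) [AlgebraicGeometry.IsReduced X]
    (hirr : (irreducibleComponents (X : Type u)).Finite) (x : X) : X.IsGermInjectiveAt x := by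
  classical
  let O : X.Opens := ⟨(⋃₀ {Z ∈ irreducibleComponents (X : Type u) | x ∉ Z})ᶜ, (by
    rw [Set.sUnion_eq_biUnion]
    exact ((hirr.subset fun Z h => h.1).isClosed_biUnion fun Z h => isClosed_of_mem_irreducibleComponents Z h.1).isOpen_compl)⟩
  have hxO : x ∈ O := fun ⟨Z, hZ, hxZ⟩ => hZ.2 hxZ
  obtain ⟨_, ⟨V, hV, rfl⟩, hxV, hVO⟩ := X.isBasis_affineOpens.exists_subset_of_mem_open hxO O.isOpen
  refine ⟨V, hxV, hV, ?_⟩
  let p := hV.primeIdealOf ⟨x, hxV⟩
  have hp : hV.fromSpec p = x := hV.fromSpec_primeIdealOf ⟨x, hxV⟩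
  have hmin : ∀ q ∈ minimalPrimes Γ(X, V), q ≤ p.asIdeal := by
    intro q hq
    let q₀ : PrimeSpectrum Γ(X, V) := ⟨q, hq.1.1⟩
    set w := hV.fromSpec q₀
    have hwV : w ∈ V := by
      show w ∈ (V : Set X)
      rw [← hV.range_fromSpec]; exact ⟨q₀, rfl⟩
    have hZ := irreducibleComponent_mem_irreducibleComponents w
    have hxZ : x ∈ irreducibleComponent w := by
      by_contra h
      exact hVO hwV ⟨_, ⟨hZ, h⟩, mem_irreducibleComponent⟩
    obtain ⟨η, hη⟩ := QuasiSober.sober (isIrreducible_irreducibleComponent (x := w)) isClosed_irreducibleComponent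
    have hηw : η ⤳ w := hη.specializes mem_irreducibleComponent
    have hηx : η ⤳ x := hη.specializes hxZ
    obtain ⟨r, hr⟩ : η ∈ Set.range hV.fromSpec := by rw [hV.range_fromSpec]; exact hηw.mem_open V.isOpen hwV
    have hrq : r.asIdeal ≤ q := (PrimeSpectrum.le_iff_specializes r q₀).2 (hV.fromSpec.isOpenEmbedding.isInducing.specializes_iff.1 (hr ▸ hηw))
    have hrp : r.asIdeal ≤ p.asIdeal := (PrimeSpectrum.le_iff_specializes r p).2 (hV.fromSpec.isOpenEmbedding.isInducing.specializes_iff.1 (hr.symm ▸ hp.symm ▸ hηx))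
    exact (hq.2 ⟨r.2, bot_le⟩ hrq).trans hrp
  letI := X.presheaf.algebra_section_stalk (⟨x, hxV⟩ : V)
  haveI : IsLocalization.AtPrime (X.presheaf.stalk x) p.asIdeal := hV.isLocalization_stalk ⟨x, hxV⟩
  refine (injective_iff_map_eq_zero (X.presheaf.germ V x hxV).hom).2 fun a ha => ?_
  obtain ⟨⟨t, ht⟩, hta⟩ := (IsLocalization.map_eq_zero_iff p.asIdeal.primeCompl (X.presheaf.stalk x) a).1 ha
  have hnil : a ∈ nilradical Γ(X, V) := by
    rw [nilradical, ← Ideal.sInf_minimalPrimes, Submodule.mem_sInf]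
    intro q hq
    exact (hq.1.1.mem_or_mem (hta ▸ zero_mem q : t * a ∈ q)).resolve_left fun h => ht (hmin q hq h)
  exact (mem_nilradical.1 hnil).eq_zero

end Groth.Agent.S7415
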