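import Groth.Statements.S7416
import Mathlib
-- import your own Groth.Agent.* helpers here

set_option autoImplicit false
universe u
open CategoryTheory AlgebraicGeometry
open Mor

namespace Groth.Agent.S7416

/-- Let `U`, `V` be affine schemes and `W → U`, `W → V` open immersions. Then every `w ∈ W` has an open
neighbourhood `W' ⊆ W` whose images in `U` and in `V` are standard opens `D(f) ⊆ U`, `D(g) ⊆ V` (in
particular `W'` is affine). -/
theorem result {U V W : Scheme.{u}} [IsAffine U]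
    [IsAffine V] (i : W ⟶ U) (j : W ⟶ V) [IsOpenImmersion i] [IsOpenImmersion j] (w : W) :
    ∃ (W' : W.Opens) (f : Γ(U, ⊤)) (g : Γ(V, ⊤)), w ∈ W' ∧ i ''ᵁ W' = U.basicOpen f ∧ j ''ᵁ W' = V.basicOpen g := by
  have hex : ∀ {T : Scheme.{u}} [IsAffine T] (O : T.Opens) (x : T), x ∈ O →
      ∃ f : Γ(T, ⊤), T.basicOpen f ≤ O ∧ x ∈ T.basicOpen f := by
    intro T _ O x hx
    obtain ⟨f, hf, hxf⟩ := (isAffineOpen_top T).exists_basicOpen_le ⟨x, hx⟩ trivial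
    exact ⟨f, hf, hxf⟩
  have hbb : ∀ {T : Scheme.{u}} [IsAffine T] (f₀ : Γ(T, ⊤)) (O : T.Opens) (s : Γ(T, O)), O = T.basicOpen f₀ →
      ∃ f : Γ(T, ⊤), T.basicOpen f = T.basicOpen s := by
    intro T _ f₀ O s hO
    subst hO
    exact IsAffineOpen.basicOpen_basicOpen_is_basicOpen (isAffineOpen_top T) f₀ s
  obtain ⟨f₀, hf₀, hwf⟩ := hex i.opensRange (i w) ⟨w, rfl⟩
  obtain ⟨g₀, hg₀, hwg⟩ := hex j.opensRange (j w) ⟨w, rfl⟩
  have hA : IsAffineOpen (i ⁻¹ᵁ U.basicOpen f₀) :=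
    ((isAffineOpen_top U).basicOpen f₀).preimage_of_isOpenImmersion _ hf₀
  have hB : IsAffineOpen (j ⁻¹ᵁ V.basicOpen g₀) :=
    ((isAffineOpen_top V).basicOpen g₀).preimage_of_isOpenImmersion _ hg₀
  obtain ⟨h1, h2, he, hw⟩ := exists_basicOpen_le_affine_inter hA hB w ⟨hwf, hwg⟩
  obtain ⟨f, hf⟩ := hbb f₀ (i ''ᵁ (i ⁻¹ᵁ U.basicOpen f₀)) ((i.appIso _).inv h1)
    (by rw [i.image_preimage_eq_opensRange_inf, inf_eq_right.mpr hf₀])
  obtain ⟨g, hg⟩ := hbb g₀ (j ''ᵁ (j ⁻¹ᵁ V.basicOpen g₀)) ((j.appIso _).inv h2)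
    (by rw [j.image_preimage_eq_opensRange_inf, inf_eq_right.mpr hg₀])
  refine ⟨W.basicOpen h1, f, g, hw, ?_, ?_⟩
  · rw [hf, Scheme.image_basicOpen]
  · rw [hg, he, Scheme.image_basicOpen]

end Groth.Agent.S7416
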