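import Groth.Statements.S7418
import Groth.Agent.AWN.Normal
-- import your own Groth.Agent.* helpers here

set_option autoImplicit false
universe u
open CategoryTheory AlgebraicGeometry
open HTop

open Groth.Agent.AWN

namespace Groth.Agent.S7418

/-- Being seminormal is a local property of rings: it passes to the localizations `A_f`, and if `f_1, …,
f_n` generate the unit ideal of `A` and each `A_{f_i}` is seminormal then `A` is seminormal. -/
theorem result :
    (∀ (A : Type u) [CommRing A] (f : A), HTop.IsSeminormalRing A → HTop.IsSeminormalRing (Localization.Away f)) ∧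
    ∀ (A : Type u) [CommRing A] (s : Finset A), Ideal.span (s : Set A) = ⊤ →
      (∀ f ∈ s, HTop.IsSeminormalRing (Localization.Away f)) → HTop.IsSeminormalRing A := by
    have hn : ∀ (A : Type u) [CommRing A], HTop.IsSeminormalRing A ↔ N True A := fun A _ => (n_true_iff A).symm
    have heq : ∀ (A B : Type u) [CommRing A] [CommRing B] (e : A ≃+* B), N True A → N True B := by
      intro A B _ _ e hA
      refine Cl.n ⟨(letI := isReduced_of_seminormal hA.1; isReduced_of_injective e.symm e.symm.injective),
        fun C _ φ hφ hC => ?_⟩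
      have hc2 : CondHom True (Spec.map (CommRingCat.ofHom (φ.comp e.toRingHom))) := by
        rw [CommRingCat.ofHom_comp, Spec.map_comp]
        haveI : IsIso (CommRingCat.ofHom e.toRingHom) := (e.toCommRingCatIso).isIso_hom
        exact hφ.comp (condHom_of_isIso _)
      exact (Function.Bijective.of_comp_iff φ e.bijective).mp (hA.cl.2 C _ hc2 hC)
    have haway : ∀ (A : Type u) [CommRing A] (f : A),
        Nonempty (Localization.Away f ≃+* Γ(Spec (CommRingCat.of A), PrimeSpectrum.basicOpen f)) := fun A _ f =>
      ⟨(IsLocalization.algEquiv (Submonoid.powers f) (Localization.Away f)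
        ((Spec.structureSheaf A).obj.obj (Opposite.op (PrimeSpectrum.basicOpen f)))).toRingEquiv⟩
    have haff : ∀ (A : Type u) [CommRing A] (f : A),
        IsAffineOpen (X := Spec (CommRingCat.of A)) (PrimeSpectrum.basicOpen f) := fun A _ f =>
      IsAffineOpen.Spec_basicOpen (R := CommRingCat.of A) f
    refine ⟨fun A _ f hA => ?_, fun A _ s hs h => ?_⟩
    · rw [hn] at hA ⊢
      have hX : IsN True (Spec (CommRingCat.of A)) := fun x =>
        ⟨⟨⊤, isAffineOpen_top _⟩, trivial,
          heq _ _ (Scheme.ΓSpecIso (CommRingCat.of A)).commRingCatIsoToRingEquiv.symm hA⟩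
      obtain ⟨e⟩ := haway A f
      exact heq _ _ e.symm (isN_iff_forall_n.mp hX ⟨_, haff A f⟩)
    · rw [hn]
      have hX : IsN True (Spec (CommRingCat.of A)) := fun x => by
        obtain ⟨f, hf, hxf⟩ : ∃ f ∈ s, f ∉ x.asIdeal := by
          by_contra hh
          push Not at hh
          exact x.2.ne_top (top_le_iff.mp (hs.ge.trans (Ideal.span_le.mpr hh)))
        obtain ⟨e⟩ := haway A f
        exact ⟨⟨_, haff A f⟩, hxf, heq _ _ e ((hn _).mp (h f hf))⟩
      exact heq _ _ (Scheme.ΓSpecIso (CommRingCat.of A)).commRingCatIsoToRingEquiv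
        (isN_iff_forall_n.mp hX ⟨⊤, isAffineOpen_top _⟩)

end Groth.Agent.S7418
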