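import Groth.Statements.S7420
import Groth.Agent.AWN.Normal
-- import your own Groth.Agent.* helpers here

set_option autoImplicit false
universe u
open CategoryTheory AlgebraicGeometry
open HTop

open Groth.Agent.AWN

namespace Groth.Agent.S7420

/-- A scheme `X` is seminormal if and only if `O_X(U)` is seminormal for every affine open `U ⊆ X`; the
same holds with 'seminormal' replaced by 'absolutely weakly normal'. -/
theorem result (X : Scheme.{u}) :
    (HTop.IsSeminormal X ↔ ∀ U : X.affineOpens, HTop.IsSeminormalRing Γ(X, U)) ∧
    (HTop.IsAWN X ↔ ∀ U : X.affineOpens, HTop.IsAWNRing Γ(X, U)) := by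
    refine ⟨?_, ?_⟩
    · rw [isSeminormal_iff, isN_iff_forall_n]
      simp [n_true_iff]
    · rw [isAWN_iff, isN_iff_forall_n]
      simp [n_false_iff]

end Groth.Agent.S7420
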