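import Groth.Statements.S7424
import Groth.Agent.AWN.Glue

set_option autoImplicit false
universe u
open CategoryTheory AlgebraicGeometry
open HTop

namespace Groth.Agent.S7424

/-- Every scheme `X` has an absolute weak normalization `X^awn → X`: a universal homeomorphism to `X`
which is initial among universal homeomorphisms with target `X`. -/
theorem result (X : Scheme.{u}) :
    ∃ (X' : Scheme.{u}) (ν : X' ⟶ X), HTop.IsAWNormalization ν := by
  exact ⟨_, Groth.Agent.AWN.normToBase False X, (Groth.Agent.AWN.locUniv False X).isAWNormalization⟩

end Groth.Agent.S7424
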