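import Groth.Statements.S7425
import Groth.Agent.AWN.Normal
-- import your own Groth.Agent.* helpers here

set_option autoImplicit false
universe u
open CategoryTheory AlgebraicGeometry
open HTop

open Groth.Agent.AWN

namespace Groth.Agent.S7425

/-- Let `ν : X^awn → X` be an absolute weak normalization and `π : Y → X` a universal homeomorphism.
Then `Y` is absolutely weakly normal exactly when the induced morphism `h : X^awn → Y` over `X` is
an isomorphism. -/
theorem result {X X' Y : Scheme.{u}} (ν : X' ⟶ X)
    (hν : HTop.IsAWNormalization ν) (π : Y ⟶ X) (hπ : FlatMor.IsUnivHomeo π) (h : X' ⟶ Y) (hh : h ≫ π = ν) :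
    IsIso h ↔ HTop.IsAWN Y := by
    rw [isAWN_iff]
    haveI := ((isUnivHomeo_iff π).mp hπ).1
    haveI := ((isUnivHomeo_iff π).mp hπ).2.1
    have hX' : IsN False X' := by
      refine isN_iff_forall_isIso.mpr fun Z ρ hρ hZ => ?_
      haveI := hρ.integral
      haveI := hρ.univInj
      have hc : CondHom False (ρ ≫ ν) := hρ.comp ⟨hν.1, False.elim⟩
      obtain ⟨g, hg, -⟩ := hν.2 Z (ρ ≫ ν) hc.1
      have h1 : g ≫ ρ = 𝟙 X' :=
        (hν.2 X' ν hν.1).unique (by rw [Category.assoc]; exact hg) (Category.id_comp _)
      exact ⟨g, hom_ext ρ (by rw [Category.assoc, h1, Category.comp_id, Category.id_comp]), h1⟩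
    refine ⟨fun hi => isN_iff_forall_isIso.mpr fun Z ρ hρ hZ => ?_, fun hY => ?_⟩
    · haveI := hX'.isIso (ρ ≫ inv h) (hρ.comp (condHom_of_isIso _))
      exact (isIso_comp_right_iff ρ (inv h)).mp inferInstance
    · haveI := hX'.isReduced
      obtain ⟨h1, h2, h3⟩ := (isUnivHomeo_iff ν).mp hν.1
      subst hh
      haveI := h2
      haveI := h3
      haveI : IsIntegralHom h := MorphismProperty.of_postcomp (W := @IsIntegralHom) (W' := @IsSeparated) h π inferInstance h1
      haveI : UniversallyInjective h :=
        ((tfae_universallyInjective h).out 0 1).mpr fun K _ g g' hgg => by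
        have hh := ((tfae_universallyInjective (h ≫ π)).out 0 1).mp h2
        exact @hh K ‹_› g g' (by
          simp only [← Category.assoc] at hgg ⊢
          rw [hgg])
      haveI : Surjective h := ⟨fun y => by
        obtain ⟨x, hx⟩ := (h ≫ π).surjective (π y)
        exact ⟨x, π.injective (by rw [← hx]; rfl)⟩⟩
      exact hY.isIso h ⟨(isUnivHomeo_iff h).mpr ⟨inferInstance, inferInstance, inferInstance⟩, False.elim⟩

end Groth.Agent.S7425
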