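import Groth.Statements.S7426
import Groth.Agent.AWN.Normal
-- import your own Groth.Agent.* helpers here

set_option autoImplicit false
universe u
open CategoryTheory AlgebraicGeometry
open HTop

open Groth.Agent.AWN

namespace Groth.Agent.S7426

/-- For a scheme `X` the following are equivalent: `X` is absolutely weakly normal; `X^awn → X` is an
isomorphism (equivalently, the identity of `X` is an absolute weak normalization); every universal
homeomorphism `Y → X` with `Y` reduced is an isomorphism. -/
theorem result (X : Scheme.{u}) :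
    (HTop.IsAWN X ↔ HTop.IsAWNormalization (𝟙 X)) ∧
    (HTop.IsAWN X ↔ ∀ (Y : Scheme.{u}) (π : Y ⟶ X), FlatMor.IsUnivHomeo π → AlgebraicGeometry.IsReduced Y → IsIso π) := by
    rw [isAWN_iff]
    refine ⟨⟨fun h => ?_, fun h => ?_⟩, ?_⟩
    · exact ⟨isUnivHomeo_of_isIso _, fun Y π hπ => h.existsUnique_section Y π ⟨hπ, False.elim⟩⟩
    · refine isN_iff_forall_isIso.mpr fun Y π hπ hY => ?_
      haveI := hπ.integral
      haveI := hπ.univInj
      obtain ⟨g, hg, -⟩ := h.2 Y π hπ.1
      exact ⟨g, hom_ext π (by rw [Category.assoc, hg, Category.comp_id, Category.id_comp]), hg⟩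
    · exact isN_iff_forall_isIso.trans ⟨fun h Y π hπ hY => h Y π ⟨hπ, False.elim⟩ hY,
        fun h Y π hπ hY => h Y π hπ.1 hY⟩

end Groth.Agent.S7426
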