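import Groth.Statements.S7427
import Groth.Agent.AWN.Hom
import Mathlib

set_option autoImplicit false
universe u
open CategoryTheory AlgebraicGeometry
open Mor

namespace Groth.Agent.S7427

theorem ker_le_nilradical {A B : Type u} [CommRing A] [CommRing B] (φ : A →+* B)
    [IsDominant (Spec.map (CommRingCat.ofHom φ))] : RingHom.ker φ ≤ nilradical A := by
  have h : DenseRange (PrimeSpectrum.comap φ) := (Spec.map (CommRingCat.ofHom φ)).denseRange
  exact PrimeSpectrum.denseRange_comap_iff_ker_le_nilRadical φ |>.mp h

/-- Let `A → B` be a ring map with `Spec B → Spec A` dominant. Then some `A`-subalgebra `B' ⊆ B` has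
`Spec B' → Spec A` a universal homeomorphism and contains the image of `C → B` whenever `C` is an
`A`-algebra with an `A`-algebra map `C → B` whose structure map gives a universal homeomorphism
`Spec C → Spec A`. (The test algebras `C` range over the universe of `A` and `B`.) -/
theorem result {A B : Type u} [CommRing A] [CommRing B] [Algebra A B]
    [IsDominant (Spec.map (CommRingCat.ofHom (algebraMap A B)))] :
    ∃ B' : Subalgebra A B, FlatMor.IsUnivHomeo (Spec.map (CommRingCat.ofHom (algebraMap A B'))) ∧
      ∀ (C : Type u) [CommRing C] [Algebra A C] (g : C →ₐ[A] B),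
        FlatMor.IsUnivHomeo (Spec.map (CommRingCat.ofHom (algebraMap A C))) → g.range ≤ B' := by
  refine ⟨Groth.Agent.AWN.condSub False A B, ?_, ?_⟩
  · obtain ⟨hint, hinj, -⟩ := Groth.Agent.AWN.isGood_condSub (sn := False) (A := A) (R := B)
    exact (Groth.Agent.AWN.isUnivHomeo_spec_iff _).mpr
      ⟨fun x => (isIntegral_algHom_iff (Groth.Agent.AWN.condSub False A B).val Subtype.val_injective).mp (hint x x.2),
        hinj, Groth.Agent.AWN.comap_surjective_of_integral _ hint (ker_le_nilradical _)⟩
  · intro C _ _ g hC
    obtain ⟨hi, hj, -⟩ := (Groth.Agent.AWN.isUnivHomeo_spec_iff _).mp hC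
    haveI : Algebra.IsIntegral A C := ⟨hi⟩
    exact Groth.Agent.AWN.le_condSub (Groth.Agent.AWN.isGood_range ⟨hj, False.elim⟩ g)

end Groth.Agent.S7427
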