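import Groth.Statements.S7428
import Groth.Agent.AWN.Hom
import Mathlib

set_option autoImplicit false
universe u
open CategoryTheory AlgebraicGeometry
open Mor

namespace Groth.Agent.S7428

theorem ker_le_nilradical {A B : Type u} [CommRing A] [CommRing B] (φ : A →+* B)
    [IsDominant (Spec.map (CommRingCat.ofHom φ))] : RingHom.ker φ ≤ nilradical A := by
  have h : DenseRange (PrimeSpectrum.comap φ) := (Spec.map (CommRingCat.ofHom φ)).denseRange
  exact PrimeSpectrum.denseRange_comap_iff_ker_le_nilRadical φ |>.mp h

/-- Let `A → B` be a ring map with `Spec B → Spec A` dominant. Then some `A`-subalgebra `B' ⊆ B` has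
`Spec B' → Spec A` a universal homeomorphism with trivial residue field extensions and contains the
image of `C → B` for every `A`-algebra `C` with an `A`-algebra map `C → B` such that `Spec C → Spec
A` is a universal homeomorphism with trivial residue field extensions. (Trivial residue field
extensions: every residue field map of the morphism of spectra is surjective. The test algebras `C`
range over the universe of `A` and `B`.) -/
theorem result {A B : Type u} [CommRing A] [CommRing B] [Algebra A B]
    [IsDominant (Spec.map (CommRingCat.ofHom (algebraMap A B)))] :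
    ∃ B' : Subalgebra A B, (FlatMor.IsUnivHomeo (Spec.map (CommRingCat.ofHom (algebraMap A B'))) ∧
      ∀ x : Spec (CommRingCat.of B'),
        Function.Surjective ((Spec.map (CommRingCat.ofHom (algebraMap A B'))).residueFieldMap x)) ∧
      ∀ (C : Type u) [CommRing C] [Algebra A C] (g : C →ₐ[A] B),
        FlatMor.IsUnivHomeo (Spec.map (CommRingCat.ofHom (algebraMap A C))) →
        (∀ x : Spec (CommRingCat.of C),
          Function.Surjective ((Spec.map (CommRingCat.ofHom (algebraMap A C))).residueFieldMap x)) →
        g.range ≤ B' := by
  refine ⟨Groth.Agent.AWN.condSub True A B, ?_, ?_⟩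
  · obtain ⟨hint, hinj, hres⟩ := Groth.Agent.AWN.isGood_condSub (sn := True) (A := A) (R := B)
    refine ⟨(Groth.Agent.AWN.isUnivHomeo_spec_iff _).mpr
      ⟨fun x => (isIntegral_algHom_iff (Groth.Agent.AWN.condSub True A B).val Subtype.val_injective).mp (hint x x.2),
        hinj, Groth.Agent.AWN.comap_surjective_of_integral _ hint (ker_le_nilradical _)⟩, fun x => ?_⟩
    have := (Groth.Agent.AWN.resTriv_iff _).mp (hres trivial) x
    exact (ConcreteCategory.bijective_of_isIso ((Spec.map (CommRingCat.ofHom
      (algebraMap A (Groth.Agent.AWN.condSub True A B)))).residueFieldMap x)).2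
  · intro C _ _ g hC hres
    obtain ⟨hi, hj, -⟩ := (Groth.Agent.AWN.isUnivHomeo_spec_iff _).mp hC
    haveI : Algebra.IsIntegral A C := ⟨hi⟩
    refine Groth.Agent.AWN.le_condSub (Groth.Agent.AWN.isGood_range ⟨hj, fun _ => ?_⟩ g)
    refine (Groth.Agent.AWN.resTriv_iff _).mpr fun x => ?_
    exact (ConcreteCategory.isIso_iff_bijective _).mpr ⟨RingHom.injective _, hres x⟩

end Groth.Agent.S7428
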