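import Mathlib
import Groth.Statements.S7431
-- import your own Groth.Agent.* helpers here

set_option autoImplicit false
universe u
open CategoryTheory AlgebraicGeometry
open Lim

namespace Groth.Agent.S7431

section

lemma away_bij {B B' R R' : Type u} [CommRing B] [CommRing B'] [CommRing R] [CommRing R']
    (s : B →+* R) (t : R' →+* R) (p : B' →+* B) (q : B' →+* R')
    (hw : ∀ e, s (p e) = t (q e))
    (hex : ∀ b r', s b = t r' → ∃ e, p e = b ∧ q e = r')
    (hinj : ∀ e, p e = 0 → q e = 0 → e = 0)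
    (g : B) (f : R') (hfg : t f = s g) (h : B') (hp : p h = g) (hq : q h = f)
    (hiso : Function.Bijective (Localization.awayMap s g)) :
    Function.Bijective (Localization.awayMap q h) := by
  subst hp hq
  constructor
  · rw [injective_iff_map_eq_zero]
    intro z hz
    obtain ⟨⟨e, ⟨_, k, rfl⟩⟩, hz'⟩ := IsLocalization.surj (Submonoid.powers h) z
    have h1 : algebraMap R' (Localization.Away (q h)) (q e) = 0 := by
      have := congrArg (Localization.awayMap q h) hz'
      rw [map_mul, hz, zero_mul] at this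
      simpa [Localization.awayMap, IsLocalization.Away.map] using this.symm
    obtain ⟨⟨_, c, rfl⟩, hc⟩ := (IsLocalization.map_eq_zero_iff (Submonoid.powers (q h)) _ _).1 h1
    have h2 : algebraMap R (Localization.Away (s (p h))) (s (p e)) = 0 := by
      refine (IsLocalization.map_eq_zero_iff (Submonoid.powers (s (p h))) _ _).2 ⟨⟨_, c, rfl⟩, ?_⟩
      show s (p h) ^ c * s (p e) = 0
      rw [hw, hw, ← map_pow, ← map_mul, show q h ^ c * q e = 0 from hc, map_zero]
    have h3 : algebraMap B (Localization.Away (p h)) (p e) = 0 := by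
      apply hiso.1
      rw [map_zero]
      simpa [Localization.awayMap, IsLocalization.Away.map] using h2
    obtain ⟨⟨_, d, rfl⟩, hd⟩ := (IsLocalization.map_eq_zero_iff (Submonoid.powers (p h)) _ _).1 h3
    have h4 : h ^ (c + d) * e = 0 := by
      apply hinj
      · rw [map_mul, map_pow, pow_add, mul_assoc]
        show p h ^ c * (p h ^ d * p e) = 0
        rw [show p h ^ d * p e = 0 from hd, mul_zero]
      · rw [map_mul, map_pow, pow_add, mul_comm (q h ^ c), mul_assoc]
        show q h ^ d * (q h ^ c * q e) = 0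
        rw [show q h ^ c * q e = 0 from hc, mul_zero]
    have h5 : algebraMap B' (Localization.Away h) e = 0 :=
      (IsLocalization.map_eq_zero_iff (Submonoid.powers h) _ _).2 ⟨⟨_, c + d, rfl⟩, h4⟩
    rw [h5] at hz'
    exact (IsUnit.mul_left_eq_zero (IsLocalization.map_units _ (⟨_, k, rfl⟩ : Submonoid.powers h))).1 hz'
  · intro y
    obtain ⟨⟨r', ⟨_, k, rfl⟩⟩, hy⟩ := IsLocalization.surj (Submonoid.powers (q h)) y
    obtain ⟨z, hz⟩ := hiso.2 (algebraMap R _ (t r'))
    obtain ⟨⟨b, ⟨_, m, rfl⟩⟩, hb⟩ := IsLocalization.surj (Submonoid.powers (p h)) z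
    have hb' := congrArg (Localization.awayMap s (p h)) hb
    rw [map_mul, hz] at hb'
    simp only [Localization.awayMap, IsLocalization.Away.map, IsLocalization.map_eq] at hb'
    rw [← map_mul] at hb'
    obtain ⟨⟨_, a, rfl⟩, ha⟩ := (IsLocalization.eq_iff_exists (Submonoid.powers (s (p h))) _).1 hb'
    obtain ⟨e, he1, he2⟩ := hex (p h ^ a * b) (q h ^ (a + m) * r') (by
      simp only [map_mul, map_pow, hfg] at ha ⊢
      change s (p h) ^ a * (t r' * s (p h) ^ m) = s (p h) ^ a * s b at ha
      linear_combination -ha)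
    refine ⟨IsLocalization.mk' (Localization.Away h) e (⟨_, a + m + k, rfl⟩ : Submonoid.powers h), ?_⟩
    simp only [Localization.awayMap, IsLocalization.Away.map, IsLocalization.map_mk']
    rw [IsLocalization.mk'_eq_iff_eq_mul, he2]
    simp only [map_mul, map_pow] at hy ⊢
    rw [← hy]
    simp only [pow_add]
    ring

end


/-- Let `B' = B ×_R R'` be a cartesian square of rings with maps `s : B → R`, `t : R' → R`, and let `W'
= D(f_1) ∪ … ∪ D(f_n) ⊆ Spec R'` with `t(f_i) = s(g_i)` for elements `g_i ∈ B` such that `B_{g_i} →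
R_{s(g_i)}` is an isomorphism for each `i`. Then the composite `W' → Spec R' → Spec B'`, the second
map coming from `B' → R'`, is an open immersion. -/
theorem result {B B' R R' : Type u} [CommRing B] [CommRing B']
    [CommRing R] [CommRing R'] (s : B →+* R) (t : R' →+* R) (p : B' →+* B) (q : B' →+* R')
    (hsq : IsPullback (CommRingCat.ofHom p) (CommRingCat.ofHom q) (CommRingCat.ofHom s) (CommRingCat.ofHom t))
    {n : ℕ} (f : Fin n → R') (g : Fin n → B) (hfg : ∀ i, t (f i) = s (g i))
    (hiso : ∀ i, Function.Bijective (Localization.awayMap s (g i))) :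
    IsOpenImmersion (Scheme.Opens.ι (X := Spec (CommRingCat.of R')) (⨆ i, PrimeSpectrum.basicOpen (f i)) ≫
      Spec.map (CommRingCat.ofHom q)) := by
  have hty := (CategoryTheory.Limits.Types.isPullback_iff _ _ _ _).1 (hsq.map (forget CommRingCat))
  have hw : ∀ e, s (p e) = t (q e) := fun e => RingHom.congr_fun (congrArg CommRingCat.Hom.hom hsq.w) e
  have hex : ∀ b r', s b = t r' → ∃ e, p e = b ∧ q e = r' := fun b r' h => hty.2.2 b r' h
  have hinj : ∀ e, p e = 0 → q e = 0 → e = 0 := fun e h1 h2 =>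
    hty.2.1 e 0 ⟨show p e = p 0 by rw [h1, map_zero], show q e = q 0 by rw [h2, map_zero]⟩
  choose h hp hq using fun i => hex (g i) (f i) (hfg i).symm
  apply IsZariskiLocalAtTarget.of_forall_source_exists_preimage (P := @IsOpenImmersion)
  rintro ⟨x, hx⟩
  obtain ⟨i, hi⟩ := TopologicalSpace.Opens.mem_iSup.1 hx
  let φ := Spec.map (CommRingCat.ofHom q)
  let U : (Spec (CommRingCat.of B')).Opens := PrimeSpectrum.basicOpen (h i)
  have hpre : ∀ y : PrimeSpectrum R', PrimeSpectrum.comap q y ∈ PrimeSpectrum.basicOpen (h i) ↔ y ∈ PrimeSpectrum.basicOpen (f i) := by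
    intro y; simp [← hq i]
  refine ⟨U, (hpre x).2 hi, ?_⟩
  have : IsIso (φ ∣_ U) := by
    have hb := away_bij s t p q hw hex hinj (g i) (f i) (hfg i) (h i) (hp i) (hq i) (hiso i)
    refine ((MorphismProperty.isomorphisms Scheme).arrow_mk_iso_iff (SpecMapRestrictBasicOpenIso (CommRingCat.ofHom q) (h i))).2 ?_
    have : IsIso (CommRingCat.ofHom (Localization.awayMap q (h i))) := (ConcreteCategory.isIso_iff_bijective _).2 hb
    show IsIso (Spec.map _)
    infer_instance
  set W : (Spec (CommRingCat.of R')).Opens := ⨆ i, PrimeSpectrum.basicOpen (f i)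
  set V := (W.ι ≫ φ) ⁻¹ᵁ U
  have hr : Set.range (V.ι ≫ W.ι).base ⊆ Set.range (φ ⁻¹ᵁ U).ι.base := by
    rintro _ ⟨y, rfl⟩
    rw [Scheme.Opens.range_ι]
    exact y.2
  rw [← Category.assoc, ← IsOpenImmersion.lift_fac _ _ hr, Category.assoc, ← morphismRestrict_ι]
  have : IsOpenImmersion (IsOpenImmersion.lift (φ ⁻¹ᵁ U).ι (V.ι ≫ W.ι) hr) := by
    have : IsOpenImmersion (IsOpenImmersion.lift (φ ⁻¹ᵁ U).ι (V.ι ≫ W.ι) hr ≫ (φ ⁻¹ᵁ U).ι) := by
      rw [IsOpenImmersion.lift_fac]; infer_instance
    exact IsOpenImmersion.of_comp _ (φ ⁻¹ᵁ U).ι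
  infer_instance

end Groth.Agent.S7431
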