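import Groth.Statements.S7446
import Groth.Agent.BddFibLib.Main
-- import your own Groth.Agent.* helpers here

set_option autoImplicit false
universe u
open CategoryTheory AlgebraicGeometry
open BddFib

namespace Groth.Agent.S7446

section Aux
open CategoryTheory Limits AlgebraicGeometry Groth.Agent.BddFibLib

theorem eval_surjective {T : Scheme.{u}} [Finite T] [DiscreteTopology T] :
    Function.Surjective (fun (s : Γ(T, ⊤)) (x : T) => T.evaluation ⊤ x trivial s) := by
  intro v
  let W : T → T.Opens := fun x => ⟨{x}, isOpen_discrete _⟩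
  have hs : ∀ x : T, ∃ s : Γ(T, W x), T.evaluation (W x) x rfl s = v x := by
    intro x
    obtain ⟨a, ha⟩ := T.residue_surjective x (v x)
    obtain ⟨O, hxO, s, rfl⟩ := T.presheaf.exists_germ_eq a
    have hle : W x ≤ O := fun y hy => by rw [show y = x from hy]; exact hxO
    refine ⟨T.presheaf.map (homOfLE hle).op s, ?_⟩
    show (T.presheaf.germ (W x) x rfl ≫ T.residue x) (T.presheaf.map (homOfLE hle).op s) = v x
    rw [CommRingCat.comp_apply, TopCat.Presheaf.germ_res_apply, ha]
  choose s hs using hs
  obtain ⟨g, hg, -⟩ := T.sheaf.existsUnique_gluing' W ⊤ (fun x => homOfLE le_top)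
    (fun x _ => TopologicalSpace.Opens.mem_iSup.mpr ⟨x, rfl⟩) s (fun x y => by
      by_cases h : x = y
      · subst h; rfl
      · refine TopCat.Presheaf.section_ext T.sheaf _ _ _ fun z hz => ?_
        exact absurd (hz.1.symm.trans hz.2) h)
  refine ⟨g, funext fun x => ?_⟩
  show (T.presheaf.germ ⊤ x trivial ≫ T.residue x) g = v x
  have h1 : T.presheaf.map (homOfLE (le_top : W x ≤ ⊤)).op g = s x := hg x
  rw [← hs x, ← h1]
  show _ = (T.presheaf.germ (W x) x rfl ≫ T.residue x) _
  rw [CommRingCat.comp_apply, CommRingCat.comp_apply, TopCat.Presheaf.germ_res_apply]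

theorem sum_residueDegree_le {k : Type u} [Field k] {T : Scheme.{u}} (p : T ⟶ Spec (CommRingCat.of k)) {n : ℕ}
    (h : DL p n) : Finite T ∧ ∑ᶠ x : T, p.residueDegree x ≤ n := by
  have := h.1
  obtain ⟨hfin, hd⟩ := discrete_of_finite p
  refine ⟨hfin, ?_⟩
  obtain ⟨-, hAf, hAr⟩ := (finiteOfDegLE_iff p n).mpr h
  letI aA : Algebra k Γ(T, ⊤) := BddFib.secAlgebra (CommRingCat.of k) p
  haveI : Module.Finite k Γ(T, ⊤) := hAf
  letI : ∀ x, Algebra k (T.residueField x) := fun x =>
    ((T.evaluation ⊤ x trivial).hom.comp (algebraMap k Γ(T, ⊤))).toAlgebra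
  let E : Γ(T, ⊤) →ₐ[k] (∀ x : T, T.residueField x) :=
    { toRingHom := RingHom.pi fun x => (T.evaluation ⊤ x trivial).hom
      commutes' := fun a => rfl }
  have hE : Function.Surjective E.toLinearMap := eval_surjective
  haveI hκ : ∀ x, Module.Finite k (T.residueField x) := fun x =>
    Module.Finite.of_surjective ((LinearMap.proj x).comp E.toLinearMap) ((Function.surjective_eval x).comp hE)
  letI := Fintype.ofFinite T
  rw [finsum_eq_sum_of_fintype]
  refine (Finset.sum_le_sum fun x _ => ?_).trans
    ((Module.finrank_pi_fintype k (M := fun x => T.residueField x)).symm.trans_le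
      ((E.toLinearMap.finrank_le_finrank_of_surjective hE).trans hAr))
  letI : Algebra ((Spec (CommRingCat.of k)).residueField (p x)) (T.residueField x) := (p.residueFieldMap x).hom.toAlgebra
  letI : Algebra k ((Spec (CommRingCat.of k)).residueField (p x)) :=
    (((Spec (CommRingCat.of k)).evaluation ⊤ (p x) trivial).hom.comp (Scheme.ΓSpecIso (CommRingCat.of k)).inv.hom).toAlgebra
  haveI : IsScalarTower k ((Spec (CommRingCat.of k)).residueField (p x)) (T.residueField x) :=
    IsScalarTower.of_algebraMap_eq fun a =>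
      (Scheme.Γevaluation_naturality_apply p x ((Scheme.ΓSpecIso (CommRingCat.of k)).inv.hom a)).symm
  haveI : Module.Finite k ((Spec (CommRingCat.of k)).residueField (p x)) :=
    Module.Finite.of_injective ((Algebra.linearMap ((Spec (CommRingCat.of k)).residueField (p x))
      (T.residueField x)).restrictScalars k) (RingHom.injective _)
  show Module.finrank ((Spec (CommRingCat.of k)).residueField (p x)) (T.residueField x) ≤
    Module.finrank k (T.residueField x)
  rw [← Module.finrank_mul_finrank k ((Spec (CommRingCat.of k)).residueField (p x)) (T.residueField x)]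
  exact Nat.le_mul_of_pos_left _ Module.finrank_pos

end Aux

/-- When every fibre of `f : X → Y` has degree at most `n`, then for every field `k` and every `Spec k →
Y`, writing `X_k = {x_1, …, x_t}`, one has `Σ_i [κ(x_i) : k] ≤ n`. (Residue degrees are taken along
`X_k → Spec k`; `X_k` is finite, so the sum is a finite sum.) -/
theorem result {X Y : Scheme.{u}} (f : X ⟶ Y) (n : ℕ) (hf : BddFib.FibreDegLE f n)
    (k : Type u) [Field k] (g : Spec (CommRingCat.of k) ⟶ Y) :
    Finite ↥(Limits.pullback f g) ∧
      ∑ᶠ x : ↥(Limits.pullback f g), (Limits.pullback.snd f g).residueDegree x ≤ n := by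
  exact sum_residueDegree_le _ ((Groth.Agent.BddFibLib.fibreDegLE_iff f n).mp hf k g)

end Groth.Agent.S7446
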