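import Groth.Statements.S7449
import Groth.Agent.CurveCut.Image
-- import your own Groth.Agent.* helpers here

set_option autoImplicit false
universe u
open CategoryTheory AlgebraicGeometry
open Lim

namespace Groth.Agent.S7449

/-- Let `S` be a Nagata scheme, `X`, `Y` locally of finite type over `S` and `f : X → Y` a quasi-compact
morphism over `S`. Then `f` is universally closed if and only if for every commutative diagram `U →
X`, `C → Y` over `S` where `C` is a normal integral scheme of finite type over `S`, `c ∈ C` is a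
closed point whose local ring `A = O_{C,c}` has dimension `1` and `U = C ∖ {c}`, there is a morphism
`Spec A → X` making the square `Spec K → X`, `Spec A → Y` (with `K = Frac A`, `Spec K → X` through
`U`, `Spec A → Y` through `C`) commute. -/
theorem result (S : Scheme.{u}) (hS : ∀ W : S.affineOpens, CAlg.IsNagata Γ(S, W))
    {X Y : Scheme.{u}} (p : X ⟶ S) (q : Y ⟶ S) [LocallyOfFiniteType p] [LocallyOfFiniteType q] (f : X ⟶ Y)
    (hf : f ≫ q = p) [QuasiCompact f] :
    UniversallyClosed f ↔
      ∀ (C : Scheme.{u}) (r : C ⟶ S) [IsIntegral C] [LocallyOfFiniteType r] [QuasiCompact r],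
        (∀ x : C, IsIntegrallyClosed (C.presheaf.stalk x)) →
        ∀ (c : C), IsClosed ({c} : Set C) → ringKrullDim (C.presheaf.stalk c) = 1 →
        ∀ (U : C.Opens), (U : Set C) = {c}ᶜ →
        ∀ (u : (U : Scheme.{u}) ⟶ X) (g : C ⟶ Y), g ≫ q = r → u ≫ f = U.ι ≫ g →
        ∀ (k : Spec (CommRingCat.of (FractionRing (C.presheaf.stalk c))) ⟶ (U : Scheme.{u})),
          k ≫ U.ι = Spec.map (CommRingCat.ofHom (algebraMap (C.presheaf.stalk c)
            (FractionRing (C.presheaf.stalk c)))) ≫ C.fromSpecStalk c →
        ∃ l : Spec (C.presheaf.stalk c) ⟶ X, l ≫ f = C.fromSpecStalk c ≫ g ∧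
          Spec.map (CommRingCat.ofHom (algebraMap (C.presheaf.stalk c) (FractionRing (C.presheaf.stalk c)))) ≫ l =
            k ≫ u := by
  subst hf
  have hS' : ∀ W : S.Opens, IsAffineOpen W → CAlg.IsNagata Γ(S, W) := fun W hW => hS ⟨W, hW⟩
  have : IsLocallyNoetherian S := ⟨fun V => (hS V).1⟩
  constructor
  · intro huc C r _ _ _ hC c hc hdim U hU u g hg hu k hk
    have : IsLocallyNoetherian C := LocallyOfFiniteType.isLocallyNoetherian r
    let A := C.presheaf.stalk c
    have hnf : ¬ IsField A := fun hf => by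
      have := ringKrullDim_eq_zero_of_isField hf
      rw [hdim] at this
      exact one_ne_zero this
    have : IsDiscreteValuationRing A := by
      have := hC c
      have hdim1 : Ring.KrullDimLE 1 A := Ring.krullDimLE_iff.mpr (by rw [hdim]; rfl)
      have h4 : IsIntegrallyClosed A ∧ ∃! P : Ideal A, P ≠ ⊥ ∧ P.IsPrime :=
        ⟨inferInstance, ExistsUnique.intro (IsLocalRing.maximalIdeal A)
          ⟨fun h => hnf (IsLocalRing.isField_iff_maximalIdeal_eq.mpr h), inferInstance⟩
          fun P hP => IsLocalRing.eq_maximalIdeal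
            ((Ring.krullDimLE_one_iff_of_noZeroDivisors.mp hdim1) P hP.1 hP.2)⟩
      exact ((IsDiscreteValuationRing.TFAE A hnf).out 0 3).mpr h4
    have hex : ValuativeCriterion.Existence f := by
      rw [UniversallyClosed.eq_valuativeCriterion] at huc
      exact huc.1
    have sq : CommSq (k ≫ u) (Spec.map (CommRingCat.ofHom (algebraMap A (FractionRing A)))) f
        (C.fromSpecStalk c ≫ g) := ⟨by rw [Category.assoc, hu, ← Category.assoc k, hk, Category.assoc]⟩
    have hdom : IsDomain (C.presheaf.stalk c) := inferInstance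
    have hl := hex { R := (C.presheaf.stalk c : Type u), domain := hdom, K := FractionRing (C.presheaf.stalk c), i₁ := k ≫ u, i₂ := C.fromSpecStalk c ≫ g, commSq := sq }
    exact ⟨hl.exists_lift.some.l, hl.exists_lift.some.fac_right, hl.exists_lift.some.fac_left⟩
  intro h
  have : LocallyOfFiniteType f := locallyOfFiniteType_of_comp f q
  refine Groth.Agent.UnivClosed.universallyClosed_of_affineSpace f fun n Z hZ => ?_
  by_contra hnc
  obtain ⟨C, _, γ, c, U, u, hlft, hqc, hint, hcl, hdim, hU, hu, huZ, hcE⟩ :=
    Groth.Agent.CurveCut.exists_curve_image hS' ((𝔸(ULift.{u} (Fin n); Y) ↘ Y) ≫ q)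
      (Limits.pullback.snd f (𝔸(ULift.{u} (Fin n); Y) ↘ Y)) Z hZ hnc
  let t := 𝔸(ULift.{u} (Fin n); Y) ↘ Y
  let A := (Spec C).presheaf.stalk c
  let ι : Spec (CommRingCat.of (FractionRing A)) ⟶ Spec A :=
    Spec.map (CommRingCat.ofHom (algebraMap A (FractionRing A)))
  have hk : Set.range (ι ≫ (Spec C).fromSpecStalk c).base ⊆ Set.range U.ι.base := by
    rw [Scheme.Opens.range_ι, hU]
    rintro _ ⟨z, rfl⟩ hzc
    have hz : ι.base z = IsLocalRing.closedPoint A := by
      have h1 := Set.mem_singleton_iff.mp hzc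
      exact ((Spec C).fromSpecStalk c).isEmbedding.injective
        (h1.trans (Scheme.fromSpecStalk_closedPoint (X := Spec C) (x := c)).symm)
    have hbot : (ι.base z).asIdeal = ⊥ := by
      change z.asIdeal.comap (algebraMap A (FractionRing A)) = ⊥
      rw [(IsSimpleOrder.eq_bot_or_eq_top z.asIdeal).resolve_right z.2.ne_top]
      exact Ideal.comap_bot_of_injective _ (IsFractionRing.injective A (FractionRing A))
    rw [hz] at hbot
    have hfld : IsField A := IsLocalRing.isField_iff_maximalIdeal_eq.mpr hbot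
    have := ringKrullDim_eq_zero_of_isField hfld
    rw [hdim] at this
    exact one_ne_zero this
  let k := IsOpenImmersion.lift U.ι (ι ≫ (Spec C).fromSpecStalk c) hk
  have hkι : k ≫ U.ι = ι ≫ (Spec C).fromSpecStalk c := IsOpenImmersion.lift_fac _ _ _
  obtain ⟨l, hl, hlι⟩ := h (Spec C) (γ ≫ t ≫ q) hint c hcl hdim U hU
    (u ≫ Limits.pullback.fst f t) (γ ≫ t) (by simp)
    (by rw [Category.assoc, Limits.pullback.condition, reassoc_of% hu]) k hkι
  let L := Limits.pullback.lift l ((Spec C).fromSpecStalk c ≫ γ) (by rw [hl, Category.assoc])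
  have hLι : ι ≫ L = k ≫ u := by
    apply Limits.pullback.hom_ext
    · rw [Category.assoc, Limits.pullback.lift_fst, Category.assoc]
      exact hlι
    · rw [Category.assoc, Limits.pullback.lift_snd, Category.assoc, hu, reassoc_of% hkι]
  obtain ⟨z₀⟩ : Nonempty (Spec (CommRingCat.of (FractionRing A))) := inferInstance
  have hgen : L.base (ι.base z₀) ∈ Z := by
    rw [show L.base (ι.base z₀) = u.base (k.base z₀) from congrArg (fun t => t.base z₀) hLι]
    exact huZ _
  have hcl' : L.base (IsLocalRing.closedPoint A) ∈ Z :=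
    ((IsLocalRing.specializes_closedPoint _).map L.continuous).mem_closed hZ hgen
  refine hcE ⟨_, hcl', ?_⟩
  exact (congrArg (fun t => t.base (IsLocalRing.closedPoint A))
    (Limits.pullback.lift_snd _ _ _ : L ≫ Limits.pullback.snd f t = _)).trans
      (congrArg γ.base (Scheme.fromSpecStalk_closedPoint (X := Spec C) (x := c)))

end Groth.Agent.S7449
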