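import Groth.Statements.S7450
import Groth.Agent.CurveCut.Scheme
-- import your own Groth.Agent.* helpers here

set_option autoImplicit false
universe u
open CategoryTheory AlgebraicGeometry
open Lim

namespace Groth.Agent.S7450

/-- Assume `S` is a Nagata scheme and `f : X → Y` is a morphism over `S` between schemes `X`, `Y` that
are locally of finite type over `S`. Then `f` is separated exactly when the following holds. Take
any normal integral scheme `C` of finite type over `S` and a closed point `c ∈ C` such that the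
local ring `A = O_{C,c}` is one-dimensional, put `U = C ∖ {c}`, and consider any commutative diagram
of `S`-schemes formed by `U → X` and `C → Y`. Then at most one morphism `Spec A → X` makes the
square with `Spec K → X` and `Spec A → Y` commute. -/
theorem result (S : Scheme.{u}) (hS : ∀ W : S.affineOpens, CAlg.IsNagata Γ(S, W))
    {X Y : Scheme.{u}} (p : X ⟶ S) (q : Y ⟶ S) [LocallyOfFiniteType p] [LocallyOfFiniteType q] (f : X ⟶ Y)
    (hf : f ≫ q = p) :
    IsSeparated f ↔
      ∀ (C : Scheme.{u}) (r : C ⟶ S) [IsIntegral C] [LocallyOfFiniteType r] [QuasiCompact r],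
        (∀ x : C, IsIntegrallyClosed (C.presheaf.stalk x)) →
        ∀ (c : C), IsClosed ({c} : Set C) → ringKrullDim (C.presheaf.stalk c) = 1 →
        ∀ (U : C.Opens), (U : Set C) = {c}ᶜ →
        ∀ (u : (U : Scheme.{u}) ⟶ X) (g : C ⟶ Y), g ≫ q = r → u ≫ f = U.ι ≫ g →
        ∀ (k : Spec (CommRingCat.of (FractionRing (C.presheaf.stalk c))) ⟶ (U : Scheme.{u})),
          k ≫ U.ι = Spec.map (CommRingCat.ofHom (algebraMap (C.presheaf.stalk c)
            (FractionRing (C.presheaf.stalk c)))) ≫ C.fromSpecStalk c →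
        ∀ l l' : Spec (C.presheaf.stalk c) ⟶ X,
          l ≫ f = C.fromSpecStalk c ≫ g →
          Spec.map (CommRingCat.ofHom (algebraMap (C.presheaf.stalk c) (FractionRing (C.presheaf.stalk c)))) ≫ l =
            k ≫ u →
          l' ≫ f = C.fromSpecStalk c ≫ g →
          Spec.map (CommRingCat.ofHom (algebraMap (C.presheaf.stalk c) (FractionRing (C.presheaf.stalk c)))) ≫ l' =
            k ≫ u → l = l' := by
  subst hf
  constructor
  · intro hsep C r _ _ _ hC c hc hdim U hU u g hg hu k hk l l' hl hl0 hl' hl'0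
    set A := C.presheaf.stalk c
    let ι : Spec (CommRingCat.of (FractionRing A)) ⟶ Spec A :=
      Spec.map (CommRingCat.ofHom (algebraMap A (FractionRing A)))
    have : IsDominant ι := ⟨(PrimeSpectrum.denseRange_comap_iff_ker_le_nilRadical _).mpr
      (by
        change RingHom.ker (algebraMap A (FractionRing A)) ≤ _
        rw [(RingHom.injective_iff_ker_eq_bot _).mp (IsFractionRing.injective A (FractionRing A))]
        exact bot_le)⟩
    exact ext_of_isDominant_of_isSeparated f (hl.trans hl'.symm) ι (hl0.trans hl'0.symm)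
  intro h
  refine ⟨?_⟩
  let δ := Limits.pullback.diagonal f
  rw [IsClosedImmersion.iff_isPreimmersion]
  refine ⟨inferInstance, ?_⟩
  by_contra hncl
  have hS' : ∀ W : S.Opens, IsAffineOpen W → CAlg.IsNagata Γ(S, W) := fun W hW => hS ⟨W, hW⟩
  have : LocallyOfFiniteType f := locallyOfFiniteType_of_comp f q
  let π : Limits.pullback f f ⟶ S := Limits.pullback.fst f f ≫ f ≫ q
  obtain ⟨C, _, γ, c, hlft, hqc, hint, hcl, hdim, hcE, hother⟩ :=
    Groth.Agent.CurveCut.exists_curve hS' π (Set.range δ)
      (Scheme.Hom.isLocallyClosed_range δ) hncl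
  let U : (Spec C).Opens := ⟨{c}ᶜ, hcl.isOpen_compl⟩
  have hγU : Set.range (U.ι ≫ γ).base ⊆ Set.range δ.base := by
    rintro _ ⟨x, rfl⟩
    exact hother _ x.2
  obtain ⟨v, hv⟩ : ∃ v : (U : Scheme.{u}) ⟶ X, v ≫ δ = U.ι ≫ γ := by
    have hO : Set.range (U.ι ≫ γ).base ⊆ Set.range δ.coborderRange.ι.base := by
      rw [Scheme.Opens.range_ι]
      exact hγU.trans subset_coborder
    let k' := IsOpenImmersion.lift δ.coborderRange.ι (U.ι ≫ γ) hO
    have : Surjective (Limits.pullback.snd δ.liftCoborder k') := ⟨fun x => by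
      obtain ⟨y, hy⟩ := hγU ⟨x, rfl⟩
      have he : δ.liftCoborder.base y = k'.base x := by
        apply δ.coborderRange.ι.isOpenEmbedding.injective
        rw [← Scheme.Hom.comp_apply, ← Scheme.Hom.comp_apply, Scheme.Hom.liftCoborder_ι,
          IsOpenImmersion.lift_fac]
        exact hy
      obtain ⟨z, -, hz⟩ := Scheme.Pullback.exists_preimage_pullback y x he
      exact ⟨z, hz⟩⟩
    have := isIso_of_isClosedImmersion_of_surjective (Limits.pullback.snd δ.liftCoborder k')
    refine ⟨inv (Limits.pullback.snd δ.liftCoborder k') ≫ Limits.pullback.fst _ _, ?_⟩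
    have e2 : k' ≫ δ.coborderRange.ι = U.ι ≫ γ := IsOpenImmersion.lift_fac _ _ _
    refine (congrArg (fun t => (inv (Limits.pullback.snd δ.liftCoborder k') ≫
      Limits.pullback.fst δ.liftCoborder k') ≫ t) δ.liftCoborder_ι.symm).trans ?_
    rw [Category.assoc, Limits.pullback.condition_assoc, e2, IsIso.inv_hom_id_assoc]
  set A := (Spec C).presheaf.stalk c
  let K := FractionRing A
  let ι : Spec (CommRingCat.of K) ⟶ Spec A := Spec.map (CommRingCat.ofHom (algebraMap A K))
  have hk : Set.range (ι ≫ (Spec C).fromSpecStalk c).base ⊆ Set.range U.ι.base := by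
    rw [Scheme.Opens.range_ι]
    rintro _ ⟨z, rfl⟩ hzc
    have hz : ι.base z = IsLocalRing.closedPoint A := by
      have h1 := Set.mem_singleton_iff.mp hzc
      exact ((Spec C).fromSpecStalk c).isEmbedding.injective
        (h1.trans (Scheme.fromSpecStalk_closedPoint (X := Spec C) (x := c)).symm)
    have hbot : (ι.base z).asIdeal = ⊥ := by
      change z.asIdeal.comap (algebraMap A K) = ⊥
      rw [(IsSimpleOrder.eq_bot_or_eq_top z.asIdeal).resolve_right z.2.ne_top]
      exact Ideal.comap_bot_of_injective _ (IsFractionRing.injective A K)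
    rw [hz] at hbot
    have hfld : IsField A := IsLocalRing.isField_iff_maximalIdeal_eq.mpr hbot
    have := ringKrullDim_eq_zero_of_isField hfld
    rw [hdim] at this
    exact one_ne_zero this
  let k := IsOpenImmersion.lift U.ι (ι ≫ (Spec C).fromSpecStalk c) hk
  have hkι : k ≫ U.ι = ι ≫ (Spec C).fromSpecStalk c := IsOpenImmersion.lift_fac _ _ _
  let g := γ ≫ Limits.pullback.fst f f ≫ f
  let l := (Spec C).fromSpecStalk c ≫ γ ≫ Limits.pullback.fst f f
  let l' := (Spec C).fromSpecStalk c ≫ γ ≫ Limits.pullback.snd f f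
  have hv1 : U.ι ≫ γ ≫ Limits.pullback.fst f f = v := by
    rw [← reassoc_of% hv, Limits.pullback.diagonal_fst, Category.comp_id]
  have hv2 : U.ι ≫ γ ≫ Limits.pullback.snd f f = v := by
    rw [← reassoc_of% hv, Limits.pullback.diagonal_snd, Category.comp_id]
  have hll : l = l' := h (Spec C) (γ ≫ π) hint c hcl hdim U rfl v g
    (by simp [g, π]) (by rw [← hv1]; simp [g]) k hkι l l'
    (by simp [l, g])
    (by rw [← hv1, reassoc_of% hkι]; rfl)
    (by simp [l', g, Limits.pullback.condition])
    (by rw [← hv2, reassoc_of% hkι]; rfl)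
  have hfac : (Spec C).fromSpecStalk c ≫ γ = l ≫ δ := by
    apply Limits.pullback.hom_ext
    · simp [l, δ]
    · rw [Category.assoc, Category.assoc, Limits.pullback.diagonal_snd, Category.comp_id]
      exact hll.symm
  refine hcE ⟨l.base (IsLocalRing.closedPoint A), ?_⟩
  exact (congrArg (fun t => t.base (IsLocalRing.closedPoint A)) hfac).symm.trans
    (congrArg γ.base (Scheme.fromSpecStalk_closedPoint (X := Spec C) (x := c)))

end Groth.Agent.S7450
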