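import Groth.Statements.S7452
import Groth.Agent.FieldDense.Basic
import Groth.Agent.GrpdBasic.Basic
-- import your own Groth.Agent.* helpers here

set_option autoImplicit false
universe u
open CategoryTheory CategoryTheory.Limits AlgebraicGeometry
open Grpd

namespace Groth.Agent.S7452

/-- Let (U, R, s, t, c) be a groupoid scheme over S with U the spectrum of a field. Then the composition
c : R x_(s,U,t) R -> R is an open map of topological spaces. (A groupoid scheme carries U, R, s, t,
c, e, i over S with the groupoid axioms on T-points; c is defined on the fibre product of s and t
and sends a pair (a, b) with s(a) = t(b) to a composed with b.) -/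
theorem result (S : Scheme.{u}) (G : Grpd.GroupoidScheme S) (k : Type u) [Field k] (eU : G.U ≅ Spec (CommRingCat.of k)) : IsOpenMap ⇑G.c := by
  haveI : UniversallyOpen G.s := Groth.Agent.FieldDense.universallyOpen_of_iso k eU _
  haveI : UniversallyOpen G.c :=
    MorphismProperty.of_isPullback (Groth.Agent.GrpdBasic.isPullback_c G).flip ‹UniversallyOpen G.s›
  exact G.c.isOpenMap

end Groth.Agent.S7452
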