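import Groth.Statements.S7459
import Groth.Agent.GrpSchField.Shear
import Groth.Agent.GrpSchField.Points

set_option autoImplicit false
universe u
open CategoryTheory MonoidalCategory CartesianMonoidalCategory MonObj GrpObj AlgebraicGeometry
open GrpSch

namespace Groth.Agent.S7459

/-- Let G be a group scheme over a field k, W an open subscheme of G and f : T -> G a morphism of
schemes (T becomes a k-scheme through f). Then the image of the composition T x_k W -> G x_k G -> G,
the second map being the multiplication, is open. -/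
theorem result (K : Type u) [Field K] (G : Over (Spec (CommRingCat.of K))) [GrpObj G] (W : G.left.Opens) (T : Scheme.{u}) (f : T ⟶ G.left) : IsOpen (Set.range ⇑(((Over.homMk f rfl : Over.mk (f ≫ G.hom) ⟶ G) ⊗ₘ (Over.homMk W.ι rfl : Over.mk (W.ι ≫ G.hom) ⟶ G)) ≫ μ[G]).left) := by
  set T' : Over (Spec (CommRingCat.of K)) := Over.mk (f ≫ G.hom)
  set W' : Over (Spec (CommRingCat.of K)) := Over.mk (W.ι ≫ G.hom)
  set a : T' ⟶ G := Over.homMk f rfl
  set w : W' ⟶ G := Over.homMk W.ι rfl
  have h : (a ⊗ₘ w) ≫ μ[G] =
      (T' ◁ w) ≫ (Groth.Agent.GrpSchField.shearL a).hom ≫ snd T' G := by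
    rw [Groth.Agent.GrpSchField.shearL_snd, MonoidalCategory.tensorHom_def', Category.assoc]
  rw [h, Over.comp_left, Over.comp_left]
  have := Groth.Agent.GrpSchField.isIso_left (Groth.Agent.GrpSchField.shearL a)
  have : IsOpenImmersion (T' ◁ w).left := by
    rw [Over.whiskerLeft_left]
    exact MorphismProperty.pullbackMap (P := @IsOpenImmersion)
      (show IsOpenImmersion (𝟙 T'.left) from inferInstance)
      (show IsOpenImmersion W.ι from inferInstance) (Category.id_comp _).symm (Over.w w).symm
  exact (IsOpenMap.isOpen_range ((T' ◁ w).left ≫ (Groth.Agent.GrpSchField.shearL a).hom.left ≫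
    (snd T' G).left).isOpenMap)

end Groth.Agent.S7459
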