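import Groth.Statements.S7460
import Groth.Agent.GrpSchField.Profinite

set_option autoImplicit false
universe u
open CategoryTheory CategoryTheory.Limits AlgebraicGeometry
open GrpSch

namespace Groth.Agent.S7460

open scoped TensorProduct

variable {k A : Type u} [Field k] [CommRing A] [Algebra k A]

/-- An element of `A ⊗ R` is a combination of orthogonal idempotents of `A` with coefficients in
`R`. -/
theorem exists_idempotents
    (hA : ∀ s : Finset A, ∃ (B : Subalgebra k A) (n : ℕ), (↑s : Set A) ⊆ (B : Set A) ∧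
      Nonempty (B ≃ₐ[k] (Fin n → k)))
    {R : Type u} [CommRing R] [Algebra k R] (z : A ⊗[k] R) :
    ∃ (n : ℕ) (e : Fin n → A) (r : Fin n → R), ∑ i, e i = 1 ∧
      (∀ i j, i ≠ j → e i * e j = 0) ∧ z = ∑ i, e i ⊗ₜ[k] r i := by
  classical
  obtain ⟨S, hS⟩ := TensorProduct.exists_finset z
  obtain ⟨B, n, hB, ⟨φ⟩⟩ := hA (S.image Prod.fst)
  let e : Fin n → A := fun i => (φ.symm (Pi.single i 1) : B)
  have hdec : ∀ a : B, (a : A) = ∑ i, φ a i • e i := fun a => by
    have h : a = ∑ i, φ a i • φ.symm (Pi.single i 1) := by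
      apply φ.injective
      simp only [map_sum, map_smul, AlgEquiv.apply_symm_apply]
      ext j
      simp [Finset.sum_apply, Pi.single_apply, Finset.sum_ite_eq]
    conv_lhs => rw [h]
    simp [e]
  have he1 : ∑ i, e i = 1 := by
    have h := hdec 1
    simp only [map_one, Pi.one_apply, one_smul, OneMemClass.coe_one] at h
    exact h.symm
  have he0 : ∀ i j, i ≠ j → e i * e j = 0 := fun i j hij => by
    show (φ.symm _ : B).1 * (φ.symm _ : B).1 = 0
    have h : (Pi.single i (1 : k) * Pi.single j 1 : Fin n → k) = 0 := by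
      ext l
      by_cases hl : l = i <;> simp [Pi.single_apply, hl, hij]
    rw [← MulMemClass.coe_mul, ← map_mul, h, map_zero]
    rfl
  refine ⟨n, e, fun i => ∑ m ∈ S.attach, φ ⟨m.1.1, hB (Finset.mem_image_of_mem _ m.2)⟩ i • m.1.2,
    he1, he0, ?_⟩
  rw [hS, ← Finset.sum_attach]
  simp only [TensorProduct.tmul_sum]
  rw [Finset.sum_comm]
  refine Finset.sum_congr rfl fun m _ => ?_
  simp only [TensorProduct.tmul_smul, ← TensorProduct.smul_tmul', ← TensorProduct.sum_tmul]
  conv_lhs => rw [show m.1.1 = _ from hdec ⟨m.1.1, hB (Finset.mem_image_of_mem _ m.2)⟩]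
  rw [TensorProduct.sum_tmul]
  rfl

theorem fibre_bijective (hA : ∀ s : Finset A, ∃ (B : Subalgebra k A) (n : ℕ),
      (↑s : Set A) ⊆ (B : Set A) ∧ Nonempty (B ≃ₐ[k] (Fin n → k)))
    {X : Scheme.{u}} (f : X ⟶ Spec (CommRingCat.of k)) :
    Function.Bijective (fun p : ↑(pullback (Spec.map (CommRingCat.ofHom (algebraMap k A))) f) =>
      (pullback.fst (Spec.map (CommRingCat.ofHom (algebraMap k A))) f p,
        pullback.snd (Spec.map (CommRingCat.ofHom (algebraMap k A))) f p)) := by
  set t := Spec.map (CommRingCat.ofHom (algebraMap k A))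
  have hsec : ∀ p : Spec (CommRingCat.of A), ∃ sp : Spec (CommRingCat.of k) ⟶ Spec (CommRingCat.of A),
      sp ≫ t = 𝟙 _ ∧ Set.range sp = {p} := by
    intro p
    let P : PrimeSpectrum A := p
    have hb := Groth.Agent.GrpSchField.bijective_algebraMap_quotient (k := k) (A := A) (fun a => by
      obtain ⟨B, n, hB, hφ⟩ := hA {a}
      exact ⟨B, n, hB (Finset.mem_singleton_self a), hφ⟩) P.asIdeal
    let e := RingEquiv.ofBijective _ hb
    let ψ : A →+* k := e.symm.toRingHom.comp (Ideal.Quotient.mk P.asIdeal)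
    refine ⟨Spec.map (CommRingCat.ofHom ψ), ?_, ?_⟩
    · rw [← Spec.map_comp, ← Spec.map_id]
      congr 1
      ext r
      exact e.symm_apply_apply r
    · have hker : RingHom.ker ψ = P.asIdeal := by
        rw [RingHom.ker_equiv_comp, Ideal.mk_ker]
      refine Set.eq_singleton_iff_unique_mem.mpr ⟨⟨IsLocalRing.closedPoint k, ?_⟩, ?_⟩
      · refine PrimeSpectrum.ext ?_
        show Ideal.comap ψ (IsLocalRing.maximalIdeal k) = P.asIdeal
        rw [IsLocalRing.maximalIdeal_eq_bot, ← RingHom.ker_eq_comap_bot, hker]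
      · rintro _ ⟨q, rfl⟩
        refine PrimeSpectrum.ext ?_
        show Ideal.comap ψ (PrimeSpectrum.asIdeal q) = P.asIdeal
        rw [(Ideal.eq_bot_or_top (PrimeSpectrum.asIdeal q)).resolve_right q.2.ne_top,
          ← RingHom.ker_eq_comap_bot, hker]
  constructor
  · intro w w' hww'
    obtain ⟨h1, h2⟩ := Prod.mk.inj hww'
    obtain ⟨sp, hsp, hr⟩ := hsec (pullback.fst t f w)
    let m := pullback.map (𝟙 (Spec (CommRingCat.of k))) f t f sp (𝟙 X) (𝟙 _)
      (by rw [hsp]; simp) (by simp)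
    have hm : ∀ r, pullback.fst t f r = pullback.fst t f w → ∃ q, m q = r := by
      intro r hr'
      have : r ∈ Set.range m := by
        refine (Scheme.Pullback.range_map ..).ge ?_
        simp [hr, hr']
      exact this
    obtain ⟨q, rfl⟩ := hm w rfl
    obtain ⟨q', rfl⟩ := hm w' h1.symm
    have hmsnd : ∀ q, pullback.snd t f (m q) = pullback.snd (𝟙 _) f q := fun q => by
      refine (Scheme.Hom.comp_apply m (pullback.snd t f) q).symm.trans ?_
      rw [show m ≫ pullback.snd t f = pullback.snd (𝟙 _) f by simp only [m, pullback.map, pullback.lift_snd, Category.comp_id]]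
    rw [hmsnd, hmsnd] at h2
    exact congrArg m ((Scheme.homeoOfIso (asIso (pullback.snd (𝟙 (Spec (CommRingCat.of k))) f))).injective h2)
  · rintro ⟨p, y⟩
    obtain ⟨w, hw1, hw2⟩ := Scheme.Pullback.exists_preimage_pullback p y
      (f := t) (g := f) (Subsingleton.elim (α := Spec (CommRingCat.of k)) _ _)
    exact ⟨w, Prod.ext hw1 hw2⟩


/-- Let k be a field and A a k-algebra such that every finite subset of A is contained in a k-subalgebra
isomorphic to a finite product of copies of k (that is, A is a directed colimit of finite products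
of copies of k). Let X be a scheme over k. Then the map from the underlying space of Spec A x_k X to
the product of the underlying spaces of Spec A and X, given by the two projections, is a
homeomorphism. -/
theorem result (k : Type u) [Field k] (A : Type u) [CommRing A] [Algebra k A] (hA : ∀ s : Finset A, ∃ (B : Subalgebra k A) (n : ℕ), (↑s : Set A) ⊆ (B : Set A) ∧ Nonempty (B ≃ₐ[k] (Fin n → k))) (X : Scheme.{u}) (f : X ⟶ Spec (CommRingCat.of k)) : IsHomeomorph (fun p : ↑(pullback (Spec.map (CommRingCat.ofHom (algebraMap k A))) f) => (pullback.fst (Spec.map (CommRingCat.ofHom (algebraMap k A))) f p, pullback.snd (Spec.map (CommRingCat.ofHom (algebraMap k A))) f p)) := by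
  classical
  refine ⟨(Scheme.Hom.continuous _).prodMk (Scheme.Hom.continuous _), ?_,
    fibre_bijective hA f⟩
  set t := Spec.map (CommRingCat.ofHom (algebraMap k A))
  intro O hO
  rw [isOpen_iff_mem_nhds]
  rintro _ ⟨w, hw, rfl⟩
  obtain ⟨_, ⟨U, hU, rfl⟩, hwU, -⟩ :=
    X.isBasis_affineOpens.exists_subset_of_mem_open (Set.mem_univ (pullback.snd t f w)) isOpen_univ
  let R := Γ(X, U)
  let _ : Algebra k R := (Spec.preimage (hU.fromSpec ≫ f)).hom.toAlgebra
  have hR : Spec.map (CommRingCat.ofHom (algebraMap k R)) = hU.fromSpec ≫ f := by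
    rw [show CommRingCat.ofHom (algebraMap k R) = Spec.preimage (hU.fromSpec ≫ f) from rfl,
      Spec.map_preimage]
  have : IsOpenImmersion hU.fromSpec := hU.isOpenImmersion_fromSpec
  let m := pullback.map t (Spec.map (CommRingCat.ofHom (algebraMap k R))) t f (𝟙 _) hU.fromSpec (𝟙 _)
    (by simp) (by simp [hR])
  have : IsOpenImmersion m := by
    dsimp only [m]
    exact MorphismProperty.pullbackMap (P := @IsOpenImmersion)
      (show IsOpenImmersion (𝟙 _) from inferInstance) (show IsOpenImmersion hU.fromSpec from inferInstance)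
      (Category.id_comp _).symm hR
  let c : Spec (CommRingCat.of (A ⊗[k] R)) ⟶ pullback t f := (pullbackSpecIso k A R).inv ≫ m
  have hc1 : ∀ q, pullback.fst t f (c q) =
      PrimeSpectrum.comap (Algebra.TensorProduct.includeLeftRingHom : A →+* A ⊗[k] R) q := fun q => by
    rw [← Scheme.Hom.comp_apply]
    have : c ≫ pullback.fst t f =
        Spec.map (CommRingCat.ofHom Algebra.TensorProduct.includeLeftRingHom) := by
      exact ((pullbackSpecIso k A R).inv ≫= (pullback.lift_fst _ _ _)).trans (by rw [Category.comp_id]; exact pullbackSpecIso_inv_fst k A R)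
    rw [this]
    rfl
  have hc2 : ∀ q, pullback.snd t f (c q) = hU.fromSpec (PrimeSpectrum.comap
      (Algebra.TensorProduct.includeRight : R →ₐ[k] A ⊗[k] R).toRingHom q) := fun q => by
    rw [← Scheme.Hom.comp_apply]
    have : c ≫ pullback.snd t f = Spec.map (CommRingCat.ofHom
        (Algebra.TensorProduct.includeRight : R →ₐ[k] A ⊗[k] R).toRingHom) ≫ hU.fromSpec := by
      exact ((Category.assoc _ _ _).trans ((pullbackSpecIso k A R).inv ≫= (pullback.lift_snd _ _ _))).trans (pullbackSpecIso_inv_snd_assoc k A R _)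
    rw [this, Scheme.Hom.comp_apply]
    rfl
  have hcrange : ∀ r, pullback.snd t f r ∈ U → ∃ q, c q = r := fun r hr => by
    have : r ∈ Set.range m := by
      refine (Scheme.Pullback.range_map ..).ge ?_
      simp [hU.range_fromSpec, hr]
    obtain ⟨q, rfl⟩ := this
    exact ⟨(pullbackSpecIso k A R).hom q, by rw [← Scheme.Hom.comp_apply]; simp [c]⟩
  obtain ⟨q, rfl⟩ := hcrange w hwU
  obtain ⟨_, ⟨z, rfl⟩, hqz, hzO⟩ := PrimeSpectrum.isTopologicalBasis_basic_opens.exists_subset_of_mem_open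
    (show q ∈ c ⁻¹' O from hw) (hO.preimage c.continuous)
  obtain ⟨n, e, r, he1, he0, hz⟩ := exists_idempotents hA z
  subst hz
  obtain ⟨i, hi⟩ : ∃ i, e i ⊗ₜ[k] r i ∉ q.asIdeal := by
    by_contra h
    rw [not_exists] at h
    exact hqz (Ideal.sum_mem _ fun i _ => not_not.mp (h i))
  have hsplit : e i ⊗ₜ[k] r i = (e i ⊗ₜ[k] (1 : R)) * ((1 : A) ⊗ₜ[k] r i) := by simp
  rw [hsplit] at hi
  have hi1 : (e i ⊗ₜ[k] (1 : R)) ∉ q.asIdeal := fun h => hi (q.asIdeal.mul_mem_right _ h)
  have hi2 : ((1 : A) ⊗ₜ[k] r i) ∉ q.asIdeal := fun h => hi (q.asIdeal.mul_mem_left _ h)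
  let N1 : Set (Spec (CommRingCat.of A)) := (PrimeSpectrum.basicOpen (e i) : Set (PrimeSpectrum A))
  let N2 : Set X := hU.fromSpec '' (PrimeSpectrum.basicOpen (r i) : Set (PrimeSpectrum R))
  have hN1 : IsOpen N1 := (PrimeSpectrum.basicOpen (e i)).2
  have hN2 : IsOpen N2 := hU.fromSpec.isOpenEmbedding.isOpenMap _ (PrimeSpectrum.basicOpen (r i)).2
  have hm1 : pullback.fst t f (c q) ∈ N1 := by rw [hc1]; exact hi1
  have hm2 : pullback.snd t f (c q) ∈ N2 := by rw [hc2]; exact ⟨_, hi2, rfl⟩
  refine Filter.mem_of_superset ((hN1.prod hN2).mem_nhds ⟨hm1, hm2⟩) ?_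
  rintro ⟨p', y'⟩ ⟨hp', hy'⟩
  obtain ⟨w', hw'⟩ := (fibre_bijective hA f).2 (p', y')
  obtain ⟨h1, h2⟩ : pullback.fst t f w' = p' ∧ pullback.snd t f w' = y' := Prod.mk.inj hw'
  obtain ⟨b, hb, hby⟩ := hy'
  replace hby : hU.fromSpec b = y' := hby
  obtain ⟨q', rfl⟩ := hcrange w' (by rw [h2, ← hby]; exact hU.range_fromSpec.le ⟨b, rfl⟩)
  refine ⟨c q', hzO ?_, hw'⟩
  rw [hc1] at h1
  rw [hc2, ← hby] at h2
  have h2' := hU.fromSpec.isOpenEmbedding.injective h2
  have e1 : (e i ⊗ₜ[k] (1 : R)) ∉ q'.asIdeal := by rw [← h1] at hp'; exact hp'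
  have e2 : ((1 : A) ⊗ₜ[k] r i) ∉ q'.asIdeal := by rw [← h2'] at hb; exact hb
  intro hmem
  refine (q'.isPrime.mul_notMem (q'.isPrime.mul_notMem e1 e1) e2) ?_
  have := q'.asIdeal.mul_mem_left (e i ⊗ₜ[k] (1 : R)) hmem
  convert this using 1
  rw [Finset.mul_sum, Finset.sum_eq_single i]
  · simp
  · intro j _ hji
    simp [he0 i j hji.symm]
  · simp

end Groth.Agent.S7460
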