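import Groth.Statements.S7462
import Groth.Agent.FieldDense.Basic
-- import your own Groth.Agent.* helpers here

set_option autoImplicit false
universe u
open CategoryTheory CategoryTheory.Limits AlgebraicGeometry
open Grpd

namespace Groth.Agent.S7462

section Aux
theorem closed_comp {S : Scheme.{u}} (G₁ G₂ : Grpd.GroupoidScheme S) (f : Grpd.GroupoidScheme.Hom G₁ G₂)
    [IsIso f.fU] (hK : ∀ {X : Scheme.{u}} (φ : X ⟶ G₂.U), UniversallyOpen φ) (p : ↑(pullback G₂.s G₂.t))
    (h₁ : pullback.fst G₂.s G₂.t p ∈ closure (Set.range ⇑f.fR))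
    (h₂ : pullback.snd G₂.s G₂.t p ∈ closure (Set.range ⇑f.fR)) :
    G₂.c p ∈ closure (Set.range ⇑f.fR) := by
  have hp := Groth.Agent.FieldDense.mem_closure_range_map G₂.s G₂.t f.fR f.fR hK p h₁ h₂
  refine closure_mono ?_ (image_closure_subset_closure_image G₂.c.continuous ⟨p, hp, rfl⟩)
  rintro _ ⟨_, ⟨z, rfl⟩, rfl⟩
  let a := pullback.fst (f.fR ≫ G₂.s) (f.fR ≫ G₂.t)
  let b := pullback.snd (f.fR ≫ G₂.s) (f.fR ≫ G₂.t)
  have h : a ≫ G₁.s = b ≫ G₁.t := by
    rw [← cancel_mono f.fU, Category.assoc, Category.assoc, ← f.comm_s, ← f.comm_t]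
    exact pullback.condition
  refine ⟨(pullback.lift a b h ≫ G₁.c) z, ?_⟩
  have e : (pullback.lift a b h ≫ G₁.c) ≫ f.fR =
      pullback.map (f.fR ≫ G₂.s) (f.fR ≫ G₂.t) G₂.s G₂.t f.fR f.fR (𝟙 _)
        (Category.comp_id _) (Category.comp_id _) ≫ G₂.c := f.comm_c a b h
  have := congrArg (fun φ => φ z) e
  simpa only [Scheme.Hom.comp_apply] using this

end Aux

/-- Consider two groupoid schemes (U, R_1, s_1, t_1, c_1) and (U, R_2, s_2, t_2, c_2) over S, where U is
the spectrum of a field, together with a map a : R_1 -> R_2 respecting source, target and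
composition (in the Lean: a morphism of groupoid schemes whose object-scheme component is an
isomorphism). Write Z for the closure in R_2 of the image of a. Then, as a map of sets, c_2 sends Z
x_(s_2,U,t_2) Z into Z: any point of R_2 x_(s_2,U,t_2) R_2 with both projections in Z has its
c_2-image in Z. (Here a groupoid scheme over S consists of U, R, s, t, c, e, i satisfying the
groupoid axioms on T-points; c lives on the fibre product of s and t and takes a pair (a, b) with
s(a) = t(b) to the composite of a with b.) -/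
theorem result (S : Scheme.{u}) (G₁ G₂ : Grpd.GroupoidScheme S) (f : Grpd.GroupoidScheme.Hom G₁ G₂) [IsIso f.fU] (k : Type u) [Field k] (eU : G₂.U ≅ Spec (CommRingCat.of k)) (p : ↑(pullback G₂.s G₂.t)) (h₁ : pullback.fst G₂.s G₂.t p ∈ closure (Set.range ⇑f.fR)) (h₂ : pullback.snd G₂.s G₂.t p ∈ closure (Set.range ⇑f.fR)) : G₂.c p ∈ closure (Set.range ⇑f.fR) := by
  exact closed_comp G₁ G₂ f (fun φ => Groth.Agent.FieldDense.universallyOpen_of_iso k eU φ) p h₁ h₂

end Groth.Agent.S7462
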