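import Groth.Statements.S7463
import Groth.Agent.FieldDense.Basic
-- import your own Groth.Agent.* helpers here

set_option autoImplicit false
universe u
open CategoryTheory CategoryTheory.Limits AlgebraicGeometry
open Grpd

namespace Groth.Agent.S7463

section Aux
theorem closed_pr02 {S : Scheme.{u}} (G : Grpd.GroupoidScheme S)
    (hK : ∀ {X : Scheme.{u}} (φ : X ⟶ G.U), UniversallyOpen φ)
    (pr02 : pullback (pullback.snd G.pU G.pU) (pullback.fst G.pU G.pU) ⟶ pullback G.pU G.pU)
    (h0 : pr02 ≫ pullback.fst G.pU G.pU = pullback.fst (pullback.snd G.pU G.pU) (pullback.fst G.pU G.pU) ≫ pullback.fst G.pU G.pU)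
    (h1 : pr02 ≫ pullback.snd G.pU G.pU = pullback.snd (pullback.snd G.pU G.pU) (pullback.fst G.pU G.pU) ≫ pullback.snd G.pU G.pU)
    (p : ↑(pullback (pullback.snd G.pU G.pU) (pullback.fst G.pU G.pU)))
    (h₁ : pullback.fst (pullback.snd G.pU G.pU) (pullback.fst G.pU G.pU) p ∈ closure (Set.range ⇑G.j))
    (h₂ : pullback.snd (pullback.snd G.pU G.pU) (pullback.fst G.pU G.pU) p ∈ closure (Set.range ⇑G.j)) :
    pr02 p ∈ closure (Set.range ⇑G.j) := by
  have hp := Groth.Agent.FieldDense.mem_closure_range_map (pullback.snd G.pU G.pU)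
    (pullback.fst G.pU G.pU) G.j G.j hK p h₁ h₂
  refine closure_mono ?_ (image_closure_subset_closure_image pr02.continuous ⟨p, hp, rfl⟩)
  rintro _ ⟨_, ⟨z, rfl⟩, rfl⟩
  have hs : G.j ≫ pullback.snd G.pU G.pU = G.s := pullback.lift_snd _ _ _
  have ht : G.j ≫ pullback.fst G.pU G.pU = G.t := pullback.lift_fst _ _ _
  let a := pullback.fst (G.j ≫ pullback.snd G.pU G.pU) (G.j ≫ pullback.fst G.pU G.pU)
  let b := pullback.snd (G.j ≫ pullback.snd G.pU G.pU) (G.j ≫ pullback.fst G.pU G.pU)
  have h : a ≫ G.s = b ≫ G.t := by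
    rw [← hs, ← ht]
    exact pullback.condition
  refine ⟨(pullback.lift a b h ≫ G.c) z, ?_⟩
  have e : (pullback.lift a b h ≫ G.c) ≫ G.j =
      pullback.map _ _ (pullback.snd G.pU G.pU) (pullback.fst G.pU G.pU) G.j G.j (𝟙 _)
        (Category.comp_id _) (Category.comp_id _) ≫ pr02 := by
    apply pullback.hom_ext
    · refine (Category.assoc _ _ _).trans ((congrArg (_ ≫ ·) ht).trans ((G.comp_t a b h).trans ?_))
      rw [Category.assoc _ pr02, h0, ← Category.assoc]
      exact ((congrArg (· ≫ pullback.fst G.pU G.pU) (pullback.lift_fst _ _ _)).trans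
        ((Category.assoc _ _ _).trans (congrArg (a ≫ ·) ht))).symm
    · refine (Category.assoc _ _ _).trans ((congrArg (_ ≫ ·) hs).trans ((G.comp_s a b h).trans ?_))
      rw [Category.assoc _ pr02, h1, ← Category.assoc]
      exact ((congrArg (· ≫ pullback.snd G.pU G.pU) (pullback.lift_snd _ _ _)).trans
        ((Category.assoc _ _ _).trans (congrArg (b ≫ ·) hs))).symm
  have := congrArg (fun φ => φ z) e
  simpa only [Scheme.Hom.comp_apply] using this

end Aux

/-- Consider a groupoid scheme (U, R, s, t, c) over S in which U is the spectrum of a field, and write Z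
for the closure of the image of the morphism j = (t, s) : R -> U x_S U. Then, set-theoretically,
pr_02 carries Z x_(pr_1,U,pr_0) Z into Z: given the morphism pr_02 from (U x_S U) x_(pr_1,U,pr_0) (U
x_S U) to U x_S U, whose components are pr_0 of the first factor and pr_1 of the second, any point
both of whose projections land in Z is mapped to a point of Z. (A groupoid scheme consists of U, R,
s, t, c, e, i over S satisfying the groupoid axioms on T-points; c is defined on the fibre product
of s and t and takes a pair (a, b) with s(a) = t(b) to the composite of a with b.) -/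
theorem result (S : Scheme.{u}) (G : Grpd.GroupoidScheme S) (k : Type u) [Field k] (eU : G.U ≅ Spec (CommRingCat.of k)) (pr02 : pullback (pullback.snd G.pU G.pU) (pullback.fst G.pU G.pU) ⟶ pullback G.pU G.pU) (h0 : pr02 ≫ pullback.fst G.pU G.pU = pullback.fst (pullback.snd G.pU G.pU) (pullback.fst G.pU G.pU) ≫ pullback.fst G.pU G.pU) (h1 : pr02 ≫ pullback.snd G.pU G.pU = pullback.snd (pullback.snd G.pU G.pU) (pullback.fst G.pU G.pU) ≫ pullback.snd G.pU G.pU) (p : ↑(pullback (pullback.snd G.pU G.pU) (pullback.fst G.pU G.pU))) (h₁ : pullback.fst (pullback.snd G.pU G.pU) (pullback.fst G.pU G.pU) p ∈ closure (Set.range ⇑G.j)) (h₂ : pullback.snd (pullback.snd G.pU G.pU) (pullback.fst G.pU G.pU) p ∈ closure (Set.range ⇑G.j)) : pr02 p ∈ closure (Set.range ⇑G.j) := by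
  exact closed_pr02 G (fun φ => Groth.Agent.FieldDense.universallyOpen_of_iso k eU φ) pr02 h0 h1 p h₁ h₂

end Groth.Agent.S7463
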