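import Groth.Statements.S7464
import Groth.Agent.GrpdBasic.Basic
import Mathlib.AlgebraicGeometry.Morphisms.QuasiFinite
-- import your own Groth.Agent.* helpers here

set_option autoImplicit false
universe u
open CategoryTheory CategoryTheory.Limits AlgebraicGeometry
open Grpd

namespace Groth.Agent.S7464

/-- Let (U, R, s, t, c) be a groupoid scheme over S with s and t finite, and let u, u' be distinct
points of U in the same orbit, say u = s(r) and u' = t(r). Then u' does not lie in the closure of u.
(The published statement calls u, u' points of R; this row takes them to be points of U, as the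
orbit condition and the proof require.) (A groupoid scheme carries U, R, s, t, c, e, i over S with
the groupoid axioms on T-points; c is defined on the fibre product of s and t and sends a pair (a,
b) with s(a) = t(b) to a composed with b.) -/
theorem result (S : Scheme.{u}) (G : Grpd.GroupoidScheme S) [IsFinite G.s] [IsFinite G.t] (r : G.R) (hne : G.s r ≠ G.t r) : ¬ (G.s r ⤳ G.t r) := by
  intro hsp
  classical
  let O : Set G.U := ⇑G.t '' (⇑G.s ⁻¹' {G.s r})
  have hOfin : O.Finite := (G.s.finite_preimage_singleton _).image _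
  have key : ∀ x ∈ O, ∃ y ∈ O, x ⤳ y ∧ x ≠ y := by
    rintro x ⟨r₁, hr₁, rfl⟩
    have hr₁ : G.s r₁ = G.s r := hr₁
    obtain ⟨r₂, h12, hr₂⟩ := G.s.isClosedMap.specializingMap
      (show G.s r₁ ⤳ G.t r by rw [hr₁]; exact hsp)
    refine ⟨G.t r₂, ?_, h12.map G.t.continuous, fun e => ?_⟩
    · obtain ⟨q, hq₁, hq₂⟩ := GrpdBasic.exists_comp G r₂ r hr₂
      exact ⟨q, hq₂, hq₁⟩
    · have hd := G.t.isDiscrete_preimage_singleton (G.t r₁)
      have := hd.to_subtype
      have h' : (⟨r₁, rfl⟩ : ↥(⇑G.t ⁻¹' {G.t r₁})) ⤳ ⟨r₂, e.symm⟩ := (subtype_specializes_iff _ _).2 h12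
      have h'' : r₁ = r₂ := congrArg Subtype.val h'.eq
      exact hne (by rw [← hr₁, h'', hr₂])
  let : Preorder G.U := specializationPreorder G.U
  obtain ⟨m, hm, hmin⟩ := hOfin.exists_minimal ⟨_, ⟨r, rfl, rfl⟩⟩
  obtain ⟨y, hy, hmy, hne'⟩ := key m hm
  exact hne' (hmy.antisymm (hmin hy hmy)).eq

end Groth.Agent.S7464
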