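import Groth.Statements.S7466
import Groth.Agent.GenericAffine.Basic
import Groth.Agent.GrpdBasic.Strata3
import Groth.Agent.GrpdBasic.InvBasicOpen
-- import your own Groth.Agent.* helpers here

set_option autoImplicit false
universe u
open CategoryTheory CategoryTheory.Limits AlgebraicGeometry
open Grpd

namespace Groth.Agent.S7466

section Aux
open Groth.Agent.GrpdBasic

variable {S : Scheme.{u}} (G : Grpd.GroupoidScheme S) [IsFinite G.s] [IsFinite G.t]

theorem isFinLocFree_comp_snd {R U A B : Scheme.{u}} (s : R ⟶ U) (g : B ⟶ A) (a : A ⟶ U) (b : B ⟶ U)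
    (hb : g ≫ a = b) (h : Mor2.IsFinLocFree (pullback.snd s a)) :
    Mor2.IsFinLocFree (pullback.snd s b) := by
  subst hb
  let m : pullback s (g ≫ a) ⟶ pullback s a :=
    pullback.lift (pullback.fst _ _) (pullback.snd _ _ ≫ g) (by rw [pullback.condition, Category.assoc])
  have H : IsPullback m (pullback.snd s (g ≫ a)) (pullback.snd s a) g := by
    refine IsPullback.of_right ?_ (pullback.lift_snd _ _ _) (IsPullback.of_hasPullback s a)
    rw [pullback.lift_fst]
    exact IsPullback.of_hasPullback s (g ≫ a)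
  exact ⟨MorphismProperty.of_isPullback H h.1, MorphismProperty.of_isPullback H h.2.1,
    MorphismProperty.of_isPullback H h.2.2⟩

theorem finite_orbits {m : ℕ} (u : Fin m → G.U) : (G.t '' (G.s ⁻¹' Set.range u)).Finite :=
  ((Set.finite_range u).preimage' fun y _ => G.s.finite_preimage_singleton y).image _

theorem exists_of_generic [LocallyOfFinitePresentation G.s] [LocallyOfFinitePresentation G.t]
    [QuasiSeparatedSpace G.U] (m : ℕ) (u : Fin m → G.U)
    (hu : ∀ i (r : G.R), G.s r = u i → ∀ x : G.U, x ⤳ G.t r → x = G.t r) :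
    ∃ (V : G.U.Opens) (V' : (↑V : Scheme.{u}).IdealSheafData), IsAffineOpen V ∧ (∀ i, u i ∈ V) ∧
      G.s ⁻¹ᵁ V = G.t ⁻¹ᵁ V ∧ V'.support = ⊤ ∧ LocallyOfFinitePresentation V'.subschemeι ∧
      (∃ φ : pullback G.s (V'.subschemeι ≫ V.ι) ≅ pullback G.t (V'.subschemeι ≫ V.ι),
        φ.hom ≫ pullback.fst G.t (V'.subschemeι ≫ V.ι) = pullback.fst G.s (V'.subschemeι ≫ V.ι)) ∧
      Mor2.IsFinLocFree (pullback.snd G.s (V'.subschemeι ≫ V.ι)) ∧
      Mor2.IsFinLocFree (pullback.snd G.t (V'.subschemeι ≫ V.ι)) := by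
  classical
  set T := G.t '' (G.s ⁻¹' Set.range u)
  have hmax : ∀ η ∈ T, ∀ y : G.U, y ⤳ η → y = η := by
    rintro _ ⟨r, ⟨i, hi⟩, rfl⟩
    exact hu i r hi.symm
  have horb : ∀ r : G.R, G.s r ∈ T → G.t r ∈ T := by
    rintro r ⟨r₀, hr₀, he⟩
    obtain ⟨w, hw1, hw2⟩ := exists_comp G r r₀ he.symm
    exact ⟨w, show G.s w ∈ Set.range u from hw2.symm ▸ (hr₀ : G.s r₀ ∈ Set.range u), hw1⟩
  have hTW : ∀ η ∈ T, η ∈ goodW G := fun η hη =>
    mem_goodW_of_generic G η fun r hr => hmax _ (horb r (hr ▸ hη))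
  obtain ⟨V₀, hV₀, hT₀⟩ := GenericAffine.exists_affine_of_generic T (finite_orbits G u) hmax
  have : IsAffine V₀ := hV₀
  let T₀ : Finset V₀ := (finite_orbits G u).toFinset.attach.image fun x => ⟨x.1, hT₀ ((Set.Finite.mem_toFinset _).1 x.2)⟩
  obtain ⟨f, hf, hfT⟩ := exists_basicOpen_subset_of_finite (V := (V₀ : Scheme)) (V₀.ι ⁻¹ᵁ goodW G) T₀
    fun x hx => by
      obtain ⟨y, -, rfl⟩ := Finset.mem_image.1 hx
      exact hTW y.1 ((Set.Finite.mem_toFinset _).1 y.2)
  let V₁ : G.U.Opens := V₀.ι ''ᵁ (V₀ : Scheme).basicOpen f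
  have hV₁ : IsAffineOpen V₁ :=
    ((isAffineOpen_top (V₀ : Scheme)).basicOpen f).image_of_isOpenImmersion _
  obtain ⟨W, ⟨h, hh⟩, hTV, hinv⟩ := exists_basicOpen_eq_orbitCore G V₁ hV₁ (finite_orbits G u).toFinset
    (fun x hx => ⟨⟨x, hT₀ ((Set.Finite.mem_toFinset _).1 hx)⟩,
      hfT _ (Finset.mem_image.2 ⟨⟨x, hx⟩, Finset.mem_attach _ _, rfl⟩), rfl⟩)
    (fun x hx => hmax x ((Set.Finite.mem_toFinset _).1 hx))
    (fun r hr => (Set.Finite.mem_toFinset _).2 (horb r ((Set.Finite.mem_toFinset _).1 hr)))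
  let V : G.U.Opens := V₁.ι ''ᵁ W
  have hVaff : IsAffineOpen V := by
    have : IsAffine V₁ := hV₁
    exact (hh ▸ (isAffineOpen_top (V₁ : Scheme)).basicOpen h).image_of_isOpenImmersion _
  have hle : V ≤ goodW G := by
    intro x hx
    obtain ⟨y, -, rfl⟩ := hx
    obtain ⟨z, hz, e⟩ := y.2
    exact (show V₁.ι y = V₀.ι z from e.symm) ▸ hf hz
  let j : (V : Scheme.{u}) ⟶ (goodW G : Scheme.{u}) := G.U.homOfLE hle
  let V' : (V : Scheme.{u}).IdealSheafData := (goodIdeal G).comap j
  let g : V'.subscheme ⟶ (goodIdeal G).subscheme :=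
    ((goodIdeal G).comapIso j).hom ≫ pullback.snd j (goodIdeal G).subschemeι
  have hg1 : ((goodIdeal G).comapIso j).hom ≫ pullback.fst j (goodIdeal G).subschemeι = V'.subschemeι :=
    Scheme.IdealSheafData.comapIso_hom_fst _ _
  have hgι : g ≫ (goodIdeal G).subschemeι = V'.subschemeι ≫ j := by
    rw [← hg1, Category.assoc, Category.assoc, pullback.condition]
  have hgoodι : g ≫ goodι G = V'.subschemeι ≫ V.ι := by
    rw [goodι, ← Category.assoc, hgι, Category.assoc, Scheme.homOfLE_ι]
  have hpb : IsPullback V'.subschemeι g j (goodIdeal G).subschemeι :=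
    IsPullback.of_iso_pullback ⟨hgι.symm⟩ ((goodIdeal G).comapIso j) hg1 rfl
  have hu' : ∀ i, u i ∈ V := fun i => hTV _ ((Set.Finite.mem_toFinset _).2
    ⟨G.e (u i), ⟨i, (s_e G _).symm⟩, t_e G _⟩)
  refine ⟨V, V', hVaff, hu', hinv, ?_, ?_, ?_, ?_, ?_⟩
  · refine TopologicalSpace.Closeds.ext ?_
    rw [Scheme.IdealSheafData.support_comap, goodIdeal_support]
    rfl
  · exact MorphismProperty.of_isPullback hpb.flip (lfp_goodIdeal G)
  · have key : ∀ (a b : G.R ⟶ G.U), ((a = G.s ∧ b = G.t) ∨ (a = G.t ∧ b = G.s)) →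
        ∃ z : pullback a (V'.subschemeι ≫ V.ι) ⟶ V'.subscheme,
          z ≫ V'.subschemeι ≫ V.ι = pullback.fst a (V'.subschemeι ≫ V.ι) ≫ b := by
      intro a b hab
      obtain ⟨z, hz⟩ := exists_factor G (pullback.fst a (V'.subschemeι ≫ V.ι)) a b hab
        (pullback.snd a (V'.subschemeι ≫ V.ι) ≫ g)
        (by rw [Category.assoc, hgoodι, ← pullback.condition])
      have hr : Set.range (pullback.fst a (V'.subschemeι ≫ V.ι) ≫ b) ⊆ Set.range V.ι := by
        rintro _ ⟨w, rfl⟩
        rw [Scheme.Opens.range_ι]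
        have hc : a ((pullback.fst a (V'.subschemeι ≫ V.ι)) w) =
            (V'.subschemeι ≫ V.ι) ((pullback.snd a (V'.subschemeι ≫ V.ι)) w) := by
          rw [← Scheme.Hom.comp_apply, pullback.condition, Scheme.Hom.comp_apply]
        have ha : a ((pullback.fst a (V'.subschemeι ≫ V.ι)) w) ∈ V := by
          rw [hc]; exact (V'.subschemeι _).2
        rw [Scheme.Hom.comp_apply, SetLike.mem_coe]
        rcases hab with ⟨rfl, rfl⟩ | ⟨rfl, rfl⟩
        · exact (SetLike.ext_iff.1 hinv _).1 ha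
        · exact (SetLike.ext_iff.1 hinv _).2 ha
      let q := IsOpenImmersion.lift V.ι _ hr
      have hq : q ≫ V.ι = _ := IsOpenImmersion.lift_fac _ _ _
      have hqz : q ≫ j = z ≫ (goodIdeal G).subschemeι := by
        rw [← cancel_mono (goodW G).ι, Category.assoc, Category.assoc, Scheme.homOfLE_ι, hq]
        exact hz.symm
      exact ⟨hpb.lift q z hqz, by rw [hpb.lift_fst_assoc, hq]⟩
    obtain ⟨z, hz⟩ := key G.s G.t (Or.inl ⟨rfl, rfl⟩)
    obtain ⟨z', hz'⟩ := key G.t G.s (Or.inr ⟨rfl, rfl⟩)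
    refine ⟨⟨pullback.lift _ z hz.symm, pullback.lift _ z' hz'.symm, ?_, ?_⟩, pullback.lift_fst _ _ _⟩
    all_goals
      rw [← cancel_mono (pullback.fst _ _), Category.assoc, Category.id_comp]
      erw [pullback.lift_fst, pullback.lift_fst]
  · exact isFinLocFree_comp_snd G.s g (goodι G) _ hgoodι (isFinLocFree_snd_s G)
  · exact isFinLocFree_comp_snd G.t g (goodι G) _ hgoodι (isFinLocFree_snd_t G)

end Aux

/-- Let (U, R, s, t, c) be a groupoid scheme over S with s, t finite and of finite presentation and U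
quasi-separated, and let u_1, ..., u_m be points of U such that every point in their R-orbits is a
generic point of an irreducible component of U. Then there are an R-invariant affine open V of U
containing u_1, ..., u_m and an R-invariant closed subscheme V' of V with the same underlying set
whose inclusion is of finite presentation (a thickening of finite presentation; V' is then affine
and contains the u_i) such that the source and target of the restriction of R to V' are finite
locally free. Here ι' : V' -> U is the inclusion, R-invariance of V' is expressed as an isomorphism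
between the pullbacks of s and of t along ι' compatible with the maps to R, and the restricted
source and target are the base changes of s and t along ι'; 'finite locally free' is finite, flat
and locally of finite presentation. (A groupoid scheme carries U, R, s, t, c, e, i over S with the
groupoid axioms on T-points; c is defined on the fibre product of s and t and sends a pair (a, b)
with s(a) = t(b) to a composed with b.) -/
theorem result (S : Scheme.{u}) (G : Grpd.GroupoidScheme S) [IsFinite G.s] [LocallyOfFinitePresentation G.s] [IsFinite G.t] [LocallyOfFinitePresentation G.t] [QuasiSeparatedSpace G.U] (m : ℕ) (u : Fin m → G.U) (hu : ∀ i (r : G.R), G.s r = u i → ∀ x : G.U, x ⤳ G.t r → x = G.t r) : ∃ (V : G.U.Opens) (V' : (↑V : Scheme.{u}).IdealSheafData), IsAffineOpen V ∧ (∀ i, u i ∈ V) ∧ G.s ⁻¹ᵁ V = G.t ⁻¹ᵁ V ∧ V'.support = ⊤ ∧ LocallyOfFinitePresentation V'.subschemeι ∧ (∃ φ : pullback G.s (V'.subschemeι ≫ V.ι) ≅ pullback G.t (V'.subschemeι ≫ V.ι), φ.hom ≫ pullback.fst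 G.t (V'.subschemeι ≫ V.ι) = pullback.fst G.s (V'.subschemeι ≫ V.ι)) ∧ Mor2.IsFinLocFree (pullback.snd G.s (V'.subschemeι ≫ V.ι)) ∧ Mor2.IsFinLocFree (pullback.snd G.t (V'.subschemeι ≫ V.ι)) := by
  exact exists_of_generic G m u hu

end Groth.Agent.S7466
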