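import Groth.Statements.S7484
import Groth.Agent.StableDescent.FiniteBound
-- import your own Groth.Agent.* helpers here

set_option autoImplicit false
open CategoryTheory CategoryTheory.Limits AlgebraicGeometry
universe u
open Desc

namespace Groth.Agent.S7484

/-- Let p : X -> Y be a surjective finite locally free morphism and d a positive integer such that for
every algebraically closed field k and every k-point of Y there are at most d k-points of X over it.
Let V be a scheme over X such that any d points of V (not necessarily distinct) lying over one point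
of Y are contained in an affine open of V. Then every descent datum on V relative to p is effective.
(Descent data are taken in functor-of-points form.) -/
theorem result {X Y : Scheme.{u}} (p : X ⟶ Y) [Surjective p] [IsFinite p] [Flat p] [LocallyOfFinitePresentation p] (d : ℕ) (hd : 0 < d) (hfib : ∀ (k : Type u) [Field k] [IsAlgClosed k] (y : Spec (CommRingCat.of k) ⟶ Y), Set.encard {x : Spec (CommRingCat.of k) ⟶ X | x ≫ p = y} ≤ d) (D : Desc.SchDD p) (hV : ∀ (y : Y) (v : Fin d → ↑(D.obj.left)), (∀ i, p (D.obj.hom (v i)) = y) → ∃ U : D.obj.left.Opens, IsAffineOpen U ∧ ∀ i, v i ∈ U) : ∃ W : Over Y, Nonempty ((Desc.toDD p).obj W ≅ D) := by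
  classical
  refine Groth.Agent.StableDescent.exists_iso_of_finite D fun x => ?_
  have hfin := Groth.Agent.StableDescent.finite_orbit D x
  have hle := Groth.Agent.StableDescent.encard_orbit_le D d hfib x
  set E := Groth.Agent.StableDescent.act D '' (pullback.fst (D.obj.hom ≫ p) p ⁻¹' {x})
  have hcard : hfin.toFinset.card ≤ d := by
    rw [hfin.encard_eq_coe_toFinset_card] at hle
    exact_mod_cast hle
  by_cases hE : E = ∅
  · obtain ⟨U, hU, -, -⟩ := exists_isAffineOpen_mem_and_subset (x := x) (U := ⊤) trivial
    exact ⟨U, hU, fun z hz => (Set.eq_empty_iff_forall_notMem.mp hE _ ⟨z, hz, rfl⟩).elim⟩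
  obtain ⟨e₀, he₀⟩ := Set.nonempty_iff_ne_empty.mpr hE
  let v : Fin d → D.obj.left := fun i => if h : i.1 < hfin.toFinset.card then (hfin.toFinset.equivFin.symm ⟨i.1, h⟩).1 else e₀
  have hvE : ∀ i, v i ∈ E := fun i => by
    simp only [v]
    split
    · exact hfin.mem_toFinset.mp (Subtype.prop _)
    · exact he₀
  obtain ⟨U, hU, hUs⟩ := hV (p (D.obj.hom x)) v (fun i => by
    obtain ⟨z, hz, hzv⟩ := hvE i
    rw [← hzv, Groth.Agent.StableDescent.base_act, show pullback.fst (D.obj.hom ≫ p) p z = x from hz])
  refine ⟨U, hU, fun z hz => ?_⟩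
  let e : hfin.toFinset := ⟨_, hfin.mem_toFinset.mpr ⟨z, hz, rfl⟩⟩
  have := hUs ⟨(hfin.toFinset.equivFin e).1, lt_of_lt_of_le (hfin.toFinset.equivFin e).2 hcard⟩
  simp only [v, dif_pos (hfin.toFinset.equivFin e).2, Equiv.symm_apply_apply] at this
  rw [show (⟨(hfin.toFinset.equivFin e).1, (hfin.toFinset.equivFin e).2⟩ : Fin hfin.toFinset.card) = hfin.toFinset.equivFin e from rfl, Equiv.symm_apply_apply] at this
  exact this

end Groth.Agent.S7484
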