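import Groth.Statements.S7486
import Groth.Agent.GrpdBasic.Norm
-- import your own Groth.Agent.* helpers here

set_option autoImplicit false
universe u
open CategoryTheory CategoryTheory.Limits AlgebraicGeometry
open Grpd

namespace Groth.Agent.S7486

theorem exists_coord {A B A' C : CommRingCat.{u}} {f : A ⟶ B} {σ : A ⟶ A'} {inl : B ⟶ C}
    {inr : A' ⟶ C} (h : IsPushout f σ inl inr) (ℓ : letI := f.hom.toAlgebra; B →ₗ[A] A) :
    ∃ ψ : C →+ A', ∀ a' m, ψ (inr a' * inl m) = a' * σ (letI := f.hom.toAlgebra; ℓ m) := by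
  algebraize [f.hom, σ.hom, inl.hom, inr.hom]
  let _ : Algebra A C := (f ≫ inl).hom.toAlgebra
  have : IsScalarTower A B C := IsScalarTower.of_algebraMap_eq' rfl
  have : IsScalarTower A A' C := IsScalarTower.of_algebraMap_eq'
    (congrArg CommRingCat.Hom.hom h.w)
  have hp : Algebra.IsPushout A A' B C := CommRingCat.isPushout_iff_isPushout.1 h.flip
  refine ⟨(hp.out.lift ((Algebra.linearMap A A').comp ℓ)).toAddMonoidHom, fun a' m => ?_⟩
  show hp.out.lift _ (algebraMap A' C a' * algebraMap B C m) = _
  rw [← Algebra.smul_def, map_smul, smul_eq_mul]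
  congr 1
  exact IsBaseChange.lift_eq hp.out _ m


/-- Let (U, R, s, t, c) be a groupoid scheme over S with U = Spec A and R = Spec B affine (A, B the
rings of global functions), and let x_i, i in I, be elements of A such that B is free as an A-module
through s^# with basis the elements t^#(x_i). Let C be the subring of R-invariant functions (those a
with s^#(a) = t^#(a)). Then the x_i form a basis of A as a C-module, and the C-linear map A (x)_C A
-> B sending a (x) a' to t^#(a) s^#(a') is bijective (B carries the C-module structure through s^#).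
(A groupoid scheme carries U, R, s, t, c, e, i over S with the groupoid axioms on T-points; c is
defined on the fibre product of s and t and sends a pair (a, b) with s(a) = t(b) to a composed with
b.) -/
theorem result (S : Scheme.{u}) (G : Grpd.GroupoidScheme S) [IsAffine G.U] [IsAffine G.R] (I : Type u) (x : I → Γ(G.U, ⊤)) (hB : letI := G.s.appTop.hom.toAlgebra; ∃ b : Module.Basis I Γ(G.U, ⊤) Γ(G.R, ⊤), ∀ i, b i = G.t.appTop.hom (x i)) : (∃ b : Module.Basis I G.invariants Γ(G.U, ⊤), ∀ i, b i = x i) ∧ (letI := (G.s.appTop.hom.comp G.invariants.subtype).toAlgebra; ∀ φ : TensorProduct G.invariants Γ(G.U, ⊤) Γ(G.U, ⊤) →ₗ[G.invariants] Γ(G.R, ⊤), (∀ a a' : Γ(G.U, ⊤), φ (a ⊗ₜ[G.invariants] a') = G.t.appTop.hom a * G.s.appTop.hom a') → Function.Bijective φ) := by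
  let _ : Algebra Γ(G.U, ⊤) Γ(G.R, ⊤) := G.s.appTop.hom.toAlgebra
  obtain ⟨b, hb⟩ := hB
  let σ := G.s.appTop
  let τ := G.t.appTop
  have hstep : ∀ a : Γ(G.U, ⊤), ∀ i, b.repr (τ a) i ∈ G.invariants := by
    intro a i
    have h₁ := isPushout_appTop_of_isPullback (IsPullback.of_hasPullback G.s G.t)
    obtain ⟨ψ, hψ⟩ := exists_coord h₁ (b.coord i)
    have hct : G.c ≫ G.t = pullback.fst G.s G.t ≫ G.t := by
      rw [GrpdBasic.c_eq, GrpdBasic.mul_t]
    let γ := G.c.appTop.hom
    let ι₁ := (pullback.fst G.s G.t).appTop.hom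
    let ι₂ := (pullback.snd G.s G.t).appTop.hom
    have hf : ∀ f, γ (τ f) = ι₁ (τ f) := fun f => by
      show G.c.appTop (G.t.appTop f) = (pullback.fst G.s G.t).appTop (G.t.appTop f)
      rw [← CommRingCat.comp_apply, ← CommRingCat.comp_apply, ← Scheme.Hom.comp_appTop,
        ← Scheme.Hom.comp_appTop, hct]
    have hγs : ∀ f, γ (σ f) = ι₂ (σ f) := fun f => by
      show G.c.appTop (G.s.appTop f) = (pullback.snd G.s G.t).appTop (G.s.appTop f)
      rw [← CommRingCat.comp_apply, ← CommRingCat.comp_apply, ← Scheme.Hom.comp_appTop,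
        ← Scheme.Hom.comp_appTop, (GrpdBasic.isPullback_c G).w]
    have hι : ∀ f, ι₁ (σ f) = ι₂ (τ f) := fun f => by
      show (pullback.fst G.s G.t).appTop (G.s.appTop f) = (pullback.snd G.s G.t).appTop (G.t.appTop f)
      rw [← CommRingCat.comp_apply, ← CommRingCat.comp_apply, ← Scheme.Hom.comp_appTop,
        ← Scheme.Hom.comp_appTop, pullback.condition]
    have e : τ a = Finsupp.sum (b.repr (τ a)) fun j l => σ l * τ (x j) := by
      conv_lhs => rw [← b.linearCombination_repr (τ a), Finsupp.linearCombination_apply]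
      exact Finsupp.sum_congr fun j _ => by rw [Algebra.smul_def, hb]; rfl
    have e₁ : ι₁ (τ a) = Finsupp.sum (b.repr (τ a)) fun j l => ι₂ (τ l) * ι₁ (τ (x j)) := by
      conv_lhs => rw [e, map_finsuppSum]
      exact Finsupp.sum_congr fun j _ => by rw [map_mul, hι]
    have e₂ : ι₁ (τ a) = Finsupp.sum (b.repr (τ a)) fun j l => ι₂ (σ l) * ι₁ (τ (x j)) := by
      rw [← hf]
      conv_lhs => rw [e, map_finsuppSum]
      exact Finsupp.sum_congr fun j _ => by rw [map_mul, hγs, hf]
    have hcoord : ∀ j, b.coord i (τ (x j)) = Finsupp.single j 1 i := fun j => by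
      change b.repr (τ (x j)) i = _
      rw [show τ (x j) = b j from (hb j).symm, b.repr_self]
    have key : ∀ (g : Γ(G.U, ⊤) →+* Γ(G.R, ⊤)),
        ψ (Finsupp.sum (b.repr (τ a)) fun j l => ι₂ (g l) * ι₁ (τ (x j))) =
          g (b.repr (τ a) i) := fun g => by
      rw [map_finsuppSum, Finsupp.sum, Finset.sum_eq_single i]
      · rw [hψ, hcoord]; simp
      · intro j _ hj
        rw [hψ, hcoord, Finsupp.single_eq_of_ne hj.symm]; simp
      · intro hi
        rw [Finsupp.notMem_support_iff.1 hi]; simp
    have := congrArg ψ (e₁.symm.trans e₂)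
    rw [key τ.hom, key σ.hom] at this
    exact this.symm
  have hes : ∀ f, G.e.appTop (σ f) = f := fun f => by
    rw [← CommRingCat.comp_apply, ← Scheme.Hom.comp_appTop, G.e_s]; simp
  have het : ∀ f, G.e.appTop (τ f) = f := fun f => by
    rw [← CommRingCat.comp_apply, ← Scheme.Hom.comp_appTop, G.e_t]; simp
  let lam : Γ(G.U, ⊤) → I →₀ G.invariants := fun a =>
    Finsupp.onFinset (b.repr (τ a)).support (fun i => ⟨b.repr (τ a) i, hstep a i⟩) fun i hi =>
      Finsupp.mem_support_iff.2 fun h => hi (Subtype.ext h)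
  have hlam : ∀ a, a = Finsupp.linearCombination G.invariants x (lam a) := fun a => by
    conv_lhs => rw [← het a, ← b.linearCombination_repr (τ a), Finsupp.linearCombination_apply,
      map_finsuppSum]
    rw [Finsupp.linearCombination_apply, Finsupp.onFinset_sum _ (fun i => by simp)]
    refine Finset.sum_congr rfl fun i _ => ?_
    show G.e.appTop.hom (b.repr (τ a) i • b i) = _
    rw [Algebra.smul_def, map_mul, hb]
    show G.e.appTop (σ _) * G.e.appTop (τ _) = _
    rw [hes, het]; rfl
  have hli : LinearIndependent G.invariants x := by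
    rw [linearIndependent_iff]
    intro l hl
    have := congrArg τ.hom hl
    rw [map_zero, Finsupp.linearCombination_apply, map_finsuppSum] at this
    have h' : Finsupp.linearCombination Γ(G.U, ⊤) b (l.mapRange Subtype.val rfl) = 0 := by
      rw [← this, Finsupp.linearCombination_apply, Finsupp.sum_mapRange_index (fun i => zero_smul Γ(G.U, ⊤) (b i))]
      refine Finsupp.sum_congr fun i _ => ?_
      rw [Algebra.smul_def, hb, Subring.smul_def, smul_eq_mul, map_mul]
      congr 1
      exact (l i).2
    have h0 := linearIndependent_iff.1 b.linearIndependent _ h'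
    ext i
    exact congrArg (fun f : I →₀ Γ(G.U, ⊤) => f i) h0
  let bA := Module.Basis.mk hli (fun a _ => by
    rw [hlam a]
    exact Finsupp.mem_span_range_iff_exists_finsupp.2 ⟨lam a, (Finsupp.linearCombination_apply _ _).symm⟩)
  refine ⟨⟨bA, fun i => Module.Basis.mk_apply _ _ i⟩, ?_⟩
  intro φ hφ
  refine ⟨?_, fun r => ?_⟩
  · have hspan : ∀ z : TensorProduct G.invariants Γ(G.U, ⊤) Γ(G.U, ⊤),
        ∃ μ : I →₀ Γ(G.U, ⊤), z = μ.sum fun i m => x i ⊗ₜ m := by
      intro z
      induction z using TensorProduct.induction_on with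
      | zero => exact ⟨0, by simp⟩
      | add z w hz hw =>
        obtain ⟨μ, rfl⟩ := hz
        obtain ⟨ν, rfl⟩ := hw
        exact ⟨μ + ν, (Finsupp.sum_add_index' (fun _ => TensorProduct.tmul_zero _ _)
          fun _ _ _ => TensorProduct.tmul_add _ _ _).symm⟩
      | tmul a a' =>
        refine ⟨(lam a).mapRange (fun l : G.invariants => (l : Γ(G.U, ⊤)) * a') (by simp), ?_⟩
        rw [Finsupp.sum_mapRange_index (fun _ => TensorProduct.tmul_zero _ _)]
        conv_lhs => rw [hlam a, Finsupp.linearCombination_apply, Finsupp.sum, TensorProduct.sum_tmul]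
        refine Finset.sum_congr rfl fun i _ => ?_
        rw [TensorProduct.smul_tmul]
        rfl
    intro z w h
    rw [← sub_eq_zero]
    obtain ⟨μ, hμ⟩ := hspan (z - w)
    have h0 : φ (z - w) = 0 := by rw [map_sub, h, sub_self]
    rw [hμ] at h0 ⊢
    rw [map_finsuppSum] at h0
    have h' : Finsupp.linearCombination Γ(G.U, ⊤) b μ = 0 := by
      rw [Finsupp.linearCombination_apply, ← h0]
      refine Finsupp.sum_congr fun i _ => ?_
      rw [hφ, Algebra.smul_def, hb, mul_comm]
      rfl
    rw [linearIndependent_iff.1 b.linearIndependent _ h', Finsupp.sum_zero_index]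
  · refine ⟨(b.repr r).sum fun i m => x i ⊗ₜ m, ?_⟩
    conv_rhs => rw [← b.linearCombination_repr r, Finsupp.linearCombination_apply]
    rw [map_finsuppSum]
    refine Finsupp.sum_congr fun i _ => ?_
    rw [hφ, Algebra.smul_def, hb, mul_comm]
    rfl

end Groth.Agent.S7486
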