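import Groth.Statements.S7487
import Groth.Agent.GrpdBasic.BaseChangeInv
import Mathlib.RingTheory.Nilpotent.Lemmas

set_option autoImplicit false
universe u
open CategoryTheory CategoryTheory.Limits AlgebraicGeometry
open Grpd

namespace Groth.Agent.S7487

/-- Let (U, R, s, t, c) be a groupoid scheme over S with U = Spec A and R = Spec B affine and s, t
finite locally free; let C be the subring of R-invariant functions of A and C -> C' a ring map. Put
A' = A (x)_C C' and B' = B (x)_C C' (B a C-algebra through s^#) and let C^1 be the subring of A'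
where the two maps s^# (x) 1, t^# (x) 1 : A' -> B' agree; the structure map C' -> A' lands in C^1,
giving φ : C' -> C^1. Then: (a) for every f in C^1 there are n > 0 and a polynomial P over C' whose
image in A'[x] is (x - f)^n; (b) every element of the kernel of φ is nilpotent; (c) if C -> C' is
flat then φ is bijective, that is C' -> A' is injective with image C^1. (The published statement
also asserts that the base change is again a groupoid scheme; this row omits that clause.) (A
groupoid scheme carries U, R, s, t, c, e, i over S with the groupoid axioms on T-points; c is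
defined on the fibre product of s and t and sends a pair (a, b) with s(a) = t(b) to a composed with
b.) -/
theorem result (S : Scheme.{u}) (G : Grpd.GroupoidScheme S) [IsAffine G.U] [IsAffine G.R] [IsFinite G.s] [Flat G.s] [LocallyOfFinitePresentation G.s] [IsFinite G.t] [Flat G.t] [LocallyOfFinitePresentation G.t] (C' : Type u) [CommRing C'] [Algebra G.invariants C'] : letI : Algebra G.invariants Γ(G.R, ⊤) := (G.s.appTop.hom.comp G.invariants.subtype).toAlgebra; ∀ (sT tT : TensorProduct G.invariants Γ(G.U, ⊤) C' →ₐ[G.invariants] TensorProduct G.invariants Γ(G.R, ⊤) C'), (∀ (a : Γ(G.U, ⊤)) (c : C'), sT (a ⊗ₜ c) = G.s.appTop.hom a ⊗ₜ c) → (∀ (a : Γ(G.U, ⊤)) (c : C'), tT (a ⊗ₜ c) = G.t.appTop.hom a ⊗ₜ c) → (∀ f : TensorProduct G.invariants Γ(G.U, ⊤) C', sT f = tT f → ∃ (n : ℕ) (P : Polynomial C'), 0 < n ∧ Polynomial.map (Algebra.TensorProduct.includeRight : C' →ₐ[G.invariants] TensorProduct G.invariants Γ(G.U, ⊤) C').toRingHom P = (Polynomial.X - Polynomial.C f) ^ n) ∧ (∀ c : C', (Algebra.TensorProduct.includeRight : C' →ₐ[G.invariants] TensorProduct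 G.invariants Γ(G.U, ⊤) C') c = 0 → IsNilpotent c) ∧ (Module.Flat G.invariants C' → Function.Injective (Algebra.TensorProduct.includeRight : C' →ₐ[G.invariants] TensorProduct G.invariants Γ(G.U, ⊤) C') ∧ ∀ f : TensorProduct G.invariants Γ(G.U, ⊤) C', sT f = tT f → f ∈ Set.range (Algebra.TensorProduct.includeRight : C' →ₐ[G.invariants] TensorProduct G.invariants Γ(G.U, ⊤) C')) := by
  intro sT tT hs ht
  let _ : Algebra G.invariants Γ(G.R, ⊤) := (G.s.appTop.hom.comp G.invariants.subtype).toAlgebra
  refine ⟨Groth.Agent.GrpdBasic.exists_pow_poly G C' sT tT hs ht, fun c hc => ?_, fun hflat => ?_⟩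
  · rw [← mem_nilradical, nilradical_eq_sInf, Ideal.mem_sInf]
    intro (q : Ideal C') hq
    have : q.IsPrime := hq
    let k := AlgebraicClosure (FractionRing (C' ⧸ q))
    let π : C' →+* k := (algebraMap (FractionRing (C' ⧸ q)) k).comp
      ((algebraMap (C' ⧸ q) (FractionRing (C' ⧸ q))).comp (Ideal.Quotient.mk q))
    have : Algebra.IsIntegral G.invariants Γ(G.U, ⊤) := Groth.Agent.S1879.result S G
    let φ : G.invariants →+* k := π.comp (algebraMap G.invariants C')
    have : (RingHom.ker φ).IsPrime := RingHom.ker_isPrime φ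
    obtain ⟨p, -, hp, hp'⟩ := Ideal.exists_ideal_over_prime_of_isIntegral (S := Γ(G.U, ⊤))
      (RingHom.ker φ) ⊥ (by
        refine le_trans (le_of_eq ?_) bot_le
        exact (RingHom.injective_iff_ker_eq_bot _).1 Subtype.val_injective)
    obtain ⟨x, hx, -⟩ := Groth.Agent.GrpdBasic.exists_point φ p hp'
    let _ : Algebra G.invariants k := φ.toAlgebra
    let l : TensorProduct G.invariants Γ(G.U, ⊤) C' →ₐ[G.invariants] k :=
      Algebra.TensorProduct.lift ⟨x, fun a => RingHom.congr_fun hx a⟩ ⟨π, fun _ => rfl⟩
        fun _ _ => Commute.all _ _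
    have h0 := congrArg l hc
    rw [map_zero, Algebra.TensorProduct.includeRight_apply, Algebra.TensorProduct.lift_tmul,
      map_one, one_mul] at h0
    have h1 : (Ideal.Quotient.mk q c : C' ⧸ q) = 0 :=
      IsFractionRing.injective (C' ⧸ q) (FractionRing (C' ⧸ q))
        ((algebraMap (FractionRing (C' ⧸ q)) k).injective (by rw [map_zero, map_zero]; exact h0))
    exact Ideal.Quotient.eq_zero_iff_mem.1 h1
  · have := hflat
    let sL : Γ(G.U, ⊤) →ₗ[G.invariants] Γ(G.R, ⊤) :=
      (⟨G.s.appTop.hom, fun _ => rfl⟩ : Γ(G.U, ⊤) →ₐ[G.invariants] Γ(G.R, ⊤)).toLinearMap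
    let tL : Γ(G.U, ⊤) →ₗ[G.invariants] Γ(G.R, ⊤) :=
      (⟨G.t.appTop.hom, fun c => c.2.symm⟩ : Γ(G.U, ⊤) →ₐ[G.invariants] Γ(G.R, ⊤)).toLinearMap
    let inc : G.invariants →ₗ[G.invariants] Γ(G.U, ⊤) := Algebra.linearMap _ _
    have hinc : ∀ z : TensorProduct G.invariants G.invariants C',
        inc.rTensor C' z = (Algebra.TensorProduct.includeRight :
          C' →ₐ[G.invariants] TensorProduct G.invariants Γ(G.U, ⊤) C') (TensorProduct.lid _ _ z) := by
      intro z
      induction z using TensorProduct.induction_on with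
      | zero => simp
      | add z w hz hw => simp [map_add, hz, hw]
      | tmul a c =>
        rw [LinearMap.rTensor_tmul, TensorProduct.lid_tmul, map_smul,
          Algebra.TensorProduct.includeRight_apply, TensorProduct.smul_tmul']
        congr 1
        exact (Algebra.smul_def a (1 : Γ(G.U, ⊤))).trans (mul_one _) |>.symm
    refine ⟨fun c c' h => ?_, fun f hf => ?_⟩
    · have hinj := Module.Flat.rTensor_preserves_injective_linearMap (M := C') inc Subtype.val_injective
      have := hinj (a₁ := (TensorProduct.lid _ _).symm c) (a₂ := (TensorProduct.lid _ _).symm c')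
        (by rw [hinc, hinc, LinearEquiv.apply_symm_apply, LinearEquiv.apply_symm_apply]; exact h)
      exact (TensorProduct.lid _ _).symm.injective this
    · have hex : Function.Exact inc (sL - tL) := fun a => by
        rw [LinearMap.sub_apply, sub_eq_zero]
        exact ⟨fun h => ⟨⟨a, h⟩, rfl⟩, fun ⟨c, hc⟩ => hc ▸ c.2⟩
      have h0 : (sL - tL).rTensor C' f = 0 := by
        rw [LinearMap.rTensor_sub, LinearMap.sub_apply, sub_eq_zero]
        have e₁ : ∀ z, sL.rTensor C' z = sT z := fun z => by
          induction z using TensorProduct.induction_on with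
          | zero => simp
          | add z w hz hw => simp [map_add, hz, hw]
          | tmul a c => rw [LinearMap.rTensor_tmul, hs]; rfl
        have e₂ : ∀ z, tL.rTensor C' z = tT z := fun z => by
          induction z using TensorProduct.induction_on with
          | zero => simp
          | add z w hz hw => simp [map_add, hz, hw]
          | tmul a c => rw [LinearMap.rTensor_tmul, ht]; rfl
        rw [e₁, e₂, hf]
      obtain ⟨z, hz⟩ := (Module.Flat.rTensor_exact C' hex f).1 h0
      exact ⟨_, (hinc z).symm.trans hz⟩

end Groth.Agent.S7487
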