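import Groth.Statements.S7488
import Groth.Agent.GrpdBasic.QuotGlobal
import Groth.Agent.GrpdBasic.QuotSheaf
import Mathlib.AlgebraicGeometry.Sites.Fpqc
import Mathlib.CategoryTheory.Limits.Constructions.Over.Connected

set_option autoImplicit false
universe u
open CategoryTheory CategoryTheory.Limits AlgebraicGeometry
open Grpd

namespace Groth.Agent.S7488

/-- Let (U, R, s, t, c) be a groupoid scheme over S with U and R affine, s and t finite locally free,
and j = (t, s) : R -> U x_S U a monomorphism. Let C be the ring of R-invariant functions on U and M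
= Spec C. Then the structure morphism U -> S factors uniquely through U -> M, and for the resulting
structure of scheme over S on M, the morphism U -> M represents the quotient sheaf U/R in the fppf
topology: it coequalizes s and t and the induced map from the coequalizer of h_R => h_U (sheaves of
sets on the big fppf site of S) to h_M is an isomorphism. (The published statement also asserts that
U -> M is finite locally free and that R = U x_M U; this row states only the quotient-sheaf clause.)
(A groupoid scheme carries U, R, s, t, c, e, i over S with the groupoid axioms on T-points; c is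
defined on the fibre product of s and t and sends a pair (a, b) with s(a) = t(b) to a composed with
b.) -/
theorem result (S : Scheme.{u}) (G : Grpd.GroupoidScheme S) [IsAffine G.U] [IsAffine G.R] [IsFinite G.s] [Flat G.s] [LocallyOfFinitePresentation G.s] [IsFinite G.t] [Flat G.t] [LocallyOfFinitePresentation G.t] [Mono G.j] : ∃! m : Spec (CommRingCat.of G.invariants) ⟶ S, ∃ h : G.toQuot ≫ m = G.pU, QuotSh.IsQuotient Scheme.fppfPrecoverage (Over.homMk G.s G.s_over : Over.mk G.pR ⟶ Over.mk G.pU) (Over.homMk G.t G.t_over : Over.mk G.pR ⟶ Over.mk G.pU) (Over.homMk G.toQuot h : Over.mk G.pU ⟶ Over.mk m) := by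
  obtain ⟨⟨_, _, _⟩, φ, h₁, h₂⟩ :=
    And.intro (Groth.Agent.GrpdBasic.finiteLocallyFree_toQuot G)
      (Groth.Agent.GrpdBasic.exists_iso_pullback_toQuot G)
  have hpb : IsPullback G.t G.s G.toQuot G.toQuot :=
    IsPullback.of_iso_pullback ⟨by rw [← h₁, ← h₂, Category.assoc, Category.assoc, pullback.condition]⟩
      φ h₁ h₂
  have : Surjective G.toQuot := by
    have : Surjective (Spec.map (CommRingCat.ofHom G.invariants.subtype)) := ⟨fun q => by
      have := Groth.Agent.S1879.result S G
      have hinj : RingHom.ker (algebraMap G.invariants Γ(G.U, ⊤)) ≤ q.asIdeal := by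
        rw [(RingHom.injective_iff_ker_eq_bot _).1 Subtype.val_injective]
        exact bot_le
      obtain ⟨p, -, hp, hp'⟩ := Ideal.exists_ideal_over_prime_of_isIntegral q.asIdeal ⊥ hinj
      exact ⟨⟨p, hp⟩, PrimeSpectrum.ext hp'⟩⟩
    rw [Groth.Agent.GrpdBasic.toQuot_eq]
    infer_instance
  have hw : ∀ {Z : Scheme.{u}} (g₁ g₂ : Z ⟶ G.U), g₁ ≫ G.toQuot = g₂ ≫ G.toQuot →
      g₁ ≫ G.pU = g₂ ≫ G.pU := fun g₁ g₂ h => by
    calc g₁ ≫ G.pU = hpb.lift g₁ g₂ h ≫ G.t ≫ G.pU := (hpb.lift_fst_assoc g₁ g₂ h G.pU).symm
      _ = hpb.lift g₁ g₂ h ≫ G.s ≫ G.pU := by rw [G.t_over, G.s_over]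
      _ = g₂ ≫ G.pU := hpb.lift_snd_assoc g₁ g₂ h G.pU
  let m := EffectiveEpi.desc G.toQuot G.pU hw
  refine ⟨m, ⟨EffectiveEpi.fac G.toQuot G.pU hw, ?_⟩, ?_⟩
  · refine Groth.Agent.QuotShBasic.isQuotient_of_isPullback Scheme.fppfPrecoverage _ _ _
      (IsPullback.of_map (Over.forget S) ((Over.forget S).map_injective hpb.w) hpb) ?_
    exact Groth.Agent.QuotShBasic.generate_singleton_mem _ _
      (Scheme.Hom.singleton_mem_fppfPrecoverage G.toQuot)
  · rintro m' ⟨h, -⟩
    exact EffectiveEpi.uniq G.toQuot G.pU hw m' h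

end Groth.Agent.S7488
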