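import Groth.Statements.S7495
import Mathlib
import Groth.Agent.GrpSchField.SmoothCriterion
-- import your own Groth.Agent.* helpers here

set_option autoImplicit false
universe u
open CategoryTheory MonoidalCategory CartesianMonoidalCategory MonObj GrpObj AlgebraicGeometry
open GrpSch

namespace Groth.Agent.S7495

/-- Let k be a perfect field of positive characteristic and G a group scheme locally of finite type over
k whose underlying scheme is reduced. Then G -> Spec k is smooth. -/
theorem result (K : Type u) [Field K] [PerfectField K] (hK : ringChar K ≠ 0) (G : Over (Spec (CommRingCat.of K))) [GrpObj G] [LocallyOfFiniteType G.hom] [IsReduced G.left] : Smooth G.hom := by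
  have hne : ((⊤ : G.left.Opens) : Set G.left).Nonempty := ⟨η[G].left (IsLocalRing.closedPoint K), trivial⟩
  have : IsReduced ((⊤ : G.left.Opens) : Scheme.{u}) := isReduced_of_isOpenImmersion (⊤ : G.left.Opens).ι
  obtain ⟨x, hx⟩ := Groth.Agent.GrpSchField.smoothLocus_nonempty_of_isReduced_open G ⊤ hne
  obtain ⟨U, hU, V, hV, hVU, hxV, H⟩ := exists_smooth_of_formallySmooth_stalk G.hom x hx
  have : Smooth (V.ι ≫ G.hom) := by
    have h1 : V.ι ≫ G.hom = G.hom.resLE U V hVU ≫ U.ι := (Scheme.Hom.resLE_comp_ι _ _).symm
    have : IsAffine (U : Scheme.{u}) := hU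
    have : IsAffine (V : Scheme.{u}) := hV
    have : Smooth (G.hom.resLE U V hVU) := by
      rw [HasRingHomProperty.iff_of_isAffine (P := @Smooth)]
      exact (RingHom.Smooth.propertyIsLocal.respectsIso.arrow_mk_iso_iff (arrowResLEAppIso G.hom U V hVU)).mpr H
    rw [h1]; infer_instance
  exact Groth.Agent.GrpSchField.smooth_of_smooth_open G V ⟨x, hxV⟩

end Groth.Agent.S7495
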