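import Groth.Statements.S7498
import Groth.Agent.GrpdBasic.Basic
-- import your own Groth.Agent.* helpers here

set_option autoImplicit false
universe u
open CategoryTheory CategoryTheory.Limits AlgebraicGeometry
open Grpd

namespace Groth.Agent.S7498

section Aux
open Groth.Agent.GrpdBasic

variable {S : Scheme.{u}} (G : Grpd.GroupoidScheme S) {T : Scheme.{u}} {a b : T ⟶ G.U} (g : T ⟶ G.R)
  (ht : g ≫ G.t = a) (hs : g ≫ G.s = b)

include ht in
theorem c₁ : pullback.fst G.s a ≫ G.s = (pullback.snd G.s a ≫ g) ≫ G.t := by
  rw [Category.assoc, ht, pullback.condition]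

include hs in
theorem c₂ : pullback.fst G.s b ≫ G.s = ((pullback.snd G.s b ≫ g) ≫ G.i) ≫ G.t := by
  rw [Category.assoc _ G.i, G.i_t, Category.assoc, hs, pullback.condition]

noncomputable def fwd : pullback G.s a ⟶ pullback G.s b :=
  pullback.lift (mul G _ _ (c₁ G g ht)) (pullback.snd G.s a)
    (by rw [mul_s, Category.assoc, hs])

noncomputable def bwd : pullback G.s b ⟶ pullback G.s a :=
  pullback.lift (mul G _ _ (c₂ G g hs)) (pullback.snd G.s b)
    (by rw [mul_s, Category.assoc _ G.i, G.i_s, Category.assoc, ht])

noncomputable def twist : pullback G.s a ≅ pullback G.s b where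
  hom := fwd G g ht hs
  inv := bwd G g ht hs
  hom_inv_id := by
    apply pullback.hom_ext
    · rw [bwd, Category.assoc, pullback.lift_fst, comp_mul, Category.id_comp]
      refine (mul_congr G (α' := mul G _ _ (c₁ G g ht)) (pullback.lift_fst _ _ _)
        (β' := (pullback.snd G.s a ≫ g) ≫ G.i) ?_ _).trans (mul_inv_cancel_right G _ _ _)
      rw [← Category.assoc, ← Category.assoc, fwd, pullback.lift_snd]
    · rw [bwd, Category.assoc, pullback.lift_snd, fwd, pullback.lift_snd, Category.id_comp]
  inv_hom_id := by
    apply pullback.hom_ext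
    · rw [fwd, Category.assoc, pullback.lift_fst, comp_mul, Category.id_comp]
      refine (mul_congr G (α' := mul G _ _ (c₂ G g hs)) (pullback.lift_fst _ _ _)
        (β' := pullback.snd G.s b ≫ g) ?_ _).trans (inv_mul_cancel_right G _ _ ?_)
      · rw [← Category.assoc, bwd, pullback.lift_snd]
      · rw [Category.assoc, hs, pullback.condition]
    · rw [fwd, Category.assoc, pullback.lift_snd, bwd, pullback.lift_snd, Category.id_comp]

end Aux

/-- Let (U, R, s, t, c) be a groupoid scheme over S and r, r' points of R with t(r) = t(r'); put u =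
s(r), u' = s(r') and let F_u, F_u' be the scheme-theoretic fibres of s. Then there are a field k
which is a common extension of κ(u) and κ(u') (morphisms a, b : Spec k -> U with images u, u') and
an isomorphism of the base changes (F_u)_k and (F_u')_k over Spec k, which moreover can be chosen to
send some point lying over r to a point lying over r'. (The published statement also compares the
germs of s at r and at r' when s and t are flat or flat of finite presentation; this row omits
that.) (A groupoid scheme carries U, R, s, t, c, e, i over S with the groupoid axioms on T-points; c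
is defined on the fibre product of s and t and sends a pair (a, b) with s(a) = t(b) to a composed
with b.) -/
theorem result (S : Scheme.{u}) (G : Grpd.GroupoidScheme S) (r r' : G.R) (h : G.t r = G.t r') : ∃ (k : Type u) (_ : Field k) (a b : Spec (CommRingCat.of k) ⟶ G.U) (φ : pullback G.s a ≅ pullback G.s b) (p : ↑(pullback G.s a)), a (IsLocalRing.closedPoint k) = G.s r ∧ b (IsLocalRing.closedPoint k) = G.s r' ∧ φ.hom ≫ pullback.snd G.s b = pullback.snd G.s a ∧ pullback.fst G.s a p = r ∧ pullback.fst G.s b (φ.hom p) = r' := by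
  obtain ⟨z, hz₁, hz₂⟩ := Scheme.Pullback.exists_preimage_pullback r r' h
  let P : Scheme.{u} := pullback G.t G.t
  let x := P.fromSpecResidueField z ≫ pullback.fst G.t G.t
  let y := P.fromSpecResidueField z ≫ pullback.snd G.t G.t
  let o : Spec (P.residueField z) := IsLocalRing.closedPoint (P.residueField z)
  have hx : x o = r := by rw [Scheme.Hom.comp_apply, Scheme.fromSpecResidueField_apply, hz₁]
  have hy : y o = r' := by rw [Scheme.Hom.comp_apply, Scheme.fromSpecResidueField_apply, hz₂]
  have hxy : x ≫ G.t = y ≫ G.t := by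
    simp only [x, y, Category.assoc, pullback.condition]
  have hxy' : (x ≫ G.i) ≫ G.s = y ≫ G.t := by rw [Category.assoc, G.i_s, hxy]
  let g := GrpdBasic.mul G (x ≫ G.i) y hxy'
  have ht : g ≫ G.t = x ≫ G.s := by rw [GrpdBasic.mul_t, Category.assoc, G.i_t]
  have hs : g ≫ G.s = y ≫ G.s := GrpdBasic.mul_s _ _ _ _
  let σ : Spec (P.residueField z) ⟶ pullback G.s (x ≫ G.s) := pullback.lift x (𝟙 _) (by simp)
  refine ⟨P.residueField z, inferInstance, x ≫ G.s, y ≫ G.s, twist G g ht hs, σ o, ?_, ?_,
    pullback.lift_snd _ _ _, ?_, ?_⟩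
  · rw [← hx]; rfl
  · rw [← hy]; rfl
  · rw [← Scheme.Hom.comp_apply, pullback.lift_fst, hx]
  · have e : σ ≫ (twist G g ht hs).hom ≫ pullback.fst G.s (y ≫ G.s) = y := by
      rw [show (twist G g ht hs).hom = fwd G g ht hs from rfl, fwd, pullback.lift_fst, GrpdBasic.comp_mul]
      refine (GrpdBasic.mul_congr G (pullback.lift_fst _ _ _) (β' := g)
        (by rw [← Category.assoc, pullback.lift_snd, Category.id_comp]) _).trans ?_
      refine (GrpdBasic.mul_assoc G x (x ≫ G.i) y ((Category.assoc x G.i G.t).trans (congrArg (x ≫ ·) G.i_t)).symm hxy').symm.trans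
        (GrpdBasic.one_mul G y _ ?_ _)
      rw [GrpdBasic.mul_inv, reassoc_of% hxy]
    rw [← hy, ← Scheme.Hom.comp_apply, ← Scheme.Hom.comp_apply]
    exact congrArg (fun φ => φ o) e

end Groth.Agent.S7498
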