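import Groth.Statements.S7502
import Groth.Agent.QCohLib.Biprod
import Groth.Agent.QCohLib.Criterion
import Groth.Agent.QCohLib.Pullback
import Groth.Agent.DQC.HTorCoh
import Groth.Agent.DQCPush.FlatDescendFinite

set_option autoImplicit false
set_option linter.style.haveILetI false
set_option backward.isDefEq.respectTransparency false
universe u
open CategoryTheory CategoryTheory.Limits AlgebraicGeometry
open Coh Groth.Agent

namespace Groth.Agent.S7502

/-- Let f : Y -> X be a morphism of schemes which is quasi-compact, quasi-separated, flat and
surjective, with X and Y locally Noetherian. Let F be a quasi-coherent O_X-module, G a coherent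
O_Y-module and φ : G -> f^*F an injective map of O_Y-modules. Then the O_X-module F ∩ f_*G, defined
as the fibre product of the adjunction unit F -> f_*f^*F with f_*φ : f_*G -> f_*f^*F, is coherent.
('Coherent' is quasi-coherent of finite type, the usual notion on locally Noetherian schemes.) -/
theorem result {X Y : Scheme.{u}} (f : Y ⟶ X) [QuasiCompact f] [QuasiSeparated f] [Flat f] [Surjective f] [IsLocallyNoetherian X] [IsLocallyNoetherian Y] (F : X.Modules) (hF : Coh.IsQCoh F) (G : Y.Modules) (hG : Coh.IsCoh G) (φ : G ⟶ (Scheme.Modules.pullback f).obj F) [Mono φ] : Coh.IsCoh (Limits.pullback ((Scheme.Modules.pullbackPushforwardAdjunction f).unit.app F) ((Scheme.Modules.pushforward f).map φ)) := by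
  let adj := Scheme.Modules.pullbackPushforwardAdjunction f
  let P := Scheme.Modules.pullback f
  let η := adj.unit.app F
  let jφ := (Scheme.Modules.pushforward f).map φ
  haveI := hF
  haveI := hG.1
  haveI : (P.obj F).IsQuasicoherent := QCohLib.isQuasicoherent_pullback f F
  haveI : ((Scheme.Modules.pushforward f).obj G).IsQuasicoherent := QCohLib.isQuasicoherent_pushforward f
  haveI : ((Scheme.Modules.pushforward f).obj (P.obj F)).IsQuasicoherent := QCohLib.isQuasicoherent_pushforward f
  haveI : ((𝟭 X.Modules).obj F).IsQuasicoherent := hF
  haveI : ((P ⋙ Scheme.Modules.pushforward f).obj F).IsQuasicoherent := QCohLib.isQuasicoherent_pushforward f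
  haveI hH : (Limits.pullback η jφ).IsQuasicoherent := QCohLib.isQuasicoherent_pullback_limit η jφ
  haveI : P.PreservesHomology := DQC.HTorCoh.preservesHomology_pullback f
  haveI : PreservesFiniteLimits P := P.preservesFiniteLimits_of_preservesHomology
  haveI : Mono jφ := inferInstance
  haveI : Mono (P.map (pullback.fst η jφ)) := inferInstance
  have hw : P.map (pullback.fst η jφ) = (P.map (pullback.snd η jφ) ≫ adj.counit.app G) ≫ φ := by
    have h := congrArg (fun m => P.map m ≫ adj.counit.app (P.obj F)) (pullback.condition (f := η) (g := jφ))
    simp only [Functor.map_comp, Category.assoc] at h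
    erw [adj.left_triangle_components F, Category.comp_id, adj.counit.naturality φ] at h
    simpa using h
  haveI : Mono (P.map (pullback.snd η jφ) ≫ adj.counit.app G) := by
    haveI : Mono ((P.map (pullback.snd η jφ) ≫ adj.counit.app G) ≫ φ) := hw ▸ inferInstance
    exact mono_of_mono _ φ
  haveI : (P.obj (Limits.pullback η jφ)).IsQuasicoherent :=
    QCohLib.isQuasicoherent_pullback f (Limits.pullback η jφ)
  have hc := QCohLib.isCoh_of_mono (P.map (pullback.snd η jφ) ≫ adj.counit.app G) hG this
  exact ⟨hH, FlatDescendFinite.isFiniteType_of_pullback f _ hc.2⟩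
end Groth.Agent.S7502
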