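import Groth.Statements.S7503
import Groth.Agent.GrpdClosed.Pair
-- import your own Groth.Agent.* helpers here

set_option autoImplicit false
universe u
open CategoryTheory CategoryTheory.Limits AlgebraicGeometry
open Grpd

namespace Groth.Agent.S7503

/-- Let (U, R, s, t, c) be a groupoid scheme over S with U the spectrum of a perfect field and let Z be
the reduced closed subscheme of U x_S U whose underlying set is the closure of the image of j = (t,
s). Then (U, Z, pr_0|_Z, pr_1|_Z, pr_02) is a groupoid scheme over S; stated as: there are a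
groupoid scheme G' over S with G'.R reduced and an isomorphism of schemes over S from G'.U to U such
that j' = (t', s') : G'.R -> G'.U x_S G'.U is a closed immersion and the image of j' followed by the
induced isomorphism G'.U x_S G'.U -> U x_S U is the closure of the image of j. (No morphism from (U,
R, s, t, c) to G' is asserted: when R is not reduced, j need not factor through the reduced
subscheme Z.) (A groupoid scheme carries U, R, s, t, c, e, i over S with the groupoid axioms on
T-points; c is defined on the fibre product of s and t and sends a pair (a, b) with s(a) = t(b) to a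
composed with b.) -/
theorem result (S : Scheme.{u}) (G : Grpd.GroupoidScheme S) (k : Type u) [Field k] [PerfectField k] (eU : G.U ≅ Spec (CommRingCat.of k)) : ∃ (G' : Grpd.GroupoidScheme S) (ψ : G'.U ≅ G.U) (hψ : ψ.hom ≫ G.pU = G'.pU), IsReduced G'.R ∧ IsClosedImmersion G'.j ∧ Set.range ⇑(G'.j ≫ pullback.map G'.pU G'.pU G.pU G.pU ψ.hom ψ.hom (𝟙 S) ((Category.comp_id _).trans hψ.symm) ((Category.comp_id _).trans hψ.symm)) = closure (Set.range ⇑G.j) := by
  haveI : IsIso (Groth.Agent.GrpdClosed.jHom G).fU := inferInstanceAs (IsIso (𝟙 G.U))
  obtain ⟨Z, ι, hι, c', hc, e', he, i', hi, hZ, hr⟩ :=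
    Groth.Agent.GrpdClosed.exists_sub_closure (Groth.Agent.GrpdClosed.jHom G) eU
  let G' := Groth.Agent.GrpdClosed.sub (Groth.Agent.GrpdClosed.pair G.pU) ι c' hc e' he i' hi
  have hj : G'.j = ι := pullback.hom_ext (pullback.lift_fst _ _ _) (pullback.lift_snd _ _ _)
  refine ⟨G', Iso.refl _, Category.id_comp _, hZ, ?_, ?_⟩
  · rw [hj]; exact hι
  · have hm : pullback.map G'.pU G'.pU G.pU G.pU (Iso.refl G.U).hom (Iso.refl G.U).hom (𝟙 S)
        ((Category.comp_id _).trans (Category.id_comp _).symm) ((Category.comp_id _).trans (Category.id_comp _).symm) = 𝟙 _ :=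
      pullback.hom_ext ((pullback.lift_fst _ _ _).trans ((Category.comp_id _).trans (Category.id_comp _).symm))
        ((pullback.lift_snd _ _ _).trans ((Category.comp_id _).trans (Category.id_comp _).symm))
    refine Eq.trans ?_ hr
    refine congrArg (fun ψ : Z ⟶ pullback G.pU G.pU => Set.range ⇑ψ) ?_
    exact (congrArg₂ (· ≫ ·) hj hm).trans (Category.comp_id _)

end Groth.Agent.S7503
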