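import Groth.Statements.S7509
import Groth.Agent.GrpdClosed.Image
-- import your own Groth.Agent.* helpers here

set_option autoImplicit false
universe u
open CategoryTheory CategoryTheory.Limits AlgebraicGeometry
open Grpd

namespace Groth.Agent.S7509

/-- Let (U, R, s, t, c) be a groupoid scheme over S with U the spectrum of a field and R quasi-compact
(equivalently s, t quasi-compact), and let Z be the scheme-theoretic image of j = (t, s) : R -> U
x_S U. Then (U, Z, pr_0|_Z, pr_1|_Z, pr_02) is a groupoid scheme over S; stated as: there are a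
groupoid scheme G' over S and a morphism of groupoid schemes φ : (U, R, s, t, c) -> G' which is an
isomorphism on object schemes, such that j' : G'.R -> G'.U x_S G'.U is a closed immersion whose
kernel ideal sheaf equals the kernel ideal sheaf of j followed by the induced isomorphism U x_S U ->
G'.U x_S G'.U (so G'.R is the scheme-theoretic image of j, transported). (A groupoid scheme carries
U, R, s, t, c, e, i over S with the groupoid axioms on T-points; c is defined on the fibre product
of s and t and sends a pair (a, b) with s(a) = t(b) to a composed with b.) -/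
theorem result (S : Scheme.{u}) (G : Grpd.GroupoidScheme S) (k : Type u) [Field k] (eU : G.U ≅ Spec (CommRingCat.of k)) [CompactSpace G.R] : ∃ (G' : Grpd.GroupoidScheme S) (φ : Grpd.GroupoidScheme.Hom G G'), IsIso φ.fU ∧ IsClosedImmersion G'.j ∧ G'.j.ker = (G.j ≫ pullback.map G.pU G.pU G'.pU G'.pU φ.fU φ.fU (𝟙 S) ((Category.comp_id _).trans φ.fU_over.symm) ((Category.comp_id _).trans φ.fU_over.symm)).ker := by
  haveI : G.U.IsSeparated := by
    constructor
    have h : IsSeparated (eU.hom ≫ terminal.from (Spec (CommRingCat.of k))) := inferInstance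
    rwa [terminal.comp_from] at h
  haveI : (pullback G.pU G.pU).IsSeparated := by
    constructor
    have h : IsSeparated (pullback.fst G.pU G.pU ≫ terminal.from G.U) := inferInstance
    rwa [terminal.comp_from] at h
  haveI : QuasiCompact (Groth.Agent.GrpdClosed.jHom G).fR := quasiCompact_of_compactSpace G.j
  haveI : IsIso (Groth.Agent.GrpdClosed.jHom G).fU := inferInstanceAs (IsIso (𝟙 G.U))
  let a := Groth.Agent.GrpdClosed.jHom G
  obtain ⟨c', hc, e', he, i', hi⟩ := Groth.Agent.GrpdClosed.exists_sub_image a eU
  let P := Groth.Agent.GrpdClosed.pair G.pU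
  let G' := Groth.Agent.GrpdClosed.sub P a.fR.imageι c' hc e' he i' hi
  have hq : a.fR.toImage ≫ a.fR.imageι = a.fR := a.fR.toImage_imageι
  let φ : Grpd.GroupoidScheme.Hom G G' :=
    { fU := 𝟙 G.U
      fR := a.fR.toImage
      fU_over := Category.id_comp _
      comm_s := ((Category.assoc _ _ _).symm.trans ((congrArg (· ≫ P.s) hq).trans a.comm_s))
      comm_t := ((Category.assoc _ _ _).symm.trans ((congrArg (· ≫ P.t) hq).trans a.comm_t))
      comm_c := fun {T} α β h => by
        refine (cancel_mono a.fR.imageι).1 ?_
        refine (Category.assoc _ _ _).trans ((congrArg _ hq).trans ((Groth.Agent.GrpdClosed.mul_fR a α β h).trans ?_))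
        refine Eq.trans ?_ (Groth.Agent.GrpdClosed.sub_comp P a.fR.imageι c' hc _ _ _).symm
        exact Groth.Agent.GrpdBasic.mul_congr P ((congrArg (α ≫ ·) hq.symm).trans (Category.assoc _ _ _).symm)
          ((congrArg (β ≫ ·) hq.symm).trans (Category.assoc _ _ _).symm) _ }
  have hj : G'.j = a.fR.imageι := pullback.hom_ext (pullback.lift_fst _ _ _) (pullback.lift_snd _ _ _)
  refine ⟨G', φ, inferInstanceAs (IsIso (𝟙 G.U)), ?_, ?_⟩
  · rw [hj]; exact inferInstanceAs (IsClosedImmersion a.fR.imageι)
  · have hm : pullback.map G.pU G.pU G'.pU G'.pU φ.fU φ.fU (𝟙 S) ((Category.comp_id _).trans φ.fU_over.symm)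
        ((Category.comp_id _).trans φ.fU_over.symm) = 𝟙 _ :=
      pullback.hom_ext ((pullback.lift_fst _ _ _).trans ((Category.comp_id _).trans (Category.id_comp _).symm))
        ((pullback.lift_snd _ _ _).trans ((Category.comp_id _).trans (Category.id_comp _).symm))
    refine (congrArg Scheme.Hom.ker hj).trans ((Scheme.IdealSheafData.ker_subschemeι _).trans ?_)
    exact congrArg Scheme.Hom.ker ((congrArg (G.j ≫ ·) hm).trans (Category.comp_id _)).symm

end Groth.Agent.S7509
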