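import Groth.Statements.S7510
import Groth.Agent.GrpdBasic.Invariant
-- import your own Groth.Agent.* helpers here

set_option autoImplicit false
universe u
open CategoryTheory CategoryTheory.Limits AlgebraicGeometry
open Grpd

namespace Groth.Agent.S7510

/-- Let (U, R, s, t, c, e, i) be a groupoid scheme over S and g : U' -> U a morphism; write h = s ∘ pr_1
: U' x_(g,U,t) R -> U. Let P, Q, R be properties of morphisms of schemes, with P invariant under
composition with isomorphisms, such that (1) R implies Q, (2) Q is stable under base change and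
composition, (3) every morphism f : X -> Y with Q has a largest open W(P, f) of X on which the
restriction of f has P (given here as a function W with these two properties), and (4) for f with Q
and a base change along Y' -> Y with R, the preimage of W(P, f) in X x_Y Y' is W(P, f') for the base
change f'. If s, t have R and g has Q, then there is an open W of U' whose preimage in U' x_(g,U,t)
R equals W(P, h). (The published statement speaks of arbitrary properties of morphisms; this row
asks P to be invariant under composition with isomorphisms, which the proof uses to identify the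
largest opens on the two isomorphic fibre products of h with t and with s.) (A groupoid scheme
carries U, R, s, t, c, e, i over S with the groupoid axioms on T-points; c is defined on the fibre
product of s and t and sends a pair (a, b) with s(a) = t(b) to a composed with b.) -/
theorem result (S : Scheme.{u}) (G : Grpd.GroupoidScheme S) {U' : Scheme.{u}} (g : U' ⟶ G.U) (P Q R : MorphismProperty Scheme.{u}) [P.RespectsIso] (hRQ : R ≤ Q) [Q.IsStableUnderBaseChange] [Q.IsStableUnderComposition] (W : ∀ {X Y : Scheme.{u}} (f : X ⟶ Y), Q f → X.Opens) (hWP : ∀ {X Y : Scheme.{u}} (f : X ⟶ Y) (hf : Q f), P ((W f hf).ι ≫ f)) (hWmax : ∀ {X Y : Scheme.{u}} (f : X ⟶ Y) (hf : Q f) (V : X.Opens), P (V.ι ≫ f) → V ≤ W f hf) (hWbc : ∀ {X Y Y' : Scheme.{u}} (f : X ⟶ Y) (hf : Q f) (b : Y' ⟶ Y), R b → ∀ hf' : Q (pullback.snd f b), pullback.fst f b ⁻¹ᵁ W f hf = W (pullback.snd f b) hf') (hs : R G.s) (ht : R G.t) (hg : Q g) (hh : Q (pullback.snd g G.t ≫ G.s)) : ∃ V : U'.Opens, pullback.fst g G.t ⁻¹ᵁ V = W (pullback.snd g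 G.t ≫ G.s) hh := by
  have hW_iso : ∀ {X X' Y : Scheme.{u}} (φ : X' ⟶ X) [IsIso φ] (f : X ⟶ Y) (hf : Q f)
      (hf' : Q (φ ≫ f)), W (φ ≫ f) hf' = φ ⁻¹ᵁ W f hf := by
    intro X X' Y φ _ f hf hf'
    refine le_antisymm ?_ (hWmax _ hf' _ ?_)
    · intro x hx
      let V : X.Opens := inv φ ⁻¹ᵁ W (φ ≫ f) hf'
      have hV : P (V.ι ≫ f) := by
        have e : V.ι ≫ f = (inv φ ∣_ W (φ ≫ f) hf') ≫ (W (φ ≫ f) hf').ι ≫ φ ≫ f := by
          rw [morphismRestrict_ι_assoc, IsIso.inv_hom_id_assoc]
        rw [e]
        exact (MorphismProperty.cancel_left_of_respectsIso P _ _).2 (hWP _ hf')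
      refine hWmax f hf V hV ?_
      show (inv φ) (φ x) ∈ W (φ ≫ f) hf'
      rw [← Scheme.Hom.comp_apply, IsIso.hom_inv_id]
      exact hx
    · rw [← morphismRestrict_ι_assoc]
      exact (MorphismProperty.cancel_left_of_respectsIso P _ _).2 (hWP f hf)
  have hW_pb : ∀ {P' X Y Y' : Scheme.{u}} {p : P' ⟶ X} {q : P' ⟶ Y'} {f : X ⟶ Y} {b : Y' ⟶ Y},
      IsPullback p q f b → R b → ∀ (hf : Q f) (hq : Q q), p ⁻¹ᵁ W f hf = W q hq := by
    intro P' X Y Y' p q f b hpb hb hf hq
    have hf' : Q (pullback.snd f b) := MorphismProperty.pullback_snd f b hf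
    obtain ⟨φ, hφ, rfl, rfl⟩ : ∃ φ : P' ⟶ pullback f b, IsIso φ ∧ φ ≫ pullback.fst f b = p ∧
        φ ≫ pullback.snd f b = q :=
      ⟨hpb.isoPullback.hom, inferInstance, hpb.isoPullback_hom_fst, hpb.isoPullback_hom_snd⟩
    rw [hW_iso φ _ hf' hq, Scheme.Hom.comp_preimage, hWbc f hf b hb hf']
  let h0 := pullback.snd g G.t ≫ G.s
  have c : pullback.fst h0 G.t ≫ pullback.snd g G.t ≫ G.s = pullback.snd h0 G.t ≫ G.t := pullback.condition
  have c' : (pullback.fst h0 G.t ≫ pullback.snd g G.t) ≫ G.s = pullback.snd h0 G.t ≫ G.t := by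
    rw [Category.assoc]; exact c
  let p2 : pullback h0 G.t ⟶ pullback g G.t :=
    pullback.lift (pullback.fst h0 G.t ≫ pullback.fst g G.t) (GrpdBasic.mul G _ _ c')
      (by rw [GrpdBasic.mul_t, Category.assoc, Category.assoc, pullback.condition])
  have p2s : p2 ≫ h0 = pullback.snd h0 G.t ≫ G.s :=
    (pullback.lift_snd_assoc _ _ _ _).trans (GrpdBasic.mul_s G _ _ _)
  have hc2 : ∀ {T : Scheme.{u}} (x : T ⟶ pullback g G.t) (b : T ⟶ G.R), x ≫ h0 = b ≫ G.s →
      (x ≫ pullback.snd g G.t) ≫ G.s = (b ≫ G.i) ≫ G.t := fun x b hx => by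
    rw [Category.assoc, Category.assoc, G.i_t]; exact hx
  have hpb2 : IsPullback p2 (pullback.snd h0 G.t) h0 G.s := by
    refine IsPullback.of_isLimit (c := PullbackCone.mk p2 (pullback.snd h0 G.t) p2s)
      (PullbackCone.IsLimit.mk _ (fun q => pullback.lift (pullback.lift (q.fst ≫ pullback.fst g G.t)
        (GrpdBasic.mul G _ _ (hc2 q.fst q.snd q.condition))
        (by rw [GrpdBasic.mul_t, Category.assoc, Category.assoc, pullback.condition])) q.snd ?_)
        (fun q => ?_) (fun q => pullback.lift_snd _ _ _) fun q m h₁ h₂ => ?_)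
    · exact (pullback.lift_snd_assoc _ _ _ _).trans
        ((GrpdBasic.mul_s G _ _ _).trans (by rw [Category.assoc, G.i_s]))
    · refine pullback.hom_ext ?_ ?_
      · exact (Category.assoc _ _ _).trans ((congrArg (_ ≫ ·) (pullback.lift_fst _ _ _)).trans
          ((pullback.lift_fst_assoc _ _ _ _).trans (pullback.lift_fst _ _ _)))
      · refine (Category.assoc _ _ _).trans ((congrArg (_ ≫ ·) (pullback.lift_snd _ _ _)).trans ?_)
        rw [GrpdBasic.comp_mul]
        refine (GrpdBasic.mul_congr G
          ((pullback.lift_fst_assoc _ _ _ _).trans (pullback.lift_snd _ _ _)) (pullback.lift_snd _ _ _)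
          _).trans ?_
        exact GrpdBasic.inv_mul_cancel_right G _ _ ((Category.assoc _ _ _).trans q.condition)
    · refine pullback.hom_ext ?_ (h₂.trans (pullback.lift_snd _ _ _).symm)
      rw [pullback.lift_fst]
      refine pullback.hom_ext ?_ ?_
      · rw [pullback.lift_fst, ← h₁, Category.assoc, Category.assoc]
        exact congrArg (m ≫ ·) (pullback.lift_fst _ _ _).symm
      · rw [pullback.lift_snd]
        have hh : ((m ≫ pullback.fst h0 G.t) ≫ pullback.snd g G.t) ≫ G.s =
            (m ≫ pullback.snd h0 G.t) ≫ G.t := by simp only [Category.assoc, c]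
        refine ((GrpdBasic.mul_inv_cancel_right G _ _ hh).symm).trans ?_
        refine GrpdBasic.mul_congr G ?_ (by rw [h₂]) _
        rw [← h₁]
        refine Eq.symm ((Category.assoc _ _ _).trans ((congrArg (m ≫ ·) (pullback.lift_snd _ _ _)).trans ?_))
        rw [GrpdBasic.comp_mul]
        exact GrpdBasic.mul_congr G (Category.assoc _ _ _).symm rfl _
  have hq : Q (pullback.snd h0 G.t) := MorphismProperty.pullback_snd h0 G.t hh
  have key : pullback.fst h0 G.t ⁻¹ᵁ W h0 hh = p2 ⁻¹ᵁ W h0 hh :=
    (hW_pb (IsPullback.of_hasPullback h0 G.t) ht hh hq).trans (hW_pb hpb2 hs hh hq).symm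
  let σ : U' ⟶ pullback g G.t := pullback.lift (𝟙 U') (g ≫ G.e)
    (by rw [Category.id_comp, Category.assoc, G.e_t, Category.comp_id])
  let ψ : pullback g G.t ⟶ pullback h0 G.t := pullback.lift (𝟙 _) (pullback.snd g G.t ≫ G.i)
    (by rw [Category.id_comp, Category.assoc, G.i_t])
  have hψ2 : ψ ≫ p2 = pullback.fst g G.t ≫ σ := by
    refine pullback.hom_ext ?_ ?_
    · exact (Category.assoc _ _ _).trans (((congrArg (ψ ≫ ·) (pullback.lift_fst _ _ _)).trans
        ((pullback.lift_fst_assoc _ _ _ _).trans (Category.id_comp _))).trans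
          ((Category.assoc _ _ _).trans ((congrArg (_ ≫ ·) (pullback.lift_fst _ _ _)).trans
            (Category.comp_id _))).symm)
    · refine (Category.assoc _ _ _).trans (((congrArg (ψ ≫ ·) (pullback.lift_snd _ _ _)).trans ?_).trans
        ((Category.assoc _ _ _).trans (congrArg (_ ≫ ·) (pullback.lift_snd _ _ _))).symm)
      rw [GrpdBasic.comp_mul]
      refine (GrpdBasic.mul_congr G ((pullback.lift_fst_assoc _ _ _ _).trans (Category.id_comp _))
        (pullback.lift_snd _ _ _) _).trans ?_
      rw [GrpdBasic.mul_inv, ← Category.assoc, ← pullback.condition, Category.assoc]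
  refine ⟨σ ⁻¹ᵁ W h0 hh, ?_⟩
  rw [← Scheme.Hom.comp_preimage, ← hψ2, Scheme.Hom.comp_preimage, ← key, ← Scheme.Hom.comp_preimage,
    show ψ ≫ pullback.fst h0 G.t = 𝟙 _ from pullback.lift_fst _ _ _]
  rfl

end Groth.Agent.S7510
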