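import Groth.Statements.S7512
import Groth.Agent.FpqcCrit.Basic
-- import your own Groth.Agent.* helpers here

set_option autoImplicit false
universe w u
open HTop

namespace Groth.Agent.S7512

open CategoryTheory CategoryTheory.Limits AlgebraicGeometry in
/-- Let {f_i : T_i -> T} be a family of flat morphisms of schemes. Assume that for every affine scheme Z
and every morphism h : Z -> T there is a standard fpqc covering of Z (a finite family of flat
morphisms Z_j -> Z with Z_j affine whose images cover Z) refining the family of base changes {T_i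
x_T Z -> Z} (every Z_j -> Z factors through some T_i compatibly with h). Then {f_i : T_i -> T} is an
fpqc covering (in Mathlib's sense). -/
theorem result {T : Scheme.{u}} (E : PreZeroHypercover.{w} T) (hflat : ∀ i, Flat (E.f i)) (href : ∀ (Z : Scheme.{u}) [IsAffine Z] (h : Z ⟶ T), ∃ F : PreZeroHypercover.{0} Z, Finite F.I₀ ∧ (∀ j, IsAffine (F.X j)) ∧ (∀ j, Flat (F.f j)) ∧ (∀ z : Z, ∃ (j : F.I₀) (x : F.X j), F.f j x = z) ∧ HTop.RefinesOver h F E) : E.presieve₀ ∈ Scheme.fpqcPrecoverage T := by
  rw [FpqcCrit.mem_fpqc_iff]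
  refine ⟨FpqcCrit.quasiCompactCover_of_refining E fun U hU => ?_, fun t => ?_, hflat⟩
  · have : IsAffine (U : Scheme.{u}) := hU
    obtain ⟨F, h1, h2, -, h4, h5⟩ := href (U : Scheme.{u}) U.ι
    exact ⟨F, h1, h2, h4, h5⟩
  · obtain ⟨U, hU, htU, -⟩ := exists_isAffineOpen_mem_and_subset (x := t) (U := ⊤) (Set.mem_univ t)
    have : IsAffine (U : Scheme.{u}) := hU
    obtain ⟨F, -, -, -, h4, h5⟩ := href (U : Scheme.{u}) U.ι
    obtain ⟨j, x, hx⟩ := h4 ⟨t, htU⟩
    obtain ⟨i, g, hg⟩ := h5 j
    refine ⟨i, g x, ?_⟩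
    rw [← Scheme.Hom.comp_apply, hg, Scheme.Hom.comp_apply, hx]
    rfl

end Groth.Agent.S7512
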