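import Groth.Statements.S7514
import Mathlib.AlgebraicGeometry.Morphisms.FormallyUnramified
import Mathlib.AlgebraicGeometry.Morphisms.UniversallyInjective
import Mathlib.AlgebraicGeometry.Sites.Fpqc
import Mathlib.FieldTheory.IsAlgClosed.AlgebraicClosure

set_option autoImplicit false
universe u
open CategoryTheory CategoryTheory.Limits AlgebraicGeometry
open Grpd

namespace Groth.Agent.S7514

/-- Let S be a scheme, U a scheme over S and j : R -> U x_S U a pre-relation, with t = pr_0 ∘ j and s =
pr_1 ∘ j. Assume (1) s and t are unramified (formally unramified and locally of finite type), (2)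
for every algebraically closed field k, the map from k-points of R to pairs of k-points of U is
injective with image an equivalence relation, and (3) there are morphisms e : U -> R, i : R -> R and
c : R x_(s,U,t) R -> R such that j ∘ e is the diagonal, j ∘ i is j followed by the flip of the two
factors, and j ∘ c is pr_02 ∘ (j x j) (the arrow c(a, b) has target t(a) and source s(b)). Then j is
an equivalence relation: j is a monomorphism and, for every scheme T, the relation 'there is a
T-point r of R with t ∘ r = a and s ∘ r = b' on T-points a, b of U is an equivalence relation. -/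
theorem result {S U R : Scheme.{u}} (pU : U ⟶ S) (j : R ⟶ pullback pU pU) [FormallyUnramified (j ≫ pullback.fst pU pU)] [LocallyOfFiniteType (j ≫ pullback.fst pU pU)] [FormallyUnramified (j ≫ pullback.snd pU pU)] [LocallyOfFiniteType (j ≫ pullback.snd pU pU)] (h₂ : ∀ (k : Type u) [Field k] [IsAlgClosed k], Function.Injective (fun r : Spec (CommRingCat.of k) ⟶ R => r ≫ j) ∧ Equivalence (fun a b : Spec (CommRingCat.of k) ⟶ U => ∃ r : Spec (CommRingCat.of k) ⟶ R, r ≫ j ≫ pullback.fst pU pU = a ∧ r ≫ j ≫ pullback.snd pU pU = b)) (e : U ⟶ R) (he : e ≫ j = pullback.lift (𝟙 U) (𝟙 U) rfl) (i : R ⟶ R) (hi : i ≫ j = j ≫ (pullbackSymmetry pU pU).hom) (c : pullback (j ≫ pullback.snd pU pU) (j ≫ pullback.fst pU pU) ⟶ R) (hc₁ : c ≫ j ≫ pullback.fst pU pU = pullback.fst (j ≫ pullback.snd pU pU) (j ≫ pullback.fst pU pU) ≫ j ≫ pullback.fst pU pU) (hc₂ : c ≫ j ≫ pullback.snd pU pU = pullback.snd (j ≫ pullback.snd pU pU) (j ≫ pullback.fst pU pU) ≫ j ≫ pullback.snd pU pU) : Mono j ∧ ∀ T : Scheme.{u}, Equivalence (fun a b : T ⟶ U => ∃ r : T ⟶ R,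 r ≫ j ≫ pullback.fst pU pU = a ∧ r ≫ j ≫ pullback.snd pU pU = b) := by
  have : FormallyUnramified j := FormallyUnramified.of_comp j (pullback.fst pU pU)
  have : LocallyOfFiniteType j := locallyOfFiniteType_of_comp j (pullback.fst pU pU)
  have hinj : UniversallyInjective j := ((tfae_universallyInjective (f := j)).out 0 1).2 fun K hK g₁ g₂ hg => by
    let _ := hK
    let K' := AlgebraicClosure K
    let p : Spec (CommRingCat.of K') ⟶ Spec (CommRingCat.of K) :=
      Spec.map (CommRingCat.ofHom (algebraMap K K'))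
    have : Flat p := Flat.SpecMap_iff.2 (RingHom.flat_algebraMap_iff.2 inferInstance)
    have : Surjective p := ⟨fun x => ⟨IsLocalRing.closedPoint K', Subsingleton.elim _ _⟩⟩
    have e : p ≫ g₁ = p ≫ g₂ := (h₂ K').1 (by
      show (p ≫ g₁) ≫ j = (p ≫ g₂) ≫ j
      simp only [Category.assoc]
      exact congrArg (p ≫ ·) hg)
    exact (cancel_epi p).1 e
  have : Surjective (pullback.diagonal j) := (UniversallyInjective.iff_diagonal j).1 hinj
  have : Epi (pullback.diagonal j).base := (TopCat.epi_iff_surjective _).2 (pullback.diagonal j).surjective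
  have : IsIso (pullback.diagonal j) := IsOpenImmersion.isIso _
  refine ⟨(pullback.isIso_diagonal_iff j).1 inferInstance, fun T => ⟨fun a => ?_, ?_, ?_⟩⟩
  · exact ⟨a ≫ e, by rw [Category.assoc, ← Category.assoc e, he, pullback.lift_fst, Category.comp_id],
      by rw [Category.assoc, ← Category.assoc e, he, pullback.lift_snd, Category.comp_id]⟩
  · rintro a b ⟨r, rfl, rfl⟩
    exact ⟨r ≫ i, by rw [Category.assoc, reassoc_of% hi, pullbackSymmetry_hom_comp_fst],
      by rw [Category.assoc, reassoc_of% hi, pullbackSymmetry_hom_comp_snd]⟩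
  · rintro a b b' ⟨r, rfl, rfl⟩ ⟨r', h, rfl⟩
    exact ⟨pullback.lift r r' h.symm ≫ c, by rw [Category.assoc, hc₁, pullback.lift_fst_assoc],
      by rw [Category.assoc, hc₂, pullback.lift_snd_assoc]⟩

end Groth.Agent.S7514
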