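import Groth.Statements.S7517
import Groth.Agent.GrpSchField.ConnComp

set_option autoImplicit false
universe u
open CategoryTheory MonoidalCategory CartesianMonoidalCategory MonObj GrpObj AlgebraicGeometry
open GrpSch

namespace Groth.Agent.S7517

/-- Let G be a group scheme over a field k and Z the irreducible component of G passing through the
identity e (there is exactly one). Then Z is geometrically irreducible over k: for any closed
immersion incl : Z -> G from an irreducible scheme whose image is an irreducible component of G
containing e, the composite Z -> G -> Spec k is geometrically irreducible. (Parts (1) and (2) of the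
source are not stated here.) -/
theorem result (K : Type u) [Field K] (G : Over (Spec (CommRingCat.of K))) [GrpObj G] (Z : Scheme.{u}) (incl : Z ⟶ G.left) [IsClosedImmersion incl] [IrreducibleSpace Z] (hZ : Set.range ⇑incl ∈ irreducibleComponents ↥G.left) (he : η[G].left (IsLocalRing.closedPoint K) ∈ Set.range ⇑incl) : GeometricallyIrreducible (incl ≫ G.hom) := by
  refine ⟨geometrically_iff_of_isClosedUnderIsomorphisms.mpr fun E _ t => ?_⟩
  have hr : Set.range incl = Groth.Agent.GrpSchField.unitComp G := Groth.Agent.GrpSchField.eq_closure_gen_of_mem hZ he
  let m := CategoryTheory.Limits.pullback.map (incl ≫ G.hom) t G.hom t incl (𝟙 _) (𝟙 _)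
    (by simp) (by simp)
  have : MorphismProperty.IsStableUnderComposition @IsClosedImmersion :=
    MorphismProperty.IsMultiplicative.toIsStableUnderComposition
  have hm : IsClosedImmersion m := MorphismProperty.pullbackMap (P := @IsClosedImmersion)
    (show IsClosedImmersion incl from inferInstance) (show IsClosedImmersion (𝟙 _) from inferInstance)
    rfl (Category.id_comp t).symm
  have hrange : Set.range m = (fst G (Over.mk t)).left ⁻¹' Set.range incl := by
    refine (Scheme.Pullback.range_map ..).trans ?_
    simp
  have := Groth.Agent.GrpSchField.isIrreducible_preimage_unitComp (G := G) t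
  rw [← hr, ← hrange] at this
  have : IrreducibleSpace (Set.range m) := (isIrreducible_iff_irreducibleSpace.mp this)
  exact m.isEmbedding.toHomeomorph.irreducibleSpace_iff.mpr this

end Groth.Agent.S7517
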