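import Groth.Statements.S7519
import Groth.Agent.CenterRep.Equalizer
import Groth.Agent.GrpSchField.Subgroup

set_option autoImplicit false
universe u
open CategoryTheory MonoidalCategory CartesianMonoidalCategory MonObj GrpObj AlgebraicGeometry
open GrpSch

namespace Groth.Agent.S7519

/-- Let G be a group scheme locally of finite type over a field k. Then the centre of G is
(representable by) a closed subgroup scheme of G: there are a scheme Z over k and a closed immersion
Z -> G over k such that for every scheme T over k, a T-valued point g of G factors through Z if and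
only if g is central, i.e. for every T' -> T over k and every T'-valued point g' of G, the
restriction of g to T' commutes with g' in the group G(T'). -/
theorem result (K : Type u) [Field K] (G : Over (Spec (CommRingCat.of K))) [GrpObj G] [LocallyOfFiniteType G.hom] : ∃ (Z : Over (Spec (CommRingCat.of K))) (incl : Z ⟶ G), IsClosedImmersion incl.left ∧ ∀ (T : Over (Spec (CommRingCat.of K))) (g : T ⟶ G), (∃ z : T ⟶ Z, z ≫ incl = g) ↔ ∀ (T' : Over (Spec (CommRingCat.of K))) (h : T' ⟶ T) (g' : T' ⟶ G), (h ≫ g) * g' = g' * (h ≫ g) := by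
  have : IsSeparated G.hom := Groth.Agent.GrpSchField.isSeparated_hom
  let a : G ⊗ G ⟶ G := μ[G]
  let b : G ⊗ G ⟶ G := lift (snd G G) (fst G G) ≫ μ[G]
  obtain ⟨Z, inc, hinc, hZ⟩ := Groth.Agent.CenterRep.exists_closed_equalizes
    (t := G.hom) (x := G.hom) (y := G.hom) a.left b.left (a.w.trans b.w.symm)
  refine ⟨Over.mk (inc ≫ G.hom), Over.homMk inc rfl, hinc, fun T g => ?_⟩
  constructor
  · rintro ⟨z, rfl⟩ T' h g'
    have heq := (hZ (z.left ≫ inc)).mp ⟨z.left, rfl⟩
      (lift (h ≫ z ≫ Over.homMk inc rfl) g').left h.left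
      (congrArg CommaMorphism.left (lift_fst (h ≫ z ≫ Over.homMk inc rfl) g'))
    have h1 : lift (h ≫ z ≫ Over.homMk inc rfl) g' ≫ a = lift (h ≫ z ≫ Over.homMk inc rfl) g' ≫ b := by
      ext : 1
      exact heq
    rw [Hom.mul_def, Hom.mul_def]
    simpa [a, b, comp_lift_assoc] using h1
  · intro hg
    suffices hE : Groth.Agent.CenterRep.Equalizes a.left b.left g.left by
      obtain ⟨z, hz⟩ := (hZ g.left).mpr hE
      refine ⟨Over.homMk z ?_, ?_⟩
      · exact (Category.assoc _ _ _).symm.trans ((congrArg (· ≫ G.hom) hz).trans g.w)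
      · ext : 1
        exact hz
    intro W w u hu
    let T' : Over (Spec (CommRingCat.of K)) := Over.mk (u ≫ T.hom)
    let h : T' ⟶ T := Over.homMk u rfl
    let g' : T' ⟶ G := Over.homMk (w ≫ Limits.pullback.snd G.hom G.hom) (by
      show (w ≫ Limits.pullback.snd G.hom G.hom) ≫ G.hom = u ≫ T.hom
      rw [Category.assoc, ← Limits.pullback.condition, ← Category.assoc, hu, Category.assoc,
        Over.w g])
    have h1 : lift (h ≫ g) g' ≫ a = lift (h ≫ g) g' ≫ b := by
      have := hg T' h g'
      rw [Hom.mul_def, Hom.mul_def] at this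
      simpa [a, b, comp_lift_assoc] using this
    have hw : w = (lift (h ≫ g) g').left := by
      apply Limits.pullback.hom_ext
      · exact hu.trans (congrArg CommaMorphism.left (lift_fst (h ≫ g) g')).symm
      · exact (congrArg CommaMorphism.left (lift_snd (h ≫ g) g')).symm
    exact hw ▸ congrArg CommaMorphism.left h1

end Groth.Agent.S7519
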