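import Groth.Statements.S7520
import Groth.Agent.CenterRep.PureClosed
import Groth.Agent.GrpSchField.ConnComp

set_option autoImplicit false
universe u
open CategoryTheory MonoidalCategory CartesianMonoidalCategory MonObj GrpObj AlgebraicGeometry
open GrpSch

namespace Groth.Agent.S7520

open Groth.Agent.GrpSchField in
theorem unit_apply_inv {K : Type u} [Field K] (G : Over (Spec (CommRingCat.of K))) [GrpObj G] :
    ι[G].left (e G) = e G := by
  have h := inv_apply (1 : 𝟙_ _ ⟶ G) (IsLocalRing.closedPoint K)
  rw [inv_one] at h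
  exact (congrArg ι[G].left (one_apply (G := G) _)).symm.trans (h.symm.trans (one_apply (G := G) _))


/-- Let G be a group scheme over a field k. Then there is a closed subgroup scheme G^0 of G, that is a
group scheme G^0 over k with a homomorphism G^0 -> G which is a closed immersion, such that (1) G^0
-> G is moreover flat, (2) its image is the connected component of the identity point, (3) G^0 is
geometrically irreducible over k, and (4) G^0 is quasi-compact. -/
theorem result (K : Type u) [Field K] (G : Over (Spec (CommRingCat.of K))) [GrpObj G] : ∃ (G₀ : Over (Spec (CommRingCat.of K))) (_ : GrpObj G₀) (incl : G₀ ⟶ G) (_ : IsMonHom incl), IsClosedImmersion incl.left ∧ Flat incl.left ∧ Set.range ⇑incl.left = connectedComponent (η[G].left (IsLocalRing.closedPoint K)) ∧ GeometricallyIrreducible G₀.hom ∧ CompactSpace ↥G₀.left := by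
  have hmem : ∀ y : G.left, y ∈ Groth.Agent.GrpSchField.unitComp G ↔
      Groth.Agent.GrpSchField.gen y = Groth.Agent.GrpSchField.gen (Groth.Agent.GrpSchField.e G) :=
    fun y => Groth.Agent.GrpSchField.mem_closure_gen_iff
  obtain ⟨Y, inc, hcl, hflat, hrange, hY⟩ := Groth.Agent.CenterRep.exists_flat_closed_of_generizing
    (Groth.Agent.GrpSchField.unitComp G) isClosed_closure
    (fun x y h hx => (hmem y).mpr
      ((Groth.Agent.GrpSchField.gen_eq_of_specializes h).trans ((hmem x).mp hx)))
  let G₀ : Over (Spec (CommRingCat.of K)) := Over.mk (inc ≫ G.hom)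
  let i : G₀ ⟶ G := Over.homMk inc rfl
  have hlift : ∀ {T : Over (Spec (CommRingCat.of K))} (g : T ⟶ G),
      Set.range g.left ⊆ Groth.Agent.GrpSchField.unitComp G → ∃ z : T ⟶ G₀, z ≫ i = g := by
    intro T g hg
    obtain ⟨z, hz⟩ := (hY g.left).mpr hg
    refine ⟨Over.homMk z ?_, Over.OverMorphism.ext hz⟩
    exact (Category.assoc _ _ _).symm.trans ((congrArg (· ≫ G.hom) hz).trans g.w)
  have : Mono i := by
    have : Mono ((Over.forget _).map i) := inferInstanceAs (Mono inc)
    exact (Over.forget _).mono_of_mono_map this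
  obtain ⟨one₀, hone⟩ := hlift η[G] (by
    rintro _ ⟨p, rfl⟩
    obtain rfl := Subsingleton.elim (α := Spec (CommRingCat.of K)) p (IsLocalRing.closedPoint K)
    exact Groth.Agent.GrpSchField.e_mem_unitComp)
  obtain ⟨mul₀, hmul⟩ := hlift ((i ⊗ₘ i) ≫ μ[G]) (by
    rintro _ ⟨p, rfl⟩
    rw [Groth.Agent.GrpSchField.comp_left_apply]
    have hp : (i ⊗ₘ i).left p ∈ (fst G G).left ⁻¹' Groth.Agent.GrpSchField.unitComp G ∩
        (snd G G).left ⁻¹' Groth.Agent.GrpSchField.unitComp G := by
      rw [← hrange]
      exact (Groth.Agent.GrpSchField.range_tensorHom i i).le ⟨p, rfl⟩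
    exact (hmem _).mpr ((Groth.Agent.GrpSchField.gen_mul _ hp.2).trans ((hmem _).mp hp.1)))
  obtain ⟨inv₀, hinv⟩ := hlift (i ≫ ι[G]) (by
    rintro _ ⟨p, rfl⟩
    rw [Groth.Agent.GrpSchField.comp_left_apply]
    have hp : i.left p ∈ Groth.Agent.GrpSchField.unitComp G := hrange ▸ ⟨p, rfl⟩
    rw [← Groth.Agent.GrpSchField.connectedComponent_eq_unitComp] at hp ⊢
    exact (isConnected_connectedComponent.image _ ι[G].left.continuous.continuousOn).subset_connectedComponent
      ⟨_, mem_connectedComponent, unit_apply_inv G⟩ ⟨_, hp, rfl⟩)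
  let hM : MonObj G₀ :=
    { one := one₀
      mul := mul₀
      one_mul := by
        rw [← cancel_mono i, Category.assoc, hmul, ← Category.assoc, ← tensorHom_id,
          tensorHom_comp_tensorHom, hone, Category.id_comp, MonoidalCategory.tensorHom_def',
          Category.assoc, MonObj.one_mul, leftUnitor_naturality]
      mul_one := by
        rw [← cancel_mono i, Category.assoc, hmul, ← Category.assoc, ← id_tensorHom,
          tensorHom_comp_tensorHom, hone, Category.id_comp, MonoidalCategory.tensorHom_def,
          Category.assoc, MonObj.mul_one, rightUnitor_naturality]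
      mul_assoc := by
        rw [← cancel_mono i]
        simp only [Category.assoc, hmul]
        rw [← Category.assoc, ← tensorHom_id, tensorHom_comp_tensorHom, hmul, Category.id_comp,
          ← Category.assoc (G₀ ◁ mul₀), ← id_tensorHom, tensorHom_comp_tensorHom, hmul,
          Category.id_comp]
        have h1 : (((i ⊗ₘ i) ≫ μ[G]) ⊗ₘ i) = ((i ⊗ₘ i) ⊗ₘ i) ≫ μ[G] ▷ G := by
          rw [← tensorHom_id, tensorHom_comp_tensorHom, Category.comp_id]
        have h2 : (i ⊗ₘ ((i ⊗ₘ i) ≫ μ[G])) = (i ⊗ₘ (i ⊗ₘ i)) ≫ G ◁ μ[G] := by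
          rw [← id_tensorHom, tensorHom_comp_tensorHom, Category.comp_id]
        rw [h1, h2, Category.assoc, MonObj.mul_assoc, Category.assoc, ← associator_naturality_assoc] }
  let hG : GrpObj G₀ :=
    { inv := inv₀
      left_inv := by
        show lift inv₀ (𝟙 G₀) ≫ mul₀ = toUnit G₀ ≫ one₀
        rw [← cancel_mono i, Category.assoc, hmul, lift_map_assoc, hinv, Category.id_comp,
          Category.assoc, hone]
        conv_lhs => arg 1; arg 2; rw [← Category.comp_id i]
        rw [← comp_lift_assoc, GrpObj.left_inv, ← Category.assoc, comp_toUnit]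
      right_inv := by
        show lift (𝟙 G₀) inv₀ ≫ mul₀ = toUnit G₀ ≫ one₀
        rw [← cancel_mono i, Category.assoc, hmul, lift_map_assoc, hinv, Category.id_comp,
          Category.assoc, hone]
        conv_lhs => arg 1; arg 1; rw [← Category.comp_id i]
        rw [← comp_lift_assoc, GrpObj.right_inv, ← Category.assoc, comp_toUnit] }
  refine ⟨G₀, hG, i, ⟨hone, hmul⟩, hcl, hflat,
    hrange.trans (Groth.Agent.GrpSchField.connectedComponent_eq_unitComp G).symm, ?_, ?_⟩
  · refine ⟨geometrically_iff_of_isClosedUnderIsomorphisms.mpr fun E _ t => ?_⟩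
    let m := CategoryTheory.Limits.pullback.map (inc ≫ G.hom) t G.hom t inc (𝟙 _) (𝟙 _)
      (by simp) (by simp)
    have : MorphismProperty.IsStableUnderComposition @IsClosedImmersion :=
      MorphismProperty.IsMultiplicative.toIsStableUnderComposition
    have hm : IsClosedImmersion m := MorphismProperty.pullbackMap (P := @IsClosedImmersion)
      hcl (show IsClosedImmersion (𝟙 _) from inferInstance) rfl (Category.id_comp t).symm
    have hm' : Set.range m = (fst G (Over.mk t)).left ⁻¹' Set.range inc := by
      refine (Scheme.Pullback.range_map ..).trans ?_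
      simp
    have := Groth.Agent.GrpSchField.isIrreducible_preimage_unitComp (G := G) t
    rw [← hrange, ← hm'] at this
    have : IrreducibleSpace (Set.range m) := isIrreducible_iff_irreducibleSpace.mp this
    exact m.isEmbedding.toHomeomorph.irreducibleSpace_iff.mpr this
  · exact ⟨inc.isEmbedding.isCompact_iff.mpr (by
      rw [Set.image_univ, hrange]
      exact Groth.Agent.GrpSchField.isCompact_unitComp G)⟩

end Groth.Agent.S7520
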