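import Groth.Statements.S7521
import Groth.Agent.StableDescent.FiniteCover
import Groth.Agent.InvPow.Avoidance
-- import your own Groth.Agent.* helpers here

set_option autoImplicit false
open CategoryTheory CategoryTheory.Limits AlgebraicGeometry
universe u
open Desc

namespace Groth.Agent.S7521

/-- Let p : X -> Y be a surjective finite locally free morphism and V a scheme over X which has an
invertible module ample relative to V -> X. Then every descent datum on V relative to p is
effective. (A quasi-projective morphism V -> X, in particular a projective one, carries such a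
module.) (Descent data are taken in functor-of-points form.) -/
theorem result {X Y : Scheme.{u}} (p : X ⟶ Y) [Surjective p] [IsFinite p] [Flat p] [LocallyOfFinitePresentation p] (D : Desc.SchDD p) (L : D.obj.left.Modules) (hL : RelAmple.IsRelAmple D.obj.hom L) : ∃ W : Over Y, Nonempty ((Desc.toDD p).obj W ≅ D) := by
  refine Groth.Agent.StableDescent.exists_iso_of_finite D fun x => ?_
  obtain ⟨S₀, hS₀, hx₀, -⟩ := exists_isAffineOpen_mem_and_subset (x := p (D.obj.hom x)) (U := ⊤) trivial
  let W := D.obj.hom ⁻¹ᵁ (p ⁻¹ᵁ S₀)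
  have hamp := hL.2 ⟨p ⁻¹ᵁ S₀, hS₀.preimage p⟩
  obtain ⟨n, -, s, hs, -, hsa⟩ := Groth.Agent.InvPow.exists_locus_finite hamp
    (W.ι ⁻¹' (Groth.Agent.StableDescent.act D '' (pullback.fst (D.obj.hom ≫ p) p ⁻¹' {x})))
    ((Groth.Agent.StableDescent.finite_orbit D x).preimage W.ι.isOpenEmbedding.injective.injOn) ⊤ (Set.subset_univ _)
  refine ⟨W.ι ''ᵁ _, hsa.image_of_isOpenImmersion W.ι, fun z hz => ?_⟩
  have hzW : Groth.Agent.StableDescent.act D z ∈ W := by
    show p (D.obj.hom (Groth.Agent.StableDescent.act D z)) ∈ S₀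
    rw [Groth.Agent.StableDescent.base_act, hz]
    exact hx₀
  exact ⟨⟨_, hzW⟩, hs ⟨z, hz, rfl⟩, rfl⟩

end Groth.Agent.S7521
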