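import Groth.Statements.S7522
-- import your own Groth.Agent.* helpers here

set_option autoImplicit false
universe u
open CategoryTheory CategoryTheory.Limits AlgebraicGeometry
open Grpd

namespace Groth.Agent.S7522

/-- Let S be a scheme, U a scheme over S and j : R -> U x_S U a pre-equivalence relation, that is a
morphism such that for every scheme T the image of the T-points of R in pairs of T-points of U is an
equivalence relation; write t = pr_0 ∘ j and s = pr_1 ∘ j. Then the relation on the points of U in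
which x ∼ y when some point r of R has t(r) = x and s(r) = y is an equivalence relation. -/
theorem result {S U R : Scheme.{u}} (pU : U ⟶ S) (j : R ⟶ pullback pU pU) (hj : ∀ T : Scheme.{u}, Equivalence (fun a b : T ⟶ U => ∃ r : T ⟶ R, r ≫ j ≫ pullback.fst pU pU = a ∧ r ≫ j ≫ pullback.snd pU pU = b)) : Equivalence (fun x y : ↥U => ∃ r : R, (j ≫ pullback.fst pU pU) r = x ∧ (j ≫ pullback.snd pU pU) r = y) := by
  refine ⟨fun x => ?_, fun {x y} ⟨r, h₁, h₂⟩ => ?_, fun {x y z} ⟨r, h₁, h₂⟩ ⟨r', h₁', h₂'⟩ => ?_⟩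
  · obtain ⟨e, he₁, he₂⟩ := (hj U).refl (𝟙 U)
    exact ⟨e x, by rw [← Scheme.Hom.comp_apply, he₁]; rfl, by rw [← Scheme.Hom.comp_apply, he₂]; rfl⟩
  · obtain ⟨i, hi₁, hi₂⟩ := (hj R).symm
      (show ∃ r : R ⟶ R, r ≫ j ≫ pullback.fst pU pU = j ≫ pullback.fst pU pU ∧
        r ≫ j ≫ pullback.snd pU pU = j ≫ pullback.snd pU pU from
        ⟨𝟙 R, Category.id_comp _, Category.id_comp _⟩)
    exact ⟨i r, by rw [← Scheme.Hom.comp_apply, hi₁, h₂], by rw [← Scheme.Hom.comp_apply, hi₂, h₁]⟩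
  · obtain ⟨w, hw₁, hw₂⟩ := Scheme.Pullback.exists_preimage_pullback
      (f := j ≫ pullback.snd pU pU) (g := j ≫ pullback.fst pU pU) r r' (h₂.trans h₁'.symm)
    obtain ⟨c, hc₁, hc₂⟩ := (hj _).trans
      (show ∃ q, q ≫ j ≫ pullback.fst pU pU = _ ∧ q ≫ j ≫ pullback.snd pU pU = _ from
        ⟨pullback.fst (j ≫ pullback.snd pU pU) (j ≫ pullback.fst pU pU), rfl, rfl⟩)
      (show ∃ q, q ≫ j ≫ pullback.fst pU pU = _ ∧ q ≫ j ≫ pullback.snd pU pU = _ from
        ⟨pullback.snd (j ≫ pullback.snd pU pU) (j ≫ pullback.fst pU pU), pullback.condition.symm, rfl⟩)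
    refine ⟨c w, ?_, ?_⟩
    · rw [← Scheme.Hom.comp_apply, hc₁, Scheme.Hom.comp_apply, hw₁, h₁]
    · rw [← Scheme.Hom.comp_apply, hc₂, Scheme.Hom.comp_apply, hw₂, h₂']

end Groth.Agent.S7522
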