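import Groth.Statements.S7527
import Groth.Agent.SpecSp.Constr

open Set Filter Topology TopologicalSpace Groth.Agent.SpecSp

set_option autoImplicit false
universe u
open SpecSp

namespace Groth.Agent.S7527

/-- Let X be a spectral space and x, y ∈ X. Then either there is a third point specializing to both x
and y, or there are disjoint open neighbourhoods of x and of y. -/
theorem result {X : Type u} [TopologicalSpace X] [SpectralSpace X] (x y : X) :
    (∃ z : X, z ⤳ x ∧ z ⤳ y) ∨
    (∃ U V : Set X, IsOpen U ∧ IsOpen V ∧ x ∈ U ∧ y ∈ V ∧ Disjoint U V) := by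
  by_contra h
  push Not at h
  let N := fun z : X => {U : Set X // IsOpen U ∧ IsCompact U ∧ z ∈ U}
  obtain ⟨z, hz⟩ := nonempty_iInter_of_isClosed_cons (fun p : N x × N y => p.1.1 ∩ p.2.1)
    (fun p q => by
      obtain ⟨a, ha1, ha2⟩ := directed_compactOpen_nhds x p.1 q.1
      obtain ⟨b, hb1, hb2⟩ := directed_compactOpen_nhds y p.2 q.2
      exact ⟨(a, b), inter_subset_inter ha1 hb1, inter_subset_inter ha2 hb2⟩)
    (fun p => not_disjoint_iff_nonempty_inter.1
      (h.2 p.1.1 p.2.1 p.1.2.1 p.2.2.1 p.1.2.2.2 p.2.2.2.2))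
    (fun p => (isClopen_cons (p.1.2.1.inter p.2.2.1)
      (p.1.2.2.1.inter_of_isOpen p.2.2.2.1 p.1.2.1 p.2.2.1)).1)
  simp only [mem_iInter] at hz
  refine h.1 z (specializes_of_forall_compactOpen fun U ho hc hx => ?_)
    (specializes_of_forall_compactOpen fun U ho hc hy => ?_)
  · exact (hz (⟨U, ho, hc, hx⟩, ⟨univ, isOpen_univ, isCompact_univ, mem_univ y⟩)).1
  · exact (hz (⟨univ, isOpen_univ, isCompact_univ, mem_univ x⟩, ⟨U, ho, hc, hy⟩)).2

end Groth.Agent.S7527
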