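import Groth.Statements.S7528
import Groth.Agent.SpecSp.Constr

open Set Filter Topology TopologicalSpace Groth.Agent.SpecSp

set_option autoImplicit false
universe u
open SpecSp

namespace Groth.Agent.S7528

/-- For a spectral space X the following are equivalent: (1) X is profinite, i.e. quasi-compact,
Hausdorff and totally disconnected (quasi-compactness being automatic); (2) X is Hausdorff; (3) X is
totally disconnected; (4) every quasi-compact open subset is closed; (5) there are no nontrivial
specializations between points; (6) every point is closed; (7) every point is the generic point of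
an irreducible component; (8) the constructible topology coincides with the topology of X. -/
theorem result (X : Type u) [tX : TopologicalSpace X] [SpectralSpace X] :
    List.TFAE [
      T2Space X ∧ TotallyDisconnectedSpace X,
      T2Space X,
      TotallyDisconnectedSpace X,
      ∀ U : Set X, IsOpen U → IsCompact U → IsClosed U,
      ∀ x y : X, x ⤳ y → x = y,
      ∀ x : X, IsClosed ({x} : Set X),
      ∀ x : X, closure ({x} : Set X) ∈ irreducibleComponents X,
      constructibleTopology X = tX] := by
  tfae_have 1 → 2 := And.left
  tfae_have 1 → 3 := And.right
  tfae_have 2 → 6 := fun h x => isClosed_singleton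
  tfae_have 3 → 6 := fun h x => by
    have hy : closure ({x} : Set X) = {x} :=
      ((isPreconnected_singleton.closure).subsingleton.eq_singleton_of_mem (subset_closure rfl))
    exact hy ▸ isClosed_closure
  tfae_have 6 → 5 := fun h x y hxy => (hxy.mem_closed (h x) rfl).symm
  tfae_have 5 → 7 := fun h x => by
    refine ⟨isIrreducible_singleton.closure, fun Z hZ hle => ?_⟩
    obtain ⟨η, hη⟩ := QuasiSober.sober hZ.closure isClosed_closure
    obtain rfl : η = x := h _ _ (hη.specializes (subset_closure (hle (subset_closure rfl))))
    exact subset_closure.trans hη.def.ge
  tfae_have 7 → 5 := fun h x y hxy => by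
    have hle : closure ({y} : Set X) ⊆ closure {x} := hxy.closure_subset
    have := (h y).2 isIrreducible_singleton.closure hle
    exact (hxy.antisymm (specializes_iff_closure_subset.2 this)).eq
  tfae_have 5 → 4 := fun h U ho hc => by
    refine isClosed_of_stableUnderSpecialization (isClopen_cons ho hc).1 fun x y hxy hx => ?_
    exact h x y hxy ▸ hx
  tfae_have 4 → 8 := fun h => by
    refine le_antisymm cons_le (le_generateFrom ?_)
    rintro s (⟨ho, hc⟩ | ⟨hcl, hc⟩)
    · exact ho
    · exact isClosed_compl_iff.1 (h sᶜ hcl.isOpen_compl hc)
  tfae_have 8 → 1 := fun h => by
    have h1 := t2_cons (X := X)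
    have h2 := totallySeparated_cons (X := X)
    rw [h] at h1 h2
    exact ⟨h1, inferInstance⟩
  tfae_finish

end Groth.Agent.S7528
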