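import Groth.Statements.S7529
import Groth.Agent.SpecSp.Constr

open Set Filter Topology TopologicalSpace Groth.Agent.SpecSp

set_option autoImplicit false
universe u
open SpecSp

namespace Groth.Agent.S7529

/-- The product X × Y of two spectral spaces X and Y is a spectral space. -/
theorem result (X Y : Type u) [TopologicalSpace X] [TopologicalSpace Y]
    [SpectralSpace X] [SpectralSpace Y] : SpectralSpace (X × Y) := by
  have hb : IsTopologicalBasis (range fun p : {U : Set X // IsOpen U ∧ IsCompact U} ×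
      {V : Set Y // IsOpen V ∧ IsCompact V} => p.1.1 ×ˢ p.2.1) := by
    convert (PrespectralSpace.isTopologicalBasis (X := X)).prod
      (PrespectralSpace.isTopologicalBasis (X := Y)) using 1
    ext s
    simp [Set.image2, and_assoc]
  have : PrespectralSpace (X × Y) := .of_isTopologicalBasis' hb fun p => p.1.2.2.prod p.2.2.2
  have : QuasiSeparatedSpace (X × Y) := .of_isTopologicalBasis hb fun p q => by
    rw [prod_inter_prod]
    exact (p.1.2.2.inter_of_isOpen q.1.2.2 p.1.2.1 q.1.2.1).prod
      (p.2.2.2.inter_of_isOpen q.2.2.2 p.2.2.1 q.2.2.1)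
  have : QuasiSober (X × Y) := by
    refine ⟨fun {Z} hZ hZc => ?_⟩
    obtain ⟨a, ha⟩ := QuasiSober.sober (hZ.image Prod.fst continuous_fst.continuousOn).closure isClosed_closure
    obtain ⟨b, hb'⟩ := QuasiSober.sober (hZ.image Prod.snd continuous_snd.continuousOn).closure isClosed_closure
    refine ⟨(a, b), isGenericPoint_iff_specializes.2 fun y => ⟨fun h => ?_, fun h => ?_⟩⟩
    · refine h.mem_closed hZc ?_
      rw [← hZc.closure_eq, mem_closure_iff]
      intro O hO hab
      obtain ⟨U, V, hU, hV, haU, hbV, hsub⟩ := isOpen_prod_iff.1 hO a b hab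
      obtain ⟨_, hu, z, hz, rfl⟩ := mem_closure_iff.1 ha.mem U hU haU
      obtain ⟨_, hv, w, hw, rfl⟩ := mem_closure_iff.1 hb'.mem V hV hbV
      obtain ⟨q, hqZ, hq1, hq2⟩ := hZ.2 (Prod.fst ⁻¹' U) (Prod.snd ⁻¹' V) (hU.preimage continuous_fst)
        (hV.preimage continuous_snd) ⟨z, hz, hu⟩ ⟨w, hw, hv⟩
      exact ⟨q, hsub ⟨hq1, hq2⟩, hqZ⟩
    · exact (ha.specializes (subset_closure ⟨y, h, rfl⟩)).prod
        (hb'.specializes (subset_closure ⟨y, h, rfl⟩))
  exact { }

end Groth.Agent.S7529
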