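import Groth.Statements.S7530
import Groth.Agent.SpecSp.Constr

open Set Filter Topology TopologicalSpace Groth.Agent.SpecSp

set_option autoImplicit false
universe u
open SpecSp

namespace Groth.Agent.S7530

/-- Let f : X → Y be a map of spectral spaces which is spectral and bijective, and assume that
generalizations lift along f or that specializations lift along f. Then f is a homeomorphism. -/
theorem result {X Y : Type u} [TopologicalSpace X] [TopologicalSpace Y]
    [SpectralSpace X] [SpectralSpace Y] (f : X → Y) (hf : IsSpectralMap f) (hb : Function.Bijective f)
    (hlift : GeneralizingMap f ∨ SpecializingMap f) :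
    IsHomeomorph f := by
  have himg : ∀ U : Set X, IsOpen[constructibleTopology X] U →
      IsOpen[constructibleTopology Y] (f '' U) := fun U hU => by
    have hcl := isClosed_cons_image hf (@IsOpen.isClosed_compl X (constructibleTopology X) _ hU)
    rw [image_compl_eq hb] at hcl
    exact (@isClosed_compl_iff Y (constructibleTopology Y) _).1 hcl
  rcases hlift with hg | hs
  · refine ⟨hf.continuous, fun U hU => ?_, hb⟩
    exact isOpen_of_stableUnderGeneralization (himg U (isOpen_cons hU))
      (hU.stableUnderGeneralization.image hg)
  · have hclm : IsClosedMap f := fun C hC => isClosed_of_stableUnderSpecialization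
      (isClosed_cons_image hf (isClosed_cons hC)) (hC.stableUnderSpecialization.image hs)
    refine ⟨hf.continuous, fun U hU => ?_, hb⟩
    have := hclm Uᶜ hU.isClosed_compl
    rwa [image_compl_eq hb, isClosed_compl_iff] at this

end Groth.Agent.S7530
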