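import Groth.Statements.S7538
import Groth.Agent.SpecSp.Limit

open Set Filter Topology TopologicalSpace CategoryTheory Limits Groth.Agent.SpecSp

set_option autoImplicit false
universe u
open CategoryTheory CategoryTheory.Limits
open SpecSp

namespace Groth.Agent.S7538

/-- Let j ↦ X_j be a cofiltered diagram of spectral spaces with spectral transition maps f_a and X its
limit with projections p_j. (1) Any quasi-compact open U ⊆ X is p_i⁻¹(U_i) for some i and some
quasi-compact open U_i ⊆ X_i. (2) If U_i ⊆ X_i and U_j ⊆ X_j are quasi-compact opens with p_i⁻¹(U_i)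
⊆ p_j⁻¹(U_j), there are k and a : k → i, b : k → j with f_a⁻¹(U_i) ⊆ f_b⁻¹(U_j). (3) If U_i and
finitely many U_{l,i} are quasi-compact opens of X_i with p_i⁻¹(U_i) = ⋃_l p_i⁻¹(U_{l,i}), then
f_a⁻¹(U_i) = ⋃_l f_a⁻¹(U_{l,i}) for some a : j → i. (4) The same with intersections. -/
theorem result {J : Type u} [SmallCategory J] [IsCofiltered J] (F : J ⥤ TopCat.{u})
    (hF : ∀ j, SpectralSpace (F.obj j))
    (hFm : ∀ {i j : J} (a : i ⟶ j), IsSpectralMap (F.map a : F.obj i → F.obj j))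
    (c : Cone F) (hc : IsLimit c) :
    (∀ U : Set c.pt, IsOpen U → IsCompact U →
      ∃ (i : J) (Ui : Set (F.obj i)), IsOpen Ui ∧ IsCompact Ui ∧ c.π.app i ⁻¹' Ui = U) ∧
    (∀ (i j : J) (Ui : Set (F.obj i)) (Uj : Set (F.obj j)),
      IsOpen Ui → IsCompact Ui → IsOpen Uj → IsCompact Uj →
      c.π.app i ⁻¹' Ui ⊆ c.π.app j ⁻¹' Uj →
      ∃ (k : J) (a : k ⟶ i) (b : k ⟶ j), F.map a ⁻¹' Ui ⊆ F.map b ⁻¹' Uj) ∧
    (∀ (i : J) (n : ℕ) (Ui : Set (F.obj i)) (V : Fin n → Set (F.obj i)),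
      IsOpen Ui → IsCompact Ui → (∀ l, IsOpen (V l) ∧ IsCompact (V l)) →
      (c.π.app i ⁻¹' Ui = ⋃ l, c.π.app i ⁻¹' V l →
        ∃ (j : J) (a : j ⟶ i), F.map a ⁻¹' Ui = ⋃ l, F.map a ⁻¹' V l) ∧
      (c.π.app i ⁻¹' Ui = ⋂ l, c.π.app i ⁻¹' V l →
        ∃ (j : J) (a : j ⟶ i), F.map a ⁻¹' Ui = ⋂ l, F.map a ⁻¹' V l)) := by
  have w : ∀ {k i : J} (a : k ⟶ i) (x : c.pt), F.map a (c.π.app k x) = c.π.app i x := fun a x => by
    rw [← ConcreteCategory.comp_apply, c.w]
  have hcl : ∀ (i : J) (U : Set (F.obj i)), IsOpen U → IsCompact U →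
      @IsClopen _ (constructibleTopology (F.obj i)) U := fun i U h1 h2 =>
    have := hF i; isClopen_cons h1 h2
  have key : ∀ (k : J) (A B : Set (F.obj k)), IsClosed[constructibleTopology (F.obj k)] A →
      IsOpen[constructibleTopology (F.obj k)] B → c.π.app k ⁻¹' A ⊆ c.π.app k ⁻¹' B →
      ∃ (j : J) (a : j ⟶ k), F.map a ⁻¹' A ⊆ F.map a ⁻¹' B := fun k A B hA hB h => by
    obtain ⟨j, a, ha⟩ := exists_preimage_eq_empty hF @hFm hc (C := A \ B)
      (@IsClosed.sdiff _ _ _ (constructibleTopology (F.obj k)) hA hB)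
      (eq_empty_of_forall_notMem fun x hx => hx.2 (h hx.1))
    exact ⟨j, a, fun x hx => by_contra fun hx' => ha.le ⟨hx, hx'⟩⟩
  have keyEq : ∀ (k : J) (A B : Set (F.obj k)), @IsClopen _ (constructibleTopology (F.obj k)) A →
      @IsClopen _ (constructibleTopology (F.obj k)) B → c.π.app k ⁻¹' A = c.π.app k ⁻¹' B →
      ∃ (j : J) (a : j ⟶ k), F.map a ⁻¹' A = F.map a ⁻¹' B := fun k A B hA hB h => by
    obtain ⟨j, a, ha⟩ := exists_preimage_eq_empty hF @hFm hc (C := A \ B ∪ B \ A)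
      (@IsClosed.union _ _ _ (constructibleTopology (F.obj k))
        (@IsClosed.sdiff _ _ _ (constructibleTopology (F.obj k)) hA.1 hB.2)
        (@IsClosed.sdiff _ _ _ (constructibleTopology (F.obj k)) hB.1 hA.2))
      (eq_empty_of_forall_notMem fun x hx =>
        hx.elim (fun hx => hx.2 (h.le hx.1)) (fun hx => hx.2 (h.ge hx.1)))
    exact ⟨j, a, Set.ext fun x =>
      ⟨fun hx => by_contra fun hx' => ha.le (Or.inl ⟨hx, hx'⟩),
        fun hx => by_contra fun hx' => ha.le (Or.inr ⟨hx, hx'⟩)⟩⟩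
  refine ⟨exists_eq_preimage_of_isOpen_isCompact hF @hFm hc, ?_, ?_⟩
  · intro i j Ui Uj h1 h2 h3 h4 h
    let k := IsCofiltered.min i j
    let a : k ⟶ i := IsCofiltered.minToLeft i j
    let b : k ⟶ j := IsCofiltered.minToRight i j
    obtain ⟨l, d, hd⟩ := key k _ _ (hcl k _ (h1.preimage (hFm a).continuous) (h2.preimage_of_isOpen (hFm a) h1)).1
      (hcl k _ (h3.preimage (hFm b).continuous) (h4.preimage_of_isOpen (hFm b) h3)).2
      (fun x hx => by
        simp only [mem_preimage, w] at hx ⊢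
        exact h hx)
    refine ⟨l, d ≫ a, d ≫ b, fun x hx => ?_⟩
    simp only [mem_preimage, F.map_comp, ConcreteCategory.comp_apply] at hx ⊢
    exact hd hx
  · intro i n Ui V h1 h2 hV
    have hVcl : ∀ l, @IsClopen _ (constructibleTopology (F.obj i)) (V l) := fun l => hcl i _ (hV l).1 (hV l).2
    refine ⟨fun h => ?_, fun h => ?_⟩
    · obtain ⟨j, a, ha⟩ := keyEq i Ui (⋃ l, V l) (hcl i _ h1 h2)
        (@isClopen_iUnion_of_finite _ (constructibleTopology (F.obj i)) _ _ _ hVcl) (by rw [h, preimage_iUnion])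
      exact ⟨j, a, by rw [ha, preimage_iUnion]⟩
    · obtain ⟨j, a, ha⟩ := keyEq i Ui (⋂ l, V l) (hcl i _ h1 h2)
        (@isClopen_iInter_of_finite _ (constructibleTopology (F.obj i)) _ _ _ hVcl) (by rw [h, preimage_iInter])
      exact ⟨j, a, by rw [ha, preimage_iInter]⟩

end Groth.Agent.S7538
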