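import Groth.Statements.S7546
-- import your own Groth.Agent.* helpers here

set_option autoImplicit false
universe u
open ConstrTop

namespace Groth.Agent.S7546

/-- Let X be a topological space, Z ⊆ X irreducible and E ⊆ X a finite union of locally closed subsets
(for instance a constructible set). Then E ∩ Z is dense in Z if and only if E ∩ Z contains a subset
of the form U ∩ Z, U open in X, which is dense in Z. If moreover ξ ∈ Z is a generic point of Z,
these conditions are equivalent to ξ ∈ E. -/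
theorem result {X : Type u} [TopologicalSpace X] (Z : Set X) (hZ : IsIrreducible Z)
    {n : ℕ} (L : Fin n → Set X) (hL : ∀ i, IsLocallyClosed (L i)) (E : Set X) (hE : E = ⋃ i, L i) :
    (Z ⊆ closure (E ∩ Z) ↔ ∃ U : Set X, IsOpen U ∧ U ∩ Z ⊆ E ∧ Z ⊆ closure (U ∩ Z)) ∧
    (∀ ξ : X, ξ ∈ Z → Z ⊆ closure {ξ} → (Z ⊆ closure (E ∩ Z) ↔ ξ ∈ E)) := by
  subst hE
  have hfwd : Z ⊆ closure ((⋃ i, L i) ∩ Z) → ∃ U : Set X, IsOpen U ∧ U ∩ Z ⊆ (⋃ i, L i) ∧ Z ⊆ closure (U ∩ Z) := by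
    classical
    intro h
    obtain ⟨z, hz, hZz⟩ := isIrreducible_iff_sUnion_isClosed.mp hZ
      (Finset.univ.image fun i => closure (L i ∩ Z))
      (fun z hz => by obtain ⟨i, -, rfl⟩ := Finset.mem_image.mp hz; exact isClosed_closure)
      (by
        refine h.trans ?_
        rw [Set.iUnion_inter, closure_iUnion_of_finite]
        refine Set.iUnion_subset fun i x hx => ?_
        exact ⟨_, Finset.mem_image.mpr ⟨i, Finset.mem_univ _, rfl⟩, hx⟩)
    obtain ⟨i, -, rfl⟩ := Finset.mem_image.mp hz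
    obtain ⟨O, C, hO, hC, hLi⟩ := hL i
    refine ⟨O, hO, fun x hx => Set.mem_iUnion.2 ⟨i, ?_⟩, hZz.trans (closure_mono ?_)⟩
    · rw [hLi]
      refine ⟨hx.1, ?_⟩
      have : Z ⊆ C := hZz.trans (closure_minimal (fun y hy => (hLi ▸ hy.1 : y ∈ O ∩ C).2) hC)
      exact this hx.2
    · exact fun y hy => ⟨(hLi ▸ hy.1 : y ∈ O ∩ C).1, hy.2⟩
  refine ⟨⟨hfwd, fun ⟨U, hU, hsub, hd⟩ => hd.trans (closure_mono fun x hx => ⟨hsub hx, hx.2⟩)⟩, ?_⟩
  intro ξ hξ hgen
  constructor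
  · intro h
    obtain ⟨U, hU, hsub, hd⟩ := hfwd h
    obtain ⟨y, hyU, hyZ⟩ : (U ∩ Z).Nonempty := closure_nonempty_iff.1 ⟨ξ, hd hξ⟩
    obtain ⟨w, hwU, hw⟩ := mem_closure_iff.1 (hgen hyZ) U hU hyU
    exact hsub ⟨(Set.mem_singleton_iff.1 hw) ▸ hwU, hξ⟩
  · exact fun h => hgen.trans (closure_mono (Set.singleton_subset_iff.2 ⟨h, hξ⟩))

end Groth.Agent.S7546
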