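import Groth.Statements.S7547
-- import your own Groth.Agent.* helpers here

set_option autoImplicit false
universe u
open PtTop

namespace Groth.Agent.S7547

/-- Let X be a Kolmogorov topological space whose quasi-compact opens form a basis for the topology. If
X is not Jacobson, there is a point x ∈ X which is not closed but such that {x} is locally closed. -/
theorem result {X : Type u} [TopologicalSpace X]
    [T0Space X] [PrespectralSpace X] (hX : ¬ JacobsonSpace X) :
    ∃ x : X, ¬ IsClosed ({x} : Set X) ∧ IsLocallyClosed ({x} : Set X) := by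
  rw [jacobsonSpace_iff_locallyClosed] at hX
  simp only [not_forall] at hX
  obtain ⟨Z, ⟨z, hz⟩, hZ, hne⟩ := hX
  obtain ⟨U, C, hU, hC, rfl⟩ := hZ
  obtain ⟨V, ⟨hV, hVc⟩, hzV, hVU⟩ :=
    PrespectralSpace.isTopologicalBasis.exists_subset_of_mem_open hz.1 hU
  have : CompactSpace ↥(V ∩ C) := isCompact_iff_compactSpace.mp (hVc.inter_right hC)
  obtain ⟨x, -, hx⟩ := IsClosed.exists_closed_singleton (S := (Set.univ : Set ↥(V ∩ C))) isClosed_univ
    ⟨⟨z, hzV, hz.2⟩, trivial⟩
  refine ⟨x.1, fun h => hne ⟨x.1, ⟨hVU x.2.1, x.2.2⟩, h⟩, ?_⟩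
  have := hx.isLocallyClosed.image Topology.IsInducing.subtypeVal
    (by rw [Subtype.range_coe]; exact hV.isLocallyClosed.inter hC.isLocallyClosed)
  rwa [Set.image_singleton] at this

end Groth.Agent.S7547
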