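import Groth.Statements.S7548
-- import your own Groth.Agent.* helpers here

set_option autoImplicit false
universe u
open PtTop

namespace Groth.Agent.S7548

/-- Let X be a Jacobson space and let T = ⋃ T_i be a union of subsets T_i ⊆ X each locally closed in X
(open, closed, locally closed and constructible subsets are of this form). Then T is Jacobson and
every point of T closed in T is closed in X. -/
theorem result {X : Type u} [TopologicalSpace X] [JacobsonSpace X]
    {ι : Type u} (T : ι → Set X) (hT : ∀ i, IsLocallyClosed (T i)) :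
    JacobsonSpace ↥(⋃ i, T i) ∧
      closedPoints ↥(⋃ i, T i) ⊆ (Subtype.val : ↥(⋃ i, T i) → X) ⁻¹' closedPoints X := by
  have key : closedPoints ↥(⋃ i, T i) ⊆
      (Subtype.val : ↥(⋃ i, T i) → X) ⁻¹' closedPoints X := by
    intro y hy
    obtain ⟨i, hi⟩ := Set.mem_iUnion.1 y.2
    apply isClosed_singleton_of_isLocallyClosed_singleton
    obtain ⟨C, hC, hCy⟩ := isClosed_induced_iff.1 hy
    have : ({y.1} : Set X) = T i ∩ C := by
      ext x
      refine ⟨?_, fun h => ?_⟩
      · rintro rfl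
        exact ⟨hi, show y ∈ Subtype.val ⁻¹' C by rw [hCy]; rfl⟩
      · have : (⟨x, Set.mem_iUnion.2 ⟨i, h.1⟩⟩ : ↥(⋃ i, T i)) ∈ Subtype.val ⁻¹' C := h.2
        rw [hCy] at this
        exact congrArg Subtype.val this
    rw [this]
    exact (hT i).inter hC.isLocallyClosed
  refine ⟨?_, key⟩
  rw [jacobsonSpace_iff_locallyClosed]
  rintro Z ⟨z, hz⟩ ⟨U, C, hU, hC, rfl⟩
  obtain ⟨U', hU', rfl⟩ := isOpen_induced_iff.1 hU
  obtain ⟨C', hC', rfl⟩ := isClosed_induced_iff.1 hC
  obtain ⟨i, hi⟩ := Set.mem_iUnion.1 z.2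
  obtain ⟨x, ⟨hxT, hxU, hxC⟩, hx⟩ := nonempty_inter_closedPoints
    (Z := T i ∩ (U' ∩ C')) ⟨z.1, hi, hz⟩
    ((hT i).inter (hU'.isLocallyClosed.inter hC'.isLocallyClosed))
  refine ⟨⟨x, Set.mem_iUnion.2 ⟨i, hxT⟩⟩, ⟨hxU, hxC⟩, ?_⟩
  exact preimage_closedPoints_subset Subtype.val_injective continuous_subtype_val hx

end Groth.Agent.S7548
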