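import Groth.Statements.S7549
-- import your own Groth.Agent.* helpers here

set_option autoImplicit false
universe u
open PtTop

namespace Groth.Agent.S7549

/-- Let X be a Jacobson space and X₀ ⊆ X the subspace of closed points. (a) For U ⊆ X open, U is
quasi-compact if and only if U ∩ X₀ is quasi-compact, and U is retrocompact in X if and only if U ∩
X₀ is retrocompact in X₀. (b) The rule E ↦ E ∩ X₀ is an inclusion-preserving and
inclusion-reflecting bijection between the constructible subsets of X and the constructible subsets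
of X₀. -/
theorem result {X : Type u} [TopologicalSpace X] [JacobsonSpace X] :
    (∀ U : Set X, IsOpen U →
      (IsCompact U ↔ IsCompact ((Subtype.val : closedPoints X → X) ⁻¹' U)) ∧
      (IsRetrocompact U ↔ IsRetrocompact ((Subtype.val : closedPoints X → X) ⁻¹' U))) ∧
    (∀ E : Set X, Topology.IsConstructible E →
      Topology.IsConstructible ((Subtype.val : closedPoints X → X) ⁻¹' E)) ∧
    (∀ E E' : Set X, Topology.IsConstructible E → Topology.IsConstructible E' →
      ((Subtype.val : closedPoints X → X) ⁻¹' E ⊆ Subtype.val ⁻¹' E' ↔ E ⊆ E')) ∧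
    (∀ F : Set (closedPoints X), Topology.IsConstructible F →
      ∃ E : Set X, Topology.IsConstructible E ∧ (Subtype.val : closedPoints X → X) ⁻¹' E = F) := by
  set i : closedPoints X → X := Subtype.val with hi
  have hrange : ∀ (U W : Set X), IsOpen U → IsOpen W → i ⁻¹' U ⊆ i ⁻¹' W → U ⊆ W := by
    intro U W hU hW h x hx
    by_contra hxW
    obtain ⟨y, ⟨hy, hyW⟩, hyc⟩ := nonempty_inter_closedPoints (Z := U ∩ Wᶜ) ⟨x, hx, hxW⟩
      (hU.isLocallyClosed.inter hW.isClosed_compl.isLocallyClosed)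
    exact hyW (h (show (⟨y, hyc⟩ : closedPoints X) ∈ i ⁻¹' U from hy))
  have hcp : ∀ U : Set X, IsOpen U → (IsCompact U ↔ IsCompact (i ⁻¹' U)) := by
    intro U hU
    constructor
    · intro hc
      rw [Subtype.isCompact_iff]
      refine isCompact_of_finite_subcover fun {ι} W hW hsub => ?_
      obtain ⟨t, ht⟩ := hc.elim_finite_subcover W hW (hrange U _ hU (isOpen_iUnion hW)
        fun y hy => hsub ⟨y, hy, rfl⟩)
      exact ⟨t, fun x hx => ht (by obtain ⟨y, hy, rfl⟩ := hx; exact hy)⟩
    · intro hc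
      refine isCompact_of_finite_subcover fun {ι} W hW hsub => ?_
      obtain ⟨t, ht⟩ := hc.elim_finite_subcover (fun j => i ⁻¹' W j)
        (fun j => (hW j).preimage continuous_subtype_val)
        (by intro y hy; obtain ⟨j, hj⟩ := Set.mem_iUnion.1 (hsub hy); exact Set.mem_iUnion.2 ⟨j, hj⟩)
      refine ⟨t, hrange U _ hU (isOpen_biUnion fun j _ => hW j) ?_⟩
      intro y hy
      simpa using ht hy
  have hrc : ∀ U : Set X, IsOpen U → (IsRetrocompact U ↔ IsRetrocompact (i ⁻¹' U)) := by
    intro U hU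
    constructor
    · intro h W hWc hWo
      obtain ⟨V, hV, rfl⟩ := isOpen_induced_iff.1 hWo
      exact (hcp _ (hU.inter hV)).1 (h ((hcp V hV).2 hWc) hV)
    · intro h V hVc hVo
      exact (hcp _ (hU.inter hVo)).2 (h ((hcp V hVo).1 hVc) (hVo.preimage continuous_subtype_val))
  have hcons : ∀ E : Set X, Topology.IsConstructible E → Topology.IsConstructible (i ⁻¹' E) :=
    fun E hE => hE.preimage continuous_subtype_val fun s hs hs' => (hrc s hs).1 hs'
  have hne : ∀ E : Set X, Topology.IsConstructible E → E.Nonempty → (i ⁻¹' E).Nonempty := by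
    intro E hE
    induction E, hE using BooleanSubalgebra.closure_sdiff_sup_induction with
    | isSublattice =>
      exact ⟨fun s hs t ht => ⟨hs.1.union ht.1, hs.2.union ht.2⟩,
        fun s hs t ht => ⟨hs.1.inter ht.1, hs.2.inter_isOpen ht.2 ht.1⟩⟩
    | bot_mem => exact ⟨isOpen_empty, .empty⟩
    | top_mem => exact ⟨isOpen_univ, .univ⟩
    | sdiff U hU V hV =>
      intro h
      obtain ⟨y, hy, hyc⟩ := nonempty_inter_closedPoints h
        (hU.1.isLocallyClosed.inter hV.1.isClosed_compl.isLocallyClosed)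
      exact ⟨⟨y, hyc⟩, hy⟩
    | sup s _ t _ hs' ht' =>
      rintro ⟨x, hx | hx⟩
      · obtain ⟨y, hy⟩ := hs' ⟨x, hx⟩; exact ⟨y, Or.inl hy⟩
      · obtain ⟨y, hy⟩ := ht' ⟨x, hx⟩; exact ⟨y, Or.inr hy⟩
  refine ⟨fun U hU => ⟨hcp U hU, hrc U hU⟩, hcons,
    fun E E' hE hE' => ⟨fun h x hx => ?_, fun h => Set.preimage_mono h⟩, ?_⟩
  · by_contra hx'
    obtain ⟨y, hy, hy'⟩ := hne _ (hE.sdiff hE') ⟨x, hx, hx'⟩
    exact hy' (h hy)
  · intro F hF
    induction hF using Topology.IsConstructible.empty_union_induction with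
    | open_retrocompact W hWo hWc =>
      obtain ⟨V, hV, rfl⟩ := isOpen_induced_iff.1 hWo
      exact ⟨V, ((hrc V hV).2 hWc).isConstructible hV, rfl⟩
    | union s hs t ht hs' ht' =>
      obtain ⟨A, hA, rfl⟩ := hs'
      obtain ⟨B, hB, rfl⟩ := ht'
      exact ⟨A ∪ B, hA.union hB, rfl⟩
    | compl s hs hs' =>
      obtain ⟨A, hA, rfl⟩ := hs'
      exact ⟨Aᶜ, hA.compl, rfl⟩

end Groth.Agent.S7549
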