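import Groth.Statements.S7550
-- import your own Groth.Agent.* helpers here

set_option autoImplicit false
universe u
open PtTop

namespace Groth.Agent.S7550

/-- Let f : X → Y be a continuous and open map of topological spaces, with X Noetherian, every
irreducible closed subset of X having a generic point, and Y Kolmogorov. Then generalizations lift
along f. (Part (1), closed maps are specializing, is a library fact.) -/
theorem result {X Y : Type u} [TopologicalSpace X] [TopologicalSpace Y]
    [TopologicalSpace.NoetherianSpace X] [QuasiSober X] [T0Space Y]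
    (f : X → Y) (hf : Continuous f) (hfo : IsOpenMap f) :
    GeneralizingMap f := by
  intro x y' h
  have hx : x ∈ closure (f ⁻¹' {y'}) := by
    rw [← hfo.preimage_closure_eq_closure_preimage hf]
    exact specializes_iff_mem_closure.1 h
  set S := f ⁻¹' {y'} with hS
  have hfin : (irreducibleComponents ↥S).Finite :=
    TopologicalSpace.NoetherianSpace.finite_irreducibleComponents
  have hcov : S ⊆ ⋃ T ∈ irreducibleComponents ↥S, Subtype.val '' T := fun s hs =>
    Set.mem_biUnion (irreducibleComponent_mem_irreducibleComponents (⟨s, hs⟩ : ↥S))
      ⟨_, mem_irreducibleComponent, rfl⟩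
  have hx' := closure_mono hcov hx
  rw [hfin.closure_biUnion] at hx'
  obtain ⟨T, hT, hxT⟩ := Set.mem_iUnion₂.1 hx'
  have hirr : IsIrreducible (closure ((Subtype.val : ↥S → X) '' T)) :=
    (hT.1.image _ continuous_subtype_val.continuousOn).closure
  obtain ⟨ξ, hξ⟩ := QuasiSober.sober hirr isClosed_closure
  refine ⟨ξ, hξ.specializes hxT, Inseparable.eq (Specializes.antisymm ?_ ?_)⟩
  · obtain ⟨t, ht⟩ := hT.1.nonempty
    have := (hξ.specializes (subset_closure ⟨t, ht, rfl⟩)).map hf
    rwa [show f t.1 = y' from t.2] at this
  · have hsub : (Subtype.val : ↥S → X) '' T ⊆ f ⁻¹' closure {y'} := by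
      rintro _ ⟨t, -, rfl⟩
      exact subset_closure t.2
    exact specializes_iff_mem_closure.2
      (closure_minimal hsub (isClosed_closure.preimage hf) hξ.mem)

end Groth.Agent.S7550
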