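import Groth.Statements.S7551
-- import your own Groth.Agent.* helpers here

set_option autoImplicit false
universe u
open PtTop

namespace Groth.Agent.S7551

/-- Let s, t : R → U and π : U → X be continuous maps between topological spaces satisfying: (1) π is an
open map, (2) U is a sober space, (3) s and t have finite fibres, (4) generalizations lift along s
and along t, and (5) the image of (t, s) : R → U × U is an equivalence relation on U and π
identifies X, as a set, with the quotient of U by it. Then X is Kolmogorov. -/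
theorem result {R U X : Type u}
    [TopologicalSpace R] [TopologicalSpace U] [TopologicalSpace X] [QuasiSober U] [T0Space U]
    (s t : R → U) (π : U → X) (hs : Continuous s) (ht : Continuous t) (hπ : Continuous π)
    (hπo : IsOpenMap π) (hsf : ∀ u, (s ⁻¹' {u}).Finite) (htf : ∀ u, (t ⁻¹' {u}).Finite)
    (hsg : GeneralizingMap s) (htg : GeneralizingMap t)
    (hE : Equivalence fun u u' : U => ∃ r, t r = u ∧ s r = u')
    (hπs : Function.Surjective π) (hπq : ∀ u u' : U, π u = π u' ↔ ∃ r, t r = u ∧ s r = u') :
    T0Space X := by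
  refine ⟨fun {a b} hab => ?_⟩
  obtain ⟨u, rfl⟩ := hπs a
  obtain ⟨v, rfl⟩ := hπs b
  have fin : ∀ u : U, (π ⁻¹' {π u}).Finite := fun u => by
    refine ((htf u).image s).subset fun u' hu' => ?_
    obtain ⟨r, hr, hr'⟩ := (hπq u u').1 (Eq.symm hu')
    exact ⟨r, hr, hr'⟩
  have key : ∀ u v : U, π u ⤳ π v → ∃ u', π u' = π u ∧ u' ⤳ v := by
    intro u v huv
    have : v ∈ closure (π ⁻¹' {π u}) := by
      rw [← hπo.preimage_closure_eq_closure_preimage hπ]
      exact specializes_iff_mem_closure.1 huv
    rw [← Set.biUnion_of_singleton (π ⁻¹' {π u}), (fin u).closure_biUnion] at this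
    obtain ⟨u', hu', hv⟩ := Set.mem_iUnion₂.1 this
    exact ⟨u', hu', specializes_iff_mem_closure.2 hv⟩
  let A := π ⁻¹' {π u} ∪ π ⁻¹' {π v}
  let : Preorder U := specializationPreorder U
  obtain ⟨m, hm, hmax⟩ := ((fin u).union (fin v)).exists_maximal ⟨u, Or.inl rfl⟩
  rcases hm with hm | hm
  · obtain ⟨w, hw, hwm⟩ := key v m (by rw [show π m = π u from hm]; exact hab.symm.specializes)
    have hmw : m ⤳ w := hmax (Or.inr hw) hwm
    rw [← show π m = π u from hm, ← show π w = π v from hw, (hmw.antisymm hwm).eq]
  · obtain ⟨w, hw, hwm⟩ := key u m (by rw [show π m = π v from hm]; exact hab.specializes)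
    have hmw : m ⤳ w := hmax (Or.inl hw) hwm
    rw [← show π m = π v from hm, ← show π w = π u from hw, (hmw.antisymm hwm).eq]

end Groth.Agent.S7551
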