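import Groth.Statements.S7553
import Groth.Agent.ConstrBasics.Basic
-- import your own Groth.Agent.* helpers here

set_option autoImplicit false
universe u
open ConstrTop

namespace Groth.Agent.S7553

/-- Let X be a Noetherian sober topological space and E ⊆ X. (1) A constructible E that is closed under
specialization is a closed subset. (2) A constructible E that is closed under generalization is an
open subset. -/
theorem result {X : Type u} [TopologicalSpace X]
    [TopologicalSpace.NoetherianSpace X] [QuasiSober X] [T0Space X] (E : Set X) (hE : Topology.IsConstructible E) :
    (StableUnderSpecialization E → IsClosed E) ∧ (StableUnderGeneralization E → IsOpen E) := by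
  have hopen : ∀ F : Set X, Topology.IsConstructible F → StableUnderGeneralization F → IsOpen F := by
    intro F hF hgen
    rw [isOpen_iff_mem_nhds]
    intro x hx
    refine Groth.Agent.ConstrBasics.mem_nhds_of_irreducible x _ fun Y hY hYi hxY =>
      Groth.Agent.ConstrBasics.exists_open_of_subset_closure hYi hF ?_
    obtain ⟨η, hη⟩ := QuasiSober.sober hYi hY
    have hηY : η ∈ Y := hη.def ▸ subset_closure rfl
    conv_lhs => rw [← hη.def]
    exact closure_mono (Set.singleton_subset_iff.mpr ⟨hgen (hη.specializes hxY) hx, hηY⟩)
  exact ⟨fun h => ⟨hopen _ (Topology.isConstructible_compl.2 hE) h.compl⟩, hopen E hE⟩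

end Groth.Agent.S7553
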