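import Groth.Statements.S7556
import Groth.Agent.S7555
-- import your own Groth.Agent.* helpers here

set_option autoImplicit false
universe u
open PtTop

namespace Groth.Agent.S7556

/-- discrete copy of a type -/
def Disc (X : Type u) : Type u := X

instance (X : Type u) : TopologicalSpace (Disc X) := ⊥

instance (X : Type u) : DiscreteTopology (Disc X) := ⟨rfl⟩

theorem eq_id_of_minimal {E X : Type u} [TopologicalSpace E] [CompactSpace E] [T2Space E]
    (p : E → X) (hmin : ∀ A : Set E, IsClosed A → A ≠ Set.univ → p '' A ≠ Set.univ)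
    (f : E → E) (hf : Continuous f) (hpf : p ∘ f = p) [TopologicalSpace X] (_hp : Continuous p)
    (hps : Function.Surjective p) : f = id := by
  have hfs : Function.Surjective f := by
    by_contra h
    refine hmin (Set.range f) (isCompact_range hf).isClosed (fun e => h (Set.range_eq_univ.1 e)) ?_
    rw [← Set.range_comp, hpf, hps.range_eq]
  by_contra hne
  obtain ⟨A, hA, hA', hcov⟩ := Groth.Agent.S7555.result f hf hfs hne
  refine hmin A hA hA' (Set.eq_univ_iff_forall.2 fun x => ?_)
  obtain ⟨e, rfl⟩ := hps x
  rcases hcov.ge (Set.mem_univ e) with he | ⟨a, ha, rfl⟩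
  · exact ⟨e, he, rfl⟩
  · exact ⟨a, ha, (congrFun hpf a).symm⟩


/-- Let X be a quasi-compact Hausdorff space. There is a continuous surjection p : X' → X with X'
quasi-compact, Hausdorff and extremally disconnected such that no proper closed subset of X' maps
onto X; and if q : X'' → X is a second cover with the same properties, there is a homeomorphism X' ≃
X'' compatible with p and q. -/
theorem result (X : Type u) [TopologicalSpace X] [CompactSpace X] [T2Space X] :
    (∃ (X' : Type u) (_ : TopologicalSpace X') (_ : CompactSpace X') (_ : T2Space X') (_ : ExtremallyDisconnected X')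
        (p : X' → X), Continuous p ∧ Function.Surjective p ∧
        ∀ E : Set X', IsClosed E → E ≠ Set.univ → p '' E ≠ Set.univ) ∧
    (∀ (X' X'' : Type u) [TopologicalSpace X'] [CompactSpace X'] [T2Space X'] [ExtremallyDisconnected X']
        [TopologicalSpace X''] [CompactSpace X''] [T2Space X''] [ExtremallyDisconnected X'']
        (p : X' → X) (q : X'' → X),
        Continuous p → Function.Surjective p → (∀ E : Set X', IsClosed E → E ≠ Set.univ → p '' E ≠ Set.univ) →
        Continuous q → Function.Surjective q → (∀ E : Set X'', IsClosed E → E ≠ Set.univ → q '' E ≠ Set.univ) →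
        ∃ h : X' ≃ₜ X'', q ∘ h = p) := by
  refine ⟨?_, ?_⟩
  · obtain ⟨π, hπ, hπs⟩ : ∃ π : StoneCech (Disc X) → X, Continuous π ∧ Function.Surjective π := by
      refine ⟨stoneCechExtend (g := (id : Disc X → X)) continuous_of_discreteTopology,
        continuous_stoneCechExtend _, fun x => ⟨stoneCechUnit (x : Disc X), ?_⟩⟩
      exact stoneCechExtend_stoneCechUnit _ _
    obtain ⟨E, hEc, hEs, hmin⟩ := exists_compact_surjective_zorn_subset hπ hπs
    let p : E → X := π ∘ Subtype.val
    have hp : Continuous p := hπ.comp continuous_subtype_val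
    have hps : Function.Surjective p := fun x => by
      obtain ⟨e, he, rfl⟩ := hEs.ge (Set.mem_univ x)
      exact ⟨⟨e, he⟩, rfl⟩
    have hmin' : ∀ A : Set E, IsClosed A → A ≠ Set.univ → p '' A ≠ Set.univ :=
      fun A hA hA' => hmin A hA' hA
    obtain ⟨r, hr, hrp⟩ := StoneCech.projective hπ hp hps
    have hret : r ∘ Subtype.val = id :=
      eq_id_of_minimal p hmin' _ (hr.comp continuous_subtype_val) (funext fun e => congrFun hrp e.1)
        hp hps
    have hproj : CompactT2.Projective E := by
      intro Y Z _ _ _ _ _ _ f g hf hg hgs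
      obtain ⟨k, hk, hkg⟩ := StoneCech.projective (hf.comp hr) hg hgs
      exact ⟨k ∘ Subtype.val, hk.comp continuous_subtype_val, by
        rw [← Function.comp_assoc, hkg, Function.comp_assoc, hret, Function.comp_id]⟩
    exact ⟨E, inferInstance, hEc, inferInstance, hproj.extremallyDisconnected, p, hp, hps, hmin'⟩
  · intro X' X'' _ _ _ _ _ _ _ _ p q hp hps hpm hq hqs hqm
    obtain ⟨h, hh, hqh⟩ := CompactT2.ExtremallyDisconnected.projective hp hq hqs
    obtain ⟨k, hk, hpk⟩ := CompactT2.ExtremallyDisconnected.projective hq hp hps
    have e1 : k ∘ h = id := eq_id_of_minimal p hpm _ (hk.comp hh)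
      (by rw [← Function.comp_assoc, hpk, hqh]) hp hps
    have e2 : h ∘ k = id := eq_id_of_minimal q hqm _ (hh.comp hk)
      (by rw [← Function.comp_assoc, hqh, hpk]) hq hqs
    exact ⟨{ toFun := h, invFun := k, left_inv := congrFun e1, right_inv := congrFun e2
             continuous_toFun := hh, continuous_invFun := hk }, hqh⟩

end Groth.Agent.S7556
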