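import Groth.Statements.S7557
import Mathlib.Algebra.Category.Ring.Limits
import Mathlib.Topology.Category.TopCat.Limits.Basic
-- import your own Groth.Agent.* helpers here

set_option autoImplicit false
universe u
open CategoryTheory CategoryTheory.Limits
open PtTop

namespace Groth.Agent.S7557

noncomputable section
open Topology

variable {J : Type u} [Category.{u} J] (F : J ⥤ TopCommRingCat.{u})

/-- the ring limit cone -/
def cR : Cone (F ⋙ forget₂ TopCommRingCat.{u} CommRingCat.{u}) := limit.cone _

/-- the limit topology -/
@[reducible] def top : TopologicalSpace (cR F).pt :=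
  ⨅ j, (F.obj j).isTopologicalSpace.induced ((cR F).π.app j)

/-- projection -/
def pr (j : J) : (cR F).pt →+* F.obj j := ((cR F).π.app j).hom

theorem continuous_π (j : J) :
    Continuous[top F, (F.obj j).isTopologicalSpace] (pr F j) :=
  continuous_iInf_dom continuous_induced_dom

theorem isTopRing : @IsTopologicalRing (cR F).pt (top F) _ := by
  letI := top F
  have add : ContinuousAdd (cR F).pt := ⟨continuous_iInf_rng.2 fun j => continuous_induced_rng.2 (by
    have : Continuous fun p : (cR F).pt × (cR F).pt => pr F j p.1 + pr F j p.2 :=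
      ((continuous_π F j).comp continuous_fst).add ((continuous_π F j).comp continuous_snd)
    exact this.congr fun p => (map_add (pr F j) p.1 p.2).symm)⟩
  have mul : ContinuousMul (cR F).pt := ⟨continuous_iInf_rng.2 fun j => continuous_induced_rng.2 (by
    have : Continuous fun p : (cR F).pt × (cR F).pt => pr F j p.1 * pr F j p.2 :=
      ((continuous_π F j).comp continuous_fst).mul ((continuous_π F j).comp continuous_snd)
    exact this.congr fun p => (map_mul (pr F j) p.1 p.2).symm)⟩
  have neg : ContinuousNeg (cR F).pt := ⟨continuous_iInf_rng.2 fun j => continuous_induced_rng.2 (by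
    have : Continuous fun p : (cR F).pt => -(pr F j p) := (continuous_π F j).neg
    exact this.congr fun p => (map_neg (pr F j) p).symm)⟩
  exact {}

/-- limit cone -/
def cone : Cone F where
  pt := @TopCommRingCat.of (cR F).pt _ (top F) (isTopRing F)
  π := { app := fun j => ⟨pr F j, continuous_π F j⟩
         naturality := fun i j f => Subtype.ext (congrArg CommRingCat.Hom.hom ((cR F).π.naturality f)) }

/-- the cone is a limit -/
def isLimit : IsLimit (cone F) where
  lift s := ⟨(limit.lift _ ((forget₂ _ CommRingCat).mapCone s)).hom,
    continuous_iInf_rng.2 fun j => continuous_induced_rng.2 (by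
      refine (s.π.app j).2.congr fun x => ?_
      exact (ConcreteCategory.congr_hom (limit.lift_π ((forget₂ _ CommRingCat).mapCone s) j) x).symm)⟩
  fac s j := Subtype.ext (congrArg CommRingCat.Hom.hom
    (limit.lift_π ((forget₂ _ CommRingCat).mapCone s) j))
  uniq s m h := Subtype.ext (congrArg CommRingCat.Hom.hom
    ((limit.isLimit _).uniq ((forget₂ _ CommRingCat).mapCone s) (CommRingCat.ofHom m.1)
      fun j => CommRingCat.hom_ext (congrArg Subtype.val (h j))))

/-- preserved in rings -/
def isLimitRing : IsLimit ((forget₂ TopCommRingCat.{u} CommRingCat.{u}).mapCone (cone F)) :=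
  IsLimit.ofIsoLimit (limit.isLimit _) (Cone.ext (Iso.refl _) fun j => rfl)

/-- preserved in spaces -/
def isLimitTop : IsLimit ((forget₂ TopCommRingCat.{u} TopCat.{u}).mapCone (cone F)) :=
  IsLimit.ofIsoLimit
    (TopCat.isLimitConeOfForget (F := F ⋙ forget₂ TopCommRingCat.{u} TopCat.{u})
      ((forget CommRingCat.{u}).mapCone (cR F)) (isLimitOfPreserves _ (limit.isLimit _)))
    (Cone.ext (Iso.refl _) fun j => rfl)

end


/-- The category of topological rings (commutative, with continuous ring homomorphisms) has limits, and
limits commute with the forgetful functors to topological spaces and to rings. -/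
theorem result :
    HasLimits TopCommRingCat.{u} ∧
    PreservesLimits (forget₂ TopCommRingCat.{u} TopCat.{u}) ∧
    PreservesLimits (forget₂ TopCommRingCat.{u} CommRingCat.{u}) := by
  refine ⟨⟨fun J _ => ⟨fun F => ⟨⟨⟨cone F, isLimit F⟩⟩⟩⟩⟩, ⟨fun {J _} => ⟨fun {F} => ?_⟩⟩,
    ⟨fun {J _} => ⟨fun {F} => ?_⟩⟩⟩
  · exact preservesLimit_of_preserves_limit_cone (isLimit F) (isLimitTop F)
  · exact preservesLimit_of_preserves_limit_cone (isLimit F) (isLimitRing F)

end Groth.Agent.S7557
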