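import Groth.Statements.S7558
import Mathlib.Algebra.Category.Ring.Colimits
-- import your own Groth.Agent.* helpers here

set_option autoImplicit false
universe u
open CategoryTheory CategoryTheory.Limits
open PtTop

namespace Groth.Agent.S7558

noncomputable section
open Topology

variable {J : Type u} [Category.{u} J] (F : J ⥤ TopCommRingCat.{u})

/-- the ring colimit cocone -/
def cR : Cocone (F ⋙ forget₂ TopCommRingCat.{u} CommRingCat.{u}) := colimit.cocone _

/-- ring topologies for which all insertions are continuous -/
def good : Set (RingTopology (cR F).pt) :=
  {t | ∀ j, Continuous[(F.obj j).isTopologicalSpace, t.toTopologicalSpace] ((cR F).ι.app j)}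

/-- the colimit topology -/
def rt : RingTopology (cR F).pt := sInf (good F)

theorem continuous_ι (j : J) :
    Continuous[(F.obj j).isTopologicalSpace, (rt F).toTopologicalSpace] ((cR F).ι.app j) :=
  continuous_sInf_rng.2 <| Set.forall_mem_image.2 fun _ ht => ht j

/-- colimit cocone -/
def cocone : Cocone F where
  pt := @TopCommRingCat.of (cR F).pt _ (rt F).toTopologicalSpace (rt F).toIsTopologicalRing
  ι := { app := fun j => ⟨((cR F).ι.app j).hom, continuous_ι F j⟩
         naturality := fun i j f => Subtype.ext (congrArg CommRingCat.Hom.hom ((cR F).ι.naturality f)) }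

/-- induced ring topology -/
def inducedRT {R S : Type u} [CommRing R] [CommRing S] [t : TopologicalSpace S] [IsTopologicalRing S]
    (f : R →+* S) : RingTopology R :=
  letI := t.induced f
  { toTopologicalSpace := t.induced f
    toIsTopologicalRing :=
      { continuous_add := continuous_induced_rng.2 ((((continuous_induced_dom (f := f)).comp
          continuous_fst).add ((continuous_induced_dom (f := f)).comp continuous_snd)).congr
            fun p => (map_add f p.1 p.2).symm)
        continuous_mul := continuous_induced_rng.2 ((((continuous_induced_dom (f := f)).comp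
          continuous_fst).mul ((continuous_induced_dom (f := f)).comp continuous_snd)).congr
            fun p => (map_mul f p.1 p.2).symm)
        continuous_neg := continuous_induced_rng.2 (((continuous_induced_dom (f := f)).neg).congr
            fun p => (map_neg f p).symm) } }

/-- the cocone is a colimit -/
def isColimit : IsColimit (cocone F) where
  desc s := ⟨(colimit.desc _ ((forget₂ _ CommRingCat).mapCocone s)).hom, by
    have hmem : inducedRT (R := (cR F).pt) (S := s.pt)
        (colimit.desc _ ((forget₂ _ CommRingCat).mapCocone s)).hom ∈ good F := fun j =>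
      continuous_induced_rng.2 ((s.ι.app j).2.congr fun x =>
        (ConcreteCategory.congr_hom (colimit.ι_desc ((forget₂ _ CommRingCat).mapCocone s) j) x).symm)
    exact continuous_le_dom (sInf_le hmem : rt F ≤ _) continuous_induced_dom⟩
  fac s j := Subtype.ext (congrArg CommRingCat.Hom.hom
    (colimit.ι_desc ((forget₂ _ CommRingCat).mapCocone s) j))
  uniq s m h := Subtype.ext (congrArg CommRingCat.Hom.hom
    ((colimit.isColimit _).uniq ((forget₂ _ CommRingCat).mapCocone s) (CommRingCat.ofHom m.1)
      fun j => CommRingCat.hom_ext (congrArg Subtype.val (h j))))

/-- preserved in rings -/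
def isColimitRing : IsColimit ((forget₂ TopCommRingCat.{u} CommRingCat.{u}).mapCocone (cocone F)) :=
  IsColimit.ofIsoColimit (colimit.isColimit _) (Cocone.ext (Iso.refl _) fun j => rfl)

end


/-- The category of topological rings (commutative, with continuous ring homomorphisms) has colimits,
and colimits commute with the forgetful functor to rings. -/
theorem result :
    HasColimits TopCommRingCat.{u} ∧
    PreservesColimits (forget₂ TopCommRingCat.{u} CommRingCat.{u}) := by
  refine ⟨⟨fun J _ => ⟨fun F => ⟨⟨⟨cocone F, isColimit F⟩⟩⟩⟩⟩, ⟨fun {J _} => ⟨fun {F} => ?_⟩⟩⟩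
  exact preservesColimit_of_preserves_colimit_cocone (isColimit F) (isColimitRing F)

end Groth.Agent.S7558
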