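import Groth.Statements.S7559
-- import your own Groth.Agent.* helpers here

set_option autoImplicit false
universe u
open PtTop

namespace Groth.Agent.S7559

/-- Let X be a topological space and X = ∐ P_k a finite partition into locally closed parts. Then there
is a finite stratification of X refining it: a finite partially ordered index set I and pairwise
disjoint locally closed strata S_i covering X with closure(S_j) ⊆ ⋃_{i ≤ j} S_i, such that every
part P_k is a union of strata. -/
theorem result {X : Type u} [TopologicalSpace X]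
    {n : ℕ} (P : Fin n → Set X) (hP : ∀ k, IsLocallyClosed (P k)) (hcov : ⋃ k, P k = Set.univ)
    (hdisj : ∀ k k', k ≠ k' → Disjoint (P k) (P k')) :
    ∃ (I : Type) (_ : Fintype I) (_ : PartialOrder I) (S : I → Set X),
      (∀ i, IsLocallyClosed (S i)) ∧ (⋃ i, S i = Set.univ) ∧ (∀ i j, i ≠ j → Disjoint (S i) (S j)) ∧
      (∀ j, closure (S j) ⊆ ⋃ i ∈ Set.Iic j, S i) ∧
      (∀ i k, (S i ∩ P k).Nonempty → S i ⊆ P k) := by
  classical
  let A : Fin n × Bool → Set X := fun k =>
    if k.2 then closure (P k.1) else closure (P k.1) \ P k.1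
  have hA : ∀ k, IsClosed (A k) := by
    rintro ⟨k, _ | _⟩
    · have := (hP k).isOpen_coborder
      rw [coborder, isOpen_compl_iff] at this
      exact this
    · exact isClosed_closure
  let σ : X → Finset (Fin n × Bool) := fun x => Finset.univ.filter fun k => x ∈ A k
  have hσ : ∀ x k, k ∈ σ x ↔ x ∈ A k := fun x k => by simp [σ]
  refine ⟨(Finset (Fin n × Bool))ᵒᵈ, inferInstance, inferInstance,
    fun i => {x | σ x = OrderDual.ofDual i}, fun i => ?_, ?_, ?_, fun j => ?_, ?_⟩
  · have e : {x | σ x = OrderDual.ofDual i} =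
        (⋃ k ∈ {k | k ∉ OrderDual.ofDual i}, A k)ᶜ ∩ ⋂ k ∈ OrderDual.ofDual i, A k := by
      ext x
      simp only [Set.mem_ofPred_eq, Set.mem_inter_iff, Set.mem_compl_iff, Set.mem_iUnion,
        Set.mem_iInter, exists_prop, not_exists, not_and, Finset.ext_iff, hσ]
      exact ⟨fun h => ⟨fun k hk hx => hk ((h k).1 hx), fun k hk => (h k).2 hk⟩,
        fun h k => ⟨fun hx => by_contra fun hk => h.1 k hk hx, h.2 k⟩⟩
    exact ⟨_, _, ((Set.toFinite _).isClosed_biUnion fun k _ => hA k).isOpen_compl,
      isClosed_biInter fun k _ => hA k, e⟩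
  · exact Set.eq_univ_iff_forall.2 fun x => Set.mem_iUnion.2 ⟨OrderDual.toDual (σ x), rfl⟩
  · intro i j hij
    exact Set.disjoint_left.2 fun x hx hx' => hij (OrderDual.ofDual.injective (hx.symm.trans hx'))
  · intro x hx
    refine Set.mem_biUnion (x := OrderDual.toDual (σ x)) ?_ rfl
    show OrderDual.ofDual j ⊆ σ x
    intro k hk
    rw [hσ]
    exact closure_minimal (fun y (hy : σ y = _) => (hσ y k).1 (hy ▸ hk)) (hA k) hx
  · rintro i k ⟨x, hx, hxk⟩ y hy
    have e : σ y = σ x := hy.trans hx.symm
    have mem : ∀ b, (y ∈ A (k, b) ↔ x ∈ A (k, b)) := fun b => by rw [← hσ, ← hσ, e]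
    have h1 : y ∈ closure (P k) := (mem true).2 (subset_closure hxk)
    by_contra hyk
    exact ((mem false).1 ⟨h1, hyk⟩).2 hxk

end Groth.Agent.S7559
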