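import Groth.Statements.S7560
import Mathlib.Topology.Constructible
import Mathlib.Topology.LocallyClosed
import Mathlib.Data.Finite.Sigma
-- import your own Groth.Agent.* helpers here

set_option autoImplicit false
universe u
open ConstrTop

namespace Groth.Agent.S7560

/-- Let X be a topological space written as a finite union X = T_1 ∪ … ∪ T_n of constructible subsets.
Then there is a finite stratification X = ∐ S_i (pairwise disjoint locally closed strata indexed by
a finite partially ordered set, with closure(S_j) ⊆ ⋃_{i ≤ j} S_i) whose strata are constructible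
and such that every T_k is a union of strata. -/
theorem result {X : Type u} [TopologicalSpace X]
    {n : ℕ} (T : Fin n → Set X) (hT : ∀ k, Topology.IsConstructible (T k)) (hcov : ⋃ k, T k = Set.univ) :
    ∃ (I : Type) (_ : Fintype I) (_ : PartialOrder I) (S : I → Set X),
      (∀ i, IsLocallyClosed (S i) ∧ Topology.IsConstructible (S i)) ∧ (⋃ i, S i = Set.univ) ∧
      (∀ i j, i ≠ j → Disjoint (S i) (S j)) ∧
      (∀ j, closure (S j) ⊆ ⋃ i ∈ Set.Iic j, S i) ∧
      (∀ i k, (S i ∩ T k).Nonempty → S i ⊆ T k) := by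
  classical
  have key : ∀ t : Set X, Topology.IsConstructible t →
      ∃ (m : ℕ) (U : Fin m → Set X), (∀ l, IsOpen (U l) ∧ IsRetrocompact (U l)) ∧
        ∀ x y, (∀ l, x ∈ U l ↔ y ∈ U l) → (x ∈ t ↔ y ∈ t) := by
    intro t ht
    induction ht using Topology.IsConstructible.empty_union_induction with
    | open_retrocompact U hUo hUc => exact ⟨1, fun _ => U, fun _ => ⟨hUo, hUc⟩, fun x y h => h 0⟩
    | union s hs t ht hs' ht' =>
      obtain ⟨m, U, hU, hU'⟩ := hs'
      obtain ⟨m', V, hV, hV'⟩ := ht'
      refine ⟨m + m', Fin.append U V, fun l => ?_, fun x y h => ?_⟩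
      · induction l using Fin.addCases with
        | left i => rw [Fin.append_left]; exact hU i
        | right i => rw [Fin.append_right]; exact hV i
      · exact or_congr (hU' x y fun l => by simpa using h (Fin.castAdd m' l))
          (hV' x y fun l => by simpa using h (Fin.natAdd m l))
    | compl s hs hs' =>
      obtain ⟨m, U, hU, hU'⟩ := hs'
      exact ⟨m, U, hU, fun x y h => not_congr (hU' x y h)⟩
  choose m U hU hU' using fun k => key (T k) (hT k)
  let W : (Σ k, Fin (m k)) → Set X := fun p => U p.1 p.2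
  let e := Fintype.equivFin (Σ k, Fin (m k))
  let sig : X → Set (Fin (Fintype.card (Σ k, Fin (m k)))) := fun x => {l | x ∈ W (e.symm l)}
  let S : Set (Fin (Fintype.card (Σ k, Fin (m k)))) → Set X := fun σ => {x | sig x = σ}
  have hS : ∀ σ, S σ = (⋂ l ∈ σ, W (e.symm l)) ∩ (⋂ l ∈ σᶜ, (W (e.symm l))ᶜ) := fun σ => by
    ext x
    simp only [S, sig, Set.mem_setOf_eq, Set.mem_inter_iff, Set.mem_iInter, Set.mem_compl_iff, Set.ext_iff]
    exact ⟨fun h => ⟨fun l hl => (h l).2 hl, fun l hl hx => hl ((h l).1 hx)⟩,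
      fun h l => ⟨fun hx => by_contra fun hl => h.2 l hl hx, h.1 l⟩⟩
  refine ⟨Set (Fin (Fintype.card (Σ k, Fin (m k)))), Fintype.ofFinite _, inferInstance, S, fun σ => ?_,
    ?_, fun i j hij => ?_, fun σ => ?_, fun σ k hne x hx => ?_⟩
  · rw [hS]
    refine ⟨⟨_, _, σ.toFinite.isOpen_biInter fun l _ => (hU _ _).1, ?_, rfl⟩,
      (Topology.IsConstructible.biInter σ.toFinite fun l _ => (hU _ _).2.isConstructible (hU _ _).1).inter
        (Topology.IsConstructible.biInter σᶜ.toFinite fun l _ =>
          ((hU _ _).2.isConstructible (hU _ _).1).compl)⟩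
    exact isClosed_biInter fun l _ => (hU _ _).1.isClosed_compl
  · exact Set.eq_univ_of_forall fun x => Set.mem_iUnion.2 ⟨sig x, rfl⟩
  · exact Set.disjoint_left.2 fun x hi hj => hij (hi.symm.trans hj)
  · intro x hx
    refine Set.mem_biUnion (x := sig x) ?_ rfl
    intro l hl
    obtain ⟨z, hzW, hz⟩ := mem_closure_iff.1 hx (W (e.symm l)) (hU _ _).1 hl
    exact hz ▸ (hzW : l ∈ sig z)
  · obtain ⟨y, hy, hyk⟩ := hne
    refine (hU' k x y fun l => ?_).2 hyk
    have h := Set.ext_iff.1 ((hx : sig x = σ).trans hy.symm) (e ⟨k, l⟩)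
    simp only [sig, W, Set.mem_setOf_eq] at h
    rw [Equiv.symm_apply_apply] at h
    exact h

end Groth.Agent.S7560
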