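import Groth.Statements.S7561
-- import your own Groth.Agent.* helpers here

set_option autoImplicit false
universe u
open PtTop

namespace Groth.Agent.S7561

open TopologicalSpace in
theorem main {X : Type u} [TopologicalSpace X] [NoetherianSpace X] (Z : Closeds X) :
    ∀ F : Set (Set X), F.Finite → (∀ A ∈ F, IsClosed A) →
    ∃ S : Set (Set X), S.Finite ∧ (∀ s ∈ S, IsLocallyClosed s) ∧ (∀ s ∈ S, s ⊆ (Z : Set X)) ∧
      ⋃₀ S = (Z : Set X) ∧ S.Pairwise Disjoint ∧ (∀ A ∈ F, ∀ s ∈ S, s ⊆ A ∨ Disjoint s A) ∧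
      (∀ t ∈ S, ∀ s ∈ S, s ⊆ closure t ∨ Disjoint s (closure t)) := by
  apply wellFounded_lt.induction Z; clear Z
  intro Z ih F hFfin hF
  rcases (Z : Set X).eq_empty_or_nonempty with h0 | hne
  · exact ⟨∅, Set.finite_empty, by simp, by simp, by simp [h0], by simp, by simp, by simp⟩
  obtain ⟨C, hCfin, hCc, hCi, hZ⟩ := NoetherianSpace.exists_finite_set_isClosed_irreducible Z.isClosed
  have hCne : C.Nonempty := by
    rcases C.eq_empty_or_nonempty with rfl | h
    · simp [hZ] at hne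
    · exact h
  obtain ⟨Z₁, hZ₁, hmax⟩ := hCfin.exists_maximal hCne
  let bad : Set (Set X) := {A | (A ∈ C ∨ A ∈ F) ∧ ¬ Z₁ ⊆ A}
  have hbadfin : bad.Finite := (hCfin.union hFfin).subset fun A hA => hA.1
  have hbadc : IsClosed (⋃₀ bad) := by
    rw [Set.sUnion_eq_biUnion]
    exact hbadfin.isClosed_biUnion fun A hA => hA.1.elim (hCc A) (hF A)
  let V := Z₁ \ ⋃₀ bad
  have hVne : V.Nonempty := by
    by_contra h
    rw [Set.not_nonempty_iff_eq_empty, Set.sdiff_eq_empty] at h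
    obtain ⟨A, hA, hA'⟩ := isIrreducible_iff_sUnion_isClosed.1 (hCi _ hZ₁) hbadfin.toFinset
      (fun A hA => ((hbadfin.mem_toFinset.1 hA).1).elim (hCc A) (hF A)) (by simpa using h)
    exact (hbadfin.mem_toFinset.1 hA).2 hA'
  have hVcl : closure V = Z₁ := by
    refine Set.Subset.antisymm (closure_minimal Set.sdiff_subset (hCc _ hZ₁)) ?_
    exact subset_closure_inter_of_isPreirreducible_of_isOpen (hCi _ hZ₁).isPreirreducible
      hbadc.isOpen_compl hVne
  have hVZ : V ⊆ (Z : Set X) := hZ ▸ fun x hx => ⟨Z₁, hZ₁, hx.1⟩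
  have hrest : (Z : Set X) \ V = (Z : Set X) ∩ ⋃₀ bad := by
    ext x
    refine ⟨fun ⟨hx, hxV⟩ => ⟨hx, ?_⟩, fun ⟨hx, hxb⟩ => ⟨hx, fun h => h.2 hxb⟩⟩
    obtain ⟨T, hT, hxT⟩ := (hZ ▸ hx : x ∈ ⋃₀ C)
    by_contra hb
    by_cases hT' : Z₁ ⊆ T
    · exact hxV ⟨(hmax hT hT') hxT, hb⟩
    · exact hb ⟨T, ⟨Or.inl hT, hT'⟩, hxT⟩
  let Z' : Closeds X := ⟨(Z : Set X) \ V, hrest ▸ Z.isClosed.inter hbadc⟩
  have hlt : Z' < Z := by
    obtain ⟨v, hv⟩ := hVne
    exact lt_of_le_not_ge (show ((Z : Set X) \ V) ⊆ Z from Set.sdiff_subset)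
      fun h => ((h : (Z : Set X) ⊆ (Z : Set X) \ V) (hVZ hv)).2 hv
  obtain ⟨S, hSfin, hSlc, hSsub, hScov, hSdisj, hSF, hSgood⟩ := ih Z' hlt (insert Z₁ F)
    (hFfin.insert _) (by rintro A (rfl | hA); exacts [hCc _ hZ₁, hF A hA])
  refine ⟨insert V S, hSfin.insert _, ?_, ?_, ?_, ?_, ?_, ?_⟩
  · rintro s (rfl | hs)
    · exact ⟨_, _, hbadc.isOpen_compl, hCc _ hZ₁, Set.sdiff_eq_compl_inter⟩
    · exact hSlc s hs
  · rintro s (rfl | hs)
    · exact hVZ
    · exact (hSsub s hs).trans Set.sdiff_subset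
  · rw [Set.sUnion_insert, hScov]
    exact Set.union_sdiff_cancel hVZ
  · refine hSdisj.insert fun s hs _ => ?_
    have : Disjoint V s := Set.disjoint_left.2 fun x hx hxs => (hSsub s hs hxs).2 hx
    exact ⟨this, this.symm⟩
  · rintro A hA s (rfl | hs)
    · by_cases h : Z₁ ⊆ A
      · exact Or.inl (Set.sdiff_subset.trans h)
      · exact Or.inr (Set.disjoint_left.2 fun x hx hxA => hx.2 ⟨A, ⟨Or.inr hA, h⟩, hxA⟩)
    · exact hSF A (Or.inr hA) s hs
  · rintro t (rfl | ht) s hs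
    · rw [hVcl]
      rcases hs with rfl | hs
      · exact Or.inl Set.sdiff_subset
      · exact hSF Z₁ (Or.inl rfl) s hs
    · rcases hs with rfl | hs
      · exact Or.inr (Set.disjoint_left.2 fun x hx hxc =>
          ((closure_minimal (hSsub t ht) Z'.isClosed) hxc).2 hx)
      · exact hSgood t ht s hs


/-- Let X be a Noetherian topological space and X = ∐ P_k a finite partition into locally closed parts.
Then it is refined by a finite good stratification: a finite partition X = ∐ S_i into locally closed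
strata such that S_i ∩ closure(S_j) ≠ ∅ implies S_i ⊆ closure(S_j), with every P_k a union of
strata. -/
theorem result {X : Type u} [TopologicalSpace X]
    [TopologicalSpace.NoetherianSpace X]
    {n : ℕ} (P : Fin n → Set X) (hP : ∀ k, IsLocallyClosed (P k)) (hcov : ⋃ k, P k = Set.univ)
    (hdisj : ∀ k k', k ≠ k' → Disjoint (P k) (P k')) :
    ∃ (m : ℕ) (S : Fin m → Set X),
      (∀ i, IsLocallyClosed (S i)) ∧ (⋃ i, S i = Set.univ) ∧ (∀ i j, i ≠ j → Disjoint (S i) (S j)) ∧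
      (∀ i j, (S i ∩ closure (S j)).Nonempty → S i ⊆ closure (S j)) ∧
      (∀ i k, (S i ∩ P k).Nonempty → S i ⊆ P k) := by
  classical
  let A : Fin n × Bool → Set X := fun k =>
    if k.2 then closure (P k.1) else closure (P k.1) \ P k.1
  have hA : ∀ k, IsClosed (A k) := by
    rintro ⟨k, _ | _⟩
    · have := (hP k).isOpen_coborder
      rw [coborder, isOpen_compl_iff] at this
      exact this
    · exact isClosed_closure
  obtain ⟨𝒮, hfin, hlc, -, hcov', hdisj', hF, hgood⟩ := main (⊤ : TopologicalSpace.Closeds X)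
    (Set.range A) (Set.finite_range A) (by rintro _ ⟨k, rfl⟩; exact hA k)
  obtain ⟨m, S, hS, rfl⟩ := hfin.fin_param
  have hcov'' : ⋃ i, S i = Set.univ := by rw [← Set.sUnion_range]; exact hcov'
  refine ⟨m, S, fun i => hlc _ ⟨i, rfl⟩, hcov'', fun i j h => hdisj' ⟨i, rfl⟩ ⟨j, rfl⟩ (hS.ne h),
    fun i j h => ?_, ?_⟩
  · rcases hgood _ ⟨j, rfl⟩ _ ⟨i, rfl⟩ with h' | h'
    · exact h'
    · exact absurd h (Set.not_nonempty_iff_eq_empty.2 (Set.disjoint_iff_inter_eq_empty.1 h'))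
  · rintro i k ⟨x, hx, hxk⟩ y hy
    by_contra hyk
    rcases hF (A (k, true)) ⟨_, rfl⟩ _ ⟨i, rfl⟩ with h | h
    · rcases hF (A (k, false)) ⟨_, rfl⟩ _ ⟨i, rfl⟩ with h' | h'
      · exact (h' hx).2 hxk
      · exact Set.disjoint_left.1 h' hy ⟨h hy, hyk⟩
    · exact Set.disjoint_left.1 h hx (subset_closure hxk)

end Groth.Agent.S7561
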