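import Groth.Statements.S7563
open Set Filter Topology

set_option autoImplicit false
universe u
open PtTop

namespace Groth.Agent.S7563

/-- Let X be a topological space and X = X_1 ∪ … ∪ X_n with each X_i irreducible and closed and no X_i
contained in the union of the others. Then the irreducible components of X are precisely the sets
X_1, …, X_n. -/
theorem result {X : Type u} [TopologicalSpace X]
    {n : ℕ} (Z : Fin n → Set X) (hZ : ∀ i, IsIrreducible (Z i) ∧ IsClosed (Z i))
    (hcov : ⋃ i, Z i = Set.univ) (hirr : ∀ i, ¬ Z i ⊆ ⋃ j ∈ ({i}ᶜ : Set (Fin n)), Z j) :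
    irreducibleComponents X = Set.range Z := by
  have key : ∀ s : Set X, IsIrreducible s → ∃ i, s ⊆ Z i := by
    intro s hs
    classical
    obtain ⟨z, hz, hsz⟩ := isIrreducible_iff_sUnion_isClosed.1 hs (Finset.univ.image Z)
      (fun z hz => by
        obtain ⟨i, -, rfl⟩ := Finset.mem_image.1 hz
        exact (hZ i).2)
      (fun y _ => by
        obtain ⟨i, hi⟩ := mem_iUnion.1 (hcov.ge (mem_univ y))
        exact mem_sUnion.2 ⟨Z i, by simp, hi⟩)
    obtain ⟨i, -, rfl⟩ := Finset.mem_image.1 hz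
    exact ⟨i, hsz⟩
  ext s
  constructor
  · intro hs
    obtain ⟨i, hi⟩ := key s hs.1
    exact ⟨i, (hi.antisymm (hs.2 (hZ i).1 hi)).symm⟩
  · rintro ⟨i, rfl⟩
    refine ⟨(hZ i).1, fun s hs hle => ?_⟩
    obtain ⟨j, hj⟩ := key s hs
    rcases eq_or_ne i j with rfl | hne
    · exact hj
    · exact absurd (fun y hy => mem_iUnion₂.2 ⟨j, hne.symm, hj (hle hy)⟩) (hirr i)

end Groth.Agent.S7563
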