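import Groth.Statements.S7564
open Set Filter Topology

set_option autoImplicit false
universe u
open PtTop

namespace Groth.Agent.S7564

/-- For a continuous surjection f : X → Y, if X has finitely many irreducible components, say n of them,
then Y has at most n irreducible components. -/
theorem result {X Y : Type u} [TopologicalSpace X] [TopologicalSpace Y]
    (f : X → Y) (hf : Continuous f) (hs : Function.Surjective f) (hfin : (irreducibleComponents X).Finite) :
    (irreducibleComponents Y).Finite ∧ (irreducibleComponents Y).ncard ≤ (irreducibleComponents X).ncard := by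
  classical
  let g : Set X → Set Y := fun s => closure (f '' s)
  have hsub : irreducibleComponents Y ⊆ g '' irreducibleComponents X := by
    intro C hC
    obtain ⟨z, hz, hCz⟩ := isIrreducible_iff_sUnion_isClosed.1 hC.1 (hfin.toFinset.image g)
      (fun z hz => by
        obtain ⟨s, -, rfl⟩ := Finset.mem_image.1 hz
        exact isClosed_closure)
      (fun y _ => by
        obtain ⟨x, rfl⟩ := hs y
        exact mem_sUnion.2 ⟨g (irreducibleComponent x),
          by simp only [Finset.coe_image, Finite.coe_toFinset]
             exact mem_image_of_mem g (irreducibleComponent_mem_irreducibleComponents x),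
          subset_closure ⟨x, mem_irreducibleComponent, rfl⟩⟩)
    obtain ⟨s, hsmem, rfl⟩ := Finset.mem_image.1 hz
    have hs' : IsIrreducible s := ((hfin.mem_toFinset).1 hsmem).1
    exact ⟨s, hfin.mem_toFinset.1 hsmem, (hCz.antisymm (hC.2 ((hs'.image f hf.continuousOn).closure) hCz)).symm⟩
  exact ⟨(hfin.image g).subset hsub,
    (ncard_le_ncard hsub (hfin.image g)).trans (ncard_image_le hfin)⟩

end Groth.Agent.S7564
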