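import Groth.Statements.S7565
open Set Filter Topology

set_option autoImplicit false
universe u
open PtTop

namespace Groth.Agent.S7565

/-- Let f : X → Y be a continuous open map of topological spaces and assume every point of X has a
Noetherian neighbourhood. Then every point of f(X) (with the induced topology) has a Noetherian
neighbourhood. The published statement also asserts that a continuous image of a Noetherian space is
Noetherian; this row states the part about open maps and locally Noetherian spaces. -/
theorem result {X Y : Type u} [TopologicalSpace X] [TopologicalSpace Y]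
    (f : X → Y) (hf : Continuous f) (hfo : IsOpenMap f)
    (hX : ∀ x : X, ∃ E ∈ nhds x, TopologicalSpace.NoetherianSpace E) :
    ∀ y : Set.range f, ∃ E : Set (Set.range f), E ∈ nhds y ∧ TopologicalSpace.NoetherianSpace E := by
  rintro ⟨y, x, rfl⟩
  obtain ⟨E, hE, hN⟩ := hX x
  refine ⟨range (fun e : E => (⟨f e, e, rfl⟩ : range f)), ?_,
    TopologicalSpace.NoetherianSpace.range _ ((hf.comp continuous_subtype_val).subtype_mk _)⟩
  refine mem_of_superset (preimage_mem_comap (hfo.image_mem_nhds hE) |> fun h => (nhds_subtype (range f) ⟨f x, x, rfl⟩).symm ▸ h) ?_
  rintro z ⟨e, he, hez⟩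
  exact ⟨⟨e, he⟩, Subtype.ext hez⟩

end Groth.Agent.S7565
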