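import Groth.Statements.S7567
import Groth.Agent.S7566

open Set Topology

set_option autoImplicit false
universe u
open PtTop

namespace Groth.Agent.S7567

/-- Let X be a quasi-compact topological space whose quasi-compact opens form a basis, any two of them
meeting in a quasi-compact set. For a subset T ⊆ X these two conditions are equivalent: (a) T can be
written as an intersection of clopen subsets of X; (b) T is closed and is a union of connected
components of X. -/
theorem result {X : Type u} [TopologicalSpace X]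
    [CompactSpace X] [PrespectralSpace X] [QuasiSeparatedSpace X] (T : Set X) :
    (∃ S : Set (Set X), (∀ Z ∈ S, IsClopen Z) ∧ T = ⋂₀ S) ↔
      (IsClosed T ∧ ∀ x ∈ T, connectedComponent x ⊆ T) := by
  constructor
  · rintro ⟨S, hS, rfl⟩
    exact ⟨isClosed_sInter fun Z hZ => (hS Z hZ).1, fun x hx y hy Z hZ =>
      (hS Z hZ).connectedComponent_subset (hx Z hZ) hy⟩
  · rintro ⟨hT, hT'⟩
    refine ⟨{Z | IsClopen Z ∧ T ⊆ Z}, fun Z hZ => hZ.1,
      Subset.antisymm (fun x hx Z hZ => hZ.2 hx) fun y hy => by_contra fun hyT => ?_⟩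
    let ι := {Z : Set X // IsClopen Z ∧ y ∈ Z}
    have hne : Nonempty ι := ⟨⟨univ, isClopen_univ, mem_univ y⟩⟩
    have hcc := Groth.Agent.S7566.result y
    rw [sInter_eq_iInter] at hcc
    have hdisj : T ∩ ⋂ Z : ι, Z.1 = ∅ := by
      rw [eq_empty_iff_forall_notMem]
      rintro z ⟨hzT, hz⟩
      have hzc : z ∈ connectedComponent y := hcc.ge hz
      exact hyT (hT' z hzT (connectedComponent_eq hzc ▸ mem_connectedComponent))
    obtain ⟨Z, hZ⟩ := hT.isCompact.elim_directed_family_closed _ (fun Z : ι => Z.2.1.1) hdisj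
      (fun Z Z' => ⟨⟨Z.1 ∩ Z'.1, Z.2.1.inter Z'.2.1, Z.2.2, Z'.2.2⟩, inter_subset_left, inter_subset_right⟩)
    exact hy Z.1ᶜ ⟨Z.2.1.compl, fun t ht htZ => hZ.le ⟨ht, htZ⟩⟩ Z.2.2

end Groth.Agent.S7567
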