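import Groth.Statements.S7569
import Groth.Agent.PtTop.Shrink

open Set Filter Topology Groth.Agent.PtTop

set_option autoImplicit false
universe u
open PtTop

namespace Groth.Agent.S7569

/-- Let X be a Hausdorff, locally quasi-compact space and Z ⊆ X a quasi-compact subset. Let p ≥ 0, let
U_i ⊆ X be opens with Z ⊆ ⋃ U_i, and for every (p+1)-tuple (i_0, …, i_p) let W_{i_0…i_p} ⊆ U_{i_0} ∩
… ∩ U_{i_p} be an open with W_{i_0…i_p} ∩ Z = U_{i_0} ∩ … ∩ U_{i_p} ∩ Z. Then there are opens V_i ⊆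
X with Z ⊆ ⋃ V_i, closure(V_i) ⊆ U_i for all i, and V_{i_0} ∩ … ∩ V_{i_p} ⊆ W_{i_0…i_p} for all
(p+1)-tuples. -/
theorem result {X : Type u} [TopologicalSpace X]
    [T2Space X] [LocallyCompactSpace X] (Z : Set X) (hZ : IsCompact Z)
    {ι : Type u} (U : ι → Set X) (hU : ∀ i, IsOpen (U i)) (hcov : Z ⊆ ⋃ i, U i) (p : ℕ)
    (W : (Fin (p + 1) → ι) → Set X) (hWo : ∀ t, IsOpen (W t)) (hWU : ∀ t, W t ⊆ ⋂ l, U (t l))
    (hWZ : ∀ t, W t ∩ Z = (⋂ l, U (t l)) ∩ Z) :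
    ∃ V : ι → Set X, (∀ i, IsOpen (V i)) ∧ (Z ⊆ ⋃ i, V i) ∧ (∀ i, closure (V i) ⊆ U i) ∧
      (∀ t : Fin (p + 1) → ι, (⋂ l, V (t l)) ⊆ W t) := by
  obtain ⟨V, h1, h2, h3, h4, h5, -⟩ := RelT2.exists_lifting_cover (Z := Z)
    (fun z _ z' _ hne => disjoint_nhds_nhds.2 hne) hZ U hU hcov p W hWo hWZ
    (fun _ => univ) (fun _ _ => univ_mem)
  have key : ∀ i, ∃ P : Set X, IsOpen P ∧ closure (V i) ∩ Z ⊆ P ∧ closure P ⊆ U i := fun i => by
    obtain ⟨K, hK, hK1, hK2⟩ := exists_compact_between (hZ.inter_left isClosed_closure) (hU i) (h4 i)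
    exact ⟨interior K, isOpen_interior, hK1, (hK.isClosed.closure_subset_iff.2 interior_subset).trans hK2⟩
  choose P hPo hPZ hPU using key
  refine ⟨fun i => V i ∩ P i, fun i => (h1 i).inter (hPo i), fun x hx => ?_,
    fun i => (closure_mono inter_subset_right).trans (hPU i),
    fun t x hx => h5 t (mem_iInter.2 fun l => (mem_iInter.1 hx l).1)⟩
  obtain ⟨i, hi⟩ := mem_iUnion.1 (h2 hx)
  exact mem_iUnion.2 ⟨i, hi, hPZ i ⟨subset_closure hi, hx⟩⟩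

end Groth.Agent.S7569
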