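import Groth.Statements.S7571
import Mathlib.Topology.Category.TopCat.Limits.Cofiltered
open Set Filter Topology CategoryTheory Limits

set_option autoImplicit false
universe u
open CategoryTheory CategoryTheory.Limits
open PtTop

namespace Groth.Agent.S7571

/-- Let j ↦ X_j be a diagram of topological spaces over a cofiltered category with limit X and
projections f_j. (1) Every open of X is a union of subsets of the form f_j⁻¹(U_j) with U_j ⊆ X_j
open. (2) Every quasi-compact open of X equals f_i⁻¹(U_i) for some i and some open U_i ⊆ X_i. -/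
theorem result {J : Type u} [SmallCategory J] [IsCofiltered J]
    (F : J ⥤ TopCat.{u}) (c : Cone F) (hc : IsLimit c) :
    (∀ W : Set c.pt, IsOpen W →
      ∃ S : Set (Σ j, Set (F.obj j)), (∀ s ∈ S, IsOpen s.2) ∧ W = ⋃ s ∈ S, c.π.app s.1 ⁻¹' s.2) ∧
    (∀ W : Set c.pt, IsOpen W → IsCompact W →
      ∃ (i : J) (Ui : Set (F.obj i)), IsOpen Ui ∧ W = c.π.app i ⁻¹' Ui) := by
  classical
  have hB := TopCat.isTopologicalBasis_cofiltered_limit.{u, u} F c hc (fun j => {U | IsOpen U})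
    (fun j => TopologicalSpace.isTopologicalBasis_opens) (fun j => isOpen_univ)
    (fun j U₁ U₂ h₁ h₂ => h₁.inter h₂) (fun i j f U hU => hU.preimage (F.map f).hom.continuous)
  have h1 : ∀ W : Set c.pt, IsOpen W → ∀ x ∈ W, ∃ (j : J) (U : Set (F.obj j)),
      IsOpen U ∧ c.π.app j x ∈ U ∧ c.π.app j ⁻¹' U ⊆ W := by
    intro W hW x hx
    obtain ⟨_, ⟨j, U, hU, rfl⟩, hxU, hsub⟩ := hB.exists_subset_of_mem_open hx hW
    exact ⟨j, U, hU, hxU, hsub⟩
  refine ⟨fun W hW => ⟨{s | IsOpen s.2 ∧ c.π.app s.1 ⁻¹' s.2 ⊆ W}, fun s hs => hs.1, ?_⟩,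
    fun W hW hWc => ?_⟩
  · ext x
    simp only [mem_iUnion]
    refine ⟨fun hx => ?_, fun ⟨s, hs, hxs⟩ => hs.2 hxs⟩
    obtain ⟨j, U, hU, hxU, hsub⟩ := h1 W hW x hx
    exact ⟨⟨j, U⟩, ⟨hU, hsub⟩, hxU⟩
  · choose j U hUo hxU hsub using h1 W hW
    obtain ⟨t, ht⟩ := hWc.elim_finite_subcover (fun x : W => c.π.app (j x x.2) ⁻¹' U x x.2)
      (fun x => (hUo x x.2).preimage (c.π.app _).hom.continuous)
      (fun x hx => mem_iUnion.2 ⟨⟨x, hx⟩, hxU x hx⟩)
    obtain ⟨i, hi⟩ := IsCofiltered.inf_objs_exists (t.image fun x : W => j x x.2)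
    have φ' : ∀ x : t, i ⟶ j x.1 x.1.2 := fun x => (hi (Finset.mem_image_of_mem _ x.2)).some
    refine ⟨i, ⋃ x : t, F.map (φ' x) ⁻¹' U x.1 x.1.2,
      isOpen_iUnion fun x => (hUo _ _).preimage (F.map _).hom.continuous, ?_⟩
    ext y
    simp only [mem_preimage, mem_iUnion]
    have e : ∀ x : t, F.map (φ' x) (c.π.app i y) = c.π.app (j x.1 x.1.2) y := fun x => by
      rw [← ConcreteCategory.comp_apply, c.w]
    refine ⟨fun hy => ?_, fun ⟨x, hx⟩ => hsub x.1 x.1.2 (by rw [mem_preimage, ← e x]; exact hx)⟩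
    obtain ⟨x, hxt, hxy⟩ := mem_iUnion₂.1 (ht hy)
    exact ⟨⟨x, hxt⟩, by rw [e]; exact hxy⟩

end Groth.Agent.S7571
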