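import Groth.Statements.S7572
import Mathlib
import Groth.Agent.ClosedPush.Sets

set_option autoImplicit false
universe u
open CategoryTheory TopologicalSpace
open ShSp

namespace Groth.Agent.S7572

/-- Let i : Z → X be the inclusion of a closed subset (a closed embedding) and F a sheaf of sets on Z.
Then (i_* F)_x is a one-point set for x ∉ Z, and the counit i⁻¹ i_* F → F is an isomorphism (whence
(i_* F)_{i(z)} = F_z). -/
theorem result {Z X : TopCat.{u}} (i : Z ⟶ X) (hi : Topology.IsClosedEmbedding i)
    (F : Z.Sheaf (Type u)) :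
    (∀ x : X, x ∉ Set.range i →
      Nonempty (Unique (((TopCat.Sheaf.pushforward (Type u) i).obj F).presheaf.stalk x))) ∧
    IsIso ((TopCat.Sheaf.pullbackPushforwardAdjunction (Type u) i).counit.app F) := by
  refine ⟨fun x hx => ?_, ?_⟩
  · let U : TopologicalSpace.Opens X := ⟨(Set.range i)ᶜ, hi.isClosed_range.isOpen_compl⟩
    have hsec : ∀ W : TopologicalSpace.Opens X, W ≤ U →
        Nonempty (Unique (((TopCat.Sheaf.pushforward (Type u) i).obj F).obj.obj (Opposite.op W))) := by
      intro W hW
      have he : (TopologicalSpace.Opens.map i).obj W = ⊥ := bot_unique fun z hz => (hW hz ⟨z, rfl⟩).elim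
      change Nonempty (Unique (F.obj.obj (Opposite.op ((TopologicalSpace.Opens.map i).obj W))))
      rw [he]
      exact ⟨((Limits.Types.isTerminalEquivUnique _).toFun (TopCat.Sheaf.isTerminalOfEmpty F))⟩
    haveI : Subsingleton (((TopCat.Sheaf.pushforward (Type u) i).obj F).presheaf.stalk x) := ⟨fun a b => by
      obtain ⟨V, hV, s, rfl⟩ := TopCat.Presheaf.germ_exist ((TopCat.Sheaf.pushforward (Type u) i).obj F).presheaf a
      obtain ⟨V', hV', t, rfl⟩ := TopCat.Presheaf.germ_exist ((TopCat.Sheaf.pushforward (Type u) i).obj F).presheaf b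
      obtain ⟨h1⟩ := hsec (U ⊓ V ⊓ V') (inf_le_left.trans inf_le_left)
      haveI := h1
      exact TopCat.Presheaf.germ_ext _ (U ⊓ V ⊓ V') ⟨⟨hx, hV⟩, hV'⟩
        (homOfLE (inf_le_left.trans inf_le_right)) (homOfLE inf_le_right) (Subsingleton.elim _ _)⟩
    obtain ⟨hu⟩ := hsec U le_rfl
    exact ⟨uniqueOfSubsingleton (((TopCat.Sheaf.pushforward (Type u) i).obj F).presheaf.germ U x hx hu.default)⟩
  · haveI := Groth.Agent.ClosedPushSet.isIso_counit hi.isEmbedding.isInducing
    infer_instance

end Groth.Agent.S7572
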