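import Groth.Statements.S7573
import Mathlib
import Groth.Agent.ClosedPush.Sets
import Groth.Agent.S7572
-- import your own Groth.Agent.* helpers here

set_option autoImplicit false
set_option backward.isDefEq.respectTransparency false
set_option backward.isDefEq.respectTransparency.types false
universe u
open CategoryTheory TopologicalSpace
open ShSp

namespace Groth.Agent.S7573

open Opposite in
theorem isIso_stalk {Z X : TopCat.{u}} (i : Z ⟶ X) {G H : X.Sheaf (Type u)} (φ : G ⟶ H)
    [IsIso ((TopCat.Sheaf.pullback (Type u) i).map φ)] (z : Z) :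
    IsIso ((TopCat.Presheaf.stalkFunctor (Type u) (i z)).map φ.hom) := by
  let a := (TopCat.Presheaf.pullback (Type u) i).map φ.hom
  haveI hs : IsIso ((presheafToSheaf (Opens.grothendieckTopology Z) (Type u)).map a) :=
    (NatIso.isIso_map_iff (TopCat.Sheaf.pullbackIso (Type u) i) φ).1 inferInstance
  haveI hP : IsIso ((TopCat.Presheaf.stalkFunctor (Type u) z).map a) := by
    haveI h1 := TopCat.Presheaf.stalkFunctor_map_unit_toSheafify_isIso z (Type u)
      ((TopCat.Presheaf.pullback (Type u) i).obj G.obj)
    haveI h2 := TopCat.Presheaf.stalkFunctor_map_unit_toSheafify_isIso z (Type u)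
      ((TopCat.Presheaf.pullback (Type u) i).obj H.obj)
    have hn := congrArg ((TopCat.Presheaf.stalkFunctor (Type u) z).map)
      (CategoryTheory.toSheafify_naturality (Opens.grothendieckTopology Z) a)
    rw [Functor.map_comp, Functor.map_comp] at hn
    haveI : IsIso (sheafifyMap (Opens.grothendieckTopology Z) a) :=
      inferInstanceAs (IsIso ((sheafToPresheaf _ _).map
        ((presheafToSheaf (Opens.grothendieckTopology Z) (Type u)).map a)))
    haveI : IsIso ((TopCat.Presheaf.stalkFunctor (Type u) z).map a ≫
        (TopCat.Presheaf.stalkFunctor (Type u) z).map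
          (CategoryTheory.toSheafify (Opens.grothendieckTopology Z) _)) := by
      rw [hn]; infer_instance
    exact IsIso.of_isIso_comp_right _ ((TopCat.Presheaf.stalkFunctor (Type u) z).map
          (CategoryTheory.toSheafify (Opens.grothendieckTopology Z) _))
  have hnat : (TopCat.Presheaf.stalkFunctor (Type u) (i z)).map φ.hom ≫
      TopCat.Presheaf.stalkPullbackHom (Type u) i H.obj z =
      TopCat.Presheaf.stalkPullbackHom (Type u) i G.obj z ≫
        (TopCat.Presheaf.stalkFunctor (Type u) z).map a := by
    refine TopCat.Presheaf.stalk_hom_ext _ fun U hU => ?_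
    rw [TopCat.Presheaf.stalkFunctor_map_germ_assoc, TopCat.Presheaf.germ_stalkPullbackHom,
      TopCat.Presheaf.germ_stalkPullbackHom_assoc, TopCat.Presheaf.stalkFunctor_map_germ]
    have := NatTrans.congr_app ((TopCat.Presheaf.pullbackPushforwardAdjunction (Type u) i).unit.naturality φ.hom) (op U)
    simp only [Functor.id_map, Functor.comp_map, NatTrans.comp_app] at this
    rw [← Category.assoc, ← Category.assoc]
    exact congrArg (· ≫ TopCat.Presheaf.germ _ _ z hU) this
  haveI : IsIso (TopCat.Presheaf.stalkPullbackHom (Type u) i H.obj z) :=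
    inferInstanceAs (IsIso (TopCat.Presheaf.stalkPullbackIso (Type u) i H.obj z).hom)
  haveI : IsIso (TopCat.Presheaf.stalkPullbackHom (Type u) i G.obj z) :=
    inferInstanceAs (IsIso (TopCat.Presheaf.stalkPullbackIso (Type u) i G.obj z).hom)
  haveI : IsIso ((TopCat.Presheaf.stalkFunctor (Type u) (i z)).map φ.hom ≫
      TopCat.Presheaf.stalkPullbackHom (Type u) i H.obj z) := by rw [hnat]; infer_instance
  exact IsIso.of_isIso_comp_right _ (TopCat.Presheaf.stalkPullbackHom (Type u) i H.obj z)

/-- Let i : Z → X be the inclusion of a closed subset (a closed embedding). Then i_* : Sh(Z) → Sh(X) on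
sheaves of sets is fully faithful, and its essential image consists exactly of the sheaves G whose
stalk G_x is a one-point set for every x ∈ X not in Z. -/
theorem result {Z X : TopCat.{u}} (i : Z ⟶ X) (hi : Topology.IsClosedEmbedding i) :
    (TopCat.Sheaf.pushforward (Type u) i).Full ∧ (TopCat.Sheaf.pushforward (Type u) i).Faithful ∧
    ∀ G : X.Sheaf (Type u), (TopCat.Sheaf.pushforward (Type u) i).essImage G ↔
      ∀ x : X, x ∉ Set.range i → Nonempty (Unique (G.presheaf.stalk x)) := by
  haveI hfa := Groth.Agent.ClosedPushSet.push_faithful hi.isEmbedding.isInducing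
  haveI hfu := Groth.Agent.ClosedPushSet.push_full hi.isEmbedding.isInducing
  refine ⟨hfu, hfa, fun G => ⟨?_, fun hG => ?_⟩⟩
  · rintro ⟨F, ⟨e⟩⟩ x hx
    obtain ⟨hu⟩ := (Groth.Agent.S7572.result i hi F).1 x hx
    exact ⟨@Equiv.unique _ _ hu ((TopCat.Presheaf.stalkFunctor (Type u) x).mapIso
      ((sheafToPresheaf _ _).mapIso e)).toEquiv.symm⟩
  · let adj := TopCat.Sheaf.pullbackPushforwardAdjunction (Type u) i
    haveI : IsIso ((TopCat.Sheaf.pullback (Type u) i).map (adj.unit.app G)) := by
      haveI hc := (Groth.Agent.S7572.result i hi ((TopCat.Sheaf.pullback (Type u) i).obj G)).2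
      have h := adj.left_triangle_components G
      haveI : IsIso ((TopCat.Sheaf.pullback (Type u) i).map (adj.unit.app G) ≫
          adj.counit.app ((TopCat.Sheaf.pullback (Type u) i).obj G)) := by rw [h]; exact IsIso.id _
      exact IsIso.of_isIso_comp_right _ (adj.counit.app ((TopCat.Sheaf.pullback (Type u) i).obj G))
    haveI : ∀ x : X, IsIso ((TopCat.Presheaf.stalkFunctor (Type u) x).map (adj.unit.app G).hom) := by
      intro x
      by_cases hx : x ∈ Set.range i
      · obtain ⟨z, rfl⟩ := hx
        exact isIso_stalk i (adj.unit.app G) z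
      · obtain ⟨h1⟩ := hG x hx
        obtain ⟨h2⟩ := (Groth.Agent.S7572.result i hi ((TopCat.Sheaf.pullback (Type u) i).obj G)).1 x hx
        rw [isIso_iff_bijective]
        exact ⟨fun a b _ => @Subsingleton.elim _ (@Unique.instSubsingleton _ h1) a b,
          fun b => ⟨h1.default, @Subsingleton.elim _ (@Unique.instSubsingleton _ h2) _ b⟩⟩
    haveI : IsIso (adj.unit.app G) := TopCat.Presheaf.isIso_of_stalkFunctor_map_iso _
    exact ⟨_, ⟨(asIso (adj.unit.app G)).symm⟩⟩

end Groth.Agent.S7573
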