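import Groth.Statements.S7575
import Mathlib.CategoryTheory.Sites.LocallyInjective
import Mathlib.CategoryTheory.Sites.LocallySurjective
import Mathlib.CategoryTheory.Sites.Limits
import Mathlib.CategoryTheory.Sites.LeftExact
import Mathlib.CategoryTheory.Limits.Types.Filtered
import Mathlib.Topology.Sheaves.SheafCondition.UniqueGluing

set_option autoImplicit false
universe u
open CategoryTheory CategoryTheory.Limits TopologicalSpace Opposite
open ShSp
set_option linter.unusedSectionVars false
set_option backward.isDefEq.respectTransparency false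

namespace Groth.Agent.S7575

variable {X : TopCat.{u}} {J : Type u} [Preorder J] [Nonempty J] [IsDirected J (· ≤ ·)]

theorem isFiltered_J : IsFiltered J := by
  haveI : IsFilteredOrEmpty J := inferInstance
  exact IsFiltered.mk

variable (F : J ⥤ X.Sheaf (Type u))

noncomputable abbrev Pre : J ⥤ (Opens X)ᵒᵖ ⥤ Type u := F ⋙ TopCat.Sheaf.forget (Type u) X

abbrev res (j : J) {V W : Opens X} (h : W ≤ V) (s : (F.obj j).1.obj (op V)) :
    (F.obj j).1.obj (op W) := (F.obj j).1.map (homOfLE h).op s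

abbrev trans {i j : J} (h : i ≤ j) {V : Opens X} (s : (F.obj i).1.obj (op V)) :
    (F.obj j).1.obj (op V) := (F.map (homOfLE h)).1.app (op V) s

theorem res_trans {i j : J} (h : i ≤ j) {V W : Opens X} (hW : W ≤ V)
    (s : (F.obj i).1.obj (op V)) : res F j hW (trans F h s) = trans F h (res F i hW s) :=
  (congr_arg (fun f => f s) ((F.map (homOfLE h)).1.naturality (homOfLE hW).op)).symm

theorem trans_trans {i j k : J} (h : i ≤ j) (h' : j ≤ k) {V : Opens X}
    (s : (F.obj i).1.obj (op V)) : trans F h' (trans F h s) = trans F (h.trans h') s := by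
  have : F.map (homOfLE (h.trans h')) = F.map (homOfLE h) ≫ F.map (homOfLE h') := by
    rw [← F.map_comp]; rfl
  simp only [trans, this]
  rfl

theorem res_res {j : J} {V W W' : Opens X} (h : W ≤ V) (h' : W' ≤ W)
    (s : (F.obj j).1.obj (op V)) : res F j h' (res F j h s) = res F j (h'.trans h) s := by
  simp only [res]
  exact (congr_arg (fun f => f s) ((F.obj j).1.map_comp (homOfLE h).op (homOfLE h').op)).symm

variable {F} (c : Cocone F)

theorem ι_trans {i j : J} (h : i ≤ j) {V : Opens X} (s : (F.obj i).1.obj (op V)) :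
    (c.ι.app j).1.app (op V) (trans F h s) = (c.ι.app i).1.app (op V) s := by
  have := c.w (homOfLE h)
  conv_rhs => rw [← this]
  rfl

theorem ι_res {i : J} {V W : Opens X} (hW : W ≤ V) (s : (F.obj i).1.obj (op V)) :
    (c.ι.app i).1.app (op W) (res F i hW s) = c.pt.1.map (homOfLE hW).op ((c.ι.app i).1.app (op V) s) :=
  congr_arg (fun f => f s) ((c.ι.app i).1.naturality (homOfLE hW).op)

variable {c} (hc : IsColimit c)

/-- The comparison from the presheaf colimit to the sheaf colimit. -/
noncomputable def η : colimit (Pre F) ⟶ c.pt.1 :=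
  colimit.desc (Pre F) ((TopCat.Sheaf.forget (Type u) X).mapCocone c)

include hc in
theorem η_bij :
    Presheaf.IsLocallyInjective (Opens.grothendieckTopology X) (η (c := c)) ∧
    Presheaf.IsLocallySurjective (Opens.grothendieckTopology X) (η (c := c)) := by
  let T := Opens.grothendieckTopology X
  let E : Cocone (F ⋙ sheafToPresheaf T (Type u)) := colimit.cocone (Pre F)
  have hE : IsColimit E := colimit.isColimit (Pre F)
  let e := (Sheaf.isColimitSheafifyCocone E hE).coconePointUniqueUpToIso hc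
  have he : η (c := c) = CategoryTheory.toSheafify T (colimit (Pre F)) ≫ e.hom.hom := by
    apply colimit.hom_ext
    intro j
    rw [η, colimit.ι_desc]
    have h1 := IsColimit.comp_coconePointUniqueUpToIso_hom (Sheaf.isColimitSheafifyCocone E hE) hc j
    have h2 : ((Sheaf.sheafifyCocone E).ι.app j).hom ≫ e.hom.hom = (c.ι.app j).hom :=
      congrArg (fun f => f.hom) h1
    rw [Sheaf.sheafifyCocone_ι_app_val, Category.assoc] at h2
    exact h2.symm
  haveI : IsIso e.hom.hom := (sheafToPresheaf T (Type u)).map_isIso e.hom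
  rw [he]
  exact ⟨inferInstance, inferInstance⟩

include hc in
/-- Equal sections in the colimit are locally equal at a finite stage. -/
theorem locallyEq {i : J} {V : Opens X} (s t : (F.obj i).1.obj (op V))
    (h : (c.ι.app i).1.app (op V) s = (c.ι.app i).1.app (op V) t) :
    ∀ x ∈ V, ∃ (W : Opens X) (hW : W ≤ V) (j : J) (hij : i ≤ j),
      x ∈ W ∧ trans F hij (res F i hW s) = trans F hij (res F i hW t) := by
  haveI := isFiltered_J (J := J)
  haveI := (η_bij hc).1
  intro x hx
  let a := (colimit.ι (Pre F) i).app (op V) s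
  let b := (colimit.ι (Pre F) i).app (op V) t
  have key : ∀ r, (η (c := c)).app (op V) ((colimit.ι (Pre F) i).app (op V) r) =
      (c.ι.app i).1.app (op V) r := fun r => by
    exact congr_arg (fun f => f.app (op V) r)
      (colimit.ι_desc ((TopCat.Sheaf.forget (Type u) X).mapCocone c) i)
  have hab : (η (c := c)).app (op V) a = (η (c := c)).app (op V) b := by
    rw [key, key, h]
  have hS := Presheaf.equalizerSieve_mem (Opens.grothendieckTopology X) (η (c := c)) a b hab
  obtain ⟨W, hW, hWeq, hxW⟩ := hS x hx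
  have hW' : W ≤ V := hW.le
  have nat : ∀ r, (colimit (Pre F)).map hW.op ((colimit.ι (Pre F) i).app (op V) r) =
      (colimit.ι (Pre F) i).app (op W) (res F i hW' r) := fun r =>
    (congr_arg (fun f => f r) ((colimit.ι (Pre F) i).naturality hW.op)).symm
  have hWeq' : (colimit (Pre F)).map hW.op a = (colimit (Pre F)).map hW.op b := hWeq
  rw [nat, nat] at hWeq'
  have hcol := isColimitOfPreserves ((evaluation (Opens X)ᵒᵖ (Type u)).obj (op W))
    (colimit.isColimit (Pre F))
  obtain ⟨j, f, g, hfg⟩ := (Types.FilteredColimit.isColimit_eq_iff _ hcol).1 hWeq'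
  exact ⟨W, hW', j, f.le, hxW, hfg⟩

include hc in
/-- Every section of the colimit is locally a section of a finite stage. -/
theorem locallySurj {V : Opens X} (s : c.pt.1.obj (op V)) :
    ∀ x ∈ V, ∃ (W : Opens X) (hW : W ≤ V) (i : J) (t : (F.obj i).1.obj (op W)),
      x ∈ W ∧ (c.ι.app i).1.app (op W) t = c.pt.1.map (homOfLE hW).op s := by
  haveI := isFiltered_J (J := J)
  haveI := (η_bij hc).2
  intro x hx
  obtain ⟨W, hW, ⟨a, ha⟩, hxW⟩ :=
    Presheaf.imageSieve_mem (Opens.grothendieckTopology X) (η (c := c)) s x hx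
  obtain ⟨i, t, rfl⟩ := Types.jointly_surjective _ (isColimitOfPreserves
    ((evaluation (Opens X)ᵒᵖ (Type u)).obj (op W)) (colimit.isColimit (Pre F))) a
  refine ⟨W, hW.le, i, t, hxW, ?_⟩
  exact (congr_arg (fun f => f.app (op W) t)
      (colimit.ι_desc ((TopCat.Sheaf.forget (Type u) X).mapCocone c) i)).symm.trans ha

/-- Any finitely many indices have an upper bound. -/
theorem exists_ub {ι : Type*} [Finite ι] (f : ι → J) (i₀ : J) :
    ∃ k, i₀ ≤ k ∧ ∀ l, f l ≤ k := by
  classical
  haveI := Fintype.ofFinite ι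
  obtain ⟨k, hk⟩ := Finset.exists_le ((Finset.univ.image f) ∪ {i₀})
  exact ⟨k, hk _ (by simp), fun l => hk _ (by simp)⟩

abbrev MonoTrans (F : J ⥤ X.Sheaf (Type u)) : Prop :=
  ∀ (i j : J) (h : i ⟶ j) (V : Opens X), Function.Injective ((F.map h).1.app (op V))

include hc in
theorem inj_mono (hF : MonoTrans F) {i : J} {V : Opens X} (s t : (F.obj i).1.obj (op V))
    (h : (c.ι.app i).1.app (op V) s = (c.ι.app i).1.app (op V) t) : s = t := by
  choose W hW j hij hxW heq using fun x : V => locallyEq hc s t h x x.2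
  refine TopCat.Sheaf.eq_of_locally_eq' (F.obj i) W V (fun x => homOfLE (hW x)) ?_ s t
    fun x => hF i (j x) (homOfLE (hij x)) (W x) (heq x)
  intro x hx
  exact Opens.mem_iSup.2 ⟨⟨x, hx⟩, hxW _⟩

include hc in
theorem inj_compact {V : Opens X} (hV : IsCompact (V : Set X)) {i : J}
    (s t : (F.obj i).1.obj (op V))
    (h : (c.ι.app i).1.app (op V) s = (c.ι.app i).1.app (op V) t) :
    ∃ (k : J) (hik : i ≤ k), trans F hik s = trans F hik t := by
  choose W hW j hij hxW heq using fun x : V => locallyEq hc s t h x x.2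
  obtain ⟨T, hT⟩ := hV.elim_finite_subcover (fun x => (W x : Set X)) (fun x => (W x).2)
    (fun x hx => Set.mem_iUnion.2 ⟨⟨x, hx⟩, hxW _⟩)
  obtain ⟨k, hik, hk⟩ := exists_ub (fun l : T => j l) i
  refine ⟨k, hik, TopCat.Sheaf.eq_of_locally_eq' (F.obj k) (fun l : T => W l) V
    (fun l => homOfLE (hW l)) ?_ _ _ fun l => ?_⟩
  · intro x hx
    obtain ⟨l, hl, hxl⟩ := Set.mem_iUnion₂.1 (hT hx)
    exact Opens.mem_iSup.2 ⟨⟨l, hl⟩, hxl⟩
  · change res F k (hW l) (trans F hik s) = res F k (hW l) (trans F hik t)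
    rw [res_trans, res_trans, ← trans_trans F (hij l) (hk l), ← trans_trans F (hij l) (hk l), heq]

include hc in
/-- Gluing of finitely many local lifts. -/
theorem surj_core {U : Opens X} (s : c.pt.1.obj (op U)) {ι : Type} [Finite ι] (W : ι → Opens X)
    (hW : ∀ l, W l ≤ U) (hcov : U ≤ iSup W)
    (hlift : ∀ l, ∃ (i : J) (t : (F.obj i).1.obj (op (W l))),
      (c.ι.app i).1.app (op (W l)) t = c.pt.1.map (homOfLE (hW l)).op s)
    (hov : ∀ l m (k : J) (a b : (F.obj k).1.obj (op (W l ⊓ W m))),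
      (c.ι.app k).1.app (op (W l ⊓ W m)) a = (c.ι.app k).1.app (op (W l ⊓ W m)) b →
      ∃ (k' : J) (h : k ≤ k'), trans F h a = trans F h b) :
    ∃ (k : J) (r : (F.obj k).1.obj (op U)), (c.ι.app k).1.app (op U) r = s := by
  choose i t ht using hlift
  obtain ⟨k, -, hk⟩ := exists_ub i (Classical.arbitrary J)
  let t' : ∀ l, (F.obj k).1.obj (op (W l)) := fun l => trans F (hk l) (t l)
  have ht' : ∀ l, (c.ι.app k).1.app (op (W l)) (t' l) = c.pt.1.map (homOfLE (hW l)).op s :=
    fun l => (ι_trans c (hk l) (t l)).trans (ht l)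
  have hloc : ∀ p : ι × ι, ∃ (k' : J) (h : k ≤ k'),
      trans F h (res F k (inf_le_left : W p.1 ⊓ W p.2 ≤ _) (t' p.1)) =
      trans F h (res F k (inf_le_right : W p.1 ⊓ W p.2 ≤ _) (t' p.2)) := fun p => by
    apply hov
    rw [ι_res, ι_res, ht', ht', ← ConcreteCategory.comp_apply, ← c.pt.1.map_comp,
      ← ConcreteCategory.comp_apply, ← c.pt.1.map_comp]
    rfl
  choose k' hk' hk'eq using hloc
  obtain ⟨K, hkK, hK⟩ := exists_ub k' k
  let T : ∀ l, (F.obj K).1.obj (op (W l)) := fun l => trans F hkK (t' l)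
  obtain ⟨r, hr, -⟩ := TopCat.Sheaf.existsUnique_gluing' (F.obj K) W U (fun l => homOfLE (hW l))
    hcov T (fun l m => by
      change res F K inf_le_left (trans F hkK (t' l)) = res F K inf_le_right (trans F hkK (t' m))
      exact (res_trans F hkK _ (t' l)).trans
        ((((trans_trans F (hk' (l, m)) (hK (l, m)) _).symm.trans (congr_arg _ (hk'eq (l, m)))).trans
          (trans_trans F (hk' (l, m)) (hK (l, m)) _)).trans (res_trans F hkK _ (t' m)).symm))
  refine ⟨K, r, TopCat.Sheaf.eq_of_locally_eq' c.pt W U (fun l => homOfLE (hW l)) hcov _ _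
    fun l => ?_⟩
  rw [← ι_res c (hW l) r, show res F K (hW l) r = T l from hr l]
  exact (ι_trans c hkK (t' l)).trans (ht' l)

end Groth.Agent.S7575

namespace Groth.Agent.S7575

/-- Let X be a topological space, I a directed set, (F_i) a system of sheaves of sets on X over I with
colimit F (in sheaves), U ⊆ X open, and Ψ : colim_i F_i(U) → F(U) the canonical map. (1) If all
transition maps F_i → F_{i'} are injective (on all sections) then Ψ is injective. (2)
Quasi-compactness of U alone already makes Ψ injective. (3) When U is quasi-compact and every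
transition map is injective, Ψ is bijective. (4) If every open covering of U can be refined by a
finite open covering U = U_1 ∪ … ∪ U_m with all U_j ∩ U_{j'} quasi-compact, then Ψ is bijective. -/
theorem result {X : TopCat.{u}} {J : Type u} [Preorder J] [Nonempty J] [IsDirected J (· ≤ ·)]
    (F : J ⥤ X.Sheaf (Type u)) (c : Cocone F) (hc : IsColimit c) (U : Opens X) :
    let ev := TopCat.Sheaf.forget (Type u) X ⋙ (evaluation (Opens X)ᵒᵖ (Type u)).obj (op U)
    let Ψ : colimit (F ⋙ ev) → ev.obj c.pt := colimit.desc (F ⋙ ev) (ev.mapCocone c)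
    ((∀ (i j : J) (h : i ⟶ j) (V : Opens X), Function.Injective ((F.map h).1.app (op V))) → Function.Injective Ψ) ∧
    (IsCompact (U : Set X) → Function.Injective Ψ) ∧
    (IsCompact (U : Set X) → (∀ (i j : J) (h : i ⟶ j) (V : Opens X), Function.Injective ((F.map h).1.app (op V))) →
      Function.Bijective Ψ) ∧
    ((∀ 𝒱 : Set (Opens X), (⨆ V ∈ 𝒱, V) = U →
        ∃ (m : ℕ) (W : Fin m → Opens X), (∀ j, ∃ V ∈ 𝒱, W j ≤ V) ∧ (⨆ j, W j) = U ∧
          ∀ j j', IsCompact ((W j ⊓ W j' : Opens X) : Set X)) →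
      Function.Bijective Ψ) := by
  intro ev Ψ
  haveI := isFiltered_J (J := J)
  have hΨ : ∀ (i : J) (r : (F.obj i).1.obj (op U)),
      Ψ (colimit.ι (F ⋙ ev) i r) = (c.ι.app i).1.app (op U) r := fun i r =>
    congr_arg (fun f => f r) (colimit.ι_desc (ev.mapCocone c) i)
  have hinj : (∀ (i : J) (s t : (F.obj i).1.obj (op U)),
      (c.ι.app i).1.app (op U) s = (c.ι.app i).1.app (op U) t →
        ∃ (k : J) (hik : i ≤ k), trans F hik s = trans F hik t) → Function.Injective Ψ := by
    intro H a b hab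
    obtain ⟨i, s, rfl⟩ := Types.jointly_surjective _ (colimit.isColimit (F ⋙ ev)) a
    obtain ⟨j, t, rfl⟩ := Types.jointly_surjective _ (colimit.isColimit (F ⋙ ev)) b
    obtain ⟨k, hik, hjk⟩ := directed_of (· ≤ ·) i j
    have e1 : colimit.ι (F ⋙ ev) k (trans F hik s) = colimit.ι (F ⋙ ev) i s :=
      congr_arg (fun f => f s) (colimit.w (F ⋙ ev) (homOfLE hik))
    have e2 : colimit.ι (F ⋙ ev) k (trans F hjk t) = colimit.ι (F ⋙ ev) j t :=
      congr_arg (fun f => f t) (colimit.w (F ⋙ ev) (homOfLE hjk))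
    have hab' : Ψ (colimit.ι (F ⋙ ev) i s) = Ψ (colimit.ι (F ⋙ ev) j t) := hab
    rw [hΨ, hΨ, ← ι_trans c hik, ← ι_trans c hjk] at hab'
    obtain ⟨l, hkl, hl⟩ := H k _ _ hab'
    change colimit.ι (F ⋙ ev) i s = colimit.ι (F ⋙ ev) j t
    rw [← e1, ← e2]
    exact (Types.FilteredColimit.isColimit_eq_iff _ (colimit.isColimit (F ⋙ ev))).2
      ⟨l, homOfLE hkl, homOfLE hkl, hl⟩
  have hsurj : (∀ s : c.pt.1.obj (op U), ∃ (k : J) (r : (F.obj k).1.obj (op U)),
      (c.ι.app k).1.app (op U) r = s) → Function.Surjective Ψ := by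
    intro H s
    obtain ⟨k, r, hr⟩ := H s
    exact ⟨_, (hΨ k r).trans hr⟩
  have h1 : MonoTrans F → Function.Injective Ψ := fun hF => hinj fun i s t h =>
    ⟨i, le_rfl, congr_arg _ (inj_mono hc hF s t h)⟩
  have h2 : IsCompact (U : Set X) → Function.Injective Ψ := fun hU => hinj fun i s t h =>
    inj_compact hc hU s t h
  refine ⟨h1, h2, fun hU hF => ⟨h1 hF, hsurj fun s => ?_⟩, fun H => ?_⟩
  · choose W hW i t hxW ht using fun x : U => locallySurj hc s x x.2
    obtain ⟨T, hT⟩ := hU.elim_finite_subcover (fun x => (W x : Set X)) (fun x => (W x).2)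
      (fun x hx => Set.mem_iUnion.2 ⟨⟨x, hx⟩, hxW _⟩)
    refine surj_core hc s (fun l : Fin T.card => W (T.equivFin.symm l)) (fun l => hW _) ?_
      (fun l => ⟨_, _, ht _⟩)
      (fun l m k a b hab => ⟨k, le_rfl, congr_arg _ (inj_mono hc hF a b hab)⟩)
    intro x hx
    obtain ⟨l, hl, hxl⟩ := Set.mem_iUnion₂.1 (hT hx)
    exact Opens.mem_iSup.2 ⟨T.equivFin ⟨l, hl⟩, by simpa using hxl⟩
  · have hUc : IsCompact (U : Set X) := by
      obtain ⟨m, W, -, hU, hc'⟩ := H {U} (by simp)
      rw [← hU, Opens.coe_iSup]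
      exact isCompact_iUnion fun j => by simpa using hc' j j
    refine ⟨h2 hUc, hsurj fun s => ?_⟩
    choose W hW i t hxW ht using fun x : U => locallySurj hc s x x.2
    obtain ⟨m, W', hW', hU', hc'⟩ := H (Set.range W) (by
      apply le_antisymm
      · exact iSup₂_le fun V ⟨x, hx⟩ => hx ▸ hW x
      · intro x hx
        rw [iSup_range]
        exact Opens.mem_iSup.2 ⟨⟨x, hx⟩, hxW _⟩)
    refine surj_core hc s W' (fun l => hU' ▸ le_iSup W' l) hU'.ge (fun l => ?_)
      (fun l m k a b hab => inj_compact hc (hc' l m) a b hab)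
    obtain ⟨_, ⟨x, rfl⟩, hle⟩ := hW' l
    refine ⟨i x, res F (i x) hle (t x), ?_⟩
    rw [ι_res, ht, ← ConcreteCategory.comp_apply, ← c.pt.1.map_comp]
    rfl

end Groth.Agent.S7575
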