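import Groth.Statements.S7578
import Groth.Agent.PtTop.DimFun
-- import your own Groth.Agent.* helpers here

set_option autoImplicit false
universe u
open PtTop

namespace Groth.Agent.S7578

/-- Let X be a topological space which is locally Noetherian (every point has a Noetherian
neighbourhood) and sober, and let δ, δ' be two dimension functions on X. Then δ − δ' is locally
constant. -/
theorem result {X : Type u} [TopologicalSpace X] [QuasiSober X] [T0Space X]
    (hX : ∀ x : X, ∃ E ∈ nhds x, TopologicalSpace.NoetherianSpace E)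
    (δ δ' : X → ℤ) (hδ : PtTop.IsDimensionFunction δ) (hδ' : PtTop.IsDimensionFunction δ') :
    IsLocallyConstant (fun x => δ x - δ' x) := by
  have key : ∀ a b : X, a ⤳ b → δ a - δ' a = δ b - δ' b := by
    intro a b h
    rcases eq_or_ne a b with rfl | hab
    · rfl
    have e := (PtDimFun.codim_closure hδ h).symm.trans (PtDimFun.codim_closure hδ' h)
    have e' : (δ a - δ b).toNat = (δ' a - δ' b).toNat := by exact_mod_cast e
    have := hδ.1 a b h hab
    have := hδ'.1 a b h hab
    omega
  refine (IsLocallyConstant.iff_exists_open _).2 fun x => ?_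
  obtain ⟨E, hE, hN⟩ := hX x
  let xE : E := ⟨x, mem_of_mem_nhds hE⟩
  let bad := {Z ∈ irreducibleComponents E | xE ∉ Z}
  have hbad : IsClosed (⋃ Z ∈ bad, Z) :=
    (TopologicalSpace.NoetherianSpace.finite_irreducibleComponents.subset
      fun Z hZ => hZ.1).isClosed_biUnion fun Z hZ => isClosed_of_mem_irreducibleComponents Z hZ.1
  obtain ⟨W, hW, hWeq⟩ := isOpen_induced_iff.1 hbad.isOpen_compl
  refine ⟨W ∩ interior E, hW.inter isOpen_interior, ⟨?_, mem_interior_iff_mem_nhds.2 hE⟩,
    fun y hy => ?_⟩
  · show xE ∈ Subtype.val ⁻¹' W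
    rw [hWeq]
    simp only [Set.mem_compl_iff, Set.mem_iUnion, not_exists]
    exact fun Z hZ => hZ.2
  let yE : E := ⟨y, interior_subset hy.2⟩
  have hxZ : xE ∈ irreducibleComponent yE := by
    by_contra hc
    have : yE ∈ (⋃ Z ∈ bad, Z)ᶜ := hWeq ▸ (show yE ∈ Subtype.val ⁻¹' W from hy.1)
    exact this (Set.mem_biUnion ⟨irreducibleComponent_mem_irreducibleComponents yE, hc⟩
      mem_irreducibleComponent)
  obtain ⟨η, hη⟩ := QuasiSober.sober
    (((isIrreducible_irreducibleComponent (x := yE)).image (Subtype.val : E → X)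
      continuous_subtype_val.continuousOn).closure) isClosed_closure
  have h1 := key η x (hη.specializes (subset_closure ⟨xE, hxZ, rfl⟩))
  have h2 := key η y (hη.specializes (subset_closure ⟨yE, mem_irreducibleComponent, rfl⟩))
  exact h2.symm.trans h1

end Groth.Agent.S7578
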