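import Groth.Statements.S7579
import Groth.Agent.SpecSp.Constr

open Set Filter Topology TopologicalSpace Groth.Agent.SpecSp

set_option autoImplicit false
universe u
open SpecSp

namespace Groth.Agent.S7579

/-- Let X be a spectral space. Then X with its constructible topology is Hausdorff and totally
disconnected. The published statement also asserts that the constructible topology is quasi-compact;
this row states the Hausdorff and totally disconnected parts. -/
theorem result (X : Type u) [TopologicalSpace X] [SpectralSpace X] :
    T2Space (WithConstructibleTopology X) ∧ TotallyDisconnectedSpace (WithConstructibleTopology X) := by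
  have h : TotallySeparatedSpace (WithConstructibleTopology X) := by
    refine totallySeparatedSpace_iff_exists_isClopen.2 fun x y hxy => ?_
    obtain ⟨U, hU, hxU, hyU⟩ := (@totallySeparatedSpace_iff_exists_isClopen X (constructibleTopology X)).1
      totallySeparated_cons (fun h => hxy ((WithTopology.ofTopology_inj _).1 h))
    exact ⟨WithTopology.ofTopology ⁻¹' U, @IsClopen.preimage _ _ _ (constructibleTopology X) _ hU _
      (WithTopology.continuous_ofTopology _), hxU, hyU⟩
  exact ⟨inferInstance, inferInstance⟩

end Groth.Agent.S7579
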