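import Groth.Statements.S7580
open Set Filter Topology

set_option autoImplicit false
universe u
open PtTop

namespace Groth.Agent.S7580

/-- Let f : X → Y be a continuous map of topological spaces with f(X) dense in Y and Y Hausdorff. Then
the cardinality of Y is at most that of the double power set of X. -/
theorem result {X Y : Type u} [TopologicalSpace X] [TopologicalSpace Y] [T2Space Y]
    (f : X → Y) (hf : Continuous f) (hd : DenseRange f) :
    Cardinal.mk Y ≤ (2 : Cardinal.{u}) ^ ((2 : Cardinal.{u}) ^ Cardinal.mk X) := by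
  rw [← Cardinal.mk_set, ← Cardinal.mk_set]
  refine Cardinal.mk_le_of_injective (f := fun y : Y => {T : Set X | y ∈ closure (f '' T)}) ?_
  intro y y' h
  by_contra hne
  obtain ⟨U, V, hU, hV, hyU, hyV, hUV⟩ := t2_separation hne
  have h1 : y ∈ closure (f '' (f ⁻¹' U)) := by
    rw [image_preimage_eq_inter_range]
    exact hd.open_subset_closure_inter hU hyU
  have h2 : y' ∈ closure (f '' (f ⁻¹' U)) := (Set.ext_iff.1 h _).1 h1
  obtain ⟨z, hzV, hzU⟩ := mem_closure_iff.1 h2 V hV hyV
  exact Set.disjoint_left.1 hUV (image_preimage_subset f U hzU) hzV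

end Groth.Agent.S7580
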