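import Groth.Statements.S7581
import Groth.Agent.PtTop.Catenary
-- import your own Groth.Agent.* helpers here

set_option autoImplicit false
universe u
open PtTop

namespace Groth.Agent.S7581

/-- Let X be a topological space. Then X is catenary if and only if for every pair of irreducible closed
subsets Y ⊆ Y' the codimension codim(Y, Y') is finite and for every triple Y ⊆ Y' ⊆ Y'' of
irreducible closed subsets codim(Y, Y'') = codim(Y, Y') + codim(Y', Y''). -/
theorem result (X : Type u) [TopologicalSpace X] :
    PtTop.IsCatenarySpace X ↔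
      (∀ Y Y' : TopologicalSpace.IrreducibleCloseds X, Y ≤ Y' → PtTop.codim Y (Y' : Set X) ≠ ⊤) ∧
      (∀ Y Y' Y'' : TopologicalSpace.IrreducibleCloseds X, Y ≤ Y' → Y' ≤ Y'' →
        PtTop.codim Y (Y'' : Set X) = PtTop.codim Y (Y' : Set X) + PtTop.codim Y' (Y'' : Set X)) := by
  constructor
  · intro h
    refine ⟨fun Y Y' hY => (h Y Y' hY).1, fun Y Y' Y'' h1 h2 => ?_⟩
    have hc := PtCat.isCatenary_iff.1 h
    obtain ⟨n, hn, -⟩ := hc Y Y' h1
    obtain ⟨s, hs, hs', hsat, hmax⟩ := PtCat.exists_max h1 hn
    obtain ⟨m, hm, -⟩ := hc Y' Y'' h2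
    obtain ⟨t, ht, ht', htsat, htmax⟩ := PtCat.exists_max h2 hm
    have e := (h Y Y'' (h1.trans h2)).2 (s.smash t (hs'.trans ht.symm))
      ((RelSeries.head_smash _).trans hs) ((RelSeries.last_smash _).trans ht')
      (PtCat.sat_smash _ hsat htsat)
    rw [← e, PtCat.codim_eq hs hs'.le hmax, PtCat.codim_eq ht ht'.le htmax]
    simp
  · rintro ⟨hfin, hadd⟩ T T' hT
    refine ⟨hfin T T' hT, ?_⟩
    intro s
    induction s using RelSeries.inductionOn generalizing T T' with
    | singleton x =>
      intro h1 h2 _
      obtain rfl : x = T := h1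
      obtain rfl : x = T' := h2
      refine (PtCat.codim_eq (s := RelSeries.singleton _ x) rfl le_rfl fun t ht ht' => ?_).symm
      by_contra h
      have : t.head < t.last := t.strictMono (show (0 : Fin (t.length + 1)) < Fin.last _ from Nat.pos_of_ne_zero (show (Fin.last t.length).1 ≠ 0 from fun e => h (by simp at e; simp [e])))
      rw [ht] at this
      exact (this.trans_le ht').false
    | cons p x hx ih =>
      intro h1 h2 hsat
      obtain rfl : x = T := by simpa using h1
      have hp : p.last = T' := by simpa using h2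
      obtain ⟨hc, hsat'⟩ := PtCat.sat_cons hsat
      have hle : p.head ≤ T' := hp ▸ LTSeries.head_le_last p
      rw [hadd x p.head T' hc.le hle, ← ih p.head T' hle rfl hp hsat',
        PtCat.codim_eq (T := x) (T' := p.head) (s := (RelSeries.singleton _ p.head).cons x hc.lt) rfl (le_of_eq (RelSeries.last_cons _ _ hc.lt)) ?_]
      · show ((0 + p.length + 1 : ℕ) : ℕ∞) = ((0 + 0 + 1 : ℕ) : ℕ∞) + p.length
        push_cast
        simp [add_comm, add_left_comm]
      · intro t ht ht'
        by_contra h
        have hl : 2 ≤ t.length := by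
          have h : ¬ t.length ≤ 0 + 0 + 1 := h
          omega
        have a : x < t ⟨1, by omega⟩ := ht ▸ t.strictMono (show (0 : Fin _) < ⟨1, by omega⟩ by simp [Fin.lt_def])
        have b : t ⟨1, by omega⟩ < p.head :=
          (t.strictMono (show (⟨1, by omega⟩ : Fin _) < Fin.last _ by simp [Fin.lt_def]; omega)).trans_le ht'
        exact hc.2 a b

end Groth.Agent.S7581
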