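import Groth.Statements.S7585
import Mathlib

set_option autoImplicit false
universe u
open ShSp

namespace Groth.Agent.S7585

/-- Let X be a topological space, ℬ a basis for its topology and F a presheaf of sets on ℬ. For each U ∈
ℬ let C(U) be a cofinal system of coverings of U by members of ℬ (every covering of U by members of
ℬ is refined by one in C(U)), each member of C(U) coming with chosen coverings of the pairwise
intersections U_i ∩ U_j by members of ℬ. Then F is a sheaf on ℬ if and only if the sheaf condition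
(**) holds for every U ∈ ℬ and every covering in C(U) with its chosen intersection coverings. -/
theorem result {X : Type u} [TopologicalSpace X] {B : Set (TopologicalSpace.Opens X)}
    (hB : TopologicalSpace.Opens.IsBasis B) (F : ShB.Pre B)
    (C : ∀ U : B, Set (ShB.Cover B)) (hCU : ∀ U, ∀ c ∈ C U, c.U = U)
    (hC : ∀ (U : B) (ι : Type u) (V : ι → B), (∀ i, (V i : TopologicalSpace.Opens X) ≤ (U : TopologicalSpace.Opens X)) →
      (U : TopologicalSpace.Opens X) ≤ ⨆ i, (V i : TopologicalSpace.Opens X) →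
      ∃ c ∈ C U, ∀ i' : c.ι, ∃ i, (c.V i' : TopologicalSpace.Opens X) ≤ (V i : TopologicalSpace.Opens X)) :
    ShB.IsSheaf F ↔ ∀ U, ∀ c ∈ C U, ShB.GluesUniquely F c := by

  refine ⟨fun h U c _ => h c, fun H => ?_⟩
  have sep : ∀ (U : B) (ι : Type u) (V : ι → B) (hle : ∀ i, (V i : TopologicalSpace.Opens X) ≤ (U : TopologicalSpace.Opens X)),
      (U : TopologicalSpace.Opens X) ≤ ⨆ i, (V i : TopologicalSpace.Opens X) → ∀ s t : F.obj U,
      (∀ i, F.res (hle i) s = F.res (hle i) t) → s = t := by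
    intro U ι V hle hcov s t hst
    obtain ⟨c, hc, hr⟩ := hC U ι V hle hcov
    obtain rfl := hCU U c hc
    refine (H c.U c hc (fun i => F.res (c.V_le i) s) fun i j k => by rw [F.res_comp, F.res_comp]).unique
      (fun i => rfl) fun i => ?_
    obtain ⟨i₀, hi₀⟩ := hr i
    rw [← F.res_comp (hle i₀) hi₀ t, ← hst i₀, F.res_comp]
  have cover : ∀ (D : TopologicalSpace.Opens X) (ι : Type u) (V : ι → TopologicalSpace.Opens X), D ≤ ⨆ i, V i →
      ∃ (κ : Type u) (E : κ → B) (β : κ → ι), (∀ p, (E p : TopologicalSpace.Opens X) ≤ D) ∧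
        (∀ p, (E p : TopologicalSpace.Opens X) ≤ V (β p)) ∧ D ≤ ⨆ p, (E p : TopologicalSpace.Opens X) := by
    intro D ι V hD
    refine ⟨Σ i, {E : B // (E : TopologicalSpace.Opens X) ≤ D ⊓ V i}, fun p => p.2.1, fun p => p.1,
      fun p => le_trans p.2.2 inf_le_left, fun p => le_trans p.2.2 inf_le_right, fun x hx => ?_⟩
    obtain ⟨i, hi⟩ := TopologicalSpace.Opens.mem_iSup.1 (hD hx)
    obtain ⟨E, hE, hxE, hle⟩ := TopologicalSpace.Opens.isBasis_iff_nbhd.1 hB (U := D ⊓ V i) ⟨hx, hi⟩
    exact TopologicalSpace.Opens.mem_iSup.2 ⟨⟨i, ⟨⟨E, hE⟩, hle⟩⟩, hxE⟩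
  intro c s hs
  have agree : ∀ (i j : c.ι) (D : B) (hi : (D : TopologicalSpace.Opens X) ≤ (c.V i : TopologicalSpace.Opens X))
      (hj : (D : TopologicalSpace.Opens X) ≤ (c.V j : TopologicalSpace.Opens X)),
      F.res hi (s i) = F.res hj (s j) := by
    intro i j D hi hj
    obtain ⟨κ, E, β, hED, hEW, hcov⟩ := cover (D : TopologicalSpace.Opens X) (c.κ i j)
      (fun k => (c.W i j k : TopologicalSpace.Opens X)) ((le_inf hi hj).trans (c.W_cover i j))
    refine sep D κ E hED hcov _ _ fun p => ?_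
    exact (F.res_comp hi (hED p) (s i)).trans
      ((F.res_comp (c.W_le_left i j (β p)) (hEW p) (s i)).symm.trans
        ((congrArg (F.res (hEW p)) (hs i j (β p))).trans
          ((F.res_comp (c.W_le_right i j (β p)) (hEW p) (s j)).trans
            (F.res_comp hj (hED p) (s j)).symm)))
  obtain ⟨c', hc', hr⟩ := hC c.U c.ι c.V c.V_le c.V_cover
  choose α hα using hr
  obtain ⟨U', ι', V', V_le', V_cover', κ', W', W_le_left', W_le_right', W_cover'⟩ := c'
  obtain rfl : U' = c.U := hCU c.U _ hc'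
  obtain ⟨t, ht, -⟩ := H _ _ hc' (fun i' => F.res (hα i') (s (α i'))) fun i j k =>
    (F.res_comp (hα i) (W_le_left' i j k) (s (α i))).trans
      ((agree (α i) (α j) (W' i j k) _ _).trans (F.res_comp (hα j) (W_le_right' i j k) (s (α j))).symm)
  refine ⟨t, fun i => ?_, fun y hy => ?_⟩
  · obtain ⟨κ, E, β, hED, hEV, hcov⟩ := cover (c.V i : TopologicalSpace.Opens X) ι'
      (fun k => (V' k : TopologicalSpace.Opens X)) ((c.V_le i).trans V_cover')
    refine sep (c.V i) κ E hED hcov _ _ fun p => ?_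
    exact (F.res_comp (c.V_le i) (hED p) t).trans
      ((F.res_comp (V_le' (β p)) (hEV p) t).symm.trans
        ((congrArg (F.res (hEV p)) (ht (β p))).trans
          ((F.res_comp (hα (β p)) (hEV p) (s (α (β p)))).trans
            (agree (α (β p)) i (E p) _ (hED p)))))
  · refine sep _ ι' V' V_le' V_cover' _ _ fun i' => ?_
    exact ((F.res_comp (c.V_le (α i')) (hα i') y).symm.trans (congrArg (F.res (hα i')) (hy (α i')))).trans
      (ht i').symm

end Groth.Agent.S7585
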