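import Groth.Statements.S7586
import Mathlib
-- import your own Groth.Agent.* helpers here

set_option autoImplicit false
universe u
open ShSp

namespace Groth.Agent.S7586

/-- Let X be a topological space and ℬ a basis for its topology such that for U, U′, U″ ∈ ℬ with U′ ⊆ U
and U″ ⊆ U one has U′ ∩ U″ ∈ ℬ. For each U ∈ ℬ let C(U) be a cofinal system of coverings of U by
members of ℬ, and let F be a presheaf of sets on ℬ. Then F is a sheaf on ℬ if and only if for every
U ∈ ℬ, every covering U = ⋃ U_i in C(U) and every family of sections s_i ∈ F(U_i) with s_i and s_j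
having the same restriction to U_i ∩ U_j, there is a unique s ∈ F(U) restricting to s_i on each U_i. -/
theorem result {X : Type u} [TopologicalSpace X] {B : Set (TopologicalSpace.Opens X)}
    (hB : TopologicalSpace.Opens.IsBasis B)
    (hBi : ∀ U ∈ B, ∀ U' ∈ B, ∀ U'' ∈ B, U' ≤ U → U'' ≤ U → U' ⊓ U'' ∈ B)
    (F : ShB.Pre B)
    (C : ∀ U : B, Set (ShB.Cover B)) (hCU : ∀ U, ∀ c ∈ C U, c.U = U)
    (hC : ∀ (U : B) (ι : Type u) (V : ι → B), (∀ i, (V i : TopologicalSpace.Opens X) ≤ (U : TopologicalSpace.Opens X)) →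
      (U : TopologicalSpace.Opens X) ≤ ⨆ i, (V i : TopologicalSpace.Opens X) →
      ∃ c ∈ C U, ∀ i' : c.ι, ∃ i, (c.V i' : TopologicalSpace.Opens X) ≤ (V i : TopologicalSpace.Opens X)) :
    ShB.IsSheaf F ↔ ∀ (U : B), ∀ c ∈ C U, ∀ s : ∀ i, F.obj (c.V i),
      (∀ i j, F.res (U := c.V i) (V := ⟨(c.V i : TopologicalSpace.Opens X) ⊓ c.V j,
          hBi c.U c.U.2 _ (c.V i).2 _ (c.V j).2 (c.V_le i) (c.V_le j)⟩) inf_le_left (s i) =
        F.res (U := c.V j) (V := ⟨(c.V i : TopologicalSpace.Opens X) ⊓ c.V j,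
          hBi c.U c.U.2 _ (c.V i).2 _ (c.V j).2 (c.V_le i) (c.V_le j)⟩) inf_le_right (s j)) →
      ∃! t : F.obj c.U, ∀ i, F.res (c.V_le i) t = s i := by
  constructor
  · intro hF U c hc s hs
    let d : ShB.Cover B := ⟨c.U, c.ι, c.V, c.V_le, c.V_cover, fun _ _ => PUnit,
      fun i j _ => ⟨(c.V i : TopologicalSpace.Opens X) ⊓ c.V j,
        hBi c.U c.U.2 _ (c.V i).2 _ (c.V j).2 (c.V_le i) (c.V_le j)⟩,
      fun i j _ => inf_le_left, fun i j _ => inf_le_right, fun i j => le_iSup_of_le PUnit.unit le_rfl⟩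
    exact hF d s fun i j _ => hs i j
  intro h
  have sep : ∀ (U : B) (ι : Type u) (V : ι → B) (hle : ∀ i, (V i : TopologicalSpace.Opens X) ≤ (U : TopologicalSpace.Opens X))
      (hcov : (U : TopologicalSpace.Opens X) ≤ ⨆ i, (V i : TopologicalSpace.Opens X)) (t t' : F.obj U),
      (∀ i, F.res (hle i) t = F.res (hle i) t') → t = t' := by
    intro U ι V hle hcov t t' htt
    obtain ⟨c, hc, href⟩ := hC U ι V hle hcov
    obtain rfl := hCU U c hc
    obtain ⟨t₀, -, hu⟩ := h c.U c hc (fun i => F.res (c.V_le i) t) (fun i j => by rw [F.res_comp, F.res_comp])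
    refine (hu t fun i => rfl).trans (hu t' fun i' => ?_).symm
    obtain ⟨i, hi⟩ := href i'
    rw [← F.res_comp (hle i) hi, ← F.res_comp (hle i) hi, htt i]
  intro d s hs
  have hagree : ∀ (i j : d.ι) (Z : B) (hi : (Z : TopologicalSpace.Opens X) ≤ (d.V i : TopologicalSpace.Opens X))
      (hj : (Z : TopologicalSpace.Opens X) ≤ (d.V j : TopologicalSpace.Opens X)), F.res hi (s i) = F.res hj (s j) := by
    intro i j Z hi hj
    let W : d.κ i j → B := fun k => ⟨(Z : TopologicalSpace.Opens X) ⊓ d.W i j k,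
      hBi d.U d.U.2 _ Z.2 _ (d.W i j k).2 (hi.trans (d.V_le i)) ((d.W_le_left i j k).trans (d.V_le i))⟩
    refine sep Z _ W (fun k => inf_le_left) (fun z hz => ?_) _ _ fun k => ?_
    · obtain ⟨k, hk⟩ := TopologicalSpace.Opens.mem_iSup.1 (d.W_cover i j ⟨hi hz, hj hz⟩)
      exact TopologicalSpace.Opens.mem_iSup.2 ⟨k, hz, hk⟩
    · have e := congrArg (F.res (V := W k) (inf_le_right : (W k : TopologicalSpace.Opens X) ≤ (d.W i j k : TopologicalSpace.Opens X)))
        (hs i j k)
      rw [F.res_comp, F.res_comp] at e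
      rw [F.res_comp, F.res_comp]
      exact e
  obtain ⟨c, hc, href⟩ := hC d.U d.ι d.V d.V_le d.V_cover
  choose a ha using href
  obtain ⟨t, ht, -⟩ := h d.U c hc (fun i' => F.res (ha i') (s (a i'))) (fun i j => by
    rw [F.res_comp, F.res_comp]
    exact hagree _ _ _ _ _)
  have hU : c.U = d.U := hCU _ c hc
  have hle' : (c.U : TopologicalSpace.Opens X) ≤ (d.U : TopologicalSpace.Opens X) := (congrArg Subtype.val hU).le
  have hge' : (d.U : TopologicalSpace.Opens X) ≤ (c.U : TopologicalSpace.Opens X) := (congrArg Subtype.val hU).ge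
  refine ⟨F.res hge' t, fun i => ?_, fun t' ht' => sep d.U d.ι d.V d.V_le d.V_cover _ _ fun i => ?_⟩
  swap
  · rw [ht' i]
    symm
    let W : c.ι → B := fun i' => ⟨(d.V i : TopologicalSpace.Opens X) ⊓ c.V i',
      hBi d.U d.U.2 _ (d.V i).2 _ (c.V i').2 (d.V_le i) ((c.V_le i').trans hle')⟩
    refine sep (d.V i) _ W (fun _ => inf_le_left) (fun z hz => ?_) _ _ fun i' => ?_
    · obtain ⟨i', hi'⟩ := TopologicalSpace.Opens.mem_iSup.1 (c.V_cover (hge' (d.V_le i hz)))
      exact TopologicalSpace.Opens.mem_iSup.2 ⟨i', hz, hi'⟩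
    · have e := congrArg (F.res (V := W i') (inf_le_right : (W i' : TopologicalSpace.Opens X) ≤ (c.V i' : TopologicalSpace.Opens X))) (ht i')
      rw [F.res_comp, F.res_comp] at e
      rw [F.res_comp, F.res_comp]
      exact e.trans (hagree _ _ _ _ _)
  · let W : c.ι → B := fun i' => ⟨(d.V i : TopologicalSpace.Opens X) ⊓ c.V i',
      hBi d.U d.U.2 _ (d.V i).2 _ (c.V i').2 (d.V_le i) ((c.V_le i').trans hle')⟩
    refine sep (d.V i) _ W (fun _ => inf_le_left) (fun z hz => ?_) _ _ fun i' => ?_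
    · obtain ⟨i', hi'⟩ := TopologicalSpace.Opens.mem_iSup.1 (c.V_cover (hge' (d.V_le i hz)))
      exact TopologicalSpace.Opens.mem_iSup.2 ⟨i', hz, hi'⟩
    · have e := congrArg (F.res (V := W i') (inf_le_right : (W i' : TopologicalSpace.Opens X) ≤ (c.V i' : TopologicalSpace.Opens X))) (ht i')
      rw [F.res_comp, F.res_comp] at e
      rw [F.res_comp, F.res_comp]
      exact e.trans (hagree _ _ _ _ _)

end Groth.Agent.S7586
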