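import Groth.Statements.S7587
import Mathlib
-- import your own Groth.Agent.* helpers here

set_option autoImplicit false
universe u
open ShSp

namespace Groth.Agent.S7587

/-- Let X be a topological space, ℬ a basis for its topology, U ∈ ℬ and F a sheaf of sets on ℬ. Sending
a section over U to its germs at the points of U, a map from F(U) into the product of the stalks F_x
over x ∈ U, puts F(U) in bijection with those germ families (s_x)_{x ∈ U} that satisfy (*): each x ∈
U lies in some V ∈ ℬ contained in U carrying a section σ ∈ F(V) whose germ at every y ∈ V equals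
s_y. That is, the map is injective and its image is exactly the set of such families. -/
theorem result {X : Type u} [TopologicalSpace X] {B : Set (TopologicalSpace.Opens X)}
    (hB : TopologicalSpace.Opens.IsBasis B) (F : ShB.Pre B) (hF : ShB.IsSheaf F) (U : B) :
    Function.Injective (fun (s : F.obj U) (x : (U : TopologicalSpace.Opens X)) => ShB.germ F x.1 x.2 s) ∧
    ∀ f : ∀ x : (U : TopologicalSpace.Opens X), ShB.Stalk F x.1,
      (∃ s : F.obj U, ∀ x, ShB.germ F x.1 x.2 s = f x) ↔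
      ∀ x : (U : TopologicalSpace.Opens X), ∃ (V : B) (hxV : x.1 ∈ (V : TopologicalSpace.Opens X))
        (hVU : (V : TopologicalSpace.Opens X) ≤ (U : TopologicalSpace.Opens X)) (σ : F.obj V),
        ∀ (y : X) (hy : y ∈ (V : TopologicalSpace.Opens X)), ShB.germ F y hy σ = f ⟨y, hVU hy⟩ := by

  have hequiv : ∀ x, Equivalence (ShB.StalkRel F x) := fun x =>
    ⟨fun a => ⟨a.1.1, a.1.2, le_rfl, le_rfl, rfl⟩,
     fun ⟨W, hx, ha, hb, h⟩ => ⟨W, hx, hb, ha, h.symm⟩,
     fun {a b c} ⟨W, hx, ha, hb, h⟩ ⟨W', hx', hb', hc, h'⟩ => by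
      obtain ⟨W'', hW'', hxW'', hle⟩ := TopologicalSpace.Opens.isBasis_iff_nbhd.1 hB
        (show x ∈ (W : TopologicalSpace.Opens X) ⊓ (W' : TopologicalSpace.Opens X) from ⟨hx, hx'⟩)
      refine ⟨⟨W'', hW''⟩, hxW'', (hle.trans inf_le_left).trans ha, (hle.trans inf_le_right).trans hc, ?_⟩
      have e1 := congrArg (F.res (V := ⟨W'', hW''⟩) (hle.trans inf_le_left)) h
      have e2 := congrArg (F.res (V := ⟨W'', hW''⟩) (hle.trans inf_le_right)) h'
      rw [F.res_comp, F.res_comp] at e1 e2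
      exact e1.trans e2⟩
  have hgerm : ∀ {V V' : B} (x : X) (hx : x ∈ (V : TopologicalSpace.Opens X)) (hx' : x ∈ (V' : TopologicalSpace.Opens X))
      (a : F.obj V) (b : F.obj V'), ShB.germ F x hx a = ShB.germ F x hx' b →
      ∃ (W : B) (_ : x ∈ (W : TopologicalSpace.Opens X)) (ha : (W : TopologicalSpace.Opens X) ≤ (V : TopologicalSpace.Opens X))
        (hb : (W : TopologicalSpace.Opens X) ≤ (V' : TopologicalSpace.Opens X)), F.res ha a = F.res hb b :=
    fun x hx hx' a b h => (hequiv x).quot_mk_eq_iff _ _ |>.1 h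
  have hres : ∀ {V V' : B} (x : X) (h : (V' : TopologicalSpace.Opens X) ≤ (V : TopologicalSpace.Opens X))
      (hx : x ∈ (V' : TopologicalSpace.Opens X)) (a : F.obj V), ShB.germ F x hx (F.res h a) = ShB.germ F x (h hx) a :=
    fun {V V'} x h hx a => Quot.sound ⟨V', hx, le_rfl, h, F.res_id _ _⟩
  have sep : ∀ (V : B) (a b : F.obj V),
      (∀ x (hx : x ∈ (V : TopologicalSpace.Opens X)), ShB.germ F x hx a = ShB.germ F x hx b) → a = b := by
    intro V a b h
    choose W hxW ha hb hW using fun x : (V : TopologicalSpace.Opens X) => hgerm x.1 x.2 x.2 a b (h x.1 x.2)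
    have hWc : ∀ x y : (V : TopologicalSpace.Opens X), ((W x : TopologicalSpace.Opens X) ⊓ (W y : TopologicalSpace.Opens X)) ≤
        ⨆ k : {Z : B // (Z : TopologicalSpace.Opens X) ≤ (W x : TopologicalSpace.Opens X) ⊓ (W y : TopologicalSpace.Opens X)},
          (k.1 : TopologicalSpace.Opens X) := fun x y z hz => by
      obtain ⟨Z, hZ, hzZ, hle⟩ := TopologicalSpace.Opens.isBasis_iff_nbhd.1 hB hz
      exact TopologicalSpace.Opens.mem_iSup.2 ⟨⟨⟨Z, hZ⟩, hle⟩, hzZ⟩
    let c : ShB.Cover B := ⟨V, _, W, ha, fun z hz => TopologicalSpace.Opens.mem_iSup.2 ⟨⟨z, hz⟩, hxW ⟨z, hz⟩⟩,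
      fun x y => {Z : B // (Z : TopologicalSpace.Opens X) ≤ (W x : TopologicalSpace.Opens X) ⊓ (W y : TopologicalSpace.Opens X)},
      fun x y k => k.1, fun x y k => k.2.trans inf_le_left, fun x y k => k.2.trans inf_le_right, hWc⟩
    obtain ⟨t, -, ht⟩ := hF c (fun x => F.res (ha x) a) (fun x y k => by rw [F.res_comp, F.res_comp])
    exact (ht a fun x => rfl).trans (ht b fun x => (hW x).symm).symm
  refine ⟨fun a b h => sep U a b fun x hx => congrFun h ⟨x, hx⟩, fun f => ⟨?_, ?_⟩⟩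
  · rintro ⟨s, hs⟩ x
    exact ⟨U, x.2, le_rfl, s, fun y hy => hs ⟨y, hy⟩⟩
  · intro h
    choose V hxV hVU σ hσ using h
    have hWc : ∀ x y, ((V x : TopologicalSpace.Opens X) ⊓ (V y : TopologicalSpace.Opens X)) ≤
        ⨆ k : {Z : B // (Z : TopologicalSpace.Opens X) ≤ (V x : TopologicalSpace.Opens X) ⊓ (V y : TopologicalSpace.Opens X)},
          (k.1 : TopologicalSpace.Opens X) := fun x y z hz => by
      obtain ⟨Z, hZ, hzZ, hle⟩ := TopologicalSpace.Opens.isBasis_iff_nbhd.1 hB hz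
      exact TopologicalSpace.Opens.mem_iSup.2 ⟨⟨⟨Z, hZ⟩, hle⟩, hzZ⟩
    let c : ShB.Cover B := ⟨U, _, V, hVU, fun z hz => TopologicalSpace.Opens.mem_iSup.2 ⟨⟨z, hz⟩, hxV ⟨z, hz⟩⟩,
      fun x y => {Z : B // (Z : TopologicalSpace.Opens X) ≤ (V x : TopologicalSpace.Opens X) ⊓ (V y : TopologicalSpace.Opens X)},
      fun x y k => k.1, fun x y k => k.2.trans inf_le_left, fun x y k => k.2.trans inf_le_right, hWc⟩
    obtain ⟨t, ht, -⟩ := hF c σ (fun x y k => sep _ _ _ fun z hz => by
      rw [hres z _ hz, hres z _ hz]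
      exact (hσ x z _).trans (hσ y z _).symm)
    refine ⟨t, fun x => ?_⟩
    rw [← hσ x x.1 (hxV x), ← show F.res (hVU x) t = σ x from ht x, hres]

end Groth.Agent.S7587
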