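import Groth.Statements.S7591
import Groth.Agent.FieldExtConn.Conn

set_option autoImplicit false
universe u
open CategoryTheory CategoryTheory.Limits AlgebraicGeometry
open Variety

namespace Groth.Agent.S7591

/-- For a scheme X over a field k, geometric connectedness of X over k holds exactly when, for each
finite separable extension field k' of k, the base change X_{k'} is a connected (so nonempty)
scheme. -/
theorem result (k : Type u) [Field k] (X : Scheme.{u}) [X.Over (Spec (CommRingCat.of k))] :
    GeometricallyConnected (X ↘ (Spec (CommRingCat.of k))) ↔
      ∀ (k' : Type u) [Field k'] [Algebra k k'] [FiniteDimensional k k'] [Algebra.IsSeparable k k'],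
        ConnectedSpace ↥(Curv2.bc k X k') := by
  refine ⟨fun hg k' _ _ _ _ =>
    GeometricallyConnected.geometrically_connectedSpace (f := X ↘ Spec (CommRingCat.of k)) _ _ _
      (IsPullback.of_hasPullback _ _), fun h => ?_⟩
  have key : ∀ L : Groth.Agent.FieldExtConn.Level (k := k) (separableClosure k (AlgebraicClosure k)),
      ConnectedSpace (CategoryTheory.Limits.pullback (X ↘ Spec (CommRingCat.of k)) (Groth.Agent.FieldExtConn.ext k L.1) : Scheme.{u}) := fun L => by
    have : Algebra.IsSeparable k L.1 :=
      Algebra.isSeparable_tower_bot_of_isSeparable k L.1 (separableClosure k (AlgebraicClosure k))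
    exact h L.1
  have := Groth.Agent.FieldExtConn.connectedSpace_of_levels (X ↘ Spec (CommRingCat.of k))
    (separableClosure k (AlgebraicClosure k)) key
  exact Groth.Agent.FieldExtConn.geometricallyConnected_of_sepClosure _

end Groth.Agent.S7591
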