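import Groth.Statements.S7592
import Groth.Agent.GeomIrr.Basic

set_option autoImplicit false
universe u
open CategoryTheory CategoryTheory.Limits AlgebraicGeometry
open Variety

namespace Groth.Agent.S7592

/-- Let K be a (possibly infinite) Galois extension of a field k and f : T → X a morphism of schemes
over k. If the base change T_K is connected and X_K is not connected, then X is not connected. -/
theorem result (k : Type u) [Field k] (K : Type u) [Field K] [Algebra k K] [IsGalois k K]
    (T X : Scheme.{u}) [T.Over (Spec (CommRingCat.of k))] [X.Over (Spec (CommRingCat.of k))]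
    (f : T ⟶ X) [f.IsOver (Spec (CommRingCat.of k))]
    [ConnectedSpace ↥(Curv2.bc k T K)] (hX : ¬ ConnectedSpace ↥(Curv2.bc k X K)) :
    ¬ ConnectedSpace ↥X := by
  intro hXc
  apply hX
  let tX := X ↘ (Spec (CommRingCat.of k))
  let tT := T ↘ (Spec (CommRingCat.of k))
  let e := Spec.map (CommRingCat.ofHom (algebraMap k K))
  let π := pullback.fst tX e
  haveI : UniversallyOpen π := GeomIrr.universallyOpen_fst tX K
  haveI : IsIntegralHom e := IsIntegralHom.SpecMap_iff.2 (algebraMap_isIntegral_iff.2 inferInstance)
  haveI : IsIntegralHom π := MorphismProperty.pullback_fst (P := @IsIntegralHom) tX e inferInstance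
  have hw : f ≫ tX = tT := comp_over f _
  let g : pullback tT e ⟶ pullback tX e :=
    pullback.map _ _ _ _ f (𝟙 _) (𝟙 _) (by rw [Category.comp_id]; exact hw.symm) (by simp)
  haveI hTc : ConnectedSpace ↥(pullback tT e) := (inferInstance : ConnectedSpace ↥(Curv2.bc k T K))
  obtain ⟨t'⟩ := (inferInstance : Nonempty ↥(pullback tT e))
  have hsq : IsPullback (pullback.fst tT e) g f π := by
    refine IsPullback.of_bot ?_ (pullback.lift_fst _ _ _).symm (IsPullback.of_hasPullback tX e)
    rw [show g ≫ pullback.snd tX e = pullback.snd tT e from (pullback.lift_snd _ _ _).trans (Category.comp_id _), hw]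
    exact IsPullback.of_hasPullback tT e
  have hfull : ∀ w, π w = f (pullback.fst tT e t') → w ∈ Set.range g := by
    intro w hw'
    obtain ⟨z, -, hz⟩ := Scheme.Pullback.exists_preimage_pullback
      (f := f) (g := π) (pullback.fst tT e t') w hw'.symm
    refine ⟨hsq.isoPullback.inv z, ?_⟩
    rw [← Scheme.Hom.comp_apply, IsPullback.isoPullback_inv_snd]
    exact hz
  have hconn : _root_.IsConnected (Set.range g) := isConnected_range g.continuous
  haveI : Nonempty ↥(pullback tX e) := ⟨g t'⟩
  haveI : PreconnectedSpace ↥(pullback tX e) := by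
    refine preconnectedSpace_iff_clopen.2 fun A hA => ?_
    -- a clopen set meeting a fibre over the base point is everything
    have key : ∀ B : Set ↥(pullback tX e), IsClopen B → B.Nonempty → (B ∩ Set.range g).Nonempty := by
      intro B hB hne
      have himg : π '' B = Set.univ := by
        haveI := hXc
        exact IsClopen.eq_univ ⟨π.isClosedMap _ hB.1, π.isOpenMap _ hB.2⟩ (hne.image _)
      obtain ⟨w, hw', hw''⟩ := himg.ge (Set.mem_univ (f (pullback.fst tT e t')))
      exact ⟨w, hw', hfull w hw''⟩
    by_contra hcon
    push Not at hcon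
    have h₁ := key A hA hcon.1
    have h₂ := key Aᶜ hA.compl (Set.nonempty_compl.2 hcon.2)
    obtain ⟨w, -, hw₁, hw₂⟩ := hconn.isPreconnected A Aᶜ hA.2 hA.compl.2 (fun w _ => em (w ∈ A))
      (by rwa [Set.inter_comm]) (by rwa [Set.inter_comm])
    exact hw₂ hw₁
  exact (⟨inferInstance⟩ : ConnectedSpace ↥(pullback tX e))

end Groth.Agent.S7592
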