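import Groth.Statements.S7596
import Groth.Agent.GeomRedAt.Change
import Groth.Agent.GeomIrr.Components
-- import your own Groth.Agent.* helpers here

set_option autoImplicit false
universe u
open CategoryTheory CategoryTheory.Limits AlgebraicGeometry
open Variety

namespace Groth.Agent.S7596

/-- Let X be an irreducible scheme over a field k whose k-rational points (points x at which k → κ(x) is
onto) form a dense subset. Then X is geometrically irreducible over k. -/
theorem result (k : Type u) [Field k] (X : Scheme.{u}) [X.Over (Spec (CommRingCat.of k))] [IrreducibleSpace ↥X]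
    (hd : Dense {x : ↥X | Function.Surjective (Curv2.resMap k X x)}) :
    GeometricallyIrreducible (X ↘ (Spec (CommRingCat.of k))) := by
  refine GeomIrr.geometricallyIrreducible_of_dense X (X ↘ Spec (CommRingCat.of k)) (hd.mono fun x hx => ?_)
  refine ⟨CommRingCat.ofHom (Curv2.resMap k X x), hx, ?_⟩
  rw [Scheme.fromSpecResidueField, Category.assoc, GeomRedAt.fromSpecStalk_comp, ← Spec.map_comp]
  rfl

end Groth.Agent.S7596
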