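import Groth.Statements.S7598
import Groth.Agent.GeomIrr.Galois
-- import your own Groth.Agent.* helpers here

set_option autoImplicit false
universe u
open CategoryTheory CategoryTheory.Limits AlgebraicGeometry
open Variety

namespace Groth.Agent.S7598

/-- Let k̄ be a separable algebraic closure of a field k and X a scheme over k. Two irreducible
components Z', Z'' of X_{k̄} have the same image in X if and only if Z'' is the image of Z' under
the action of some k-automorphism of k̄ on X_{k̄} (the fibres of the map on irreducible components
are the Galois orbits). -/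
theorem result (k : Type u) [Field k] (X : Scheme.{u}) [X.Over (Spec (CommRingCat.of k))]
    (Z' Z'' : Set ↥(Curv2.bc k X (SeparableClosure k))) (hZ' : Z' ∈ irreducibleComponents ↥(Curv2.bc k X (SeparableClosure k)))
    (hZ'' : Z'' ∈ irreducibleComponents ↥(Curv2.bc k X (SeparableClosure k))) :
    (Curv2.bcFst k X (SeparableClosure k)).base '' Z' = (Curv2.bcFst k X (SeparableClosure k)).base '' Z'' ↔
      ∃ σ : SeparableClosure k ≃ₐ[k] SeparableClosure k, (Curv2.galAct k X (SeparableClosure k) σ).base '' Z' = Z'' := by
  have heq : ∀ σ : SeparableClosure k ≃ₐ[k] SeparableClosure k, Curv2.galAct k X (SeparableClosure k) σ =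
      FieldExtConn.baseMap (X ↘ Spec (CommRingCat.of k)) (σ : SeparableClosure k →ₐ[k] SeparableClosure k) := fun σ => by
    apply pullback.hom_ext
    · rw [FieldExtConn.baseMap_fst]; exact (pullback.lift_fst _ _ _).trans (Category.comp_id _)
    · rw [FieldExtConn.baseMap_snd]; exact pullback.lift_snd _ _ _
  simp only [heq]
  exact GeomIrr.image_eq_image_iff (X ↘ Spec (CommRingCat.of k)) hZ' hZ''

end Groth.Agent.S7598
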