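import Groth.Statements.S7606
import Groth.Agent.SmoothDense.GeomReg
-- import your own Groth.Agent.* helpers here

set_option autoImplicit false
universe u
open CategoryTheory CategoryTheory.Limits AlgebraicGeometry
attribute [local instance] Curv2.stalkAlgebra
open Variety

namespace Groth.Agent.S7606

/-- Let X be a locally Noetherian scheme over a field k and x a point of X. These conditions are
equivalent: (1) the scheme X is geometrically regular at x; (2) whenever k'/k is finite and purely
inseparable, the local ring O_{X_{k'}, x'} is regular at each point x' of X_{k'} lying over x; (3)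
the local ring O_{X, x} is geometrically regular over k (k' ⊗_k O_{X, x} is a regular ring for every
finite extension k' of k). Stated as (1) ↔ (2) together with (2) ↔ (3). -/
theorem result (k : Type u) [Field k] (X : Scheme.{u}) [X.Over (Spec (CommRingCat.of k))] [IsLocallyNoetherian X] (x : ↥X) :
    (Curv2.IsGeomRegularAt k X x ↔
      ∀ (k' : Type u) [Field k'] [Algebra k k'] [FiniteDimensional k k'] [IsPurelyInseparable k k'] (x' : ↥(Curv2.bc k X k')),
        Curv2.bcFst k X k' x' = x → IsRegularLocalRing ↥((Curv2.bc k X k').presheaf.stalk x')) ∧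
    ((∀ (k' : Type u) [Field k'] [Algebra k k'] [FiniteDimensional k k'] [IsPurelyInseparable k k'] (x' : ↥(Curv2.bc k X k')),
        Curv2.bcFst k X k' x' = x → IsRegularLocalRing ↥((Curv2.bc k X k').presheaf.stalk x')) ↔
      CAlg.IsGeometricallyRegular k ↥(X.presheaf.stalk x)) := by
  let f := X ↘ Spec (CommRingCat.of k)
  let _ := GeomRedAt.stalkAlg f x
  have halg := GeomRedAt.stalkAlg_spec f x
  have halgeq : GeomRedAt.stalkAlg f x = Curv2.stalkAlgebra k X x := by
    refine Algebra.algebra_ext _ _ fun a => ?_
    have h1 := halg.symm.trans (GeomRedAt.fromSpecStalk_comp f x)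
    exact RingHom.congr_fun (congrArg CommRingCat.Hom.hom (Spec.map_injective h1)) a
  have h23 : (∀ (k' : Type u) [Field k'] [Algebra k k'] [FiniteDimensional k k'] [IsPurelyInseparable k k'] (x' : ↥(Curv2.bc k X k')),
        Curv2.bcFst k X k' x' = x → IsRegularLocalRing ↥((Curv2.bc k X k').presheaf.stalk x')) →
      CAlg.IsGeometricallyRegular k ↥(X.presheaf.stalk x) := fun h =>
    (S2672.result k (X.presheaf.stalk x)).1.2 fun k' _ _ hf hp =>
      SmoothDense.isRegularRing_tensor_of_stalks halg k' fun x' hx' => h k' x' hx'
  refine ⟨⟨fun h k' _ _ _ _ x' hx' => h k' (IntermediateField.fg_top_iff.2 inferInstance) x' hx', fun h k' _ _ hfg x' hx' => ?_⟩,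
    ⟨fun h => halgeq ▸ h23 h, fun h k' _ _ _ _ x' hx' => ?_⟩⟩
  · have : Algebra.EssFiniteType k k' := IntermediateField.fg_top_iff.1 hfg
    exact SmoothDense.isRegular_of_isGeometricallyRegular halg (h23 h) k' x' hx'
  · exact SmoothDense.isRegular_of_isGeometricallyRegular halg (halgeq ▸ h) k' x' hx'

end Groth.Agent.S7606
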