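import Groth.Statements.S7610
import Groth.Agent.LocalDim.Basic
-- import your own Groth.Agent.* helpers here

set_option autoImplicit false
universe u
open CategoryTheory CategoryTheory.Limits AlgebraicGeometry
open Variety

namespace Groth.Agent.S7610

open Groth.Agent.FibDim

theorem exists_closure_subscheme {X : Scheme.{u}} (ξ : X) :
    ∃ (Z : Scheme.{u}) (i : Z ⟶ X) (_ : IsClosedImmersion i), Set.range i = closure {ξ} ∧
      ∀ w : Z, IsMax' w → i w = ξ := by
  let I := Scheme.IdealSheafData.vanishingIdeal (⟨closure ({ξ} : Set X), isClosed_closure⟩ : TopologicalSpace.Closeds X)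
  have hr : Set.range I.subschemeι = closure ({ξ} : Set X) := by
    rw [Scheme.IdealSheafData.range_subschemeι, Scheme.IdealSheafData.coe_support_vanishingIdeal]; rfl
  refine ⟨I.subscheme, I.subschemeι, inferInstance, hr, fun w hw => ?_⟩
  obtain ⟨g, hg⟩ : ξ ∈ Set.range I.subschemeι := by rw [hr]; exact subset_closure rfl
  have h : g ⤳ w := I.subschemeι.isEmbedding.isInducing.specializes_iff.mp (by
    rw [hg, specializes_iff_mem_closure, ← hr]; exact ⟨w, rfl⟩)
  rw [← hw g h, hg]

theorem dim_closure_image {X Z : Scheme.{u}} (i : Z ⟶ X) [IsClosedImmersion i] (w : Z) :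
    topologicalKrullDim (closure ({w} : Set Z)) = topologicalKrullDim (closure ({i w} : Set X)) := by
  rw [← Set.image_singleton, i.isClosedEmbedding.closure_image_eq]
  exact (FibreDim.dim_image i.isEmbedding _).symm

theorem key {k : Type u} [Field k] {X Y : Scheme.{u}} (f : X ⟶ Spec (CommRingCat.of k))
    (g : Y ⟶ Spec (CommRingCat.of k)) [LocallyOfFiniteType f] [LocallyOfFiniteType g] (z : ↥(pullback f g)) :
    FlatMor.localDim ↥(pullback f g) z =
      FlatMor.localDim ↥X (pullback.fst f g z) + FlatMor.localDim ↥Y (pullback.snd f g z) := by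
  haveI : LocallyOfFiniteType (pullback.fst f g) :=
    MorphismProperty.of_isPullback (P := @LocallyOfFiniteType) (IsPullback.of_hasPullback f g).flip inferInstance
  obtain ⟨n, hn, ⟨η, hη, hηm, hηn⟩, hall⟩ := LocalDim.exists_localDim (pullback.fst f g ≫ f) z
  obtain ⟨a, ha, ⟨ξ, hξ, -, hξa⟩, halla⟩ := LocalDim.exists_localDim f (pullback.fst f g z)
  obtain ⟨b, hb, ⟨θ, hθ, -, hθb⟩, hallb⟩ := LocalDim.exists_localDim g (pullback.snd f g z)
  rw [hn, ha, hb]
  refine le_antisymm ?_ ?_
  · rw [← hηn, (dim_closure_product f g hηm).2.2]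
    exact add_le_add (halla _ (hη.map (pullback.fst f g).continuous)) (hallb _ (hη.map (pullback.snd f g).continuous))
  · obtain ⟨X', i, hi, hri, hmi⟩ := exists_closure_subscheme ξ
    obtain ⟨Y', j, hj, hrj, hmj⟩ := exists_closure_subscheme θ
    let Φ : pullback (i ≫ f) (j ≫ g) ⟶ pullback f g :=
      pullback.map (i ≫ f) (j ≫ g) f g i j (𝟙 _) (by simp) (by simp)
    haveI : MorphismProperty.IsStableUnderComposition (@IsClosedImmersion : MorphismProperty Scheme.{u}) :=
      ⟨fun f g hf hg => by haveI := hf; haveI := hg; exact IsClosedImmersion.comp f g⟩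
    haveI : IsClosedImmersion Φ :=
      MorphismProperty.pullbackMap (P := (@IsClosedImmersion : MorphismProperty Scheme.{u})) hi hj rfl rfl
    obtain ⟨z', hz'⟩ : z ∈ Set.range Φ := by
      rw [Scheme.Pullback.range_map]
      exact ⟨by rw [Set.mem_preimage, hri]; exact hξ.mem_closure, by rw [Set.mem_preimage, hrj]; exact hθ.mem_closure⟩
    obtain ⟨η', hη', hm'⟩ := exists_isMax'_specializes z'
    obtain ⟨hf', hg', hd⟩ := dim_closure_product (i ≫ f) (j ≫ g) hm'
    rw [dim_closure_image i, dim_closure_image j, hmi _ hf', hmj _ hg', hξa, hθb] at hd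
    rw [← hd, dim_closure_image Φ]
    exact hall _ (hz' ▸ hη'.map Φ.continuous)

/-- Let X and Y be schemes locally of finite type over a field k and z a point of X ×_k Y lying over x
in X and y in Y. Then dim_z(X ×_k Y) = dim_x X + dim_y Y (local dimensions of the underlying
topological spaces, in WithBot ℕ∞). -/
theorem result (k : Type u) [Field k] (X : Scheme.{u}) [X.Over (Spec (CommRingCat.of k))] [LocallyOfFiniteType (X ↘ (Spec (CommRingCat.of k)))]
    (Y : Scheme.{u}) [Y.Over (Spec (CommRingCat.of k))] [LocallyOfFiniteType (Y ↘ (Spec (CommRingCat.of k)))]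
    (z : ↥(pullback (X ↘ (Spec (CommRingCat.of k))) (Y ↘ (Spec (CommRingCat.of k))))) :
    FlatMor.localDim ↥(pullback (X ↘ (Spec (CommRingCat.of k))) (Y ↘ (Spec (CommRingCat.of k)))) z =
      FlatMor.localDim ↥X (pullback.fst (X ↘ (Spec (CommRingCat.of k))) (Y ↘ (Spec (CommRingCat.of k))) z) +
        FlatMor.localDim ↥Y (pullback.snd (X ↘ (Spec (CommRingCat.of k))) (Y ↘ (Spec (CommRingCat.of k))) z) := by
  refine key (X ↘ (Spec (CommRingCat.of k))) (Y ↘ (Spec (CommRingCat.of k))) z

end Groth.Agent.S7610
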