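import Groth.Statements.S7612
import Mathlib
-- import your own Groth.Agent.* helpers here

set_option autoImplicit false
universe u
open CategoryTheory CategoryTheory.Limits AlgebraicGeometry
open Variety

namespace Groth.Agent.S7612

/-- Let X and Y be schemes over a field k and A ⊆ X, B ⊆ Y subsets. Inside X ×_k Y, the closure of the
set of points projecting into A and into B equals the set of points projecting into the closure of A
and into the closure of B. -/
theorem result (k : Type u) [Field k] (X : Scheme.{u}) [X.Over (Spec (CommRingCat.of k))] (Y : Scheme.{u}) [Y.Over (Spec (CommRingCat.of k))] (A : Set ↥X) (B : Set ↥Y) :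
    closure ((pullback.fst (X ↘ (Spec (CommRingCat.of k))) (Y ↘ (Spec (CommRingCat.of k)))).base ⁻¹' A ∩ (pullback.snd (X ↘ (Spec (CommRingCat.of k))) (Y ↘ (Spec (CommRingCat.of k)))).base ⁻¹' B) =
      (pullback.fst (X ↘ (Spec (CommRingCat.of k))) (Y ↘ (Spec (CommRingCat.of k)))).base ⁻¹' closure A ∩ (pullback.snd (X ↘ (Spec (CommRingCat.of k))) (Y ↘ (Spec (CommRingCat.of k)))).base ⁻¹' closure B := by
  let a := X ↘ (Spec (CommRingCat.of k))
  let b := Y ↘ (Spec (CommRingCat.of k))
  let p := pullback.fst a b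
  let q := pullback.snd a b
  refine subset_antisymm ?_ ?_
  · refine closure_minimal (Set.inter_subset_inter (Set.preimage_mono subset_closure) (Set.preimage_mono subset_closure)) ?_
    exact (isClosed_closure.preimage p.continuous).inter (isClosed_closure.preimage q.continuous)
  rintro z ⟨hzA, hzB⟩
  rw [mem_closure_iff]
  intro W hW hzW
  let J := Scheme.IdealSheafData.vanishingIdeal (X := Y) ⟨closure B, isClosed_closure⟩
  let i := J.subschemeι
  have hi : Set.range i.base = closure B := by
    rw [Scheme.IdealSheafData.range_subschemeι]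
    simp [J]
  let r : pullback a (i ≫ b) ⟶ pullback a b :=
    pullback.map _ _ _ _ (𝟙 X) i (𝟙 _) (by simp) (by simp)
  have hr : Set.range r.base = q.base ⁻¹' closure B := by
    show Set.range (pullback.map _ _ _ _ (𝟙 X) i (𝟙 _) _ _) = _
    rw [Scheme.Pullback.range_map, hi]
    simp [q]
  have hr1 : r ≫ p = pullback.fst a (i ≫ b) :=
    (pullback.lift_fst _ _ _).trans (Category.comp_id _)
  obtain ⟨z', hz'⟩ : z ∈ Set.range r.base := by rw [hr]; exact hzB
  have hopen : IsOpen ((pullback.fst a (i ≫ b)) '' (r.base ⁻¹' W)) :=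
    (pullback.fst a (i ≫ b)).isOpenMap _ (hW.preimage r.continuous)
  obtain ⟨x, ⟨w, hw, hwx⟩, hxA⟩ := mem_closure_iff.mp hzA _ hopen ⟨z', by simpa [hz'] using hzW, by
    rw [← hr1, Scheme.Hom.comp_apply, hz']⟩
  let r2 : pullback (X.fromSpecResidueField x ≫ a) b ⟶ pullback a b :=
    pullback.map _ _ _ _ (X.fromSpecResidueField x) (𝟙 Y) (𝟙 _) (by simp) (by simp)
  have hr2 : Set.range r2.base = p.base ⁻¹' {x} := by
    show Set.range (pullback.map _ _ _ _ (X.fromSpecResidueField x) (𝟙 Y) (𝟙 _) _ _) = _
    rw [Scheme.Pullback.range_map, Scheme.range_fromSpecResidueField]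
    simp [p]
  obtain ⟨t, ht⟩ : r.base w ∈ Set.range r2.base := by
    rw [hr2]
    show p (r w) = x
    rw [← Scheme.Hom.comp_apply, hr1]; exact hwx
  have hr22 : r2 ≫ q = pullback.snd (X.fromSpecResidueField x ≫ a) b :=
    (pullback.lift_snd _ _ _).trans (Category.comp_id _)
  have hopen2 : IsOpen ((pullback.snd (X.fromSpecResidueField x ≫ a) b) '' (r2.base ⁻¹' W)) :=
    (pullback.snd (X.fromSpecResidueField x ≫ a) b).isOpenMap _ (hW.preimage r2.continuous)
  have hqB : q (r w) ∈ closure B := by
    have : r.base w ∈ Set.range r.base := ⟨w, rfl⟩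
    rw [hr] at this
    exact this
  obtain ⟨y, ⟨t', ht', hty⟩, hyB⟩ := mem_closure_iff.mp hqB _ hopen2 ⟨t, by simpa [ht] using hw, by
    rw [← hr22, Scheme.Hom.comp_apply, ht]⟩
  refine ⟨r2 t', ht', ?_, ?_⟩
  · show p (r2 t') ∈ A
    have : r2.base t' ∈ Set.range r2.base := ⟨t', rfl⟩
    rw [hr2] at this
    rw [show p (r2 t') = x from this]
    exact hxA
  · show q (r2 t') ∈ B
    rw [← Scheme.Hom.comp_apply, hr22, hty]
    exact hyB

end Groth.Agent.S7612
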