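import Groth.Statements.S7613
import Groth.Agent.SmoothDense.Rational
-- import your own Groth.Agent.* helpers here

set_option autoImplicit false
universe u
open CategoryTheory CategoryTheory.Limits AlgebraicGeometry
open Variety

namespace Groth.Agent.S7613

/-- Let X be a variety over a field k (integral, separated and of finite type over k) with a k-rational
point x (k → κ(x) onto) such that X → Spec k is smooth at x. Then every base change of X to an
extension field of k is an integral scheme (X is geometrically integral over k). -/
theorem result (k : Type u) [Field k] (X : Scheme.{u}) [X.Over (Spec (CommRingCat.of k))] [IsIntegral X] [IsSeparated (X ↘ (Spec (CommRingCat.of k)))]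
    [LocallyOfFiniteType (X ↘ (Spec (CommRingCat.of k)))] [QuasiCompact (X ↘ (Spec (CommRingCat.of k)))]
    (x : ↥X) (hx : Function.Surjective (Curv2.resMap k X x)) (hsm : x ∈ (X ↘ (Spec (CommRingCat.of k))).smoothLocus) :
    GeometricallyIntegral (X ↘ (Spec (CommRingCat.of k))) := by
  have hres : Spec.map (CommRingCat.ofHom (Curv2.resMap k X x)) =
      X.fromSpecResidueField x ≫ (X ↘ Spec (CommRingCat.of k)) := by
    rw [Scheme.fromSpecResidueField, Category.assoc, GeomRedAt.fromSpecStalk_comp, ← Spec.map_comp]
    rfl
  let e : k ≃+* X.residueField x := RingEquiv.ofBijective (Curv2.resMap k X x) ⟨RingHom.injective _, hx⟩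
  refine SmoothDense.geometricallyIntegral_of_section _
    (Spec.map (CommRingCat.ofHom e.symm.toRingHom) ≫ X.fromSpecResidueField x) ?_ ?_
  · rw [Category.assoc, ← hres, ← Spec.map_comp, ← CommRingCat.ofHom_comp]
    have : (e.symm.toRingHom.comp (Curv2.resMap k X x)) = RingHom.id k := RingHom.ext fun a => e.symm_apply_apply a
    rw [this, CommRingCat.ofHom_id, Spec.map_id]
  · rw [Scheme.Hom.comp_apply, Scheme.fromSpecResidueField_apply]
    exact hsm

end Groth.Agent.S7613
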