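import Groth.Statements.S7614
import Mathlib
import Groth.Agent.ImmDescent.QuasiAffine
import Groth.Agent.FpqcDescent.Basic
-- import your own Groth.Agent.* helpers here

set_option autoImplicit false
universe u
open CategoryTheory CategoryTheory.Limits AlgebraicGeometry
open Variety

namespace Groth.Agent.S7614

/-- Let X be a scheme over a field k and K an extension field of k. If X_K is quasi-affine, then X is
quasi-affine. -/
theorem result (k : Type u) [Field k] (X : Scheme.{u}) [X.Over (Spec (CommRingCat.of k))] (K : Type u) [Field K] [Algebra k K]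
    [(Curv2.bc k X K).IsQuasiAffine] : X.IsQuasiAffine := by
  let q : Spec (CommRingCat.of K) ⟶ Spec (CommRingCat.of k) := Spec.map (CommRingCat.ofHom (algebraMap k K))
  have : Flat q := by
    rw [HasRingHomProperty.Spec_iff (P := @Flat)]
    exact RingHom.flat_algebraMap_iff.mpr inferInstance
  have : Subsingleton (Spec (CommRingCat.of k)) := inferInstanceAs (Subsingleton (PrimeSpectrum k))
  have : Nonempty (Spec (CommRingCat.of K)) := inferInstanceAs (Nonempty (PrimeSpectrum K))
  have : Surjective q := inferInstance
  have hQ : Scheme.IsQuasiAffine (Curv2.bc k X K) := inferInstance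
  set h : X ⟶ Spec (CommRingCat.of k) := X ↘ Spec (CommRingCat.of k) with hh
  have hQ' : (@Surjective ⊓ @Flat ⊓ @QuasiCompact : MorphismProperty Scheme.{u}) q :=
    ⟨⟨inferInstance, inferInstance⟩, inferInstance⟩
  have hq2 : Scheme.IsQuasiAffine (pullback h q) := hQ
  have hqc : QuasiCompact (pullback.snd h q) := by
    rw [HasAffineProperty.iff_of_isAffine (P := @QuasiCompact)]; infer_instance
  have hqs : QuasiSeparated (pullback.snd h q) := by
    rw [HasAffineProperty.iff_of_isAffine (P := @QuasiSeparated)]; infer_instance
  have := FpqcDescent.quasiCompact_descendsAlong.{u}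
  have := FpqcDescent.quasiSeparated_descendsAlong.{u}
  have : QuasiCompact h := MorphismProperty.of_pullback_snd_of_descendsAlong (P := @QuasiCompact)
    (Q := @Surjective ⊓ @Flat ⊓ @QuasiCompact) hQ' hqc
  have : QuasiSeparated h := MorphismProperty.of_pullback_snd_of_descendsAlong (P := @QuasiSeparated)
    (Q := @Surjective ⊓ @Flat ⊓ @QuasiCompact) hQ' hqs
  exact ImmDescent.isQuasiAffine_of_pullback h q hQ

end Groth.Agent.S7614
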