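import Groth.Statements.S7618
import Mathlib
-- import your own Groth.Agent.* helpers here

set_option autoImplicit false
universe u
open CategoryTheory CategoryTheory.Limits AlgebraicGeometry
open Variety

namespace Groth.Agent.S7618

open CategoryTheory AlgebraicGeometry

theorem eq_zero_or_one_of_isIdempotentElem (X : Scheme.{u}) [ConnectedSpace X] [IsReduced X]
    {e : Γ(X, ⊤)} (he : IsIdempotentElem e) : e = 0 ∨ e = 1 := by
  have h1 : e * (1 - e) = 0 := by rw [mul_sub, mul_one, he.eq, sub_self]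
  have hd : X.basicOpen e ⊓ X.basicOpen (1 - e) = ⊥ := by
    rw [← Scheme.basicOpen_mul, h1, Scheme.basicOpen_zero]
  have hc : ∀ x : X, x ∈ X.basicOpen e ∨ x ∈ X.basicOpen (1 - e) := fun x => by
    simp only [Scheme.mem_basicOpen_top]
    refine IsLocalRing.isUnit_or_isUnit_of_isUnit_add ?_
    rw [← map_add, add_sub_cancel, map_one]
    exact isUnit_one
  have hcl : IsClopen (X.basicOpen e : Set X) := by
    refine ⟨?_, (X.basicOpen e).2⟩
    rw [show (X.basicOpen e : Set X) = (X.basicOpen (1 - e) : Set X)ᶜ from ?_]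
    · exact (X.basicOpen (1 - e)).2.isClosed_compl
    ext x
    refine ⟨fun hx hx' => ?_, fun hx => (hc x).resolve_right hx⟩
    have : x ∈ X.basicOpen e ⊓ X.basicOpen (1 - e) := ⟨hx, hx'⟩
    rwa [hd] at this
  rcases isClopen_iff.mp hcl with h | h
  · exact Or.inl ((basicOpen_eq_bot_iff e).mp (TopologicalSpace.Opens.ext h))
  · refine Or.inr (sub_eq_zero.mp ((basicOpen_eq_bot_iff (1 - e)).mp ?_)).symm
    rw [← hd, show X.basicOpen e = ⊤ from TopologicalSpace.Opens.ext h, top_inf_eq]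


/-- Let X be a connected reduced scheme over a field k. Then the global functions on X that are integral
over k form a field. -/
theorem result (k : Type u) [Field k] (X : Scheme.{u}) [X.Over (Spec (CommRingCat.of k))] [ConnectedSpace ↥X] [IsReduced X] :
    letI := ((X ↘ (Spec (CommRingCat.of k))).appTop.hom.comp (Scheme.ΓSpecIso (CommRingCat.of k)).inv.hom : k →+* Γ(X, ⊤)).toAlgebra
    IsField ↥(integralClosure k ↑Γ(X, ⊤)) := by
  letI := ((X ↘ (Spec (CommRingCat.of k))).appTop.hom.comp (Scheme.ΓSpecIso (CommRingCat.of k)).inv.hom : k →+* Γ(X, ⊤)).toAlgebra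
  haveI : Nonempty (⊤ : X.Opens) := ⟨⟨Classical.arbitrary _, trivial⟩⟩
  have : Nontrivial ↑Γ(X, ⊤) := inferInstance
  refine ⟨⟨0, 1, zero_ne_one⟩, mul_comm, fun {a} ha => ?_⟩
  have hai : IsIntegral k (a : Γ(X, ⊤)) := a.2
  let R := Algebra.adjoin k {(a : Γ(X, ⊤))}
  haveI : Module.Finite k R := Module.Finite.iff_fg.mpr hai.fg_adjoin_singleton
  haveI : IsArtinianRing R := IsArtinianRing.of_finite k R
  let r : R := ⟨a, Algebra.subset_adjoin rfl⟩
  obtain ⟨n, y, hy⟩ := IsArtinian.exists_pow_succ_smul_dvd r (1 : R)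
  simp only [smul_eq_mul, mul_one, Nat.succ_eq_add_one] at hy
  have hz : IsNilpotent ((a : Γ(X, ⊤)) * (1 - (a : Γ(X, ⊤)) * (y : Γ(X, ⊤)))) := by
    refine ⟨n + 1, ?_⟩
    have hy' : (a : Γ(X, ⊤)) ^ (n + 1) * (y : Γ(X, ⊤)) = (a : Γ(X, ⊤)) ^ n :=
      congrArg Subtype.val hy
    rw [mul_pow, pow_succ (1 - _) n]
    linear_combination (-(a : Γ(X, ⊤)) * (1 - (a : Γ(X, ⊤)) * (y : Γ(X, ⊤))) ^ n) * hy'
  have hz0 := hz.eq_zero
  have hidem : IsIdempotentElem ((a : Γ(X, ⊤)) * (y : Γ(X, ⊤))) := by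
    show _ * _ = _
    linear_combination (-(y : Γ(X, ⊤))) * hz0
  have hymem : (y : Γ(X, ⊤)) ∈ integralClosure k Γ(X, ⊤) :=
    IsIntegral.of_mem_of_fg R hai.fg_adjoin_singleton _ y.2
  rcases eq_zero_or_one_of_isIdempotentElem X hidem with h | h
  · refine absurd (Subtype.ext ?_) ha
    show (a : Γ(X, ⊤)) = 0
    rw [mul_sub, ← mul_assoc, mul_one, mul_assoc, h, mul_zero, sub_zero] at hz0
    exact hz0
  · exact ⟨⟨y, hymem⟩, Subtype.ext h⟩

end Groth.Agent.S7618
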