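import Groth.Statements.S7619
import Mathlib.RingTheory.Unramified.Locus
import Mathlib.RingTheory.LocalRing.Module
-- import your own Groth.Agent.* helpers here

set_option autoImplicit false
set_option linter.style.haveILetI false
universe u
open CategoryTheory CategoryTheory.Limits AlgebraicGeometry
open scoped TensorProduct
open Variety

namespace Groth.Agent.S7619

/-- Let A → B be a finite type ring map (a finite type morphism of affine schemes), q a prime of B and r
= dim_{κ(q)} Ω_{B/A} ⊗_B κ(q). Then there is an A-algebra homomorphism A[x_1, …, x_r] → B for which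
B is unramified over A[x_1, …, x_r] at q. -/
theorem result (A B : Type u) [CommRing A] [CommRing B] [Algebra A B] [Algebra.FiniteType A B]
    (q : Ideal B) [q.IsPrime] (r : ℕ) (hr : Module.finrank q.ResidueField (q.ResidueField ⊗[B] Ω[B⁄A]) = r) :
    ∃ φ : MvPolynomial (Fin r) A →ₐ[A] B,
      letI := φ.toRingHom.toAlgebra
      Algebra.IsUnramifiedAt (MvPolynomial (Fin r) A) q := by
  classical
  let s : Set (q.ResidueField ⊗[B] Ω[B⁄A]) := Set.range fun b : B => (1 : q.ResidueField) ⊗ₜ[B] KaehlerDifferential.D A B b
  have hs : Submodule.span q.ResidueField s = ⊤ := by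
    rw [eq_top_iff]
    rintro x -
    induction x using TensorProduct.induction_on with
    | zero => exact zero_mem _
    | add x y hx hy => exact add_mem hx hy
    | tmul c w =>
      have h1 : c ⊗ₜ[B] w = c • ((1 : q.ResidueField) ⊗ₜ[B] w) := by rw [TensorProduct.smul_tmul', smul_eq_mul, mul_one]
      rw [h1]
      refine Submodule.smul_mem _ c ?_
      clear h1
      have hw : w ∈ Submodule.span B (Set.range (KaehlerDifferential.D A B)) := by
        rw [KaehlerDifferential.span_range_derivation]; trivial
      induction hw using Submodule.span_induction with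
      | mem y hy => obtain ⟨b, rfl⟩ := hy; exact Submodule.subset_span ⟨b, rfl⟩
      | zero => rw [TensorProduct.tmul_zero]; exact zero_mem _
      | add y z _ _ hy hz => rw [TensorProduct.tmul_add]; exact add_mem hy hz
      | smul b y _ hy => rw [TensorProduct.tmul_smul]; exact Submodule.smul_of_tower_mem _ b hy
  obtain ⟨f, hf, hspan, -⟩ := Submodule.exists_fun_fin_finrank_span_eq q.ResidueField s
  have hr' : Module.finrank q.ResidueField (Submodule.span q.ResidueField s) = r := by
    rw [hs, finrank_top, hr]
  choose b hb using hf
  let φ : MvPolynomial (Fin r) A →ₐ[A] B := MvPolynomial.aeval fun i => b (Fin.cast hr'.symm i)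
  refine ⟨φ, ?_⟩
  letI := φ.toRingHom.toAlgebra
  show Algebra.IsUnramifiedAt (MvPolynomial (Fin r) A) q
  haveI : IsScalarTower A (MvPolynomial (Fin r) A) B := IsScalarTower.of_algebraMap_eq fun a => (φ.commutes a).symm
  haveI : Algebra.FiniteType (MvPolynomial (Fin r) A) B := Algebra.FiniteType.of_restrictScalars_finiteType A _ B
  have hsub : Subsingleton (q.ResidueField ⊗[B] Ω[B⁄MvPolynomial (Fin r) A]) := by
    let π := (KaehlerDifferential.map A (MvPolynomial (Fin r) A) B B).baseChange q.ResidueField
    have hπ : Function.Surjective π := LinearMap.lTensor_surjective q.ResidueField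
      (KaehlerDifferential.map_surjective A (MvPolynomial (Fin r) A) B)
    have hzero : ∀ x, π x = 0 := fun x => by
      have hx : x ∈ Submodule.span q.ResidueField (Set.range f) := by rw [hspan, hs]; trivial
      induction hx using Submodule.span_induction with
      | mem y hy =>
        obtain ⟨i, rfl⟩ := hy
        rw [← hb i]
        simp only [π, LinearMap.baseChange_tmul, KaehlerDifferential.map_D]
        have hbi : algebraMap B B (b i) = algebraMap (MvPolynomial (Fin r) A) B (MvPolynomial.X (Fin.cast hr' i)) := by
          show b i = φ (MvPolynomial.X (Fin.cast hr' i))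
          rw [MvPolynomial.aeval_X]
          rfl
        rw [hbi, Derivation.map_algebraMap, TensorProduct.tmul_zero]
      | zero => exact map_zero _
      | add y z _ _ hy hz => rw [map_add, hy, hz, add_zero]
      | smul c y _ hy => rw [map_smul, hy, smul_zero]
    exact ⟨fun x y => by
      obtain ⟨x, rfl⟩ := hπ x
      obtain ⟨y, rfl⟩ := hπ y
      rw [hzero, hzero]⟩
  have h : (⟨q, inferInstance⟩ : PrimeSpectrum B) ∈ Algebra.unramifiedLocus (MvPolynomial (Fin r) A) B := by
    rw [Algebra.unramifiedLocus_eq_compl_support, Set.mem_compl_iff,
      Module.mem_support_iff_nontrivial_residueField_tensorProduct, not_nontrivial_iff_subsingleton]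
    exact hsub
  exact h

end Groth.Agent.S7619
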