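import Groth.Statements.S7620
import Mathlib
import Groth.Agent.DimTrdeg.Basic
-- import your own Groth.Agent.* helpers here

set_option autoImplicit false
universe u
open CategoryTheory CategoryTheory.Limits AlgebraicGeometry
open scoped TensorProduct
open Variety

namespace Groth.Agent.S7620

/-- Let A → B be a finite type ring map (a finite type morphism of affine schemes X → S), p a prime of A
and suppose the fibre ring κ(p) ⊗_A B has Krull dimension d. Then there is an A-algebra homomorphism
π : A[t_1, …, t_d] → B such that the induced map of fibres κ(p) ⊗_A A[t_1, …, t_d] → κ(p) ⊗_A B is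
finite. -/
theorem result (A B : Type u) [CommRing A] [CommRing B] [Algebra A B] [Algebra.FiniteType A B]
    (p : Ideal A) [p.IsPrime] (d : ℕ) (hd : ringKrullDim (p.ResidueField ⊗[A] B) = d) :
    ∃ π : MvPolynomial (Fin d) A →ₐ[A] B,
      (Algebra.TensorProduct.map (AlgHom.id p.ResidueField p.ResidueField) π).toRingHom.Finite := by
  classical
  haveI : Nontrivial (p.ResidueField ⊗[A] B) := by
    by_contra hn
    rw [not_nontrivial_iff_subsingleton] at hn
    rw [ringKrullDim_eq_bot_of_subsingleton] at hd
    simp at hd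
  obtain ⟨s, g, hg, hfin⟩ := exists_finite_inj_algHom_of_fg p.ResidueField (p.ResidueField ⊗[A] B)
  have hsd : s = d := by
    let := g.toRingHom.toAlgebra
    haveI : Module.Finite (MvPolynomial (Fin s) p.ResidueField) (p.ResidueField ⊗[A] B) := hfin
    haveI : FaithfulSMul (MvPolynomial (Fin s) p.ResidueField) (p.ResidueField ⊗[A] B) :=
      (faithfulSMul_iff_algebraMap_injective _ _).2 hg
    haveI : Algebra.IsIntegral (MvPolynomial (Fin s) p.ResidueField) (p.ResidueField ⊗[A] B) :=
      Algebra.IsIntegral.of_finite _ _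
    have h := DimTrdeg.ringKrullDim_eq_of_isIntegral (MvPolynomial (Fin s) p.ResidueField)
      (p.ResidueField ⊗[A] B) hg
    rw [MvPolynomial.ringKrullDim_of_isNoetherianRing, ringKrullDim_eq_zero_of_field, zero_add, hd] at h
    simpa using h.symm
  subst hsd
  choose r hr b hb using fun i => Ideal.Fiber.exists_smul_eq_one_tmul p (g (MvPolynomial.X i))
  let π : MvPolynomial (Fin s) A →ₐ[A] B := MvPolynomial.aeval b
  refine ⟨π, ?_⟩
  let h := Algebra.TensorProduct.map (AlgHom.id p.ResidueField p.ResidueField) π
  let ψ : MvPolynomial (Fin s) p.ResidueField →ₐ[p.ResidueField] p.ResidueField ⊗[A] MvPolynomial (Fin s) A :=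
    MvPolynomial.aeval fun i => (algebraMap A p.ResidueField (r i))⁻¹ ⊗ₜ[A] MvPolynomial.X i
  have hcomp : h.comp ψ = g := MvPolynomial.algHom_ext fun i => by
    have hne : algebraMap A p.ResidueField (r i) ≠ 0 := fun h0 =>
      hr i (Ideal.algebraMap_residueField_eq_zero.1 h0)
    simp only [AlgHom.comp_apply, ψ, MvPolynomial.aeval_X, h, Algebra.TensorProduct.map_tmul, π,
      AlgHom.id_apply]
    rw [show ((algebraMap A p.ResidueField (r i))⁻¹ ⊗ₜ[A] b i : p.ResidueField ⊗[A] B) =
      (algebraMap A p.ResidueField (r i))⁻¹ • ((1 : p.ResidueField) ⊗ₜ[A] b i) by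
        rw [TensorProduct.smul_tmul', smul_eq_mul, mul_one], ← hb i,
      ← IsScalarTower.algebraMap_smul p.ResidueField (r i) (g (MvPolynomial.X i)), smul_smul,
      inv_mul_cancel₀ hne, one_smul]
  refine RingHom.Finite.of_comp_finite (f := ψ.toRingHom) ?_
  show (h.comp ψ).toRingHom.Finite
  rw [hcomp]
  exact hfin

end Groth.Agent.S7620
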