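import Groth.Statements.S7642
import Groth.Agent.CurveDeg.Components

set_option autoImplicit false
set_option backward.isDefEq.respectTransparency false
universe u
open CategoryTheory CategoryTheory.Limits AlgebraicGeometry
open Variety

namespace Groth.Agent.S7642

/-- Let X be proper of dimension at most one over a field k and let L be an invertible module on X. Then
L is ample if and only if deg(L|_C) > 0 for every irreducible component C of X of dimension one, C
carrying its reduced induced structure. -/
theorem result (k : Type u) [Field k] (X : Scheme.{u}) [X.Over (Spec (CommRingCat.of k))] [IsProper (X ↘ (Spec (CommRingCat.of k)))] [IsNoetherian X]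
    (hdim : topologicalKrullDim X ≤ 1) (L : X.Modules) (hL : PicF.IsInvertible L) :
    CohB1.IsAmple L ↔ ∀ (C : Set X) (hC : C ∈ irreducibleComponents (X : Type u)),
      topologicalKrullDim C = 1 → 0 < @Curv2.deg k _ (X.irreducibleComponentIdeal C hC).radical.subscheme ⟨(X.irreducibleComponentIdeal C hC).radical.subschemeι ≫ (X ↘ (Spec (CommRingCat.of k)))⟩ ((Scheme.Modules.pullback (X.irreducibleComponentIdeal C hC).radical.subschemeι).obj L) 1 := by
  have key : ∀ (C : Set X) (hC : C ∈ irreducibleComponents (X : Type u)),
      (X.irreducibleComponentIdeal C hC).radical =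
        Scheme.IdealSheafData.vanishingIdeal ⟨C, isClosed_of_mem_irreducibleComponents C hC⟩ := fun C hC => by
    rw [← Scheme.IdealSheafData.vanishingIdeal_support]
    rfl
  have piece : ∀ (C : Set X) (hC : C ∈ irreducibleComponents (X : Type u)),
      CohB1.IsAmple ((Scheme.Modules.pullback (X.irreducibleComponentIdeal C hC).radical.subschemeι).obj L) ↔
        (topologicalKrullDim C = 1 → 0 < @Curv2.deg k _ (X.irreducibleComponentIdeal C hC).radical.subscheme
          ⟨(X.irreducibleComponentIdeal C hC).radical.subschemeι ≫ (X ↘ (Spec (CommRingCat.of k)))⟩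
          ((Scheme.Modules.pullback (X.irreducibleComponentIdeal C hC).radical.subschemeι).obj L) 1) := fun C hC =>
    Groth.Agent.CurveDeg.isAmple_iff_of_integral_subscheme k hL ⟨C, isClosed_of_mem_irreducibleComponents C hC⟩
      hC.1 ((topologicalKrullDim_subspace_le X C).trans hdim) _ (key C hC)
  refine ⟨fun h C hC => (piece C hC).mp (Groth.Agent.AmpleDescent.isAmple_pullback_affine h _), fun h => ?_⟩
  refine Groth.Agent.AmpleDescent.isAmple_of_closed_cover (X ↘ Spec (CommRingCat.of k)) hL
    (ι := {C : Set X // C ∈ irreducibleComponents (X : Type u)})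
    (fun C => (X.irreducibleComponentIdeal C.1 C.2).radical) (fun x => ?_) fun C => (piece C.1 C.2).mpr (h C.1 C.2)
  refine ⟨⟨_, irreducibleComponent_mem_irreducibleComponents x⟩, ?_⟩
  rw [key]
  exact closure_minimal (Set.singleton_subset_iff.mpr mem_irreducibleComponent) isClosed_irreducibleComponent
end Groth.Agent.S7642
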