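import Groth.Statements.S7644
import Mathlib
-- import your own Groth.Agent.* helpers here

set_option autoImplicit false
universe u
open CategoryTheory CategoryTheory.Limits AlgebraicGeometry
open Variety

namespace Groth.Agent.S7644

/-- If X is an irreducible scheme of positive dimension, separated over a field k, and x is a closed
point of X, then the open subscheme obtained by removing x is not proper over k. -/
theorem result (k : Type u) [Field k] (X : Scheme.{u}) [X.Over (Spec (CommRingCat.of k))]
    [IsSeparated (X ↘ (Spec (CommRingCat.of k)))] [IrreducibleSpace X] (hdim : 0 < topologicalKrullDim X)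
    (x : X) (hx : IsClosed ({x} : Set X)) :
    ¬ IsProper (Scheme.Opens.ι (⟨({x} : Set X)ᶜ, hx.isOpen_compl⟩ : X.Opens) ≫ (X ↘ (Spec (CommRingCat.of k)))) := by
  intro h
  let U : X.Opens := ⟨({x} : Set X)ᶜ, hx.isOpen_compl⟩
  haveI : IsProper (U.ι ≫ (X ↘ (Spec (CommRingCat.of k)))) := h
  haveI : IsProper U.ι := IsProper.of_comp U.ι (X ↘ (Spec (CommRingCat.of k)))
  have hc : IsClosed (U : Set X) := by
    have := U.ι.isClosedMap.isClosed_range
    rwa [Scheme.Opens.range_ι] at this
  have hclopen : IsClopen ({x}ᶜ : Set X) := ⟨hc, hx.isOpen_compl⟩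
  rcases isClopen_iff.mp hclopen with h0 | h0
  · have : Subsingleton X := ⟨fun a b => by
      have ha : a = x := by_contra fun hne => (h0.le (show a ∈ ({x}ᶜ : Set X) from hne)).elim
      have hb : b = x := by_contra fun hne => (h0.le (show b ∈ ({x}ᶜ : Set X) from hne)).elim
      rw [ha, hb]⟩
    exact absurd hdim (not_lt.mpr (topologicalKrullDim_zero_of_discreteTopology X))
  · exact (h0.ge (Set.mem_univ x)) rfl

end Groth.Agent.S7644
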