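import Groth.Statements.S7647
import Groth.Agent.HilbPoly.InterDim

set_option autoImplicit false
set_option backward.isDefEq.respectTransparency false
universe u
open CategoryTheory CategoryTheory.Limits AlgebraicGeometry
open Variety

namespace Groth.Agent.S7647

/-- Let X be proper over a field k, Z ⊆ X a closed subscheme of dimension ≤ 1 and L an invertible
module. Then the intersection number (L · Z), i.e. the coefficient of n in the polynomial computing
χ(X, O_Z ⊗ L^{⊗n}), equals the degree of L|_Z on Z. -/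
theorem result (k : Type u) [Field k] (X : Scheme.{u}) [X.Over (Spec (CommRingCat.of k))] [IsProper (X ↘ (Spec (CommRingCat.of k)))]
    (D : X.IdealSheafData) (hD : topologicalKrullDim (D.support : Set X) ≤ 1)
    (L : X.Modules) (hL : PicF.IsInvertible L) (P : MvPolynomial (Fin 1) ℚ)
    (hP : ∀ n : Fin 1 → ℕ, (Curv2.euler k X (Curv2.tensorPows (ClSub.quotMod D) 1 (fun _ => L) n) : ℚ) = MvPolynomial.eval (fun i => (n i : ℚ)) P) :
    MvPolynomial.coeff (Finsupp.equivFunOnFinite.symm fun _ : Fin 1 => 1) P =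
      (@Curv2.deg k _ D.subscheme ⟨D.subschemeι ≫ (X ↘ (Spec (CommRingCat.of k)))⟩
        ((Scheme.Modules.pullback D.subschemeι).obj L) 1 : ℚ) := by
  classical
  have : IsLocallyNoetherian X := LocallyOfFiniteType.isLocallyNoetherian (X ↘ (Spec (CommRingCat.of k)))
  have hF := Groth.Agent.HilbPoly.isCoh_quotMod D
  have hd : topologicalKrullDim (CohB1.support (ClSub.quotMod D)) ≤ ((1 : ℕ) : WithBot ℕ∞) := by
    rw [Groth.Agent.HilbPoly.support_quotMod_eq]
    exact_mod_cast hD
  let L' := (Scheme.Modules.pullback D.subschemeι).obj L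
  have hq := Groth.Agent.InvBasic.isQuasicoherent_structureModule D.subscheme
  have hkey : ∀ n : Fin 1 → ℕ, Curv2.euler k X (Curv2.tensorPows (ClSub.quotMod D) 1 (fun _ => L) n) =
      @Curv2.euler k _ D.subscheme ⟨D.subschemeι ≫ (X ↘ (Spec (CommRingCat.of k)))⟩
        (Curv2.tensorPows (Coh.structureModule D.subscheme) 1 (fun _ => L') n) := fun n => by
    obtain ⟨e⟩ := Groth.Agent.HilbPoly.nonempty_push_tensorPows D.subschemeι (Coh.structureModule D.subscheme)
      (L := fun _ : Fin 1 => L) (fun _ => hL) n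
    have := Groth.Agent.HilbPoly.isQuasicoherent_tensorPows (N := Coh.structureModule D.subscheme)
      (L := fun _ : Fin 1 => L') (fun _ => Groth.Agent.ProjUniv.isInvertible_pullback D.subschemeι hL) n
    exact (Groth.Agent.HilbPoly.euler_congr e).trans (Groth.Agent.HilbPoly.euler_push D.subschemeι k _)
  let : D.subscheme.Over (Spec (CommRingCat.of k)) := ⟨D.subschemeι ≫ (X ↘ (Spec (CommRingCat.of k)))⟩
  have h1 : ∀ n : Fin 1 → ℕ, n 0 = 1 → Curv2.euler k D.subscheme
      (Curv2.tensorPows (Coh.structureModule D.subscheme) 1 (fun _ => L') n) = Curv2.euler k D.subscheme L' := by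
    intro n hn
    obtain ⟨c⟩ := Groth.Agent.ProjTwist.nonempty_tensorMod_comm (Coh.structureModule D.subscheme) L'
    obtain ⟨b⟩ := Groth.Agent.ProjTwist.nonempty_tensorMod_iso (Iso.refl (Coh.structureModule D.subscheme))
      (c ≪≫ SecTwist.unitorR L')
    refine Groth.Agent.HilbPoly.euler_congr (eqToIso ?_ ≪≫ b ≪≫ c ≪≫ SecTwist.unitorR L')
    show CohB1.tensorMod _ (CohB1.tensorPow L' (n 0)) = _
    rw [hn]
    rfl
  have h0 : ∀ n : Fin 1 → ℕ, n 0 = 0 → Curv2.euler k D.subscheme
      (Curv2.tensorPows (Coh.structureModule D.subscheme) 1 (fun _ => L') n) =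
        Curv2.euler k D.subscheme (Coh.structureModule D.subscheme) := by
    intro n hn
    refine Groth.Agent.HilbPoly.euler_congr (eqToIso ?_ ≪≫ SecTwist.unitorR _)
    show CohB1.tensorMod _ (CohB1.tensorPow L' (n 0)) = _
    rw [hn]
    rfl
  rw [Groth.Agent.HilbPoly.coeff_diag_eq_altSum k (fun _ => hL) hF hd hP, Groth.Agent.HilbPoly.altSum,
    show (Finset.univ : Finset (Fin 1)).powerset = {∅, {0}} by decide,
    Finset.sum_pair (Finset.singleton_ne_empty _).symm]
  rw [hkey, hkey, h0 _ (by simp [Groth.Agent.HilbPoly.ind]), h1 _ (by simp [Groth.Agent.HilbPoly.ind])]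
  simp [Curv2.deg]
  ring
end Groth.Agent.S7647
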