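import Groth.Statements.S7651
import Groth.Agent.DepthLib.Basic
import Mathlib.RingTheory.Ideal.MinimalPrime.Localization
import Mathlib.RingTheory.Ideal.MinimalPrime.Noetherian
import Mathlib.RingTheory.KrullDimension.Zero
import Mathlib.RingTheory.LocalRing.ResidueField.Ideal
import Mathlib.RingTheory.Nilpotent.Lemmas
import Mathlib.Algebra.Group.Pi.Units
import Mathlib.RingTheory.LocalProperties.Reduced
-- import your own Groth.Agent.* helpers here

set_option autoImplicit false
universe u
open CategoryTheory CategoryTheory.Limits AlgebraicGeometry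
open Variety

namespace Groth.Agent.S7651

section Aux

variable {A : Type u} [CommRing A]

theorem isNilpotent_of_mem {p : Ideal A} [p.IsPrime] (hp : p ∈ minimalPrimes A) {x : A} (hx : x ∈ p) :
    IsNilpotent (algebraMap A (Localization.AtPrime p) x) := by
  rw [← mem_nilradical, nilradical_eq_sInf, Submodule.mem_sInf]
  intro Q (hQ : Ideal.IsPrime Q)
  have h := (IsLocalization.isPrime_iff_isPrime_disjoint p.primeCompl (Localization.AtPrime p) Q).1 hQ
  have hle : Ideal.comap (algebraMap A (Localization.AtPrime p)) Q ≤ p := fun y hy => by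
    by_contra hy'
    exact Set.disjoint_left.1 h.2 hy' hy
  have e := le_antisymm hle (hp.2 ⟨h.1, bot_le⟩ hle)
  show x ∈ Ideal.comap (algebraMap A (Localization.AtPrime p)) Q
  rw [e]
  exact hx

abbrev Mins (A : Type u) [CommRing A] := {p : PrimeSpectrum A // p.asIdeal ∈ minimalPrimes A}

noncomputable instance [IsNoetherianRing A] : Fintype (Mins A) :=
  haveI : Finite (minimalPrimes A) := (minimalPrimes.finite_of_isNoetherianRing A).to_subtype
  haveI : Finite (Mins A) := Finite.of_injective (fun p => (⟨p.1.asIdeal, p.2⟩ : minimalPrimes A))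
    fun p q h => Subtype.ext (PrimeSpectrum.ext (congrArg Subtype.val h))
  Fintype.ofFinite _

variable [IsLocalRing A] [IsNoetherianRing A] (hdim : ringKrullDim A = 1)

include hdim in
theorem eq_max {q : Ideal A} (hq : q.IsPrime) (hmin : q ∉ minimalPrimes A) : q = IsLocalRing.maximalIdeal A := by
  haveI : Ring.KrullDimLE 1 A := Ring.krullDimLE_iff.2 (le_of_eq hdim)
  rcases Ring.krullDimLE_one_iff.1 ‹_› q hq with h | h
  · exact absurd h hmin
  · exact IsLocalRing.eq_maximalIdeal h

include hdim in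
theorem max_not_mem : IsLocalRing.maximalIdeal A ∉ minimalPrimes A := by
  intro h
  haveI : Ring.KrullDimLE 0 A := Ring.krullDimLE_zero_iff.2 fun q hq => by
    have := le_antisymm (IsLocalRing.le_maximalIdeal hq.ne_top) (h.2 ⟨hq, bot_le⟩ (IsLocalRing.le_maximalIdeal hq.ne_top))
    exact this ▸ IsLocalRing.maximalIdeal.isMaximal A
  have := Ring.krullDimLE_iff.1 (inferInstance : Ring.KrullDimLE 0 A)
  rw [hdim] at this
  exact absurd this (by norm_num)

include hdim in
theorem radical_eq {f : A} (hf : f ∈ IsLocalRing.maximalIdeal A) :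
    IsLocalRing.maximalIdeal A = (Ideal.span {f}).radical ↔ ∀ p ∈ minimalPrimes A, f ∉ p := by
  constructor
  · intro h p hp hfp
    haveI := hp.1.1
    have h1 : (Ideal.span {f}).radical ≤ p :=
      (Ideal.IsPrime.radical_le_iff hp.1.1).2 ((Ideal.span_singleton_le_iff_mem _).2 hfp)
    rw [← h] at h1
    exact max_not_mem hdim ((le_antisymm h1 (IsLocalRing.le_maximalIdeal hp.1.1.ne_top)) ▸ hp)
  · intro h
    rw [Ideal.radical_eq_sInf]
    refine le_antisymm (le_sInf fun J hJ => ?_) (sInf_le ⟨(Ideal.span_singleton_le_iff_mem _).2 hf, inferInstance⟩)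
    exact (eq_max hdim hJ.2 fun hm => h J hm (hJ.1 (Ideal.mem_span_singleton_self f))).ge

include hdim in
theorem dvd_pow {f : A} (hf : f ∈ IsLocalRing.maximalIdeal A) {s : A} (hs : ∀ p ∈ minimalPrimes A, s ∉ p) :
    ∃ N : ℕ, s ∣ f ^ N := by
  have h : f ∈ (Ideal.span {s}).radical := by
    rw [Ideal.radical_eq_sInf, Submodule.mem_sInf]
    rintro J ⟨hJ, hJp⟩
    rw [eq_max hdim hJp fun hm => hs J hm (hJ (Ideal.mem_span_singleton_self s))]
    exact hf
  obtain ⟨N, hN⟩ := h
  exact ⟨N, Ideal.mem_span_singleton.1 hN⟩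

include hdim in
theorem isUnit_away {f : A} (hf : f ∈ IsLocalRing.maximalIdeal A) {s : A} (hs : ∀ p ∈ minimalPrimes A, s ∉ p) :
    IsUnit (algebraMap A (Localization.Away f) s) := by
  obtain ⟨N, hN⟩ := dvd_pow hdim hf hs
  refine isUnit_of_dvd_unit (map_dvd _ hN) ?_
  rw [map_pow]
  exact (IsLocalization.Away.algebraMap_isUnit f).pow N

include hdim in
theorem away_equiv {f : A} (hf : f ∈ IsLocalRing.maximalIdeal A) (h : ∀ p ∈ minimalPrimes A, f ∉ p) :
    Nonempty (Localization.Away f ≃ₐ[A] (∀ p : Mins A, Localization.AtPrime p.1.asIdeal)) := by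
  classical
  have hu : ∀ y : Submonoid.powers f, IsUnit (algebraMap A (∀ p : Mins A, Localization.AtPrime p.1.asIdeal) y) := by
    rintro ⟨_, n, rfl⟩
    rw [Pi.isUnit_iff]
    intro p
    exact IsLocalization.map_units (Localization.AtPrime p.1.asIdeal)
      (⟨f ^ n, fun hn => h _ p.2 (p.1.isPrime.mem_of_pow_mem n hn)⟩ : p.1.asIdeal.primeCompl)
  let ψ : Localization.Away f →ₐ[A] (∀ p : Mins A, Localization.AtPrime p.1.asIdeal) :=
    IsLocalization.liftAlgHom (M := Submonoid.powers f) (f := Algebra.ofId A _) hu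
  refine ⟨AlgEquiv.ofBijective ψ ⟨?_, fun z => ?_⟩⟩
  · rw [injective_iff_map_eq_zero]
    intro x hx
    obtain ⟨a, s, rfl⟩ := IsLocalization.exists_mk'_eq (Submonoid.powers f) x
    have ha : ∀ p : Mins A, algebraMap A (Localization.AtPrime p.1.asIdeal) a = 0 := by
      intro p
      have e := congrArg (fun z => ψ z) (IsLocalization.mk'_spec (Localization.Away f) a s)
      simp only [map_mul, hx, zero_mul, AlgHom.commutes] at e
      exact (congrFun e p).symm
    choose t ht using fun p : Mins A => (IsLocalization.map_eq_zero_iff p.1.asIdeal.primeCompl _ a).1 (ha p)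
    have hann : f ∈ (Submodule.colon (⊥ : Submodule A A) {a}).radical := by
      rw [Ideal.radical_eq_sInf, Submodule.mem_sInf]
      rintro J ⟨hJ, hJp⟩
      by_cases hm : J ∈ minimalPrimes A
      · let p : Mins A := ⟨⟨J, hJp⟩, hm⟩
        exact absurd (hJ (Submodule.mem_colon_singleton.2 ((Submodule.mem_bot A).2 (by simpa using ht p)))) (t p).2
      · rw [eq_max hdim hJp hm]; exact hf
    obtain ⟨N, hN⟩ := hann
    rw [IsLocalization.mk'_eq_zero_iff]
    refine ⟨⟨f ^ N, N, rfl⟩, ?_⟩
    simpa using Submodule.mem_colon_singleton.1 hN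
  · -- separating elements
    have hsep : ∀ p : Mins A, ∃ e : A, e ∉ p.1.asIdeal ∧
        ∀ q : Mins A, q ≠ p → algebraMap A (Localization.AtPrime q.1.asIdeal) e = 0 := by
      intro p
      have hex : ∀ q : Mins A, ∃ u : A, u ∉ p.1.asIdeal ∧
          (q ≠ p → algebraMap A (Localization.AtPrime q.1.asIdeal) u = 0) := by
        intro q
        by_cases hq : q = p
        · exact ⟨1, fun h1 => p.1.isPrime.ne_top ((Ideal.eq_top_iff_one _).2 h1), fun h => absurd hq h⟩
        · obtain ⟨u, huq, hup⟩ := Set.not_subset.1 fun hle : (q.1.asIdeal : Set A) ⊆ p.1.asIdeal =>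
            hq (Subtype.ext (PrimeSpectrum.ext (le_antisymm hle (p.2.2 ⟨q.1.isPrime, bot_le⟩ hle))))
          obtain ⟨N, hN⟩ := isNilpotent_of_mem q.2 huq
          exact ⟨u ^ N, fun h1 => hup (p.1.isPrime.mem_of_pow_mem N h1), fun _ => by rw [map_pow, hN]⟩
      choose u hu1 hu2 using hex
      refine ⟨∏ q, u q, fun hmem => ?_, fun q hq => ?_⟩
      · obtain ⟨q, _, hq⟩ := (Ideal.IsPrime.prod_mem_iff (p := p.1.asIdeal)).1 hmem
        exact hu1 q hq
      · rw [map_prod]
        exact Finset.prod_eq_zero (Finset.mem_univ q) (hu2 q hq)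
    choose e he1 he2 using hsep
    choose a t hat using fun p : Mins A => IsLocalization.exists_mk'_eq p.1.asIdeal.primeCompl (z p)
    set S := ∑ p, e p * (t p : A) with hS
    have hSim : ∀ q : Mins A, algebraMap A (Localization.AtPrime q.1.asIdeal) S =
        algebraMap A _ (e q) * algebraMap A _ (t q : A) := by
      intro q
      rw [hS, map_sum, Finset.sum_eq_single q (fun p _ hp => by rw [map_mul, he2 p q (Ne.symm hp), zero_mul])
        (fun hq => absurd (Finset.mem_univ q) hq), map_mul]
    have hSu : ∀ p ∈ minimalPrimes A, S ∉ p := by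
      intro P hP hSP
      let q : Mins A := ⟨⟨P, hP.1.1⟩, hP⟩
      haveI : q.1.asIdeal.IsPrime := q.1.isPrime
      have h1 : IsUnit (algebraMap A (Localization.AtPrime q.1.asIdeal) S) := by
        rw [hSim]
        exact (IsLocalization.map_units _ (⟨e q, he1 q⟩ : q.1.asIdeal.primeCompl)).mul
          (IsLocalization.map_units _ (t q))
      exact (IsLocalization.AtPrime.isUnit_to_map_iff (Localization.AtPrime q.1.asIdeal) q.1.asIdeal S).1 h1 hSP
    obtain ⟨w, hw⟩ := isUnit_away hdim hf hSu
    refine ⟨algebraMap A _ (∑ p, e p * a p) * ↑w⁻¹, funext fun q => ?_⟩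
    have h1 : ψ (algebraMap A (Localization.Away f) S) * ψ (↑w⁻¹) = 1 := by
      rw [← map_mul, ← hw, Units.mul_inv, map_one]
    have h2 := congrFun h1 q
    rw [AlgHom.commutes] at h2
    simp only [Pi.mul_apply, Pi.one_apply, Pi.algebraMap_apply, hSim] at h2
    have h3 : algebraMap A (Localization.AtPrime q.1.asIdeal) (∑ p, e p * a p) = algebraMap A _ (e q) * algebraMap A _ (a q) := by
      rw [map_sum, Finset.sum_eq_single q (fun p _ hp => by rw [map_mul, he2 p q (Ne.symm hp), zero_mul])
        (fun hq => absurd (Finset.mem_univ q) hq), map_mul]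
    rw [map_mul, AlgHom.commutes, Pi.mul_apply, Pi.algebraMap_apply, h3, ← hat q]
    have h4 := IsLocalization.mk'_spec (Localization.AtPrime q.1.asIdeal) (a q) (t q)
    rw [← h4]
    linear_combination (IsLocalization.mk' (Localization.AtPrime q.1.asIdeal) (a q) (t q)) * h2

end Aux

/-- Let (A, m) be a Noetherian local ring of dimension one and f ∈ m. Then (1) m = √(f), (2) f lies in
no minimal prime of A, and (3) A_f ≅ ∏_{p minimal} A_p as A-algebras, are equivalent; such an f
exists; if A has depth one, for instance if A is reduced, they are also equivalent to (4) f is a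
nonzerodivisor and to (5) A → A_f is the localization of A at all its nonzerodivisors; and if A is
reduced they are also equivalent to (6) A_f ≅ ∏_{p minimal} κ(p) as A-algebras. -/
theorem result (A : Type u) [CommRing A] [IsLocalRing A]
    [IsNoetherianRing A] (hdim : ringKrullDim A = 1) :
    (∃ f ∈ IsLocalRing.maximalIdeal A, ∀ p ∈ minimalPrimes A, f ∉ p) ∧
    ∀ f ∈ IsLocalRing.maximalIdeal A,
      ((IsLocalRing.maximalIdeal A = (Ideal.span {f}).radical) ↔ (∀ p ∈ minimalPrimes A, f ∉ p)) ∧
      ((∀ p ∈ minimalPrimes A, f ∉ p) ↔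
        Nonempty (Localization.Away f ≃ₐ[A] (∀ p : {p : PrimeSpectrum A // p.asIdeal ∈ minimalPrimes A}, Localization.AtPrime p.1.asIdeal))) ∧
      ((LocCoh.depth A A = 1 ∨ IsReduced A) →
        ((∀ p ∈ minimalPrimes A, f ∉ p) ↔ f ∈ nonZeroDivisors A) ∧
        ((∀ p ∈ minimalPrimes A, f ∉ p) ↔ IsLocalization (nonZeroDivisors A) (Localization.Away f))) ∧
      (IsReduced A →
        ((∀ p ∈ minimalPrimes A, f ∉ p) ↔
          Nonempty (Localization.Away f ≃ₐ[A] (∀ p : {p : PrimeSpectrum A // p.asIdeal ∈ minimalPrimes A}, p.1.asIdeal.ResidueField)))) := by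
  classical
  refine ⟨?_, fun f hf => ?_⟩
  · by_contra h
    push_neg at h
    haveI : Finite (minimalPrimes A) := (minimalPrimes.finite_of_isNoetherianRing A).to_subtype
    obtain ⟨p, hp, hle⟩ : ∃ p ∈ (minimalPrimes.finite_of_isNoetherianRing A).toFinset, IsLocalRing.maximalIdeal A ≤ p := by
      refine (Ideal.subset_union_prime (f := fun p : Ideal A => p) ⊥ ⊥ fun p hp _ _ => ?_).1 fun x hx => ?_
      · exact ((minimalPrimes.finite_of_isNoetherianRing A).mem_toFinset.1 hp).1.1
      · obtain ⟨p, hp, hxp⟩ := h x hx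
        exact Set.mem_iUnion₂.2 ⟨p, (minimalPrimes.finite_of_isNoetherianRing A).mem_toFinset.2 hp, hxp⟩
    have hp' := (minimalPrimes.finite_of_isNoetherianRing A).mem_toFinset.1 hp
    exact max_not_mem hdim ((le_antisymm hle (IsLocalRing.le_maximalIdeal hp'.1.1.ne_top)).symm ▸ hp')
  have h23 : (∀ p ∈ minimalPrimes A, f ∉ p) ↔
      Nonempty (Localization.Away f ≃ₐ[A] (∀ p : {p : PrimeSpectrum A // p.asIdeal ∈ minimalPrimes A}, Localization.AtPrime p.1.asIdeal)) := by
    refine ⟨away_equiv hdim hf, fun ⟨e⟩ P hP hfP => ?_⟩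
    have h1 := (IsLocalization.Away.algebraMap_isUnit (S := Localization.Away f) f).map e
    rw [AlgEquiv.commutes, Pi.isUnit_iff] at h1
    have hu := h1 ⟨⟨P, hP.1.1⟩, hP⟩
    haveI := hP.1.1
    exact (IsLocalization.AtPrime.isUnit_to_map_iff (Localization.AtPrime P) P f).1 hu hfP
  refine ⟨radical_eq hdim hf, h23, fun hd => ?_, fun hred => ?_⟩
  · have hback : ∀ {g : A}, g ∈ nonZeroDivisors A → ∀ p ∈ minimalPrimes A, g ∉ p := fun {g} hg p hp hgp =>
      Set.disjoint_left.1 (Ideal.disjoint_nonZeroDivisors_of_mem_minimalPrimes hp) hgp hg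
    have hnzd : (∀ p ∈ minimalPrimes A, f ∉ p) → f ∈ nonZeroDivisors A := by
      intro h
      rcases hd with hd | hd
      · obtain ⟨g, hg, hreg⟩ := (DepthLib.one_le_idealDepth_iff (I := IsLocalRing.maximalIdeal A) (M := A)).1
          (le_of_eq hd.symm)
        rw [(radical_eq hdim hf).2 h] at hg
        obtain ⟨N, hN⟩ := hg
        obtain ⟨c, hc⟩ := Ideal.mem_span_singleton'.1 hN
        have hg' : g ∈ nonZeroDivisors A := mem_nonZeroDivisors_iff_right.2 fun x hx => hreg (by simpa [mul_comm g x] using hx)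
        exact (mul_mem_nonZeroDivisors.1 (hc ▸ pow_mem hg' N)).2
      · refine mem_nonZeroDivisors_iff_right.2 fun x hx => ?_
        have : x ∈ nilradical A := by
          rw [nilradical, Ideal.radical_eq_sInf, Submodule.mem_sInf]
          rintro J ⟨_, hJ⟩
          obtain ⟨p, hp, hpJ⟩ := Ideal.exists_minimalPrimes_le (bot_le : (⊥ : Ideal A) ≤ J)
          exact hpJ ((hp.1.1.mem_or_mem (hx ▸ p.zero_mem : x * f ∈ p)).resolve_right (h p hp))
        exact (mem_nilradical.1 this).eq_zero
    refine ⟨⟨hnzd, fun h => hback h⟩, ⟨fun h => ?_, fun hloc p hp hfp => ?_⟩⟩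
    · refine IsLocalization.of_le_of_exists_dvd (Submonoid.powers f) _ (Submonoid.powers_le.2 (hnzd h)) fun n hn => ?_
      obtain ⟨N, hN⟩ := dvd_pow hdim hf (hback hn)
      exact ⟨f ^ N, ⟨N, rfl⟩, hN⟩
    · haveI := hloc
      have hdis : Disjoint (nonZeroDivisors A : Set A) (p : Set A) :=
        (Ideal.disjoint_nonZeroDivisors_of_mem_minimalPrimes hp).symm
      have := IsLocalization.isPrime_of_isPrime_disjoint (nonZeroDivisors A) (Localization.Away f) p hp.1.1 hdis
      exact this.ne_top (Ideal.eq_top_of_isUnit_mem _ (Ideal.mem_map_of_mem _ hfp) (IsLocalization.Away.algebraMap_isUnit f))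
  · have hres : ∀ p : {p : PrimeSpectrum A // p.asIdeal ∈ minimalPrimes A},
        Function.Bijective (IsScalarTower.toAlgHom A (Localization.AtPrime p.1.asIdeal) p.1.asIdeal.ResidueField) := by
      intro p
      refine ⟨?_, IsLocalRing.residue_surjective⟩
      rw [injective_iff_map_eq_zero]
      intro x hx
      have hx' : x ∈ IsLocalRing.maximalIdeal (Localization.AtPrime p.1.asIdeal) := (IsLocalRing.residue_eq_zero_iff x).1 hx
      haveI := hred
      obtain ⟨a, t, rfl⟩ := IsLocalization.exists_mk'_eq p.1.asIdeal.primeCompl x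
      haveI : IsReduced (Localization.AtPrime p.1.asIdeal) := inferInstance
      replace hx' := (IsLocalization.AtPrime.mk'_mem_maximal_iff (Localization.AtPrime p.1.asIdeal) p.1.asIdeal a t).1 hx'
      rw [IsLocalization.mk'_eq_mul_mk'_one (S := Localization.AtPrime p.1.asIdeal), (isNilpotent_of_mem p.2 hx').eq_zero, zero_mul]
    let ρ : (∀ p : {p : PrimeSpectrum A // p.asIdeal ∈ minimalPrimes A}, Localization.AtPrime p.1.asIdeal) ≃ₐ[A]
        (∀ p : {p : PrimeSpectrum A // p.asIdeal ∈ minimalPrimes A}, p.1.asIdeal.ResidueField) :=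
      AlgEquiv.piCongrRight fun p => AlgEquiv.ofBijective _ (hres p)
    rw [h23]
    exact ⟨fun ⟨e⟩ => ⟨e.trans ρ⟩, fun ⟨e⟩ => ⟨e.trans ρ.symm⟩⟩

end Groth.Agent.S7651
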