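import Groth.Statements.S7654
import Groth.Agent.DeltaFlat.Main
import Groth.Agent.DeltaFlat.Residue
import Groth.Agent.ReducedNormalization.DeltaInv
import Groth.Agent.S0509
import Groth.Agent.S0510
import Groth.Agent.S0511
import Groth.Agent.S0538
import Groth.Agent.S0539
import Groth.Agent.S0540
import Groth.Agent.S0543

set_option autoImplicit false
universe u
open CategoryTheory CategoryTheory.Limits AlgebraicGeometry
open Variety

namespace Groth.Agent.S7654

/-- A field extension given by a bijective map is separable. -/
theorem isSeparable_of_bijective {k K : Type*} [Field k] [Field K] [Algebra k K]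
    (h : Function.Bijective (algebraMap k K)) : Algebra.IsSeparable k K :=
  ⟨fun x => by obtain ⟨a, rfl⟩ := h.2 x; exact isSeparable_algebraMap a⟩

/-- For a reduced local Nagata ring A of Krull dimension one, the δ-invariant does not change on passing
to a henselization of A, to a strict henselization of A, or to the completion of A. -/
theorem result (A : Type u) [CommRing A] [IsLocalRing A]
    [IsReduced A] (hN : CAlg.IsNagata A) (hdim : ringKrullDim A = 1) :
    (∀ (B : Type u) [CommRing B] [IsLocalRing B] [Algebra A B] [IsLocalHom (algebraMap A B)],
        Hensel.IsHenselization A B → Curv2.deltaInv B = Curv2.deltaInv A) ∧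
      (∀ (B : Type u) [CommRing B] [IsLocalRing B] [Algebra A B] [IsLocalHom (algebraMap A B)],
        Hensel.IsStrictHenselization A B → Curv2.deltaInv B = Curv2.deltaInv A) ∧
      Curv2.deltaInv (Curv2.cpl A) = Curv2.deltaInv A := by
  have : IsNoetherianRing A := hN.1
  have : Ring.KrullDimLE 1 A := Ring.krullDimLE_iff.2 hdim.le
  have : Module.Finite A (integralClosure A (FractionRing A)) :=
    ReducedNormalization.finite_integralClosure_of_nagata hN
  refine ⟨fun B _ _ _ _ hB => ?_, fun B _ _ _ _ hB => ?_, ?_⟩
  · have : Module.FaithfullyFlat A B := S0509.result A B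
    have : IsNoetherianRing B := (S0511.result A B).1 inferInstance
    have hb := S0510.result A B 1
    have hm : (IsLocalRing.maximalIdeal A).map (algebraMap A B) = IsLocalRing.maximalIdeal B := by
      refine IsLocalRing.eq_maximalIdeal ?_
      rw [← pow_one (IsLocalRing.maximalIdeal A)]
      refine Ideal.Quotient.maximal_of_isField _ ?_
      refine MulEquiv.isField ?_ (RingEquiv.ofBijective _ hb).symm.toMulEquiv
      rw [← Ideal.Quotient.maximal_ideal_iff_isField_quotient, pow_one]
      exact IsLocalRing.maximalIdeal.isMaximal A
    have : Algebra.IsSeparable (IsLocalRing.ResidueField A) (IsLocalRing.ResidueField B) := by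
      refine isSeparable_of_bijective ⟨RingHom.injective _, fun y => ?_⟩
      obtain ⟨b, rfl⟩ := IsLocalRing.residue_surjective y
      obtain ⟨x, hx⟩ := hb.2 (Ideal.Quotient.mk _ b)
      obtain ⟨a, rfl⟩ := Ideal.Quotient.mk_surjective x
      rw [Ideal.quotientMap_mk, Ideal.Quotient.eq] at hx
      refine ⟨IsLocalRing.residue A a, ?_⟩
      change IsLocalRing.residue B (algebraMap A B a) = IsLocalRing.residue B b
      rw [pow_one, hm] at hx
      exact Ideal.Quotient.eq.2 hx
    exact DeltaFlat.deltaInv_eq hm fun q _ => DeltaFlat.isReduced_tensor_quotient hm q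
  · have : Module.FaithfullyFlat A B := S0539.result A B
    have : IsNoetherianRing B := (S0540.result A B).1 inferInstance
    have hm := S0538.result A B
    have : IsSepClosure (IsLocalRing.ResidueField A) (IsLocalRing.ResidueField B) :=
      hB.isSepClosure
    have : Algebra.IsSeparable (IsLocalRing.ResidueField A) (IsLocalRing.ResidueField B) :=
      IsSepClosure.separable
    exact DeltaFlat.deltaInv_eq hm fun q _ => DeltaFlat.isReduced_tensor_quotient hm q
  · have : IsNoetherianRing (Curv2.cpl A) := S0543.result A _
    have hm := (AdicCompletion.maximalIdeal_eq_map (R := A)).symm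
    have : Algebra.IsSeparable (IsLocalRing.ResidueField A)
        (IsLocalRing.ResidueField (Curv2.cpl A)) :=
      isSeparable_of_bijective (AdicCompletion.residueField_map_bijective A)
    exact DeltaFlat.deltaInv_eq hm fun q _ => DeltaFlat.isReduced_tensor_quotient hm q

end Groth.Agent.S7654
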