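import Groth.Statements.S7658
import Groth.Agent.SepLocIso.Basic
-- import your own Groth.Agent.* helpers here

set_option autoImplicit false
universe u
open CategoryTheory CategoryTheory.Limits AlgebraicGeometry
open Variety

open Groth.Agent.SepLocIso

namespace Groth.Agent.S7658

/-- A separated morphism of schemes f : X → Y such that X has an open covering on whose members f
restricts to open immersions, and such that no two distinct generic points of irreducible components
of X have the same image under f, is an open immersion. -/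
theorem result {X Y : Scheme.{u}}
    (f : X ⟶ Y) [IsSeparated f]
    (hloc : ∀ x : X, ∃ U : X.Opens, x ∈ U ∧ IsOpenImmersion (U.ι ≫ f))
    (hinj : ∀ ξ ξ' : X, closure ({ξ} : Set X) ∈ irreducibleComponents (X : Type u) → closure ({ξ'} : Set X) ∈ irreducibleComponents (X : Type u) →
      f.base ξ = f.base ξ' → ξ = ξ') :
    IsOpenImmersion f := by
    choose U hxU hU using hloc
    have hopenmap : IsOpenMap f.base := by
      intro V hV
      rw [isOpen_iff_mem_nhds]
      rintro _ ⟨x, hx, rfl⟩
      have := hU x
      refine Filter.mem_of_superset (((U x).ι ≫ f).isOpenEmbedding.isOpenMap _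
        (hV.preimage (U x).ι.continuous) |>.mem_nhds ⟨⟨x, hxU x⟩, hx, rfl⟩) ?_
      rintro _ ⟨a, ha, rfl⟩
      exact ⟨_, ha, rfl⟩
    have hinjf : Function.Injective f.base := by
      intro x x' hxx
      have := hU x
      have := hU x'
      let i := (U x).ι ≫ f
      let i' := (U x').ι ≫ f
      let W : Y.Opens := i.opensRange ⊓ i'.opensRange
      have hle : Set.range W.ι ⊆ Set.range i := by
        rw [Scheme.Opens.range_ι]; exact fun _ hz => hz.1
      have hle' : Set.range W.ι ⊆ Set.range i' := by
        rw [Scheme.Opens.range_ι]; exact fun _ hz => hz.2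
      let l := IsOpenImmersion.lift i W.ι hle
      let l' := IsOpenImmersion.lift i' W.ι hle'
      have hl : l ≫ i = W.ι := IsOpenImmersion.lift_fac _ _ _
      have hl' : l' ≫ i' = W.ι := IsOpenImmersion.lift_fac _ _ _
      let s : (W : Scheme) ⟶ X := l ≫ (U x).ι
      let s' : (W : Scheme) ⟶ X := l' ≫ (U x').ι
      have hs : s ≫ f = W.ι := by simpa [s, i] using hl
      have hs' : s' ≫ f = W.ι := by simpa [s', i'] using hl'
      have : IsOpenImmersion (l ≫ i) := by rw [hl]; infer_instance
      have : IsOpenImmersion (l' ≫ i') := by rw [hl']; infer_instance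
      have : IsOpenImmersion l := IsOpenImmersion.of_comp l i
      have : IsOpenImmersion l' := IsOpenImmersion.of_comp l' i'
      let y : W.toScheme := ⟨f x, ⟨⟨x, hxU x⟩, rfl⟩, ⟨⟨x', hxU x'⟩, hxx.symm⟩⟩
      have hy : s y = x := by
        have e1 : i (l y) = i ⟨x, hxU x⟩ := by
          rw [← Scheme.Hom.comp_apply, hl]; rfl
        exact congrArg Subtype.val (i.isOpenEmbedding.injective e1)
      have hy' : s' y = x' := by
        have e1 : i' (l' y) = i' ⟨x', hxU x'⟩ := by
          rw [← Scheme.Hom.comp_apply, hl']; exact hxx
        exact congrArg Subtype.val (i'.isOpenEmbedding.injective e1)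
      obtain ⟨η, hηy, hmax⟩ := exists_max_specializes y
      have hgen : ∀ t : (W : Scheme) ⟶ X, IsOpenImmersion t →
          closure ({t η} : Set X) ∈ irreducibleComponents (X : Type u) := by
        intro t ht
        apply closure_singleton_mem_irreducibleComponents
        intro z hz
        obtain ⟨w, rfl⟩ := hz.mem_open t.isOpenEmbedding.isOpen_range ⟨η, rfl⟩
        rw [hmax w (t.isOpenEmbedding.isInducing.specializes_iff.mp hz)]
      have heq : s η = s' η := hinj _ _ (hgen s inferInstance) (hgen s' inferInstance) (by
        show (s ≫ f) η = (s' ≫ f) η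
        rw [hs, hs'])
      let W₁ : W.toScheme.Opens := s ⁻¹ᵁ U x'
      have hmem : η ∈ W₁ := by
        show s η ∈ U x'
        rw [heq]
        exact (l' η).2
      have h₁ : W₁.ι ≫ s = W₁.ι ≫ s' := by
        have hr : Set.range (W₁.ι ≫ s) ⊆ Set.range (U x').ι := by
          rintro _ ⟨w, rfl⟩
          rw [Scheme.Opens.range_ι]
          exact w.2
        let a := IsOpenImmersion.lift (U x').ι (W₁.ι ≫ s) hr
        have ha : a ≫ (U x').ι = W₁.ι ≫ s := IsOpenImmersion.lift_fac _ _ _
        have : a = W₁.ι ≫ l' := by
          rw [← cancel_mono i']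
          simp only [i', ← Category.assoc, ha]
          simp only [Category.assoc, hs]
          show _ = W₁.ι ≫ s' ≫ f
          rw [hs']
        rw [← ha, this]; rfl
      have := apply_eq_of_eqOn_open f s s' (hs.trans hs'.symm) W₁ h₁ hmem hηy
      rwa [hy, hy'] at this
    have : ∀ x, IsIso (f.stalkMap x) := by
      intro x
      have := hU x
      have h : IsIso (((U x).ι ≫ f).stalkMap (⟨x, hxU x⟩ : (U x).toScheme)) := inferInstance
      rw [Scheme.Hom.stalkMap_comp] at h
      have hι : IsIso ((U x).ι.stalkMap (⟨x, hxU x⟩ : (U x).toScheme)) :=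
        (IsOpenImmersion.iff_isIso_stalkMap.mp (inferInstance : IsOpenImmersion (U x).ι)).2 _
      exact @IsIso.of_isIso_comp_right _ _ _ _ _ _ _ hι h
    exact IsOpenImmersion.of_isIso_stalkMap f (.of_continuous_injective_isOpenMap f.continuous hinjf hopenmap)

end Groth.Agent.S7658
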