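import Groth.Statements.S7661
-- import your own Groth.Agent.* helpers here

set_option autoImplicit false
universe u
open CategoryTheory CategoryTheory.Limits AlgebraicGeometry
open Variety

namespace Groth.Agent.S7661

/-- Let A be a ring, I an ideal, p_1, …, p_r prime ideals with I ⊄ p_i for all i, and let f̄ ∈ A/I. Then
f̄ lifts to an element f ∈ A with f ∉ p_i for all i. -/
theorem result (A : Type u) [CommRing A] (I : Ideal A)
    (s : Finset (Ideal A)) (hs : ∀ p ∈ s, p.IsPrime) (hI : ∀ p ∈ s, ¬ I ≤ p) (fbar : A ⧸ I) :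
    ∃ f : A, Ideal.Quotient.mk I f = fbar ∧ ∀ p ∈ s, f ∉ p := by
  classical
  obtain ⟨a, rfl⟩ := Ideal.Quotient.mk_surjective fbar
  set M := s.filter (fun p => ∀ q ∈ s, p ≤ q → p = q) with hM
  have hmax : ∀ p ∈ s, ∃ q ∈ M, p ≤ q := by
    intro p hp
    obtain ⟨q, hpq, hq⟩ := Finset.exists_le_maximal s hp
    exact ⟨q, Finset.mem_filter.mpr ⟨hq.prop, fun r hr hqr => le_antisymm hqr (hq.2 hr hqr)⟩, hpq⟩
  set J : Ideal A := I ⊓ (M.filter (fun p => a ∉ p)).inf id with hJ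
  have hnot : ¬ ((J : Set A) ⊆ ⋃ p ∈ (↑(M.filter (fun p => a ∈ p)) : Set (Ideal A)), (p : Set A)) := by
    rw [show (⋃ p ∈ (↑(M.filter (fun p => a ∈ p)) : Set (Ideal A)), (p : Set A)) =
      ⋃ p ∈ (↑(M.filter (fun p => a ∈ p)) : Set (Ideal A)), ((id p : Ideal A) : Set A) from rfl,
      Ideal.subset_union_prime (s := M.filter (fun p => a ∈ p)) (f := id) ⊥ ⊥ (fun p hp _ _ =>
        hs p (Finset.mem_filter.mp (Finset.mem_filter.mp hp).1).1)]
    rintro ⟨p, hp, hJp⟩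
    obtain ⟨hpM, hap⟩ := Finset.mem_filter.mp hp
    obtain ⟨hps, hpmax⟩ := Finset.mem_filter.mp hpM
    rcases (hs p hps).inf_le.mp hJp with h | h
    · exact hI p hps h
    · obtain ⟨q, hq, hqp⟩ := (hs p hps).inf_le'.mp h
      obtain ⟨hqM, haq⟩ := Finset.mem_filter.mp hq
      obtain ⟨hqs, hqmax⟩ := Finset.mem_filter.mp hqM
      exact haq ((hqmax p hps hqp) ▸ hap)
  obtain ⟨x, hxJ, hx⟩ := Set.not_subset.mp hnot
  refine ⟨a + x, Ideal.Quotient.mk_eq_mk_iff_sub_mem _ _ |>.mpr (by simpa using hxJ.1), fun p hp hmem => ?_⟩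
  obtain ⟨q, hqM, hpq⟩ := hmax p hp
  by_cases haq : a ∈ q
  · exact hx (Set.mem_biUnion (Finset.mem_coe.mpr (Finset.mem_filter.mpr ⟨hqM, haq⟩))
      ((Ideal.add_mem_iff_right q haq).mp (hpq hmem)))
  · have hxq : x ∈ q := (Finset.inf_le (f := id) (Finset.mem_filter.mpr ⟨hqM, haq⟩)) hxJ.2
    exact haq ((Ideal.add_mem_iff_left q hxq).mp (hpq hmem))

end Groth.Agent.S7661
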