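import Groth.Statements.S7663
import Groth.Agent.KrullAkizuki.Semilocal

set_option autoImplicit false
universe u
open CategoryTheory CategoryTheory.Limits AlgebraicGeometry
open Variety

namespace Groth.Agent.S7663

/-- Let K be a field and A, B ⊆ K subrings with fraction field K, with A Noetherian of dimension one.
Then A ⊗ B → K is not surjective (equivalently, the subring generated by A and B is not K) if and
only if some discrete valuation ring O ⊆ K with fraction field K contains both A and B. -/
theorem result (K : Type u) [Field K]
    (A : Subring K) [IsFractionRing A K] (B : Subring K) [IsFractionRing B K] [IsNoetherianRing A] (hdim : ringKrullDim A = 1) :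
    A ⊔ B ≠ ⊤ ↔ ∃ O : ValuationSubring K, IsDiscreteValuationRing O ∧ A ≤ O.toSubring ∧ B ≤ O.toSubring := by
  haveI := Groth.Agent.KrullAkizuki.krullDimLE_one_of_eq hdim
  constructor
  · intro hne
    let C : Subring K := A ⊔ B
    have hAC : A ≤ C := le_sup_left
    have hnf : ¬ IsField C := by
      intro hF
      apply hne
      rw [eq_top_iff]
      intro x _
      obtain ⟨a, b, hb, hab⟩ := IsFractionRing.div_surjective (A := A) x
      have hb0 : (⟨(b : K), hAC b.2⟩ : C) ≠ 0 := fun h => nonZeroDivisors.ne_zero hb (Subtype.ext (congrArg Subtype.val h :))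
      obtain ⟨c, hc⟩ := hF.mul_inv_cancel hb0
      have hc' : (b : K) * c = 1 := congrArg Subtype.val hc
      have hab' : (a : K) / b = x := hab
      rw [← hab', div_eq_mul_inv, inv_eq_of_mul_eq_one_right hc']
      exact C.mul_mem (hAC a.2) c.2
    obtain ⟨Q, hQ⟩ := Ideal.exists_maximal C
    haveI := hQ
    obtain ⟨V, hV, hcen⟩ := Groth.Agent.KrullAkizuki.exists_valuationSubring_center Q
    have hVt : V ≠ ⊤ := by
      intro hVt
      apply hnf
      have hQ0 : Q = ⊥ := by
        rw [eq_bot_iff]
        intro q hq
        rcases V.mem_nonunits_iff_or.mp ((hcen q).mpr hq) with h | h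
        · exact Ideal.mem_bot.mpr (Subtype.ext h)
        · exact absurd (hVt ▸ ValuationSubring.mem_top _) h
      rw [hQ0] at hQ
      exact MulEquiv.isField ((Ideal.Quotient.maximal_ideal_iff_isField_quotient _).mp hQ)
        (RingEquiv.quotientBot C).symm.toMulEquiv
    exact ⟨V, Groth.Agent.KrullAkizuki.isDiscreteValuationRing_of_le A V (le_sup_left.trans hV) hVt,
      le_sup_left.trans hV, le_sup_right.trans hV⟩
  · rintro ⟨O, hO, hA, hB⟩ htop
    refine @IsDiscreteValuationRing.not_isField O _ _ hO ?_
    have hall : ∀ x : K, x ∈ O := fun x => sup_le hA hB (by rw [htop]; exact Subring.mem_top x)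
    exact MulEquiv.isField (Field.toIsField K)
      ({ toFun := fun a => (a : K)
         invFun := fun x => ⟨x, hall x⟩
         left_inv := fun a => rfl
         right_inv := fun x => rfl
         map_mul' := fun a b => rfl } : O ≃* K)

end Groth.Agent.S7663
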