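import Groth.Statements.S7664
import Groth.Agent.KrullAkizuki.Glue

set_option autoImplicit false
universe u
open CategoryTheory CategoryTheory.Limits AlgebraicGeometry
open Variety

namespace Groth.Agent.S7664

/-- Let K be a field, A ⊆ K a Noetherian semi-local domain of dimension one and B ⊆ K a discrete
valuation ring, both with fraction field K, and R = A ∩ B. (a) If some unit of A does not lie in R,
then Spec A and Spec B each map to Spec R by an open immersion, Spec R is the union of the two
images, and the natural map A ⊗_R B → K is an isomorphism. (b) If every unit of A lies in R, then B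
dominates the local ring of A at one of its maximal ideals (A ⊆ B and the maximal ideal of B
contracts to a maximal ideal of A) and A ⊗ B → K is not surjective. -/
theorem result (K : Type u) [Field K]
    (A : Subring K) [IsFractionRing A K] [IsNoetherianRing A] (hdim : ringKrullDim A = 1) (hsl : Finite (MaximalSpectrum A))
    (B : ValuationSubring K) [IsDiscreteValuationRing B] :
    ((∃ u : A, IsUnit u ∧ (u : K) ∉ B) →
      IsOpenImmersion (Spec.map (CommRingCat.ofHom (Subring.inclusion (inf_le_left : A ⊓ B.toSubring ≤ A)))) ∧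
      IsOpenImmersion (Spec.map (CommRingCat.ofHom (Subring.inclusion (inf_le_right : A ⊓ B.toSubring ≤ B.toSubring)))) ∧
      Set.range (Spec.map (CommRingCat.ofHom (Subring.inclusion (inf_le_left : A ⊓ B.toSubring ≤ A)))).base ∪
        Set.range (Spec.map (CommRingCat.ofHom (Subring.inclusion (inf_le_right : A ⊓ B.toSubring ≤ B.toSubring)))).base = Set.univ ∧
      IsPushout (CommRingCat.ofHom (Subring.inclusion (inf_le_left : A ⊓ B.toSubring ≤ A)))
        (CommRingCat.ofHom (Subring.inclusion (inf_le_right : A ⊓ B.toSubring ≤ B.toSubring)))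
        (CommRingCat.ofHom A.subtype) (CommRingCat.ofHom B.toSubring.subtype)) ∧
    ((∀ u : A, IsUnit u → (u : K) ∈ B) →
      (∃ h : A ≤ B.toSubring,
        (Ideal.comap (Subring.inclusion h) (IsLocalRing.maximalIdeal B)).IsMaximal) ∧ A ⊔ B.toSubring ≠ ⊤) := by
  haveI : IsNoetherianRing B.toSubring := inferInstanceAs (IsNoetherianRing B)
  haveI : IsFractionRing B.toSubring K := inferInstanceAs (IsFractionRing B K)
  have hdimB : ringKrullDim B.toSubring = 1 := IsDiscreteValuationRing.ringKrullDim_eq_one B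
  have hslB : Finite (MaximalSpectrum B.toSubring) := inferInstanceAs (Finite (MaximalSpectrum B))
  have hBtop : ∀ T : Subring K, B.toSubring ≤ T → (∃ u : K, u ∈ T ∧ u ∉ B) → T = ⊤ := by
    rintro T hBT ⟨u, huT, huB⟩
    rw [eq_top_iff]
    intro x _
    have hu0 : u⁻¹ ∈ B := (B.mem_or_inv_mem u).resolve_left huB
    haveI := Groth.Agent.KrullAkizuki.krullDimLE_one_of_eq hdimB
    have hJ : Groth.Agent.KrullAkizuki.InJac B.toSubring u⁻¹ := by
      refine ⟨hu0, ?_⟩
      have hm : (⟨u⁻¹, hu0⟩ : B) ∈ IsLocalRing.maximalIdeal B :=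
        ValuationSubring.coe_mem_nonunits_iff.mp (B.inv_mem_nonunits_iff.mpr (Or.inr huB))
      rw [← IsLocalRing.jacobson_eq_maximalIdeal (⊥ : Ideal B) bot_ne_top] at hm
      exact hm
    obtain ⟨n, hn⟩ := Groth.Agent.KrullAkizuki.InJac.eventually_pow_mul B.toSubring hJ x
    have hu : u ≠ 0 := fun h => huB (h ▸ B.zero_mem)
    have hx : x = u ^ n * (u⁻¹ ^ n * x) := by
      rw [← mul_assoc, ← mul_pow, mul_inv_cancel₀ hu, one_pow, one_mul]
    rw [hx]
    exact T.mul_mem (T.pow_mem huT n) (hBT (hn n le_rfl).mem)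
  refine ⟨fun ⟨u, _, hu⟩ => ?_, fun hall => ?_⟩
  · exact Groth.Agent.KrullAkizuki.glue_two A B.toSubring hdim hdimB hsl hslB
      (hBtop _ le_sup_right ⟨u, le_sup_left (b := B.toSubring) u.2, hu⟩)
  · haveI := hsl
    haveI := Groth.Agent.KrullAkizuki.krullDimLE_one_of_eq hdim
    have hnf := Groth.Agent.KrullAkizuki.not_isField_of_dim_one hdim
    obtain ⟨j, hj0, hj⟩ := Groth.Agent.KrullAkizuki.exists_inJac_ne_zero A hnf
    have hAB : A ≤ B.toSubring := by
      intro a ha
      by_contra haB
      have hja : ∀ n : ℕ, j * a ^ n ∈ B := by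
        intro n
        have hJ := hj.mul_mem (A.pow_mem ha n)
        obtain ⟨v, hv, huv⟩ := hJ.one_add_unit
        have hunit : IsUnit (⟨1 + j * a ^ n, A.add_mem A.one_mem hJ.mem⟩ : A) :=
          IsUnit.of_mul_eq_one ⟨v, hv⟩ (Subtype.ext huv)
        have h1 := B.toSubring.sub_mem (hall _ hunit) B.one_mem
        simpa using h1
      have ha0 : a⁻¹ ∈ B := (B.mem_or_inv_mem a).resolve_left haB
      have hane : a ≠ 0 := fun h => haB (h ▸ B.zero_mem)
      have hjB : j ∈ B := by simpa using hja 0
      have hpow : ∀ n : ℕ, (⟨j, hjB⟩ : B) ∈ IsLocalRing.maximalIdeal B ^ n := by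
        intro n
        have hm : (⟨a⁻¹, ha0⟩ : B) ∈ IsLocalRing.maximalIdeal B :=
          ValuationSubring.coe_mem_nonunits_iff.mp (B.inv_mem_nonunits_iff.mpr (Or.inr haB))
        have he : (⟨j, hjB⟩ : B) = ⟨a⁻¹, ha0⟩ ^ n * ⟨j * a ^ n, hja n⟩ := by
          apply Subtype.ext
          show j = a⁻¹ ^ n * (j * a ^ n)
          rw [mul_left_comm, ← mul_pow, inv_mul_cancel₀ hane, one_pow, mul_one]
        rw [he]
        exact Ideal.mul_mem_right _ _ (Ideal.pow_mem_pow hm n)
      have hmem : (⟨j, hjB⟩ : B) ∈ ⨅ n : ℕ, IsLocalRing.maximalIdeal B ^ n := Submodule.mem_iInf _ |>.mpr hpow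
      rw [Ideal.iInf_pow_eq_bot_of_isDomain _ (IsLocalRing.maximalIdeal.isMaximal B).ne_top, Ideal.mem_bot] at hmem
      exact hj0 (congrArg Subtype.val hmem)
    refine ⟨⟨hAB, Ring.krullDimLE_one_iff_of_isPrime_bot.mp ‹_› _ ?_ (Ideal.comap_isPrime _ _)⟩, ?_⟩
    · intro h
      refine IsDiscreteValuationRing.not_a_field B (le_bot_iff.mp fun b hb => ?_)
      obtain ⟨x, y, hy, hxy⟩ := IsFractionRing.div_surjective (A := A) (b : K)
      have hy0 : (y : K) ≠ 0 := fun e => nonZeroDivisors.ne_zero hy (Subtype.ext e)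
      have hxy' : (x : K) / y = b := hxy
      have hx : x ∈ Ideal.comap (Subring.inclusion hAB) (IsLocalRing.maximalIdeal B) := by
        have he : Subring.inclusion hAB x = b * ⟨(y : K), hAB y.2⟩ :=
          Subtype.ext (show (x : K) = (b : K) * y by rw [← hxy', div_mul_cancel₀ _ hy0])
        rw [Ideal.mem_comap, he]
        exact Ideal.mul_mem_right _ _ hb
      rw [h, Ideal.mem_bot] at hx
      rw [hx] at hxy'
      exact Ideal.mem_bot.mpr (Subtype.ext (by simpa using hxy'.symm))
    · rw [sup_eq_right.mpr hAB]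
      intro htop
      refine IsDiscreteValuationRing.not_a_field B (le_bot_iff.mp fun b hb => ?_)
      rcases B.mem_nonunits_iff_or.mp (ValuationSubring.coe_mem_nonunits_iff.mpr hb) with h | h
      · exact Ideal.mem_bot.mpr (Subtype.ext h)
      · exact absurd (show ((b : K))⁻¹ ∈ B.toSubring by rw [htop]; exact Subring.mem_top _) h

end Groth.Agent.S7664
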