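import Groth.Statements.S7666
import Groth.Agent.Dim1Local.Basic

set_option autoImplicit false
universe u
open CategoryTheory CategoryTheory.Limits AlgebraicGeometry
open Variety

namespace Groth.Agent.S7666

/-- Let A be a one-dimensional Noetherian local ring and L = ∏ A_p, the product over the minimal primes
of A. If a_1, a_2 ∈ m_A have the same image in L, then a_1 and a_2 have equal n-th powers for some
positive integer n. -/
theorem result (A : Type u) [CommRing A]
    [IsLocalRing A] [IsNoetherianRing A] (hdim : ringKrullDim A = 1)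
    (a₁ a₂ : A) (h₁ : a₁ ∈ IsLocalRing.maximalIdeal A) (h₂ : a₂ ∈ IsLocalRing.maximalIdeal A)
    (heq : ∀ p : {p : PrimeSpectrum A // p.asIdeal ∈ minimalPrimes A},
      algebraMap A (Localization.AtPrime p.1.asIdeal) a₁ = algebraMap A (Localization.AtPrime p.1.asIdeal) a₂) :
    ∃ n : ℕ, 0 < n ∧ a₁ ^ n = a₂ ^ n := by
  classical
  set d : A := a₁ - a₂ with hd
  have hC : ∀ p ∈ minimalPrimes A, ¬ (Ideal.span {d}).annihilator ≤ p := by
    intro p hp hle
    haveI : p.IsPrime := hp.1.1
    have h := heq ⟨⟨p, hp.1.1⟩, hp⟩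
    have h0 : algebraMap A (Localization.AtPrime p) d = 0 := by
      rw [hd, map_sub, sub_eq_zero]; exact h
    obtain ⟨m, hm⟩ := (IsLocalization.map_eq_zero_iff p.primeCompl (Localization.AtPrime p) d).mp h0
    exact m.2 (hle ((Submodule.mem_annihilator_span_singleton d (m : A)).mpr hm))
  obtain ⟨k, hk⟩ := Groth.Agent.Dim1Local.exists_maximalIdeal_pow_le hdim.le _ hC
  refine ⟨k + 1, Nat.succ_pos k, sub_eq_zero.mp ?_⟩
  rw [← geom_sum₂_mul, Finset.sum_mul]
  refine Finset.sum_eq_zero fun j hj => ?_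
  have hmem : a₁ ^ j * a₂ ^ (k + 1 - 1 - j) ∈ IsLocalRing.maximalIdeal A ^ k := by
    have hj' : j + (k + 1 - 1 - j) = k := by
      have := Finset.mem_range.mp hj; omega
    have := Ideal.mul_mem_mul (Ideal.pow_mem_pow h₁ j) (Ideal.pow_mem_pow h₂ (k + 1 - 1 - j))
    rwa [← pow_add, hj'] at this
  exact (Submodule.mem_annihilator_span_singleton d _).mp (hk hmem)

end Groth.Agent.S7666
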