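import Groth.Statements.S7667
import Groth.Agent.Dim1Local.Basic

set_option autoImplicit false
universe u
open CategoryTheory CategoryTheory.Limits AlgebraicGeometry
open Variety

namespace Groth.Agent.S7667

/-- Let A be a one-dimensional Noetherian local ring, L the product of the localizations A_p over its
minimal primes p, and I the intersection of those primes (the nilradical of A). If f ∈ L equals i +
a with a in the maximal ideal of A and i ∈ I·L, then for some positive integer n, f^n belongs to the
subring of L obtained as the image of the structure map from A. -/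
theorem result (A : Type u) [CommRing A]
    [IsLocalRing A] [IsNoetherianRing A] (hdim : ringKrullDim A = 1)
    (a : A) (ha : a ∈ IsLocalRing.maximalIdeal A)
    (i : ∀ p : {p : PrimeSpectrum A // p.asIdeal ∈ minimalPrimes A}, Localization.AtPrime p.1.asIdeal)
    (hi : i ∈ (nilradical A).map (algebraMap A (∀ p : {p : PrimeSpectrum A // p.asIdeal ∈ minimalPrimes A}, Localization.AtPrime p.1.asIdeal))) :
    ∃ n : ℕ, 0 < n ∧ (i + algebraMap A (∀ p : {p : PrimeSpectrum A // p.asIdeal ∈ minimalPrimes A}, Localization.AtPrime p.1.asIdeal) a) ^ n ∈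
      (algebraMap A (∀ p : {p : PrimeSpectrum A // p.asIdeal ∈ minimalPrimes A}, Localization.AtPrime p.1.asIdeal)).range := by
  classical
  set φ := algebraMap A (∀ p : {p : PrimeSpectrum A // p.asIdeal ∈ minimalPrimes A},
      Localization.AtPrime p.1.asIdeal) with hφ
  obtain ⟨e, he⟩ : IsNilpotent i := by
    have hle : (nilradical A).map φ ≤ nilradical _ := by
      rw [Ideal.map_le_iff_le_comap]
      intro x hx
      exact mem_nilradical.mpr ((mem_nilradical.mp hx).map φ)
    exact mem_nilradical.mp (hle hi)
  have hk := fun j : ℕ => Groth.Agent.Dim1Local.exists_pow_mul_mem_range hdim.le (i ^ j)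
  choose k hk using hk
  set K := (Finset.range e).sup k with hK
  refine ⟨K + e + 1, Nat.succ_pos _, ?_⟩
  rw [add_pow]
  refine Subring.sum_mem _ fun j hj => ?_
  refine Subring.mul_mem _ ?_ ⟨(Nat.choose (K + e + 1) j : A), map_natCast φ _⟩
  by_cases hje : j < e
  · rw [mul_comm, ← map_pow]
    refine hk j _ (Ideal.pow_le_pow_right ?_ (Ideal.pow_mem_pow ha _))
    have : k j ≤ K := Finset.le_sup (Finset.mem_range.mpr hje)
    omega
  · rw [pow_eq_zero_of_le (not_lt.mp hje) he, zero_mul]
    exact Subring.zero_mem _

end Groth.Agent.S7667
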