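import Groth.Statements.S7668
-- import your own Groth.Agent.* helpers here

set_option autoImplicit false
universe u
open CategoryTheory CategoryTheory.Limits AlgebraicGeometry
open Variety

namespace Groth.Agent.S7668

/-- Let A be a ring, p_1, …, p_r primes of A and S = A ∖ ⋃ p_i. Then S is a multiplicative subset, S⁻¹A
is semi-local, and contraction to A is a bijection from the maximal ideals of S⁻¹A onto the maximal
elements of {p_1, …, p_r}. -/
theorem result (A : Type u) [CommRing A]
    (r : ℕ) (p : Fin r → PrimeSpectrum A) :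
    Finite (MaximalSpectrum (Localization (⨅ i, (p i).asIdeal.primeCompl))) ∧
      Set.BijOn (fun m : Ideal (Localization (⨅ i, (p i).asIdeal.primeCompl)) =>
          m.comap (algebraMap A (Localization (⨅ i, (p i).asIdeal.primeCompl))))
        {m | m.IsMaximal}
        {q | q ∈ Set.range (fun i => (p i).asIdeal) ∧
          ∀ j, q ≤ (p j).asIdeal → q = (p j).asIdeal} := by
  classical
  set S := ⨅ i, (p i).asIdeal.primeCompl with hS
  have hdisj : ∀ q : Ideal A, q.IsPrime → (Disjoint (S : Set A) (q : Set A) ↔ ∃ i, q ≤ (p i).asIdeal) := by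
    intro q hq
    constructor
    · intro hd
      have hsub : (q : Set A) ⊆ ⋃ i ∈ (↑(Finset.univ : Finset (Fin r)) : Set (Fin r)), ((p i).asIdeal : Set A) := by
        intro x hx
        by_contra hne
        simp only [Finset.coe_univ, Set.mem_univ, Set.iUnion_true, Set.mem_iUnion, not_exists] at hne
        exact Set.disjoint_left.mp hd (by
          rw [hS, SetLike.mem_coe, Submonoid.mem_iInf]; exact fun i => hne i) hx
      rcases r with _ | r
      · exfalso
        have h0 : (0 : A) ∈ ⋃ i ∈ (↑(Finset.univ : Finset (Fin 0)) : Set (Fin 0)), ((p i).asIdeal : Set A) :=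
          hsub q.zero_mem
        simp at h0
      · obtain ⟨i, -, hi⟩ := (Ideal.subset_union_prime (0 : Fin (r + 1)) 0
          (fun i _ _ _ => (p i).isPrime)).mp hsub
        exact ⟨i, hi⟩
    · rintro ⟨i, hi⟩
      rw [Set.disjoint_left]
      intro x hx hxq
      exact (Submonoid.mem_iInf.mp hx i) (hi hxq)
  set φ := algebraMap A (Localization S) with hφ
  have hfix : ∀ i, ((p i).asIdeal.map φ).comap φ = (p i).asIdeal := fun i =>
    IsLocalization.under_map_of_isPrime_disjoint S _ (p i).isPrime ((hdisj _ (p i).isPrime).mpr ⟨i, le_rfl⟩)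
  have hprime : ∀ i, ((p i).asIdeal.map φ).IsPrime := fun i =>
    IsLocalization.isPrime_of_isPrime_disjoint S (Localization S) _ (p i).isPrime
      ((hdisj _ (p i).isPrime).mpr ⟨i, le_rfl⟩)
  have hbij : Set.BijOn (fun m : Ideal (Localization S) => m.comap φ) {m | m.IsMaximal}
      {q | q ∈ Set.range (fun i => (p i).asIdeal) ∧
        ∀ j, q ≤ (p j).asIdeal → q = (p j).asIdeal} := by
    refine ⟨?_, ?_, ?_⟩
    · intro m (hm : m.IsMaximal)
      obtain ⟨hp', hd⟩ := (IsLocalization.isPrime_iff_isPrime_disjoint S (Localization S) m).mp hm.isPrime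
      have key : ∀ j, m.comap φ ≤ (p j).asIdeal → m.comap φ = (p j).asIdeal := by
        intro j hj
        have hle : m ≤ (p j).asIdeal.map φ := by
          rw [← IsLocalization.under_le_under_iff S]
          show m.comap φ ≤ ((p j).asIdeal.map φ).comap φ
          rw [hfix]; exact hj
        rw [hm.eq_of_le (hprime j).ne_top hle, hfix]
      obtain ⟨i, hi⟩ := (hdisj _ hp').mp hd
      exact ⟨⟨i, (key i hi).symm⟩, key⟩
    · intro m _ m' _ h
      exact (IsLocalization.orderEmbedding S (Localization S)).injective h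
    · rintro q ⟨⟨i, rfl⟩, hq⟩
      obtain ⟨m, hm, hle⟩ := Ideal.exists_le_maximal _ (hprime i).ne_top
      obtain ⟨hp', hd⟩ := (IsLocalization.isPrime_iff_isPrime_disjoint S (Localization S) m).mp hm.isPrime
      obtain ⟨j, hj⟩ := (hdisj _ hp').mp hd
      have h1 : (p i).asIdeal ≤ m.comap φ := (hfix i).ge.trans (Ideal.comap_mono hle)
      refine ⟨m, hm, le_antisymm ?_ h1⟩
      show m.comap φ ≤ (p i).asIdeal
      have hq' : ∀ j, (p i).asIdeal ≤ (p j).asIdeal → (p i).asIdeal = (p j).asIdeal := hq
      rw [hq' j (h1.trans hj)]; exact hj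
  refine ⟨?_, hbij⟩
  haveI : Finite {q : Ideal A | q ∈ Set.range (fun i => (p i).asIdeal) ∧
      ∀ j, q ≤ (p j).asIdeal → q = (p j).asIdeal} :=
    ((Set.finite_range _).subset fun q hq => hq.1).to_subtype
  refine Finite.of_injective (fun m : MaximalSpectrum (Localization S) =>
    (⟨m.asIdeal.comap φ, hbij.mapsTo m.isMaximal⟩ : {q : Ideal A | q ∈ Set.range (fun i => (p i).asIdeal) ∧
      ∀ j, q ≤ (p j).asIdeal → q = (p j).asIdeal})) fun m m' h => ?_
  exact MaximalSpectrum.ext (hbij.injOn m.isMaximal m'.isMaximal (congrArg Subtype.val h))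

end Groth.Agent.S7668
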