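import Groth.Statements.S7674
import Groth.Agent.S4662
import Groth.Agent.S9154
-- import your own Groth.Agent.* helpers here

set_option autoImplicit false
universe u
open CategoryTheory CategoryTheory.Limits AlgebraicGeometry
open Variety

namespace Groth.Agent.S7674

open TensorProduct TopologicalSpace

/-- Dimension of the closure of a point of `Spec T`. -/
theorem dim_closure {T : Type u} [CommRing T] (x : PrimeSpectrum T) :
    topologicalKrullDim ↥(closure ({x} : Set (PrimeSpectrum T))) = ringKrullDim (T ⧸ x.asIdeal) := by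
  have hce := PrimeSpectrum.isClosedEmbedding_comap_of_surjective (T ⧸ x.asIdeal) (Ideal.Quotient.mk x.asIdeal)
    Ideal.Quotient.mk_surjective
  have hr : Set.range (PrimeSpectrum.comap (Ideal.Quotient.mk x.asIdeal)) = closure {x} := by
    rw [range_comap_of_surjective _ _ Ideal.Quotient.mk_surjective, Ideal.mk_ker,
      PrimeSpectrum.closure_singleton]
  rw [← PrimeSpectrum.topologicalKrullDim_eq_ringKrullDim, ← hr]
  exact Groth.Agent.FibreDim.dim_homeo hce.isEmbedding.toHomeomorph.symm

/-- `dim` of the closure of the generic point is unchanged by a closed embedding. -/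
theorem dim_of_generic {W P : Type u} [TopologicalSpace W] [TopologicalSpace P] {g : W → P}
    (hg : Topology.IsClosedEmbedding g) {C : Set W} {c : W} (hc : IsGenericPoint c C) :
    topologicalKrullDim ↥C = topologicalKrullDim ↥(closure ({g c} : Set P)) := by
  have h : closure ({g c} : Set P) = g '' C := by rw [← Set.image_singleton, hg.closure_image_eq, hc.def]
  rw [h]
  exact Groth.Agent.FibreDim.dim_homeo (hg.isEmbedding.homeomorphImage C)

/-- `A ⊗ B` is equidimensional of dimension `dim A + dim B`. -/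
theorem equidim {k : Type u} [Field k] (A B : Type u) [CommRing A] [CommRing B] [IsDomain A] [IsDomain B]
    [Algebra k A] [Algebra k B] [Algebra.FiniteType k A] [Algebra.FiniteType k B]
    (P : Ideal (A ⊗[k] B)) (hP : P ∈ minimalPrimes (A ⊗[k] B)) :
    ringKrullDim ((A ⊗[k] B) ⧸ P) = ringKrullDim A + ringKrullDim B := by
  haveI := hP.1.1
  let fA := Spec.map (CommRingCat.ofHom (algebraMap k A))
  let fB := Spec.map (CommRingCat.ofHom (algebraMap k B))
  haveI : LocallyOfFiniteType fA := (HasRingHomProperty.Spec_iff (P := @LocallyOfFiniteType)).mpr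
    (RingHom.finiteType_algebraMap.mpr inferInstance)
  haveI : LocallyOfFiniteType fB := (HasRingHomProperty.Spec_iff (P := @LocallyOfFiniteType)).mpr
    (RingHom.finiteType_algebraMap.mpr inferInstance)
  let e : ↥(pullback fA fB) ≃ₜ PrimeSpectrum (A ⊗[k] B) := (pullbackSpecIso k A B).hom.homeomorph
  let η := e.symm ⟨P, inferInstance⟩
  have hη : Groth.Agent.FibDim.IsMax' η := by
    intro η' h
    have h' := h.map e.continuous
    rw [Homeomorph.apply_symm_apply, ← PrimeSpectrum.le_iff_specializes] at h'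
    have : e η' = ⟨P, inferInstance⟩ :=
      PrimeSpectrum.ext (le_antisymm h' (hP.2 ⟨(e η').isPrime, bot_le⟩ h'))
    rw [← e.symm_apply_apply η', this]
  have h1 := Groth.Agent.S4662.result fA fB _ (Groth.Agent.FibDim.closure_mem_components hη)
  rw [dim_of_generic e.isClosedEmbedding (isGenericPoint_closure (x := η)), Homeomorph.apply_symm_apply,
    dim_closure] at h1
  rw [h1]
  exact congrArg₂ _ (PrimeSpectrum.topologicalKrullDim_eq_ringKrullDim A) (PrimeSpectrum.topologicalKrullDim_eq_ringKrullDim B)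

theorem diag_mem {k : Type u} [Field k] {σ : Type u} {T : Type u} [CommRing T] [Algebra k T]
    (inl inr : MvPolynomial σ k →ₐ[k] T) (f : MvPolynomial σ k) :
    inl f - inr f ∈ Ideal.span (Set.range fun i => inl (MvPolynomial.X i) - inr (MvPolynomial.X i)) := by
  induction f using MvPolynomial.induction_on with
  | C a =>
    rw [← MvPolynomial.algebraMap_eq, AlgHom.commutes, AlgHom.commutes, sub_self]
    exact zero_mem _
  | add f g hf hg =>
    rw [map_add, map_add, add_sub_add_comm]
    exact add_mem hf hg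
  | mul_X f i hf =>
    rw [map_mul, map_mul, show inl f * inl (MvPolynomial.X i) - inr f * inr (MvPolynomial.X i) =
      inl f * (inl (MvPolynomial.X i) - inr (MvPolynomial.X i)) + inr (MvPolynomial.X i) * (inl f - inr f) by ring]
    exact add_mem (Ideal.mul_mem_left _ _ (Ideal.subset_span ⟨i, rfl⟩)) (Ideal.mul_mem_left _ _ hf)

theorem gen_mem {k : Type u} [Field k] {σ : Type u} {T : Type u} [CommRing T] [Algebra k T]
    (inl inr : MvPolynomial σ k →ₐ[k] T) (a b : MvPolynomial σ k) :
    inl a * inr b - inl (a * b) ∈ Ideal.span (Set.range fun i => inl (MvPolynomial.X i) - inr (MvPolynomial.X i)) := by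
  have h := Ideal.mul_mem_left _ (-(inl a)) (diag_mem inl inr b)
  rw [map_mul]
  convert h using 1; ring

theorem core {k : Type u} [Field k] {σ : Type u} [Fintype σ] {T : Type u} [CommRing T] [Algebra k T]
    [Algebra.FiniteType k T] (d : ℕ) (heq : ∀ P ∈ minimalPrimes T, ringKrullDim (T ⧸ P) = (d : WithBot ℕ∞))
    (p q Q : Ideal (MvPolynomial σ k)) [Q.IsPrime] (hQ : Q ∈ (p ⊔ q).minimalPrimes)
    (inl inr : MvPolynomial σ k →ₐ[k] T) (hl0 : ∀ a ∈ p, inl a = 0) (hr0 : ∀ a ∈ q, inr a = 0)
    (hg : ∀ t : T, t ∈ AddSubmonoid.closure {x : T | ∃ a b, x = inl a * inr b})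
    (π : T →ₐ[k] MvPolynomial σ k ⧸ Q) (hπl : ∀ a, π (inl a) = Ideal.Quotient.mk Q a)
    (hπr : ∀ a, π (inr a) = Ideal.Quotient.mk Q a) :
    (d : WithBot ℕ∞) ≤ ringKrullDim (MvPolynomial σ k ⧸ Q) + (Fintype.card σ : WithBot ℕ∞) := by
  classical
  have hgen : ∀ t : T, ∃ a, t - inl a ∈ Ideal.span (Set.range fun i => inl (MvPolynomial.X i) - inr (MvPolynomial.X i)) := by
    intro t
    induction hg t using AddSubmonoid.closure_induction with
    | mem x hx =>
      obtain ⟨a, b, rfl⟩ := hx
      exact ⟨a * b, gen_mem inl inr a b⟩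
    | zero => exact ⟨0, by rw [map_zero, sub_zero]; exact zero_mem _⟩
    | add x y _ _ hx hy =>
      obtain ⟨a, ha⟩ := hx
      obtain ⟨b, hb⟩ := hy
      exact ⟨a + b, by rw [map_add, add_sub_add_comm]; exact add_mem ha hb⟩
  have hπs : Function.Surjective π := fun b => by
    obtain ⟨a, rfl⟩ := Ideal.Quotient.mk_surjective b; exact ⟨inl a, hπl a⟩
  let Q' := RingHom.ker π.toRingHom
  haveI : Q'.IsPrime := RingHom.ker_isPrime _
  let δ : σ → T := fun i => inl (MvPolynomial.X i) - inr (MvPolynomial.X i)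
  have hδQ : Ideal.span (Set.range δ) ≤ Q' := Ideal.span_le.2 (by
    rintro _ ⟨i, rfl⟩
    show π (δ i) = 0
    simp only [δ, map_sub, hπl, hπr, sub_self])
  have hmin : Q' ∈ (Ideal.span (Set.range δ)).minimalPrimes := by
    refine ⟨⟨inferInstance, hδQ⟩, fun P hP hPQ t ht => ?_⟩
    haveI := hP.1
    have hle : Q ≤ P.comap inl.toRingHom := by
      refine hQ.2 ⟨Ideal.comap_isPrime _ _, sup_le ?_ ?_⟩ ?_
      · intro a ha
        show inl a ∈ P
        rw [hl0 a ha]; exact zero_mem _
      · intro a ha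
        show inl a ∈ P
        have h := hP.2 (diag_mem inl inr a)
        rwa [hr0 a ha, sub_zero] at h
      · intro a ha
        have h : π (inl a) = 0 := hPQ (show inl a ∈ P from ha)
        rwa [hπl, Ideal.Quotient.eq_zero_iff_mem] at h
    obtain ⟨a, ha⟩ := hgen t
    have haQ : a ∈ Q := by
      have h : π (t - inl a) = 0 := hδQ ha
      rw [map_sub, show π t = 0 from ht, zero_sub, neg_eq_zero, hπl, Ideal.Quotient.eq_zero_iff_mem] at h
      exact h
    have h2 := add_mem (hP.2 ha) (show inl a ∈ P from hle haQ)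
    rwa [sub_add_cancel] at h2
  haveI : IsNoetherianRing T := Algebra.FiniteType.isNoetherianRing k T
  obtain ⟨h, e, hh, he, hhe⟩ := Groth.Agent.S9154.height_add_dim k T d heq Q'
  have hhn : h ≤ Fintype.card σ := by
    have := (Ideal.height_le_card_of_mem_minimalPrimes_span (Set.finite_range δ) hmin).trans
      (Nat.cast_le.mpr (show (Set.range δ).ncard ≤ Fintype.card σ by
        rw [← Set.image_univ]
        exact (Set.ncard_image_le Set.finite_univ).trans (by simp)))
    rw [hh] at this
    exact_mod_cast this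
  have hd : ringKrullDim (MvPolynomial σ k ⧸ Q) = e := by
    rw [← he]
    exact (ringKrullDim_eq_of_ringEquiv (R := T ⧸ Q') (S := MvPolynomial σ k ⧸ Q)
      (RingHom.quotientKerEquivOfSurjective (f := π.toRingHom) hπs)).symm
  rw [hd, ← Nat.cast_add]
  exact_mod_cast (show d ≤ e + Fintype.card σ by omega)

set_option maxHeartbeats 1600000 in
/-- The affine dimension theorem for primes in a polynomial ring. -/
theorem dim_le_dim_add {k : Type u} [Field k] {σ : Type u} [Fintype σ]
    (p q Q : Ideal (MvPolynomial σ k)) [p.IsPrime] [q.IsPrime] [Q.IsPrime] (hQ : Q ∈ (p ⊔ q).minimalPrimes)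
    (r s : ℕ) (hp : ringKrullDim (MvPolynomial σ k ⧸ p) = r) (hq : ringKrullDim (MvPolynomial σ k ⧸ q) = s) :
    ((r + s : ℕ) : WithBot ℕ∞) ≤ ringKrullDim (MvPolynomial σ k ⧸ Q) + (Fintype.card σ : WithBot ℕ∞) := by
  have hpQ : p ≤ Q := le_sup_left.trans hQ.1.2
  have hqQ : q ≤ Q := le_sup_right.trans hQ.1.2
  let inl : MvPolynomial σ k →ₐ[k] ((MvPolynomial σ k ⧸ p) ⊗[k] (MvPolynomial σ k ⧸ q)) :=
    Algebra.TensorProduct.includeLeft.comp (Ideal.Quotient.mkₐ k p)
  let inr : MvPolynomial σ k →ₐ[k] ((MvPolynomial σ k ⧸ p) ⊗[k] (MvPolynomial σ k ⧸ q)) :=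
    Algebra.TensorProduct.includeRight.comp (Ideal.Quotient.mkₐ k q)
  haveI : Algebra.FiniteType k ((MvPolynomial σ k ⧸ p) ⊗[k] (MvPolynomial σ k ⧸ q)) :=
    Algebra.FiniteType.trans (inferInstance : Algebra.FiniteType k (MvPolynomial σ k ⧸ p)) inferInstance
  refine core (r + s) (fun P hP => by rw [equidim (k := k) (MvPolynomial σ k ⧸ p) (MvPolynomial σ k ⧸ q) P hP, hp, hq, Nat.cast_add]) p q Q hQ inl inr
    (fun a ha => by simp [inl, Ideal.Quotient.eq_zero_iff_mem.2 ha])
    (fun a ha => by simp [inr, Ideal.Quotient.eq_zero_iff_mem.2 ha]) ?_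
    (Algebra.TensorProduct.lift (Ideal.Quotient.factorₐ k hpQ) (Ideal.Quotient.factorₐ k hqQ) fun _ _ => Commute.all _ _)
    (fun a => by simp [inl, Ideal.Quotient.factorₐ]) (fun a => by simp [inr, Ideal.Quotient.factorₐ])
  intro t
  induction t using TensorProduct.induction_on with
  | zero => exact zero_mem _
  | tmul a b =>
    obtain ⟨a, rfl⟩ := Ideal.Quotient.mk_surjective a
    obtain ⟨b, rfl⟩ := Ideal.Quotient.mk_surjective b
    refine AddSubmonoid.subset_closure ⟨a, b, ?_⟩
    simp [inl, inr, Algebra.TensorProduct.tmul_mul_tmul]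
  | add x y hx hy => exact add_mem hx hy

/-- Let k be a field, n ≥ 0, and X, Y ⊆ A^n_k closed subsets which are equidimensional of dimensions r
and s. Then each irreducible component Z of the intersection X ∩ Y satisfies dim Z ≥ r + s − n. -/
theorem result (k : Type u) [Field k] (n r s : ℕ)
    (X Y : Set ↥(𝔸(ULift.{u} (Fin n); Spec (CommRingCat.of k)))) (hX : IsClosed X) (hY : IsClosed Y)
    (hXr : ∀ Z ∈ irreducibleComponents X, topologicalKrullDim Z = r)
    (hYs : ∀ Z ∈ irreducibleComponents Y, topologicalKrullDim Z = s)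
    (Z : Set ↥(X ∩ Y)) (hZ : Z ∈ irreducibleComponents ↥(X ∩ Y)) :
    ((r + s : ℕ) : WithBot ℕ∞) ≤ topologicalKrullDim Z + (n : WithBot ℕ∞) := by
  classical
  let h : ↥(𝔸(ULift.{u} (Fin n); Spec (CommRingCat.of k))) ≃ₜ PrimeSpectrum (MvPolynomial (ULift.{u} (Fin n)) k) :=
    (AffineSpace.SpecIso (ULift.{u} (Fin n)) (CommRingCat.of k)).hom.homeomorph
  have hXY : IsClosed (X ∩ Y) := hX.inter hY
  haveI : QuasiSober ↥(X ∩ Y) := hXY.isClosedEmbedding_subtypeVal.quasiSober
  obtain ⟨z, hz⟩ := QuasiSober.sober hZ.1 (isClosed_of_mem_irreducibleComponents Z hZ)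
  have comp : ∀ (W : Set ↥(𝔸(ULift.{u} (Fin n); Spec (CommRingCat.of k)))) (hW : IsClosed W) (d : ℕ),
      (∀ C ∈ irreducibleComponents W, topologicalKrullDim C = d) → ∀ w ∈ W,
      ∃ c : PrimeSpectrum (MvPolynomial (ULift.{u} (Fin n)) k),
        ringKrullDim (MvPolynomial (ULift.{u} (Fin n)) k ⧸ c.asIdeal) = d ∧ c ≤ h w ∧ h.symm c ∈ W := by
    intro W hW d hd w hw
    haveI : QuasiSober ↥W := hW.isClosedEmbedding_subtypeVal.quasiSober
    obtain ⟨c, hc⟩ := QuasiSober.sober (isIrreducible_irreducibleComponent (x := (⟨w, hw⟩ : ↥W))) isClosed_irreducibleComponent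
    refine ⟨h c.1, ?_, ?_, by rw [h.symm_apply_apply]; exact c.2⟩
    · rw [← dim_closure, ← hd _ (irreducibleComponent_mem_irreducibleComponents ⟨w, hw⟩)]
      exact (dim_of_generic (h.isClosedEmbedding.comp hW.isClosedEmbedding_subtypeVal) hc).symm
    · rw [PrimeSpectrum.le_iff_specializes]
      exact ((hc.specializes mem_irreducibleComponent).map continuous_subtype_val).map h.continuous
  obtain ⟨p, hp, hpz, hpX⟩ := comp X hX r hXr z.1 z.2.1
  obtain ⟨q, hq, hqz, hqY⟩ := comp Y hY s hYs z.1 z.2.2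
  have hmin : (h z.1).asIdeal ∈ (p.asIdeal ⊔ q.asIdeal).minimalPrimes := by
    refine ⟨⟨(h z.1).isPrime, sup_le hpz hqz⟩, fun P hP hPz => ?_⟩
    let w' : PrimeSpectrum (MvPolynomial (ULift.{u} (Fin n)) k) := ⟨P, hP.1⟩
    have hmem : ∀ (W : Set ↥(𝔸(ULift.{u} (Fin n); Spec (CommRingCat.of k)))), IsClosed W → ∀ c,
        h.symm c ∈ W → c ≤ w' → h.symm w' ∈ W := fun W hW c hc hle =>
      (((PrimeSpectrum.le_iff_specializes _ _).1 hle).map h.symm.continuous).mem_closed hW hc
    have hw : h.symm w' ∈ X ∩ Y :=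
      ⟨hmem X hX p hpX (le_sup_left.trans hP.2), hmem Y hY q hqY (le_sup_right.trans hP.2)⟩
    have hspec : (⟨h.symm w', hw⟩ : ↥(X ∩ Y)) ⤳ z := by
      rw [← Topology.IsInducing.subtypeVal.specializes_iff]
      have := ((PrimeSpectrum.le_iff_specializes w' (h z.1)).1 hPz).map h.symm.continuous
      rwa [h.symm_apply_apply] at this
    have hsub : Z ≤ closure ({⟨h.symm w', hw⟩} : Set ↥(X ∩ Y)) := by
      rw [← hz.def]
      exact closure_minimal (Set.singleton_subset_iff.2 (specializes_iff_mem_closure.1 hspec)) isClosed_closure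
    have hback := hz.specializes (hZ.2 isIrreducible_singleton.closure hsub (subset_closure rfl))
    have h2 := (hback.map continuous_subtype_val).map h.continuous
    change h z.1 ⤳ h (h.symm w') at h2
    rw [h.apply_symm_apply, ← PrimeSpectrum.le_iff_specializes] at h2
    exact h2
  haveI := (h z.1).isPrime
  have main := dim_le_dim_add p.asIdeal q.asIdeal (h z.1).asIdeal hmin r s hp hq
  rw [Fintype.card_ulift, Fintype.card_fin] at main
  rw [dim_of_generic (h.isClosedEmbedding.comp hXY.isClosedEmbedding_subtypeVal) hz]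
  exact main.trans_eq (by rw [← dim_closure]; rfl)

end Groth.Agent.S7674
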