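import Groth.Statements.S7676
import Groth.Agent.ProjLinear.Sections
import Mathlib.RingTheory.MvPolynomial.Homogeneous
-- import your own Groth.Agent.* helpers here

set_option autoImplicit false
universe u
open CategoryTheory CategoryTheory.Limits AlgebraicGeometry
open Variety

namespace Groth.Agent.S7676

open Groth.Agent
set_option synthInstance.maxHeartbeats 400000
set_option maxHeartbeats 1600000

/-- Let k be a field, n ≥ 1 and i : H → P^n_k a hyperplane, the zero scheme of a nonzero section of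
O(1). Then there is an isomorphism φ : P^{n-1}_k → H under which i^*O(1) pulls back to O(1).
(Indexed here with P^{n+1} and P^n.) -/
theorem result (k : Type u) [Field k] (n : ℕ)
    (s : Coh.structureModule (CohB1.ProjSpace (n + 1) k) ⟶ Twist.twistProjSpace (n + 1) k 1) (hs : s ≠ 0) :
    ∃ φ : CohB1.ProjSpace n k ≅ (PicF2.zeroScheme _ s).subscheme,
      Nonempty ((Scheme.Modules.pullback (φ.hom ≫ (PicF2.zeroScheme _ s).subschemeι)).obj
          (Twist.twistProjSpace (n + 1) k 1) ≅ Twist.twistProjSpace n k 1) := by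
  classical
  let 𝒜 := CohB1.polyGrading (n + 1) k
  let ℬ := CohB1.polyGrading n k
  let L := Twist.twist 𝒜 ((1 : ℕ) : ℤ)
  obtain ⟨σ, hσ⟩ : ∃ σ : Γ(L, ⊤), ProjTwist.globalHom L σ = s := ⟨s.app ⊤ (1 : Γ(Proj 𝒜, ⊤)), by
    refine Scheme.Modules.hom_ext _ _ (fun V => AddCommGrpCat.ext ?_)
    intro (r : Γ(Proj 𝒜, V))
    refine (ProjTwist.globalHom_app _ _ V r).trans ?_
    refine Eq.trans ?_ (congrArg (s.app V) (mul_one r))
    refine Eq.trans ?_ (Scheme.Modules.Hom.app_smul s r (1 : Γ(Proj 𝒜, V))).symm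
    refine congrArg (r • ·) ?_
    refine (Groth.Agent.QCohLib.app_map s (le_top : V ≤ ⊤) (1 : Γ(Proj 𝒜, ⊤))).symm.trans ?_
    exact congrArg (s.app V) (map_one ((Proj 𝒜).presheaf.map (homOfLE (le_top : V ≤ ⊤)).op).hom)⟩
  obtain ⟨F, rfl⟩ := ProjLinear.exists_linearForm σ
  have hF : F.1 ≠ 0 := by
    intro h0
    apply hs
    rw [← hσ]
    refine Scheme.Modules.hom_ext _ _ (fun V => AddCommGrpCat.ext ?_)
    intro (r : Γ(Proj 𝒜, V))
    refine (ProjTwist.globalHom_app _ _ V r).trans ?_
    show r • ProjUniv.gres L (Twist.globalOf 𝒜 F) V = (0 : Γ(L, V))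
    have hz : ProjUniv.gres L (Twist.globalOf 𝒜 F) V = (0 : Γ(L, V)) := ProjLinear.tval_ext fun x hx => by
      rw [ProjLinear.tval_globalOf, h0]
      exact Localization.mk_zero _
    rw [hz, smul_zero]
  -- coefficients
  obtain ⟨c, hc⟩ : ∃ c : Fin (n + 2) → k, F.1 = ∑ i, MvPolynomial.C (c i) * MvPolynomial.X i := by
    have h : F.1 ∈ Submodule.span k (Set.range (MvPolynomial.X : Fin (n + 2) → MvPolynomial (Fin (n + 2)) k)) := by
      rw [← MvPolynomial.homogeneousSubmodule_one_eq_span_X]
      exact F.2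
    obtain ⟨c, hc⟩ := (Submodule.mem_span_range_iff_exists_fun k).mp h
    refine ⟨c, hc.symm.trans (Finset.sum_congr rfl fun i _ => MvPolynomial.smul_eq_C_mul _ _)⟩
  obtain ⟨j₀, hj₀⟩ : ∃ j, c j ≠ 0 := by
    by_contra hall
    push Not at hall
    exact hF (by rw [hc]; simp [hall])
  let v : Fin (n + 2) → MvPolynomial (Fin (n + 1)) k := fun l =>
    Fin.insertNth (α := fun _ => MvPolynomial (Fin (n + 1)) k) j₀
      (-(MvPolynomial.C (c j₀)⁻¹ * ∑ i, MvPolynomial.C (c (j₀.succAbove i)) * MvPolynomial.X i))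
      MvPolynomial.X l
  let f : MvPolynomial (Fin (n + 2)) k →ₐ[k] MvPolynomial (Fin (n + 1)) k := MvPolynomial.aeval v
  let r : MvPolynomial (Fin (n + 1)) k →ₐ[k] MvPolynomial (Fin (n + 2)) k :=
    MvPolynomial.rename j₀.succAbove
  have hvj : v j₀ = -(MvPolynomial.C (c j₀)⁻¹ * ∑ i, MvPolynomial.C (c (j₀.succAbove i)) * MvPolynomial.X i) := by
    simp [v]
  have hvs : ∀ i, v (j₀.succAbove i) = MvPolynomial.X i := fun i => by simp [v]
  have hfr : ∀ q, f (r q) = q := fun q => by
    have : f.comp r = AlgHom.id k _ := MvPolynomial.algHom_ext fun i => by simp [f, r, hvs]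
    exact DFunLike.congr_fun this q
  have hfF : f F.1 = 0 := by
    rw [hc, map_sum, Fin.sum_univ_succAbove _ j₀]
    simp only [f, map_mul, MvPolynomial.aeval_C, MvPolynomial.aeval_X, hvj, hvs,
      MvPolynomial.algebraMap_eq]
    rw [mul_neg, ← mul_assoc, ← map_mul, mul_inv_cancel₀ hj₀, map_one, one_mul, neg_add_cancel]
  have hker : ∀ a, f a = 0 ↔ F.1 ∣ a := by
    intro a
    constructor
    · intro ha
      have key : ∀ b, F.1 ∣ b - r (f b) := by
        have hcomp : (Ideal.Quotient.mkₐ k (Ideal.span {F.1})).comp (r.comp f) = Ideal.Quotient.mkₐ k (Ideal.span {F.1}) := by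
          refine MvPolynomial.algHom_ext fun l => ?_
          simp only [AlgHom.comp_apply, Ideal.Quotient.mkₐ_eq_mk, Ideal.Quotient.mk_eq_mk_iff_sub_mem, Ideal.mem_span_singleton]
          induction l using Fin.succAboveCases j₀ with
          | x =>
            refine ⟨-MvPolynomial.C (c j₀)⁻¹, ?_⟩
            simp only [f, MvPolynomial.aeval_X, hvj, map_neg, map_mul, map_sum, r, MvPolynomial.rename_C,
              MvPolynomial.rename_X]
            rw [hc, Fin.sum_univ_succAbove _ j₀]
            have h1 : (MvPolynomial.C (c j₀) : MvPolynomial (Fin (n + 2)) k) * MvPolynomial.C (c j₀)⁻¹ = 1 := by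
              rw [← map_mul, mul_inv_cancel₀ hj₀, map_one]
            linear_combination (MvPolynomial.X j₀ : MvPolynomial (Fin (n + 2)) k) * h1
          | p i => simp [f, r, hvs]
        intro b
        have h1 := DFunLike.congr_fun hcomp b
        simp only [AlgHom.comp_apply, Ideal.Quotient.mkₐ_eq_mk, Ideal.Quotient.mk_eq_mk_iff_sub_mem,
          Ideal.mem_span_singleton] at h1
        exact (dvd_neg.mpr h1).trans (by rw [neg_sub])
      simpa [ha] using key a
    · rintro ⟨b, rfl⟩
      rw [map_mul, hfF, zero_mul]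
  let φ : 𝒜 →+*ᵍ ℬ :=
    { toRingHom := f.toRingHom
      map_mem := by
        intro d a ha
        have hv1 : ∀ l, (v l).IsHomogeneous 1 := by
          intro l
          induction l using Fin.succAboveCases j₀ with
          | x =>
            rw [hvj]
            refine neg_mem (?_ : _ ∈ ℬ 1)
            rw [← MvPolynomial.smul_eq_C_mul]
            refine Submodule.smul_mem _ _ (Submodule.sum_mem _ fun i _ => ?_)
            rw [← MvPolynomial.smul_eq_C_mul]
            exact Submodule.smul_mem _ _ (MvPolynomial.isHomogeneous_X k i)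
          | p i => rw [hvs]; exact MvPolynomial.isHomogeneous_X k i
        have := MvPolynomial.IsHomogeneous.aeval (n := 1) (show a.IsHomogeneous d from ha) v hv1
        rw [one_mul] at this
        exact this }
  have hsurj : Function.Surjective φ := fun q => ⟨r q, hfr q⟩
  have hφ := ProjQuot.irrelevant_le_map φ hsurj
  have hzero := ProjLinear.ker_map_eq_zeroScheme hF φ hφ hsurj hker ProjLinear.exists_degree_one
  have : IsClosedImmersion (Proj.map φ hφ) := ProjQuot.isClosedImmersion_map φ hφ hsurj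
  obtain ⟨e, he⟩ : ∃ e : CohB1.ProjSpace n k ≅ (PicF2.zeroScheme _ s).subscheme,
      e.hom ≫ (PicF2.zeroScheme _ s).subschemeι = Proj.map φ hφ := by
    have key : ∀ {X Y : Scheme.{u}} (g : X ⟶ Y) [IsClosedImmersion g] (I : Y.IdealSheafData), g.ker = I →
        ∃ e : X ≅ I.subscheme, e.hom ≫ I.subschemeι = g := by
      rintro X Y g _ I rfl
      exact ⟨asIso g.toImage, Scheme.Hom.toImage_imageι _⟩
    refine key (Proj.map φ hφ) _ (hzero.trans ?_)
    rw [← hσ]
    rfl
  refine ⟨e, ?_⟩
  rw [he]
  exact ProjLinear.nonempty_pullback_twist_iso φ hφ ProjLinear.exists_degree_one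

end Groth.Agent.S7676
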