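import Groth.Statements.S7683
import Groth.Agent.DeltaBC.NormResidue
import Groth.Agent.DeltaFlat.Main
import Groth.Agent.ReducedNormalization.DeltaInv
import Groth.Agent.NagataLib.Scheme
import Groth.Agent.NagataLib.Universal

set_option autoImplicit false
universe u
open CategoryTheory CategoryTheory.Limits AlgebraicGeometry
open Variety
open scoped TensorProduct

namespace Groth.Agent.S7683

/-- A quotient of an algebra as an algebra over a smaller ring. -/
noncomputable abbrev algQ {k S C : Type u} [CommRing k] [CommRing S] [CommRing C] [Algebra S C]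
    (f : k →+* S) (Q : Ideal C) : Algebra k (C ⧸ Q) :=
  RingHom.toAlgebra ((Ideal.Quotient.mk Q).comp ((algebraMap S C).comp f) : k →+* C ⧸ Q)


/-- Transport of reducedness of a base change along an isomorphism of algebras. -/
theorem isReduced_tensor_of_ringEquiv {k L C K : Type u} [Field k] [CommRing L] [CommRing C]
    [CommRing K] [Algebra k K] [Algebra k C] [Algebra k L] (ρ : L ≃+* C)
    (h : ∀ a, ρ (algebraMap k L a) = algebraMap k C a) (hL : _root_.IsReduced (L ⊗[k] K)) :
    _root_.IsReduced (C ⊗[k] K) :=
  let e : L ≃ₐ[k] C := AlgEquiv.ofRingEquiv (f := ρ) h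
  DeltaBC.isReduced_tensor_of_injective (e.symm : C →ₐ[k] L) e.symm.injective hL

/-- The residue field inherits reducedness of base changes from a field above it. -/
theorem isReduced_residue_tensor {k S C K : Type u} [Field k] [CommRing S] [IsLocalRing S]
    [CommRing C] [Algebra S C] [CommRing K] [Algebra k K] (f : k →+* S) (Q : Ideal C)
    [Q.LiesOver (IsLocalRing.maximalIdeal S)]
    (h : letI := algQ f Q; _root_.IsReduced ((C ⧸ Q) ⊗[k] K)) :
    letI : Algebra k (S ⧸ IsLocalRing.maximalIdeal S) :=
      ((algebraMap S (S ⧸ IsLocalRing.maximalIdeal S)).comp f).toAlgebra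
    _root_.IsReduced ((S ⧸ IsLocalRing.maximalIdeal S) ⊗[k] K) :=
  by
  let : Algebra k (C ⧸ Q) := algQ f Q
  let : Algebra k (S ⧸ IsLocalRing.maximalIdeal S) :=
    ((algebraMap S (S ⧸ IsLocalRing.maximalIdeal S)).comp f).toAlgebra
  let ψ : S ⧸ IsLocalRing.maximalIdeal S →+* C ⧸ Q :=
    Ideal.quotientMap Q (algebraMap S C) (Q.over_def (IsLocalRing.maximalIdeal S)).le
  have hψ : ∀ a, ψ (algebraMap k (S ⧸ IsLocalRing.maximalIdeal S) a) = algebraMap k (C ⧸ Q) a := by
    intro a
    exact Ideal.quotientMap_mk
  have hinj : Function.Injective ψ :=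
    Ideal.quotientMap_injective' (Q.over_def (IsLocalRing.maximalIdeal S)).ge
  exact DeltaBC.isReduced_tensor_of_injective (AlgHom.mk ψ hψ) hinj h

set_option maxHeartbeats 1000000 in
/-- Let X be locally of finite type over a field k with normalization ν : X^ν → X, K/k a field
extension, y ∈ X_K a point with image x ∈ X. Assume O_{X,x} is reduced of dimension one, κ(x')/k is
separable for every x' ∈ X^ν over x, and dim O_{X_K,y} = 1. Then the δ-invariant of X at x equals
the δ-invariant of X_K at y. (The published statement needs only O_{X,x} reduced; this row takes X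
integral so that X^ν is the normalization of an integral scheme.) -/
theorem result (k : Type u) [Field k] (X : Scheme.{u}) [X.Over (Spec (CommRingCat.of k))]
    [IsIntegral X] [LocallyOfFiniteType (X ↘ (Spec (CommRingCat.of k)))]
    [QuasiCompact (X.fromSpecStalk (genericPoint X))] [QuasiSeparated (X.fromSpecStalk (genericPoint X))]
    (K : Type u) [Field K] [Algebra k K] (y : ↥(Curv2.bc k X K))
    (hdx : ringKrullDim (X.presheaf.stalk ((Curv2.bcFst k X K).base y)) = 1)
    (hsep : letI : (Curv2.normalization X).Over (Spec (CommRingCat.of k)) :=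
        ⟨Curv2.normalizationι X ≫ (X ↘ (Spec (CommRingCat.of k)))⟩
      ∀ x' : ↥(Curv2.normalization X), (Curv2.normalizationι X).base x' = (Curv2.bcFst k X K).base y →
        GeometricallyReduced (Spec.map (CommRingCat.ofHom (Curv2.resMap k (Curv2.normalization X) x'))))
    (hdy : ringKrullDim ((Curv2.bc k X K).presheaf.stalk y) = 1) :
    Curv2.deltaInv (X.presheaf.stalk ((Curv2.bcFst k X K).base y)) =
      Curv2.deltaInv ((Curv2.bc k X K).presheaf.stalk y) := by
  obtain ⟨U, hU, hxU, -⟩ := exists_isAffineOpen_mem_and_subset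
    (show (Curv2.bcFst k X K).base y ∈ (⊤ : X.Opens) from trivial)
  let : Algebra Γ(X, U) (X.presheaf.stalk ((Curv2.bcFst k X K).base y)) :=
    TopCat.Presheaf.algebra_section_stalk X.presheaf ⟨_, hxU⟩
  have hloc := hU.isLocalization_stalk ⟨_, hxU⟩
  have hN : CAlg.IsNagata (X.presheaf.stalk ((Curv2.bcFst k X K).base y)) :=
    NagataLib.isNagata_localization
      (NagataLib.isNagata_of_locallyOfFiniteType k X (X ↘ Spec (CommRingCat.of k)) U hU)
      (hU.primeIdealOf ⟨_, hxU⟩).asIdeal.primeCompl _
  have : IsNoetherianRing (X.presheaf.stalk ((Curv2.bcFst k X K).base y)) := hN.1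
  have : Ring.KrullDimLE 1 (X.presheaf.stalk ((Curv2.bcFst k X K).base y)) :=
    Ring.krullDimLE_iff.2 hdx.le
  have : Ring.KrullDimLE 1 ((Curv2.bc k X K).presheaf.stalk y) := Ring.krullDimLE_iff.2 hdy.le
  have : Module.Finite (X.presheaf.stalk ((Curv2.bcFst k X K).base y))
      (integralClosure (X.presheaf.stalk ((Curv2.bcFst k X K).base y))
        (FractionRing (X.presheaf.stalk ((Curv2.bcFst k X K).base y)))) :=
    ReducedNormalization.finite_integralClosure_of_nagata hN
  have : LocallyOfFiniteType (Curv2.bcSnd k X K) :=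
    inferInstanceAs (LocallyOfFiniteType (pullback.snd _ _))
  have : IsLocallyNoetherian (Curv2.bc k X K) :=
    LocallyOfFiniteType.isLocallyNoetherian (Curv2.bcSnd k X K)
  have hflat : Flat (Curv2.bcFst k X K) := by
    have : Flat (Spec.map (CommRingCat.ofHom (algebraMap k K))) :=
      Flat.SpecMap_iff.2 ((RingHom.flat_algebraMap_iff).2 inferInstance)
    exact inferInstanceAs (Flat (pullback.fst _ _))
  let : Algebra (X.presheaf.stalk ((Curv2.bcFst k X K).base y)) ((Curv2.bc k X K).presheaf.stalk y) :=
    ((Curv2.bcFst k X K).stalkMap y).hom.toAlgebra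
  have : Module.Flat (X.presheaf.stalk ((Curv2.bcFst k X K).base y)) ((Curv2.bc k X K).presheaf.stalk y) :=
    Flat.stalkMap (Curv2.bcFst k X K) y
  have : IsLocalHom (algebraMap (X.presheaf.stalk ((Curv2.bcFst k X K).base y))
      ((Curv2.bc k X K).presheaf.stalk y)) :=
    (Curv2.bcFst k X K).toLRSHom.prop y
  -- the fibres over the closed points of the normalisation
  have hQ : ∀ (Q : Ideal (integralClosure (X.presheaf.stalk ((Curv2.bcFst k X K).base y))
      (FractionRing (X.presheaf.stalk ((Curv2.bcFst k X K).base y))))) [Q.IsMaximal],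
      letI : Algebra k (integralClosure (X.presheaf.stalk ((Curv2.bcFst k X K).base y))
          (FractionRing (X.presheaf.stalk ((Curv2.bcFst k X K).base y))) ⧸ Q) :=
        algQ (Curv2.stalkMap k X ((Curv2.bcFst k X K).base y)) Q
      _root_.IsReduced ((integralClosure (X.presheaf.stalk ((Curv2.bcFst k X K).base y))
          (FractionRing (X.presheaf.stalk ((Curv2.bcFst k X K).base y))) ⧸ Q) ⊗[k] K) := by
    intro Q _
    let : (Curv2.normalization X).Over (Spec (CommRingCat.of k)) :=
      ⟨Curv2.normalizationι X ≫ (X ↘ (Spec (CommRingCat.of k)))⟩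
    let : Algebra k (integralClosure (X.presheaf.stalk ((Curv2.bcFst k X K).base y))
        (FractionRing (X.presheaf.stalk ((Curv2.bcFst k X K).base y))) ⧸ Q) :=
      algQ (Curv2.stalkMap k X ((Curv2.bcFst k X K).base y)) Q
    obtain ⟨x', hx', ρ, hρ⟩ := DeltaBC.exists_residueField_equiv (k := k) X _ Q
    let : Algebra k ((Curv2.normalization X).residueField x') :=
      (Curv2.resMap k (Curv2.normalization X) x').toAlgebra
    refine isReduced_tensor_of_ringEquiv (L := (Curv2.normalization X).residueField x')
      (C := integralClosure (X.presheaf.stalk ((Curv2.bcFst k X K).base y))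
        (FractionRing (X.presheaf.stalk ((Curv2.bcFst k X K).base y))) ⧸ Q) ρ ?_
      (DeltaBC.isReduced_tensor_of_geometricallyReduced (hsep x' hx') K)
    exact fun a => hρ a
  have hm : (IsLocalRing.maximalIdeal (X.presheaf.stalk ((Curv2.bcFst k X K).base y))).map
      (algebraMap (X.presheaf.stalk ((Curv2.bcFst k X K).base y)) ((Curv2.bc k X K).presheaf.stalk y)) =
      IsLocalRing.maximalIdeal ((Curv2.bc k X K).presheaf.stalk y) := by
    have hA : ¬ IsField (X.presheaf.stalk ((Curv2.bcFst k X K).base y)) := fun h => by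
      rw [ringKrullDim_eq_zero_of_isField h] at hdx
      exact zero_ne_one hdx
    refine DeltaBC.map_maximalIdeal_eq hA (DeltaBC.isReduced_stalk_tensor X K y _ ?_)
    obtain ⟨Q, hQmax, hQlies⟩ := Ideal.exists_maximal_ideal_liesOver_of_isIntegral
      (S := integralClosure (X.presheaf.stalk ((Curv2.bcFst k X K).base y))
        (FractionRing (X.presheaf.stalk ((Curv2.bcFst k X K).base y))))
      (IsLocalRing.maximalIdeal (X.presheaf.stalk ((Curv2.bcFst k X K).base y)))
    exact isReduced_residue_tensor (Curv2.stalkMap k X ((Curv2.bcFst k X K).base y)) Q (hQ Q)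
  exact (DeltaFlat.deltaInv_eq hm fun Q _ => DeltaBC.isReduced_stalk_tensor X K y (_ ⧸ Q) (hQ Q)).symm

end Groth.Agent.S7683
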