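import Groth.Statements.S7690
import Groth.Agent.FlatBC.Main
import Groth.Agent.HilbPoly.Tensor
import Groth.Agent.InvPow.Projective
import Groth.Agent.ProjTwist.Tensor
import Groth.Agent.ProjLinear.Sections

set_option autoImplicit false
set_option linter.style.haveILetI false
set_option backward.isDefEq.respectTransparency false
universe u
open CategoryTheory CategoryTheory.Limits AlgebraicGeometry
open Variety

namespace Groth.Agent.S7690

/-- Let k'/k be a field extension (k' in the universe of k), n ≥ 0, F a coherent module on P^n_k with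
pullback F' to P^n_{k'}. For every integer m, F is m-regular exactly when F' is. Here P^n_{k'} is
taken as the base change P^n_k ×_k Spec k' and the m-regularity of F' is spelled out as the
vanishing of H^i(P^n_{k'}, (F(m − i))') for 1 ≤ i ≤ n, (F(m − i))' being the pullback of F ⊗ O(m −
i). -/
theorem result (k : Type u) [Field k] (n : ℕ)
    (k' : Type u) [Field k'] [Algebra k k'] (F : (CohB1.ProjSpace n k).Modules) (hF : Coh.IsCoh F) (m : ℤ) :
    Curv2.IsMRegular k n F m ↔
      ∀ i : ℕ, 1 ≤ i → i ≤ n →
        Subsingleton (Coh.HH (Curv2.bc k (CohB1.ProjSpace n k) k')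
          ((Scheme.Modules.pullback (Curv2.bcFst k (CohB1.ProjSpace n k) k')).obj
            (CohB1.tensorMod F (Twist.twistProjSpace n k (m - i)))) i) := by
  haveI : IsProper (CohB1.ProjSpace n k ↘ Spec (CommRingCat.of k)) := Groth.Agent.InvPow.isProper_toSpec n k
  haveI : IsLocallyNoetherian (CohB1.ProjSpace n k) :=
    LocallyOfFiniteType.isLocallyNoetherian (CohB1.ProjSpace n k ↘ Spec (CommRingCat.of k))
  haveI : CompactSpace (CohB1.ProjSpace n k) :=
    QuasiCompact.compactSpace_of_compactSpace (CohB1.ProjSpace n k ↘ Spec (CommRingCat.of k))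
  haveI : (CohB1.ProjSpace n k).IsSeparated := ⟨by
    rw [← terminal.comp_from (CohB1.ProjSpace n k ↘ Spec (CommRingCat.of k))]
    infer_instance⟩
  refine forall_congr' fun i => forall_congr' fun _ => forall_congr' fun _ => ?_
  haveI : (CohB1.tensorMod F (Twist.twistProjSpace n k (m - i))).IsQuasicoherent :=
    (Groth.Agent.HilbPoly.isCoh_tensorMod hF (Groth.Agent.ProjTwist.isInvertible_twist (by
      simpa using Groth.Agent.ProjTwist.hasUnit_of_cover (Groth.Agent.ProjLinear.exists_degree_one (k := k) (n := n)) (m - i)))).1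
  have hpb : IsPullback (Curv2.bcFst k (CohB1.ProjSpace n k) k') (Curv2.bc k (CohB1.ProjSpace n k) k' ↘ Spec (CommRingCat.of k'))
      (CohB1.ProjSpace n k ↘ Spec (CommRingCat.of k)) (Spec.map (CommRingCat.ofHom (algebraMap k k'))) :=
    IsPullback.of_hasPullback _ _
  obtain ⟨e⟩ := Groth.Agent.FlatBC.nonempty_baseChange_HH k k' (CohB1.ProjSpace n k) (Curv2.bc k (CohB1.ProjSpace n k) k')
    (Curv2.bcFst k (CohB1.ProjSpace n k) k') hpb (CohB1.tensorMod F (Twist.twistProjSpace n k (m - i))) i
  refine ⟨fun h => e.symm.injective.subsingleton, fun h => ?_⟩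
  haveI : Subsingleton (TensorProduct k k' (Coh.HH (CohB1.ProjSpace n k) (CohB1.tensorMod F (Twist.twistProjSpace n k (m - i))) i)) :=
    e.injective.subsingleton
  exact (Module.FaithfullyFlat.subsingleton_tensorProduct_iff_right k k').mp inferInstance
end Groth.Agent.S7690
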