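import Groth.Statements.S8260
import Groth.Agent.RelProjBasic.Proper

set_option autoImplicit false
set_option linter.style.haveILetI false
set_option backward.isDefEq.respectTransparency false
universe u
open CategoryTheory CategoryTheory.Limits AlgebraicGeometry Opposite TopologicalSpace
open scoped HomogeneousIdeal
open EGA2 Groth.Agent

namespace Groth.Agent.S8260

/-- If the quasi-coherent positively graded O_Y-algebra 𝒮 is of finite type (over every affine open U of
Y the ring 𝒮(U) is a finitely generated O_Y(U)-algebra), then its relative homogeneous spectrum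
Proj(𝒮) is of finite type over Y. -/
theorem result {Y P : Scheme.{u}} (𝒮 : RelProj.QCGrAlg Y)
    (hft : ∀ (U : Y.Opens) (hU : IsAffineOpen U), (𝒮.str.app (op U)).hom.FiniteType)
    (p : P ⟶ Y)
    (chart : ∀ (U : Y.Opens) (hU : IsAffineOpen U), (((p ⁻¹ᵁ U : P.Opens) : Scheme.{u}) ≅ Proj (𝒮.deg U hU)))
    (hP : RelProj.IsRelProj 𝒮 p chart) : LocallyOfFiniteType p ∧ QuasiCompact p := by
  have key : ∀ (U : Y.Opens) (hU : IsAffineOpen U),
      LocallyOfFiniteType (Proj.toSpecZero (𝒮.deg U hU) ≫ Spec.map (𝒮.strZero U hU)) ∧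
      QuasiCompact (Proj.toSpecZero (𝒮.deg U hU) ≫ Spec.map (𝒮.strZero U hU)) := fun U hU => by
    have h1 : (algebraMap (𝒮.deg U hU 0) _).comp (𝒮.strZero U hU).hom = (𝒮.str.app (op U)).hom := rfl
    have h2 := hft U hU
    haveI : Algebra.FiniteType (𝒮.deg U hU 0) (𝒮.presheaf.obj (op U)) :=
      RingHom.finiteType_algebraMap.mp (RingHom.FiniteType.of_comp_finiteType (h1 ▸ h2))
    have h0 : (GradedRing.projZeroRingHom' (𝒮.deg U hU)).comp (𝒮.str.app (op U)).hom = (𝒮.strZero U hU).hom := by
      rw [← h1]; exact RingHom.ext fun r => GradedRing.projZeroRingHom'_apply_coe _ _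
    have h3 : (𝒮.strZero U hU).hom.FiniteType :=
      h0 ▸ h2.comp_surjective (GradedRing.projZeroRingHom'_surjective _)
    haveI : LocallyOfFiniteType (Spec.map (𝒮.strZero U hU)) :=
      (HasRingHomProperty.Spec_iff (P := @LocallyOfFiniteType)).mpr h3
    exact ⟨inferInstance, inferInstance⟩
  exact ⟨RelProjBasic.of_isRelProj_charts @LocallyOfFiniteType hP fun U hU => (key U hU).1,
    RelProjBasic.of_isRelProj_charts @QuasiCompact hP fun U hU => (key U hU).2⟩
end Groth.Agent.S8260
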