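import Groth.Statements.S8264
import Groth.Agent.RelProjBasic.ProjMap
import Mathlib.AlgebraicGeometry.Properties

set_option autoImplicit false
universe u
open CategoryTheory CategoryTheory.Limits AlgebraicGeometry Opposite TopologicalSpace
open scoped HomogeneousIdeal
open EGA2

namespace Groth.Agent.S8264

/-- Let Y be an integral scheme and 𝒮 a quasi-coherent positively graded O_Y-algebra with 𝒮_0 = O_Y
which is integral, stated here affine-locally: over every nonempty affine open U the ring 𝒮(U) is an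
integral domain whose irrelevant ideal is nonzero (for Y integral this is equivalent to the
stalkwise condition of the published text: every stalk 𝒮_y an integral domain with (𝒮_y)_+ ≠ 0).
Then Proj(𝒮) is integral and its structure morphism to Y is dominant. -/
theorem result {Y P : Scheme.{u}} [IsIntegral Y] (𝒮 : RelProj.QCGrAlg Y)
    (h0 : ∀ (U : Y.Opens) (hU : IsAffineOpen U), Function.Bijective (𝒮.strZero U hU).hom)
    (hint : ∀ (U : Y.Opens) (hU : IsAffineOpen U), (U : Set Y).Nonempty →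
      IsDomain (𝒮.presheaf.obj (op U)) ∧ ((𝒮.deg U hU)₊).toIdeal ≠ ⊥)
    (p : P ⟶ Y)
    (chart : ∀ (U : Y.Opens) (hU : IsAffineOpen U), (((p ⁻¹ᵁ U : P.Opens) : Scheme.{u}) ≅ Proj (𝒮.deg U hU)))
    (hP : RelProj.IsRelProj 𝒮 p chart) : IsIntegral P ∧ DenseRange p.base := by
  classical
  have hbot : ∀ (U : Y.Opens) (hU : IsAffineOpen U), (U : Set Y).Nonempty →
      ∃ η : Proj (𝒮.deg U hU), ∀ x : Proj (𝒮.deg U hU), η ⤳ x := by
    intro U hU hne
    obtain ⟨hd, hir⟩ := hint U hU hne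
    refine ⟨⟨⊥, Ideal.isPrime_bot, fun h => hir (le_bot_iff.mp fun a ha => h ha)⟩, fun x => ?_⟩
    exact specializes_iff_mem_closure.mpr ((ProjectiveSpectrum.le_iff_mem_closure _ _ _).mp ((ProjectiveSpectrum.as_ideal_le_as_ideal _ _ _).mp bot_le))
  have hred : ∀ (U : Y.Opens) (hU : IsAffineOpen U), IsReduced (Proj (𝒮.deg U hU)) := by
    intro U hU
    rcases (U : Set Y).eq_empty_or_nonempty with hU0 | hne
    · have : IsEmpty (Proj (𝒮.deg U hU)) := ⟨fun x => Set.notMem_empty (p.base ((p ⁻¹ᵁ U).ι ((chart U hU).inv x)))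
        (hU0 ▸ ((chart U hU).inv x).2)⟩
      have : ∀ x : Proj (𝒮.deg U hU), IsReduced (Proj (𝒮.deg U hU)) := fun x => (IsEmpty.false x).elim
      exact @isReduced_of_isReduced_stalk _ fun x => (IsEmpty.false x).elim
    obtain ⟨hd, -⟩ := hint U hU hne
    have : ∀ i, IsReduced ((Proj.affineOpenCover (𝒮.deg U hU)).openCover.X i) := fun i => by
      rcases eq_or_ne (i.2 : 𝒮.presheaf.obj (op U)) 0 with h | h
      · have : Subsingleton (HomogeneousLocalization.Away (𝒮.deg U hU) (i.2 : 𝒮.presheaf.obj (op U))) :=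
          HomogeneousLocalization.subsingleton _ ⟨1, by simp [h]⟩
        have : _root_.IsReduced (CommRingCat.of (HomogeneousLocalization.Away (𝒮.deg U hU) (i.2 : 𝒮.presheaf.obj (op U)))) := inferInstance
        exact (inferInstanceAs (IsReduced (Spec (CommRingCat.of (HomogeneousLocalization.Away (𝒮.deg U hU) (i.2 : 𝒮.presheaf.obj (op U)))))))
      · have hloc : IsDomain (Localization.Away (i.2 : 𝒮.presheaf.obj (op U))) :=
          IsLocalization.isDomain_localization (powers_le_nonZeroDivisors_of_noZeroDivisors h)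
        have : _root_.IsReduced (CommRingCat.of (HomogeneousLocalization.Away (𝒮.deg U hU) (i.2 : 𝒮.presheaf.obj (op U)))) :=
          isReduced_of_injective (algebraMap (HomogeneousLocalization.Away (𝒮.deg U hU) (i.2 : 𝒮.presheaf.obj (op U))) (Localization.Away (i.2 : 𝒮.presheaf.obj (op U))))
            (HomogeneousLocalization.val_injective _)
        exact (inferInstanceAs (IsReduced (Spec (CommRingCat.of (HomogeneousLocalization.Away (𝒮.deg U hU) (i.2 : 𝒮.presheaf.obj (op U)))))))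
    exact IsReduced.of_openCover _ (Proj.affineOpenCover (𝒮.deg U hU)).openCover
  have hcov : IsOpenCover fun U : Y.affineOpens => p ⁻¹ᵁ (U : Y.Opens) :=
    (IsOpenCover.mk (iSup_affineOpens_eq_top Y)).comap p.base.hom
  have hPred : IsReduced P := by
    have : ∀ U, IsReduced ((P.openCoverOfIsOpenCover _ hcov).X U) := fun U =>
      have := hred U.1 U.2
      isReduced_of_isOpenImmersion (chart U.1 U.2).hom
    exact IsReduced.of_openCover _ (P.openCoverOfIsOpenCover _ hcov)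
  -- a point over every nonempty affine open, generic in its preimage
  have hgen : ∀ (U : Y.Opens) (_ : IsAffineOpen U), (U : Set Y).Nonempty →
      ∃ η : P, η ∈ p ⁻¹ᵁ U ∧ ∀ x, x ∈ p ⁻¹ᵁ U → η ⤳ x := by
    intro U hU hne
    obtain ⟨η, hη⟩ := hbot U hU hne
    refine ⟨(p ⁻¹ᵁ U).ι ((chart U hU).inv η), ((chart U hU).inv η).2, fun x hx => ?_⟩
    have h := ((hη ((chart U hU).hom ⟨x, hx⟩)).map (chart U hU).inv.continuous).map (p ⁻¹ᵁ U).ι.continuous
    rwa [← Scheme.Hom.comp_apply (chart U hU).hom, Iso.hom_inv_id] at h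
  have hmeet : ∀ (O : P.Opens) (x : P), x ∈ O → ∀ (W : Y.Opens) (hW : IsAffineOpen W), (W : Set Y).Nonempty →
      ∀ η, η ∈ p ⁻¹ᵁ W → (∀ x, x ∈ p ⁻¹ᵁ W → η ⤳ x) → η ∈ O := by
    intro O x hx W hW hWne η hηW hη
    obtain ⟨U, hU, hxU, -⟩ := exists_isAffineOpen_mem_and_subset (x := p.base x) (U := ⊤) (Opens.mem_top _)
    obtain ⟨η', hη'U, hη'⟩ := hgen U hU ⟨_, hxU⟩
    have hη'O : η' ∈ O := (hη' x hxU).mem_open O.isOpen hx
    obtain ⟨y, hy⟩ := nonempty_preirreducible_inter U.isOpen W.isOpen ⟨_, hxU⟩ hWne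
    obtain ⟨V, hV, hyV, hVle⟩ := exists_isAffineOpen_mem_and_subset (x := y) (U := U ⊓ W) hy
    obtain ⟨z, hzV, -⟩ := hgen V hV ⟨y, hyV⟩
    have hz : z ∈ p ⁻¹ᵁ W := (hVle hzV).2
    have hη'W : η' ∈ p ⁻¹ᵁ W := (hη' z (hVle hzV).1).mem_open (p ⁻¹ᵁ W).isOpen hz
    exact (hη η' hη'W).mem_open O.isOpen hη'O
  obtain ⟨y₀⟩ := (inferInstance : Nonempty Y)
  obtain ⟨U₀, hU₀, hy₀, -⟩ := exists_isAffineOpen_mem_and_subset (x := y₀) (U := ⊤) (Opens.mem_top _)
  obtain ⟨η₀, hη₀U, hη₀⟩ := hgen U₀ hU₀ ⟨y₀, hy₀⟩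
  have : IrreducibleSpace P :=
    { toPreirreducibleSpace := ⟨fun O₁ O₂ h₁ h₂ ⟨x₁, _, hx₁⟩ ⟨x₂, _, hx₂⟩ =>
        ⟨η₀, trivial, hmeet ⟨O₁, h₁⟩ x₁ hx₁ U₀ hU₀ ⟨y₀, hy₀⟩ η₀ hη₀U hη₀,
          hmeet ⟨O₂, h₂⟩ x₂ hx₂ U₀ hU₀ ⟨y₀, hy₀⟩ η₀ hη₀U hη₀⟩⟩
      toNonempty := ⟨η₀⟩ }
  refine ⟨(isIntegral_iff_irreducibleSpace_and_isReduced _).mpr ⟨this, hPred⟩, dense_iff_inter_open.mpr fun O hO ⟨y, hy⟩ => ?_⟩
  obtain ⟨V, hV, hyV, hVle⟩ := exists_isAffineOpen_mem_and_subset (x := y) (U := ⟨O, hO⟩) hy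
  obtain ⟨z, hzV, -⟩ := hgen V hV ⟨y, hyV⟩
  exact ⟨p.base z, hVle hzV, z, rfl⟩

end Groth.Agent.S8264
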