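import Groth.Statements.S8265
import Mathlib.RingTheory.GradedAlgebra.Radical
import Groth.Agent.RelProjBasic.QMapComp

set_option autoImplicit false
universe u
open CategoryTheory CategoryTheory.Limits AlgebraicGeometry Opposite TopologicalSpace
open scoped HomogeneousIdeal
open EGA2

namespace Groth.Agent.S8265

/-- Let Y be an integral scheme and 𝒮 a quasi-coherent positively graded O_Y-algebra with 𝒮_0 = O_Y
which is essentially reduced (affine-locally, every nilpotent element of the irrelevant ideal of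
𝒮(U) vanishes). If Proj(𝒮) is integral and dominant over Y, then 𝒮 is integral: over every nonempty
affine open U, 𝒮(U) is an integral domain with nonzero irrelevant ideal (for Y integral, the
affine-local form of the stalkwise condition of the text). -/
theorem result {Y P : Scheme.{u}} [IsIntegral Y] (𝒮 : RelProj.QCGrAlg Y)
    (h0 : ∀ (U : Y.Opens) (hU : IsAffineOpen U), Function.Bijective (𝒮.strZero U hU).hom)
    (hred : ∀ (U : Y.Opens) (hU : IsAffineOpen U) (x : 𝒮.presheaf.obj (op U)),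
      x ∈ (𝒮.deg U hU)₊ → IsNilpotent x → x = 0)
    (p : P ⟶ Y)
    (chart : ∀ (U : Y.Opens) (hU : IsAffineOpen U), (((p ⁻¹ᵁ U : P.Opens) : Scheme.{u}) ≅ Proj (𝒮.deg U hU)))
    (hP : RelProj.IsRelProj 𝒮 p chart) [IsIntegral P] (hdom : DenseRange p.base)
    (U : Y.Opens) (hU : IsAffineOpen U) (hne : (U : Set Y).Nonempty) :
    IsDomain (𝒮.presheaf.obj (op U)) ∧ ((𝒮.deg U hU)₊).toIdeal ≠ ⊥ := by
  classical
  have hRdom : IsDomain Γ(Y, U) := by
    have : Nonempty (U : Y.Opens).toScheme := hne.to_subtype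
    exact IsIntegral.component_integral U
  have hinj : ∀ a, (𝒮.str.app (op U)).hom a = 0 → a = 0 := fun a ha =>
    (h0 U hU).1 (Subtype.ext (ha.trans (map_zero (𝒮.str.app (op U)).hom).symm))
  have hnil : ∀ {n : ℕ} {a : 𝒮.presheaf.obj (op U)}, 0 < n → a ∈ 𝒮.deg U hU n → a ≠ 0 →
      ∃ y : Proj (𝒮.deg U hU), a ∉ y.asHomogeneousIdeal := fun hn ha h =>
    Groth.Agent.RelProjBasic.exists_point_of_not_isNilpotent hn ha
      fun hni => h (hred U hU _ (HomogeneousIdeal.mem_irrelevant_of_mem _ hn ha) hni)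
  have hmeet : ∀ {O O' : P.Opens}, (O : Set P).Nonempty → (O' : Set P).Nonempty → ((O : Set P) ∩ (O' : Set P)).Nonempty :=
    fun {O O'} h h' => nonempty_preirreducible_inter O.isOpen O'.isOpen h h'
  have hpre : ∀ (O : Y.Opens), (O : Set Y).Nonempty → ((p ⁻¹ᵁ O : P.Opens) : Set P).Nonempty := fun O hO => by
    obtain ⟨_, hy, x, rfl⟩ := hdom.inter_open_nonempty O O.isOpen hO
    exact ⟨x, hy⟩
  let emb := RelProj.emb p chart U hU
  have hpos : ∀ {m n : ℕ} {a b : 𝒮.presheaf.obj (op U)}, 0 < m → 0 < n → a ∈ 𝒮.deg U hU m → b ∈ 𝒮.deg U hU n →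
      a * b = 0 → a = 0 ∨ b = 0 := by
    intro m n a b hm hn ha hb hab
    by_contra hc
    push Not at hc
    obtain ⟨y, hy⟩ := hnil hm ha hc.1
    obtain ⟨y', hy'⟩ := hnil hn hb hc.2
    obtain ⟨_, ⟨w, hw, rfl⟩, w', hw', e⟩ := hmeet (O := emb ''ᵁ Proj.basicOpen (𝒮.deg U hU) a)
      (O' := emb ''ᵁ Proj.basicOpen (𝒮.deg U hU) b)
      ⟨_, y, (ProjectiveSpectrum.mem_basicOpen _ _ _).mpr hy, rfl⟩
      ⟨_, y', (ProjectiveSpectrum.mem_basicOpen _ _ _).mpr hy', rfl⟩
    obtain rfl := emb.isOpenEmbedding.injective e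
    have hw1 := (ProjectiveSpectrum.mem_basicOpen _ _ _).mp hw
    have hw2 := (ProjectiveSpectrum.mem_basicOpen _ _ _).mp hw'
    exact (w'.isPrime.mem_or_mem (show a * b ∈ w'.asHomogeneousIdeal.toIdeal from hab ▸ zero_mem _)).elim hw1 hw2
  have hzero : ∀ {n : ℕ} {a b : 𝒮.presheaf.obj (op U)}, a ∈ 𝒮.deg U hU 0 → b ∈ 𝒮.deg U hU n → a * b = 0 → a = 0 ∨ b = 0 := by
    intro n a b ha hb hab
    obtain ⟨r, hr⟩ := (h0 U hU).2 ⟨a, ha⟩
    have hr' : (𝒮.str.app (op U)).hom r = a := congrArg Subtype.val hr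
    rcases Nat.eq_zero_or_pos n with rfl | hn
    · obtain ⟨r₂, hr₂⟩ := (h0 U hU).2 ⟨b, hb⟩
      have hr₂' : (𝒮.str.app (op U)).hom r₂ = b := congrArg Subtype.val hr₂
      subst hr' hr₂'
      rcases mul_eq_zero.mp (hinj (r * r₂) (by rw [map_mul]; exact hab)) with h | h
      · exact Or.inl (by rw [h, map_zero])
      · exact Or.inr (by rw [h, map_zero])
    by_contra hc
    push Not at hc
    have hrne : r ≠ 0 := fun h => hc.1 (by rw [← hr', h, map_zero])
    have hDne : ((Y.basicOpen r : Y.Opens) : Set Y).Nonempty := by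
      rw [Set.nonempty_iff_ne_empty]
      exact fun h => hrne (basicOpen_eq_bot_iff r |>.mp (Opens.ext h))
    obtain ⟨y, hy⟩ := hnil hn hb hc.2
    obtain ⟨_, hxr, w, hw, rfl⟩ := hmeet (O := p ⁻¹ᵁ Y.basicOpen r) (O' := emb ''ᵁ Proj.basicOpen (𝒮.deg U hU) b)
      (hpre _ hDne) ⟨_, y, (ProjectiveSpectrum.mem_basicOpen _ _ _).mpr hy, rfl⟩
    obtain ⟨w', hw'⟩ := Groth.Agent.RelProjBasic.exists_emb_eq (chart := chart) _ (hU.basicOpen r) _ hxr
    obtain rfl : Proj.map _ (𝒮.irrelevant_le_map U hU r) w' = w :=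
      emb.isOpenEmbedding.injective ((congrArg (fun g => g.base w') (Groth.Agent.RelProjBasic.map_res_emb hP U hU r)).trans hw')
    refine (ProjectiveSpectrum.mem_basicOpen _ _ _).mp hw ?_
    show 𝒮.res hU (hU.basicOpen r) (Y.basicOpen_le r) b ∈ w'.asHomogeneousIdeal.toIdeal
    have hu : IsUnit (𝒮.res hU (hU.basicOpen r) (Y.basicOpen_le r) a) := by
      rw [← hr']
      let _ := (𝒮.presheaf.map (homOfLE (Y.basicOpen_le r)).op).hom.toAlgebra
      have : IsLocalization.Away ((𝒮.str.app (op U)).hom r) (𝒮.presheaf.obj (op (Y.basicOpen r))) := 𝒮.isQC U hU r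
      exact IsLocalization.Away.algebraMap_isUnit ((𝒮.str.app (op U)).hom r)
    have h1 := congrArg (𝒮.res hU (hU.basicOpen r) (Y.basicOpen_le r)) hab
    rw [map_mul, map_zero, hu.mul_right_eq_zero] at h1
    rw [h1]
    exact zero_mem _
  have hone : (1 : 𝒮.presheaf.obj (op U)) ≠ 0 := fun h =>
    one_ne_zero (α := Γ(Y, U)) (hinj 1 (by rw [map_one]; exact h))
  have hne' : ((𝒮.deg U hU)₊).toIdeal ≠ ⊥ := by
    obtain ⟨x, hx⟩ := hpre U hne
    obtain ⟨y, -⟩ := Groth.Agent.RelProjBasic.exists_emb_eq (chart := chart) U hU x hx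
    intro h
    exact y.not_irrelevant_le (show ((𝒮.deg U hU)₊).toIdeal ≤ _ from h ▸ bot_le)
  refine ⟨?_, hne'⟩
  have hprime : (⊥ : Ideal (𝒮.presheaf.obj (op U))).IsPrime := by
    refine Ideal.IsHomogeneous.isPrime_of_homogeneous_mem_or_mem (Ideal.IsHomogeneous.bot (𝒮.deg U hU))
      (fun h => hone ((Ideal.mem_bot).mp (h ▸ Submodule.mem_top))) ?_
    rintro a b ⟨m, ha⟩ ⟨n, hb⟩ hab
    simp only [Ideal.mem_bot] at hab ⊢
    rcases Nat.eq_zero_or_pos m with rfl | hm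
    · exact hzero ha hb hab
    rcases Nat.eq_zero_or_pos n with rfl | hn
    · exact (hzero hb ha (by rwa [mul_comm])).symm
    exact hpos hm hn ha hb hab
  have : Nontrivial (𝒮.presheaf.obj (op U)) := ⟨⟨1, 0, hone⟩⟩
  have : NoZeroDivisors (𝒮.presheaf.obj (op U)) :=
    ⟨fun {a b} hab => (hprime.mem_or_mem (show a * b ∈ (⊥ : Ideal _) from Ideal.mem_bot.mpr hab)).imp Ideal.mem_bot.mp Ideal.mem_bot.mp⟩
  exact NoZeroDivisors.to_isDomain _


end Groth.Agent.S8265
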