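import Groth.Statements.S8266
import Mathlib
-- import your own Groth.Agent.* helpers here

set_option autoImplicit false
universe u
open CategoryTheory CategoryTheory.Limits AlgebraicGeometry Opposite TopologicalSpace
open scoped HomogeneousIdeal
open EGA2

namespace Groth.Agent.S8266

section Aux
theorem isReduced_proj {A σ : Type u} [CommRing A] [SetLike σ A] [AddSubgroupClass σ A] (𝒜 : ℕ → σ) [GradedRing 𝒜]
    (hred : ∀ f ∈ (HomogeneousIdeal.irrelevant 𝒜).toIdeal, IsNilpotent f → f = 0) :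
    AlgebraicGeometry.IsReduced (Proj 𝒜) := by
  classical
  have key : ∀ (d : ℕ) (f : A), 0 < d → f ∈ 𝒜 d → _root_.IsReduced (HomogeneousLocalization.Away 𝒜 f) := by
    intro d f hd hf
    refine ⟨fun z hz => ?_⟩
    obtain ⟨k, a, ha, rfl⟩ := HomogeneousLocalization.Away.mk_surjective 𝒜 hf z
    obtain ⟨n, hn⟩ := hz
    have hn' := congr_arg HomogeneousLocalization.val hn
    rw [HomogeneousLocalization.val_pow, HomogeneousLocalization.Away.val_mk, HomogeneousLocalization.val_zero,
      Localization.mk_pow, Localization.mk_eq_mk', IsLocalization.mk'_eq_zero_iff] at hn'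
    obtain ⟨⟨_, N, rfl⟩, hN⟩ := hn'
    have h0 : f * a = 0 := by
      refine hred _ (Ideal.mul_mem_right _ _ (HomogeneousIdeal.mem_irrelevant_of_mem 𝒜 hd hf)) ⟨N + n, ?_⟩
      calc (f * a) ^ (N + n) = (f ^ n * a ^ N) * (f ^ N * a ^ n) := by ring
        _ = 0 := by rw [hN, mul_zero]
    apply HomogeneousLocalization.val_injective
    rw [HomogeneousLocalization.Away.val_mk, HomogeneousLocalization.val_zero, Localization.mk_eq_mk',
      IsLocalization.mk'_eq_zero_iff]
    exact ⟨⟨f, Submonoid.mem_powers f⟩, h0⟩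
  have : ∀ i, IsReduced ((Proj.affineOpenCover 𝒜).openCover.X i) := fun i => by
    have := key i.1 i.2 i.1.2 i.2.2
    exact inferInstanceAs (IsReduced (Spec (CommRingCat.of (HomogeneousLocalization.Away 𝒜 (i.2 : A)))))
  exact IsReduced.of_openCover _ (Proj.affineOpenCover 𝒜).openCover


end Aux

/-- If the quasi-coherent positively graded O_Y-algebra 𝒮 is essentially reduced (affine-locally, no
nonzero nilpotent element in the irrelevant ideal), then Proj(𝒮) is reduced. -/
theorem result {Y P : Scheme.{u}} (𝒮 : RelProj.QCGrAlg Y)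
    (hred : ∀ (U : Y.Opens) (hU : IsAffineOpen U) (x : 𝒮.presheaf.obj (op U)),
      x ∈ (𝒮.deg U hU)₊ → IsNilpotent x → x = 0)
    (p : P ⟶ Y)
    (chart : ∀ (U : Y.Opens) (hU : IsAffineOpen U), (((p ⁻¹ᵁ U : P.Opens) : Scheme.{u}) ≅ Proj (𝒮.deg U hU)))
    (hP : RelProj.IsRelProj 𝒮 p chart) : IsReduced P := by
  let 𝒰 : P.OpenCover := P.openCoverOfIsOpenCover (fun U : Y.affineOpens => p ⁻¹ᵁ (U : Y.Opens))
    (show ⨆ U : Y.affineOpens, p ⁻¹ᵁ (U : Y.Opens) = ⊤ by
      rw [← Scheme.Hom.preimage_iSup, iSup_affineOpens_eq_top, Scheme.Hom.preimage_top])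
  have : ∀ U : Y.affineOpens, IsReduced (𝒰.X U) := fun U => by
    have := isReduced_proj (𝒮.deg U.1 U.2) (fun x hx => hred U.1 U.2 x hx)
    exact isReduced_of_isOpenImmersion (chart U.1 U.2).hom
  exact IsReduced.of_openCover P 𝒰

end Groth.Agent.S8266
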