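import Groth.Statements.S8267
import Groth.Agent.SymAlgExist.Spec
import Groth.Agent.QCohLib.Coherent

set_option autoImplicit false
universe u
open CategoryTheory CategoryTheory.Limits AlgebraicGeometry Opposite TopologicalSpace
open EGA2

namespace Groth.Agent.S8267

/-- Let E be a quasi-coherent O_S-module of finite type and A (through j : E → A) its symmetric algebra.
Then the vector bundle V(E) = Spec(A) is of finite type over S, i.e. its (affine) structure morphism
is locally of finite type. -/
theorem result {S : Scheme.{u}} (E : S.Modules) (hE : Coh.IsCoh E)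
    (A : RelSpec.QCAlg S) (j : E ⟶ A.toModule) (hA : RelSpec.IsSymAlg E A j) :
    LocallyOfFiniteType A.π := by
  have : E.IsQuasicoherent := hE.1
  refine Groth.Agent.SymAlgExist.π_of_charts A (P := @LocallyOfFiniteType) fun U hU => ?_
  rw [HasRingHomProperty.Spec_iff (P := @LocallyOfFiniteType)]
  have := (Groth.Agent.QCohLib.isCoh_iff.mp hE).2 ⟨U, hU⟩
  obtain ⟨s, hs⟩ := this.fg_top
  let _ := (A.str.app (op U)).hom.toAlgebra
  classical
  show Algebra.FiniteType Γ(S, U) (A.presheaf.obj (op U))
  refine ⟨⟨s.image (fun m => (j.app U m : A.presheaf.obj (op U))), eq_top_iff.mpr fun x _ => ?_⟩⟩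
  refine Groth.Agent.SymAlgExist.sym_induction hA hU (P := fun x => x ∈ Algebra.adjoin Γ(S, U)
      ((s.image (fun m => (j.app U m : A.presheaf.obj (op U))) : Finset (A.presheaf.obj (op U))) : Set (A.presheaf.obj (op U))))
    (fun a => Subalgebra.algebraMap_mem _ a) (fun m => ?_) (fun _ _ => add_mem) (fun _ _ => mul_mem) x
  have hm : m ∈ Submodule.span Γ(S, U) (s : Set Γ(E, U)) := hs ▸ Submodule.mem_top
  induction hm using Submodule.span_induction with
  | mem m hm => exact Algebra.subset_adjoin (Finset.mem_coe.mpr (Finset.mem_image_of_mem _ hm))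
  | zero => exact (map_zero (j.app U).hom).symm ▸ zero_mem _
  | add a b _ _ ha hb => exact (map_add (j.app U).hom a b).symm ▸ add_mem ha hb
  | smul r a _ ha => exact (Scheme.Modules.Hom.app_smul j r a).symm ▸ mul_mem (Subalgebra.algebraMap_mem _ r) ha


end Groth.Agent.S8267
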