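import Groth.Statements.S8268
import Groth.Agent.SymAlgExist.Spec
import Groth.Agent.QCohLib.Closure

set_option autoImplicit false
universe u
open CategoryTheory CategoryTheory.Limits AlgebraicGeometry Opposite TopologicalSpace
open EGA2

namespace Groth.Agent.S8268

/-- A surjective homomorphism E → F of quasi-coherent O_S-modules induces a closed immersion V(F) → V(E)
of the associated vector bundles (relative spectra of the symmetric algebras; the algebra map A → B
is the one extending E → F). -/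
theorem result {S : Scheme.{u}} (E F : S.Modules) (hE : Coh.IsQCoh E)
    (hF : Coh.IsQCoh F) (u : E ⟶ F) [Epi u]
    (A B : RelSpec.QCAlg S) (j : E ⟶ A.toModule) (k : F ⟶ B.toModule)
    (hA : RelSpec.IsSymAlg E A j) (hB : RelSpec.IsSymAlg F B k)
    (ψ : A ⟶ B) (hψ : j ≫ RelSpec.QCAlg.Hom.toModuleMap ψ = u ≫ k) :
    IsClosedImmersion (RelSpec.QCAlg.specMap ψ) := by
  have : E.IsQuasicoherent := hE
  have : F.IsQuasicoherent := hF
  refine Groth.Agent.SymAlgExist.specMap_of_charts ψ (P := @IsClosedImmersion) fun U hU => ?_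
  refine IsClosedImmersion.spec_of_surjective _ fun x => ?_
  refine Groth.Agent.SymAlgExist.sym_induction hB hU (P := fun x => ∃ a, (ψ.hom.app (op U)).hom a = x)
    (fun a => ⟨(A.str.app (op U)).hom a, CategoryTheory.congr_fun (NatTrans.congr_app ψ.comm (op U)) a⟩)
    (fun m => ?_) (fun x y hx hy => ?_) (fun x y hx hy => ?_) x
  · obtain ⟨e, rfl⟩ := Groth.Agent.QCohLib.app_surjective_of_epi u hU m
    exact ⟨j.app U e, congrArg (fun f : E ⟶ B.toModule => f.app U e) hψ⟩
  · obtain ⟨a, rfl⟩ := hx; obtain ⟨b, rfl⟩ := hy; exact ⟨a + b, map_add _ a b⟩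
  · obtain ⟨a, rfl⟩ := hx; obtain ⟨b, rfl⟩ := hy; exact ⟨a * b, map_mul _ a b⟩


end Groth.Agent.S8268
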