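import Groth.Statements.S8271
import Groth.Agent.SymAlgExist.Spec
import Groth.Agent.QCohLib.Biprod

set_option autoImplicit false
universe u
open CategoryTheory CategoryTheory.Limits AlgebraicGeometry Opposite TopologicalSpace
open EGA2

namespace Groth.Agent.S8271

/-- For quasi-coherent O_S-modules E and F, the vector bundle V(E ⊕ F) is identified with V(E) ×_S V(F):
with A_E, A_F, A the symmetric algebras of E, F, E ⊕ F and ψ_E : A_E → A, ψ_F : A_F → A the algebra
maps extending the inclusions of the two summands, the square formed by Spec(A) → Spec(A_E), Spec(A)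
→ Spec(A_F) and the two structure morphisms to S is a pullback square. -/
theorem result {S : Scheme.{u}} (E F : S.Modules) (hE : Coh.IsQCoh E) (hF : Coh.IsQCoh F)
    (AE AF A : RelSpec.QCAlg S) (jE : E ⟶ AE.toModule) (jF : F ⟶ AF.toModule) (j : E ⊞ F ⟶ A.toModule)
    (hAE : RelSpec.IsSymAlg E AE jE) (hAF : RelSpec.IsSymAlg F AF jF) (hA : RelSpec.IsSymAlg (E ⊞ F) A j)
    (ψE : AE ⟶ A) (ψF : AF ⟶ A)
    (hψE : jE ≫ RelSpec.QCAlg.Hom.toModuleMap ψE = biprod.inl ≫ j)
    (hψF : jF ≫ RelSpec.QCAlg.Hom.toModuleMap ψF = biprod.inr ≫ j) :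
    IsPullback (RelSpec.QCAlg.specMap ψE) (RelSpec.QCAlg.specMap ψF) AE.π AF.π := by
  have : E.IsQuasicoherent := hE
  have : F.IsQuasicoherent := hF
  have : (E ⊞ F).IsQuasicoherent := Groth.Agent.QCohLib.isQuasicoherent_biprod
  have hEF : ∀ (U : S.Opens) (m : Γ(E ⊞ F, U)),
      m = (biprod.inl : E ⟶ E ⊞ F).app U ((biprod.fst : E ⊞ F ⟶ E).app U m) +
        (biprod.inr : F ⟶ E ⊞ F).app U ((biprod.snd : E ⊞ F ⟶ F).app U m) := fun U m =>
    (congrArg (fun φ : E ⊞ F ⟶ E ⊞ F => φ.app U m) (biprod.total (X := E) (Y := F))).symm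
  have hpo : ∀ (U : S.Opens), IsAffineOpen U → IsPushout (AF.str.app (op U)) (AE.str.app (op U))
      (ψF.hom.app (op U)) (ψE.hom.app (op U)) := by
    intro U hU
    obtain ⟨e, he, he0, he1⟩ := Groth.Agent.SymAlgExist.exists_affHom hA U hU
    have hcomm : AF.str.app (op U) ≫ ψF.hom.app (op U) = AE.str.app (op U) ≫ ψE.hom.app (op U) :=
      (NatTrans.congr_app ψF.comm (op U)).trans (NatTrans.congr_app ψE.comm (op U)).symm
    have hje : ∀ m, ψE.hom.app (op U) (jE.app U m) = j.app U ((biprod.inl : E ⟶ E ⊞ F).app U m) := fun m =>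
      congrArg (fun φ : E ⟶ A.toModule => φ.app U m) hψE
    have hjf : ∀ m, ψF.hom.app (op U) (jF.app U m) = j.app U ((biprod.inr : F ⟶ E ⊞ F).app U m) := fun m =>
      congrArg (fun φ : F ⟶ A.toModule => φ.app U m) hψF
    have hext : ∀ {R : CommRingCat.{u}} (h h' : A.presheaf.obj (op U) ⟶ R),
        ψF.hom.app (op U) ≫ h = ψF.hom.app (op U) ≫ h' → ψE.hom.app (op U) ≫ h = ψE.hom.app (op U) ≫ h' → h = h' := by
      intro R h h' hf' he'
      ext x
      refine Groth.Agent.SymAlgExist.sym_induction hA hU (P := fun x => h.hom x = h'.hom x) (fun a => ?_) (fun m => ?_)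
        (fun x y hx hy => by rw [map_add, map_add, hx, hy]) (fun x y hx hy => by rw [map_mul, map_mul, hx, hy]) x
      · rw [← NatTrans.congr_app ψE.comm (op U)]
        exact CategoryTheory.congr_fun he' ((AE.str.app (op U)).hom a)
      · have h1 : (j.app U m : A.presheaf.obj (op U)) =
            ψE.hom.app (op U) (jE.app U ((biprod.fst : E ⊞ F ⟶ E).app U m)) +
              ψF.hom.app (op U) (jF.app U ((biprod.snd : E ⊞ F ⟶ F).app U m)) := by
          rw [hje, hjf]
          exact (congrArg (j.app U).hom (hEF U m)).trans (map_add (j.app U).hom _ _)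
        rw [h1, map_add, map_add]
        exact congrArg₂ (· + ·) (CategoryTheory.congr_fun he' _) (CategoryTheory.congr_fun hf' _)
    have hdesc : ∀ {R : CommRingCat.{u}} (g : AF.presheaf.obj (op U) ⟶ R) (f : AE.presheaf.obj (op U) ⟶ R),
        AF.str.app (op U) ≫ g = AE.str.app (op U) ≫ f →
        ∃ h : A.presheaf.obj (op U) ⟶ R, ψF.hom.app (op U) ≫ h = g ∧ ψE.hom.app (op U) ≫ h = f := by
      intro R g f w
      let _ : Algebra Γ(S, U) R := (AE.str.app (op U) ≫ f).hom.toAlgebra
      let φ : Γ(E ⊞ F, U) →ₗ[Γ(S, U)] R :=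
        { toFun := fun m => f.hom (jE.app U ((biprod.fst : E ⊞ F ⟶ E).app U m)) +
            g.hom (jF.app U ((biprod.snd : E ⊞ F ⟶ F).app U m))
          map_add' := fun a b => by
            simp only [map_add]
            refine (congrArg₂ (· + ·) (map_add f.hom _ _) (map_add g.hom _ _)).trans ?_
            abel
          map_smul' := fun r a => by
            rw [RingHom.id_apply, Algebra.smul_def, mul_add]
            refine congrArg₂ (· + ·) ?_ ?_
            · refine (congrArg (fun z => f.hom (jE.app U z)) (Scheme.Modules.Hom.app_smul _ r a)).trans ?_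
              refine (congrArg f.hom (Scheme.Modules.Hom.app_smul jE r _)).trans ?_
              exact map_mul f.hom ((AE.str.app (op U)).hom r) _
            · refine (congrArg (fun z => g.hom (jF.app U z)) (Scheme.Modules.Hom.app_smul _ r a)).trans ?_
              refine (congrArg g.hom (Scheme.Modules.Hom.app_smul jF r _)).trans ?_
              refine (map_mul g.hom ((AF.str.app (op U)).hom r) _).trans ?_
              exact congrArg (· * _) (CategoryTheory.congr_fun w r) }
      let L := SymmetricAlgebra.lift φ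
      refine ⟨CommRingCat.ofHom (L.toRingHom.comp e), ?_, ?_⟩
      · ext x
        refine Groth.Agent.SymAlgExist.sym_induction hAF hU
          (P := fun x => L (e (ψF.hom.app (op U) x)) = g.hom x) (fun a => ?_) (fun m => ?_)
          (fun x y hx hy => by simp only [map_add, hx, hy]) (fun x y hx hy => by simp only [map_mul, hx, hy]) x
        · refine (congrArg (fun z => L (e z)) (CategoryTheory.congr_fun (NatTrans.congr_app ψF.comm (op U)) a)).trans ?_
          rw [he0, AlgHom.commutes]
          exact (CategoryTheory.congr_fun w a).symm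
        · rw [hjf, he1, SymmetricAlgebra.lift_ι_apply]
          show f.hom _ + g.hom _ = g.hom _
          have h1 : (biprod.fst : E ⊞ F ⟶ E).app U ((biprod.inr : F ⟶ E ⊞ F).app U m) = 0 :=
            congrArg (fun φ : F ⟶ E => φ.app U m) (biprod.inr_fst (X := E) (Y := F))
          have h2 : (biprod.snd : E ⊞ F ⟶ F).app U ((biprod.inr : F ⟶ E ⊞ F).app U m) = m :=
            congrArg (fun φ : F ⟶ F => φ.app U m) (biprod.inr_snd (X := E) (Y := F))
          rw [h1, h2, map_zero]
          exact (congrArg (· + g.hom (jF.app U m)) (map_zero f.hom)).trans (zero_add _)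
      · ext x
        refine Groth.Agent.SymAlgExist.sym_induction hAE hU
          (P := fun x => L (e (ψE.hom.app (op U) x)) = f.hom x) (fun a => ?_) (fun m => ?_)
          (fun x y hx hy => by simp only [map_add, hx, hy]) (fun x y hx hy => by simp only [map_mul, hx, hy]) x
        · refine (congrArg (fun z => L (e z)) (CategoryTheory.congr_fun (NatTrans.congr_app ψE.comm (op U)) a)).trans ?_
          rw [he0, AlgHom.commutes]
          rfl
        · rw [hje, he1, SymmetricAlgebra.lift_ι_apply]
          show f.hom _ + g.hom _ = f.hom _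
          have h1 : (biprod.fst : E ⊞ F ⟶ E).app U ((biprod.inl : E ⟶ E ⊞ F).app U m) = m :=
            congrArg (fun φ : E ⟶ E => φ.app U m) (biprod.inl_fst (X := E) (Y := F))
          have h2 : (biprod.snd : E ⊞ F ⟶ F).app U ((biprod.inl : E ⟶ E ⊞ F).app U m) = 0 :=
            congrArg (fun φ : E ⟶ F => φ.app U m) (biprod.inl_snd (X := E) (Y := F))
          rw [h1, h2, map_zero]
          exact (congrArg (f.hom (jE.app U m) + ·) (map_zero g.hom)).trans (add_zero _)
    refine IsPushout.of_isColimit' ⟨hcomm⟩ (PushoutCocone.IsColimit.mk _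
      (fun s => (hdesc s.inl s.inr s.condition).choose) (fun s => (hdesc s.inl s.inr s.condition).choose_spec.1)
      (fun s => (hdesc s.inl s.inr s.condition).choose_spec.2) fun s m h1 h2 => ?_)
    exact hext _ _ (h1.trans (hdesc s.inl s.inr s.condition).choose_spec.1.symm)
      (h2.trans (hdesc s.inl s.inr s.condition).choose_spec.2.symm)
  let 𝒰 : AE.spec.OpenCover :=
    { I₀ := S.affineOpens
      X := fun U => Spec (AE.presheaf.obj (op U.1))
      f := fun U => AE.ι U.1 U.2
      mem₀ := by
        rw [Scheme.presieve₀_mem_precoverage_iff]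
        refine ⟨fun x => ?_, inferInstance⟩
        obtain ⟨U, hU, hxU, -⟩ := exists_isAffineOpen_mem_and_subset (x := AE.π.base x) (U := ⊤) (Opens.mem_top _)
        exact ⟨⟨U, hU⟩, (AE.π_preimage U hU).le hxU⟩ }
  refine Scheme.isPullback_of_openCover _ _ _ _ 𝒰 fun U => ?_
  obtain ⟨U, hU⟩ := U
  have h1 : IsPullback (AF.ι U hU) (Spec.map (AF.str.app (op U))) AF.π hU.fromSpec :=
    (IsOpenImmersion.isPullback _ _ _ _ (AF.ι_π U hU) (by rw [hU.opensRange_fromSpec, AF.π_preimage])).flip
  have h2 : IsPullback (Spec.map (ψF.hom.app (op U))) (Spec.map (ψE.hom.app (op U)))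
      (Spec.map (AF.str.app (op U))) (Spec.map (AE.str.app (op U))) :=
    isPullback_SpecMap_of_isPushout _ _ _ _ (hpo U hU)
  have h4 := Groth.Agent.SymAlgExist.isPullback_ι_specMap ψE U hU
  refine (h2.paste_horiz h1).flip.of_iso h4.isoPullback (Iso.refl _) (Iso.refl _) (Iso.refl _) ?_ ?_ ?_ ?_
  · exact (Category.comp_id _).trans h4.isoPullback_hom_snd.symm
  · rw [Iso.refl_hom, Category.comp_id]
    refine Eq.trans ?_ (h4.isoPullback_hom_fst_assoc (RelSpec.QCAlg.specMap ψF)).symm
    exact (RelSpec.QCAlg.ι_specMap U hU ψF).symm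
  · simp only [Iso.refl_hom, Category.comp_id, Category.id_comp]
    exact (AE.ι_π U hU).symm
  · simp


end Groth.Agent.S8271
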