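import Groth.Statements.S8272
import Mathlib
-- import your own Groth.Agent.* helpers here

set_option autoImplicit false
universe u
open CategoryTheory CategoryTheory.Limits AlgebraicGeometry Opposite TopologicalSpace
open EGA2

namespace Groth.Agent.S8272

section Aux
theorem map_injective_of_eq {X : Scheme.{u}} {U V V' : X.Opens} (e : V ≤ U) (e' : V' ≤ U) (he : V = V')
    (h : Function.Injective (X.presheaf.map (homOfLE e).op)) :
    Function.Injective (X.presheaf.map (homOfLE e').op) := by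
  subst he; exact h

theorem awayMap_injective {σ A : Type u} [CommRing A] [SetLike σ A] [AddSubgroupClass σ A] (𝒜 : ℕ → σ)
    [GradedRing 𝒜] {f g : A} {e : ℕ} (hg : g ∈ 𝒜 e) (hnz : g ∈ nonZeroDivisors A) :
    Function.Injective (HomogeneousLocalization.awayMap 𝒜 (f := f) hg rfl) := by
  rw [injective_iff_map_eq_zero]
  intro a ha
  apply HomogeneousLocalization.val_injective
  rw [HomogeneousLocalization.val_zero]
  have h2 := congrArg HomogeneousLocalization.val ha
  rw [HomogeneousLocalization.val_awayMap, HomogeneousLocalization.val_zero] at h2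
  obtain ⟨⟨x, s⟩, hx⟩ := IsLocalization.surj (Submonoid.powers f) a.val
  obtain ⟨_, n, rfl⟩ := s
  have h3 : algebraMap A (Localization.Away (f * g)) x = 0 := by
    have h4 := congrArg (Localization.awayLift (algebraMap A (Localization.Away (f * g))) f
      (isUnit_of_dvd_unit (map_dvd _ (dvd_mul_right f g)) (IsLocalization.Away.algebraMap_isUnit (f * g)))) hx
    simpa [h2, Localization.awayLift, IsLocalization.Away.lift_eq] using h4.symm
  obtain ⟨⟨_, m, rfl⟩, hm⟩ := (IsLocalization.map_eq_zero_iff (Submonoid.powers (f * g)) _ x).mp h3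
  have h5 : f ^ m * x = 0 := by
    apply (pow_mem hnz m).1
    rw [← mul_assoc, ← mul_pow, mul_comm g f]
    exact hm
  have h6 : algebraMap A (Localization.Away f) x = 0 :=
    (IsLocalization.map_eq_zero_iff (Submonoid.powers f) _ x).mpr ⟨⟨f ^ m, m, rfl⟩, h5⟩
  rw [h6] at hx
  exact (IsLocalization.map_units (Localization.Away f) (⟨f ^ n, n, rfl⟩ : Submonoid.powers f)).mul_left_eq_zero.mp hx

end Aux

/-- Let T be a positively graded ring, Z = Proj T and g ∈ T_d (d > 0) a homogeneous element that is not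
a zero divisor in T. Then Z is the smallest closed subscheme of Z containing the open D_+(g);
equivalently the kernel (ideal sheaf) of the open immersion D_+(g) → Z vanishes. -/
theorem result {R A : Type u} [CommRing R] [CommRing A] [Algebra R A]
    (𝒜 : ℕ → Submodule R A) [GradedAlgebra 𝒜] {d : ℕ} (hd : 0 < d) (g : A) (hg : g ∈ 𝒜 d)
    (hnz : g ∈ nonZeroDivisors A) :
    (Proj.basicOpen 𝒜 g).ι.ker = ⊥ := by
  have hQ : IsAffineOpen (Proj.basicOpen 𝒜 g) := Proj.isAffineOpen_basicOpen 𝒜 g hg hd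
  haveI : CompactSpace ((Proj.basicOpen 𝒜 g : (Proj 𝒜).Opens) : Scheme.{u}) := isCompact_iff_compactSpace.mp hQ.isCompact
  haveI : QuasiCompact (Proj.basicOpen 𝒜 g).ι := quasiCompact_of_compactSpace _
  refine Scheme.IdealSheafData.ext_of_iSup_eq_top
    (fun i : {p : ℕ × A // p.2 ∈ 𝒜 p.1 ∧ 0 < p.1} => ⟨Proj.basicOpen 𝒜 i.1.2,
      Proj.isAffineOpen_basicOpen 𝒜 _ i.2.1 i.2.2⟩) ?_ (fun ⟨⟨m, h⟩, hh, hm⟩ => ?_)
  · refine eq_top_iff.mpr fun x _ => ?_
    by_contra hx
    refine x.not_irrelevant_le fun a ha => ?_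
    rw [HomogeneousIdeal.mem_irrelevant_iff] at ha
    classical
    rw [← DirectSum.sum_support_decompose 𝒜 a]
    refine Submodule.sum_mem _ fun i hi => ?_
    rcases Nat.eq_zero_or_pos i with rfl | hpos
    · have h0 : ((DirectSum.decompose 𝒜 a 0 : 𝒜 0) : A) = 0 := ha
      rw [h0]; exact zero_mem _
    · by_contra hne
      exact hx (TopologicalSpace.Opens.mem_iSup.mpr ⟨⟨(i, _), SetLike.coe_mem _, hpos⟩, hne⟩)
  · rw [Scheme.Hom.ker_apply]
    show RingHom.ker ((Proj.basicOpen 𝒜 g).ι.app (Proj.basicOpen 𝒜 h)).hom = ⊥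
    rw [← RingHom.injective_iff_ker_eq_bot, Scheme.Opens.ι_app]
    refine map_injective_of_eq (V := Proj.basicOpen 𝒜 (h * g))
      ((Proj.basicOpen_mul 𝒜 h g).trans_le inf_le_left) _ ?_ ?_
    · rw [Scheme.Hom.image_preimage_eq_opensRange_inf, Scheme.Opens.opensRange_ι, inf_comm, Proj.basicOpen_mul]
    · have key := Proj.awayMap_awayToSection 𝒜 (f := h) hg (x := h * g) rfl
      haveI i1 : IsIso (Proj.awayToSection 𝒜 h) := (Proj.basicOpenIsoAway 𝒜 h hh hm).isIso_hom
      haveI i2 : IsIso (Proj.awayToSection 𝒜 (h * g)) :=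
        (Proj.basicOpenIsoAway 𝒜 (h * g) (SetLike.mul_mem_graded hh hg) (by omega)).isIso_hom
      rw [← IsIso.inv_comp_eq] at key
      rw [← key]
      exact ((ConcreteCategory.bijective_of_isIso (Proj.awayToSection 𝒜 (h * g))).1.comp
        (awayMap_injective 𝒜 hg hnz)).comp (ConcreteCategory.bijective_of_isIso (inv (Proj.awayToSection 𝒜 h))).1

end Groth.Agent.S8272
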