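import Groth.Statements.S8273
import Groth.Agent.RelProjBasic.Glue

set_option autoImplicit false
set_option linter.style.haveILetI false
set_option backward.isDefEq.respectTransparency false
universe u
open CategoryTheory CategoryTheory.Limits AlgebraicGeometry Opposite TopologicalSpace
open scoped HomogeneousIdeal
open EGA2 Groth.Agent

namespace Groth.Agent.S8273

/-- Uniqueness of the relative homogeneous spectrum: two schemes over Y equipped with the chart data of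
Proj(𝒮) are related by a unique morphism compatible with the charts (chartwise the identity of Proj
𝒮(U)), and that morphism is a Y-isomorphism. -/
theorem result {Y P P' : Scheme.{u}} (𝒮 : RelProj.QCGrAlg Y) (p : P ⟶ Y)
    (chart : ∀ (U : Y.Opens) (hU : IsAffineOpen U), (((p ⁻¹ᵁ U : P.Opens) : Scheme.{u}) ≅ Proj (𝒮.deg U hU)))
    (hP : RelProj.IsRelProj 𝒮 p chart) (p' : P' ⟶ Y)
    (chart' : ∀ (U : Y.Opens) (hU : IsAffineOpen U), (((p' ⁻¹ᵁ U : P'.Opens) : Scheme.{u}) ≅ Proj (𝒮.deg U hU)))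
    (hP' : RelProj.IsRelProj 𝒮 p' chart') :
    (∃! e : P ⟶ P', ∀ (U : Y.Opens) (hU : IsAffineOpen U),
        (p ⁻¹ᵁ U).ι ≫ e = (chart U hU).hom ≫ (chart' U hU).inv ≫ (p' ⁻¹ᵁ U).ι) ∧
      ∀ e : P ⟶ P', (∀ (U : Y.Opens) (hU : IsAffineOpen U),
        (p ⁻¹ᵁ U).ι ≫ e = (chart U hU).hom ≫ (chart' U hU).inv ≫ (p' ⁻¹ᵁ U).ι) → IsIso e ∧ e ≫ p' = p := by
  have mk : ∀ {Q Q' : Scheme.{u}} (q : Q ⟶ Y) (q' : Q' ⟶ Y)
      (c : ∀ (U : Y.Opens) (hU : IsAffineOpen U), (((q ⁻¹ᵁ U : Q.Opens) : Scheme.{u}) ≅ Proj (𝒮.deg U hU)))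
      (c' : ∀ (U : Y.Opens) (hU : IsAffineOpen U), (((q' ⁻¹ᵁ U : Q'.Opens) : Scheme.{u}) ≅ Proj (𝒮.deg U hU))),
      RelProj.IsRelProj 𝒮 q c → RelProj.IsRelProj 𝒮 q' c' →
      ∃! e : Q ⟶ Q', ∀ (U : Y.Opens) (hU : IsAffineOpen U),
        (q ⁻¹ᵁ U).ι ≫ e = (c U hU).hom ≫ (c' U hU).inv ≫ (q' ⁻¹ᵁ U).ι := fun {Q Q'} q q' c c' hQ hQ' =>
    RelProjBasic.existsUnique_glue q _ fun U hU r => by
      rw [reassoc_of% hQ.chart_res U hU r]
      congr 1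
      rw [← cancel_epi (c' (Y.basicOpen r) (hU.basicOpen r)).hom, Iso.hom_inv_id_assoc,
        ← reassoc_of% hQ'.chart_res U hU r, Iso.hom_inv_id_assoc, Q'.homOfLE_ι]
  refine ⟨mk p p' chart chart' hP hP', fun e he => ⟨?_, ?_⟩⟩
  · obtain ⟨g, hg, -⟩ := mk p' p chart' chart hP' hP
    refine ⟨g, ?_, ?_⟩
    · refine (P.openCoverOfIsOpenCover _ (RelProjBasic.isOpenCover_preimage p)).hom_ext _ _ fun U => ?_
      show (p ⁻¹ᵁ U.1).ι ≫ e ≫ g = (p ⁻¹ᵁ U.1).ι ≫ 𝟙 _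
      rw [reassoc_of% he U.1 U.2, hg U.1 U.2, Iso.inv_hom_id_assoc, Iso.hom_inv_id_assoc, Category.comp_id]
    · refine (P'.openCoverOfIsOpenCover _ (RelProjBasic.isOpenCover_preimage p')).hom_ext _ _ fun U => ?_
      show (p' ⁻¹ᵁ U.1).ι ≫ g ≫ e = (p' ⁻¹ᵁ U.1).ι ≫ 𝟙 _
      rw [reassoc_of% hg U.1 U.2, he U.1 U.2, Iso.inv_hom_id_assoc, Iso.hom_inv_id_assoc, Category.comp_id]
  · refine (P.openCoverOfIsOpenCover _ (RelProjBasic.isOpenCover_preimage p)).hom_ext _ _ fun U => ?_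
    show (p ⁻¹ᵁ U.1).ι ≫ e ≫ p' = (p ⁻¹ᵁ U.1).ι ≫ p
    rw [reassoc_of% he U.1 U.2, ← hP'.chart_over U.1 U.2, Iso.inv_hom_id_assoc, hP.chart_over U.1 U.2]
end Groth.Agent.S8273
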