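import Groth.Statements.S8274
import Groth.Agent.RelProjBasic.Local

set_option autoImplicit false
universe u
open CategoryTheory CategoryTheory.Limits AlgebraicGeometry Opposite TopologicalSpace
open scoped HomogeneousIdeal
open EGA2

namespace Groth.Agent.S8274

/-- Let 𝒮 be a quasi-coherent positively graded O_Y-algebra, P = Proj(𝒮) with structure morphism p and
charts, and f a global section of 𝒮 homogeneous of degree d > 0. There is an open subset X_f of P
such that for every affine open U of Y, X_f ∩ p⁻¹(U) is the open D_+(f|U) of Proj 𝒮(U) transported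
by the chart; moreover X_f is affine over Y. (The identification of X_f with the spectrum of a
quotient of the d-th Veronese algebra is not stated here.) -/
theorem result {Y P : Scheme.{u}} (𝒮 : RelProj.QCGrAlg Y) (p : P ⟶ Y)
    (chart : ∀ (U : Y.Opens) (hU : IsAffineOpen U), (((p ⁻¹ᵁ U : P.Opens) : Scheme.{u}) ≅ Proj (𝒮.deg U hU)))
    (hP : RelProj.IsRelProj 𝒮 p chart) {d : ℕ} (hd : 0 < d) (f : 𝒮.presheaf.obj (op ⊤))
    (hf : ∀ (U : Y.Opens) (hU : IsAffineOpen U), (𝒮.presheaf.map (homOfLE le_top).op).hom f ∈ 𝒮.deg U hU d) :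
    ∃ Xf : P.Opens,
      (∀ (U : Y.Opens) (hU : IsAffineOpen U),
        Xf ⊓ p ⁻¹ᵁ U =
          (p ⁻¹ᵁ U).ι ''ᵁ ((chart U hU).hom ⁻¹ᵁ
            Proj.basicOpen (𝒮.deg U hU) ((𝒮.presheaf.map (homOfLE le_top).op).hom f))) ∧
      IsAffineHom (Xf.ι ≫ p) := by
  classical
  let fU : ∀ (U : Y.Opens), 𝒮.presheaf.obj (op U) := fun U => (𝒮.presheaf.map (homOfLE le_top).op).hom f
  let img : ∀ (U : Y.Opens), IsAffineOpen U → P.Opens := fun U hU =>
    (p ⁻¹ᵁ U).ι ''ᵁ ((chart U hU).hom ⁻¹ᵁ Proj.basicOpen (𝒮.deg U hU) (fU U))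
  have hle : ∀ U hU, img U hU ≤ p ⁻¹ᵁ U := fun U hU => Scheme.Opens.ι_image_le _ _
  have hres : ∀ (U : Y.Opens) (hU : IsAffineOpen U) (r : Γ(Y, U)) (x : P), p.base x ∈ Y.basicOpen r →
      (x ∈ img (Y.basicOpen r) (hU.basicOpen r) ↔ x ∈ img U hU) := by
    intro U hU r x hx
    let W := Y.basicOpen r
    let i := P.homOfLE (p.preimage_mono (Y.basicOpen_le r))
    have e : i ⁻¹ᵁ ((chart U hU).hom ⁻¹ᵁ Proj.basicOpen (𝒮.deg U hU) (fU U)) =
        (chart W (hU.basicOpen r)).hom ⁻¹ᵁ Proj.basicOpen (𝒮.deg W (hU.basicOpen r)) (fU W) := by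
      rw [← Scheme.Hom.comp_preimage, hP.chart_res U hU r, Scheme.Hom.comp_preimage, Proj.map_preimage_basicOpen]
      congr 2
      exact (ConcreteCategory.congr_hom (𝒮.presheaf.map_comp (homOfLE le_top).op (homOfLE (Y.basicOpen_le r)).op) f).symm
    let y : (p ⁻¹ᵁ W : P.Opens) := ⟨x, hx⟩
    have hy : (p ⁻¹ᵁ U).ι (i y) = x :=
      (Scheme.Hom.comp_apply i (p ⁻¹ᵁ U).ι y).symm.trans (congrArg (fun g => g.base y) (P.homOfLE_ι _))
    constructor
    · intro h
      obtain ⟨z, hz, hzx⟩ := h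
      obtain rfl : z = y := Subtype.ext hzx
      exact ⟨i y, (e.ge hz :), hy⟩
    · intro h
      obtain ⟨z, hz, hzx⟩ := h
      obtain rfl : z = i y := Subtype.ext (hzx.trans hy.symm)
      exact ⟨y, (e.le hz :), rfl⟩
  have hcmp : ∀ U hU V hV (x : P), p.base x ∈ U → p.base x ∈ V → (x ∈ img U hU ↔ x ∈ img V hV) := by
    intro U hU V hV x hxU hxV
    obtain ⟨r, r', hrr, hxr⟩ := exists_basicOpen_le_affine_inter hU hV (p.base x) ⟨hxU, hxV⟩
    have key : ∀ (W W' : Y.Opens) (h : IsAffineOpen W) (h' : IsAffineOpen W'), W = W' → (x ∈ img W h ↔ x ∈ img W' h') := by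
      rintro W _ h h' rfl; rfl
    exact (hres U hU r x hxr).symm.trans ((key _ _ (hU.basicOpen r) (hV.basicOpen r') hrr).trans (hres V hV r' x (hrr ▸ hxr)))
  let Xf : P.Opens := ⨆ U : Y.affineOpens, img U.1 U.2
  have heq : ∀ (U : Y.Opens) (hU : IsAffineOpen U), Xf ⊓ p ⁻¹ᵁ U = img U hU := by
    intro U hU
    refine le_antisymm (fun x hx => ?_) (le_inf (le_iSup (fun U : Y.affineOpens => img U.1 U.2) ⟨U, hU⟩) (hle U hU))
    obtain ⟨V, hV⟩ := TopologicalSpace.Opens.mem_iSup.mp hx.1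
    exact (hcmp V.1 V.2 U hU x (hle _ _ hV) hx.2).mp hV
  refine ⟨Xf, heq, ⟨fun U hU => ?_⟩⟩
  rw [← Xf.ι.isAffineOpen_iff_of_isOpenImmersion, Scheme.Hom.comp_preimage, Scheme.Hom.image_preimage_eq_opensRange_inf,
    Scheme.Opens.opensRange_ι, heq U hU]
  exact ((Proj.isAffineOpen_basicOpen (𝒮.deg U hU) _ (hf U hU) hd).preimage_of_isIso (chart U hU).hom).image_of_isOpenImmersion _

end Groth.Agent.S8274
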