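import Groth.Statements.S8277
import Mathlib
-- import your own Groth.Agent.* helpers here

set_option autoImplicit false
universe u
open EGA2

namespace Groth.Agent.S8277

/-- For a positively graded ring S, the graded ring S♮ with S♮_n = S_{≥ n} = ⊕_{m ≥ n} S_m (presented
here as a graded ring S' with an injective algebra homomorphism φ : S' → S[X] carrying S'_n onto
S_{≥ n}·X^n for every n, so that S'_0 is identified with S), and n₀ ≥ 0: S♮_{n+1} = S♮_1 S♮_n for n
≥ n₀ if and only if S_{n+1} = S_1 S_n for n ≥ n₀. -/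
theorem result {R A B : Type u} [CommRing R] [CommRing A] [Algebra R A]
    (𝒜 : ℕ → Submodule R A) [GradedAlgebra 𝒜] [CommRing B] [Algebra R B] (ℬ : ℕ → Submodule R B) [GradedAlgebra ℬ]
    (φ : B →ₐ[R] Polynomial A) (hφ : Function.Injective φ)
    (hdeg : ∀ n : ℕ, Submodule.map φ.toLinearMap (ℬ n) =
      Submodule.map ((Polynomial.monomial n : A →ₗ[A] Polynomial A).restrictScalars R) (⨆ (m : ℕ) (_ : n ≤ m), 𝒜 m)) (n₀ : ℕ) :
    (∀ n : ℕ, n₀ ≤ n → ℬ (n + 1) = ℬ 1 * ℬ n) ↔ (∀ n : ℕ, n₀ ≤ n → 𝒜 (n + 1) = 𝒜 1 * 𝒜 n) := by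
  let mono : ℕ → (A →ₗ[R] Polynomial A) := fun n => (Polynomial.monomial n : A →ₗ[A] Polynomial A).restrictScalars R
  let T : ℕ → Submodule R A := fun n => ⨆ (m : ℕ) (_ : n ≤ m), 𝒜 m
  have hmono : ∀ (a c : ℕ) (P Q : Submodule R A),
      Submodule.map (mono a) P * Submodule.map (mono c) Q = Submodule.map (mono (a + c)) (P * Q) := by
    intro a c P Q
    refine le_antisymm (Submodule.mul_le.mpr ?_) (Submodule.map_le_iff_le_comap.mpr (Submodule.mul_le.mpr ?_))
    · rintro _ ⟨u, hu, rfl⟩ _ ⟨v, hv, rfl⟩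
      exact ⟨u * v, Submodule.mul_mem_mul hu hv, (Polynomial.monomial_mul_monomial a c u v).symm⟩
    · intro u hu v hv
      rw [Submodule.mem_comap, show mono (a + c) (u * v) = mono a u * mono c v from (Polynomial.monomial_mul_monomial a c u v).symm]
      exact Submodule.mul_mem_mul ⟨u, hu, rfl⟩ ⟨v, hv, rfl⟩
  have hiff : ∀ n, ℬ (n + 1) = ℬ 1 * ℬ n ↔ T (n + 1) = T 1 * T n := fun n => by
    rw [← (Submodule.map_injective_of_injective (f := φ.toLinearMap) hφ).eq_iff, Submodule.map_mul,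
      hdeg, hdeg, hdeg, hmono, add_comm 1 n]
    exact (Submodule.map_injective_of_injective (f := mono (n + 1))
      (Polynomial.monomial_injective (n + 1))).eq_iff
  have hTle : ∀ n m, n ≤ m → 𝒜 m ≤ T n := fun n m h => le_iSup₂_of_le m h le_rfl
  have hmul : ∀ a c, 𝒜 a * 𝒜 c ≤ 𝒜 (a + c) := fun a c =>
    Submodule.mul_le.mpr fun u hu v hv => SetLike.mul_mem_graded hu hv
  have hTmul : ∀ n, T 1 * T n ≤ T (n + 1) := fun n => by
    simp only [T, Submodule.iSup_mul, Submodule.mul_iSup]
    exact iSup₂_le fun a ha => iSup₂_le fun c hc => (hmul _ _).trans (hTle _ _ (by omega))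
  classical
  constructor
  · intro h n hn
    refine le_antisymm (fun y hy => ?_) ((hmul _ _).trans (by rw [add_comm]))
    have hy' : y ∈ T 1 * T n := ((hiff n).mp (h n hn)) ▸ hTle (n + 1) (n + 1) le_rfl hy
    have hle : T 1 * T n ≤ (𝒜 1 * 𝒜 n).comap (GradedAlgebra.proj 𝒜 (n + 1)) := by
      simp only [T, Submodule.iSup_mul, Submodule.mul_iSup]
      refine iSup₂_le fun c hc => iSup₂_le fun a ha => Submodule.mul_le.mpr fun u hu v hv => ?_
      rw [Submodule.mem_comap, GradedAlgebra.proj_apply]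
      have huv := SetLike.mul_mem_graded hu hv
      by_cases he : a + c = n + 1
      · rw [← he, DirectSum.decompose_of_mem_same 𝒜 huv]
        have ha1 : a = 1 := by omega
        have hc1 : c = n := by omega
        rw [ha1] at hu
        rw [hc1] at hv
        exact Submodule.mul_mem_mul hu hv
      · rw [DirectSum.decompose_of_mem_ne 𝒜 huv he]
        exact zero_mem _
    have := hle hy'
    rwa [Submodule.mem_comap, GradedAlgebra.proj_apply, DirectSum.decompose_of_mem_same 𝒜 hy] at this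
  · intro h n hn
    refine (hiff n).mpr (le_antisymm ?_ (hTmul n))
    refine iSup₂_le fun m hm => ?_
    obtain ⟨j, rfl⟩ : ∃ j, m = j + 1 := ⟨m - 1, by omega⟩
    rw [h j (by omega)]
    exact mul_le_mul' (hTle 1 1 le_rfl) (hTle n j (by omega))

end Groth.Agent.S8277
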