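import Groth.Statements.S8278
import Mathlib
-- import your own Groth.Agent.* helpers here

set_option autoImplicit false
universe u
open EGA2

namespace Groth.Agent.S8278

/-- For a positively graded ring S, the graded ring S♮ with S♮_n = S_{≥ n} = ⊕_{m ≥ n} S_m (presented
here as a graded ring S' with an injective algebra homomorphism φ : S' → S[X] carrying S'_n onto
S_{≥ n}·X^n for every n, so that S'_0 is identified with S), and n₀ ≥ 1: S♮_n = (S♮_1)^n for n ≥ n₀
if and only if S_n = (S_1)^n for n ≥ n₀. (n₀ ≥ 1 because the zeroth power of a submodule is the span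
of 1, not the degree-zero part.) -/
theorem result {R A B : Type u} [CommRing R] [CommRing A] [Algebra R A]
    (𝒜 : ℕ → Submodule R A) [GradedAlgebra 𝒜] [CommRing B] [Algebra R B] (ℬ : ℕ → Submodule R B) [GradedAlgebra ℬ]
    (φ : B →ₐ[R] Polynomial A) (hφ : Function.Injective φ)
    (hdeg : ∀ n : ℕ, Submodule.map φ.toLinearMap (ℬ n) =
      Submodule.map ((Polynomial.monomial n : A →ₗ[A] Polynomial A).restrictScalars R) (⨆ (m : ℕ) (_ : n ≤ m), 𝒜 m)) (n₀ : ℕ) (hn₀ : 1 ≤ n₀) :
    (∀ n : ℕ, n₀ ≤ n → ℬ n = ℬ 1 ^ n) ↔ (∀ n : ℕ, n₀ ≤ n → 𝒜 n = 𝒜 1 ^ n) := by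
  classical
  let mono : ℕ → (A →ₗ[R] Polynomial A) := fun n => (Polynomial.monomial n : A →ₗ[A] Polynomial A).restrictScalars R
  let T : ℕ → Submodule R A := fun n => ⨆ (m : ℕ) (_ : n ≤ m), 𝒜 m
  have hmono : ∀ (a c : ℕ) (P Q : Submodule R A),
      Submodule.map (mono a) P * Submodule.map (mono c) Q = Submodule.map (mono (a + c)) (P * Q) := by
    intro a c P Q
    refine le_antisymm (Submodule.mul_le.mpr ?_) (Submodule.map_le_iff_le_comap.mpr (Submodule.mul_le.mpr ?_))
    · rintro _ ⟨u, hu, rfl⟩ _ ⟨v, hv, rfl⟩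
      exact ⟨u * v, Submodule.mul_mem_mul hu hv, (Polynomial.monomial_mul_monomial a c u v).symm⟩
    · intro u hu v hv
      rw [Submodule.mem_comap, show mono (a + c) (u * v) = mono a u * mono c v from
        (Polynomial.monomial_mul_monomial a c u v).symm]
      exact Submodule.mul_mem_mul ⟨u, hu, rfl⟩ ⟨v, hv, rfl⟩
  have hpow : ∀ n : ℕ, Submodule.map (mono 1) (T 1) ^ (n + 1) = Submodule.map (mono (n + 1)) (T 1 ^ (n + 1)) := by
    intro n
    induction n with
    | zero => simp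
    | succ n ih => rw [pow_succ, ih, hmono, ← pow_succ]
  have hiff : ∀ n, n ≠ 0 → (ℬ n = ℬ 1 ^ n ↔ T n = T 1 ^ n) := fun n hn => by
    obtain ⟨j, rfl⟩ : ∃ j, n = j + 1 := ⟨n - 1, by omega⟩
    rw [← (Submodule.map_injective_of_injective (f := φ.toLinearMap) hφ).eq_iff, Submodule.map_pow,
      hdeg, hdeg, hpow]
    exact (Submodule.map_injective_of_injective (f := mono (j + 1))
      (Polynomial.monomial_injective (j + 1))).eq_iff
  have hTle : ∀ n m, n ≤ m → 𝒜 m ≤ T n := fun n m h => le_iSup₂_of_le m h le_rfl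
  have hmul : ∀ a c, 𝒜 a * 𝒜 c ≤ 𝒜 (a + c) := fun a c =>
    Submodule.mul_le.mpr fun u hu v hv => SetLike.mul_mem_graded hu hv
  have hTmul : ∀ a c, T a * T c ≤ T (a + c) := fun a c => by
    simp only [T, Submodule.iSup_mul, Submodule.mul_iSup]
    exact iSup₂_le fun i hi => iSup₂_le fun j hj => (hmul _ _).trans (hTle _ _ (by omega))
  have hApow : ∀ j, 𝒜 1 ^ (j + 1) ≤ 𝒜 (j + 1) := by
    intro j
    induction j with
    | zero => simp
    | succ j ih =>
      rw [pow_succ]
      exact (mul_le_mul' ih le_rfl).trans (hmul _ _)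
  have hT1 : T 1 ≤ 𝒜 1 ⊔ T 2 := iSup₂_le fun m hm => by
    rcases eq_or_lt_of_le hm with rfl | h
    · exact le_sup_left
    · exact (hTle 2 m h).trans le_sup_right
  have hdecomp : ∀ j, T 1 ^ (j + 1) ≤ 𝒜 1 ^ (j + 1) ⊔ T (j + 2) := by
    intro j
    induction j with
    | zero => simpa using hT1
    | succ j ih =>
      rw [pow_succ]
      refine (mul_le_mul' ih hT1).trans ?_
      rw [Submodule.sup_mul, Submodule.mul_sup, Submodule.mul_sup]
      refine sup_le (sup_le ?_ ?_) (sup_le ?_ ?_)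
      · rw [← pow_succ]; exact le_sup_left
      · exact ((mul_le_mul' ((hApow j).trans (hTle (j + 1) _ le_rfl)) le_rfl).trans (hTmul _ _)).trans le_sup_right
      · exact ((mul_le_mul' le_rfl (hTle 1 1 le_rfl)).trans (hTmul _ _)).trans le_sup_right
      · refine ((hTmul _ _).trans ?_).trans le_sup_right
        exact iSup₂_le fun m hm => hTle _ m (by omega)
  constructor
  · intro h n hn
    obtain ⟨j, rfl⟩ : ∃ j, n = j + 1 := ⟨n - 1, by omega⟩
    refine le_antisymm (fun y hy => ?_) (hApow j)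
    have hy' : y ∈ T 1 ^ (j + 1) := ((hiff _ (by omega)).mp (h _ hn)) ▸ hTle (j + 1) (j + 1) le_rfl hy
    obtain ⟨a, ha, c, hc, rfl⟩ := Submodule.mem_sup.mp (hdecomp j hy')
    have hc0 : GradedAlgebra.proj 𝒜 (j + 1) c = 0 := by
      have hle : T (j + 2) ≤ LinearMap.ker (GradedAlgebra.proj 𝒜 (j + 1)) := iSup₂_le fun m hm z hz => by
        rw [LinearMap.mem_ker, GradedAlgebra.proj_apply, DirectSum.decompose_of_mem_ne 𝒜 hz (by omega)]
      exact hle hc
    have h1 : GradedAlgebra.proj 𝒜 (j + 1) (a + c) = a + c := by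
      rw [GradedAlgebra.proj_apply, DirectSum.decompose_of_mem_same 𝒜 hy]
    have h2 : GradedAlgebra.proj 𝒜 (j + 1) a = a := by
      rw [GradedAlgebra.proj_apply, DirectSum.decompose_of_mem_same 𝒜 (hApow j ha)]
    rw [map_add, h2, hc0, add_zero] at h1
    rwa [← h1]
  · intro h n hn
    obtain ⟨j, rfl⟩ : ∃ j, n = j + 1 := ⟨n - 1, by omega⟩
    refine (hiff _ (by omega)).mpr (le_antisymm ?_ ?_)
    · refine iSup₂_le fun m hm => ?_
      obtain ⟨i, rfl⟩ : ∃ i, m = j + (i + 1) := ⟨m - j - 1, by omega⟩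
      rw [h _ (by omega), pow_add, pow_succ (T 1) j]
      exact mul_le_mul' (pow_le_pow_left' (hTle 1 1 le_rfl) j) ((hApow i).trans (hTle 1 _ (by omega)))
    · have : ∀ i, T 1 ^ (i + 1) ≤ T (i + 1) := by
        intro i
        induction i with
        | zero => simp
        | succ i ih => rw [pow_succ]; exact (mul_le_mul' ih le_rfl).trans (hTmul _ _)
      exact this j

end Groth.Agent.S8278
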