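import Groth.Statements.S8281
import Groth.Agent.RelSpecQMor.Basic
-- import your own Groth.Agent.* helpers here

set_option autoImplicit false
universe u
open CategoryTheory CategoryTheory.Limits AlgebraicGeometry Opposite TopologicalSpace
open EGA2

namespace Groth.Agent.S8281

/-- Let q : S' → S be a morphism, B and B' quasi-coherent algebras over O_S and O_{S'}, and u : B →
q_*B' a q-morphism (compatible with the structure maps). Then u induces a unique morphism v =
Spec(u) : Spec(B') → Spec(B) which on the charts over affine opens U ⊆ S, U' ⊆ q⁻¹(U) is Spec of the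
ring map B(U) → B'(U') given by u and restriction; it lies over q. -/
theorem result {S S' : Scheme.{u}} (q : S' ⟶ S) (B : RelSpec.QCAlg S)
    (B' : RelSpec.QCAlg S') (u : B.presheaf ⟶ q.base _* B'.presheaf)
    (hu : B.str ≫ u = q.c ≫ (TopCat.Presheaf.pushforward CommRingCat.{u} q.base).map B'.str) :
    (∃! v : B'.spec ⟶ B.spec,
        ∀ (U : S.Opens) (hU : IsAffineOpen U) (U' : S'.Opens) (hU' : IsAffineOpen U') (hle : U' ≤ q ⁻¹ᵁ U),
          B'.ι U' hU' ≫ v =
            Spec.map ((u.app (op U) : B.presheaf.obj (op U) ⟶ B'.presheaf.obj (op (q ⁻¹ᵁ U))) ≫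
              B'.presheaf.map (homOfLE hle).op) ≫ B.ι U hU) ∧
      ∀ v : B'.spec ⟶ B.spec,
        (∀ (U : S.Opens) (hU : IsAffineOpen U) (U' : S'.Opens) (hU' : IsAffineOpen U') (hle : U' ≤ q ⁻¹ᵁ U),
          B'.ι U' hU' ≫ v =
            Spec.map ((u.app (op U) : B.presheaf.obj (op U) ⟶ B'.presheaf.obj (op (q ⁻¹ᵁ U))) ≫
              B'.presheaf.map (homOfLE hle).op) ≫ B.ι U hU) →
        v ≫ B.π = B'.π ≫ q := by
  have hprop : ∀ v : B'.spec ⟶ B.spec,
        (∀ (U : S.Opens) (hU : IsAffineOpen U) (U' : S'.Opens) (hU' : IsAffineOpen U') (hle : U' ≤ q ⁻¹ᵁ U),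
          B'.ι U' hU' ≫ v =
            Spec.map ((u.app (op U) : B.presheaf.obj (op U) ⟶ B'.presheaf.obj (op (q ⁻¹ᵁ U))) ≫
              B'.presheaf.map (homOfLE hle).op) ≫ B.ι U hU) ↔
        ∀ p : Groth.Agent.RelSpecQMor.Pairs q,
          (Groth.Agent.RelSpecQMor.cover q B').f p ≫ v = Groth.Agent.RelSpecQMor.chart q B B' u p :=
    fun v => ⟨fun h p => h p.1.1.1 p.1.1.2 p.1.2.1 p.1.2.2 p.2,
      fun h U hU U' hU' hle => h ⟨(⟨U, hU⟩, ⟨U', hU'⟩), hle⟩⟩
  refine ⟨?_, ?_⟩
  · refine ⟨(Groth.Agent.RelSpecQMor.cover q B').glueMorphisms (Groth.Agent.RelSpecQMor.chart q B B' u)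
        (Groth.Agent.RelSpecQMor.compat q B B' u), (hprop _).2 fun p => ?_, fun v hv => ?_⟩
    · exact Scheme.Cover.ι_glueMorphisms (Groth.Agent.RelSpecQMor.cover q B') _ (Groth.Agent.RelSpecQMor.compat q B B' u) p
    · refine Scheme.Cover.hom_ext (Groth.Agent.RelSpecQMor.cover q B') _ _ fun p => ?_
      rw [(hprop v).1 hv p, Scheme.Cover.ι_glueMorphisms]
  · intro v hv
    refine Scheme.Cover.hom_ext (Groth.Agent.RelSpecQMor.cover q B') _ _ fun p => ?_
    rw [← Category.assoc, (hprop v).1 hv p]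
    exact Groth.Agent.RelSpecQMor.chart_π q B B' u hu p

end Groth.Agent.S8281
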