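import Groth.Statements.S8283
import Groth.Agent.FlatDescent.Scheme
import Groth.Agent.RegEmbed.Scheme
import Mathlib.RingTheory.DiscreteValuationRing.TFAE
import Mathlib.RingTheory.Filtration

set_option autoImplicit false
universe u
open CategoryTheory CategoryTheory.Limits AlgebraicGeometry Opposite TopologicalSpace
open EGA2

namespace Groth.Agent.S8283

open IsLocalRing

/-- A retraction with principal kernel: the kernel generator is not nilpotent modulo the base. -/
theorem algebra_core {A O B : Type u} [CommRing A] [IsLocalRing A] [CommRing O] [IsLocalRing O]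
    [CommRing B] [IsLocalRing B] (φ : A →+* O) [IsLocalHom φ] (σ : O →+* B) [IsLocalHom σ]
    (hψ : Function.Bijective (σ.comp φ)) (t : O) (hker : RingHom.ker σ = Ideal.span {t})
    (ht : ∀ b, t * b = 0 → b = 0) :
    maximalIdeal O = (maximalIdeal A).map φ ⊔ Ideal.span {t} ∧ ∀ n : ℕ, t ^ n ∉ (maximalIdeal A).map φ := by
  let e := RingEquiv.ofBijective (σ.comp φ) hψ
  let ρ : O →+* A := e.symm.toRingHom.comp σ
  have hρ : ∀ a, ρ (φ a) = a := fun a => e.symm_apply_apply a
  have hkρ : ∀ x, ρ x = 0 → x ∈ Ideal.span {t} := fun x hx => by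
    rw [← hker, RingHom.mem_ker]
    exact (map_eq_zero_iff e.symm.toRingHom e.symm.injective).mp hx
  have hρt : ρ t = 0 := by
    show e.symm (σ t) = 0
    rw [show σ t = 0 from RingHom.mem_ker.mp (hker.ge (Ideal.mem_span_singleton_self t)), map_zero]
  have hmle : (maximalIdeal A).map φ ≤ maximalIdeal O :=
    Ideal.map_le_iff_le_comap.mpr fun a ha h => ha (h.of_map)
  have hdiv : ∀ x ∈ (maximalIdeal A).map φ, ρ x = 0 → ∃ y ∈ (maximalIdeal A).map φ, x = t * y := by
    suffices ∀ x ∈ (maximalIdeal A).map φ, ∃ y ∈ (maximalIdeal A).map φ, x - φ (ρ x) = t * y by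
      intro x hx h0
      obtain ⟨y, hy, h⟩ := this x hx
      exact ⟨y, hy, by simpa [h0] using h⟩
    intro x hx
    refine Submodule.span_induction (p := fun x _ => ∃ y ∈ (maximalIdeal A).map φ, x - φ (ρ x) = t * y)
      ?_ ⟨0, zero_mem _, by simp⟩ ?_ ?_ hx
    · rintro _ ⟨a, -, rfl⟩
      exact ⟨0, zero_mem _, by simp [hρ]⟩
    · rintro a b - - ⟨y, hy, h⟩ ⟨z, hz, h'⟩
      exact ⟨y + z, add_mem hy hz, by rw [map_add, map_add]; linear_combination h + h'⟩
    · rintro c a ha ⟨y, hy, h⟩
      obtain ⟨v, hv⟩ := Ideal.mem_span_singleton'.mp (hkρ (c - φ (ρ c)) (by rw [map_sub, hρ, sub_self]))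
      refine ⟨φ (ρ c) * y + v * a, add_mem (Ideal.mul_mem_left _ _ hy) (Ideal.mul_mem_left _ _ ha), ?_⟩
      rw [smul_eq_mul, map_mul, map_mul]
      linear_combination (φ (ρ c)) * h - a * hv
  refine ⟨le_antisymm (fun x hx => ?_) (sup_le hmle ?_), fun n => ?_⟩
  · have h1 : ρ x ∈ maximalIdeal A := fun h => hx (by
      have h' : IsUnit (σ x) := by simpa [ρ] using h.map e.toRingHom
      exact h'.of_map)
    have h2 : x - φ (ρ x) ∈ Ideal.span {t} := hkρ _ (by rw [map_sub, hρ, sub_self])
    simpa using add_mem ((le_sup_left : _ ≤ (maximalIdeal A).map φ ⊔ Ideal.span {t}) (Ideal.mem_map_of_mem φ h1))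
      ((le_sup_right : _ ≤ (maximalIdeal A).map φ ⊔ Ideal.span {t}) h2)
  · rw [Ideal.span_singleton_le_iff_mem]
    intro h
    exact not_isUnit_zero (hρt ▸ h.map ρ)
  · induction n with
    | zero => exact fun h => (maximalIdeal.isMaximal O).ne_top (top_le_iff.mp ((Ideal.eq_top_iff_one _).mpr (by simpa using h) ▸ hmle))
    | succ n ih =>
      intro h
      obtain ⟨y, hy, hxy⟩ := hdiv _ h (by rw [map_pow, hρt, zero_pow n.succ_ne_zero])
      refine ih ?_
      have : t ^ n = y := sub_eq_zero.mp (ht _ (by rw [pow_succ'] at hxy; linear_combination hxy))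
      rwa [this]

/-- A Noetherian local ring whose maximal ideal is generated by one non-nilpotent element is a DVR. -/
theorem isDVR_of_span {R : Type u} [CommRing R] [IsLocalRing R] [IsNoetherianRing R] (t : R)
    (hm : maximalIdeal R = Ideal.span {t}) (ht : ∀ n : ℕ, t ^ n ≠ 0) :
    ∃ _ : IsDomain R, IsDiscreteValuationRing R := by
  classical
  have hfac : ∀ x : R, x ≠ 0 → ∃ (n : ℕ) (u : Rˣ), x = u * t ^ n := by
    intro x hx
    have h0 : ∃ n, x ∉ maximalIdeal R ^ n := by
      by_contra h
      push Not at h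
      refine hx ?_
      have hk := Ideal.iInf_pow_eq_bot_of_isLocalRing (maximalIdeal R) (maximalIdeal.isMaximal R).ne_top
      exact (Submodule.mem_bot R).mp (hk ▸ Ideal.mem_iInf.mpr h)
    obtain ⟨k, hk⟩ : ∃ k, Nat.find h0 = k + 1 := Nat.exists_eq_succ_of_ne_zero fun h => by
      have := Nat.find_spec h0
      rw [h, pow_zero, Ideal.one_eq_top] at this
      exact this trivial
    have h1 : x ∈ maximalIdeal R ^ k := not_not.mp (Nat.find_min h0 (by omega))
    rw [hm, Ideal.span_singleton_pow] at h1
    obtain ⟨c, rfl⟩ := Ideal.mem_span_singleton'.mp h1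
    have hc : IsUnit c := by
      by_contra hc
      have := Nat.find_spec h0
      rw [hk, hm, Ideal.span_singleton_pow] at this
      obtain ⟨d, rfl⟩ := Ideal.mem_span_singleton'.mp (hm.le hc)
      exact this (Ideal.mem_span_singleton'.mpr ⟨d, by ring⟩)
    exact ⟨k, hc.unit, rfl⟩
  haveI : IsDomain R := by
    haveI : NoZeroDivisors R := ⟨fun {a b} h => by
      by_contra hab
      push Not at hab
      obtain ⟨n, u, rfl⟩ := hfac a hab.1
      obtain ⟨m, v, rfl⟩ := hfac b hab.2
      exact ht (n + m) ((Units.mul_right_eq_zero (u * v)).mp (by push_cast; linear_combination h))⟩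
    exact NoZeroDivisors.to_isDomain R
  have hnf : ¬ IsField R := by
    rw [IsLocalRing.isField_iff_maximalIdeal_eq, hm, Ideal.span_singleton_eq_bot]
    simpa using ht 1
  exact ⟨inferInstance, ((IsDiscreteValuationRing.TFAE R hnf).out 0 4).mpr (⟨⟨t, hm⟩⟩ : (maximalIdeal R).IsPrincipal)⟩

open Groth.Agent in
theorem exists_param {X V : Scheme.{u}} (π : V ⟶ X) (j : X ⟶ V) [IsClosedImmersion j] (hj : j ≫ π = 𝟙 X)
    (hJ : BlowUp.IsEffCartierIdeal j.ker) (x : X) :
    ∃ t : V.presheaf.stalk (j.base x),
      maximalIdeal (V.presheaf.stalk (j.base x)) =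
          (maximalIdeal (X.presheaf.stalk (π.base (j.base x)))).map (π.stalkMap (j.base x)).hom ⊔ Ideal.span {t} ∧
        ∀ n : ℕ, t ^ n ∉ (maximalIdeal (X.presheaf.stalk (π.base (j.base x)))).map (π.stalkMap (j.base x)).hom := by
  obtain ⟨U, hxU, f, hf, hker⟩ := hJ (j.base x)
  let g := (V.presheaf.germ U.1 (j.base x) hxU).hom
  letI : Algebra Γ(V, U.1) (V.presheaf.stalk (j.base x)) := g.toAlgebra
  haveI : IsLocalization.AtPrime (V.presheaf.stalk (j.base x)) (U.2.primeIdealOf ⟨j.base x, hxU⟩).asIdeal :=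
    U.2.isLocalization_stalk ⟨j.base x, hxU⟩
  refine ⟨g f, algebra_core (π.stalkMap (j.base x)).hom (j.stalkMap x).hom ?_ (g f) ?_ ?_⟩
  · have h : (π.stalkMap (j.base x) ≫ j.stalkMap x) = (j ≫ π).stalkMap x := (Scheme.Hom.stalkMap_comp j π x).symm
    haveI : IsIso (j ≫ π) := by rw [hj]; infer_instance
    haveI h' : IsIso ((j ≫ π).stalkMap x) := inferInstance
    haveI : IsIso (π.stalkMap (j.base x) ≫ j.stalkMap x) := by rw [h]; exact h'
    exact ConcreteCategory.bijective_of_isIso (π.stalkMap (j.base x) ≫ j.stalkMap x)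
  · rw [RegEmbed.ker_stalkMap j x U.1 U.2 hxU, ← Scheme.Hom.ker_apply j U, hker, Ideal.map_span, Set.image_singleton]
  · intro b hb
    obtain ⟨⟨a, s⟩, has⟩ := IsLocalization.surj (U.2.primeIdealOf ⟨j.base x, hxU⟩).asIdeal.primeCompl b
    have h1 : algebraMap Γ(V, U.1) (V.presheaf.stalk (j.base x)) (f * a) = 0 := by
      rw [map_mul, ← has, ← mul_assoc]
      show g f * b * _ = 0
      rw [hb, zero_mul]
    obtain ⟨c, hc⟩ := (IsLocalization.map_eq_zero_iff (U.2.primeIdealOf ⟨j.base x, hxU⟩).asIdeal.primeCompl _ _).mp h1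
    have h2 : (c : Γ(V, U.1)) * a = 0 :=
      (mul_left_mem_nonZeroDivisors_eq_zero_iff hf).mp (by rw [← hc]; ring)
    have h3 : algebraMap Γ(V, U.1) (V.presheaf.stalk (j.base x)) a = 0 :=
      (IsLocalization.map_eq_zero_iff (U.2.primeIdealOf ⟨j.base x, hxU⟩).asIdeal.primeCompl _ _).mpr ⟨c, h2⟩
    exact (IsLocalization.map_units _ s).mul_left_eq_zero.mp (has.trans h3)

/-- Let π : V → X be locally of finite type and j : X → V a section of π that is a closed immersion with
invertible ideal sheaf. Then for every x ∈ X the local ring at j(x) of the fibre π⁻¹(π(j(x))) =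
π⁻¹(x) is a regular local ring of dimension one, i.e. a discrete valuation ring (so j(x) lies on a
single irreducible component of the fibre; the completion of that local ring is then a power-series
ring in one variable over the residue field of x). (The published statement assumes π of finite
type; this row assumes only that π is locally of finite type, which is all the proof uses: it needs
no more than the Noetherian property of the local rings of the fibre.) -/
theorem result {X V : Scheme.{u}} (π : V ⟶ X) [LocallyOfFiniteType π]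
    (j : X ⟶ V) [IsClosedImmersion j] (hj : j ≫ π = 𝟙 X) (hJ : BlowUp.IsEffCartierIdeal j.ker) (x : X) :
    ∃ _ : IsDomain ((π.fiber (π.base (j.base x))).presheaf.stalk (π.asFiber (j.base x))),
      IsDiscreteValuationRing ((π.fiber (π.base (j.base x))).presheaf.stalk (π.asFiber (j.base x))) := by
  haveI : IsNoetherianRing ((π.fiber (π.base (j.base x))).presheaf.stalk (π.asFiber (j.base x))) := by
    haveI : IsLocallyNoetherian (π.fiber (π.base (j.base x))) :=
      haveI : LocallyOfFiniteType (π.fiberToSpecResidueField (π.base (j.base x))) :=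
        MorphismProperty.pullback_snd _ _ inferInstance
      LocallyOfFiniteType.isLocallyNoetherian (π.fiberToSpecResidueField (π.base (j.base x)))
    infer_instance
  have P := exists_param π j hj hJ x
  rw [← π.fiberι_asFiber (j.base x)] at P
  obtain ⟨t, hmax, hpow⟩ := P
  let y := π.asFiber (j.base x)
  let q := ((π.fiberι (π.base (j.base x))).stalkMap y).hom
  have hsurj : Function.Surjective q := SurjectiveOnStalks.stalkMap_surjective _ y
  have hker := Groth.FlatDescent.ker_stalkMap_fiberι π (π.base (j.base x)) y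
  refine isDVR_of_span (q t) ?_ fun n h => hpow n (hker.le (RingHom.mem_ker.mpr ((map_pow q t n).trans h)))
  rw [← IsLocalRing.map_maximalIdeal_of_surjective q hsurj, hmax, Ideal.map_sup, Ideal.map_span,
    Set.image_singleton]
  refine le_antisymm (sup_le ?_ le_rfl) le_sup_right
  refine le_trans (le_of_eq ?_) bot_le
  rw [Ideal.map_eq_bot_iff_le_ker]
  exact hker.ge

end Groth.Agent.S8283
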