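import Groth.Statements.S8286
import Groth.Agent.GrModFrac.Twist
-- import your own Groth.Agent.* helpers here

set_option autoImplicit false
universe u
open CategoryTheory CategoryTheory.Limits AlgebraicGeometry Opposite TopologicalSpace
open scoped HomogeneousIdeal
noncomputable section
open EGA2

namespace Groth.Agent.S8286

open Groth.Agent

/-- If the quasi-coherent positively graded O_Y-algebra 𝒮 is generated by 𝒮_1, then on P = Proj(𝒮) the
twisting sheaves O_P(n) are invertible for every integer n. -/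
theorem result {Y P : Scheme.{u}} (𝒮 : RelProj.QCGrAlg Y) (hgen : 𝒮.IsGenDegOne)
    (p : P ⟶ Y)
    (chart : ∀ (U : Y.Opens) (hU : IsAffineOpen U), (((p ⁻¹ᵁ U : P.Opens) : Scheme.{u}) ≅ Proj (𝒮.deg U hU)))
    (hP : RelProj.IsRelProj 𝒮 p chart) (n : ℤ) (L : P.Modules)
    (lam : ∀ (U : Y.Opens) (hU : IsAffineOpen U),
      L ⟶ (Scheme.Modules.pushforward (RelProj.emb p chart U hU)).obj (GrTwist.twist (𝒮.deg U hU) n))
    (hL : RelProj.IsRelTwist 𝒮 p chart n L lam) : PicF.IsInvertible L := by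
  intro x
  obtain ⟨U, hU, hxU, -⟩ := exists_isAffineOpen_mem_and_subset (X := Y) (x := p x) (U := ⊤) trivial
  obtain ⟨y, rfl⟩ := GrModFrac.mem_range_emb (chart := chart) U hU hxU
  obtain ⟨l, hl, hly⟩ := GrModFrac.exists_degOne_notMem (hgen U hU) y
  obtain ⟨i, j, g, h, hdeg, hgh⟩ := GrModFrac.exists_unitFrac hl n
  let f := RelProj.emb p chart U hU
  let V : P.Opens := f ''ᵁ Proj.basicOpen (𝒮.deg U hU) l
  have hV : V ≤ p ⁻¹ᵁ U := GrModFrac.le_preimage_of_image chart U hU _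
  have hy : ∀ z : (f ⁻¹ᵁ V : (Proj (𝒮.deg U hU)).Opens),
      l ∉ (show ProjectiveSpectrum (𝒮.deg U hU) from z.1).asHomogeneousIdeal := fun z =>
    ((Scheme.Hom.preimage_image_eq f (Proj.basicOpen (𝒮.deg U hU) l)).le z.2 : _)
  obtain ⟨σ, hσ⟩ := (hL.bijective U hU V hV).2
    (GrModFrac.twistFrac (f ⁻¹ᵁ V) g h (fun z => (hgh z.1 (hy z)).2) (by simpa using hdeg))
  refine ⟨V, ⟨y, hly, rfl⟩, ProjTwist.nonempty_restrict_iso_structureModule L V σ fun W hW => ?_⟩
  refine GrModFrac.bijective_smul_relTwist hL U hU (hW.trans hV) _ g h (by simpa using hdeg)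
    (fun z => (hgh z.1 (hy ⟨z.1, hW z.2⟩)).1) (fun z => (hgh z.1 (hy ⟨z.1, hW z.2⟩)).2) fun z => ?_
  rw [GrModFrac.val_lam_map lam U hU hW σ z, hσ]
  rfl

end Groth.Agent.S8286
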