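import Groth.Statements.S8288
import Groth.Agent.GrModFrac.Twist
-- import your own Groth.Agent.* helpers here

set_option autoImplicit false
universe u
open CategoryTheory CategoryTheory.Limits AlgebraicGeometry Opposite TopologicalSpace
open scoped HomogeneousIdeal
noncomputable section
open EGA2

namespace Groth.Agent.S8288

open Groth.Agent

/-- Bijectivity of `r ↦ r • σ` is local. -/
theorem bijective_smul_of_cover {X : Scheme.{u}} (L : X.Modules) {W : X.Opens} (σ : Γ(L, W)) {ι : Type u}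
    (V : ι → X.Opens) (hV : ∀ i, V i ≤ W) (hcov : W ≤ iSup V)
    (h : ∀ i (W' : X.Opens) (hW' : W' ≤ V i),
      Function.Bijective fun r : Γ(X, W') => r • L.presheaf.map (homOfLE (hW'.trans (hV i))).op σ) :
    Function.Bijective fun r : Γ(X, W) => r • σ := by
  refine ⟨fun r r' hrr => ?_, fun t => ?_⟩
  · refine TopCat.Sheaf.eq_of_locally_eq' X.sheaf V W (fun i => homOfLE (hV i)) hcov _ _ fun i => ?_
    apply (h i (V i) le_rfl).1
    show X.presheaf.map (homOfLE (hV i)).op r • _ = X.presheaf.map (homOfLE (hV i)).op r' • _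
    rw [← Scheme.Modules.map_smul, ← Scheme.Modules.map_smul]
    exact congrArg _ hrr
  · choose c hc using fun i => (h i (V i) le_rfl).2 (L.presheaf.map (homOfLE (hV i)).op t)
    obtain ⟨(r : Γ(X, W)), hr, -⟩ := TopCat.Sheaf.existsUnique_gluing' X.sheaf V W (fun i => homOfLE (hV i)) hcov c (by
      intro i k
      apply (h i _ (inf_le_left : V i ⊓ V k ≤ V i)).1
      show X.presheaf.map (homOfLE inf_le_left).op (c i) • _ = X.presheaf.map (homOfLE inf_le_right).op (c k) • _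
      have hi := congrArg (L.presheaf.map (homOfLE (inf_le_left : V i ⊓ V k ≤ V i)).op) (hc i)
      have hk := congrArg (L.presheaf.map (homOfLE (inf_le_right : V i ⊓ V k ≤ V k)).op) (hc k)
      rw [Scheme.Modules.map_smul, QCohLib.map_map, QCohLib.map_map] at hi hk
      exact hi.trans hk.symm)
    refine ⟨r, TopCat.Sheaf.eq_of_locally_eq' ⟨L.presheaf, L.isSheaf⟩ V W (fun i => homOfLE (hV i)) hcov _ _ fun i => ?_⟩
    show L.presheaf.map (homOfLE (hV i)).op (r • σ) = L.presheaf.map (homOfLE (hV i)).op t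
    rw [Scheme.Modules.map_smul]
    exact (congrArg (fun z : Γ(X, V i) => z • L.presheaf.map (homOfLE (hV i)).op σ) (hr i)).trans (hc i)

/-- An invertible global fraction trivialises a relative twist. -/
theorem glued {Y P : Scheme.{u}} {𝒮 : RelProj.QCGrAlg Y} {p : P ⟶ Y}
    {chart : ∀ (U : Y.Opens) (hU : IsAffineOpen U), (((p ⁻¹ᵁ U : P.Opens) : Scheme.{u}) ≅ Proj (𝒮.deg U hU))}
    (hP : RelProj.IsRelProj 𝒮 p chart) {m : ℤ} {L : P.Modules}
    {lam : ∀ (U : Y.Opens) (hU : IsAffineOpen U),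
      L ⟶ (Scheme.Modules.pushforward (RelProj.emb p chart U hU)).obj (GrTwist.twist (𝒮.deg U hU) m)}
    (hL : RelProj.IsRelTwist 𝒮 p chart m L lam) (Xf : P.Opens) (G H : 𝒮.presheaf.obj (op ⊤)) (i j : ℕ)
    (hdeg : (i : ℤ) = j + m)
    (hG : ∀ (U : Y.Opens) (hU : IsAffineOpen U), (𝒮.presheaf.map (homOfLE le_top).op).hom G ∈ 𝒮.deg U hU i)
    (hH : ∀ (U : Y.Opens) (hU : IsAffineOpen U), (𝒮.presheaf.map (homOfLE le_top).op).hom H ∈ 𝒮.deg U hU j)
    (hunit : ∀ (U : Y.Opens) (hU : IsAffineOpen U) (y : Proj (𝒮.deg U hU)), RelProj.emb p chart U hU y ∈ Xf →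
      (𝒮.presheaf.map (homOfLE le_top).op).hom G ∉ (show ProjectiveSpectrum (𝒮.deg U hU) from y).asHomogeneousIdeal ∧
      (𝒮.presheaf.map (homOfLE le_top).op).hom H ∉ (show ProjectiveSpectrum (𝒮.deg U hU) from y).asHomogeneousIdeal) :
    Nonempty (L.restrict Xf.ι ≅ Coh.structureModule (Xf : Scheme.{u})) := by
  let frac : ∀ (U : Y.Opens) (hU : IsAffineOpen U) (W : P.Opens), W ≤ Xf →
      GrTwist.sectN (𝒜 := 𝒮.deg U hU) m (op (RelProj.emb p chart U hU ⁻¹ᵁ W)) := fun U hU W hW =>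
    GrModFrac.twistFrac _ (⟨_, hG U hU⟩ : 𝒮.deg U hU i) (⟨_, hH U hU⟩ : 𝒮.deg U hU j)
      (fun z => (hunit U hU z.1 (hW z.2)).2) hdeg
  have hres : ∀ (U : Y.Opens) (hU : IsAffineOpen U) (r : Γ(Y, U)) (W : P.Opens) (hW : W ≤ Xf) (s : Γ(L, W)),
      (lam U hU).app W s = frac U hU W hW →
        (lam (Y.basicOpen r) (hU.basicOpen r)).app W s = frac (Y.basicOpen r) (hU.basicOpen r) W hW := by
    intro U hU r W hW s hs
    refine GrModFrac.twistSect_ext fun y => ?_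
    have hy' := GrModFrac.comap_emb_mem hP U hU r y.1 y.2
    refine (hL.compat U hU r W s y.1 y.2 hy').trans ?_
    refine (congrArg (fun z => GrTwist.locMap (𝒮.res hU (hU.basicOpen r) (Y.basicOpen_le r)) (𝒮.irrelevant_le_map U hU r) y.1
      (GrTwist.val (V := RelProj.emb p chart U hU ⁻¹ᵁ W) z ⟨_, hy'⟩)) hs).trans ?_
    refine (GrTwist.locMap_mk _ _ _ _ _).trans ?_
    have e : ∀ G' : 𝒮.presheaf.obj (op ⊤),
        𝒮.res hU (hU.basicOpen r) (Y.basicOpen_le r) ((𝒮.presheaf.map (homOfLE le_top).op).hom G') =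
          (𝒮.presheaf.map (homOfLE le_top).op).hom G' := by
      intro G'
      rw [RelProj.QCGrAlg.res_apply, ← CommRingCat.comp_apply, ← Functor.map_comp]
      rfl
    show Localization.mk _ _ = Localization.mk _ _
    congr 1
    · exact e G
    · exact Subtype.ext (e H)
  choose gl hgl using fun U : Y.affineOpens =>
    (hL.bijective U.1 U.2 (Xf ⊓ p ⁻¹ᵁ U.1) inf_le_right).2 (frac U.1 U.2 (Xf ⊓ p ⁻¹ᵁ U.1) inf_le_left)
  have hgl' : ∀ (U : Y.affineOpens) (W : P.Opens) (h : W ≤ Xf ⊓ p ⁻¹ᵁ U.1),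
      (lam U.1 U.2).app W (L.presheaf.map (homOfLE h).op (gl U)) = frac U.1 U.2 W (h.trans inf_le_left) := by
    intro U W h
    rw [QCohLib.app_map, hgl]
    rfl
  have hcov : Xf ≤ ⨆ U : Y.affineOpens, Xf ⊓ p ⁻¹ᵁ U.1 := fun x hx => by
    obtain ⟨U, hU, hxU, -⟩ := exists_isAffineOpen_mem_and_subset (X := Y) (x := p x) (U := ⊤) trivial
    exact Opens.mem_iSup.mpr ⟨⟨U, hU⟩, hx, hxU⟩
  obtain ⟨σ, hσ, -⟩ := TopCat.Sheaf.existsUnique_gluing' ⟨L.presheaf, L.isSheaf⟩ (fun U : Y.affineOpens => Xf ⊓ p ⁻¹ᵁ U.1)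
    Xf (fun _ => homOfLE inf_le_left) hcov gl (by
      intro U U'
      let V := (Xf ⊓ p ⁻¹ᵁ U.1) ⊓ (Xf ⊓ p ⁻¹ᵁ U'.1)
      choose a b hab hxa using fun x : V =>
        exists_basicOpen_le_affine_inter U.2 U'.2 (p x.1) ⟨x.2.1.2, x.2.2.2⟩
      refine TopCat.Sheaf.eq_of_locally_eq' ⟨L.presheaf, L.isSheaf⟩ (fun x : V => V ⊓ p ⁻¹ᵁ Y.basicOpen (a x)) V
        (fun x => homOfLE inf_le_left)
        (fun x hx => Opens.mem_iSup.mpr ⟨⟨x, hx⟩, hx, hxa ⟨x, hx⟩⟩) _ _ fun x => ?_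
      refine (QCohLib.map_map L inf_le_left inf_le_left (gl U)).trans ?_
      refine Eq.trans ?_ (QCohLib.map_map L inf_le_left inf_le_right (gl U')).symm
      have hVX : V ⊓ p ⁻¹ᵁ Y.basicOpen (a x) ≤ Xf := inf_le_left.trans (inf_le_left.trans inf_le_left)
      apply (hL.bijective _ (U.2.basicOpen (a x)) _ inf_le_right).1
      refine (hres _ U.2 (a x) _ hVX _ (hgl' U _ _)).trans ?_
      have key : ∀ (V' : Y.Opens) (hV' : IsAffineOpen V'), V' = Y.basicOpen (b x) →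
          frac V' hV' _ hVX = (lam V' hV').app (V ⊓ p ⁻¹ᵁ Y.basicOpen (a x))
            (L.presheaf.map (homOfLE (inf_le_left.trans inf_le_right :
              V ⊓ p ⁻¹ᵁ Y.basicOpen (a x) ≤ Xf ⊓ p ⁻¹ᵁ U'.1)).op (gl U')) := by
        rintro V' hV' rfl
        exact (hres _ U'.2 (b x) _ hVX _ (hgl' U' _ _)).symm
      exact key _ _ (hab x))
  refine ProjTwist.nonempty_restrict_iso_structureModule L Xf σ fun W hW => ?_
  have hloc : ∀ (U : Y.affineOpens) (W' : P.Opens) (hW' : W' ≤ Xf ⊓ p ⁻¹ᵁ U.1),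
      Function.Bijective fun r : Γ(P, W') => r • L.presheaf.map (homOfLE (hW'.trans inf_le_left)).op σ := by
    intro U W' hW'
    refine GrModFrac.bijective_smul_relTwist hL U.1 U.2 (hW'.trans inf_le_right) _ (⟨_, hG U.1 U.2⟩ : 𝒮.deg U.1 U.2 i)
      (⟨_, hH U.1 U.2⟩ : 𝒮.deg U.1 U.2 j) hdeg (fun z => (hunit _ _ z.1 (hW' z.2).1).1)
      (fun z => (hunit _ _ z.1 (hW' z.2).1).2) fun z => ?_
    rw [GrModFrac.val_lam_map lam U.1 U.2 _ σ z]
    have h1 := congrArg (fun t => GrTwist.val ((lam U.1 U.2).app (Xf ⊓ p ⁻¹ᵁ U.1) t) ⟨z.1, hW' z.2⟩) (hσ U)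
    simp only [hgl] at h1
    exact (GrModFrac.val_lam_map lam U.1 U.2 inf_le_left σ ⟨z.1, hW' z.2⟩).symm.trans h1
  have hWcov : W ≤ ⨆ U : Y.affineOpens, W ⊓ p ⁻¹ᵁ U.1 := fun x hx => by
    obtain ⟨U, hU, hxU, -⟩ := exists_isAffineOpen_mem_and_subset (X := Y) (x := p x) (U := ⊤) trivial
    exact Opens.mem_iSup.mpr ⟨⟨U, hU⟩, hx, hxU⟩
  exact bijective_smul_of_cover L _ (fun U : Y.affineOpens => W ⊓ p ⁻¹ᵁ U.1) (fun _ => inf_le_left) hWcov
    fun U W' hW' => by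
      rw [QCohLib.map_map]
      exact hloc U W' (le_inf ((hW'.trans inf_le_left).trans hW) (hW'.trans inf_le_right))

/-- For a global section f of 𝒮 of degree d > 0 and the open X_f of P = Proj(𝒮) it defines, the twisting
sheaf O_P(nd) restricted to X_f is isomorphic to the structure sheaf of X_f, for every integer n
(existence of an isomorphism; the published identification is canonical). -/
theorem result {Y P : Scheme.{u}} (𝒮 : RelProj.QCGrAlg Y) (p : P ⟶ Y)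
    (chart : ∀ (U : Y.Opens) (hU : IsAffineOpen U), (((p ⁻¹ᵁ U : P.Opens) : Scheme.{u}) ≅ Proj (𝒮.deg U hU)))
    (hP : RelProj.IsRelProj 𝒮 p chart) {d : ℕ} (hd : 0 < d) (f : 𝒮.presheaf.obj (op ⊤))
    (hf : ∀ (U : Y.Opens) (hU : IsAffineOpen U), (𝒮.presheaf.map (homOfLE le_top).op).hom f ∈ 𝒮.deg U hU d)
    (Xf : P.Opens)
    (hXf : ∀ (U : Y.Opens) (hU : IsAffineOpen U),
      Xf ⊓ p ⁻¹ᵁ U =
        (p ⁻¹ᵁ U).ι ''ᵁ ((chart U hU).hom ⁻¹ᵁ
          Proj.basicOpen (𝒮.deg U hU) ((𝒮.presheaf.map (homOfLE le_top).op).hom f)))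
    (n : ℤ) (L : P.Modules)
    (lam : ∀ (U : Y.Opens) (hU : IsAffineOpen U),
      L ⟶ (Scheme.Modules.pushforward (RelProj.emb p chart U hU)).obj (GrTwist.twist (𝒮.deg U hU) (n * (d : ℤ))))
    (hL : RelProj.IsRelTwist 𝒮 p chart (n * (d : ℤ)) L lam) :
    Nonempty (L.restrict Xf.ι ≅ Coh.structureModule (Xf : Scheme.{u})) := by
  have hmem := fun U hU => GrModFrac.emb_mem_iff (chart := chart) U hU _ (hXf U hU)
  obtain ⟨l, rfl | rfl⟩ := Int.eq_nat_or_neg n
  · refine glued hP hL Xf (f ^ l) 1 (l * d) 0 (by push_cast; ring) (fun U hU => ?_) (fun U hU => ?_) fun U hU y hy => ?_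
    · rw [map_pow]; simpa [smul_eq_mul] using SetLike.pow_mem_graded l (hf U hU)
    · rw [map_one]; exact SetLike.GradedOne.one_mem
    · rw [map_pow, map_one]
      exact ⟨fun h => (hmem U hU y).mp hy ((show ProjectiveSpectrum (𝒮.deg U hU) from y).isPrime.mem_of_pow_mem l h),
        GrModFrac.one_notMem _ y⟩
  · refine glued hP hL Xf 1 (f ^ l) 0 (l * d) (by push_cast; ring) (fun U hU => ?_) (fun U hU => ?_) fun U hU y hy => ?_
    · rw [map_one]; exact SetLike.GradedOne.one_mem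
    · rw [map_pow]; simpa [smul_eq_mul] using SetLike.pow_mem_graded l (hf U hU)
    · rw [map_pow, map_one]
      exact ⟨GrModFrac.one_notMem _ y,
        fun h => (hmem U hU y).mp hy ((show ProjectiveSpectrum (𝒮.deg U hU) from y).isPrime.mem_of_pow_mem l h)⟩

end Groth.Agent.S8288
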