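import Groth.Statements.S8290
import Groth.Agent.GrModFrac.Twist
-- import your own Groth.Agent.* helpers here

set_option autoImplicit false
universe u
open CategoryTheory CategoryTheory.Limits AlgebraicGeometry Opposite TopologicalSpace
open scoped HomogeneousIdeal
noncomputable section
open EGA2

namespace Groth.Agent.S8290

open Groth.Agent

/-- Let 𝒮 be a quasi-coherent positively graded O_Y-algebra, X = Proj(𝒮), and U a quasi-compact open
subset of X. There is an integer d > 0 such that for every n divisible by d the twisting sheaf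
O_X(n) restricted to U is invertible. (The published statement adds that its inverse is O_X(-n)|U.) -/
theorem result {Y X : Scheme.{u}} (𝒮 : RelProj.QCGrAlg Y) (q : X ⟶ Y)
    (chart : ∀ (U : Y.Opens) (hU : IsAffineOpen U), (((q ⁻¹ᵁ U : X.Opens) : Scheme.{u}) ≅ Proj (𝒮.deg U hU)))
    (hX : RelProj.IsRelProj 𝒮 q chart) (U : X.Opens) (hU : IsCompact (U : Set X)) :
    ∃ d : ℕ, 0 < d ∧ ∀ (n : ℤ), (d : ℤ) ∣ n →
      ∀ (L : X.Modules)
        (lam : ∀ (V : Y.Opens) (hV : IsAffineOpen V),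
          L ⟶ (Scheme.Modules.pushforward (RelProj.emb q chart V hV)).obj (GrTwist.twist (𝒮.deg V hV) n)),
        RelProj.IsRelTwist 𝒮 q chart n L lam → PicF.IsInvertible (L.restrict U.ι) := by
  classical
  choose V hV e g he hg hx hle using fun x : U =>
    show ∃ (V : Y.Opens) (hV : IsAffineOpen V) (e : ℕ) (g : 𝒮.presheaf.obj (op V)), 0 < e ∧ g ∈ 𝒮.deg V hV e ∧
        x.1 ∈ RelProj.emb q chart V hV ''ᵁ Proj.basicOpen (𝒮.deg V hV) g ∧
        RelProj.emb q chart V hV ''ᵁ Proj.basicOpen (𝒮.deg V hV) g ≤ U by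
      obtain ⟨W, ⟨V, hV, e, g, he, hg, rfl⟩, hxW, hWU⟩ :=
        Opens.isBasis_iff_nbhd.mp (GrModFrac.isBasis_relBasis chart) x.2
      exact ⟨V, hV, e, g, he, hg, hxW, hWU⟩
  obtain ⟨t, ht⟩ := hU.elim_finite_subcover
    (fun x : U => (RelProj.emb q chart (V x) (hV x) ''ᵁ Proj.basicOpen (𝒮.deg (V x) (hV x)) (g x) : Set X))
    (fun x => (RelProj.emb q chart (V x) (hV x) ''ᵁ Proj.basicOpen (𝒮.deg (V x) (hV x)) (g x)).2)
    (fun x hxU => Set.mem_iUnion.mpr ⟨⟨x, hxU⟩, hx ⟨x, hxU⟩⟩)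
  refine ⟨∏ x ∈ t, e x, Finset.prod_pos fun x _ => he x, fun n hn L lam hL => ?_⟩
  refine ProjTwist.isInvertible_restrict L U fun x hxU => ?_
  obtain ⟨k, hk, hxk⟩ := Set.mem_iUnion₂.mp (ht hxU)
  obtain ⟨c, rfl⟩ : (e k : ℤ) ∣ n := (Int.natCast_dvd_natCast.mpr (Finset.dvd_prod_of_mem e hk)).trans hn
  obtain ⟨i, j, a, b, hdeg, hab⟩ := GrModFrac.exists_unitFrac (hg k) c
  replace hdeg : (i : ℤ) = j + (e k : ℤ) * c := by rw [hdeg]; ring
  let f := RelProj.emb q chart (V k) (hV k)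
  let O : X.Opens := f ''ᵁ Proj.basicOpen (𝒮.deg (V k) (hV k)) (g k)
  have hO : O ≤ q ⁻¹ᵁ V k := GrModFrac.le_preimage_of_image chart (V k) (hV k) _
  have hy : ∀ z : (f ⁻¹ᵁ O : (Proj (𝒮.deg (V k) (hV k))).Opens),
      g k ∉ (show ProjectiveSpectrum (𝒮.deg (V k) (hV k)) from z.1).asHomogeneousIdeal := fun z =>
    ((Scheme.Hom.preimage_image_eq f (Proj.basicOpen (𝒮.deg (V k) (hV k)) (g k))).le z.2 : _)
  obtain ⟨σ, hσ⟩ := (hL.bijective (V k) (hV k) O hO).2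
    (GrModFrac.twistFrac (f ⁻¹ᵁ O) a b (fun z => (hab z.1 (hy z)).2) hdeg)
  refine ⟨O, σ, hxk, fun W hW => ?_⟩
  refine GrModFrac.bijective_smul_relTwist hL (V k) (hV k) (hW.trans hO) _ a b hdeg
    (fun z => (hab z.1 (hy ⟨z.1, hW z.2⟩)).1) (fun z => (hab z.1 (hy ⟨z.1, hW z.2⟩)).2) fun z => ?_
  rw [GrModFrac.val_lam_map lam (V k) (hV k) hW σ z, hσ]
  rfl

end Groth.Agent.S8290
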