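import Groth.Statements.S8292
import Groth.Agent.RelProjBasic.Local
import Groth.Agent.RelProjBasic.ProjMap

set_option autoImplicit false
universe u
open CategoryTheory CategoryTheory.Limits AlgebraicGeometry Opposite TopologicalSpace
open scoped HomogeneousIdeal
noncomputable section
open EGA2

namespace Groth.Agent.S8292

/-- Let 𝒮 be a quasi-coherent positively graded O_Y-algebra generated by 𝒮_1, M a quasi-coherent
O_Y-module and u : M → 𝒮_1 a surjective module map; let ū : Sym(M) → 𝒮 be the graded algebra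
homomorphism extending u. Then the morphism Proj(𝒮) → P(M) = Proj(Sym(M)) induced by ū is a closed
immersion. -/
theorem result {Y PT PS : Scheme.{u}} (𝒮 𝒯 : RelProj.QCGrAlg Y)
    (hgen : 𝒮.IsGenDegOne) (M : Y.Modules) (hM : Coh.IsQCoh M)
    (u : M ⟶ 𝒮.toModule)
    (hu1 : ∀ (U : Y.Opens) (hU : IsAffineOpen U) (x : Γ(M, U)), (u.app U) x ∈ 𝒮.deg U hU 1)
    (husurj : ∀ (U : Y.Opens) (hU : IsAffineOpen U) (s : 𝒮.presheaf.obj (op U)), s ∈ 𝒮.deg U hU 1 →
      ∃ x : Γ(M, U), (u.app U) x = s)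
    (j : M ⟶ 𝒯.toModule) (hT : RelProj.IsGrSymAlg M 𝒯 j)
    (ubar : 𝒯.toQCAlg ⟶ 𝒮.toQCAlg) (hubar : RelProj.IsGradedHom ubar)
    (hju : j ≫ RelSpec.QCAlg.Hom.toModuleMap ubar = u)
    (hirr : ∀ (U : Y.Opens) (hU : IsAffineOpen U),
      (𝒮.deg U hU)₊ ≤ ((𝒯.deg U hU)₊).map (RelProj.gradedHomAt ubar hubar U hU))
    (pT : PT ⟶ Y) (pS : PS ⟶ Y)
    (chartT : ∀ (U : Y.Opens) (hU : IsAffineOpen U), (((pT ⁻¹ᵁ U : PT.Opens) : Scheme.{u}) ≅ Proj (𝒯.deg U hU)))
    (chartS : ∀ (U : Y.Opens) (hU : IsAffineOpen U), (((pS ⁻¹ᵁ U : PS.Opens) : Scheme.{u}) ≅ Proj (𝒮.deg U hU)))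
    (hPT : RelProj.IsRelProj 𝒯 pT chartT) (hPS : RelProj.IsRelProj 𝒮 pS chartS)
    (h : PS ⟶ PT) (hh : RelProj.IsRelProjMap ubar hubar hirr chartT chartS h) : IsClosedImmersion h := by
  refine Groth.Agent.RelProjBasic.of_charts hPT hPS hh (P := @IsClosedImmersion) fun U hU => ?_
  refine Groth.Agent.RelProjBasic.isClosedImmersion_map _ _ fun n hn b hb => ?_
  classical
  let 𝒜 := 𝒯.deg U hU
  let ℬ := 𝒮.deg U hU
  let Φ := RelProj.gradedHomAt ubar hubar U hU
  let R : ℕ → 𝒮.presheaf.obj (op U) → Prop := fun n b => ∃ a ∈ 𝒜 n, Φ a = b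
  have hR0 : ∀ n, R n 0 := fun n => ⟨0, zero_mem _, map_zero Φ⟩
  have hRadd : ∀ n x y, R n x → R n y → R n (x + y) := by
    rintro n _ _ ⟨a, ha, rfl⟩ ⟨a', ha', rfl⟩
    exact ⟨a + a', add_mem ha ha', map_add Φ a a'⟩
  let P : 𝒮.presheaf.obj (op U) → Prop := fun x =>
    ∀ n, 0 < n → ∀ c ∈ ℬ 0, R n (c * DirectSum.decompose ℬ x n)
  have hPadd : ∀ x y, P x → P y → P (x + y) := fun x y hx hy n hn c hc => by
    rw [DirectSum.decompose_add, DirectSum.add_apply, AddMemClass.coe_add, mul_add]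
    exact hRadd _ _ _ (hx n hn c hc) (hy n hn c hc)
  have hhom : ∀ {i : ℕ} {x : 𝒮.presheaf.obj (op U)}, x ∈ ℬ i → (∀ c ∈ ℬ 0, 0 < i → R i (c * x)) → P x := by
    intro i x hx h n hn c hc
    by_cases e : i = n
    · subst e
      rw [DirectSum.decompose_of_mem_same ℬ hx]
      exact h c hc hn
    · rw [DirectSum.decompose_of_mem_ne ℬ hx e, mul_zero]
      exact hR0 n
  have key : ∀ x, P x := by
    intro x
    have hx : x ∈ Subring.closure ((𝒮.deg U hU 0 : Set (𝒮.presheaf.obj (op U))) ∪ (𝒮.deg U hU 1 : Set _)) :=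
      hgen U hU ▸ trivial
    induction hx using Subring.closure_induction with
    | mem x hx =>
      rcases hx with hx | hx
      · exact hhom (i := 0) hx fun _ _ h => absurd h (lt_irrefl 0)
      · refine hhom (i := 1) hx fun c hc _ => ?_
        obtain ⟨m, hm⟩ := husurj U hU (c * x) (by simpa using SetLike.mul_mem_graded hc hx)
        refine ⟨j.app U m, hT.2 U hU m, Eq.trans ?_ hm⟩
        exact congrArg (fun f : M ⟶ 𝒮.toModule => f.app U m) hju
    | zero => exact hhom (i := 0) (zero_mem _) fun _ _ h => absurd h (lt_irrefl 0)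
    | one => exact hhom (i := 0) (SetLike.one_mem_graded ℬ) fun _ _ h => absurd h (lt_irrefl 0)
    | add x y _ _ hx hy => exact hPadd x y hx hy
    | neg x _ hx =>
      intro n hn c hc
      obtain ⟨a, ha, he⟩ := hx n hn c hc
      refine ⟨-a, neg_mem ha, ?_⟩
      rw [map_neg, he, DirectSum.decompose_neg, DFinsupp.neg_apply, NegMemClass.coe_neg, mul_neg]
    | mul x y _ _ hx hy =>
      have hP0 : P 0 := hhom (i := 0) (zero_mem _) fun _ _ h => absurd h (lt_irrefl 0)
      rw [← DirectSum.sum_support_decompose ℬ x, ← DirectSum.sum_support_decompose ℬ y, Finset.sum_mul_sum]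
      refine Finset.sum_induction _ P hPadd hP0 fun i _ => Finset.sum_induction _ P hPadd hP0 fun k _ => ?_
      have hxi := SetLike.coe_mem (DirectSum.decompose ℬ x i)
      have hyk := SetLike.coe_mem (DirectSum.decompose ℬ y k)
      refine hhom (SetLike.mul_mem_graded hxi hyk) fun c hc hik => ?_
      rcases Nat.eq_zero_or_pos i with hi | hi
      · subst hi
        have := hy k (by omega) (c * DirectSum.decompose ℬ x 0) (by simpa using SetLike.mul_mem_graded hc hxi)
        simpa [R, mul_assoc] using this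
      rcases Nat.eq_zero_or_pos k with hk | hk
      · subst hk
        have := hx i (by omega) (c * DirectSum.decompose ℬ y 0) (by simpa using SetLike.mul_mem_graded hc hyk)
        simpa [R, mul_assoc, mul_left_comm, mul_comm] using this
      obtain ⟨a, ha, hea⟩ := hx i hi c hc
      obtain ⟨a', ha', hea'⟩ := hy k hk 1 (SetLike.one_mem_graded ℬ)
      exact ⟨a * a', SetLike.mul_mem_graded ha ha', by rw [map_mul, hea, hea', one_mul, mul_assoc]⟩
  have := key b n hn 1 (SetLike.one_mem_graded ℬ)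
  rwa [DirectSum.decompose_of_mem_same ℬ hb, one_mul] at this


end Groth.Agent.S8292
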