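import Groth.Statements.S8295
import Groth.Agent.SymAlgExist.Spec
import Mathlib.AlgebraicGeometry.Morphisms.ClosedImmersion
-- import your own Groth.Agent.* helpers here

set_option autoImplicit false
universe u
open CategoryTheory CategoryTheory.Limits AlgebraicGeometry Opposite TopologicalSpace
open scoped HomogeneousIdeal
noncomputable section
open EGA2

namespace Groth.Agent.S8295

/-- The vertex section of the affine cone: let 𝒮 be a quasi-coherent positively graded O_Y-algebra with
𝒮_0 = O_Y, aug : 𝒮 → O_Y its augmentation (the algebra homomorphism over O_Y that vanishes on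
sections of positive degree) and C = Spec(𝒮) the affine cone. There is exactly one morphism ε : Y →
C which is a section of the structure morphism and which over every affine open U of Y is, on Spec
O_Y(U), the morphism Spec of aug(U) followed by the chart Spec 𝒮(U) → C; moreover every such ε is a
closed immersion. -/
theorem result {Y : Scheme.{u}} (𝒮 : RelProj.QCGrAlg Y)
    (h0 : RelCone.StrZeroBij 𝒮) (aug : 𝒮.toQCAlg ⟶ RelSpec.QCAlg.unit Y) (haug : RelCone.IsAugmentation 𝒮 aug) :
    (∃! ε : Y ⟶ 𝒮.toQCAlg.spec, RelCone.IsVertex 𝒮 aug ε) ∧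
      ∀ ε : Y ⟶ 𝒮.toQCAlg.spec, RelCone.IsVertex 𝒮 aug ε → IsClosedImmersion ε := by
  have hπ : IsIso (RelSpec.QCAlg.unit Y).π := by
    refine (MorphismProperty.isomorphisms.iff _).mp
      (Groth.Agent.SymAlgExist.π_of_charts (P := MorphismProperty.isomorphisms Scheme.{u}) (RelSpec.QCAlg.unit Y) fun U hU => ?_)
    show IsIso (Spec.map (𝟙 _))
    infer_instance
  have hfs : ∀ (U : Y.Opens) (hU : IsAffineOpen U),
      hU.fromSpec ≫ inv (RelSpec.QCAlg.unit Y).π = (RelSpec.QCAlg.unit Y).ι U hU := by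
    intro U hU
    rw [IsIso.comp_inv_eq]
    refine Eq.trans ?_ ((RelSpec.QCAlg.unit Y).ι_π U hU).symm
    show hU.fromSpec = Spec.map (𝟙 _) ≫ _
    rw [Spec.map_id, Category.id_comp]
  let ε := inv (RelSpec.QCAlg.unit Y).π ≫ RelSpec.QCAlg.specMap aug
  have hε : RelCone.IsVertex 𝒮 aug ε := by
    refine ⟨?_, fun U hU => ?_⟩
    · rw [Category.assoc, RelSpec.QCAlg.specMap_π, IsIso.inv_hom_id]
    · rw [← Category.assoc, hfs]
      exact RelSpec.QCAlg.ι_specMap U hU aug
  have huniq : ∀ ε' : Y ⟶ 𝒮.toQCAlg.spec, RelCone.IsVertex 𝒮 aug ε' → ε' = ε := by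
    intro ε' h
    refine (Y.openCoverOfIsOpenCover (fun U : Y.affineOpens => U.1) (IsOpenCover.mk (iSup_affineOpens_eq_top Y))).hom_ext _ _
      fun U => ?_
    show U.1.ι ≫ ε' = U.1.ι ≫ ε
    rw [← U.2.isoSpec_hom_fromSpec]
    simp only [Category.assoc, h.chart U.1 U.2, hε.chart U.1 U.2]
  refine ⟨⟨ε, hε, huniq⟩, fun ε' h => ?_⟩
  rw [huniq ε' h]
  have hc : IsClosedImmersion (RelSpec.QCAlg.specMap aug) := by
    refine Groth.Agent.SymAlgExist.specMap_of_charts (P := @IsClosedImmersion) aug fun U hU => ?_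
    refine IsClosedImmersion.spec_of_surjective _ fun r => ⟨(𝒮.str.app (op U)).hom r, ?_⟩
    exact ConcreteCategory.congr_hom (NatTrans.congr_app aug.comm (op U)) r
  exact inferInstanceAs (IsClosedImmersion (inv (RelSpec.QCAlg.unit Y).π ≫ RelSpec.QCAlg.specMap aug))

end Groth.Agent.S8295
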