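import Groth.Statements.S8296
import Groth.Agent.RelProjBasic.Pointed

set_option autoImplicit false
universe u
open CategoryTheory CategoryTheory.Limits AlgebraicGeometry Opposite TopologicalSpace
open scoped HomogeneousIdeal
noncomputable section
open EGA2

namespace Groth.Agent.S8296

/-- The pointed affine cone: let 𝒮 be a quasi-coherent positively graded O_Y-algebra with 𝒮_0 = O_Y, aug
its augmentation, C = Spec(𝒮) its affine cone and ε : Y → C the vertex section. Then the open subset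
of C which is the union, over the affine opens U of Y, of the chart images of the complements of the
closed sets V(𝒮(U)_+) in Spec 𝒮(U), is exactly the complement of ε(Y); in other words the pointed
affine cone E, defined chart by chart through the irrelevant ideals, is C − ε(Y). -/
theorem result {Y : Scheme.{u}} (𝒮 : RelProj.QCGrAlg Y)
    (h0 : RelCone.StrZeroBij 𝒮) (aug : 𝒮.toQCAlg ⟶ RelSpec.QCAlg.unit Y) (haug : RelCone.IsAugmentation 𝒮 aug)
    (ε : Y ⟶ 𝒮.toQCAlg.spec) (hε : RelCone.IsVertex 𝒮 aug ε) :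
    ((RelCone.pointedCone 𝒮 : 𝒮.toQCAlg.spec.Opens) : Set 𝒮.toQCAlg.spec) = (Set.range ε.base)ᶜ := by
  have haug' : ∀ (U : Y.Opens) (hU : IsAffineOpen U),
      RingHom.ker (aug.hom.app (op U)).hom = ((𝒮.deg U hU)₊).toIdeal ∧ Function.Surjective (aug.hom.app (op U)).hom := by
    intro U hU
    have hsec : ∀ r, (aug.hom.app (op U)).hom ((𝒮.str.app (op U)).hom r) = r := fun r =>
      ConcreteCategory.congr_hom (NatTrans.congr_app aug.comm (op U)) r
    refine ⟨le_antisymm (fun x hx => ?_) ((HomogeneousIdeal.toIdeal_irrelevant_le _).mpr fun i hi a ha => ?_), fun r => ⟨_, hsec r⟩⟩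
    · classical
      obtain ⟨r, hr⟩ := (h0 U hU).2 (DirectSum.decompose (𝒮.deg U hU) x 0)
      have hx0 : x - (DirectSum.decompose (𝒮.deg U hU) x 0 : 𝒮.presheaf.obj (op U)) ∈ ((𝒮.deg U hU)₊).toIdeal := by
        show _ ∈ HomogeneousIdeal.irrelevant (𝒮.deg U hU)
        rw [HomogeneousIdeal.mem_irrelevant_iff, map_sub, GradedRing.proj_apply, GradedRing.proj_apply,
          DirectSum.decompose_of_mem_same _ (SetLike.coe_mem _), sub_self]
      have hker : ((𝒮.deg U hU)₊).toIdeal ≤ RingHom.ker (aug.hom.app (op U)).hom :=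
        (HomogeneousIdeal.toIdeal_irrelevant_le _).mpr fun i hi a ha => by
          obtain ⟨d, rfl⟩ := Nat.exists_eq_succ_of_ne_zero hi.ne'
          exact haug U hU d a ha
      have h := hker hx0
      rw [RingHom.mem_ker, map_sub, RingHom.mem_ker.mp hx, zero_sub, neg_eq_zero, ← hr, RelProj.QCGrAlg.strZero_apply_coe, hsec] at h
      rw [← hr, RelProj.QCGrAlg.strZero_apply_coe, show r = (0 : Γ(Y, U)) from h, map_zero, sub_zero] at hx0
      exact hx0
    · obtain ⟨d, rfl⟩ := Nat.exists_eq_succ_of_ne_zero hi.ne'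
      exact haug U hU d a ha
  refine Set.ext fun c => ?_
  obtain ⟨U, hU, hyU, -⟩ := exists_isAffineOpen_mem_and_subset (x := 𝒮.toQCAlg.π c) (U := ⊤) (TopologicalSpace.Opens.mem_top _)
  obtain ⟨x, rfl⟩ := (𝒮.toQCAlg.π_preimage U hU).le (show c ∈ 𝒮.toQCAlg.π ⁻¹ᵁ U from hyU)
  obtain ⟨hk, hs⟩ := haug' U hU
  have hz : x ∈ Set.range (Spec.map (aug.hom.app (op U))) ↔ ((𝒮.deg U hU)₊).toIdeal ≤ x.asIdeal := by
    rw [show Set.range (Spec.map (aug.hom.app (op U))) = Set.range (PrimeSpectrum.comap (aug.hom.app (op U)).hom) from rfl,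
      range_comap_of_surjective _ _ hs, hk]
    rfl
  refine (SetLike.ext_iff.mp (Groth.Agent.RelProjBasic.preimage_pointedCone 𝒮 U hU) x).trans
    (not_congr ⟨fun h => ?_, ?_⟩)
  · obtain ⟨w, hw⟩ := hz.mpr h
    exact ⟨hU.fromSpec w, (congrArg (fun g => g.base w) (hε.chart U hU)).trans (congrArg (𝒮.toQCAlg.ι U hU) hw)⟩
  · rintro ⟨y, hy⟩
    have hy' : y ∈ U := by
      have e : 𝒮.toQCAlg.π (ε y) = y := congrArg (fun g => g.base y) hε.comp_π
      rw [hy] at e
      exact e ▸ hyU
    obtain ⟨w, rfl⟩ : y ∈ Set.range hU.fromSpec := by rw [hU.range_fromSpec]; exact hy'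
    exact hz.mp ⟨w, (𝒮.toQCAlg.ι U hU).isOpenEmbedding.injective
      ((congrArg (fun g => g.base w) (hε.chart U hU)).symm.trans hy)⟩

end Groth.Agent.S8296
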