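import Groth.Statements.S8297
import Groth.Agent.RelProjBasic.ConeVertex
import Groth.Agent.RelProjBasic.Local
-- import your own Groth.Agent.* helpers here

set_option autoImplicit false
universe u
open CategoryTheory CategoryTheory.Limits AlgebraicGeometry Opposite TopologicalSpace
open scoped HomogeneousIdeal
noncomputable section
open EGA2

namespace Groth.Agent.S8297

open Groth.Agent

theorem exists_pos_notMem {A B σ τ : Type u} [CommRing A] [SetLike σ A] [AddSubgroupClass σ A] [CommRing B]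
    [SetLike τ B] [AddSubgroupClass τ B] {𝒜 : ℕ → σ} [GradedRing 𝒜] {ℬ : ℕ → τ} [GradedRing ℬ] (φ : 𝒜 →+*ᵍ ℬ)
    (y : ProjectiveSpectrum ℬ) {n : ℕ} (hn : 0 < n) {h : B} (hh : h ∈ ℬ n) (hy : h ∉ y.asHomogeneousIdeal)
    (c : A) (hc : h - φ c ∈ y.asHomogeneousIdeal) :
    ∃ (j : ℕ) (g : A), 0 < j ∧ g ∈ 𝒜 j ∧ φ g ∉ y.asHomogeneousIdeal := by
  classical
  by_contra hcon
  push Not at hcon
  have h1 : φ c - φ (DirectSum.decompose 𝒜 c 0 : A) ∈ y.asHomogeneousIdeal.toIdeal := by
    rw [← map_sub]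
    have h0 : c - (DirectSum.decompose 𝒜 c 0 : A) ∈ (𝒜₊).toIdeal := by
      show c - (DirectSum.decompose 𝒜 c 0 : A) ∈ 𝒜₊
      rw [HomogeneousIdeal.mem_irrelevant_iff, map_sub]
      simp [GradedRing.proj_apply]
    exact (HomogeneousIdeal.toIdeal_irrelevant_le 𝒜).mpr
      (show ∀ i, 0 < i → ∀ a ∈ 𝒜 i, a ∈ y.asHomogeneousIdeal.toIdeal.comap φ from fun i hi a ha => hcon i a hi ha) h0
  have h2 : h - φ (DirectSum.decompose 𝒜 c 0 : A) ∈ y.asHomogeneousIdeal.toIdeal := by
    have := add_mem (s := y.asHomogeneousIdeal.toIdeal) hc h1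
    rwa [sub_add_sub_cancel] at this
  have h3 := y.asHomogeneousIdeal.isHomogeneous n h2
  rw [DirectSum.decompose_sub, DirectSum.sub_apply, AddSubgroupClass.coe_sub, DirectSum.decompose_of_mem_same ℬ hh,
    DirectSum.decompose_of_mem_ne ℬ (show φ (DirectSum.decompose 𝒜 c 0 : A) ∈ ℬ 0 from φ.map_mem (DirectSum.decompose 𝒜 c 0).2) hn.ne, sub_zero] at h3
  exact hy h3

theorem awayZ_bijective {Y : Scheme.{u}} {𝒮 𝒮h : RelProj.QCGrAlg Y} {ι : 𝒮.toQCAlg ⟶ 𝒮h.toQCAlg}
    {z : 𝒮h.presheaf.obj (op ⊤)} (hz : RelCone.IsPolyOver 𝒮 𝒮h ι z) (U : Y.Opens) (hU : IsAffineOpen U) :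
    Function.Bijective (hz.awayZToBase U hU) := by
  classical
  let e := RelCone.restrictTop 𝒮h z U
  let ψ := RelProj.gradedHomAt ι hz.graded U hU
  have hev : ∀ (n : ℕ) (x : 𝒮h.presheaf.obj (op U)) (hx : x ∈ 𝒮h.deg U hU (n • 1)),
      hz.awayZToBase U hU (HomogeneousLocalization.Away.mk _ (hz.deg_z U hU) n x hx) = hz.evalOne U hU x :=
    fun n x hx => hz.awayZToBase_of_val U hU _ x n (HomogeneousLocalization.Away.val_mk ..)
  refine ⟨(injective_iff_map_eq_zero _).mpr fun s hs => ?_, fun a => ?_⟩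
  · obtain ⟨k, x, hx, rfl⟩ := HomogeneousLocalization.Away.mk_surjective _ (hz.deg_z U hU) s
    rw [hev] at hs
    have hx' : x ∈ 𝒮h.deg U hU k := by simpa using hx
    obtain ⟨P, hP⟩ := (hz.bij U hU).2 x
    let N := P.natDegree + 1
    let d : ℕ → 𝒮.presheaf.obj (op U) := fun j => if j ≤ k then (DirectSum.decompose (𝒮.deg U hU) (P.coeff j) (k - j) : 𝒮.presheaf.obj (op U)) else 0
    have hxd : x = ∑ j ∈ Finset.range N, ψ (d j) * e ^ j := by
      refine (DirectSum.decompose_of_mem_same (𝒮h.deg U hU) hx').symm.trans ?_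
      rw [← hP, show Polynomial.eval₂RingHom (ι.hom.app (op U)).hom e P = ∑ j ∈ Finset.range N, ψ (P.coeff j) * e ^ j from
        Polynomial.eval₂_eq_sum_range _ _, DirectSum.decompose_sum, DFinsupp.finsetSum_apply, AddSubmonoidClass.coe_finsetSum]
      refine Finset.sum_congr rfl fun j _ => ?_
      have hej : e ^ j ∈ 𝒮h.deg U hU j := by simpa using SetLike.pow_mem_graded j (hz.deg_z U hU)
      by_cases hjk : j ≤ k
      · rw [DirectSum.coe_decompose_mul_of_right_mem_of_le _ hej hjk]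
        rw [← map_directSumDecompose (𝒮.deg U hU) (𝒮h.deg U hU) ψ]
        simp [d, hjk]
      · rw [DirectSum.coe_decompose_mul_of_right_mem_of_not_le _ hej hjk]
        simp [d, hjk]
    have hd0 : ∀ j ∈ Finset.range N, d j = 0 := by
      intro j hj
      by_cases hjk : j ≤ k
      · have h1 : (∑ j ∈ Finset.range N, d j) = 0 := by
          rw [← hs, hxd, map_sum]
          refine Finset.sum_congr rfl fun i _ => ?_
          rw [map_mul, map_pow, hz.evalOne_z, one_pow, mul_one]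
          exact (hz.evalOne_ι U hU (d i)).symm
        have h2 := congrArg (GradedRing.proj (𝒮.deg U hU) (k - j)) h1
        rw [map_sum, map_zero, Finset.sum_eq_single j] at h2
        · simpa [d, hjk, GradedRing.proj_apply] using h2
        · intro i _ hij
          by_cases hik : i ≤ k
          · simp only [d, if_pos hik, GradedRing.proj_apply]
            exact DirectSum.decompose_of_mem_ne _ (SetLike.coe_mem _) (by omega)
          · simp [d, hik]
        · exact fun h => absurd hj h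
      · simp [d, hjk]
    apply HomogeneousLocalization.val_injective
    rw [HomogeneousLocalization.Away.val_mk, HomogeneousLocalization.val_zero, hxd,
      Finset.sum_eq_zero fun j hj => by rw [hd0 j hj, map_zero, zero_mul]]
    exact Localization.mk_zero _
  · refine ⟨∑ i ∈ (DirectSum.decompose (𝒮.deg U hU) a).support, HomogeneousLocalization.Away.mk _ (hz.deg_z U hU) i
      (ψ (DirectSum.decompose (𝒮.deg U hU) a i : 𝒮.presheaf.obj (op U))) (by simpa using ψ.map_mem (DirectSum.decompose (𝒮.deg U hU) a i).2), ?_⟩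
    rw [map_sum]
    refine (Finset.sum_congr rfl fun i _ => ?_).trans (DirectSum.sum_support_decompose (𝒮.deg U hU) a)
    rw [hev]
    exact hz.evalOne_ι U hU _

/-- The relation i(C) = Ĉ − j(X): let 𝒮 be a quasi-coherent positively graded O_Y-algebra with 𝒮_0 =
O_Y, Ŝ = 𝒮[z] (given through a graded homomorphism ι : 𝒮 → Ŝ and a global section z of degree one,
the map 𝒮(U)[X] → Ŝ(U), X ↦ z, being bijective over every affine open U), C = Spec(𝒮) the affine
cone, Ĉ = Proj(Ŝ) the projective cone and X = Proj(𝒮), each relative homogeneous spectrum given with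
its charts; let i : C → Ĉ be the canonical open immersion (chartwise Spec of Ŝ(U)_(z) → 𝒮(U), z ↦ 1,
followed by the inclusion of D_+(z)), θ : Ŝ → 𝒮 the graded retraction of ι sending z to 0, and j : X
→ Ĉ the morphism chartwise induced by θ (the immersion of the locus at infinity). Then the
underlying set of the image of i is the complement of the image of j. -/
theorem result {Y PC P : Scheme.{u}} (𝒮 𝒮h : RelProj.QCGrAlg Y) (h0 : RelCone.StrZeroBij 𝒮)
    (ι : 𝒮.toQCAlg ⟶ 𝒮h.toQCAlg) (z : 𝒮h.presheaf.obj (op ⊤)) (hz : RelCone.IsPolyOver 𝒮 𝒮h ι z)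
    (pC : PC ⟶ Y)
    (chartC : ∀ (U : Y.Opens) (hU : IsAffineOpen U), (((pC ⁻¹ᵁ U : PC.Opens) : Scheme.{u}) ≅ Proj (𝒮h.deg U hU)))
    (hPC : RelProj.IsRelProj 𝒮h pC chartC)
    (i : 𝒮.toQCAlg.spec ⟶ PC) (hi : RelCone.IsConeImm 𝒮 hz pC chartC i)
    (θ : 𝒮h.toQCAlg ⟶ 𝒮.toQCAlg) (hθ : RelProj.IsGradedHom θ) (hιθ : ι ≫ θ = 𝟙 _)
    (hθz : (θ.hom.app (op ⊤)).hom z = 0)
    (hirr : ∀ (U : Y.Opens) (hU : IsAffineOpen U),
      (𝒮.deg U hU)₊ ≤ ((𝒮h.deg U hU)₊).map (RelProj.gradedHomAt θ hθ U hU))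
    (p : P ⟶ Y)
    (chart : ∀ (U : Y.Opens) (hU : IsAffineOpen U), (((p ⁻¹ᵁ U : P.Opens) : Scheme.{u}) ≅ Proj (𝒮.deg U hU)))
    (hP : RelProj.IsRelProj 𝒮 p chart) (j : P ⟶ PC) (hj : RelProj.IsRelProjMap θ hθ hirr chartC chart j) :
    Set.range i.base = (Set.range j.base)ᶜ := by
  have hjp : j ≫ pC = p := RelProjBasic.comp_eq hPC hP hj
  have hjc : ∀ (U : Y.Opens) (hU : IsAffineOpen U) (y0 : Proj (𝒮.deg U hU)),
      RelProj.emb pC chartC U hU (Proj.map (RelProj.gradedHomAt θ hθ U hU) (hirr U hU) y0) = j (RelProj.emb p chart U hU y0) := by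
    intro U hU y0
    have h : RelProj.emb p chart U hU ≫ j = Proj.map (RelProj.gradedHomAt θ hθ U hU) (hirr U hU) ≫ RelProj.emb pC chartC U hU := by
      rw [RelProj.emb, Category.assoc, hj U hU, Iso.inv_hom_id_assoc]
      rfl
    exact (congrArg (fun m => m.base y0) h).symm
  have hθe : ∀ U : Y.Opens, (θ.hom.app (op U)).hom (RelCone.restrictTop 𝒮h z U) = 0 := fun U =>
    (ConcreteCategory.congr_hom (θ.hom.naturality (homOfLE (le_top : U ≤ ⊤)).op) z).trans
      ((congrArg (fun b => (𝒮.presheaf.map (homOfLE (le_top : U ≤ ⊤)).op).hom b) hθz).trans (map_zero _))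
  refine Set.ext fun x => ⟨?_, fun hx => ?_⟩
  · rintro ⟨c, rfl⟩ ⟨p0, hp0⟩
    obtain ⟨V, hV, hcV, -⟩ := exists_isAffineOpen_mem_and_subset (X := Y) (x := 𝒮.toQCAlg.π c) (U := ⊤) trivial
    obtain ⟨w, rfl⟩ := (𝒮.toQCAlg.π_preimage V hV).le hcV
    let yv : Proj (𝒮h.deg V hV) := Proj.awayι (𝒮h.deg V hV) _ (hz.deg_z V hV) one_pos
      (Spec.map (CommRingCat.ofHom (hz.awayZToBase V hV)) w)
    have hyv : RelProj.emb pC chartC V hV yv = i (𝒮.toQCAlg.ι V hV w) := (congrArg (fun m => m.base w) (hi V hV)).symm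
    have hpV : p p0 ∈ V := by
      have h1 := RelProjBasic.emb_mem (chart := chartC) V hV yv
      rw [hyv, ← hp0, ← Scheme.Hom.comp_apply, hjp] at h1
      exact h1
    obtain ⟨y0, rfl⟩ := RelProjBasic.exists_emb_eq (p := p) (chart := chart) V hV p0 hpV
    have h2 : yv = Proj.map (RelProj.gradedHomAt θ hθ V hV) (hirr V hV) y0 :=
      (RelProj.emb pC chartC V hV).isOpenEmbedding.injective (hyv.trans (hp0.symm.trans (hjc V hV y0).symm))
    have h3 := (ProjectiveSpectrum.mem_basicOpen _ _ _).mp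
      ((Proj.opensRange_awayι (𝒮h.deg V hV) _ (hz.deg_z V hV) one_pos).le ⟨_, h2⟩)
    exact h3 (show (θ.hom.app (op V)).hom (RelCone.restrictTop 𝒮h z V) ∈ (y0 : ProjectiveSpectrum (𝒮.deg V hV)).asHomogeneousIdeal from
      (hθe V).symm ▸ zero_mem _)
  · obtain ⟨U, hU, hxU, -⟩ := exists_isAffineOpen_mem_and_subset (X := Y) (x := pC x) (U := ⊤) trivial
    obtain ⟨y, rfl⟩ := RelProjBasic.exists_emb_eq (p := pC) (chart := chartC) U hU x hxU
    let yy : ProjectiveSpectrum (𝒮h.deg U hU) := y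
    let e := RelCone.restrictTop 𝒮h z U
    let ψ := RelProj.gradedHomAt ι hz.graded U hU
    let θU := RelProj.gradedHomAt θ hθ U hU
    by_cases he : e ∈ yy.asHomogeneousIdeal
    · exfalso
      apply hx
      have hmod : ∀ b, b - ψ (θU b) ∈ yy.asHomogeneousIdeal.toIdeal := by
        intro b
        obtain ⟨P, rfl⟩ := (hz.polyEquiv U hU).surjective b
        rw [hz.polyEquiv_apply]
        induction P using Polynomial.induction_on with
        | C a =>
          rw [Polynomial.eval₂_C]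
          show (ι.hom.app (op U)).hom a - (ι.hom.app (op U)).hom ((θ.hom.app (op U)).hom ((ι.hom.app (op U)).hom a)) ∈ _
          rw [show (θ.hom.app (op U)).hom ((ι.hom.app (op U)).hom a) = a from
            RingHom.congr_fun (congrArg (fun f : 𝒮.toQCAlg ⟶ 𝒮.toQCAlg => (f.hom.app (op U)).hom) hιθ) a, sub_self]
          exact zero_mem _
        | add P Q hP hQ =>
          rw [Polynomial.eval₂_add, map_add, map_add, add_sub_add_comm]
          exact add_mem hP hQ
        | monomial n a _ =>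
          rw [Polynomial.eval₂_mul, Polynomial.eval₂_C, Polynomial.eval₂_pow, Polynomial.eval₂_X, map_mul, map_pow,
            show θU e = 0 from hθe U, zero_pow (Nat.succ_ne_zero n), mul_zero, map_zero, sub_zero]
          exact Ideal.mul_mem_left _ _ (Ideal.pow_mem_of_mem _ he _ n.succ_pos)
      obtain ⟨n, h, hn, hh, hhy⟩ : ∃ (n : ℕ) (h : 𝒮h.presheaf.obj (op U)), 0 < n ∧ h ∈ 𝒮h.deg U hU n ∧ h ∉ yy.asHomogeneousIdeal := by
        by_contra hc
        push Not at hc
        exact yy.not_irrelevant_le ((HomogeneousIdeal.toIdeal_irrelevant_le _).mpr fun i hi a ha => hc i a hi ha)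
      obtain ⟨k, g, hk, hg, hgy⟩ := exists_pos_notMem ψ yy hn hh hhy _ (hmod h)
      let y0 : ProjectiveSpectrum (𝒮.deg U hU) := ⟨yy.asHomogeneousIdeal.comap ψ, yy.isPrime.comap _,
        fun hle => hgy (hle (HomogeneousIdeal.mem_irrelevant_of_mem _ hk hg))⟩
      refine ⟨RelProj.emb p chart U hU y0, (hjc U hU y0).symm.trans (congrArg (RelProj.emb pC chartC U hU) ?_)⟩
      refine ProjectiveSpectrum.ext (HomogeneousIdeal.ext (Ideal.ext fun b => ?_))
      show ψ (θU b) ∈ yy.asHomogeneousIdeal.toIdeal ↔ b ∈ yy.asHomogeneousIdeal.toIdeal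
      exact ⟨fun h1 => by simpa using add_mem (hmod b) h1, fun h1 => by simpa using sub_mem h1 (hmod b)⟩
    · obtain ⟨q, hq⟩ := (Proj.opensRange_awayι (𝒮h.deg U hU) e (hz.deg_z U hU) one_pos).ge
        ((ProjectiveSpectrum.mem_basicOpen _ _ _).mpr he)
      haveI : IsIso (CommRingCat.ofHom (hz.awayZToBase U hU)) :=
        (ConcreteCategory.isIso_iff_bijective _).mpr (awayZ_bijective hz U hU)
      obtain ⟨w, hw⟩ := (Spec.map (CommRingCat.ofHom (hz.awayZToBase U hU))).surjective q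
      refine ⟨𝒮.toQCAlg.ι U hU w, (congrArg (fun m => m.base w) (hi U hU)).trans (congrArg (RelProj.emb pC chartC U hU) ?_)⟩
      exact (congrArg _ hw).trans hq

end Groth.Agent.S8297
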