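import Groth.Statements.S8298
import Groth.Agent.RelProjBasic.ConeVertex

set_option autoImplicit false
universe u
open CategoryTheory CategoryTheory.Limits AlgebraicGeometry Opposite TopologicalSpace
open scoped HomogeneousIdeal
noncomputable section
open EGA2

namespace Groth.Agent.S8298

/-- The pointed projective cone: let 𝒮 be a quasi-coherent positively graded O_Y-algebra with 𝒮_0 = O_Y,
aug its augmentation and ε : Y → C = Spec(𝒮) the vertex section; let Ŝ = 𝒮[z] (given through a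
graded homomorphism ι : 𝒮 → Ŝ and a degree-one global section z, polynomial over every affine open),
Ĉ = Proj(Ŝ) its relative homogeneous spectrum with charts, and i : C → Ĉ the canonical open
immersion. Then the open subset of Ĉ which is the union, over the affine opens U of Y, of the chart
images of the opens of Proj Ŝ(U) where the morphism induced by ι(U) : 𝒮(U) → Ŝ(U) is defined (the
complement of V_+ of the ideal generated by ι(𝒮(U)_+)) has underlying set exactly the complement of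
i(ε(Y)): the pointed projective cone Ê is Ĉ minus its vertex section. -/
theorem result {Y PC : Scheme.{u}} (𝒮 𝒮h : RelProj.QCGrAlg Y) (h0 : RelCone.StrZeroBij 𝒮)
    (ι : 𝒮.toQCAlg ⟶ 𝒮h.toQCAlg) (z : 𝒮h.presheaf.obj (op ⊤)) (hz : RelCone.IsPolyOver 𝒮 𝒮h ι z)
    (pC : PC ⟶ Y)
    (chartC : ∀ (U : Y.Opens) (hU : IsAffineOpen U), (((pC ⁻¹ᵁ U : PC.Opens) : Scheme.{u}) ≅ Proj (𝒮h.deg U hU)))
    (hPC : RelProj.IsRelProj 𝒮h pC chartC)
    (aug : 𝒮.toQCAlg ⟶ RelSpec.QCAlg.unit Y) (haug : RelCone.IsAugmentation 𝒮 aug)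
    (ε : Y ⟶ 𝒮.toQCAlg.spec) (hε : RelCone.IsVertex 𝒮 aug ε)
    (i : 𝒮.toQCAlg.spec ⟶ PC) (hi : RelCone.IsConeImm 𝒮 hz pC chartC i) :
    ((RelCone.pointedProjCone 𝒮 hz pC chartC : PC.Opens) : Set PC) = (Set.range (ε ≫ i).base)ᶜ := by
  refine Set.ext fun x => ?_
  obtain ⟨U, hU, hxU, -⟩ := exists_isAffineOpen_mem_and_subset (x := pC x) (U := ⊤) (TopologicalSpace.Opens.mem_top _)
  obtain ⟨y, rfl⟩ := Groth.Agent.RelProjBasic.exists_emb_eq (chart := chartC) U hU x hxU
  have h1 := SetLike.ext_iff.mp (Groth.Agent.RelProjBasic.pointedProjCone_inf hz hPC U hU) (RelProj.emb pC chartC U hU y)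
  have h2 := Set.ext_iff.mp (Groth.Agent.RelProjBasic.range_vertex hz h0 haug U hU) y
  have hch : ∀ (V : Y.Opens) (hV : IsAffineOpen V), hV.fromSpec ≫ ε ≫ i = Spec.map (aug.hom.app (op V)) ≫
      Spec.map (CommRingCat.ofHom (hz.awayZToBase V hV)) ≫
      Proj.awayι (𝒮h.deg V hV) (RelCone.restrictTop 𝒮h z V) (hz.deg_z V hV) one_pos ≫ RelProj.emb pC chartC V hV :=
    fun V hV => (Category.assoc _ _ _).symm.trans ((congrArg (· ≫ i) (hε.chart V hV)).trans
      ((Category.assoc _ _ _).trans (congrArg (Spec.map (aug.hom.app (op V)) ≫ ·) (hi V hV))))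
  have hcomp : hU.fromSpec ≫ ε ≫ i = Spec.map (aug.hom.app (op U)) ≫ Spec.map (CommRingCat.ofHom (hz.awayZToBase U hU)) ≫
      Proj.awayι (𝒮h.deg U hU) (RelCone.restrictTop 𝒮h z U) (hz.deg_z U hU) one_pos ≫ RelProj.emb pC chartC U hU := by
    exact hch U hU
  constructor
  · intro hx hr
    obtain ⟨t, hty, hyt⟩ := h1.mp ⟨hx, hxU⟩
    obtain rfl := (RelProj.emb pC chartC U hU).isOpenEmbedding.injective hyt
    obtain ⟨w, hw⟩ := hr
    -- the point of the base is determined by the image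
    have hipi : i ≫ pC = 𝒮.toQCAlg.π := by
      refine colimit.hom_ext fun V => ?_
      obtain ⟨V, hV⟩ := V
      show 𝒮.toQCAlg.ι V hV ≫ i ≫ pC = 𝒮.toQCAlg.ι V hV ≫ 𝒮.toQCAlg.π
      rw [reassoc_of% (hi V hV), Groth.Agent.RelProjBasic.emb_comp hPC, Proj.awayι_toSpecZero_assoc,
        𝒮.toQCAlg.ι_π, ← Spec.map_comp_assoc, ← Spec.map_comp_assoc]
      congr 2
      ext r
      show hz.awayZToBase V hV _ = (𝒮.str.app (op V)).hom r
      refine (hz.awayZToBase_of_val V hV _ ((𝒮h.str.app (op V)).hom r) 0 ?_).trans ?_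
      · exact congrArg (Localization.mk _) (Subtype.ext (pow_zero _).symm)
      rw [← ConcreteCategory.congr_hom (NatTrans.congr_app ι.comm (op V)) r]
      exact hz.evalOne_ι V hV _
    have hpi : (ε ≫ i) ≫ pC = 𝟙 Y := by
      rw [Category.assoc, hipi, hε.comp_π]
    have hwU : w ∈ U := by
      have e : pC ((ε ≫ i) w) = w := congrArg (fun g => g.base w) hpi
      rw [hw] at e
      exact e ▸ hxU
    obtain ⟨w', rfl⟩ : w ∈ Set.range hU.fromSpec := by rw [hU.range_fromSpec]; exact hwU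
    exact h2.mpr ⟨w', (RelProj.emb pC chartC U hU).isOpenEmbedding.injective
      ((congrArg (fun g => g.base w') hcomp).symm.trans hw)⟩ hty
  · intro hr
    by_contra hx
    obtain ⟨w, hw⟩ := h2.mp fun hy => hx (h1.mpr ⟨y, hy, rfl⟩).1
    exact hr ⟨hU.fromSpec w, (congrArg (fun g => g.base w) hcomp).trans (congrArg (RelProj.emb pC chartC U hU) hw)⟩

end Groth.Agent.S8298
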