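import Groth.Statements.S8300
import Groth.Agent.RelProjBasic.Pointed

set_option autoImplicit false
universe u
open CategoryTheory CategoryTheory.Limits AlgebraicGeometry Opposite TopologicalSpace
open scoped HomogeneousIdeal
noncomputable section
open EGA2

namespace Groth.Agent.S8300

/-- Let q : Y' → Y be a morphism of schemes, 𝒮 and 𝒮' quasi-coherent positively graded algebras over O_Y
and O_{Y'} with 𝒮_0 = O_Y and 𝒮'_0 = O_{Y'}, and φ : 𝒮 → q_*𝒮' a graded q-morphism (a map of sheaves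
of rings compatible with the structure maps through q^♯, whose components 𝒮(U) → 𝒮'(U') for affine
opens U' ⊆ q⁻¹(U) preserve degrees, recorded as graded ring homomorphisms); let C = Spec(𝒮), C' =
Spec(𝒮') be the affine cones and Φ : C' → C the morphism Spec(φ), i.e. the morphism which on the
charts over affine opens U' ⊆ q⁻¹(U) is Spec of 𝒮(U) → 𝒮'(U'); let E ⊆ C and E' ⊆ C' be the pointed
affine cones (defined chart by chart as the complements of V(𝒮(U)_+), resp. V(𝒮'(U')_+)). Then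
Proj(φ) is everywhere defined, which here means that for all affine opens U' ⊆ q⁻¹(U) the open of
Proj 𝒮'(U') where the morphism induced by 𝒮(U) → 𝒮'(U') is defined (the complement of V_+ of the
ideal generated by the image of the irrelevant ideal of 𝒮(U)) is the whole of Proj 𝒮'(U'), if and
only if the inverse image of E under Φ equals E'. -/
theorem result {Y Y' : Scheme.{u}} (q : Y' ⟶ Y) (𝒮 : RelProj.QCGrAlg Y) (𝒮' : RelProj.QCGrAlg Y')
    (h0 : RelCone.StrZeroBij 𝒮) (h0' : RelCone.StrZeroBij 𝒮')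
    (u : 𝒮.presheaf ⟶ q.base _* 𝒮'.presheaf)
    (hu : 𝒮.str ≫ u = q.c ≫ (TopCat.Presheaf.pushforward CommRingCat.{u} q.base).map 𝒮'.str)
    (φ : ∀ (U : Y.Opens) (hU : IsAffineOpen U) (U' : Y'.Opens) (hU' : IsAffineOpen U') (_ : U' ≤ q ⁻¹ᵁ U),
      𝒮.deg U hU →+*ᵍ 𝒮'.deg U' hU')
    (hφ : ∀ (U : Y.Opens) (hU : IsAffineOpen U) (U' : Y'.Opens) (hU' : IsAffineOpen U') (hle : U' ≤ q ⁻¹ᵁ U),
      (φ U hU U' hU' hle).toRingHom =
        ((u.app (op U) : 𝒮.presheaf.obj (op U) ⟶ 𝒮'.presheaf.obj (op (q ⁻¹ᵁ U))) ≫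
          𝒮'.presheaf.map (homOfLE hle).op).hom)
    (Φ : 𝒮'.toQCAlg.spec ⟶ 𝒮.toQCAlg.spec)
    (hΦ : ∀ (U : Y.Opens) (hU : IsAffineOpen U) (U' : Y'.Opens) (hU' : IsAffineOpen U') (hle : U' ≤ q ⁻¹ᵁ U),
      𝒮'.toQCAlg.ι U' hU' ≫ Φ =
        Spec.map ((u.app (op U) : 𝒮.presheaf.obj (op U) ⟶ 𝒮'.presheaf.obj (op (q ⁻¹ᵁ U))) ≫
          𝒮'.presheaf.map (homOfLE hle).op) ≫ 𝒮.toQCAlg.ι U hU) :
    (∀ (U : Y.Opens) (hU : IsAffineOpen U) (U' : Y'.Opens) (hU' : IsAffineOpen U') (hle : U' ≤ q ⁻¹ᵁ U),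
        RelCone.domOpen (φ U hU U' hU' hle) = ⊤) ↔
      Φ ⁻¹ᵁ RelCone.pointedCone 𝒮 = RelCone.pointedCone 𝒮' := by
  have hpre : ∀ (U : Y.Opens) (hU : IsAffineOpen U) (U' : Y'.Opens) (hU' : IsAffineOpen U') (hle : U' ≤ q ⁻¹ᵁ U)
      (z : Spec (𝒮'.presheaf.obj (op U'))), 𝒮'.toQCAlg.ι U' hU' z ∈ Φ ⁻¹ᵁ RelCone.pointedCone 𝒮 ↔
        ¬ ((𝒮.deg U hU)₊).toIdeal ≤ z.asIdeal.comap (φ U hU U' hU' hle).toRingHom := by
    intro U hU U' hU' hle z
    rw [hφ U hU U' hU' hle]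
    exact SetLike.ext_iff.mp (Groth.Agent.RelProjBasic.preimage_pointedCone_pair 𝒮 Φ hU hU' _ (hΦ U hU U' hU' hle)) z
  have hple : ∀ (U' : Y'.Opens) (hU' : IsAffineOpen U') (z : Spec (𝒮'.presheaf.obj (op U'))),
      𝒮'.toQCAlg.ι U' hU' z ∈ RelCone.pointedCone 𝒮' ↔ ¬ ((𝒮'.deg U' hU')₊).toIdeal ≤ z.asIdeal := fun U' hU' z =>
    SetLike.ext_iff.mp (Groth.Agent.RelProjBasic.preimage_pointedCone 𝒮' U' hU') z
  constructor
  · intro h
    refine TopologicalSpace.Opens.ext (Set.ext fun c => ?_)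
    obtain ⟨U, hU, U', hU', hle, z, rfl⟩ := Groth.Agent.RelProjBasic.exists_pair_chart q c
    refine (hpre U hU U' hU' hle z).trans (Iff.trans (not_congr ⟨fun hz => ?_, fun hz => ?_⟩) (hple U' hU' z).symm)
    · exact Groth.Agent.RelProjBasic.irrelevant_le_of_domOpen_eq_top (φ U hU U' hU' hle) (h U hU U' hU' hle) hz
    · exact (HomogeneousIdeal.toIdeal_irrelevant_le _).mpr fun i hi a ha =>
        hz (HomogeneousIdeal.mem_irrelevant_of_mem _ hi ((φ U hU U' hU' hle).map_mem ha))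
  · intro h U hU U' hU' hle
    refine eq_top_iff.mpr fun x _ => ?_
    refine (RelCone.mem_domOpen _ x).mpr ?_
    by_contra hc
    push Not at hc
    let z : Spec (𝒮'.presheaf.obj (op U')) := ⟨x.asHomogeneousIdeal.toIdeal, x.isPrime⟩
    exact (hpre U hU U' hU' hle z).mp (h.ge ((hple U' hU' z).mpr x.not_irrelevant_le)) fun f hf => hc f hf

end Groth.Agent.S8300
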