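import Groth.Statements.S8302
import Groth.Agent.ConormalSection.SpanPull
import Groth.Agent.QCohLib.Pullback
import Groth.Agent.QCohLib.Closure
import Groth.Agent.QCohLib.Criterion
import Groth.Agent.QCohLib.Cover

set_option autoImplicit false
set_option linter.style.haveILetI false
set_option backward.isDefEq.respectTransparency false
universe u
open CategoryTheory CategoryTheory.Limits AlgebraicGeometry Opposite TopologicalSpace
noncomputable section
open EGA2 Groth.Agent

namespace Groth.Agent.S8302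

/-- The case of a single scheme X affine over S and the identity morphism of X: let f : X → S be an
affine morphism and F, G quasi-coherent O_X-modules. Then the direct image u ↦ f_*(u) is a bijection
from the set of O_X-module homomorphisms F → G onto the set of homomorphisms f_*F → f_*G of modules
over the direct-image algebra f_*O_X. -/
theorem result {X S : Scheme.{u}} (f : X ⟶ S) [IsAffineHom f]
    (F G : X.Modules) (hF : Coh.IsQCoh F) (hG : Coh.IsQCoh G) :
    Function.Bijective
      ((AMod.dirImg f).map : (F ⟶ G) → ((AMod.dirImg f).obj F ⟶ (AMod.dirImg f).obj G)) := by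
  haveI := hF
  haveI := hG
  let adj := Scheme.Modules.pullbackPushforwardAdjunction f
  let M := (Scheme.Modules.pushforward f).obj F
  haveI : M.IsQuasicoherent := QCohLib.isQuasicoherent_pushforward f
  haveI : ((Scheme.Modules.pullback f).obj M).IsQuasicoherent := QCohLib.isQuasicoherent_pullback f M
  haveI : ((Scheme.Modules.pushforward f ⋙ Scheme.Modules.pullback f).obj F).IsQuasicoherent :=
    QCohLib.isQuasicoherent_pullback f M
  haveI : ((𝟭 X.Modules).obj F).IsQuasicoherent := hF
  let ε : (Scheme.Modules.pullback f).obj M ⟶ F := adj.counit.app F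
  have hη : ∀ (U : S.Opens) (m : Γ(M, U)),
      ε.app (f ⁻¹ᵁ U) ((adj.unit.app M).app U m) = m := fun U m =>
    congr($(congr(Scheme.Modules.Hom.app $(adj.right_triangle_components F) U)) m)
  haveI hε : Epi ε := QCohLib.epi_of_cover_surjective (fun U : S.affineOpens => f ⁻¹ᵁ U.1)
    (fun U => U.2.preimage f)
    (fun x => by
      obtain ⟨U, hU, hx, -⟩ := exists_isAffineOpen_mem_and_subset (TopologicalSpace.Opens.mem_top (f.base x))
      exact ⟨⟨U, hU⟩, hx⟩) ε fun U t => ⟨_, hη U.1 t⟩
  have hinj : ∀ φ ψ : F ⟶ G, (Scheme.Modules.pushforward f).map φ = (Scheme.Modules.pushforward f).map ψ → φ = ψ := by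
    intro φ ψ e
    rw [← cancel_epi ε]
    have h := congrArg (fun m => (Scheme.Modules.pullback f).map m ≫ adj.counit.app G) e
    exact (adj.counit.naturality φ).symm.trans (h.trans (adj.counit.naturality ψ))
  refine ⟨fun φ ψ e => hinj φ ψ (congrArg (AMod.toOS _).map e), fun u => ?_⟩
  let u0 : M ⟶ (Scheme.Modules.pushforward f).obj G := (AMod.toOS _).map u
  let φ0 : (Scheme.Modules.pullback f).obj M ⟶ G := (adj.homEquiv _ _).symm u0
  have hu : adj.unit.app M ≫ (Scheme.Modules.pushforward f).map φ0 = u0 := by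
    exact ((Adjunction.homEquiv_unit (adj := adj) (f := φ0)).symm).trans ((adj.homEquiv _ _).apply_symm_apply u0)
  have hφ0 : ∀ (U : S.Opens) (m : Γ(M, U)), φ0.app (f ⁻¹ᵁ U) ((adj.unit.app M).app U m) = u0.app U m :=
    fun U m => congr($(congr(Scheme.Modules.Hom.app $hu U)) m)
  haveI := QCohLib.isQuasicoherent_kernel ε
  have hK : kernel.ι ε ≫ φ0 = 0 := by
    refine QCohLib.eq_of_stalkHom_eq _ _ fun x => ?_
    obtain ⟨U, hU, hx, -⟩ := exists_isAffineOpen_mem_and_subset (TopologicalSpace.Opens.mem_top (f.base x))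
    have hV : IsAffineOpen (f ⁻¹ᵁ U) := hU.preimage f
    have hzero : ∀ s : Γ(kernel ε, f ⁻¹ᵁ U), φ0.app (f ⁻¹ᵁ U) ((kernel.ι ε).app (f ⁻¹ᵁ U) s) = 0 := by
      intro s
      let u1 := (u.val.app (op U)).hom
      have key : ∀ z : Γ((Scheme.Modules.pullback f).obj M, f ⁻¹ᵁ U),
          φ0.app (f ⁻¹ᵁ U) z = u1 (ε.app (f ⁻¹ᵁ U) z) := by
        intro z
        have hz : z ∈ Submodule.span Γ(X, f ⁻¹ᵁ U) (Set.range (ConormalSection.pullRes f M (le_refl (f ⁻¹ᵁ U)))) :=
          (ConormalSection.span_pullRes f M hU hV le_rfl).symm ▸ Submodule.mem_top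
        induction hz using Submodule.span_induction with
        | mem z hz =>
          obtain ⟨m, rfl⟩ := hz
          have e : ConormalSection.pullRes f M (le_refl (f ⁻¹ᵁ U)) m = (adj.unit.app M).app U m :=
            QCohLib.map_self _ _ _
          rw [e, hφ0, hη]; rfl
        | zero => rw [map_zero, map_zero]; exact (map_zero u1).symm
        | add a b _ _ ha hb => rw [map_add, map_add, ha, hb]; exact (map_add u1 _ _).symm
        | smul r a _ ha =>
          rw [Scheme.Modules.Hom.app_smul, Scheme.Modules.Hom.app_smul, ha]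
          exact (u1.map_smul r (ε.app (f ⁻¹ᵁ U) a)).symm
      have h0 : ε.app (f ⁻¹ᵁ U) ((kernel.ι ε).app (f ⁻¹ᵁ U) s) = 0 :=
        congr($(congr(Scheme.Modules.Hom.app $(kernel.condition ε) (f ⁻¹ᵁ U))) s)
      rw [key, h0]; exact map_zero u1
    ext m
    obtain ⟨g, s, hxg, hgs⟩ := QCohLib.exists_smul_eq_germ hV x hx m
    obtain ⟨v, hv⟩ := (X.mem_basicOpen g x hx).mp hxg
    have hm : m = (↑v⁻¹ : X.presheaf.stalk x) • (kernel ε).presheaf.germ (f ⁻¹ᵁ U) x hx s := by
      rw [← hgs, ← hv, smul_smul, Units.inv_mul, one_smul]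
    rw [QCohLib.stalkHom_zero, hm, QCohLib.stalkHom_smul, QCohLib.stalkHom_germ]
    show _ • G.presheaf.germ (f ⁻¹ᵁ U) x hx (φ0.app (f ⁻¹ᵁ U) ((kernel.ι ε).app (f ⁻¹ᵁ U) s)) = _
    rw [hzero, map_zero, smul_zero]
  let φ : F ⟶ G := Abelian.epiDesc ε φ0 hK
  refine ⟨φ, ?_⟩
  haveI : (AMod.toOS (RelSpec.QCAlg.directImage f) ⋙ SheafOfModules.toSheaf _).Faithful :=
    inferInstanceAs (SheafOfModules.toSheaf (AMod.ringSheaf _)).Faithful
  haveI : (AMod.toOS (RelSpec.QCAlg.directImage f)).Faithful :=
    Functor.Faithful.of_comp _ (SheafOfModules.toSheaf _)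
  apply (AMod.toOS (RelSpec.QCAlg.directImage f)).map_injective
  show (Scheme.Modules.pushforward f).map φ = u0
  have h1 : ε ≫ φ = φ0 := Abelian.comp_epiDesc ε φ0 hK
  rw [← hu, ← h1, Functor.map_comp, ← Category.assoc]
  erw [adj.right_triangle_components F, Category.id_comp]
end Groth.Agent.S8302
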