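import Groth.Statements.S8304
import Groth.Agent.SymAlgExist.Spec

set_option autoImplicit false
universe u
open CategoryTheory CategoryTheory.Limits AlgebraicGeometry Opposite TopologicalSpace
open scoped HomogeneousIdeal
noncomputable section
open EGA2

namespace Groth.Agent.S8304

/-- At the level of graded algebras: let E be a quasi-coherent O_Y-module and 𝒮 = Sym(E) its graded
symmetric algebra (j : E → 𝒮 landing in degree one), and let Ŝ = 𝒮[z] be given through a graded
homomorphism ι : 𝒮 → Ŝ and a global section z of degree one with 𝒮(U)[X] → Ŝ(U), X ↦ z, bijective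
over every affine open U. If k : O_Y → Ŝ is a module homomorphism sending the unit section to z over
every open, then Ŝ together with the map E ⊕ O_Y → Ŝ whose components are j followed by ι, and k, is
the graded symmetric algebra of E ⊕ O_Y. Consequently the projective cone of V(E) = Spec(Sym E),
which is Proj(Ŝ), is the projective bundle P(E ⊕ O_Y), and its locus at infinity Proj(𝒮) is P(E). -/
theorem result {Y : Scheme.{u}} (E : Y.Modules) (hE : Coh.IsQCoh E)
    (𝒮 𝒮h : RelProj.QCGrAlg Y) (j : E ⟶ 𝒮.toModule) (hS : RelProj.IsGrSymAlg E 𝒮 j)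
    (ι : 𝒮.toQCAlg ⟶ 𝒮h.toQCAlg) (z : 𝒮h.presheaf.obj (op ⊤)) (hz : RelCone.IsPolyOver 𝒮 𝒮h ι z)
    (k : Coh.structureModule Y ⟶ 𝒮h.toModule)
    (hk : ∀ U : Y.Opens, (k.app U) (1 : Γ(Y, U)) = RelCone.restrictTop 𝒮h z U) :
    RelProj.IsGrSymAlg (E ⊞ Coh.structureModule Y) 𝒮h
      (biprod.desc (j ≫ RelSpec.QCAlg.Hom.toModuleMap ι) k) := by
  have hz1 : ∀ (U : Y.Opens) (a : Γ(Y, U)), (k.app U a : 𝒮h.presheaf.obj (op U)) =
      (𝒮h.str.app (op U)).hom a * RelCone.restrictTop 𝒮h z U := fun U a => by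
    refine (congrArg (k.app U) (mul_one a).symm).trans ((Scheme.Modules.Hom.app_smul k a (1 : Γ(Y, U))).trans ?_)
    exact congrArg ((𝒮h.str.app (op U)).hom a * ·) (hk U)
  have htot : ∀ (U : Y.Opens) (m : Γ(E ⊞ Coh.structureModule Y, U)),
      m = (biprod.inl : E ⟶ E ⊞ Coh.structureModule Y).app U ((biprod.fst : E ⊞ Coh.structureModule Y ⟶ E).app U m) +
        (biprod.inr : Coh.structureModule Y ⟶ E ⊞ Coh.structureModule Y).app U
          ((biprod.snd : E ⊞ Coh.structureModule Y ⟶ Coh.structureModule Y).app U m) := fun U m =>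
    (congrArg (fun φ : E ⊞ Coh.structureModule Y ⟶ E ⊞ Coh.structureModule Y => φ.app U m)
      (biprod.total (X := E) (Y := Coh.structureModule Y))).symm
  let J := biprod.desc (j ≫ RelSpec.QCAlg.Hom.toModuleMap ι) k
  have hJl : ∀ (U : Y.Opens) (e : Γ(E, U)), J.app U ((biprod.inl : E ⟶ E ⊞ Coh.structureModule Y).app U e) =
      (ι.hom.app (op U)).hom (j.app U e) := fun U e =>
    congrArg (fun φ : E ⟶ 𝒮h.toModule => φ.app U e) (biprod.inl_desc (j ≫ RelSpec.QCAlg.Hom.toModuleMap ι) k)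
  have hJr : ∀ (U : Y.Opens) (a : Γ(Y, U)),
      J.app U ((biprod.inr : Coh.structureModule Y ⟶ E ⊞ Coh.structureModule Y).app U a) = k.app U a := fun U a =>
    congrArg (fun φ : Coh.structureModule Y ⟶ 𝒮h.toModule => φ.app U a) (biprod.inr_desc (j ≫ RelSpec.QCAlg.Hom.toModuleMap ι) k)
  refine ⟨fun B φ => ?_, fun U hU x => ?_⟩
  swap
  · show (J.app U x : 𝒮h.presheaf.obj (op U)) ∈ 𝒮h.deg U hU 1
    rw [htot U x]
    refine (map_add (J.app U).hom _ _).symm ▸ add_mem ?_ ?_
    · exact (hJl U _).symm ▸ hz.graded U hU 1 _ (hS.2 U hU _)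
    · have h1 := ((hJr U ((biprod.snd : E ⊞ Coh.structureModule Y ⟶ Coh.structureModule Y).app U x)).trans (hz1 U _))
      have h2 := SetLike.mul_mem_graded (𝒮h.str_mem U hU
        ((biprod.snd : E ⊞ Coh.structureModule Y ⟶ Coh.structureModule Y).app U x)) (hz.deg_z U hU)
      rw [zero_add] at h2
      exact h1.symm ▸ h2
  obtain ⟨ψ0, hψ0, hu0⟩ := hS.1 B ((biprod.inl : E ⟶ E ⊞ Coh.structureModule Y) ≫ φ)
  let b : ∀ U : Y.Opens, B.presheaf.obj (op U) := fun U =>
    φ.app U ((biprod.inr : Coh.structureModule Y ⟶ E ⊞ Coh.structureModule Y).app U (1 : Γ(Y, U)))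
  have hb : ∀ {U V : Y.Opens} (i : V ⟶ U), B.presheaf.map i.op (b U) = b V := fun {U V} i => by
    refine (CategoryTheory.congr_fun ((Scheme.Modules.Hom.mapPresheaf ((biprod.inr : Coh.structureModule Y ⟶ E ⊞ Coh.structureModule Y) ≫ φ)).naturality i.op) (1 : Γ(Y, U))).symm.trans ?_
    exact congrArg (fun a => φ.app V ((biprod.inr : Coh.structureModule Y ⟶ E ⊞ Coh.structureModule Y).app V a))
      (map_one (Y.presheaf.map i.op).hom)
  have hzres : ∀ {U V : Y.Opens} (i : V ⟶ U), 𝒮h.presheaf.map i.op (RelCone.restrictTop 𝒮h z U) =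
      RelCone.restrictTop 𝒮h z V := fun {U V} i => by
    refine (CategoryTheory.congr_fun (𝒮h.presheaf.map_comp (homOfLE le_top).op i.op) z).symm.trans ?_
    rfl
  let F : ∀ U : Y.Opens, Polynomial (𝒮.presheaf.obj (op U)) →+* B.presheaf.obj (op U) := fun U =>
    Polynomial.eval₂RingHom (ψ0.hom.app (op U)).hom (b U)
  let G : ∀ (U : Y.Opens), IsAffineOpen U → (𝒮h.presheaf.obj (op U) ⟶ B.presheaf.obj (op U)) := fun U hU =>
    CommRingCat.ofHom ((F U).comp (hz.polyEquiv U hU).symm.toRingHom)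
  have hGι : ∀ (U : Y.Opens) (hU : IsAffineOpen U) a, G U hU ((ι.hom.app (op U)).hom a) = (ψ0.hom.app (op U)).hom a := by
    intro U hU a
    have e : (hz.polyEquiv U hU).symm ((ι.hom.app (op U)).hom a) = Polynomial.C a :=
      (RingEquiv.symm_apply_eq _).mpr (by rw [hz.polyEquiv_apply U hU, Polynomial.eval₂_C])
    show F U ((hz.polyEquiv U hU).symm _) = _
    rw [e]
    exact Polynomial.eval₂_C _ _
  have hGz : ∀ (U : Y.Opens) (hU : IsAffineOpen U), G U hU (RelCone.restrictTop 𝒮h z U) = b U := by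
    intro U hU
    have e : (hz.polyEquiv U hU).symm (RelCone.restrictTop 𝒮h z U) = Polynomial.X :=
      (RingEquiv.symm_apply_eq _).mpr (by rw [hz.polyEquiv_apply U hU, Polynomial.eval₂_X])
    show F U ((hz.polyEquiv U hU).symm _) = _
    rw [e]
    exact Polynomial.eval₂_X _ _
  have hext : ∀ (U : Y.Opens) (hU : IsAffineOpen U) {R : CommRingCat.{u}} (g g' : 𝒮h.presheaf.obj (op U) ⟶ R),
      (∀ a, g ((ι.hom.app (op U)).hom a) = g' ((ι.hom.app (op U)).hom a)) →
      g (RelCone.restrictTop 𝒮h z U) = g' (RelCone.restrictTop 𝒮h z U) → g = g' := by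
    intro U hU R g g' h1 h2
    ext x
    obtain ⟨q, rfl⟩ := (hz.bij U hU).2 x
    induction q using Polynomial.induction_on' with
    | add p q hp hq => rw [map_add, map_add, map_add, hp, hq]
    | monomial n a =>
      rw [Polynomial.coe_eval₂RingHom, Polynomial.eval₂_monomial, map_mul, map_mul, map_pow, map_pow, h1, h2]
  let Gs : (Scheme.AffineZariskiSite.toOpensFunctor Y).op ⋙ 𝒮h.presheaf ⟶
      (Scheme.AffineZariskiSite.toOpensFunctor Y).op ⋙ B.presheaf :=
    { app := fun U => G U.unop.1 U.unop.2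
      naturality := fun U V i => hext U.unop.1 U.unop.2 _ _ (fun a => by
          show G V.unop.1 V.unop.2 (𝒮h.presheaf.map _ ((ι.hom.app _).hom a)) = B.presheaf.map _ (G U.unop.1 U.unop.2 ((ι.hom.app _).hom a))
          rw [hGι]
          refine (congrArg (G V.unop.1 V.unop.2) (CategoryTheory.congr_fun (ι.hom.naturality _) a).symm).trans ?_
          refine (hGι _ V.unop.2 _).trans ?_
          exact CategoryTheory.congr_fun (ψ0.hom.naturality _) a) (by
          show G V.unop.1 V.unop.2 (𝒮h.presheaf.map _ (RelCone.restrictTop 𝒮h z U.unop.1)) =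
            B.presheaf.map _ (G U.unop.1 U.unop.2 (RelCone.restrictTop 𝒮h z U.unop.1))
          rw [hGz]
          refine (congrArg (G V.unop.1 V.unop.2) (hzres _)).trans ((hGz _ V.unop.2).trans (hb _).symm)) }
  let Ψ : 𝒮h.presheaf ⟶ B.presheaf :=
    Functor.IsCoverDense.restrictHomEquivHom (G := Scheme.AffineZariskiSite.toOpensFunctor Y)
      (K := Opens.grothendieckTopology Y) (ℱ := 𝒮h.presheaf)
      (ℱ' := (⟨B.presheaf, B.isSheaf⟩ : TopCat.Sheaf CommRingCat.{u} Y.carrier)) Gs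
  have hΨ : ∀ (U : Y.Opens) (hU : IsAffineOpen U), Ψ.app (op U) = G U hU := fun U hU =>
    NatTrans.congr_app ((Functor.IsCoverDense.restrictHomEquivHom (G := Scheme.AffineZariskiSite.toOpensFunctor Y)
      (K := Opens.grothendieckTopology Y) (ℱ := 𝒮h.presheaf)
      (ℱ' := (⟨B.presheaf, B.isSheaf⟩ : TopCat.Sheaf CommRingCat.{u} Y.carrier))).symm_apply_apply Gs) (op ⟨U, hU⟩)
  have hcomm : 𝒮h.str ≫ Ψ = B.str := by
    apply (Functor.IsCoverDense.restrictHomEquivHom (G := Scheme.AffineZariskiSite.toOpensFunctor Y)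
      (K := Opens.grothendieckTopology Y) (ℱ := Y.presheaf)
      (ℱ' := (⟨B.presheaf, B.isSheaf⟩ : TopCat.Sheaf CommRingCat.{u} Y.carrier))).symm.injective
    ext V : 2
    change 𝒮h.str.app (op V.unop.1) ≫ Ψ.app (op V.unop.1) = B.str.app (op V.unop.1)
    rw [hΨ _ V.unop.2, ← NatTrans.congr_app ι.comm (op V.unop.1), ← NatTrans.congr_app ψ0.comm (op V.unop.1)]
    ext a
    exact hGι _ V.unop.2 ((𝒮.str.app (op V.unop.1)).hom a)
  refine ⟨⟨Ψ, hcomm⟩, ?_, fun ψ hψ => ?_⟩
  · refine Scheme.Modules.hom_ext _ _ fun U => ?_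
    refine NatTrans.congr_app (Groth.Agent.SymAlgExist.ab_hom_ext B (f := Scheme.Modules.Hom.mapPresheaf
        (J ≫ RelSpec.QCAlg.Hom.toModuleMap (A := 𝒮h.toQCAlg) (B := B) ⟨Ψ, hcomm⟩))
      (g := Scheme.Modules.Hom.mapPresheaf φ) fun W hW => ?_) (op U)
    refine AddCommGrpCat.hom_ext (AddMonoidHom.ext fun m => ?_)
    show (Ψ.app (op W)).hom (J.app W m) = φ.app W m
    rw [hΨ W hW, htot W m]
    refine (congrArg (G W hW).hom (map_add (J.app W).hom _ _)).trans ((map_add (G W hW).hom _ _).trans ?_)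
    refine Eq.trans ?_ (map_add (φ.app W).hom _ _).symm
    refine congrArg₂ (· + ·) ?_ ?_
    · refine (congrArg (G W hW).hom (hJl W _)).trans ((hGι W hW _).trans ?_)
      exact congrArg (fun f : E ⟶ B.toModule => f.app W ((biprod.fst : E ⊞ Coh.structureModule Y ⟶ E).app W m)) hψ0
    · refine (congrArg (G W hW).hom ((hJr W _).trans (hz1 W _))).trans ?_
      refine (map_mul (G W hW).hom _ _).trans ?_
      have e1 : G W hW ((𝒮h.str.app (op W)).hom ((biprod.snd : E ⊞ Coh.structureModule Y ⟶ Coh.structureModule Y).app W m)) =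
          (B.str.app (op W)).hom ((biprod.snd : E ⊞ Coh.structureModule Y ⟶ Coh.structureModule Y).app W m) := by
        rw [← hΨ W hW]
        exact CategoryTheory.congr_fun (NatTrans.congr_app hcomm (op W)) _
      refine (congrArg₂ (· * ·) e1 (hGz W hW)).trans ?_
      refine Eq.trans ?_ (congrArg (fun a => φ.app W ((biprod.inr : Coh.structureModule Y ⟶ E ⊞ Coh.structureModule Y).app W a)) (mul_one (show Γ(Y, W) from (biprod.snd : E ⊞ Coh.structureModule Y ⟶ Coh.structureModule Y).app W m)))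
      exact (Scheme.Modules.Hom.app_smul ((biprod.inr : Coh.structureModule Y ⟶ E ⊞ Coh.structureModule Y) ≫ φ) _ (1 : Γ(Y, W))).symm
  · refine RelSpec.QCAlg.hom_ext ?_
    apply (Functor.IsCoverDense.restrictHomEquivHom (G := Scheme.AffineZariskiSite.toOpensFunctor Y)
      (K := Opens.grothendieckTopology Y) (ℱ := 𝒮h.presheaf)
      (ℱ' := (⟨B.presheaf, B.isSheaf⟩ : TopCat.Sheaf CommRingCat.{u} Y.carrier))).symm.injective
    ext V : 2
    change ψ.hom.app (op V.unop.1) = Ψ.app (op V.unop.1)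
    rw [hΨ _ V.unop.2]
    have h0 : ι ≫ ψ = ψ0 := hu0 _ (Scheme.Modules.hom_ext _ _ fun W => by
      refine AddCommGrpCat.hom_ext (AddMonoidHom.ext fun e => ?_)
      show (ψ.hom.app (op W)).hom ((ι.hom.app (op W)).hom (j.app W e)) = φ.app W ((biprod.inl : E ⟶ E ⊞ Coh.structureModule Y).app W e)
      rw [← hJl W e]
      exact congrArg (fun f : E ⊞ Coh.structureModule Y ⟶ B.toModule => f.app W ((biprod.inl : E ⟶ E ⊞ Coh.structureModule Y).app W e)) hψ)
    refine hext _ V.unop.2 _ _ (fun a => ?_) ?_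
    · exact (congrArg (fun f : 𝒮.toQCAlg ⟶ B => (f.hom.app (op V.unop.1)).hom a) h0).trans (hGι _ V.unop.2 a).symm
    · refine Eq.trans ?_ (hGz _ V.unop.2).symm
      refine (congrArg (ψ.hom.app (op V.unop.1)).hom ((hk V.unop.1).symm.trans (hJr V.unop.1 1).symm)).trans ?_
      exact congrArg (fun f : E ⊞ Coh.structureModule Y ⟶ B.toModule => f.app V.unop.1
        ((biprod.inr : Coh.structureModule Y ⟶ E ⊞ Coh.structureModule Y).app V.unop.1 (1 : Γ(Y, V.unop.1)))) hψ


end Groth.Agent.S8304
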