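import Groth.Statements.S8305
import Groth.Agent.QCohLib.Cover
import Groth.Agent.QCohLib.Criterion

set_option autoImplicit false
set_option linter.style.haveILetI false
set_option backward.isDefEq.respectTransparency false
universe u
open CategoryTheory CategoryTheory.Limits AlgebraicGeometry Opposite TopologicalSpace
noncomputable section
open EGA2

namespace Groth.Agent.S8305

/-- Let X and Y be schemes affine over S with structure morphisms gX and gY, h : Y → X a morphism over
S, F a quasi-coherent O_X-module, G a quasi-coherent O_Y-module and v : F → h_*G a homomorphism of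
O_X-modules, so that (h, v) is a morphism of pairs (Y, G) → (X, F). Then h and v are isomorphisms if
and only if the direct-image algebra homomorphism A(h) : gX_*O_X → gY_*O_Y and the direct image A(v)
= gX_*(v) : gX_*F → gX_*h_*G are isomorphisms (the pair (A(h), A(v)) is a di-isomorphism). -/
theorem result {X Y S : Scheme.{u}} (gX : X ⟶ S) [IsAffineHom gX]
    (gY : Y ⟶ S) [IsAffineHom gY] (h : Y ⟶ X) (hh : h ≫ gX = gY)
    (F : X.Modules) (G : Y.Modules) (hF : Coh.IsQCoh F) (hG : Coh.IsQCoh G)
    (v : F ⟶ (Scheme.Modules.pushforward h).obj G) :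
    (IsIso h ∧ IsIso v) ↔
      (IsIso (AffAlg.algHom gX gY h hh) ∧ IsIso ((Scheme.Modules.pushforward gX).map v)) := by
  subst hh
  haveI : F.IsQuasicoherent := hF
  haveI : G.IsQuasicoherent := hG
  haveI : IsAffineHom h := IsAffineHom.of_comp h gX
  haveI : ((Scheme.Modules.pushforward h).obj G).IsQuasicoherent := Groth.Agent.QCohLib.isQuasicoherent_pushforward h
  constructor
  · rintro ⟨hh, hv⟩
    haveI : IsIso h.c := inferInstance
    refine ⟨?_, inferInstance⟩
    unfold AffAlg.algHom
    infer_instance
  · rintro ⟨hA, hv⟩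
    have hcov : ⨆ U : S.affineOpens, gX ⁻¹ᵁ U.1 = ⊤ := by
      rw [← Scheme.Hom.preimage_iSup, iSup_affineOpens_eq_top]
      rfl
    refine ⟨?_, ?_⟩
    · refine (IsZariskiLocalAtTarget.iff_of_iSup_eq_top (P := MorphismProperty.isomorphisms Scheme) _ hcov).mpr fun U => ?_
      refine (isIso_morphismRestrict_iff_isIso_app h (U.2.preimage gX)).mpr ?_
      haveI := hA
      have h1 : IsIso ((AffAlg.algHom gX (h ≫ gX) h rfl).app (op U.1)) := inferInstance
      unfold AffAlg.algHom at h1
      simp only [eqToHom_refl, Category.comp_id] at h1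
      exact h1
    · refine Groth.Agent.QCohLib.isIso_of_cover_bijective (fun U : S.affineOpens => gX ⁻¹ᵁ U.1)
        (fun U => U.2.preimage gX) (fun x => ?_) v fun U => ?_
      · have hx : x ∈ ⨆ U : S.affineOpens, gX ⁻¹ᵁ U.1 := hcov.symm ▸ trivial
        exact Opens.mem_iSup.mp hx
      · haveI := hv
        exact ConcreteCategory.bijective_of_isIso (((Scheme.Modules.pushforward gX).map v).app U.1)
end Groth.Agent.S8305
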