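import Groth.Statements.S8308
import Groth.Agent.RelProjBasic.Retraction

set_option autoImplicit false
universe u
open CategoryTheory CategoryTheory.Limits AlgebraicGeometry Opposite TopologicalSpace
open scoped HomogeneousIdeal
noncomputable section
open EGA2

namespace Groth.Agent.S8308

/-- The canonical retraction of the pointed projective cone: let 𝒮 be a quasi-coherent positively graded
O_Y-algebra with 𝒮_0 = O_Y, Ŝ = 𝒮[z] (given through a graded homomorphism ι : 𝒮 → Ŝ and a global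
section z of degree one, polynomial over every affine open), X = Proj(𝒮) and Ĉ = Proj(Ŝ) the
relative homogeneous spectra with their charts, and Ê ⊆ Ĉ the pointed projective cone. There is
exactly one morphism p : Ê → X such that for every affine open U of Y and every f ∈ 𝒮(U) homogeneous
of positive degree, on the affine piece Spec Ŝ(U)_(ι f) of Ê (the standard open D_+(ι f) of Proj
Ŝ(U) carried into Ĉ by the chart) p is Spec of the canonical homomorphism 𝒮(U)_(f) → Ŝ(U)_(ι f)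
followed by the standard open D_+(f) of Proj 𝒮(U) and the chart of X. Every such p is affine and
surjective, lies over Y, and is a retraction of the immersion at infinity: if j : X → Ĉ is the
morphism chartwise induced by the graded retraction θ : Ŝ → 𝒮 of ι with θ(z) = 0, then j factors
through Ê and the factorisation followed by p is the identity of X. -/
theorem result {Y PC P : Scheme.{u}} (𝒮 𝒮h : RelProj.QCGrAlg Y) (h0 : RelCone.StrZeroBij 𝒮)
    (ι : 𝒮.toQCAlg ⟶ 𝒮h.toQCAlg) (z : 𝒮h.presheaf.obj (op ⊤)) (hz : RelCone.IsPolyOver 𝒮 𝒮h ι z)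
    (pC : PC ⟶ Y)
    (chartC : ∀ (U : Y.Opens) (hU : IsAffineOpen U), (((pC ⁻¹ᵁ U : PC.Opens) : Scheme.{u}) ≅ Proj (𝒮h.deg U hU)))
    (hPC : RelProj.IsRelProj 𝒮h pC chartC)
    (p : P ⟶ Y)
    (chart : ∀ (U : Y.Opens) (hU : IsAffineOpen U), (((p ⁻¹ᵁ U : P.Opens) : Scheme.{u}) ≅ Proj (𝒮.deg U hU)))
    (hP : RelProj.IsRelProj 𝒮 p chart) :
    (∃! r : ((RelCone.pointedProjCone 𝒮 hz pC chartC : PC.Opens) : Scheme.{u}) ⟶ P,
      (∀ (U : Y.Opens) (hU : IsAffineOpen U) (d : ℕ) (hd : 0 < d) (f : 𝒮.presheaf.obj (op U)) (hf : f ∈ 𝒮.deg U hU d)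
        (g : Spec (CommRingCat.of (HomogeneousLocalization.Away (𝒮h.deg U hU) ((RelProj.gradedHomAt ι hz.graded U hU) f))) ⟶
          ((RelCone.pointedProjCone 𝒮 hz pC chartC : PC.Opens) : Scheme.{u})),
        g ≫ (RelCone.pointedProjCone 𝒮 hz pC chartC).ι =
            Proj.awayι (𝒮h.deg U hU) ((RelProj.gradedHomAt ι hz.graded U hU) f) ((RelProj.gradedHomAt ι hz.graded U hU).2 hf) hd ≫
              RelProj.emb pC chartC U hU →
          g ≫ r =
            Spec.map (CommRingCat.ofHom (HomogeneousLocalization.Away.map (RelProj.gradedHomAt ι hz.graded U hU) f)) ≫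
              Proj.awayι (𝒮.deg U hU) f hf hd ≫ RelProj.emb p chart U hU)) ∧
    ∀ r : ((RelCone.pointedProjCone 𝒮 hz pC chartC : PC.Opens) : Scheme.{u}) ⟶ P,
      (∀ (U : Y.Opens) (hU : IsAffineOpen U) (d : ℕ) (hd : 0 < d) (f : 𝒮.presheaf.obj (op U)) (hf : f ∈ 𝒮.deg U hU d)
        (g : Spec (CommRingCat.of (HomogeneousLocalization.Away (𝒮h.deg U hU) ((RelProj.gradedHomAt ι hz.graded U hU) f))) ⟶
          ((RelCone.pointedProjCone 𝒮 hz pC chartC : PC.Opens) : Scheme.{u})),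
        g ≫ (RelCone.pointedProjCone 𝒮 hz pC chartC).ι =
            Proj.awayι (𝒮h.deg U hU) ((RelProj.gradedHomAt ι hz.graded U hU) f) ((RelProj.gradedHomAt ι hz.graded U hU).2 hf) hd ≫
              RelProj.emb pC chartC U hU →
          g ≫ r =
            Spec.map (CommRingCat.ofHom (HomogeneousLocalization.Away.map (RelProj.gradedHomAt ι hz.graded U hU) f)) ≫
              Proj.awayι (𝒮.deg U hU) f hf hd ≫ RelProj.emb p chart U hU) →
      IsAffineHom r ∧ Function.Surjective r.base ∧ r ≫ p = (RelCone.pointedProjCone 𝒮 hz pC chartC).ι ≫ pC ∧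
        ∀ (θ : 𝒮h.toQCAlg ⟶ 𝒮.toQCAlg) (hθ : RelProj.IsGradedHom θ), ι ≫ θ = 𝟙 _ →
          (θ.hom.app (op ⊤)).hom z = 0 →
          ∀ (hirr : ∀ (U : Y.Opens) (hU : IsAffineOpen U),
              (𝒮.deg U hU)₊ ≤ ((𝒮h.deg U hU)₊).map (RelProj.gradedHomAt θ hθ U hU))
            (j : P ⟶ PC), RelProj.IsRelProjMap θ hθ hirr chartC chart j →
            ∀ j' : P ⟶ ((RelCone.pointedProjCone 𝒮 hz pC chartC : PC.Opens) : Scheme.{u}), j' ≫ (RelCone.pointedProjCone 𝒮 hz pC chartC).ι = j → j' ≫ r = 𝟙 P := by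
  classical
  let uq := RelProj.QGrHom.ofHom ι hz.graded
  have hW : RelCone.pointedProjCone 𝒮 hz pC chartC = RelProj.domQ uq pC chartC :=
    Groth.Agent.RelProjBasic.pointedProjCone_eq_domQ hz hPC
  have hψ := fun U hU => Groth.Agent.RelProjBasic.self_ofHom hz.graded U hU
  obtain ⟨v, hv, -⟩ := Groth.Agent.RelProjBasic.existsUnique_isProjQMapOn (u := uq) hP hPC
  have hr0 := fun U hU d hd f hf g hg =>
    Groth.Agent.RelProjBasic.qmap_chart_spec uq hv _ hW U hU (RelProj.gradedHomAt ι hz.graded U hU) (hψ U hU) d hd f hf g hg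
  choose cU chU cd chd cf chf cg hgo hgι hgx using
    Groth.Agent.RelProjBasic.exists_diag_chart uq hPC _ hW (fun U hU => RelProj.gradedHomAt ι hz.graded U hU) hψ
  let 𝒰 : ((RelCone.pointedProjCone 𝒮 hz pC chartC : PC.Opens) : Scheme.{u}).OpenCover :=
    { I₀ := ((RelCone.pointedProjCone 𝒮 hz pC chartC : PC.Opens) : Scheme.{u})
      X := fun x => Spec (CommRingCat.of (HomogeneousLocalization.Away (𝒮h.deg (cU x) (chU x))
        (RelProj.gradedHomAt ι hz.graded (cU x) (chU x) (cf x))))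
      f := cg
      mem₀ := by
        rw [Scheme.presieve₀_mem_precoverage_iff]
        exact ⟨fun x => ⟨x, hgx x⟩, hgo⟩ }
  refine ⟨⟨(PC.isoOfEq hW).hom ≫ v, hr0, fun r hr => Scheme.Cover.hom_ext 𝒰 _ _ fun x =>
    (hr _ (chU x) _ (chd x) _ (chf x) (cg x) (hgι x)).trans (hr0 _ (chU x) _ (chd x) _ (chf x) (cg x) (hgι x)).symm⟩, ?_⟩
  intro r hr
  have hrv : r = (PC.isoOfEq hW).hom ≫ v := Scheme.Cover.hom_ext 𝒰 _ _ fun x =>
    (hr _ (chU x) _ (chd x) _ (chf x) (cg x) (hgι x)).trans (hr0 _ (chU x) _ (chd x) _ (chf x) (cg x) (hgι x)).symm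
  have hex : ∀ (U : Y.Opens) (hU : IsAffineOpen U) (d : ℕ) (hd : 0 < d) (f : 𝒮.presheaf.obj (op U)) (hf : f ∈ 𝒮.deg U hU d),
      ∃ g : Spec (CommRingCat.of (HomogeneousLocalization.Away (𝒮h.deg U hU) ((RelProj.gradedHomAt ι hz.graded U hU) f))) ⟶
          ((RelCone.pointedProjCone 𝒮 hz pC chartC : PC.Opens) : Scheme.{u}),
        g ≫ (RelCone.pointedProjCone 𝒮 hz pC chartC).ι =
            Proj.awayι (𝒮h.deg U hU) ((RelProj.gradedHomAt ι hz.graded U hU) f) ((RelProj.gradedHomAt ι hz.graded U hU).2 hf) hd ≫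
              RelProj.emb pC chartC U hU := by
    intro U hU d hd f hf
    refine ⟨IsOpenImmersion.lift _ _ ?_, IsOpenImmersion.lift_fac _ _ _⟩
    rw [Scheme.Opens.range_ι]
    rintro _ ⟨w, rfl⟩
    refine ((Groth.Agent.RelProjBasic.pointedProjCone_inf hz hPC U hU).ge ⟨_, ?_, rfl⟩).1
    exact Groth.Agent.RelProjBasic.mem_domOpen_of _ hd hf
      ((ProjectiveSpectrum.mem_basicOpen _ _ _).mp ((Proj.opensRange_awayι _ _ _ hd).le ⟨w, rfl⟩))
  refine ⟨?_, fun x => ?_, ?_, ?_⟩
  · have := Groth.Agent.RelProjBasic.qmap_of_away (Q := @IsAffineHom) uq hP hPC hv fun _ _ _ _ _ _ => inferInstance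
    rw [hrv]
    infer_instance
  · obtain ⟨U, hU, d, hd, f, hf, w, rfl⟩ := Groth.Agent.RelProjBasic.exists_awayι_emb_eq (chart := chart) x
    obtain ⟨ρ, hρ⟩ := Groth.Agent.RelProjBasic.exists_retraction hz U hU
    obtain ⟨w', rfl⟩ := Groth.Agent.RelProjBasic.surjective_specMap_away _ ρ hρ f w
    obtain ⟨g, hg⟩ := hex U hU d hd f hf
    exact ⟨g w', congrArg (fun q => q.base w') (hr U hU d hd f hf g hg)⟩
  · rw [hrv, Category.assoc, Groth.Agent.RelProjBasic.qmap_comp hP hPC hv, Category.comp_id, Scheme.isoOfEq_hom_ι_assoc]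
  · intro θ hθ hιθ _ hirr j hj j' hj'
    choose cU' chU' cd' chd' cf' chf' hx' using Groth.Agent.RelProjBasic.exists_awayι_emb_eq (chart := chart)
    let 𝒱 : P.OpenCover :=
      { I₀ := P
        X := fun x => Spec (CommRingCat.of (HomogeneousLocalization.Away (𝒮.deg (cU' x) (chU' x)) (cf' x)))
        f := fun x => Proj.awayι (𝒮.deg (cU' x) (chU' x)) (cf' x) (chf' x) (chd' x) ≫ RelProj.emb p chart (cU' x) (chU' x)
        mem₀ := by
          rw [Scheme.presieve₀_mem_precoverage_iff]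
          exact ⟨fun x => ⟨x, hx' x⟩, inferInstance⟩ }
    refine Scheme.Cover.hom_ext 𝒱 _ _ fun x => ?_
    let U := cU' x
    let hU := chU' x
    let θU := RelProj.gradedHomAt θ hθ U hU
    let ψ := RelProj.gradedHomAt ι hz.graded U hU
    have hret : ∀ a, θU (ψ a) = a := fun a =>
      ConcreteCategory.congr_hom (NatTrans.congr_app (congrArg RelSpec.QCAlg.Hom.hom hιθ) (op U)) a
    obtain ⟨g, hg⟩ := hex U hU (cd' x) (chd' x) (cf' x) (chf' x)
    have hle := Groth.Agent.RelProjBasic.powers_le_comap ψ θU hret (cf' x)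
    have hjU : RelProj.emb p chart U hU ≫ j =
        Proj.map θU (hirr U hU) ≫ RelProj.emb pC chartC U hU := by
      rw [RelProj.emb, Category.assoc, hj U hU, Iso.inv_hom_id_assoc]
      rfl
    have key : (Proj.awayι (𝒮.deg U hU) (cf' x) (chf' x) (chd' x) ≫ RelProj.emb p chart U hU) ≫ j' =
        Spec.map (CommRingCat.ofHom (HomogeneousLocalization.map θU hle)) ≫ g := by
      rw [← cancel_mono (RelCone.pointedProjCone 𝒮 hz pC chartC).ι]
      simp only [Category.assoc]
      rw [hj', hjU, hg, reassoc_of% (Groth.Agent.RelProjBasic.awayι_comp_map' θU (hirr U hU) (chd' x) (ψ (cf' x))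
        (ψ.map_mem (chf' x)) (cf' x) (chf' x) (hret _) hle)]
    show (Proj.awayι (𝒮.deg U hU) (cf' x) (chf' x) (chd' x) ≫ RelProj.emb p chart U hU) ≫ j' ≫ r =
      (Proj.awayι (𝒮.deg U hU) (cf' x) (chf' x) (chd' x) ≫ RelProj.emb p chart U hU) ≫ 𝟙 P
    refine ((Category.assoc _ _ _).symm.trans (congrArg (· ≫ r) key)).trans ?_
    rw [Category.assoc, hr U hU _ (chd' x) _ (chf' x) g hg, ← Spec.map_comp_assoc, ← CommRingCat.ofHom_comp,
      Groth.Agent.RelProjBasic.retraction_comp ψ θU hret (cf' x), CommRingCat.ofHom_id, Spec.map_id, Category.id_comp,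
      Category.comp_id]

end Groth.Agent.S8308
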