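import Mathlib
import Groth.Statements.S8310
-- import your own Groth.Agent.* helpers here

set_option autoImplicit false
universe u
open CategoryTheory AlgebraicGeometry
open scoped HomogeneousIdeal
open EGA2

namespace Groth.Agent.S8310

open DirectSum Polynomial

section

variable {R A B C : Type u} [CommRing R] [CommRing A] [Algebra R A]
    (𝒜 : ℕ → Submodule R A) [GradedAlgebra 𝒜] [CommRing B] [Algebra R B] (ℬ : ℕ → Submodule R B) [GradedAlgebra ℬ]
    [CommRing C]
    (φ : B →ₐ[R] Polynomial A) (hφ : Function.Injective φ)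
    (hdeg : ∀ n : ℕ, Submodule.map φ.toLinearMap (ℬ n) =
      Submodule.map ((Polynomial.monomial n : A →ₗ[A] Polynomial A).restrictScalars R) (⨆ (m : ℕ) (_ : n ≤ m), 𝒜 m))
    (π : B →+* C)
    (hker : RingHom.ker π =
      Ideal.span (⇑φ ⁻¹' (⇑(Polynomial.C : A →+* Polynomial A) '' ((HomogeneousIdeal.irrelevant 𝒜).toIdeal : Set A))))

include hdeg in
lemma exists_lift {n : ℕ} {a : A} (ha : a ∈ ⨆ (m : ℕ) (_ : n ≤ m), 𝒜 m) :
    ∃ b ∈ ℬ n, φ b = monomial n a := by
  have h : monomial n a ∈ Submodule.map φ.toLinearMap (ℬ n) := by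
    rw [hdeg n]
    exact ⟨a, ha, rfl⟩
  obtain ⟨b, hb, hb'⟩ := h
  exact ⟨b, hb, hb'⟩

omit [CommRing C] in
lemma mem_tail {n m : ℕ} (h : n ≤ m) {a : A} (ha : a ∈ 𝒜 m) : a ∈ ⨆ (m : ℕ) (_ : n ≤ m), 𝒜 m :=
  Submodule.mem_iSup_of_mem m (Submodule.mem_iSup_of_mem h ha)

include hdeg in
omit [CommRing C] in
lemma exists_coeff {n : ℕ} {b : B} (hb : b ∈ ℬ n) :
    ∃ a, a ∈ ⨆ (m : ℕ) (_ : n ≤ m), 𝒜 m ∧ φ b = monomial n a := by
  have h : φ b ∈ Submodule.map φ.toLinearMap (ℬ n) := ⟨b, hb, rfl⟩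
  rw [hdeg n] at h
  obtain ⟨a, ha, hab⟩ := h
  exact ⟨a, ha, hab.symm⟩

include hφ hdeg hker in
lemma nilp_piece {d m : ℕ} (hdm : d < m) {a : A} (ha : a ∈ 𝒜 m) {b : B} (hab : φ b = monomial d a) :
    IsNilpotent (π b) := by
  refine ⟨d + 1, ?_⟩
  obtain ⟨b1, hb1, hb1'⟩ := exists_lift 𝒜 ℬ φ hdeg (mem_tail 𝒜 (Nat.zero_le m) ha)
  have hpow : a ^ d ∈ 𝒜 (d • m) := SetLike.pow_mem_graded d ha
  obtain ⟨b2, hb2, hb2'⟩ := exists_lift 𝒜 ℬ φ hdeg
    (mem_tail 𝒜 (n := d * (d + 1)) (by rw [smul_eq_mul]; exact Nat.mul_le_mul_left d hdm) hpow)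
  have hb : b ^ (d + 1) = b1 * b2 := hφ <| by
    rw [map_pow, map_mul, hab, hb1', hb2', monomial_pow, monomial_mul_monomial, zero_add, pow_succ']
  have h0 : π b1 = 0 := by
    rw [← RingHom.mem_ker, hker]
    refine Ideal.subset_span ⟨a, ?_, ?_⟩
    · exact HomogeneousIdeal.mem_irrelevant_of_mem 𝒜 (by omega) ha
    · rw [hb1', monomial_zero_left]
  rw [← map_pow, hb, map_mul, h0, zero_mul]

include hφ hdeg hker in
lemma nilp_coeff {d : ℕ} {b : B} (hb : b ∈ ℬ d) (h0 : GradedRing.proj 𝒜 d ((φ b).coeff d) = 0) :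
    IsNilpotent (π b) := by
  classical
  obtain ⟨a, ha, hab⟩ := exists_coeff 𝒜 ℬ φ hdeg hb
  rw [hab, coeff_monomial, if_pos rfl, GradedRing.proj_apply] at h0
  -- components below `d` vanish
  have hlow : ∀ m, m < d → (decompose 𝒜 a m : A) = 0 := by
    intro m hm
    refine Submodule.iSup_induction _ (motive := fun a => (decompose 𝒜 a m : A) = 0) ha ?_ ?_ ?_
    · intro j x hx
      by_cases hj : d ≤ j
      · rw [iSup_pos hj] at hx
        exact decompose_of_mem_ne 𝒜 hx (by omega)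
      · rw [iSup_neg hj, Submodule.mem_bot] at hx
        simp [hx]
    · simp
    · intro x y hx hy
      simp [hx, hy]
  have hmem : ∀ m, ∀ hm : d < m, ∃ c ∈ ℬ d, φ c = monomial d (decompose 𝒜 a m : A) := fun m hm =>
    exists_lift 𝒜 ℬ φ hdeg (mem_tail 𝒜 hm.le (decompose 𝒜 a m).2)
  choose c hc hc' using hmem
  let c' : ℕ → B := fun m => if hm : d < m then c m hm else 0
  have hsum : b = ∑ m ∈ (decompose 𝒜 a).support, c' m := hφ <| by
    rw [map_sum, hab]
    conv_lhs => rw [← sum_support_decompose 𝒜 a, map_sum]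
    refine Finset.sum_congr rfl fun m _ => ?_
    rcases lt_trichotomy m d with h | h | h
    · simp [c', hlow m h, not_lt.2 h.le]
    · subst h
      simp [c', h0]
    · simp [c', h, hc']
  rw [hsum, map_sum]
  refine isNilpotent_sum fun m _ => ?_
  by_cases hm : d < m
  · simp only [c', dif_pos hm]
    exact nilp_piece 𝒜 ℬ φ hφ hdeg π hker hm (decompose 𝒜 a m).2 (hc' m hm)
  · simp [c', dif_neg hm]

end

/-- Let S be a positively graded ring (an ℕ-graded R-algebra), S♮ the graded ring with S♮_n = S_[n] =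
⊕_{m ≥ n} S_m (presented as a graded ring S' with an injective algebra homomorphism φ : S' → S[X]
carrying S'_n onto S_[n]·X^n), and T = S♮ ⊗_S S_0 = ⊕_n S_[n]/S_+S_[n] (presented as a graded ring
with a surjective graded homomorphism π : S' → T whose kernel is the ideal generated by the elements
of S' corresponding to the constants in S_+); let ρ : T → S be the surjective graded homomorphism
sending the class of a ∈ S_[n] (in degree n) to the degree-n component of a, and Proj S → Proj T the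
morphism it induces (a closed immersion, ρ being surjective). Then this morphism Proj S → Proj T is
bijective. -/
theorem result {R A B C : Type u} [CommRing R] [CommRing A] [Algebra R A]
    (𝒜 : ℕ → Submodule R A) [GradedAlgebra 𝒜] [CommRing B] [Algebra R B] (ℬ : ℕ → Submodule R B) [GradedAlgebra ℬ]
    (φ : B →ₐ[R] Polynomial A) (hφ : Function.Injective φ)
    (hdeg : ∀ n : ℕ, Submodule.map φ.toLinearMap (ℬ n) =
      Submodule.map ((Polynomial.monomial n : A →ₗ[A] Polynomial A).restrictScalars R) (⨆ (m : ℕ) (_ : n ≤ m), 𝒜 m))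
    [CommRing C] [Algebra R C] (𝒞 : ℕ → Submodule R C) [GradedAlgebra 𝒞]
    (π : ℬ →+*ᵍ 𝒞) (hπ : Function.Surjective π)
    (hker : RingHom.ker π.toRingHom =
      Ideal.span (⇑φ ⁻¹' (⇑(Polynomial.C : A →+* Polynomial A) '' ((HomogeneousIdeal.irrelevant 𝒜).toIdeal : Set A))))
    (ρ : 𝒞 →+*ᵍ 𝒜) (hρ : ∀ (n : ℕ) (b : B), b ∈ ℬ n → ρ (π b) = GradedRing.proj 𝒜 n ((φ b).coeff n))
    (hirr : HomogeneousIdeal.irrelevant 𝒜 ≤ (HomogeneousIdeal.irrelevant 𝒞).map ρ) :
    Function.Bijective (Proj.map ρ hirr).base := by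
  classical
  have hsurj : Function.Surjective ρ := by
    intro a
    induction a using DirectSum.Decomposition.inductionOn 𝒜 with
    | zero => exact ⟨0, map_zero ρ⟩
    | @homogeneous n x =>
      obtain ⟨b, hb, hb'⟩ := exists_lift 𝒜 ℬ φ hdeg (mem_tail 𝒜 le_rfl x.2)
      refine ⟨π b, ?_⟩
      rw [hρ n b hb, hb', coeff_monomial, if_pos rfl, GradedRing.proj_apply, decompose_of_mem_same 𝒜 x.2]
    | add a b ha hb =>
      obtain ⟨u, rfl⟩ := ha
      obtain ⟨v, rfl⟩ := hb
      exact ⟨u + v, map_add ρ u v⟩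
  have hnil : ∀ z, ρ z = 0 → IsNilpotent z := by
    intro z hz
    obtain ⟨w, rfl⟩ := hπ z
    conv => rw [← sum_support_decompose ℬ w, map_sum]
    refine isNilpotent_sum fun d _ => ?_
    refine nilp_coeff 𝒜 ℬ φ hφ hdeg π.toRingHom hker (decompose ℬ w d).2 ?_
    rw [← hρ d _ (decompose ℬ w d).2, GradedRingHom.map_directSumDecompose, GradedRingHom.map_directSumDecompose, hz,
      decompose_zero]
    rfl
  refine ⟨fun x y hxy => ?_, fun y => ?_⟩
  · apply ProjectiveSpectrum.ext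
    refine HomogeneousIdeal.toIdeal_injective (Ideal.comap_injective_of_surjective ρ.toRingHom hsurj ?_)
    exact congrArg (fun p : ProjectiveSpectrum 𝒞 => p.asHomogeneousIdeal.toIdeal) hxy
  · have hle : RingHom.ker ρ ≤ y.asHomogeneousIdeal.toIdeal := fun z hz => by
      obtain ⟨k, hk⟩ := hnil z hz
      exact y.isPrime.mem_of_pow_mem k (hk ▸ Ideal.zero_mem _)
    have hcm : (y.asHomogeneousIdeal.toIdeal.map ρ).comap ρ = y.asHomogeneousIdeal.toIdeal := by
      rw [Ideal.comap_map_of_surjective' ρ hsurj, sup_eq_left.2 hle]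
    have hp : (y.asHomogeneousIdeal.map ρ).toIdeal.IsPrime := by
      have := y.isPrime
      exact Ideal.map_isPrime_of_surjective hsurj hle
    have hrel : ¬ HomogeneousIdeal.irrelevant 𝒜 ≤ y.asHomogeneousIdeal.map ρ := fun h => by
      refine y.not_irrelevant_le fun z hz => ?_
      have hz' : ρ z ∈ HomogeneousIdeal.irrelevant 𝒜 := by
        change GradedRing.proj 𝒜 0 (ρ z) = 0
        rw [GradedRing.proj_apply, ← GradedRingHom.map_directSumDecompose,
          show (decompose 𝒞 z 0 : C) = 0 from hz, map_zero]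
      change z ∈ y.asHomogeneousIdeal.toIdeal
      rw [← hcm]
      exact h hz'
    exact ⟨⟨y.asHomogeneousIdeal.map ρ, hp, hrel⟩,
      ProjectiveSpectrum.ext (HomogeneousIdeal.toIdeal_injective hcm)⟩

end Groth.Agent.S8310
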