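import Groth.Statements.S8311
import Groth.Agent.S8310
import Groth.Agent.ProjQuot.Iso
import Mathlib
-- import your own Groth.Agent.* helpers here

set_option autoImplicit false
universe u
open CategoryTheory AlgebraicGeometry
open scoped HomogeneousIdeal
open EGA2

namespace Groth.Agent.S8311

section
open AlgebraicGeometry CategoryTheory Opposite TopologicalSpace DirectSum Graded Groth.Agent.ProjQuot Groth.Agent.ProjGamma
variable {R A B : Type u} [CommRing R] [CommRing A] [Algebra R A] {𝒜 : ℕ → Submodule R A} [GradedAlgebra 𝒜]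
  [CommRing B] [Algebra R B] {ℬ : ℕ → Submodule R B} [GradedAlgebra ℬ] (φ : 𝒜 →+*ᵍ ℬ)
  (hφ : HomogeneousIdeal.irrelevant ℬ ≤ (HomogeneousIdeal.irrelevant 𝒜).map φ)

set_option synthInstance.maxHeartbeats 400000 in
theorem isIso_map_of_eventually (hs : ∀ n, 0 < n → ∀ b ∈ ℬ n, ∃ a ∈ 𝒜 n, φ a = b) (n₀ : ℕ)
    (hinj : ∀ n, n₀ ≤ n → ∀ a ∈ 𝒜 n, φ a = 0 → a = 0) : IsIso (Proj.map φ hφ) := by
  have hci : IsClosedImmersion (Proj.map φ hφ) := isClosedImmersion_map' φ hφ hs
  rw [IsClosedImmersion.isIso_iff_ker_eq_bot]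
  let ι := Σ' (d : ℕ) (g : A), 0 < d ∧ g ∈ 𝒜 d
  refine Scheme.IdealSheafData.ext_of_iSup_eq_top
    (fun i : ι => ⟨Proj.basicOpen 𝒜 i.2.1, Proj.isAffineOpen_basicOpen 𝒜 _ i.2.2.2 i.2.2.1⟩) ?_ ?_
  · refine Proj.iSup_basicOpen_eq_top 𝒜 _ ((HomogeneousIdeal.toIdeal_irrelevant_le _).mpr fun n hn x hx => ?_)
    exact Ideal.subset_span ⟨⟨n, x, hn, hx⟩, rfl⟩
  rintro ⟨d, g, hd, hg⟩
  rw [Scheme.Hom.ker_apply, Scheme.IdealSheafData.ideal_bot, Pi.bot_apply, eq_bot_iff]
  intro c hc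
  rw [RingHom.mem_ker] at hc
  obtain ⟨k, a, ha, -, hca⟩ := ProjTwist.exists_frac_regular 𝒜 hd hg c
  have hgk : g ^ k ∈ 𝒜 (k * d) := by simpa [smul_eq_mul] using SetLike.pow_mem_graded k hg
  obtain rfl : c = regFrac (Proj.basicOpen 𝒜 g) a (g ^ k) ha hgk (fun x => notMem_pow x.2 k) :=
    reg_ext fun x hx => (hca x hx).trans (rval_regFrac (Proj.basicOpen 𝒜 g) a (g ^ k) ha hgk (fun x => notMem_pow x.2 k) x hx).symm
  obtain ⟨N, hN⟩ := (map_app_regFrac_eq_zero_iff φ hφ hd hg a ha hgk).mp hc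
  have h0 : g ^ (N + 1 + n₀) * a = 0 := by
    refine hinj ((N + 1 + n₀) * d + k * d) (le_add_right (le_trans (by omega) (Nat.le_mul_of_pos_right _ hd))) _
      (SetLike.mul_mem_graded (by simpa [smul_eq_mul] using SetLike.pow_mem_graded (N + 1 + n₀) hg) ha) ?_
    rw [show g ^ (N + 1 + n₀) * a = g ^ (1 + n₀) * (g ^ N * a) by ring, map_mul, hN, mul_zero]
  refine Ideal.mem_bot.mpr (reg_ext fun x hx => (rval_regFrac _ _ _ _ _ _ x hx).trans ?_)
  refine Eq.trans ?_ HomogeneousLocalization.val_zero.symm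
  rw [← Localization.mk_zero 1, Localization.mk_eq_mk_iff, Localization.r_iff_exists]
  exact ⟨⟨g ^ (N + 1 + n₀), notMem_pow hx _⟩, by simpa using h0⟩

end

/-- Let S be a positively graded ring (an ℕ-graded R-algebra), S♮ the graded ring with S♮_n = S_[n] =
⊕_{m ≥ n} S_m (presented as a graded ring S' with an injective algebra homomorphism φ : S' → S[X]
carrying S'_n onto S_[n]·X^n), and T = S♮ ⊗_S S_0 = ⊕_n S_[n]/S_+S_[n] (presented as a graded ring
with a surjective graded homomorphism π : S' → T whose kernel is the ideal generated by the elements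
of S' corresponding to the constants in S_+); let ρ : T → S be the surjective graded homomorphism
sending the class of a ∈ S_[n] (in degree n) to the degree-n component of a, and Proj S → Proj T the
morphism it induces (a closed immersion, ρ being surjective). If there is n₀ such that S_{n+1} = S_1
S_n for every n ≥ n₀ (products of graded pieces as submodules), then the morphism Proj S → Proj T is
an isomorphism. (The published statement also asserts the converse when S is Noetherian; that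
converse is not correct as published: for S = k[y] with y of degree 2 the morphism is an isomorphism
of one-point schemes Spec k while S_{2m} ≠ S_1 S_{2m−1} = 0 for all m, so only the direct
implication is stated here.) -/
theorem result {R A B C : Type u} [CommRing R] [CommRing A] [Algebra R A]
    (𝒜 : ℕ → Submodule R A) [GradedAlgebra 𝒜] [CommRing B] [Algebra R B] (ℬ : ℕ → Submodule R B) [GradedAlgebra ℬ]
    (φ : B →ₐ[R] Polynomial A) (hφ : Function.Injective φ)
    (hdeg : ∀ n : ℕ, Submodule.map φ.toLinearMap (ℬ n) =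
      Submodule.map ((Polynomial.monomial n : A →ₗ[A] Polynomial A).restrictScalars R) (⨆ (m : ℕ) (_ : n ≤ m), 𝒜 m))
    [CommRing C] [Algebra R C] (𝒞 : ℕ → Submodule R C) [GradedAlgebra 𝒞]
    (π : ℬ →+*ᵍ 𝒞) (hπ : Function.Surjective π)
    (hker : RingHom.ker π.toRingHom =
      Ideal.span (⇑φ ⁻¹' (⇑(Polynomial.C : A →+* Polynomial A) '' ((HomogeneousIdeal.irrelevant 𝒜).toIdeal : Set A))))
    (ρ : 𝒞 →+*ᵍ 𝒜) (hρ : ∀ (n : ℕ) (b : B), b ∈ ℬ n → ρ (π b) = GradedRing.proj 𝒜 n ((φ b).coeff n))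
    (hirr : HomogeneousIdeal.irrelevant 𝒜 ≤ (HomogeneousIdeal.irrelevant 𝒞).map ρ)
    (hgen : ∃ n₀ : ℕ, ∀ n : ℕ, n₀ ≤ n → 𝒜 (n + 1) = 𝒜 1 * 𝒜 n) :
    IsIso (Proj.map ρ hirr) := by
  classical
  obtain ⟨n₀, hgen⟩ := hgen
  have hsurj : ∀ n, 0 < n → ∀ x ∈ 𝒜 n, ∃ z ∈ 𝒞 n, ρ z = x := by
    intro n _ x hx
    obtain ⟨b, hb, hb'⟩ := Groth.Agent.S8310.exists_lift 𝒜 ℬ φ hdeg (Groth.Agent.S8310.mem_tail 𝒜 le_rfl hx)
    refine ⟨π b, π.map_mem hb, ?_⟩
    rw [hρ n b hb, hb', Polynomial.coeff_monomial, if_pos rfl, GradedRing.proj_apply, DirectSum.decompose_of_mem_same 𝒜 hx]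
  refine isIso_map_of_eventually ρ hirr hsurj (n₀ + 1) fun n hn z hz hz0 => ?_
  obtain ⟨w, rfl⟩ := hπ z
  rw [show π w = π (DirectSum.decompose ℬ w n : B) from by
    rw [GradedRingHom.map_directSumDecompose, DirectSum.decompose_of_mem_same 𝒞 hz]] at hz0 ⊢
  generalize hv : (DirectSum.decompose ℬ w n : B) = v at hz0 ⊢
  have hvm : v ∈ ℬ n := hv ▸ SetLike.coe_mem _
  obtain ⟨a, ha, hab⟩ := Groth.Agent.S8310.exists_coeff 𝒜 ℬ φ hdeg hvm
  rw [hρ n v hvm, hab, Polynomial.coeff_monomial, if_pos rfl, GradedRing.proj_apply] at hz0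
  let P : A → Prop := fun c => ∃ b : B, φ b = Polynomial.monomial n c ∧ π b = 0
  have hPadd : ∀ x y, P x → P y → P (x + y) := fun x y ⟨b, h1, h2⟩ ⟨b', h1', h2'⟩ =>
    ⟨b + b', by rw [map_add, map_add, h1, h1'], by rw [map_add, h2, h2', add_zero]⟩
  have hP0 : P 0 := ⟨0, by simp, map_zero π⟩
  have hPm : ∀ m, n < m → ∀ c ∈ 𝒜 m, P c := fun m hm c hc => by
    obtain ⟨j, rfl⟩ : ∃ j, m = j + 1 := ⟨m - 1, by omega⟩
    rw [hgen j (by omega)] at hc
    refine Submodule.mul_induction_on hc (fun x hx y hy => ?_) hPadd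
    obtain ⟨b1, -, hb1⟩ := Groth.Agent.S8310.exists_lift 𝒜 ℬ φ hdeg (Groth.Agent.S8310.mem_tail 𝒜 (Nat.zero_le 1) hx)
    obtain ⟨b2, -, hb2⟩ := Groth.Agent.S8310.exists_lift 𝒜 ℬ φ hdeg (Groth.Agent.S8310.mem_tail 𝒜 (n := n) (by omega) hy)
    refine ⟨b1 * b2, by rw [map_mul, hb1, hb2, Polynomial.monomial_mul_monomial, zero_add], ?_⟩
    have h0 : π b1 = 0 := by
      change π.toRingHom b1 = 0
      rw [← RingHom.mem_ker, hker]
      refine Ideal.subset_span ⟨x, HomogeneousIdeal.mem_irrelevant_of_mem 𝒜 (by omega) hx, ?_⟩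
      rw [hb1, Polynomial.monomial_zero_left]
    rw [map_mul, h0, zero_mul]
  have hlow : ∀ m, m < n → (DirectSum.decompose 𝒜 a m : A) = 0 := by
    intro m hm
    refine Submodule.iSup_induction _ (motive := fun a => (DirectSum.decompose 𝒜 a m : A) = 0) ha ?_ ?_ ?_
    · intro j x hx
      by_cases hj : n ≤ j
      · rw [iSup_pos hj] at hx
        exact DirectSum.decompose_of_mem_ne 𝒜 hx (by omega)
      · rw [iSup_neg hj, Submodule.mem_bot] at hx
        simp [hx]
    · simp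
    · intro x y hx hy
      simp [hx, hy]
  obtain ⟨b, hb1, hb2⟩ : P a := by
    rw [← DirectSum.sum_support_decompose 𝒜 a]
    refine Finset.sum_induction _ P hPadd hP0 fun m _ => ?_
    rcases lt_trichotomy m n with h | h | h
    · rw [hlow m h]; exact hP0
    · subst h; rw [hz0]; exact hP0
    · exact hPm m h _ (SetLike.coe_mem _)
  rw [show v = b from hφ (hab.trans hb1.symm), hb2]

end Groth.Agent.S8311
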