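import Groth.Statements.S8312
import Mathlib
-- import your own Groth.Agent.* helpers here

set_option autoImplicit false
universe u
open scoped HomogeneousIdeal
open EGA2

namespace Groth.Agent.S8312

/-- Let S be a positively graded ring (an ℕ-graded R-algebra) and S♮ the graded ring with S♮_n = S_[n] =
⊕_{m ≥ n} S_m, presented as a graded ring S' with an injective algebra homomorphism φ : S' → S[X]
carrying S'_n onto S_[n]·X^n; for a homogeneous f ∈ S_d write f♮ for the element of S' with φ(f♮) =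
f·X^d (f placed in degree d of S♮). If (f_α) is a family of homogeneous elements of S of positive
degrees such that every element of the irrelevant ideal S_+ has a positive power in the ideal
generated by the f_α (that is, S_+ is the radical in S_+ of that ideal), then every element of the
irrelevant ideal S'_+ has a positive power in the ideal of S' generated by the f_α♮. -/
theorem result {R A B : Type u} [CommRing R] [CommRing A] [Algebra R A]
    (𝒜 : ℕ → Submodule R A) [GradedAlgebra 𝒜] [CommRing B] [Algebra R B] (ℬ : ℕ → Submodule R B) [GradedAlgebra ℬ]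
    (φ : B →ₐ[R] Polynomial A) (hφ : Function.Injective φ)
    (hdeg : ∀ n : ℕ, Submodule.map φ.toLinearMap (ℬ n) =
      Submodule.map ((Polynomial.monomial n : A →ₗ[A] Polynomial A).restrictScalars R) (⨆ (m : ℕ) (_ : n ≤ m), 𝒜 m))
    {ι : Type u} (d : ι → ℕ) (hd : ∀ a, 0 < d a) (f : ι → A) (hf : ∀ a, f a ∈ 𝒜 (d a))
    (hrad : ∀ g ∈ (HomogeneousIdeal.irrelevant 𝒜).toIdeal, ∃ n : ℕ, 0 < n ∧ g ^ n ∈ Ideal.span (Set.range f))
    (fn : ι → B) (hfn : ∀ a, φ (fn a) = Polynomial.monomial (d a) (f a)) :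
    ∀ g ∈ (HomogeneousIdeal.irrelevant ℬ).toIdeal, ∃ n : ℕ, 0 < n ∧ g ^ n ∈ Ideal.span (Set.range fn) := by
  classical
  intro g hg
  set J := Ideal.span (Set.range fn)
  suffices hgr : g ∈ J.radical by
    obtain ⟨n, hn⟩ := hgr
    exact ⟨n + 1, by omega, by rw [pow_succ]; exact Ideal.mul_mem_right _ _ hn⟩
  let T : ℕ → Submodule R A := fun n => ⨆ (m : ℕ) (_ : n ≤ m), 𝒜 m
  let mono : ℕ → (A →ₗ[R] Polynomial A) := fun n => (Polynomial.monomial n : A →ₗ[A] Polynomial A).restrictScalars R
  have hlift : ∀ n m a, n ≤ m → a ∈ 𝒜 m → ∃ b ∈ ℬ n, φ b = Polynomial.monomial n a := by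
    intro n m a hnm ha
    have h : mono n a ∈ Submodule.map (mono n) (T n) := ⟨a, le_iSup₂_of_le (f := fun m (_ : n ≤ m) => 𝒜 m) m hnm le_rfl ha, rfl⟩
    have h' : mono n a ∈ Submodule.map φ.toLinearMap (ℬ n) := by rw [hdeg n]; exact h
    obtain ⟨b, hb, he⟩ := h'
    exact ⟨b, hb, he⟩
  have hhom : ∀ n m a, 1 ≤ n → n ≤ m → a ∈ 𝒜 m → ∀ b, φ b = Polynomial.monomial n a → b ∈ J.radical := by
    intro n m a hn hnm ha b hb
    have hairr : a ∈ (HomogeneousIdeal.irrelevant 𝒜).toIdeal := by
      rw [HomogeneousIdeal.toIdeal_irrelevant, RingHom.mem_ker, GradedRing.projZeroRingHom_apply]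
      exact DirectSum.decompose_of_mem_ne 𝒜 ha (by omega)
    obtain ⟨k, hk0, hk⟩ := hrad a hairr
    obtain ⟨c, hc⟩ := Finsupp.mem_span_range_iff_exists_finsupp.mp hk
    set D := ∑ α ∈ c.support, d α with hD
    set k2 := k + D with hk2
    have hdk : ∀ α ∈ c.support, d α ≤ n * k2 := fun α hα => by
      have h1 : d α ≤ D := Finset.single_le_sum (f := d) (fun _ _ => Nat.zero_le _) hα
      have h2 : k2 ≤ n * k2 := Nat.le_mul_of_pos_left k2 hn
      omega
    have hmk : n * k2 ≤ m * k2 := Nat.mul_le_mul_right k2 hnm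
    let e : ι → A := fun α => (DirectSum.decompose 𝒜 (a ^ D * c α) (m * k2 - d α) : A)
    have hsum : a ^ k2 = ∑ α ∈ c.support, e α * f α := by
      have h2 : a ^ k2 = ∑ α ∈ c.support, (a ^ D * c α) * f α := by
        rw [hk2, pow_add, mul_comm, ← hc, Finsupp.sum, Finset.mul_sum]
        simp [mul_assoc]
      have h3 : a ^ k2 ∈ 𝒜 (m * k2) := by
        have := SetLike.pow_mem_graded k2 ha
        rwa [smul_eq_mul, mul_comm] at this
      rw [← DirectSum.decompose_of_mem_same 𝒜 h3, h2, ← GradedAlgebra.proj_apply, map_sum]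
      refine Finset.sum_congr rfl fun α hα => ?_
      rw [GradedAlgebra.proj_apply,
        DirectSum.coe_decompose_mul_of_right_mem_of_le 𝒜 (hf α) ((hdk α hα).trans hmk)]
    choose! bb _ hbb using fun α (hα : α ∈ c.support) =>
      hlift (n * k2 - d α) (m * k2 - d α) (e α) (by omega) (SetLike.coe_mem _)
    have hmem : b ^ k2 ∈ J := by
      have : b ^ k2 = ∑ α ∈ c.support, bb α * fn α := by
        apply hφ
        rw [map_pow, hb, Polynomial.monomial_pow, map_sum, hsum, map_sum]
        refine Finset.sum_congr rfl fun α hα => ?_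
        rw [map_mul φ, hbb α hα, hfn, Polynomial.monomial_mul_monomial, Nat.sub_add_cancel (hdk α hα)]
      rw [this]
      exact sum_mem fun α _ => Ideal.mul_mem_left _ _ (Ideal.subset_span ⟨α, rfl⟩)
    exact ⟨k2, hmem⟩
  rw [← DirectSum.sum_support_decompose ℬ g]
  refine sum_mem fun n _ => ?_
  rcases Nat.eq_zero_or_pos n with rfl | hn
  · rw [HomogeneousIdeal.toIdeal_irrelevant, RingHom.mem_ker, GradedRing.projZeroRingHom_apply] at hg
    rw [hg]
    exact zero_mem _
  have hle : T n ≤ (Submodule.map φ.toLinearMap (ℬ n ⊓ J.radical.restrictScalars R)).comap (mono n) := by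
    refine iSup₂_le fun m hm a ha => ?_
    obtain ⟨b, hb, he⟩ := hlift n m a hm ha
    exact ⟨b, ⟨hb, hhom n m a hn hm ha b he⟩, he⟩
  have hmem : φ (DirectSum.decompose ℬ g n : B) ∈ Submodule.map (mono n) (T n) := by
    rw [← hdeg n]
    exact ⟨_, SetLike.coe_mem _, rfl⟩
  obtain ⟨a, ha, he⟩ := hmem
  obtain ⟨b, hb, hb'⟩ := hle ha
  rw [← hφ (hb'.trans he)]
  exact hb.2

end Groth.Agent.S8312
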