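import Groth.Statements.S8321
import Groth.Agent.GrModFrac.ResLocM
-- import your own Groth.Agent.* helpers here

set_option autoImplicit false
universe u
open CategoryTheory CategoryTheory.Limits AlgebraicGeometry Opposite TopologicalSpace
open scoped HomogeneousIdeal
noncomputable section
open EGA2

namespace Groth.Agent.S8321

open Groth.Agent Groth.Agent.GrModFrac

section

/-- The section of `M(n)~` given by one fraction. -/
def modFrac {A σ M τ : Type u} [CommRing A] [SetLike σ A] [AddSubgroupClass σ A] {𝒜 : ℕ → σ} [GradedRing 𝒜]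
    [AddCommGroup M] [Module A M] [SetLike τ M] [AddSubgroupClass τ M] {ℳ : ℕ → τ} [SetLike.GradedSMul 𝒜 ℳ] {m : ℤ}
    (U : Opens (ProjectiveSpectrum.top 𝒜)) {i j : ℕ} (g : ℳ i) (h : 𝒜 j)
    (hh : ∀ x : U, (h : A) ∉ x.1.asHomogeneousIdeal) (hdeg : (i : ℤ) = j + m) : GrMod.sect 𝒜 ℳ m (op U) :=
  ⟨fun x => ⟨LocalizedModule.mk (g : M) ⟨(h : A), hh x⟩, Submodule.subset_span ⟨i, j, g, h, hh x, hdeg, rfl⟩⟩,
    fun x => ⟨U, x.2, 𝟙 _, i, j, g, h, hh, Or.inl hdeg, fun _ => rfl⟩⟩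

variable {Y P : Scheme.{u}} {𝒮 : RelProj.QCGrAlg Y} {p : P ⟶ Y}
  {chart : ∀ (U : Y.Opens) (hU : IsAffineOpen U), (((p ⁻¹ᵁ U : P.Opens) : Scheme.{u}) ≅ Proj (𝒮.deg U hU))}
variable (ℳ : RelProj.GrModule 𝒮) (n : ℤ)

variable (chart) in
/-- The candidate local model over `U`. -/
abbrev T (U : Y.affineOpens) : P.Modules :=
  (Scheme.Modules.pushforward (RelProj.emb p chart U.1 U.2)).obj (GrMod.tilde (𝒮.deg U.1 U.2) (ℳ.deg U.1 U.2) n)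

/-- The value of a section of `T U` over `W` at a point of `P`. -/
def valAt (U : Y.affineOpens) (W : P.Opens) (z : Γ(T chart ℳ n U, W)) (x : P) (hx : p x ∈ U.1) (hW : x ∈ W) :
    GrMod.LocMod (𝒮.deg U.1 U.2) (M := ℳ.mod.val.obj (op U.1)) (chartPt chart U.1 U.2 x hx) :=
  GrMod.val (V := RelProj.emb p chart U.1 U.2 ⁻¹ᵁ W) z
    ⟨chartPt chart U.1 U.2 x hx, by show RelProj.emb p chart U.1 U.2 _ ∈ W; rw [emb_chartPt]; exact hW⟩

theorem valAt_ext (U : Y.affineOpens) (W : P.Opens) (z z' : Γ(T chart ℳ n U, W))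
    (h : ∀ (x : P) (hx : p x ∈ U.1) (hW : x ∈ W), valAt ℳ n U W z x hx hW = valAt ℳ n U W z' x hx hW) : z = z' := by
  refine sect_ext' fun y => ?_
  have key : ∀ (y' : ProjectiveSpectrum (𝒮.deg U.1 U.2)) (hy' : RelProj.emb p chart U.1 U.2 y' ∈ W), y' = y.1 →
      GrMod.val (V := RelProj.emb p chart U.1 U.2 ⁻¹ᵁ W) z ⟨y', hy'⟩ =
        GrMod.val (V := RelProj.emb p chart U.1 U.2 ⁻¹ᵁ W) z' ⟨y', hy'⟩ →
      GrMod.val (V := RelProj.emb p chart U.1 U.2 ⁻¹ᵁ W) z y = GrMod.val (V := RelProj.emb p chart U.1 U.2 ⁻¹ᵁ W) z' y := by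
    rintro y' hy' rfl h'; exact h'
  exact key _ (by rw [emb_chartPt]; exact y.2) (chartPt_emb chart U.1 U.2 y.1 (emb_mem_self chart U.1 U.2 y.1))
    (h _ (emb_mem_self chart U.1 U.2 y.1) y.2)

theorem valAt_map (U : Y.affineOpens) {W W' : P.Opens} (i : W' ≤ W) (z : Γ(T chart ℳ n U, W)) (x : P) (hx : p x ∈ U.1)
    (hW : x ∈ W') : valAt ℳ n U W' ((T chart ℳ n U).presheaf.map (homOfLE i).op z) x hx hW = valAt ℳ n U W z x hx (i hW) := rfl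

variable (hP : RelProj.IsRelProj 𝒮 p chart)
include hP

/-- The comparison morphism to a basic open. -/
def cmp (a : Σ U : Y.affineOpens, Γ(Y, U.1)) : T chart ℳ n a.1 ⟶ T chart ℳ n ⟨Y.basicOpen a.2, a.1.2.basicOpen a.2⟩ :=
  (Scheme.Modules.pushforward (RelProj.emb p chart a.1.1 a.1.2)).map
      (GrMod.comap (𝒮.res a.1.2 (a.1.2.basicOpen a.2) (Y.basicOpen_le a.2)) (𝒮.irrelevant_le_map a.1.1 a.1.2 a.2)
        (ℳ.res a.1.2 (a.1.2.basicOpen a.2) (Y.basicOpen_le a.2)) (ℳ.res_mem a.1.2 (a.1.2.basicOpen a.2) (Y.basicOpen_le a.2)) n) ≫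
    (Scheme.Modules.pushforwardComp
        (Proj.map (𝒮.res a.1.2 (a.1.2.basicOpen a.2) (Y.basicOpen_le a.2)) (𝒮.irrelevant_le_map a.1.1 a.1.2 a.2))
        (RelProj.emb p chart a.1.1 a.1.2)).hom.app (GrMod.tilde (𝒮.deg (Y.basicOpen a.2) (a.1.2.basicOpen a.2)) (ℳ.deg (Y.basicOpen a.2) (a.1.2.basicOpen a.2)) n) ≫
    (Scheme.Modules.pushforwardCongr (RelProj.map_res_emb hP a.1.1 a.1.2 a.2)).hom.app
      (GrMod.tilde (𝒮.deg (Y.basicOpen a.2) (a.1.2.basicOpen a.2)) (ℳ.deg (Y.basicOpen a.2) (a.1.2.basicOpen a.2)) n)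

theorem valAt_cmp (a : Σ U : Y.affineOpens, Γ(Y, U.1)) (W : P.Opens) (z : Γ(T chart ℳ n a.1, W)) (x : P)
    (hx : p x ∈ Y.basicOpen a.2) (hW : x ∈ W) :
    valAt ℳ n ⟨Y.basicOpen a.2, a.1.2.basicOpen a.2⟩ W ((cmp ℳ n hP a).app W z) x hx hW =
      resLocM ℳ hP a.1.2 (a.1.2.basicOpen a.2) (Y.basicOpen_le a.2) x hx (valAt ℳ n a.1 W z x (Y.basicOpen_le a.2 hx) hW) := by
  have key : ∀ (y₁ y₂ : ProjectiveSpectrum (𝒮.deg a.1.1 a.1.2)) (e : y₁ = y₂)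
      (h₁ : RelProj.emb p chart a.1.1 a.1.2 y₁ ∈ W) (h₂ : RelProj.emb p chart a.1.1 a.1.2 y₂ ∈ W)
      (f₁ : y₁.asHomogeneousIdeal.toIdeal = (chartPt chart _ (a.1.2.basicOpen a.2) x hx).asHomogeneousIdeal.toIdeal.comap
        (𝒮.res a.1.2 (a.1.2.basicOpen a.2) (Y.basicOpen_le a.2)).toRingHom)
      (f₂ : y₂.asHomogeneousIdeal.toIdeal = (chartPt chart _ (a.1.2.basicOpen a.2) x hx).asHomogeneousIdeal.toIdeal.comap
        (𝒮.res a.1.2 (a.1.2.basicOpen a.2) (Y.basicOpen_le a.2)).toRingHom),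
      semilocMap (ℳ.res a.1.2 (a.1.2.basicOpen a.2) (Y.basicOpen_le a.2)) y₁.asHomogeneousIdeal.toIdeal.primeCompl
          (chartPt chart _ (a.1.2.basicOpen a.2) x hx).asHomogeneousIdeal.toIdeal.primeCompl (fun c hc hc' => hc (f₁.ge hc'))
          (GrMod.val (V := RelProj.emb p chart a.1.1 a.1.2 ⁻¹ᵁ W) z ⟨y₁, h₁⟩) =
        semilocMap (ℳ.res a.1.2 (a.1.2.basicOpen a.2) (Y.basicOpen_le a.2)) y₂.asHomogeneousIdeal.toIdeal.primeCompl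
          (chartPt chart _ (a.1.2.basicOpen a.2) x hx).asHomogeneousIdeal.toIdeal.primeCompl (fun c hc hc' => hc (f₂.ge hc'))
          (GrMod.val (V := RelProj.emb p chart a.1.1 a.1.2 ⁻¹ᵁ W) z ⟨y₂, h₂⟩) := by
    rintro y₁ y₂ rfl h₁ h₂ f₁ f₂
    rfl
  have hmem : RelProj.emb p chart a.1.1 a.1.2 (ProjectiveSpectrum.comap
      (𝒮.res a.1.2 (a.1.2.basicOpen a.2) (Y.basicOpen_le a.2)) (𝒮.irrelevant_le_map a.1.1 a.1.2 a.2)
      (chartPt chart _ (a.1.2.basicOpen a.2) x hx)) ∈ W := by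
    rw [comap_chartPt hP a.1.1 a.1.2 a.2 x hx, emb_chartPt]; exact hW
  exact key _ _ (comap_chartPt hP a.1.1 a.1.2 a.2 x hx) hmem (by rw [emb_chartPt]; exact hW) rfl
    (chartPt_preimage hP a.1.1 a.1.2 _ (a.1.2.basicOpen a.2) (Y.basicOpen_le a.2) x hx)

/-- Compatibility of a family over `W` with one section over `U₀`. -/
def Q (U₀ : Y.affineOpens) (W : P.Opens) (t : Γ(T chart ℳ n U₀, W)) (V : Y.affineOpens) (W' : P.Opens) (hWW : W' ≤ W)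
    (z : Γ(T chart ℳ n V, W')) : Prop :=
  ∀ (x : P) (hW : x ∈ W') (D : Y.Opens) (hD : IsAffineOpen D) (hV : D ≤ V.1) (h₀ : D ≤ U₀.1) (hx : p x ∈ D),
    resLocM ℳ hP V.2 hD hV x hx (valAt ℳ n V W' z x (hV hx) hW) =
      resLocM ℳ hP U₀.2 hD h₀ x hx (valAt ℳ n U₀ W t x (h₀ hx) (hWW hW))

variable (hℳ : Coh.IsQCoh ((AMod.toOS 𝒮.toQCAlg).obj ℳ.mod))
include hℳ

theorem q_unique (U₀ : Y.affineOpens) (W : P.Opens) (hU₀ : W ≤ p ⁻¹ᵁ U₀.1) (t : Γ(T chart ℳ n U₀, W)) (V : Y.affineOpens)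
    (W' : P.Opens) (hWW : W' ≤ W) (z z' : Γ(T chart ℳ n V, W')) (hz : Q ℳ n hP U₀ W t V W' hWW z)
    (hz' : Q ℳ n hP U₀ W t V W' hWW z') : z = z' := by
  refine valAt_ext ℳ n V W' z z' fun x hx hW => ?_
  obtain ⟨a, b, hab, hxa⟩ := exists_basicOpen_le_affine_inter V.2 U₀.2 (p x) ⟨hx, hU₀ (hWW hW)⟩
  have h₀ : Y.basicOpen a ≤ U₀.1 := hab ▸ Y.basicOpen_le b
  exact (resLocM_bijective ℳ hP hℳ V.2 (V.2.basicOpen a) (Y.basicOpen_le a) x hxa).1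
    ((hz x hW _ (V.2.basicOpen a) (Y.basicOpen_le a) h₀ hxa).trans
      (hz' x hW _ (V.2.basicOpen a) (Y.basicOpen_le a) h₀ hxa).symm)

/-- A compatible family is determined by one member. -/
theorem q_of_compat (W : P.Opens) (z : ∀ U : Y.affineOpens, Γ(T chart ℳ n U, W))
    (hz : ∀ a : Σ U : Y.affineOpens, Γ(Y, U.1), (cmp ℳ n hP a).app W (z a.1) = z ⟨Y.basicOpen a.2, a.1.2.basicOpen a.2⟩)
    (U₀ V : Y.affineOpens) : Q ℳ n hP U₀ W (z U₀) V W le_rfl (z V) := by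
  intro x hW D hD hV h₀ hx
  have hst : ∀ (U : Y.affineOpens) (r : Γ(Y, U.1)) (E : Y.affineOpens), E.1 = Y.basicOpen r →
      ∀ (hE : E.1 ≤ U.1) (hxE : p x ∈ E.1),
        resLocM ℳ hP U.2 E.2 hE x hxE (valAt ℳ n U W (z U) x (hE hxE) hW) = valAt ℳ n E W (z E) x hxE hW := by
    rintro U r ⟨E, hEaff⟩ rfl hE hxE
    exact (valAt_cmp ℳ n hP ⟨U, r⟩ W (z U) x hxE hW).symm.trans
      (congrArg (fun q => valAt ℳ n ⟨Y.basicOpen r, U.2.basicOpen r⟩ W q x hxE hW) (hz ⟨U, r⟩))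
  obtain ⟨a, b, hab, hxa⟩ := exists_basicOpen_le_affine_inter V.2 U₀.2 (p x) ⟨hV hx, h₀ hx⟩
  obtain ⟨D', hD', hxD', hle⟩ := exists_isAffineOpen_mem_and_subset (X := Y) (x := p x) (U := D ⊓ Y.basicOpen a) ⟨hx, hxa⟩
  have hD'D : D' ≤ D := fun y hy => (hle hy).1
  have hD'E : D' ≤ Y.basicOpen a := fun y hy => (hle hy).2
  have hE₀ : Y.basicOpen a ≤ U₀.1 := hab ▸ Y.basicOpen_le b
  refine (resLocM_bijective ℳ hP hℳ hD hD' hD'D x hxD').1 ?_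
  rw [resLocM_trans, resLocM_trans]
  rw [← resLocM_trans ℳ hP V.2 (V.2.basicOpen a) hD' (Y.basicOpen_le a) hD'E x hxD',
    ← resLocM_trans ℳ hP U₀.2 (V.2.basicOpen a) hD' hE₀ hD'E x hxD']
  rw [hst V a ⟨_, V.2.basicOpen a⟩ rfl (Y.basicOpen_le a) (hD'E hxD'),
    hst U₀ b ⟨_, V.2.basicOpen a⟩ hab hE₀ (hD'E hxD')]

/-- Extension of a section over `U₀` to the model over `V`, near a point. -/
theorem exists_local_q (U₀ : Y.affineOpens) (W : P.Opens) (hU₀ : W ≤ p ⁻¹ᵁ U₀.1) (t : Γ(T chart ℳ n U₀, W))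
    (V : Y.affineOpens) (x : P) (hx : p x ∈ V.1) (hW : x ∈ W) :
    ∃ (W' : P.Opens) (hWW : W' ≤ W) (_ : x ∈ W') (z : Γ(T chart ℳ n V, W')), Q ℳ n hP U₀ W t V W' hWW z := by
  obtain ⟨b, a, hba, hxb⟩ := exists_basicOpen_le_affine_inter V.2 U₀.2 (p x) ⟨hx, hU₀ hW⟩
  have hD₀ : Y.basicOpen b ≤ U₀.1 := hba ▸ Y.basicOpen_le a
  let y₀ : ProjectiveSpectrum (𝒮.deg U₀.1 U₀.2) := chartPt chart U₀.1 U₀.2 x (hU₀ hW)
  let t' : GrMod.sect (𝒮.deg U₀.1 U₀.2) (ℳ.deg U₀.1 U₀.2) n (op (RelProj.emb p chart U₀.1 U₀.2 ⁻¹ᵁ W)) := t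
  obtain ⟨O, hO, ι, i, j, ⟨a₁, ha₁⟩, ⟨s₁, hs₁⟩, hnin, hdeg, hw⟩ :=
    t'.2 ⟨y₀, by show RelProj.emb p chart U₀.1 U₀.2 _ ∈ W; rw [emb_chartPt]; exact hW⟩
  let W' : P.Opens := (W ⊓ p ⁻¹ᵁ Y.basicOpen b) ⊓ RelProj.emb p chart U₀.1 U₀.2 ''ᵁ O
  have hWW : W' ≤ W := inf_le_left.trans inf_le_left
  refine ⟨W', hWW, ⟨⟨hW, hxb⟩, y₀, hO, emb_chartPt chart U₀.1 U₀.2 x _⟩, ?_⟩
  have hpt : ∀ (x' : P) (hx' : x' ∈ W'), chartPt chart U₀.1 U₀.2 x' (hU₀ (hWW hx')) ∈ O := by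
    rintro x' ⟨hxW, y', hy', rfl⟩
    exact (chartPt_emb chart U₀.1 U₀.2 y' (hU₀ hxW.1)).symm ▸ hy'
  have hval : ∀ (x' : P) (hx' : x' ∈ W'), valAt ℳ n U₀ W t x' (hU₀ (hWW hx')) (hWW hx') =
      LocalizedModule.mk a₁ ⟨s₁, hnin ⟨_, hpt x' hx'⟩⟩ := fun x' hx' => hw ⟨_, hpt x' hx'⟩
  replace hdeg : (i : ℤ) = j + n ∨ a₁ = 0 := hdeg
  rcases hdeg with hdeg | hdeg
  swap
  · refine ⟨0, fun x' hx' D hD hV h₀ hxD => ?_⟩
    rw [hval x' hx', hdeg]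
    refine (map_zero (resLocM ℳ hP V.2 hD hV x' hxD)).trans ?_
    rw [LocalizedModule.zero_mk, map_zero]
  obtain ⟨k, a₂, ha₂, hka⟩ := exists_homog_liftM ℳ hℳ V.1 V.2 b (ℳ.res U₀.2 (V.2.basicOpen b) hD₀ a₁)
    (ℳ.res_mem U₀.2 (V.2.basicOpen b) hD₀ i a₁ ha₁)
  obtain ⟨l, s₂, hs₂, hls⟩ := exists_homog_lift V.1 V.2 b (𝒮.res U₀.2 (V.2.basicOpen b) hD₀ s₁)
    ((𝒮.res U₀.2 (V.2.basicOpen b) hD₀).map_mem hs₁)
  let r : 𝒮.presheaf.obj (op V.1) := (𝒮.str.app (op V.1)).hom b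
  have hr : ∀ m : ℕ, r ^ m ∈ 𝒮.deg V.1 V.2 0 := fun m => by
    have := SetLike.pow_mem_graded m (𝒮.str_mem V.1 V.2 b)
    rwa [smul_zero] at this
  have hg : r ^ l • a₂ ∈ ℳ.deg V.1 V.2 i := by
    have := SetLike.GradedSMul.smul_mem (B := ℳ.deg V.1 V.2) (hr l) ha₂; simpa using this
  have hh : s₂ * r ^ k ∈ 𝒮.deg V.1 V.2 j := by
    have := SetLike.mul_mem_graded hs₂ (hr k); rwa [add_zero] at this
  have hhn : ∀ (x' : P) (hx' : x' ∈ W'), s₂ * r ^ k ∉ (chartPt chart V.1 V.2 x' (Y.basicOpen_le b hx'.1.2)).asHomogeneousIdeal := by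
    intro x' hx' hc
    have h2 := (chartPt_preimage hP V.1 V.2 _ (V.2.basicOpen b) (Y.basicOpen_le b) x' hx'.1.2).le hc
    rw [Ideal.mem_comap] at h2
    change 𝒮.res V.2 (V.2.basicOpen b) (Y.basicOpen_le b) (s₂ * r ^ k) ∈ _ at h2
    rw [map_mul, map_pow, hls, mul_assoc, ← pow_add] at h2
    rcases (chartPt chart _ (V.2.basicOpen b) x' hx'.1.2).isPrime.mem_or_mem h2 with h3 | h3
    · exact hnin ⟨_, hpt x' hx'⟩ ((chartPt_preimage hP U₀.1 U₀.2 _ (V.2.basicOpen b) hD₀ x' hx'.1.2).ge h3)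
    · exact str_notMem hP V.1 V.2 b x' hx'.1.2 ((chartPt_preimage hP V.1 V.2 _ (V.2.basicOpen b) (Y.basicOpen_le b) x' hx'.1.2).ge
        ((chartPt chart _ (V.2.basicOpen b) x' hx'.1.2).isPrime.mem_of_pow_mem _ h3))
  refine ⟨modFrac (RelProj.emb p chart V.1 V.2 ⁻¹ᵁ W') (⟨_, hg⟩ : ℳ.deg V.1 V.2 i) (⟨_, hh⟩ : 𝒮.deg V.1 V.2 j)
    (fun y => by
      have := hhn _ y.2
      rwa [chartPt_emb] at this) hdeg, fun x' hx' D hD hV h₀ hxD => ?_⟩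
  rw [hval x' hx']
  obtain ⟨D', hD', hxD', hle⟩ := exists_isAffineOpen_mem_and_subset (X := Y) (x := p x') (U := D ⊓ Y.basicOpen b)
    ⟨hxD, hx'.1.2⟩
  have hD'D : D' ≤ D := fun y hy => (hle hy).1
  have hD'E : D' ≤ Y.basicOpen b := fun y hy => (hle hy).2
  refine (resLocM_bijective ℳ hP hℳ hD hD' hD'D x' hxD').1 ?_
  rw [resLocM_trans, resLocM_trans, ← resLocM_trans ℳ hP V.2 (V.2.basicOpen b) hD' (Y.basicOpen_le b) hD'E x' hxD',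
    ← resLocM_trans ℳ hP U₀.2 (V.2.basicOpen b) hD' hD₀ hD'E x' hxD']
  refine congrArg _ ?_
  refine (resLocM_mk ℳ hP V.2 (V.2.basicOpen b) (Y.basicOpen_le b) x' hx'.1.2 (r ^ l • a₂)
    ⟨s₂ * r ^ k, hhn x' hx'⟩).trans ?_
  rw [resLocM_mk, LocalizedModule.mk_eq]
  refine ⟨1, ?_⟩
  simp only [Submonoid.smul_def, OneMemClass.coe_one, one_smul, LinearMap.map_smulₛₗ]
  erw [map_pow, hka, map_mul, map_pow, hls]
  simp only [smul_smul, r]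
  congr 1
  exact (mul_assoc _ _ _).symm

/-- Extension of a section over `U₀` to the model over `V`. -/
theorem exists_q (U₀ : Y.affineOpens) (W : P.Opens) (hU₀ : W ≤ p ⁻¹ᵁ U₀.1) (t : Γ(T chart ℳ n U₀, W))
    (V : Y.affineOpens) : ∃ z : Γ(T chart ℳ n V, W), Q ℳ n hP U₀ W t V W le_rfl z := by
  choose W' hWW hxW zl hzl using fun x : (W ⊓ p ⁻¹ᵁ V.1 : P.Opens) => exists_local_q ℳ n hP hℳ U₀ W hU₀ t V x.1 x.2.2 x.2.1
  obtain ⟨z, hz, -⟩ := TopCat.Sheaf.existsUnique_gluing' ⟨(T chart ℳ n V).presheaf, (T chart ℳ n V).isSheaf⟩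
    (fun x : (W ⊓ p ⁻¹ᵁ V.1 : P.Opens) => W' x) (⨆ x, W' x) (fun x => homOfLE (le_iSup W' x)) le_rfl zl (by
      intro x x'
      refine q_unique ℳ n hP hℳ U₀ W hU₀ t V _ (inf_le_left.trans (hWW x)) _ _ ?_ ?_
      · intro y hy D hD hV h₀ hxD
        exact hzl x y hy.1 D hD hV h₀ hxD
      · intro y hy D hD hV h₀ hxD
        exact hzl x' y hy.2 D hD hV h₀ hxD)
  have hpre : RelProj.emb p chart V.1 V.2 ⁻¹ᵁ W ≤ RelProj.emb p chart V.1 V.2 ⁻¹ᵁ (⨆ x, W' x) := by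
    intro y hy
    have hy' : RelProj.emb p chart V.1 V.2 y ∈ W ⊓ p ⁻¹ᵁ V.1 := ⟨hy, emb_mem_self chart V.1 V.2 y⟩
    exact Opens.mem_iSup.mpr ⟨⟨_, hy'⟩, hxW ⟨_, hy'⟩⟩
  refine ⟨(GrMod.tilde (𝒮.deg V.1 V.2) (ℳ.deg V.1 V.2) n).presheaf.map (homOfLE hpre).op z, fun x hW D hD hV h₀ hxD => ?_⟩
  have hx' : x ∈ W ⊓ p ⁻¹ᵁ V.1 := ⟨hW, hV hxD⟩
  have h1 := hzl ⟨x, hx'⟩ x (hxW ⟨x, hx'⟩) D hD hV h₀ hxD
  rw [← hz ⟨x, hx'⟩] at h1
  exact h1

end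

section

variable {P : Scheme.{u}}

/-- The sections functor at an open. -/
abbrev sections (W : P.Opens) : P.Modules ⥤ AddCommGrpCat.{u} :=
  Scheme.Modules.toPresheaf P ⋙ (evaluation P.Opensᵒᵖ AddCommGrpCat.{u}).obj (op W)

instance preservesLimits_sections (W : P.Opens) : PreservesLimitsOfSize.{u, u} (sections W) := by
  haveI : PreservesLimitsOfSize.{u, u} (Scheme.Modules.toPresheaf P) := inferInstance
  haveI : PreservesLimitsOfSize.{u, u} ((evaluation P.Opensᵒᵖ AddCommGrpCat.{u}).obj (op W)) :=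
    ⟨fun {J} _ => inferInstance⟩
  exact comp_preservesLimits (Scheme.Modules.toPresheaf P) _

theorem exists_pi_section {ι : Type u} (M : ι → P.Modules) (W : P.Opens) (z : ∀ i, Γ(M i, W)) :
    ∃ w : Γ(∏ᶜ M, W), ∀ i, (Pi.π M i).app W w = z i := by
  refine ⟨(PreservesProduct.iso (sections W) M).inv ((Concrete.productEquiv fun i => (sections W).obj (M i)).symm z),
    fun i => ?_⟩
  have h : (PreservesProduct.iso (sections W) M).inv ≫ (sections W).map (Pi.π M i) =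
      Pi.π (fun i => (sections W).obj (M i)) i := by
    rw [Iso.inv_comp_eq, PreservesProduct.iso_hom, piComparison_comp_π]
  exact (ConcreteCategory.congr_hom h _).trans (Concrete.productEquiv_symm_apply_π _ _ i)

theorem pi_section_ext {ι : Type u} (M : ι → P.Modules) (W : P.Opens) (w w' : Γ(∏ᶜ M, W))
    (h : ∀ i, (Pi.π M i).app W w = (Pi.π M i).app W w') : w = w' :=
  Concrete.isLimit_ext _ (isLimitOfHasProductOfPreservesLimit (sections W) M) w w' fun j => h j.as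

theorem exists_kernel_section {M N : P.Modules} (ψ : M ⟶ N) (W : P.Opens) (w : Γ(M, W)) (hw : ψ.app W w = 0) :
    ∃ s : Γ(kernel ψ, W), (kernel.ι ψ).app W s = w := by
  let S := ShortComplex.mk ((sections W).map (kernel.ι ψ)) ((sections W).map ψ)
    (by rw [← Functor.map_comp, kernel.condition, Functor.map_zero])
  have hS : S.Exact := S.exact_of_f_is_kernel (isLimitOfHasKernelOfPreservesLimit (sections W) ψ)
  exact (ShortComplex.ab_exact_iff S).mp hS w hw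

end

/-- Existence: for a general quasi-coherent graded 𝒮-module ℳ and its shifts: on the relative
homogeneous spectrum P = Proj(𝒮) there is, for every integer n, an O_P-module glued from the modules
(ℳ(U)(n))~ on the Proj 𝒮(U), U affine open in Y — an O_P-module with chartwise identifications that
are bijective on sections and compatible along restrictions to basic opens. (Quasi-coherence of ℳ is
needed: without it such a module need not exist.) -/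
theorem result {Y P : Scheme.{u}} (𝒮 : RelProj.QCGrAlg Y) (p : P ⟶ Y)
    (chart : ∀ (U : Y.Opens) (hU : IsAffineOpen U), (((p ⁻¹ᵁ U : P.Opens) : Scheme.{u}) ≅ Proj (𝒮.deg U hU)))
    (hP : RelProj.IsRelProj 𝒮 p chart) (ℳ : RelProj.GrModule 𝒮)
    (hℳ : Coh.IsQCoh ((AMod.toOS 𝒮.toQCAlg).obj ℳ.mod)) (n : ℤ) :
    ∃ (F : P.Modules) (lam : ∀ (U : Y.Opens) (hU : IsAffineOpen U),
      F ⟶ (Scheme.Modules.pushforward (RelProj.emb p chart U hU)).obj (GrMod.tilde (𝒮.deg U hU) (ℳ.deg U hU) n)),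
      RelProj.IsRelTilde 𝒮 p chart ℳ n F lam := by
  classical
  let A := Σ U : Y.affineOpens, Γ(Y, U.1)
  let D : A → Y.affineOpens := fun a => ⟨Y.basicOpen a.2, a.1.2.basicOpen a.2⟩
  let ψ : (∏ᶜ T chart ℳ n) ⟶ ∏ᶜ fun a : A => T chart ℳ n (D a) :=
    Pi.lift fun a : A => Pi.π (T chart ℳ n) a.1 ≫ cmp ℳ n hP a - Pi.π (T chart ℳ n) (D a)
  have hψ : ∀ (W : P.Opens) (w : Γ(∏ᶜ T chart ℳ n, W)) (a : A),
      (Pi.π (fun a : A => T chart ℳ n (D a)) a).app W (ψ.app W w) =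
        (cmp ℳ n hP a).app W ((Pi.π (T chart ℳ n) a.1).app W w) - (Pi.π (T chart ℳ n) (D a)).app W w := by
    intro W w a
    exact congrArg (fun f : (∏ᶜ T chart ℳ n) ⟶ T chart ℳ n (D a) => f.app W w)
      (Pi.lift_π (fun a : A => Pi.π (T chart ℳ n) a.1 ≫ cmp ℳ n hP a - Pi.π (T chart ℳ n) (D a)) a)
  have hker : ∀ (W : P.Opens) (s : Γ(kernel ψ, W)) (a : A),
      (cmp ℳ n hP a).app W ((Pi.π (T chart ℳ n) a.1).app W ((kernel.ι ψ).app W s)) =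
        (Pi.π (T chart ℳ n) (D a)).app W ((kernel.ι ψ).app W s) := by
    intro W s a
    refine sub_eq_zero.mp ((hψ W _ a).symm.trans ?_)
    rw [show ψ.app W ((kernel.ι ψ).app W s) = 0 from congrArg (fun f : kernel ψ ⟶ _ => f.app W s) (kernel.condition ψ)]
    exact map_zero _
  let lam : ∀ (U : Y.Opens) (hU : IsAffineOpen U),
      kernel ψ ⟶ (Scheme.Modules.pushforward (RelProj.emb p chart U hU)).obj (GrMod.tilde (𝒮.deg U hU) (ℳ.deg U hU) n) :=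
    fun U hU => kernel.ι ψ ≫ Pi.π (T chart ℳ n) ⟨U, hU⟩
  refine ⟨kernel ψ, lam, ⟨fun U hU W hW => ⟨fun s s' hss => ?_, fun t => ?_⟩, fun U hU r W s y hy hy' => ?_⟩⟩
  · refine (QCohLib.mono_iff_app_injective (kernel.ι ψ)).mp inferInstance W (pi_section_ext _ W _ _ fun V => ?_)
    have h1 := q_of_compat ℳ n hP hℳ W (fun V => (Pi.π (T chart ℳ n) V).app W ((kernel.ι ψ).app W s)) (hker W s) ⟨U, hU⟩ V
    have h2 := q_of_compat ℳ n hP hℳ W (fun V => (Pi.π (T chart ℳ n) V).app W ((kernel.ι ψ).app W s')) (hker W s') ⟨U, hU⟩ V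
    have hss' : (Pi.π (T chart ℳ n) ⟨U, hU⟩).app W ((kernel.ι ψ).app W s) =
        (Pi.π (T chart ℳ n) ⟨U, hU⟩).app W ((kernel.ι ψ).app W s') := hss
    simp only [hss'] at h1
    exact q_unique ℳ n hP hℳ ⟨U, hU⟩ W hW _ V W le_rfl _ _ h1 h2
  · choose z hz using exists_q ℳ n hP hℳ ⟨U, hU⟩ W hW t
    obtain ⟨w, hw⟩ := exists_pi_section (T chart ℳ n) W z
    obtain ⟨s, hs⟩ := exists_kernel_section ψ W w (pi_section_ext _ W _ _ fun a => by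
      rw [hψ, hw, hw, map_zero, sub_eq_zero]
      refine valAt_ext ℳ n (D a) W _ _ fun x hx hxW => ?_
      obtain ⟨b, c, hbc, hxb⟩ := exists_basicOpen_le_affine_inter (D a).2 hU (p x) ⟨hx, hW hxW⟩
      have h₀ : Y.basicOpen b ≤ U := hbc ▸ Y.basicOpen_le c
      refine (resLocM_bijective ℳ hP hℳ (D a).2 ((D a).2.basicOpen b) (Y.basicOpen_le b) x hxb).1 ?_
      rw [valAt_cmp, resLocM_trans]
      exact (hz a.1 x hxW _ ((D a).2.basicOpen b) ((Y.basicOpen_le b).trans (Y.basicOpen_le a.2)) h₀ hxb).trans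
        (hz (D a) x hxW _ ((D a).2.basicOpen b) (Y.basicOpen_le b) h₀ hxb).symm)
    refine ⟨s, ?_⟩
    show (Pi.π (T chart ℳ n) ⟨U, hU⟩).app W ((kernel.ι ψ).app W s) = t
    rw [hs, hw]
    exact q_unique ℳ n hP hℳ ⟨U, hU⟩ W hW t ⟨U, hU⟩ W le_rfl _ _ (hz ⟨U, hU⟩) fun _ _ _ _ _ _ _ => rfl
  · have h := congrArg (fun q : Γ(T chart ℳ n (D ⟨⟨U, hU⟩, r⟩), W) =>
      GrMod.val (V := RelProj.emb p chart (Y.basicOpen r) (hU.basicOpen r) ⁻¹ᵁ W) q ⟨y, hy⟩) (hker W s ⟨⟨U, hU⟩, r⟩)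
    exact h.symm

end Groth.Agent.S8321
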