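import Groth.Statements.S8323
import Groth.Agent.GrModFrac.Glue
-- import your own Groth.Agent.* helpers here

set_option autoImplicit false
universe u
open CategoryTheory CategoryTheory.Limits AlgebraicGeometry Opposite TopologicalSpace
open scoped HomogeneousIdeal
noncomputable section
open EGA2

namespace Groth.Agent.S8323

open Groth.Agent

/-- Two O_P-modules on P = Proj(𝒮), each identified chartwise with the modules (ℳ(U)(n))~ on the Proj
𝒮(U) (bijectively on sections, compatibly along restrictions to basic opens), are related by exactly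
one O_P-module map commuting with the identifications, and that map is an isomorphism. -/
theorem result {Y P : Scheme.{u}} (𝒮 : RelProj.QCGrAlg Y) (p : P ⟶ Y)
    (chart : ∀ (U : Y.Opens) (hU : IsAffineOpen U), (((p ⁻¹ᵁ U : P.Opens) : Scheme.{u}) ≅ Proj (𝒮.deg U hU)))
    (hP : RelProj.IsRelProj 𝒮 p chart) (ℳ : RelProj.GrModule 𝒮)
    (hℳ : Coh.IsQCoh ((AMod.toOS 𝒮.toQCAlg).obj ℳ.mod)) (n : ℤ) (F : P.Modules)
    (lam : ∀ (U : Y.Opens) (hU : IsAffineOpen U),
      F ⟶ (Scheme.Modules.pushforward (RelProj.emb p chart U hU)).obj (GrMod.tilde (𝒮.deg U hU) (ℳ.deg U hU) n))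
    (hF : RelProj.IsRelTilde 𝒮 p chart ℳ n F lam) (F' : P.Modules)
    (lam' : ∀ (U : Y.Opens) (hU : IsAffineOpen U),
      F' ⟶ (Scheme.Modules.pushforward (RelProj.emb p chart U hU)).obj (GrMod.tilde (𝒮.deg U hU) (ℳ.deg U hU) n))
    (hF' : RelProj.IsRelTilde 𝒮 p chart ℳ n F' lam') :
    (∃! φ : F ⟶ F', ∀ (U : Y.Opens) (hU : IsAffineOpen U), φ ≫ lam' U hU = lam U hU) ∧
      ∀ φ : F ⟶ F', (∀ (U : Y.Opens) (hU : IsAffineOpen U), φ ≫ lam' U hU = lam U hU) → IsIso φ := by
  have cmp : ∀ (A B : P.Modules) (a : ∀ (U : Y.Opens) (hU : IsAffineOpen U),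
      A ⟶ (Scheme.Modules.pushforward (RelProj.emb p chart U hU)).obj (GrMod.tilde (𝒮.deg U hU) (ℳ.deg U hU) n))
      (b : ∀ (U : Y.Opens) (hU : IsAffineOpen U),
      B ⟶ (Scheme.Modules.pushforward (RelProj.emb p chart U hU)).obj (GrMod.tilde (𝒮.deg U hU) (ℳ.deg U hU) n)),
      RelProj.IsRelTilde 𝒮 p chart ℳ n A a → RelProj.IsRelTilde 𝒮 p chart ℳ n B b →
      ∃! φ : A ⟶ B, ∀ (U : Y.Opens) (hU : IsAffineOpen U), φ ≫ b U hU = a U hU := by
    intro A B a b ha hb
    refine GrModFrac.existsUnique_relHom _ b a hb.bijective fun U hU r W s g h => ?_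
    refine Subtype.ext (funext fun y => Subtype.ext ?_)
    have hy' := GrModFrac.comap_emb_mem hP U hU r y.1 y.2
    exact ((hb.compat U hU r W g y.1 y.2 hy').trans (congrArg (fun z => GrMod.locModMap _ _ _ y.1
      (GrMod.val (V := RelProj.emb p chart U hU ⁻¹ᵁ W) z ⟨_, hy'⟩)) h)).trans (ha.compat U hU r W s y.1 y.2 hy').symm
  refine ⟨cmp F F' lam lam' hF hF', fun φ hφ => ?_⟩
  obtain ⟨ψ, hψ, -⟩ := cmp F' F lam' lam hF' hF
  refine ⟨⟨ψ, (cmp F F lam lam hF hF).unique (fun U hU => ?_) (fun U hU => Category.id_comp _),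
    (cmp F' F' lam' lam' hF' hF').unique (fun U hU => ?_) (fun U hU => Category.id_comp _)⟩⟩
  · rw [Category.assoc, hψ, hφ]
  · rw [Category.assoc, hφ, hψ]

end Groth.Agent.S8323
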