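import Groth.Statements.S8324
import Groth.Agent.GrModFrac.RelTilde
-- import your own Groth.Agent.* helpers here

set_option autoImplicit false
universe u
open CategoryTheory CategoryTheory.Limits AlgebraicGeometry Opposite TopologicalSpace
open scoped HomogeneousIdeal
noncomputable section
open EGA2

namespace Groth.Agent.S8324

open Groth.Agent

/-- If the quasi-coherent graded 𝒮-module ℳ satisfies (TN) — its pieces of all large degrees vanish —
then the module (ℳ(n))~ on P = Proj(𝒮) (given through its chartwise identifications) is zero, for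
every integer n. -/
theorem result {Y P : Scheme.{u}} (𝒮 : RelProj.QCGrAlg Y) (p : P ⟶ Y)
    (chart : ∀ (U : Y.Opens) (hU : IsAffineOpen U), (((p ⁻¹ᵁ U : P.Opens) : Scheme.{u}) ≅ Proj (𝒮.deg U hU)))
    (hP : RelProj.IsRelProj 𝒮 p chart) (ℳ : RelProj.GrModule 𝒮)
    (hℳ : Coh.IsQCoh ((AMod.toOS 𝒮.toQCAlg).obj ℳ.mod)) (hTN : ℳ.IsTN) (n : ℤ) (F : P.Modules)
    (lam : ∀ (U : Y.Opens) (hU : IsAffineOpen U),
      F ⟶ (Scheme.Modules.pushforward (RelProj.emb p chart U hU)).obj (GrMod.tilde (𝒮.deg U hU) (ℳ.deg U hU) n))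
    (hF : RelProj.IsRelTilde 𝒮 p chart ℳ n F lam) : IsZero F := by
  obtain ⟨n₀, hz⟩ := hTN
  have h0 : ∀ W ∈ GrModFrac.relBasis chart, ∀ s : Γ(F, W), s = 0 := by
    rintro W ⟨U, hU, e, g, he, hg, rfl⟩ s
    apply (hF.bijective U hU _ (GrModFrac.le_preimage_of_image chart U hU _)).1
    rw [map_zero]
    have key : ∀ V, V = Proj.basicOpen (𝒮.deg U hU) g →
        ∀ z : Γ(GrMod.tilde (𝒮.deg U hU) (ℳ.deg U hU) n, V), z = 0 := by
      rintro V rfl z
      exact GrModFrac.sect_eq_zero_of_eventually _ _ n n₀ (hz U hU) he hg z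
    exact key _ (Scheme.Hom.preimage_image_eq _ _) _
  haveI : Mono (0 : F ⟶ F) := (QCohLib.mono_iff_app_injective _).mpr
    (GrModFrac.app_injective_of_basis _ (GrModFrac.isBasis_relBasis chart)
      fun W hW a b _ => (h0 W hW a).trans (h0 W hW b).symm)
  exact IsZero.of_mono_zero F F


end Groth.Agent.S8324
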