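import Groth.Statements.S8325
import Groth.Agent.GrModFrac.Twist
import Groth.Agent.S8322
import Groth.Agent.QCohLib.FiniteType
-- import your own Groth.Agent.* helpers here

set_option autoImplicit false
universe u
open CategoryTheory CategoryTheory.Limits AlgebraicGeometry Opposite TopologicalSpace
open scoped HomogeneousIdeal
noncomputable section
open EGA2

namespace Groth.Agent.S8325

open Groth.Agent

section

variable {A σ : Type u} [CommRing A] [SetLike σ A] [AddSubgroupClass σ A] {𝒜 : ℕ → σ} [GradedRing 𝒜]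
variable {M τ : Type u} [AddCommGroup M] [Module A M] [SetLike τ M] [AddSubgroupClass τ M] {ℳ : ℕ → τ}
  [SetLike.GradedSMul 𝒜 ℳ] [DirectSum.Decomposition ℳ]

/-- Over `D₊(l)`, `l` of degree one, the sections of `M~` are finitely generated. -/
theorem exists_finset_span_sections (n₀ : ℕ) (hTF : (Submodule.span A (⋃ k ∈ Set.Ici n₀, (ℳ k : Set M))).FG)
    {l : A} (hl : l ∈ 𝒜 1) :
    ∃ s : Finset (GrMod.sect 𝒜 ℳ 0 (op (ProjectiveSpectrum.basicOpen 𝒜 l))),
      ∀ q, q ∈ Submodule.span (GrTwist.O (𝒜 := 𝒜) (op (ProjectiveSpectrum.basicOpen 𝒜 l))) (s : Set (GrMod.sect 𝒜 ℳ 0 (op (ProjectiveSpectrum.basicOpen 𝒜 l)))) := by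
  classical
  obtain ⟨G, hG, hGspan⟩ := (Submodule.fg_span_iff_fg_span_finset_subset _).mp hTF
  choose di hdi hmem using fun e : G => Set.mem_iUnion₂.mp (hG e.2)
  have hp : ∀ j : ℕ, l ^ j ∈ 𝒜 j := fun j => by simpa using SetLike.pow_mem_graded j hl
  have hn : ∀ (j : ℕ) (x : ProjectiveSpectrum.basicOpen 𝒜 l), l ^ j ∉ x.1.asHomogeneousIdeal :=
    fun j x h => x.2 (x.1.isPrime.mem_of_pow_mem j h)
  let sec : ∀ k : ℕ, ℳ k → GrMod.sect 𝒜 ℳ 0 (op (ProjectiveSpectrum.basicOpen 𝒜 l)) := fun k m =>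
    ⟨fun x => ⟨LocalizedModule.mk (m : M) ⟨l ^ k, hn k x⟩,
        Submodule.subset_span ⟨k, k, m, ⟨_, hp k⟩, hn k x, by simp, rfl⟩⟩,
      fun x => ⟨_, x.2, 𝟙 _, k, k, m, ⟨_, hp k⟩, hn k, Or.inl (by simp), fun _ => rfl⟩⟩
  let fn : ∀ j : ℕ, 𝒜 j → GrTwist.O (𝒜 := 𝒜) (op (ProjectiveSpectrum.basicOpen 𝒜 l)) := fun j c =>
    ⟨fun x => HomogeneousLocalization.mk ⟨j, c, ⟨_, hp j⟩, hn j x⟩,
      fun x => ⟨_, x.2, 𝟙 _, j, c, ⟨_, hp j⟩, hn j, fun _ => rfl⟩⟩
  refine ⟨Finset.univ.image fun e : G => sec (di e) ⟨e.1, hmem e⟩, fun q => ?_⟩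
  obtain ⟨k, i, m, hm, hi, hq⟩ := GrModFrac.exists_frac_basicOpen 𝒜 ℳ 0 Nat.one_pos hl q
  obtain rfl : i = k := by omega
  have hK : l ^ n₀ • m ∈ ℳ (n₀ + i) := SetLike.GradedSMul.smul_mem (hp n₀) hm
  have hspan : l ^ n₀ • m ∈ Submodule.span A (Set.range fun e : G => (e.1 : M)) := by
    rw [show (Set.range fun e : G => (e.1 : M)) = (G : Set M) from Subtype.range_coe]
    rw [← hGspan]
    exact Submodule.subset_span (Set.mem_iUnion₂.mpr ⟨n₀ + i, Nat.le_add_right _ _, hK⟩)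
  obtain ⟨c, hc⟩ := (Submodule.mem_span_range_iff_exists_fun A).mp hspan
  let coef : G → GrTwist.O (𝒜 := 𝒜) (op (ProjectiveSpectrum.basicOpen 𝒜 l)) := fun e =>
    if di e ≤ n₀ + i then fn (n₀ + i - di e) ⟨_, (DirectSum.decompose 𝒜 (c e) (n₀ + i - di e)).2⟩ else 0
  have hsum : l ^ n₀ • m = ∑ e : G, if di e ≤ n₀ + i then
      (DirectSum.decompose 𝒜 (c e) (n₀ + i - di e) : A) • (e.1 : M) else 0 := by
    refine (DirectSum.decompose_of_mem_same ℳ hK).symm.trans ?_
    rw [← hc, DirectSum.decompose_sum, DFinsupp.finsetSum_apply, AddSubmonoidClass.coe_finsetSum]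
    refine Finset.sum_congr rfl fun e _ => ?_
    conv_lhs => rw [← DirectSum.sum_support_decompose 𝒜 (c e), Finset.sum_smul, DirectSum.decompose_sum,
      DFinsupp.finsetSum_apply, AddSubmonoidClass.coe_finsetSum]
    by_cases h : di e ≤ n₀ + i
    · rw [if_pos h, Finset.sum_eq_single (n₀ + i - di e)]
      · have := SetLike.GradedSMul.smul_mem (A := 𝒜) (B := ℳ)
          (DirectSum.decompose 𝒜 (c e) (n₀ + i - di e)).2 (hmem e)
        rw [vadd_eq_add, Nat.sub_add_cancel h] at this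
        exact DirectSum.decompose_of_mem_same ℳ this
      · intro j _ hj
        exact DirectSum.decompose_of_mem_ne ℳ (SetLike.GradedSMul.smul_mem (DirectSum.decompose 𝒜 (c e) j).2 (hmem e))
          (by rw [vadd_eq_add]; omega)
      · intro h'
        rw [DFinsupp.notMem_support_iff.mp h']
        simp
    · rw [if_neg h]
      exact Finset.sum_eq_zero fun j _ => DirectSum.decompose_of_mem_ne ℳ
        (SetLike.GradedSMul.smul_mem (DirectSum.decompose 𝒜 (c e) j).2 (hmem e)) (by rw [vadd_eq_add]; omega)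
  have hqe : q = ∑ e : G, coef e • sec (di e) ⟨e.1, hmem e⟩ := by
    refine GrModFrac.sect_ext' fun x => ?_
    refine (hq x.1 x.2).trans ?_
    rw [AddSubmonoidClass.coe_finsetSum, Finset.sum_apply, AddSubmonoidClass.coe_finsetSum]
    refine Eq.trans (b := LocalizedModule.mk (l ^ n₀ • m)
      (⟨l ^ (n₀ + i), hn _ x⟩ : x.1.asHomogeneousIdeal.toIdeal.primeCompl)) ?_ ?_
    · rw [LocalizedModule.mk_eq]
      refine ⟨1, ?_⟩
      simp only [one_smul, Submonoid.smul_def, smul_smul, ← pow_add]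
      rw [Nat.add_comm i n₀]
    · let μ : M →+ GrMod.LocMod 𝒜 (M := M) x.1 := AddMonoidHom.mk' (fun m' => LocalizedModule.mk m'
          (⟨l ^ (n₀ + i), hn _ x⟩ : x.1.asHomogeneousIdeal.toIdeal.primeCompl)) (fun a b => by
        rw [LocalizedModule.mk_add_mk, LocalizedModule.mk_eq]
        exact ⟨1, by simp [Submonoid.smul_def, smul_add, smul_smul]⟩)
      refine (congrArg μ hsum).trans ?_
      rw [map_sum]
      refine Finset.sum_congr rfl fun e _ => ?_
      refine Eq.trans ?_ (GrModFrac.sect_smul_val _ _ x).symm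
      by_cases h : di e ≤ n₀ + i
      · simp only [coef, if_pos h]
        show LocalizedModule.mk _ _ = (HomogeneousLocalization.mk _).val • LocalizedModule.mk _ _
        rw [HomogeneousLocalization.val_mk, LocalizedModule.mk_smul_mk, LocalizedModule.mk_eq]
        refine ⟨1, ?_⟩
        simp only [one_smul, Submonoid.smul_def, smul_smul, Submonoid.coe_mul, ← pow_add]
        rw [Nat.sub_add_cancel h]
      · simp only [coef, if_neg h]
        show μ 0 = (0 : GrTwist.A0 𝒜 x.1).val • _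
        rw [HomogeneousLocalization.val_zero, zero_smul, map_zero]
  rw [hqe]
  exact Submodule.sum_mem _ fun e _ => Submodule.smul_mem _ _
    (Submodule.subset_span (Finset.mem_coe.mpr (Finset.mem_image_of_mem _ (Finset.mem_univ e))))

end

/-- Let 𝒮 be a quasi-coherent positively graded O_Y-algebra generated by 𝒮_1, with 𝒮_1 of finite type,
and ℳ a quasi-coherent graded 𝒮-module satisfying (TF). Then the module ℳ~ on P = Proj(𝒮) (given
through its chartwise identifications) is of finite type. -/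
theorem result {Y P : Scheme.{u}} (𝒮 : RelProj.QCGrAlg Y) (p : P ⟶ Y)
    (chart : ∀ (U : Y.Opens) (hU : IsAffineOpen U), (((p ⁻¹ᵁ U : P.Opens) : Scheme.{u}) ≅ Proj (𝒮.deg U hU)))
    (hP : RelProj.IsRelProj 𝒮 p chart) (hgen : 𝒮.IsGenDegOne) (hft : 𝒮.IsFTDeg 1)
    (ℳ : RelProj.GrModule 𝒮) (hℳ : Coh.IsQCoh ((AMod.toOS 𝒮.toQCAlg).obj ℳ.mod)) (hTF : ℳ.IsTF) (F : P.Modules)
    (lam : ∀ (U : Y.Opens) (hU : IsAffineOpen U),
      F ⟶ (Scheme.Modules.pushforward (RelProj.emb p chart U hU)).obj (GrMod.tilde (𝒮.deg U hU) (ℳ.deg U hU) 0))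
    (hF : RelProj.IsRelTilde 𝒮 p chart ℳ 0 F lam) : CohB1.IsFT F := by
  have := Groth.Agent.S8322.result 𝒮 p chart hP ℳ hℳ 0 F lam hF
  obtain ⟨n₀, hTF⟩ := hTF
  let ι := Σ U : Y.affineOpens, 𝒮.deg U.1 U.2 1
  let W : ι → P.affineOpens := fun a => ⟨RelProj.emb p chart a.1.1 a.1.2 ''ᵁ
      Proj.basicOpen (𝒮.deg a.1.1 a.1.2) (a.2 : 𝒮.presheaf.obj (op a.1.1)),
    (Proj.isAffineOpen_basicOpen (𝒮.deg a.1.1 a.1.2) _ a.2.2 Nat.one_pos).image_of_isOpenImmersion _⟩
  refine QCohLib.isFiniteType_of_affine_cover F W (fun x => ?_) fun a => ?_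
  · obtain ⟨U, hU, hxU, -⟩ := exists_isAffineOpen_mem_and_subset (X := Y) (x := p x) (U := ⊤) trivial
    obtain ⟨y, rfl⟩ := GrModFrac.mem_range_emb (chart := chart) U hU hxU
    obtain ⟨l, hl, hly⟩ := GrModFrac.exists_degOne_notMem (hgen U hU) y
    exact ⟨⟨⟨U, hU⟩, ⟨l, hl⟩⟩, y, hly, rfl⟩
  · obtain ⟨⟨U, hU⟩, ⟨l, hl⟩⟩ := a
    let f := RelProj.emb p chart U hU
    let V : P.Opens := f ''ᵁ Proj.basicOpen (𝒮.deg U hU) l
    have hV : V ≤ p ⁻¹ᵁ U := GrModFrac.le_preimage_of_image chart U hU _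
    have : IsIso (f.app V) := f.isIso_app V (GrModFrac.le_opensRange_emb U hU hV)
    have hfin : ∀ D : (Proj (𝒮.deg U hU)).Opens, D = Proj.basicOpen (𝒮.deg U hU) l →
        Module.Finite Γ(Proj (𝒮.deg U hU), D) Γ(GrMod.tilde (𝒮.deg U hU) (ℳ.deg U hU) 0, D) := by
      rintro D rfl
      obtain ⟨s, hs⟩ := exists_finset_span_sections n₀ (hTF U hU) hl
      exact ⟨⟨s, eq_top_iff.mpr fun q _ => hs q⟩⟩
    obtain ⟨⟨s, hs⟩⟩ := hfin (f ⁻¹ᵁ V) (Scheme.Hom.preimage_image_eq f _)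
    classical
    choose pre hpre using fun q : Γ(GrMod.tilde (𝒮.deg U hU) (ℳ.deg U hU) 0, f ⁻¹ᵁ V) =>
      (hF.bijective U hU V hV).2 q
    choose co hco using fun c : Γ(Proj (𝒮.deg U hU), f ⁻¹ᵁ V) =>
      (ConcreteCategory.bijective_of_isIso (f.app V)).2 c
    refine ⟨⟨s.image pre, eq_top_iff.mpr fun t _ => ?_⟩⟩
    have key : ∀ q, q ∈ Submodule.span Γ(Proj (𝒮.deg U hU), f ⁻¹ᵁ V)
        (s : Set Γ(GrMod.tilde (𝒮.deg U hU) (ℳ.deg U hU) 0, f ⁻¹ᵁ V)) →
        ∀ t : Γ(F, V), (lam U hU).app V t = q → t ∈ Submodule.span Γ(P, V) ((s.image pre : Finset _) : Set Γ(F, V)) := by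
      intro q hq
      induction hq using Submodule.span_induction with
      | mem q hq =>
        intro t ht
        obtain rfl := (hF.bijective U hU V hV).1 (ht.trans (hpre q).symm)
        exact Submodule.subset_span (Finset.mem_coe.mpr (Finset.mem_image_of_mem _ hq))
      | zero =>
        intro t ht
        obtain rfl := (hF.bijective U hU V hV).1 (ht.trans (map_zero ((lam U hU).app V).hom).symm)
        exact zero_mem _
      | add a b _ _ ha hb =>
        intro t ht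
        obtain rfl : t = pre a + pre b := (hF.bijective U hU V hV).1 (ht.trans
          ((map_add ((lam U hU).app V).hom _ _).trans (congrArg₂ (· + ·) (hpre a) (hpre b))).symm)
        exact add_mem (ha _ (hpre a)) (hb _ (hpre b))
      | smul c a _ ha =>
        intro t ht
        obtain rfl : t = co c • pre a := (hF.bijective U hU V hV).1 (ht.trans
          ((Scheme.Modules.Hom.app_smul (lam U hU) (co c) (pre a)).trans
            (congrArg₂ (fun (z : Γ(Proj (𝒮.deg U hU), f ⁻¹ᵁ V)) (w : Γ(GrMod.tilde (𝒮.deg U hU) (ℳ.deg U hU) 0, f ⁻¹ᵁ V)) => z • w)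
              (hco c) (hpre a))).symm)
        exact Submodule.smul_mem _ _ (ha _ (hpre a))
    exact key _ (hs ▸ Submodule.mem_top) t rfl

end Groth.Agent.S8325
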