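import Groth.Statements.S8326
import Groth.Agent.GrModFrac.Twist
import Groth.Agent.QCohLib.Sections
-- import your own Groth.Agent.* helpers here

set_option autoImplicit false
universe u
open CategoryTheory CategoryTheory.Limits AlgebraicGeometry Opposite TopologicalSpace
open scoped HomogeneousIdeal
noncomputable section
open EGA2

namespace Groth.Agent.S8326

open Groth.Agent

section

/-- In a ring generated in degrees `0, 1`, degree `j` lies in the `j`-th power of any ideal containing degree one. -/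
theorem deg_le_pow {A σ : Type u} [CommRing A] [SetLike σ A] [AddSubgroupClass σ A] {𝒜 : ℕ → σ} [GradedRing 𝒜]
    (hgen : Subring.closure ((𝒜 0 : Set A) ∪ (𝒜 1 : Set A)) = ⊤) {I : Ideal A} (hI : ∀ a ∈ 𝒜 1, a ∈ I)
    {j : ℕ} {c : A} (hc : c ∈ 𝒜 j) : c ∈ I ^ j := by
  classical
  have key : ∀ b : A, ∀ j, (DirectSum.decompose 𝒜 b j : A) ∈ I ^ j := by
    intro b
    have hb : b ∈ Subring.closure ((𝒜 0 : Set A) ∪ (𝒜 1 : Set A)) := by rw [hgen]; trivial
    induction hb using Subring.closure_induction with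
    | mem b hb =>
      intro j
      rcases hb with hb | hb
      · by_cases hj : 0 = j
        · subst hj; simp
        · rw [DirectSum.decompose_of_mem_ne 𝒜 hb hj]; exact zero_mem _
      · by_cases hj : 1 = j
        · subst hj; rw [DirectSum.decompose_of_mem_same 𝒜 hb, pow_one]; exact hI b hb
        · rw [DirectSum.decompose_of_mem_ne 𝒜 hb hj]; exact zero_mem _
    | zero => intro j; simp
    | one =>
      intro j
      by_cases hj : 0 = j
      · subst hj; simp
      · rw [DirectSum.decompose_of_mem_ne 𝒜 SetLike.GradedOne.one_mem hj]; exact zero_mem _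
    | add a b _ _ ha hb =>
      intro j
      rw [DirectSum.decompose_add, DirectSum.add_apply, AddMemClass.coe_add]
      exact add_mem (ha j) (hb j)
    | neg a _ ha =>
      intro j
      have e : (DirectSum.decompose 𝒜 (-a) j : A) = -(DirectSum.decompose 𝒜 a j : A) :=
        map_neg (GradedRing.proj 𝒜 j) a
      rw [e]
      exact neg_mem (ha j)
    | mul a b _ _ ha hb =>
      intro j
      rw [DirectSum.decompose_mul, DirectSum.coe_mul_apply]
      refine sum_mem fun ij hij => ?_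
      rw [← (Finset.mem_filter.mp hij).2, pow_add]
      exact Ideal.mul_mem_mul (ha _) (hb _)
  simpa [DirectSum.decompose_of_mem_same 𝒜 hc] using key c j

variable {A σ : Type u} [CommRing A] [SetLike σ A] [AddSubgroupClass σ A] {𝒜 : ℕ → σ} [GradedRing 𝒜]
variable {M τ : Type u} [AddCommGroup M] [Module A M] [SetLike τ M] [AddSubgroupClass τ M] {ℳ : ℕ → τ}
  [SetLike.GradedSMul 𝒜 ℳ] [DirectSum.Decomposition ℳ]

/-- If `M~` vanishes, the high part is finitely generated, and `A₊` is generated by finitely many elements of degree one,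
then `M` vanishes in large degrees. -/
theorem eventually_zero (hgen : Subring.closure ((𝒜 0 : Set A) ∪ (𝒜 1 : Set A)) = ⊤)
    (T : Finset A) (hT : ∀ t ∈ T, t ∈ 𝒜 1) (hT1 : ∀ a ∈ 𝒜 1, a ∈ Ideal.span (T : Set A)) (n₀ : ℕ)
    (hTF : (Submodule.span A (⋃ k ∈ Set.Ici n₀, (ℳ k : Set M))).FG)
    (hzero : ∀ l ∈ 𝒜 1, ∀ q : GrMod.sect 𝒜 ℳ 0 (op (ProjectiveSpectrum.basicOpen 𝒜 l)), q = 0) :
    ∃ N : ℕ, ∀ k, N ≤ k → ∀ m ∈ ℳ k, m = 0 := by
  classical
  obtain ⟨G, hG, hGspan⟩ := (Submodule.fg_span_iff_fg_span_finset_subset _).mp hTF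
  choose di hdi hmem using fun e : G => Set.mem_iUnion₂.mp (hG e.2)
  have hkill : ∀ e : G, ∃ N : ℕ, ∀ c ∈ Ideal.span (T : Set A) ^ N, c • (e.1 : M) = 0 := by
    intro e
    let J : Ideal A := LinearMap.ker (LinearMap.toSpanSingleton A M e.1)
    have hrad : Ideal.span (T : Set A) ≤ J.radical := by
      refine Ideal.span_le.mpr fun l hlT => ?_
      have hl : l ∈ 𝒜 1 := hT l hlT
      have hp : l ^ di e ∈ 𝒜 (di e) := by simpa using SetLike.pow_mem_graded (di e) hl
      have hn : ∀ x : ProjectiveSpectrum.basicOpen 𝒜 l, l ^ di e ∉ x.1.asHomogeneousIdeal :=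
        fun x h => x.2 (x.1.isPrime.mem_of_pow_mem _ h)
      let q : GrMod.sect 𝒜 ℳ 0 (op (ProjectiveSpectrum.basicOpen 𝒜 l)) :=
        ⟨fun x => ⟨LocalizedModule.mk (e.1 : M) ⟨l ^ di e, hn x⟩,
            Submodule.subset_span ⟨di e, di e, ⟨e.1, hmem e⟩, ⟨_, hp⟩, hn x, by simp, rfl⟩⟩,
          fun x => ⟨_, x.2, 𝟙 _, di e, di e, ⟨e.1, hmem e⟩, ⟨_, hp⟩, hn, Or.inl (by simp), fun _ => rfl⟩⟩
      obtain ⟨N, hN⟩ := GrModFrac.exists_pow_smul_eq_zero 𝒜 ℳ Nat.one_pos hl (di e) (di e) ⟨e.1, hmem e⟩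
        (fun x => congrArg (fun z : GrMod.sect 𝒜 ℳ 0 (op (ProjectiveSpectrum.basicOpen 𝒜 l)) => (z.1 x).1) (hzero l hl q))
      exact ⟨N, hN⟩
    obtain ⟨N, hN⟩ := Ideal.exists_pow_le_of_le_radical_of_fg hrad ⟨T, rfl⟩
    exact ⟨N, fun c hc => hN hc⟩
  choose N hN using hkill
  refine ⟨n₀ + Finset.univ.sup (fun e => di e + N e + 1), fun k hk m hm => ?_⟩
  have hspan : m ∈ Submodule.span A (Set.range fun e : G => (e.1 : M)) := by
    rw [show (Set.range fun e : G => (e.1 : M)) = (G : Set M) from Subtype.range_coe, ← hGspan]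
    exact Submodule.subset_span (Set.mem_iUnion₂.mpr ⟨k, (Nat.le_add_right _ _).trans hk, hm⟩)
  obtain ⟨c, hc⟩ := (Submodule.mem_span_range_iff_exists_fun A).mp hspan
  refine (DirectSum.decompose_of_mem_same ℳ hm).symm.trans ?_
  rw [← hc, DirectSum.decompose_sum, DFinsupp.finsetSum_apply, AddSubmonoidClass.coe_finsetSum]
  refine Finset.sum_eq_zero fun e _ => ?_
  conv_lhs => rw [← DirectSum.sum_support_decompose 𝒜 (c e), Finset.sum_smul, DirectSum.decompose_sum,
    DFinsupp.finsetSum_apply, AddSubmonoidClass.coe_finsetSum]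
  refine Finset.sum_eq_zero fun j _ => ?_
  by_cases hj : j + di e = k
  · have hle : N e ≤ j := by
      have := Finset.le_sup (f := fun e => di e + N e + 1) (Finset.mem_univ e)
      omega
    have h1 : (DirectSum.decompose 𝒜 (c e) j : A) • (e.1 : M) = 0 :=
      hN e _ (Ideal.pow_le_pow_right hle (deg_le_pow hgen hT1 (DirectSum.decompose 𝒜 (c e) j).2))
    rw [h1]
    simp
  · exact DirectSum.decompose_of_mem_ne ℳ (SetLike.GradedSMul.smul_mem (DirectSum.decompose 𝒜 (c e) j).2 (hmem e))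
      (by rw [vadd_eq_add]; exact hj)

end

/-- Let Y be a scheme with quasi-compact underlying space, 𝒮 a quasi-coherent positively graded
O_Y-algebra generated by 𝒮_1 with 𝒮_1 of finite type, and ℳ a quasi-coherent graded 𝒮-module
satisfying (TF). If ℳ~ = 0 on P = Proj(𝒮), then ℳ satisfies (TN). (With (TN) asking for one degree
bound over the whole base, the implication needs the base quasi-compact: over an infinite disjoint
union of points carrying the polynomial algebra in one variable, the module equal on the i-th point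
to the residue field placed in degree i and killed by the variable satisfies (TF), has zero attached
module, and fails (TN). The published statement has no quasi-compactness hypothesis; its proof gives
a bound on each affine open. The converse direction holds for any base and any graded module.) -/
theorem result {Y P : Scheme.{u}} (𝒮 : RelProj.QCGrAlg Y) (p : P ⟶ Y)
    (chart : ∀ (U : Y.Opens) (hU : IsAffineOpen U), (((p ⁻¹ᵁ U : P.Opens) : Scheme.{u}) ≅ Proj (𝒮.deg U hU)))
    (hP : RelProj.IsRelProj 𝒮 p chart) [CompactSpace Y] (hgen : 𝒮.IsGenDegOne)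
    (hft : 𝒮.IsFTDeg 1) (ℳ : RelProj.GrModule 𝒮) (hℳ : Coh.IsQCoh ((AMod.toOS 𝒮.toQCAlg).obj ℳ.mod)) (hTF : ℳ.IsTF)
    (F : P.Modules)
    (lam : ∀ (U : Y.Opens) (hU : IsAffineOpen U),
      F ⟶ (Scheme.Modules.pushforward (RelProj.emb p chart U hU)).obj (GrMod.tilde (𝒮.deg U hU) (ℳ.deg U hU) 0))
    (hF : RelProj.IsRelTilde 𝒮 p chart ℳ 0 F lam) (h0 : IsZero F) : ℳ.IsTN := by
  classical
  have := hℳ
  obtain ⟨n₀, hTF⟩ := hTF
  have hloc : ∀ U : Y.affineOpens, ∃ N : ℕ, ∀ k, N ≤ k → ∀ m ∈ ℳ.deg U.1 U.2 k, m = 0 := by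
    rintro ⟨U, hU⟩
    obtain ⟨T, hT, hT1⟩ := hft U hU
    refine eventually_zero (hgen U hU) T (fun t ht => hT ht) (fun a ha => ?_) n₀ (hTF U hU) fun l hl q => ?_
    · obtain ⟨c, rfl⟩ := hT1 a ha
      exact Ideal.sum_mem _ fun t ht => Ideal.mul_mem_left _ _ (Ideal.subset_span ht)
    · have key : ∀ D, D = Proj.basicOpen (𝒮.deg U hU) l →
          (∀ z : Γ(GrMod.tilde (𝒮.deg U hU) (ℳ.deg U hU) 0, D), z = 0) →
          ∀ z : Γ(GrMod.tilde (𝒮.deg U hU) (ℳ.deg U hU) 0, Proj.basicOpen (𝒮.deg U hU) l), z = 0 := by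
        rintro D rfl h
        exact h
      refine key _ (Scheme.Hom.preimage_image_eq (RelProj.emb p chart U hU) _) (fun z => ?_) q
      obtain ⟨t, rfl⟩ := (hF.bijective U hU _ (GrModFrac.le_preimage_of_image chart U hU _)).2 z
      exact (congrArg _ (congrArg (fun f : F ⟶ F => f.app _ t) (h0.eq_of_src (𝟙 F) 0))).trans (map_zero _)
  choose N hN using hloc
  obtain ⟨S, hS⟩ := isCompact_univ.elim_finite_subcover (fun U : Y.affineOpens => (U.1 : Set Y)) (fun U => U.1.2)
    (fun y _ => by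
      obtain ⟨U, hU, hy, -⟩ := exists_isAffineOpen_mem_and_subset (X := Y) (x := y) (U := ⊤) trivial
      exact Set.mem_iUnion.mpr ⟨⟨U, hU⟩, hy⟩)
  refine ⟨S.sup N, fun W hW k hk m hm => ?_⟩
  let A' : Y.Modules := (AMod.toOS 𝒮.toQCAlg).obj ℳ.mod
  choose U hUS hyU using fun y : W => Set.mem_iUnion₂.mp (hS (Set.mem_univ (y : Y)))
  choose a b hab hya using fun y : W => exists_basicOpen_le_affine_inter hW (U y).2 (y : Y) ⟨y.2, hyU y⟩
  refine TopCat.Sheaf.eq_of_locally_eq' ⟨A'.presheaf, A'.isSheaf⟩ (fun y : W => Y.basicOpen (a y)) W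
    (fun y => homOfLE (Y.basicOpen_le _)) (fun y hy => Opens.mem_iSup.mpr ⟨⟨y, hy⟩, hya ⟨y, hy⟩⟩)
    (show Γ(A', W) from m) 0 fun y => ?_
  refine Eq.trans ?_ (map_zero _).symm
  have hzeroD : ∀ (D : Y.Opens) (hD : IsAffineOpen D), D = Y.basicOpen (b y) → ∀ x ∈ ℳ.deg D hD k, x = 0 := by
    rintro D hD rfl x hx
    have hDU : Y.basicOpen (b y) ≤ (U y).1 := Y.basicOpen_le _
    obtain ⟨e, z, hz⟩ := QCohLib.exists_res_eq_pow_smul (M := A') (U y).2 (b y) _ hDU rfl (show Γ(A', Y.basicOpen (b y)) from x)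
    have hunit : IsUnit (Y.presheaf.map (homOfLE hDU).op (b y)) := RingedSpace.isUnit_res_basicOpen _ (b y)
    let r : 𝒮.presheaf.obj (op (Y.basicOpen (b y))) :=
      (𝒮.str.app (op (Y.basicOpen (b y)))).hom ((Y.presheaf.map (homOfLE hDU).op (b y)) ^ e)
    have hr : r • x ∈ ℳ.deg _ hD k := by
      have := SetLike.GradedSMul.smul_mem (A := 𝒮.deg _ hD) (B := ℳ.deg _ hD) (𝒮.str_mem _ hD _ : r ∈ 𝒮.deg _ hD 0) hx
      rwa [vadd_eq_add, zero_add] at this
    have hz' : ℳ.res (U y).2 hD hDU z = r • x := hz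
    let z' : ℳ.mod.val.obj (op (U y).1) := z
    have hcomp : (DirectSum.decompose (ℳ.deg _ hD) (ℳ.res (U y).2 hD hDU z') k : ℳ.mod.val.obj (op (Y.basicOpen (b y)))) =
        ℳ.res (U y).2 hD hDU (DirectSum.decompose (ℳ.deg _ (U y).2) z' k : ℳ.mod.val.obj (op (U y).1)) := by
      conv_lhs => rw [← DirectSum.sum_support_decompose (ℳ.deg _ (U y).2) z', map_sum, DirectSum.decompose_sum,
        DFinsupp.finsetSum_apply, AddSubmonoidClass.coe_finsetSum]
      rw [Finset.sum_eq_single k]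
      · exact DirectSum.decompose_of_mem_same _ (ℳ.res_mem _ hD hDU k _ (DirectSum.decompose _ z' k).2)
      · intro j _ hj
        exact DirectSum.decompose_of_mem_ne _ (ℳ.res_mem _ hD hDU j _ (DirectSum.decompose _ z' j).2) hj
      · intro h
        rw [DFinsupp.notMem_support_iff.mp h]
        simp only [ZeroMemClass.coe_zero, map_zero]
        rw [DirectSum.decompose_zero]
        rfl
    have hz0 : r • x = 0 := by
      rw [← DirectSum.decompose_of_mem_same _ hr, ← hz', hcomp,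
        hN (U y) k ((Finset.le_sup (hUS y)).trans hk) _ (DirectSum.decompose _ z' k).2]
      exact map_zero _
    exact ((hunit.pow e).map (𝒮.str.app (op (Y.basicOpen (b y)))).hom).smul_eq_zero.mp hz0
  exact hzeroD _ (hW.basicOpen (a y)) (hab y) _ (ℳ.map_mem hW (hW.basicOpen (a y)) (Y.basicOpen_le _) hm)

end Groth.Agent.S8326
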