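import Groth.Statements.S8338
import Groth.Agent.GrModFrac.Basic
-- import your own Groth.Agent.* helpers here

set_option autoImplicit false
universe u
open CategoryTheory CategoryTheory.Limits AlgebraicGeometry Opposite TopologicalSpace
noncomputable section
open EGA2

namespace Groth.Agent.S8338

/-- For an exact sequence M₁ → M₂ → M₃ of graded S-modules with degree-preserving maps u, v and every
integer n, the induced morphisms M₁(n)~ → M₂(n)~ → M₃(n)~ of modules on X = Proj S give an exact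
sequence of sections over every basic open D_+(f), f homogeneous of positive degree (these opens are
affine and cover X, so the sequence of modules is exact). Gradings by additive subgroups, modules
graded in non-negative degrees. -/
theorem result {A σ : Type u} [CommRing A] [SetLike σ A] [AddSubgroupClass σ A] (𝒜 : ℕ → σ)
    [GradedRing 𝒜] {M₁ τ₁ : Type u} [AddCommGroup M₁] [Module A M₁] [SetLike τ₁ M₁] [AddSubgroupClass τ₁ M₁]
    (ℳ₁ : ℕ → τ₁) [SetLike.GradedSMul 𝒜 ℳ₁] [DirectSum.Decomposition ℳ₁]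
    {M₂ τ₂ : Type u} [AddCommGroup M₂] [Module A M₂] [SetLike τ₂ M₂] [AddSubgroupClass τ₂ M₂]
    (ℳ₂ : ℕ → τ₂) [SetLike.GradedSMul 𝒜 ℳ₂] [DirectSum.Decomposition ℳ₂]
    {M₃ τ₃ : Type u} [AddCommGroup M₃] [Module A M₃] [SetLike τ₃ M₃] [AddSubgroupClass τ₃ M₃]
    (ℳ₃ : ℕ → τ₃) [SetLike.GradedSMul 𝒜 ℳ₃] [DirectSum.Decomposition ℳ₃]
    (u : M₁ →ₗ[A] M₂) (hu : ∀ (i : ℕ) (m : M₁), m ∈ ℳ₁ i → u m ∈ ℳ₂ i)
    (v : M₂ →ₗ[A] M₃) (hv : ∀ (i : ℕ) (m : M₂), m ∈ ℳ₂ i → v m ∈ ℳ₃ i)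
    (hex : Function.Exact u v) (n : ℤ) {d : ℕ} (hd : 0 < d) (f : A) (hf : f ∈ 𝒜 d) :
    Function.Exact ((GrMod.map 𝒜 u hu n).app (Proj.basicOpen 𝒜 f))
      ((GrMod.map 𝒜 v hv n).app (Proj.basicOpen 𝒜 f)) := by
  classical
  intro s
  constructor
  · intro hs
    obtain ⟨k, i, m, hm, hi, hval⟩ :=
      GrModFrac.exists_frac_basicOpen 𝒜 ℳ₂ n hd hf (s : GrMod.sect 𝒜 ℳ₂ n (op (Proj.basicOpen 𝒜 f)))
    obtain ⟨N, hN⟩ := GrModFrac.exists_pow_smul_eq_zero 𝒜 ℳ₃ hd hf k i ⟨v m, hv i m hm⟩ (by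
      intro x
      have h0 : GrMod.val ((GrMod.map 𝒜 v hv n).app (Proj.basicOpen 𝒜 f) s) ⟨x.1, x.2⟩ = 0 := by
        rw [hs]; rfl
      rw [GrMod.map_app_val] at h0
      have h1 : GrMod.val s ⟨x.1, x.2⟩ = LocalizedModule.mk m (⟨f ^ k,
          fun h => x.2 (x.1.isPrime.mem_of_pow_mem k h)⟩ : x.1.asHomogeneousIdeal.toIdeal.primeCompl) :=
        hval x.1 x.2
      rw [h1, GrMod.locMap_mk] at h0
      exact h0)
    have hvN : v (f ^ N • m) = 0 := by rw [map_smul]; exact hN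
    obtain ⟨m', hm'⟩ := (hex _).mp hvN
    set j : ℕ := N * d + i with hj
    have hfN : f ^ N ∈ 𝒜 (N * d) := by simpa [smul_eq_mul] using SetLike.pow_mem_graded N hf
    have hfm : f ^ N • m ∈ ℳ₂ j := SetLike.GradedSMul.smul_mem hfN hm
    have hcomm : u (DirectSum.decompose ℳ₁ m' j : M₁) = (DirectSum.decompose ℳ₂ (u m') j : M₂) := by
      conv_rhs => rw [← DirectSum.sum_support_decompose ℳ₁ m', map_sum, DirectSum.decompose_sum,
        DFinsupp.finsetSum_apply, AddSubmonoidClass.coe_finsetSum]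
      rw [Finset.sum_eq_single j]
      · exact (DirectSum.decompose_of_mem_same ℳ₂ (hu _ _ (DirectSum.decompose ℳ₁ m' j).2)).symm
      · intro b _ hb
        exact DirectSum.decompose_of_mem_ne ℳ₂ (hu _ _ (DirectSum.decompose ℳ₁ m' b).2) hb
      · intro hj'
        rw [DFinsupp.notMem_support_iff.mp hj']
        simp
    rw [hm', DirectSum.decompose_of_mem_same ℳ₂ hfm] at hcomm
    have hfp : f ^ (k + N) ∈ 𝒜 ((k + N) * d) := by simpa [smul_eq_mul] using SetLike.pow_mem_graded (k + N) hf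
    have hdeg : (j : ℤ) = ((k + N) * d : ℕ) + n := by rw [hj]; push_cast; rw [hi]; ring
    let t : GrMod.sect 𝒜 ℳ₁ n (op (Proj.basicOpen 𝒜 f)) :=
      ⟨fun x => ⟨LocalizedModule.mk (DirectSum.decompose ℳ₁ m' j : M₁)
          ⟨f ^ (k + N), fun h => x.2 (x.1.isPrime.mem_of_pow_mem _ h)⟩,
        Submodule.subset_span ⟨j, (k + N) * d, DirectSum.decompose ℳ₁ m' j, ⟨_, hfp⟩, _, hdeg, rfl⟩⟩,
       fun x => ⟨Proj.basicOpen 𝒜 f, x.2, 𝟙 _, j, (k + N) * d, DirectSum.decompose ℳ₁ m' j, ⟨_, hfp⟩,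
        fun y h => y.2 (y.1.isPrime.mem_of_pow_mem _ h), Or.inl hdeg, fun y => rfl⟩⟩
    refine ⟨t, Subtype.ext (funext fun x => Subtype.ext ?_)⟩
    refine Eq.trans ?_ (hval x.1 x.2).symm
    show GrMod.locMap u x.1 (LocalizedModule.mk (DirectSum.decompose ℳ₁ m' j : M₁) _) = _
    rw [GrMod.locMap_mk, hcomm, LocalizedModule.mk_eq]
    refine ⟨1, ?_⟩
    simp [Submonoid.smul_def, smul_smul, pow_add]
  · rintro ⟨t, rfl⟩
    refine Subtype.ext (funext fun x => Subtype.ext ?_)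
    show GrMod.locMap v x.1 (GrMod.locMap u x.1 (GrMod.val t x)) = 0
    induction (GrMod.val t x) using LocalizedModule.induction_on with
    | h a b =>
      rw [GrMod.locMap_mk, GrMod.locMap_mk, hex.apply_apply_eq_zero, LocalizedModule.zero_mk]

end Groth.Agent.S8338
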