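import Groth.Statements.S8337
import Groth.Agent.GrModFrac.PairMod
-- import your own Groth.Agent.* helpers here

set_option autoImplicit false
universe u
open CategoryTheory CategoryTheory.Limits AlgebraicGeometry Opposite TopologicalSpace
open scoped HomogeneousIdeal
noncomputable section
open EGA2

namespace Groth.Agent.S8337

open Groth.Agent

/-- If the quasi-coherent positively graded O_Y-algebra 𝒮 is generated by 𝒮_1, then for every
quasi-coherent graded 𝒮-module ℳ and every integer n, the module (ℳ(n))~ on P = Proj(𝒮) is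
isomorphic to ℳ~(n) = ℳ~ ⊗ O_P(n), all three modules being given through their chartwise
identifications (existence of an isomorphism only; the published isomorphism is canonical). -/
theorem result {Y P : Scheme.{u}} (𝒮 : RelProj.QCGrAlg Y) (p : P ⟶ Y)
    (chart : ∀ (U : Y.Opens) (hU : IsAffineOpen U), (((p ⁻¹ᵁ U : P.Opens) : Scheme.{u}) ≅ Proj (𝒮.deg U hU)))
    (hP : RelProj.IsRelProj 𝒮 p chart) (hgen : 𝒮.IsGenDegOne)
    (ℳ : RelProj.GrModule 𝒮) (hℳ : Coh.IsQCoh ((AMod.toOS 𝒮.toQCAlg).obj ℳ.mod)) (n : ℤ) (F : P.Modules)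
    (lam : ∀ (U : Y.Opens) (hU : IsAffineOpen U),
      F ⟶ (Scheme.Modules.pushforward (RelProj.emb p chart U hU)).obj (GrMod.tilde (𝒮.deg U hU) (ℳ.deg U hU) 0))
    (hF : RelProj.IsRelTilde 𝒮 p chart ℳ 0 F lam) (F' : P.Modules)
    (lam' : ∀ (U : Y.Opens) (hU : IsAffineOpen U),
      F' ⟶ (Scheme.Modules.pushforward (RelProj.emb p chart U hU)).obj (GrMod.tilde (𝒮.deg U hU) (ℳ.deg U hU) n))
    (hF' : RelProj.IsRelTilde 𝒮 p chart ℳ n F' lam') (L : P.Modules)
    (lamL : ∀ (U : Y.Opens) (hU : IsAffineOpen U),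
      L ⟶ (Scheme.Modules.pushforward (RelProj.emb p chart U hU)).obj (GrTwist.twist (𝒮.deg U hU) n))
    (hL : RelProj.IsRelTwist 𝒮 p chart n L lamL) :
    Nonempty (F' ≅ CohB1.tensorMod F L) := by
  obtain ⟨φ, hφ⟩ := GrModFrac.exists_relModMulHom hP (zero_add n) hF hL hF'
  refine (ProjTwist.nonempty_tensorMod_iso_of_unit φ fun V x hx => ?_).map Iso.symm
  obtain ⟨U, hU, hxU, -⟩ := exists_isAffineOpen_mem_and_subset (X := Y) (x := p x) (U := ⊤) trivial
  obtain ⟨y, rfl⟩ := GrModFrac.mem_range_emb (chart := chart) U hU hxU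
  obtain ⟨l, hl, hly⟩ := GrModFrac.exists_degOne_notMem (hgen U hU) y
  obtain ⟨i, j, g, h, hdeg, hgh⟩ := GrModFrac.exists_unitFrac hl n
  let f := RelProj.emb p chart U hU
  let V' : P.Opens := V ⊓ f ''ᵁ Proj.basicOpen (𝒮.deg U hU) l
  have hy : ∀ z : (f ⁻¹ᵁ V' : (Proj (𝒮.deg U hU)).Opens),
      l ∉ (show ProjectiveSpectrum (𝒮.deg U hU) from z.1).asHomogeneousIdeal := fun z =>
    ((Scheme.Hom.preimage_image_eq f (Proj.basicOpen (𝒮.deg U hU) l)).le z.2.2 : _)
  exact ⟨V', inf_le_left, ⟨hx, y, hly, rfl⟩,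
    GrModFrac.exists_relModMul_unit (zero_add n) hF hL hF' φ hφ U hU V'
      (inf_le_right.trans (GrModFrac.le_preimage_of_image chart U hU _)) g h (by simpa using hdeg)
      (fun z => (hgh z.1 (hy z)).1) (fun z => (hgh z.1 (hy z)).2)⟩

end Groth.Agent.S8337
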