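import Groth.Statements.S8339
import Groth.Agent.GrModFrac.Basic
import Groth.Agent.QCohLib.Basic
-- import your own Groth.Agent.* helpers here

set_option autoImplicit false
universe u
open CategoryTheory CategoryTheory.Limits AlgebraicGeometry Opposite TopologicalSpace
open scoped HomogeneousIdeal
noncomputable section
open EGA2

namespace Groth.Agent.S8339

open Groth.Agent

/-- Let ψ : S' → S be a homomorphism of graded rings with S_+ contained in the ideal generated by
ψ(S'_+), so that Φ : Proj S → Proj S' is everywhere defined, and let N be a graded S-module. If M is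
the graded S'-module obtained from N by restriction of scalars along ψ — given here as any graded
S'-module with a degree-preserving bijective ψ-semilinear map v : M → N — then the canonical
morphism M(n)~ → Φ_*(N(n)~), m/f ↦ v(m)/ψ(f), is an isomorphism for every integer n. (The published
statement is over the open G(ψ) where Φ is defined; the hypothesis on irrelevant ideals used here
forces G(ψ) = Proj S. For v not bijective this morphism is not an isomorphism in general. Gradings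
by additive subgroups; modules graded in non-negative degrees.) -/
theorem result {A σ : Type u} [CommRing A] [SetLike σ A] [AddSubgroupClass σ A] {𝒜 : ℕ → σ}
    [GradedRing 𝒜] {B σ' : Type u} [CommRing B] [SetLike σ' B] [AddSubgroupClass σ' B] {ℬ : ℕ → σ'} [GradedRing ℬ]
    (ψ : 𝒜 →+*ᵍ ℬ) (hψ : ℬ₊ ≤ (𝒜₊).map ψ)
    {M τ : Type u} [AddCommGroup M] [Module A M] [SetLike τ M] [AddSubgroupClass τ M] (ℳ : ℕ → τ)
    [SetLike.GradedSMul 𝒜 ℳ] [DirectSum.Decomposition ℳ]
    {N τ' : Type u} [AddCommGroup N] [Module B N] [SetLike τ' N] [AddSubgroupClass τ' N] (𝒩 : ℕ → τ')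
    [SetLike.GradedSMul ℬ 𝒩] [DirectSum.Decomposition 𝒩]
    (v : M →ₛₗ[ψ.toRingHom] N) (hv : ∀ (i : ℕ) (m : M), m ∈ ℳ i → v m ∈ 𝒩 i) (hbij : Function.Bijective v)
    (n : ℤ) : IsIso (GrMod.comap ψ hψ v hv n) := by
  classical
  have hcomm : ∀ (i : ℕ) (m : M), v (DirectSum.decompose ℳ m i : M) = (DirectSum.decompose 𝒩 (v m) i : N) := by
    intro i m
    conv_rhs => rw [← DirectSum.sum_support_decompose ℳ m, map_sum, DirectSum.decompose_sum,
      DFinsupp.finsetSum_apply, AddSubmonoidClass.coe_finsetSum]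
    rw [Finset.sum_eq_single i]
    · exact (DirectSum.decompose_of_mem_same 𝒩 (hv _ _ (DirectSum.decompose ℳ m i).2)).symm
    · intro b _ hb
      exact DirectSum.decompose_of_mem_ne 𝒩 (hv _ _ (DirectSum.decompose ℳ m b).2) hb
    · intro hj'
      rw [DFinsupp.notMem_support_iff.mp hj']
      simp
  let B : Set (Proj 𝒜).Opens := {W | ∃ (e : ℕ) (g : A), 0 < e ∧ g ∈ 𝒜 e ∧ W = Proj.basicOpen 𝒜 g}
  have hB : Opens.IsBasis B := by
    refine Opens.isBasis_iff_nbhd.mpr fun {W x} hx => ?_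
    obtain ⟨_, ⟨h, rfl⟩, hxh, hhW⟩ :=
      (ProjectiveSpectrum.isTopologicalBasis_basic_opens 𝒜).exists_subset_of_mem_open hx W.2
    simp only at hxh hhW
    have heq := ProjectiveSpectrum.basicOpen_eq_union_of_projection 𝒜 h
    rw [SetLike.mem_coe, heq, Opens.mem_iSup] at hxh
    obtain ⟨e, he⟩ := hxh
    obtain ⟨r, q, hq, hq0, hxq⟩ : ∃ (r : ℕ) (q : A), q ∈ 𝒜 r ∧ 0 < r ∧ q ∉ x.asHomogeneousIdeal := by
      by_contra hc
      push Not at hc
      exact x.not_irrelevant_le ((HomogeneousIdeal.irrelevant_le 𝒜).mpr fun i hi p hp => hc i p hp hi)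
    refine ⟨_, ⟨e + r, GradedRing.proj 𝒜 e h * q, by omega, SetLike.mul_mem_graded (DirectSum.decompose 𝒜 h e).2 hq, rfl⟩,
      fun hc => (x.isPrime.mem_or_mem hc).elim he hxq, fun y hy => hhW ?_⟩
    rw [SetLike.mem_coe, heq, Opens.mem_iSup]
    exact ⟨e, fun hc => hy (Ideal.mul_mem_right _ _ hc)⟩
  have hmain : ∀ W ∈ B, Function.Bijective ((GrMod.comap ψ hψ v hv n).app W) := by
    rintro _ ⟨e, g, he, hg, rfl⟩
    constructor
    · refine (injective_iff_map_eq_zero _).mpr fun s hs => ?_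
      obtain ⟨k, i, m, hm, hi, hval⟩ :=
        GrModFrac.exists_frac_basicOpen 𝒜 ℳ n he hg (s : GrMod.sect 𝒜 ℳ n (op (Proj.basicOpen 𝒜 g)))
      obtain ⟨N', hN⟩ := GrModFrac.exists_pow_smul_eq_zero ℬ 𝒩 he (ψ.map_mem hg) k i ⟨v m, hv i m hm⟩ (by
        intro y
        have h0 : GrMod.val ((GrMod.comap ψ hψ v hv n).app (Proj.basicOpen 𝒜 g) s) ⟨y.1, y.2⟩ = 0 := by
          rw [hs]; rfl
        rw [GrMod.comap_app_val] at h0
        have h1 : GrMod.val s ⟨ProjectiveSpectrum.comap ψ hψ y.1, y.2⟩ = LocalizedModule.mk m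
            (⟨g ^ k, fun h => y.2 ((ProjectiveSpectrum.comap ψ hψ y.1).isPrime.mem_of_pow_mem k h)⟩ :
              (ProjectiveSpectrum.comap ψ hψ y.1).asHomogeneousIdeal.toIdeal.primeCompl) := hval _ _
        rw [h1, GrMod.locModMap_mk] at h0
        refine Eq.trans ?_ h0
        congr 1
        exact Subtype.ext (map_pow ψ.toRingHom g k).symm)
      have hN' : g ^ N' • m = 0 := hbij.1 (by
        rw [map_zero, LinearMap.map_smulₛₗ, map_pow]
        exact hN)
      refine Subtype.ext (funext fun x => Subtype.ext ?_)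
      refine (hval x.1 x.2).trans ?_
      show _ = (0 : GrMod.LocMod 𝒜 (M := M) x.1)
      rw [← LocalizedModule.zero_mk 1, LocalizedModule.mk_eq]
      refine ⟨⟨g ^ N', fun h => x.2 (x.1.isPrime.mem_of_pow_mem N' h)⟩, ?_⟩
      simp only [Submonoid.smul_def, one_smul, smul_zero, OneMemClass.coe_one]
      exact hN'
    · intro t
      obtain ⟨k, i, b, hb, hi, hval⟩ :=
        GrModFrac.exists_frac_basicOpen ℬ 𝒩 n he (ψ.map_mem hg)
          (t : GrMod.sect ℬ 𝒩 n (op (Proj.basicOpen ℬ (ψ g))))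
      obtain ⟨m', hm'⟩ := hbij.2 b
      have hc := hcomm i m'
      rw [hm', DirectSum.decompose_of_mem_same 𝒩 hb] at hc
      have hgk : g ^ k ∈ 𝒜 (k * e) := by simpa [smul_eq_mul] using SetLike.pow_mem_graded k hg
      have hdeg : (i : ℤ) = (k * e : ℕ) + n := by rw [hi]; push_cast; ring
      let s : GrMod.sect 𝒜 ℳ n (op (Proj.basicOpen 𝒜 g)) :=
        ⟨fun x => ⟨LocalizedModule.mk (DirectSum.decompose ℳ m' i : M)
            ⟨g ^ k, fun h => x.2 (x.1.isPrime.mem_of_pow_mem _ h)⟩,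
          Submodule.subset_span ⟨i, k * e, DirectSum.decompose ℳ m' i, ⟨_, hgk⟩, _, hdeg, rfl⟩⟩,
         fun x => ⟨Proj.basicOpen 𝒜 g, x.2, 𝟙 _, i, k * e, DirectSum.decompose ℳ m' i, ⟨_, hgk⟩,
          fun y h => y.2 (y.1.isPrime.mem_of_pow_mem _ h), Or.inl hdeg, fun y => rfl⟩⟩
      refine ⟨s, Subtype.ext (funext fun y => Subtype.ext ?_)⟩
      refine Eq.trans ?_ (hval y.1 y.2).symm
      show LocalizedModule.mk (v (DirectSum.decompose ℳ m' i : M)) _ = _
      rw [hc]
      congr 1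
      exact Subtype.ext (map_pow ψ.toRingHom g k)
  rw [isIso_iff_mono_and_epi, QCohLib.mono_iff_app_injective]
  refine ⟨fun U => (injective_iff_map_eq_zero _).mpr fun s hs => ?_,
    QCohLib.epi_of_app_surjective _ hB fun W hW => (hmain W hW).2⟩
  let φ := GrMod.comap ψ hψ v hv n
  have hcov : ∀ x ∈ U, ∃ W : (Proj 𝒜).Opens, W ∈ B ∧ x ∈ W ∧ W ≤ U := fun x hx =>
    Opens.isBasis_iff_nbhd.mp hB hx
  choose W hWB hxW hWU using hcov
  refine TopCat.Sheaf.eq_of_locally_eq' ⟨(GrMod.tilde 𝒜 ℳ n).presheaf, (GrMod.tilde 𝒜 ℳ n).isSheaf⟩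
    (fun x : U => W x.1 x.2) U (fun x => homOfLE (hWU x.1 x.2))
    (fun x hx => Opens.mem_iSup.mpr ⟨⟨x, hx⟩, hxW x hx⟩) _ _ fun x => ?_
  apply (hmain _ (hWB x.1 x.2)).1
  have h := QCohLib.app_map φ (hWU x.1 x.2) s
  refine h.trans ?_
  rw [show φ.app U s = 0 from hs, map_zero]
  exact ((congrArg _ (map_zero _)).trans (map_zero _)).symm


end Groth.Agent.S8339
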