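import Groth.Statements.S8340
import Groth.Agent.GrModFrac.Pair
-- import your own Groth.Agent.* helpers here

set_option autoImplicit false
universe u
open CategoryTheory CategoryTheory.Limits AlgebraicGeometry Opposite TopologicalSpace
open scoped HomogeneousIdeal
noncomputable section
open EGA2

namespace Groth.Agent.S8340

open Groth.Agent

/-- For a quasi-compact open U of X = Proj(𝒮), 𝒮 any quasi-coherent positively graded O_Y-algebra, there
is d > 0 such that for every n divisible by d the module O_X(−n)|U is an inverse of O_X(n)|U: the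
tensor product O_X(n)|U ⊗ O_X(−n)|U is isomorphic to O_U (existence of an isomorphism; the twisting
sheaves are given through their chartwise identifications). -/
theorem result {Y X : Scheme.{u}} (𝒮 : RelProj.QCGrAlg Y) (q : X ⟶ Y)
    (chart : ∀ (U : Y.Opens) (hU : IsAffineOpen U), (((q ⁻¹ᵁ U : X.Opens) : Scheme.{u}) ≅ Proj (𝒮.deg U hU)))
    (hX : RelProj.IsRelProj 𝒮 q chart) (U : X.Opens) (hU : IsCompact (U : Set X)) :
    ∃ d : ℕ, 0 < d ∧ ∀ (n : ℤ), (d : ℤ) ∣ n →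
      ∀ (L : X.Modules)
        (lam : ∀ (V : Y.Opens) (hV : IsAffineOpen V),
          L ⟶ (Scheme.Modules.pushforward (RelProj.emb q chart V hV)).obj (GrTwist.twist (𝒮.deg V hV) n)),
        RelProj.IsRelTwist 𝒮 q chart n L lam →
      ∀ (L' : X.Modules)
        (lam' : ∀ (V : Y.Opens) (hV : IsAffineOpen V),
          L' ⟶ (Scheme.Modules.pushforward (RelProj.emb q chart V hV)).obj (GrTwist.twist (𝒮.deg V hV) (-n))),
        RelProj.IsRelTwist 𝒮 q chart (-n) L' lam' →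
          Nonempty (CohB1.tensorMod (L.restrict U.ι) (L'.restrict U.ι) ≅ Coh.structureModule (U : Scheme.{u})) := by
  classical
  obtain ⟨lam₀, hL₀⟩ := GrModFrac.exists_structure_relTwist hX
  choose V hV e g he hg hx hle using fun x : U =>
    show ∃ (V : Y.Opens) (hV : IsAffineOpen V) (e : ℕ) (g : 𝒮.presheaf.obj (op V)), 0 < e ∧ g ∈ 𝒮.deg V hV e ∧
        x.1 ∈ RelProj.emb q chart V hV ''ᵁ Proj.basicOpen (𝒮.deg V hV) g ∧
        RelProj.emb q chart V hV ''ᵁ Proj.basicOpen (𝒮.deg V hV) g ≤ U by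
      obtain ⟨W, ⟨V, hV, e, g, he, hg, rfl⟩, hxW, hWU⟩ :=
        Opens.isBasis_iff_nbhd.mp (GrModFrac.isBasis_relBasis chart) x.2
      exact ⟨V, hV, e, g, he, hg, hxW, hWU⟩
  obtain ⟨t, ht⟩ := hU.elim_finite_subcover
    (fun x : U => (RelProj.emb q chart (V x) (hV x) ''ᵁ Proj.basicOpen (𝒮.deg (V x) (hV x)) (g x) : Set X))
    (fun x => (RelProj.emb q chart (V x) (hV x) ''ᵁ Proj.basicOpen (𝒮.deg (V x) (hV x)) (g x)).2)
    (fun x hxU => Set.mem_iUnion.mpr ⟨⟨x, hxU⟩, hx ⟨x, hxU⟩⟩)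
  refine ⟨∏ x ∈ t, e x, Finset.prod_pos fun x _ => he x, fun n hn L lam hL L' lam' hL' => ?_⟩
  obtain ⟨φ, hφ⟩ := GrModFrac.exists_relMulHom hX (add_neg_cancel n) hL hL' hL₀
  let φ' : CohB1.tensorPre (L.restrict U.ι) (L'.restrict U.ι) ⟶ CohB1.toPMod (Coh.structureModule (U : Scheme.{u})) :=
    ProjTwist.liftHom (M := CohB1.toPMod (L.restrict U.ι)) (N := CohB1.toPMod (L'.restrict U.ι))
      (T := CohB1.toPMod (Coh.structureModule (U : Scheme.{u})))
      (fun O a b => (U.ι.appIso O.unop).hom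
        (φ.app (op (U.ι ''ᵁ O.unop)) (show (CohB1.tensorPre L L').obj (op (U.ι ''ᵁ O.unop)) from
          (show (CohB1.toPMod L).obj (op (U.ι ''ᵁ O.unop)) from a) ⊗ₜ[X.sheaf.obj.obj (op (U.ι ''ᵁ O.unop))]
            (show (CohB1.toPMod L').obj (op (U.ι ''ᵁ O.unop)) from b))))
      (fun O a a' b => (congrArg _ ((congrArg _ (TensorProduct.add_tmul _ _ _)).trans (map_add (φ.app _).hom _ _))).trans
        (map_add (U.ι.appIso O.unop).hom.hom _ _))
      (fun O c a b => by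
        refine (congrArg _ ((congrArg _ (TensorProduct.smul_tmul' (R := X.sheaf.obj.obj (op (U.ι ''ᵁ O.unop)))
          (show X.sheaf.obj.obj (op (U.ι ''ᵁ O.unop)) from (U.ι.appIso O.unop).inv c) _ _).symm).trans (map_smul (φ.app _).hom _ _))).trans ?_
        refine (map_mul (U.ι.appIso O.unop).hom.hom ((U.ι.appIso O.unop).inv c) _).trans ?_
        exact congrArg (· * _) (ConcreteCategory.congr_hom (U.ι.appIso O.unop).inv_hom_id c))
      (fun O a b b' => (congrArg _ ((congrArg _ (TensorProduct.tmul_add _ _ _)).trans (map_add (φ.app _).hom _ _))).trans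
        (map_add (U.ι.appIso O.unop).hom.hom _ _))
      (fun O c a b => by
        refine (congrArg _ ((congrArg _ (TensorProduct.tmul_smul (R := X.sheaf.obj.obj (op (U.ι ''ᵁ O.unop)))
          (show X.sheaf.obj.obj (op (U.ι ''ᵁ O.unop)) from (U.ι.appIso O.unop).inv c) _ _)).trans (map_smul (φ.app _).hom _ _))).trans ?_
        refine (map_mul (U.ι.appIso O.unop).hom.hom ((U.ι.appIso O.unop).inv c) _).trans ?_
        exact congrArg (· * _) (ConcreteCategory.congr_hom (U.ι.appIso O.unop).inv_hom_id c))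
      (fun {O O'} i a b => by
        have h := PresheafOfModules.naturality_apply φ (U.ι.opensFunctor.map i.unop).op
          ((show (CohB1.toPMod L).obj (op (U.ι ''ᵁ O.unop)) from a) ⊗ₜ[X.sheaf.obj.obj (op (U.ι ''ᵁ O.unop))]
            (show (CohB1.toPMod L').obj (op (U.ι ''ᵁ O.unop)) from b))
        refine (congrArg (U.ι.appIso O'.unop).hom h).trans ?_
        simp only [Scheme.Opens.ι_appIso]
        rfl)
  refine ProjTwist.nonempty_tensorMod_iso_of_unit φ' fun O x hxO => ?_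
  obtain ⟨k, hk, hxk⟩ := Set.mem_iUnion₂.mp (ht x.2)
  obtain ⟨c, rfl⟩ : (e k : ℤ) ∣ n := (Int.natCast_dvd_natCast.mpr (Finset.dvd_prod_of_mem e hk)).trans hn
  obtain ⟨i, j, a, b, hdeg, hab⟩ := GrModFrac.exists_unitFrac (hg k) (-c)
  replace hdeg : (i : ℤ) = j + -((e k : ℤ) * c) := by rw [hdeg]; ring
  let f := RelProj.emb q chart (V k) (hV k)
  let O' : (U : Scheme.{u}).Opens := O ⊓ U.ι ⁻¹ᵁ (f ''ᵁ Proj.basicOpen (𝒮.deg (V k) (hV k)) (g k))
  have hO' : U.ι ''ᵁ O' ≤ f ''ᵁ Proj.basicOpen (𝒮.deg (V k) (hV k)) (g k) := by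
    rintro _ ⟨z, hz, rfl⟩; exact hz.2
  have hy : ∀ z : (f ⁻¹ᵁ (U.ι ''ᵁ O') : (Proj (𝒮.deg (V k) (hV k))).Opens),
      g k ∉ (show ProjectiveSpectrum (𝒮.deg (V k) (hV k)) from z.1).asHomogeneousIdeal := fun z =>
    ((Scheme.Hom.preimage_image_eq f (Proj.basicOpen (𝒮.deg (V k) (hV k)) (g k))).le (hO' z.2) : _)
  obtain ⟨b₀, hb, hgen⟩ := GrModFrac.exists_relMul_unit (add_neg_cancel ((e k : ℤ) * c)) hL hL' hL₀ φ hφ (V k) (hV k)
    (U.ι ''ᵁ O') (hO'.trans (GrModFrac.le_preimage_of_image chart (V k) (hV k) _)) a b hdeg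
    (fun z => (hab z.1 (hy z)).1) (fun z => (hab z.1 (hy z)).2)
  refine ⟨O', inf_le_left, ⟨hxO, hxk⟩, b₀, ?_, fun p => ?_⟩
  · exact (ConcreteCategory.bijective_of_isIso (U.ι.appIso O').hom).comp hb
  · obtain ⟨c', hc'⟩ := hgen p
    refine ⟨(U.ι.appIso O').hom c', ?_⟩
    refine Eq.trans ?_ hc'
    exact congrArg (fun z : X.sheaf.obj.obj (op (U.ι ''ᵁ O')) => z • (show (CohB1.toPMod L').obj (op (U.ι ''ᵁ O')) from b₀))
      (ConcreteCategory.congr_hom (U.ι.appIso O').hom_inv_id c')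

end Groth.Agent.S8340
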