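import Groth.Statements.S8342
import Groth.Agent.GrModFrac.Twist
-- import your own Groth.Agent.* helpers here

set_option autoImplicit false
universe u
open CategoryTheory CategoryTheory.Limits AlgebraicGeometry Opposite TopologicalSpace
open scoped HomogeneousIdeal
noncomputable section
open EGA2

namespace Groth.Agent.S8342

open Groth.Agent

/-- Let 𝒮 be a quasi-coherent positively graded O_Y-algebra generated by 𝒮_1, P = Proj(𝒮), and f a
global section of 𝒮 of degree d > 0. Then the open X_f (chartwise D_+(f|U)) is the set of points of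
P where the global section α_d(f) of the invertible module O_P(d) does not vanish — here: X_f equals
the largest open over which the module map O_P → O_P(d) defined by α_d(f) is an isomorphism; O_P(d)
is given through its chartwise identifications and α_d(f) is pinned as the section reading f|U / 1
on every chart. -/
theorem result {Y P : Scheme.{u}} (𝒮 : RelProj.QCGrAlg Y) (p : P ⟶ Y)
    (chart : ∀ (U : Y.Opens) (hU : IsAffineOpen U), (((p ⁻¹ᵁ U : P.Opens) : Scheme.{u}) ≅ Proj (𝒮.deg U hU)))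
    (hP : RelProj.IsRelProj 𝒮 p chart) (hgen : 𝒮.IsGenDegOne) {d : ℕ} (hd : 0 < d)
    (f : 𝒮.presheaf.obj (op ⊤))
    (hf : ∀ (U : Y.Opens) (hU : IsAffineOpen U), (𝒮.presheaf.map (homOfLE le_top).op).hom f ∈ 𝒮.deg U hU d)
    (Xf : P.Opens)
    (hXf : ∀ (U : Y.Opens) (hU : IsAffineOpen U),
      Xf ⊓ p ⁻¹ᵁ U =
        (p ⁻¹ᵁ U).ι ''ᵁ ((chart U hU).hom ⁻¹ᵁ
          Proj.basicOpen (𝒮.deg U hU) ((𝒮.presheaf.map (homOfLE le_top).op).hom f)))
    (L : P.Modules)
    (lam : ∀ (U : Y.Opens) (hU : IsAffineOpen U),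
      L ⟶ (Scheme.Modules.pushforward (RelProj.emb p chart U hU)).obj (GrTwist.twist (𝒮.deg U hU) (d : ℤ)))
    (hL : RelProj.IsRelTwist 𝒮 p chart (d : ℤ) L lam) (s : Coh.structureModule P ⟶ L)
    (hs : ∀ (U : Y.Opens) (hU : IsAffineOpen U) (y : Proj (𝒮.deg U hU)),
      GrTwist.val (V := RelProj.emb p chart U hU ⁻¹ᵁ ⊤)
        ((lam U hU).app ⊤ (s.app ⊤ (show Γ(Coh.structureModule P, ⊤) from (1 : Γ(P, ⊤))))) ⟨y, Set.mem_univ _⟩ =
        Localization.mk ((𝒮.presheaf.map (homOfLE le_top).op).hom f) 1) :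
    Xf = CohB1.genLocus L s := by
  have hmem := fun U hU => GrModFrac.emb_mem_iff (chart := chart) U hU _ (hXf U hU)
  let σ : Γ(L, ⊤) := s.app ⊤ (show Γ(Coh.structureModule P, ⊤) from (1 : Γ(P, ⊤)))
  have hsapp : ∀ (W : P.Opens) (r : Γ(P, W)),
      s.app W (show Γ(Coh.structureModule P, W) from r) = r • L.presheaf.map (homOfLE (le_top : W ≤ ⊤)).op σ := by
    intro W r
    refine Eq.trans ?_ (congrArg (fun z : Γ(L, W) => r • z)
      (QCohLib.app_map s (le_top : W ≤ ⊤) (show Γ(Coh.structureModule P, ⊤) from (1 : Γ(P, ⊤)))))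
    refine Eq.trans ?_ (Scheme.Modules.Hom.app_smul s r _)
    refine congrArg (s.app W) ?_
    show r = r * P.presheaf.map (homOfLE (le_top : W ≤ ⊤)).op 1
    rw [map_one, mul_one]
  refine le_antisymm (fun x hx => ?_) (sSup_le fun U₀ hU₀ x hx => ?_)
  · obtain ⟨U, hU, hxU, -⟩ := exists_isAffineOpen_mem_and_subset (X := Y) (x := p x) (U := ⊤) trivial
    let V : P.Opens := Xf ⊓ p ⁻¹ᵁ U
    refine (le_sSup ?_ : V ≤ _) ⟨hx, hxU⟩
    show IsIso _
    rw [Scheme.Modules.Hom.isIso_iff_isIso_app]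
    intro O
    rw [ConcreteCategory.isIso_iff_bijective]
    have hW : V.ι ''ᵁ O ≤ V := V.ι_image_le O
    have hb := GrModFrac.bijective_smul_relTwist hL U hU (W := V.ι ''ᵁ O) (hW.trans inf_le_right)
      (L.presheaf.map (homOfLE (le_top : V.ι ''ᵁ O ≤ ⊤)).op σ) (⟨_, hf U hU⟩ : 𝒮.deg U hU d)
      (⟨1, SetLike.GradedOne.one_mem⟩ : 𝒮.deg U hU 0) (by simp)
      (fun y => (hmem U hU y.1).mp (hW y.2).1) (fun y => GrModFrac.one_notMem _ y.1)
      (fun y => (GrModFrac.val_lam_map lam U hU le_top σ y).trans (hs U hU y.1))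
    exact Eq.subst (motive := Function.Bijective) (funext fun r => (hsapp _ r).symm) hb
  · obtain ⟨U, hU, hxU, -⟩ := exists_isAffineOpen_mem_and_subset (X := Y) (x := p x) (U := ⊤) trivial
    obtain ⟨y, rfl⟩ := GrModFrac.mem_range_emb (chart := chart) U hU hxU
    refine (hmem U hU y).mpr fun hfy => ?_
    obtain ⟨l, hl, hly⟩ := GrModFrac.exists_degOne_notMem (hgen U hU) y
    let f' := RelProj.emb p chart U hU
    let O : (↑U₀ : Scheme.{u}).Opens := U₀.ι ⁻¹ᵁ (f' ''ᵁ Proj.basicOpen (𝒮.deg U hU) l)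
    let W : P.Opens := U₀.ι ''ᵁ O
    have hWle : W ≤ f' ''ᵁ Proj.basicOpen (𝒮.deg U hU) l := by
      rintro _ ⟨z, hz, rfl⟩; exact hz
    have hxW : f' y ∈ W := ⟨⟨_, hx⟩, ⟨y, hly, rfl⟩, rfl⟩
    have hW : W ≤ p ⁻¹ᵁ U := hWle.trans (GrModFrac.le_preimage_of_image chart U hU _)
    obtain ⟨σ', hσ'⟩ := (hL.bijective U hU W hW).2 (GrModFrac.twistFrac (f' ⁻¹ᵁ W)
      (⟨l ^ d, by simpa using SetLike.pow_mem_graded d hl⟩ : 𝒮.deg U hU d)
      (⟨1, SetLike.GradedOne.one_mem⟩ : 𝒮.deg U hU 0) (fun z => GrModFrac.one_notMem _ z.1) (by simp))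
    have : IsIso ((Scheme.Modules.restrictFunctor U₀.ι).map s) := hU₀
    obtain ⟨c, hc⟩ := (ConcreteCategory.bijective_of_isIso
      (((Scheme.Modules.restrictFunctor U₀.ι).map s).app O)).2 σ'
    have hc1 : s.app W (show Γ(Coh.structureModule P, W) from c) = σ' := hc
    rw [hsapp W] at hc1
    have h1 := congrArg (fun t => GrTwist.val ((lam U hU).app W t) ⟨y, hxW⟩) hc1
    simp only at h1
    rw [hσ', Scheme.Modules.Hom.app_smul] at h1
    have h2 := (GrModFrac.twist_smul_val (show GrTwist.O (𝒜 := 𝒮.deg U hU) (op (f' ⁻¹ᵁ W)) from f'.app W c)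
      (show GrTwist.sectN (𝒜 := 𝒮.deg U hU) (d : ℤ) (op (f' ⁻¹ᵁ W)) from
        (lam U hU).app W (L.presheaf.map (homOfLE (le_top : W ≤ ⊤)).op σ)) ⟨y, hxW⟩).symm.trans h1
    have h3 := (GrModFrac.val_lam_map lam U hU (le_top : W ≤ ⊤) σ ⟨y, hxW⟩).trans (hs U hU y)
    have h4 := (congrArg (HomogeneousLocalization.val ((show GrTwist.O (𝒜 := 𝒮.deg U hU) (op (f' ⁻¹ᵁ W)) from
      f'.app W c).1 ⟨y, hxW⟩) * ·) h3).symm.trans h2
    clear h2
    revert h4
    generalize HomogeneousLocalization.val ((show GrTwist.O (𝒜 := 𝒮.deg U hU) (op (f' ⁻¹ᵁ W)) from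
      f'.app W c).1 ⟨y, hxW⟩) = v
    induction v using Localization.induction_on with | _ q => ?_
    intro h2
    change Localization.mk q.1 q.2 * Localization.mk _ 1 = Localization.mk (l ^ d) ⟨1, _⟩ at h2
    rw [Localization.mk_mul, Localization.mk_eq_mk_iff, Localization.r_iff_exists] at h2
    obtain ⟨w, hw⟩ := h2
    simp only [Submonoid.coe_mul, mul_one, OneMemClass.coe_one, one_mul] at hw
    let yy : ProjectiveSpectrum (𝒮.deg U hU) := y
    have hmem' : (w : 𝒮.presheaf.obj (op U)) * ((q.2 : 𝒮.presheaf.obj (op U)) * l ^ d) ∈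
        yy.asHomogeneousIdeal.toIdeal := by
      rw [← hw]
      exact Ideal.mul_mem_left _ _ (Ideal.mul_mem_left _ _ hfy)
    rcases yy.isPrime.mem_or_mem hmem' with h | h
    · exact w.2 h
    rcases yy.isPrime.mem_or_mem h with h | h
    · exact q.2.2 h
    · exact hly (yy.isPrime.mem_of_pow_mem d h)

end Groth.Agent.S8342
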