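import Groth.Statements.S8343
import Groth.Agent.GrModFrac.Twist
import Groth.Agent.RelProjBasic.Local
-- import your own Groth.Agent.* helpers here

set_option autoImplicit false
universe u
open CategoryTheory CategoryTheory.Limits AlgebraicGeometry Opposite TopologicalSpace
open scoped HomogeneousIdeal
noncomputable section
open EGA2

namespace Groth.Agent.S8343

open Groth.Agent

/-- For a graded homomorphism φ : 𝒜 → ℬ of quasi-coherent positively graded O_Y-algebras whose induced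
morphism h : Proj(ℬ) → Proj(𝒜) is everywhere defined (irrelevant ideals generated by the image,
affine-locally), and every integer n, there is exactly one module map O_{Proj(𝒜)}(n) →
h_*(O_{Proj(ℬ)}(n)) which over every affine open U of Y is, valuewise under the chartwise
identifications of both twisting sheaves, the comparison a/f ↦ φ(a)/φ(f) of the twisting sheaves of
𝒜(U) and ℬ(U). (The published statement works over the open where the induced morphism is defined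
and phrases the map as h^*(O(n)) → O(n); the hypothesis on irrelevant ideals used here makes that
open everything.) -/
theorem result {Y PA PB : Scheme.{u}} {𝒜 ℬ : RelProj.QCGrAlg Y}
    (φ : 𝒜.toQCAlg ⟶ ℬ.toQCAlg) (hφ : RelProj.IsGradedHom φ)
    (hirr : ∀ (U : Y.Opens) (hU : IsAffineOpen U),
      (ℬ.deg U hU)₊ ≤ ((𝒜.deg U hU)₊).map (RelProj.gradedHomAt φ hφ U hU))
    (pA : PA ⟶ Y) (pB : PB ⟶ Y)
    (chartA : ∀ (U : Y.Opens) (hU : IsAffineOpen U), (((pA ⁻¹ᵁ U : PA.Opens) : Scheme.{u}) ≅ Proj (𝒜.deg U hU)))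
    (chartB : ∀ (U : Y.Opens) (hU : IsAffineOpen U), (((pB ⁻¹ᵁ U : PB.Opens) : Scheme.{u}) ≅ Proj (ℬ.deg U hU)))
    (hA : RelProj.IsRelProj 𝒜 pA chartA) (hB : RelProj.IsRelProj ℬ pB chartB)
    (h : PB ⟶ PA) (hh : RelProj.IsRelProjMap φ hφ hirr chartA chartB h) (n : ℤ)
    (LA : PA.Modules)
    (lamA : ∀ (U : Y.Opens) (hU : IsAffineOpen U),
      LA ⟶ (Scheme.Modules.pushforward (RelProj.emb pA chartA U hU)).obj (GrTwist.twist (𝒜.deg U hU) n))
    (hLA : RelProj.IsRelTwist 𝒜 pA chartA n LA lamA)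
    (LB : PB.Modules)
    (lamB : ∀ (U : Y.Opens) (hU : IsAffineOpen U),
      LB ⟶ (Scheme.Modules.pushforward (RelProj.emb pB chartB U hU)).obj (GrTwist.twist (ℬ.deg U hU) n))
    (hLB : RelProj.IsRelTwist ℬ pB chartB n LB lamB) :
    ∃! θ : LA ⟶ (Scheme.Modules.pushforward h).obj LB,
      ∀ (U : Y.Opens) (hU : IsAffineOpen U) (W : PA.Opens) (s : Γ(LA, W))
        (y : ProjectiveSpectrum (ℬ.deg U hU))
        (hy : (RelProj.emb pB chartB U hU).base y ∈ h ⁻¹ᵁ W)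
        (hy' : (RelProj.emb pA chartA U hU).base
          (ProjectiveSpectrum.comap (RelProj.gradedHomAt φ hφ U hU) (hirr U hU) y) ∈ W),
        GrTwist.val (V := RelProj.emb pB chartB U hU ⁻¹ᵁ (h ⁻¹ᵁ W)) ((lamB U hU).app (h ⁻¹ᵁ W) (θ.app W s)) ⟨y, hy⟩ =
          GrTwist.locMap (RelProj.gradedHomAt φ hφ U hU) (hirr U hU) y
            (GrTwist.val (V := RelProj.emb pA chartA U hU ⁻¹ᵁ W) ((lamA U hU).app W s) ⟨_, hy'⟩) := by
  have hpB : h ≫ pA = pB := RelProjBasic.comp_eq hA hB hh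
  let ψ := fun (U : Y.Opens) (hU : IsAffineOpen U) => RelProj.gradedHomAt φ hφ U hU
  let eA := fun (U : Y.Opens) (hU : IsAffineOpen U) => RelProj.emb pA chartA U hU
  let eB := fun (U : Y.Opens) (hU : IsAffineOpen U) => RelProj.emb pB chartB U hU
  have he : ∀ (U : Y.Opens) (hU : IsAffineOpen U),
      Proj.map (ψ U hU) (hirr U hU) ≫ eA U hU = eB U hU ≫ h := by
    intro U hU
    show _ ≫ (chartA U hU).inv ≫ (pA ⁻¹ᵁ U).ι = ((chartB U hU).inv ≫ (pB ⁻¹ᵁ U).ι) ≫ h
    rw [Category.assoc, hh U hU, Iso.inv_hom_id_assoc]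
  let lam' : ∀ U : Y.affineOpens, (Scheme.Modules.pushforward h).obj LB ⟶
      (Scheme.Modules.pushforward h).obj ((Scheme.Modules.pushforward (eB U.1 U.2)).obj (GrTwist.twist (ℬ.deg U.1 U.2) n)) :=
    fun U => (Scheme.Modules.pushforward h).map (lamB U.1 U.2)
  let β : ∀ U : Y.affineOpens, LA ⟶
      (Scheme.Modules.pushforward h).obj ((Scheme.Modules.pushforward (eB U.1 U.2)).obj (GrTwist.twist (ℬ.deg U.1 U.2) n)) :=
    fun U => lamA U.1 U.2 ≫ (Scheme.Modules.pushforward (eA U.1 U.2)).map (GrTwist.comap (ψ U.1 U.2) (hirr U.1 U.2) n) ≫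
      (Scheme.Modules.pushforwardComp (Proj.map (ψ U.1 U.2) (hirr U.1 U.2)) (eA U.1 U.2)).hom.app _ ≫
      (Scheme.Modules.pushforwardCongr (he U.1 U.2)).hom.app _ ≫
      (Scheme.Modules.pushforwardComp (eB U.1 U.2) h).inv.app _
  have hmem : ∀ (U : Y.Opens) (hU : IsAffineOpen U) (W : PA.Opens) (y : Proj (ℬ.deg U hU)),
      eB U hU y ∈ h ⁻¹ᵁ W → eA U hU (Proj.map (ψ U hU) (hirr U hU) y) ∈ W := by
    intro U hU W y hy
    rw [← Scheme.Hom.comp_apply, he U hU]
    exact hy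
  have hβ : ∀ (U : Y.affineOpens) (W : PA.Opens) (s : Γ(LA, W)) (y : ProjectiveSpectrum (ℬ.deg U.1 U.2))
      (hy : (eB U.1 U.2).base y ∈ h ⁻¹ᵁ W),
      GrTwist.val (V := eB U.1 U.2 ⁻¹ᵁ (h ⁻¹ᵁ W)) ((β U).app W s) ⟨y, hy⟩ =
        GrTwist.locMap (ψ U.1 U.2) (hirr U.1 U.2) y
          (GrTwist.val (V := eA U.1 U.2 ⁻¹ᵁ W) ((lamA U.1 U.2).app W s) ⟨_, hmem U.1 U.2 W y hy⟩) :=
    fun U W s y hy => rfl
  have hiff : ∀ θ : LA ⟶ (Scheme.Modules.pushforward h).obj LB, (∀ U, θ ≫ lam' U = β U) ↔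
      ∀ (U : Y.Opens) (hU : IsAffineOpen U) (W : PA.Opens) (s : Γ(LA, W))
        (y : ProjectiveSpectrum (ℬ.deg U hU))
        (hy : (RelProj.emb pB chartB U hU).base y ∈ h ⁻¹ᵁ W)
        (hy' : (RelProj.emb pA chartA U hU).base
          (ProjectiveSpectrum.comap (RelProj.gradedHomAt φ hφ U hU) (hirr U hU) y) ∈ W),
        GrTwist.val (V := RelProj.emb pB chartB U hU ⁻¹ᵁ (h ⁻¹ᵁ W)) ((lamB U hU).app (h ⁻¹ᵁ W) (θ.app W s)) ⟨y, hy⟩ =
          GrTwist.locMap (RelProj.gradedHomAt φ hφ U hU) (hirr U hU) y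
            (GrTwist.val (V := RelProj.emb pA chartA U hU ⁻¹ᵁ W) ((lamA U hU).app W s) ⟨_, hy'⟩) := by
    intro θ
    constructor
    · intro hθ U hU W s y hy hy'
      have h1 := congrArg (fun g : LA ⟶ _ => GrTwist.val (V := eB U hU ⁻¹ᵁ (h ⁻¹ᵁ W)) (g.app W s) ⟨y, hy⟩) (hθ ⟨U, hU⟩)
      exact h1.trans (hβ ⟨U, hU⟩ W s y hy)
    · intro hθ U
      refine Scheme.Modules.hom_ext _ _ fun W => ?_
      ext s
      refine GrModFrac.twistSect_ext fun y => ?_
      exact (hθ U.1 U.2 W s y.1 y.2 (hmem U.1 U.2 W y.1 y.2)).trans (hβ U W s y.1 y.2).symm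
  have hmain : ∃! θ : LA ⟶ (Scheme.Modules.pushforward h).obj LB, ∀ U, θ ≫ lam' U = β U := by
    refine GrModFrac.existsUnique_hom_of_local (fun U : Y.affineOpens => pA ⁻¹ᵁ U.1) lam' β ?_ ?_ ?_ ?_
    · intro x
      obtain ⟨U, hU, hxU, -⟩ := exists_isAffineOpen_mem_and_subset (X := Y) (x := pA x) (U := ⊤) trivial
      exact ⟨⟨U, hU⟩, hxU⟩
    · intro U W hW
      refine hLB.bijective U.1 U.2 (h ⁻¹ᵁ W) fun z hz => ?_
      show pB z ∈ U.1
      rw [← hpB]
      exact hW hz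
    · intro U W
      refine GrModFrac.map_injective_of_eq (GrTwist.twist (ℬ.deg U.1 U.2) n) ?_ _
      refine le_antisymm (fun z hz => hz.1) fun z hz => ⟨hz, ?_⟩
      show pA (h (eB U.1 U.2 z)) ∈ U.1
      rw [← Scheme.Hom.comp_apply, hpB]
      exact ((chartB U.1 U.2).inv z).2
    · intro i j x hxi hxj
      obtain ⟨a, b, hab, hx⟩ := exists_basicOpen_le_affine_inter i.2 j.2 (pA x) ⟨hxi, hxj⟩
      have step : ∀ (U : Y.Opens) (hU : IsAffineOpen U) (r : Γ(Y, U)) (W : PA.Opens) (s : Γ(LA, W))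
          (g : Γ((Scheme.Modules.pushforward h).obj LB, W)),
          (lam' ⟨U, hU⟩).app W g = (β ⟨U, hU⟩).app W s →
            (lam' ⟨Y.basicOpen r, hU.basicOpen r⟩).app W g = (β ⟨Y.basicOpen r, hU.basicOpen r⟩).app W s := by
        intro U hU r W s g hg
        refine GrModFrac.twistSect_ext fun y => ?_
        have hy₁ := GrModFrac.comap_emb_mem hB U hU r (W := h ⁻¹ᵁ W) y.1 y.2
        have hx₂ := hmem (Y.basicOpen r) (hU.basicOpen r) W y.1 y.2
        have hy₂ := GrModFrac.comap_emb_mem hA U hU r (W := W) _ hx₂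
        refine (hLB.compat U hU r (h ⁻¹ᵁ W) g y.1 y.2 hy₁).trans ?_
        refine (congrArg (fun z => GrTwist.locMap (ℬ.res hU (hU.basicOpen r) (Y.basicOpen_le r))
          (ℬ.irrelevant_le_map U hU r) y.1 (GrTwist.val (V := eB U hU ⁻¹ᵁ (h ⁻¹ᵁ W)) z ⟨_, hy₁⟩)) hg).trans ?_
        refine (congrArg (GrTwist.locMap (ℬ.res hU (hU.basicOpen r) (Y.basicOpen_le r))
          (ℬ.irrelevant_le_map U hU r) y.1) (hβ ⟨U, hU⟩ W s _ hy₁)).trans ?_
        refine Eq.trans ?_ ((hβ ⟨Y.basicOpen r, hU.basicOpen r⟩ W s y.1 y.2).trans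
          (congrArg (GrTwist.locMap (ψ (Y.basicOpen r) (hU.basicOpen r)) (hirr _ _) y.1)
            (hLA.compat U hU r W s _ hx₂ hy₂))).symm
        let t : GrTwist.sectN (𝒜 := 𝒜.deg U hU) n (op (eA U hU ⁻¹ᵁ W)) := (lamA U hU).app W s
        have hx₁ := hmem U hU W _ hy₁
        have nat : ∀ c : 𝒜.presheaf.obj (op U),
            ℬ.res hU (hU.basicOpen r) (Y.basicOpen_le r) (ψ U hU c) =
              ψ (Y.basicOpen r) (hU.basicOpen r) (𝒜.res hU (hU.basicOpen r) (Y.basicOpen_le r) c) := fun c =>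
          (NatTrans.naturality_apply φ.hom (homOfLE (Y.basicOpen_le r)).op c).symm
        obtain ⟨V, hV, ι, di, dj, a', b', hb', -, hw⟩ := t.2 ⟨_, hx₁⟩
        have hpt : ProjectiveSpectrum.comap (ψ U hU) (hirr U hU) (ProjectiveSpectrum.comap
              (ℬ.res hU (hU.basicOpen r) (Y.basicOpen_le r)) (ℬ.irrelevant_le_map U hU r) y.1) =
            ProjectiveSpectrum.comap (𝒜.res hU (hU.basicOpen r) (Y.basicOpen_le r)) (𝒜.irrelevant_le_map U hU r)
              (ProjectiveSpectrum.comap (ψ (Y.basicOpen r) (hU.basicOpen r)) (hirr _ _) y.1) := by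
          apply ProjectiveSpectrum.ext
          apply HomogeneousIdeal.ext
          ext c
          show ℬ.res hU (hU.basicOpen r) (Y.basicOpen_le r) (ψ U hU c) ∈ y.1.asHomogeneousIdeal ↔
            ψ (Y.basicOpen r) (hU.basicOpen r) (𝒜.res hU (hU.basicOpen r) (Y.basicOpen_le r) c) ∈ y.1.asHomogeneousIdeal
          rw [nat]
        refine (congrArg (fun z => GrTwist.locMap (ℬ.res hU (hU.basicOpen r) (Y.basicOpen_le r))
          (ℬ.irrelevant_le_map U hU r) y.1 (GrTwist.locMap (ψ U hU) (hirr U hU) _ z)) (hw ⟨_, hV⟩)).trans ?_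
        refine Eq.trans ?_ (congrArg (fun z => GrTwist.locMap (ψ (Y.basicOpen r) (hU.basicOpen r)) (hirr _ _) y.1
          (GrTwist.locMap (𝒜.res hU (hU.basicOpen r) (Y.basicOpen_le r)) (𝒜.irrelevant_le_map U hU r) _ z))
            (hw ⟨_, hpt ▸ hV⟩)).symm
        simp only [GrTwist.locMap_mk]
        refine (congrArg (GrTwist.locMap (ℬ.res hU (hU.basicOpen r) (Y.basicOpen_le r))
          (ℬ.irrelevant_le_map U hU r) y.1) (GrTwist.locMap_mk (ψ U hU) (hirr U hU) _ _ _)).trans ?_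
        refine (GrTwist.locMap_mk _ _ _ _ _).trans ?_
        congr 1
        · exact nat _
        · exact Subtype.ext (nat _)
      refine ⟨⟨Y.basicOpen a, i.2.basicOpen a⟩, hx, fun W _ s g => ⟨step i.1 i.2 a W s g, fun hh' => ?_⟩⟩
      have h2 := step j.1 j.2 b W s g hh'
      have key : ∀ (V : Y.Opens) (hV : IsAffineOpen V), V = Y.basicOpen b →
          (lam' ⟨V, hV⟩).app W g = (β ⟨V, hV⟩).app W s := by
        rintro V hV rfl
        exact h2
      exact key _ _ hab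
  obtain ⟨θ, h1, h2⟩ := hmain
  exact ⟨θ, (hiff θ).mp h1, fun θ' h' => h2 θ' ((hiff θ').mpr h')⟩

end Groth.Agent.S8343
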