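import Groth.Statements.S8348
import Mathlib

set_option autoImplicit false
universe v u
open CategoryTheory CategoryTheory.Limits
open HomAlg3

namespace Groth.Agent.S8348

/-- Let C be an abelian category and Q a cochain complex of objects of C in degrees 0, 1, 2, ... such
that every Q^i is injective, every homology object H^i(Q) with i ≥ 1 is zero, and every inclusion of
the cycles Z^i(Q) into Q^i (i ≥ 0) is a split monomorphism. Then Q is an injective object of the
category of cochain complexes of C indexed by the natural numbers. (The published statement is for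
the narrower class of complexes with Z^i(Q) = B^i(Q) for every i ≥ 0, which in degree 0, where there
is no incoming differential, forces Z^0(Q) = 0; this row allows a nonzero Z^0(Q), so that it pairs
with the embedding of an arbitrary complex into such a Q. Such a Q is the direct sum of Z^0(Q)
placed in degree 0 and of the two-term complexes with Z^{i+1}(Q) in degrees i and i+1 and the
identity as differential, and the published argument carries over with Z^i(Q) in place of B^i(Q) as
the first summand of Q^i.) -/
theorem result {C : Type u} [Category.{v} C] [Abelian C]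
    (Q : CochainComplex C ℕ) (hinj : ∀ i : ℕ, Injective (Q.X i)) (hac : ∀ i : ℕ, IsZero (Q.homology (i + 1)))
    (hsplit : ∀ i : ℕ, IsSplitMono (Q.iCycles i)) : Injective Q := by
  have hret : ∀ i, ∃ r : Q.X i ⟶ Q.cycles i, Q.iCycles i ≫ r = 𝟙 _ := fun i =>
    ⟨_, (hsplit i).exists_splitMono.some.id⟩
  choose r hr using hret
  have hZ : ∀ i, Injective (Q.cycles i) := fun i =>
    (⟨Q.iCycles i, r i, hr i⟩ : Retract (Q.cycles i) (Q.X i)).injective
  have hτ : ∀ i, Epi (Q.toCycles i (i + 1)) := fun i => by
    exact Preadditive.epi_of_isZero_cokernel' _ (Q.homologyIsCokernel i (i + 1) (by simp)) (hac i)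
  -- the kernel of `toCycles`
  have hker : ∀ (i : ℕ) {W : C} (k : W ⟶ Q.X i), k ≫ Q.toCycles i (i + 1) = 0 → k ≫ (𝟙 _ - r i ≫ Q.iCycles i) = 0 := by
    intro i W k hk
    have hd : k ≫ Q.d i (i + 1) = 0 := by rw [← Q.toCycles_i, ← Category.assoc, hk, zero_comp]
    rw [← Q.liftCycles_i k (i + 1) (by simp) hd, Category.assoc, Preadditive.comp_sub, Category.comp_id,
      reassoc_of% (hr i), sub_self, comp_zero]
  have hs : ∀ i, ∃ s : Q.cycles (i + 1) ⟶ Q.X i, Q.toCycles i (i + 1) ≫ s = 𝟙 _ - r i ≫ Q.iCycles i := by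
    intro i
    haveI := hτ i
    exact ⟨_, Cofork.IsColimit.π_desc' (Abelian.epiIsCokernelOfKernel _ (kernelIsKernel (Q.toCycles i (i + 1))))
      (𝟙 _ - r i ≫ Q.iCycles i) (by simpa using hker i _ (kernel.condition _))⟩
  choose s hs using hs
  have hdr : ∀ i, Q.d i (i + 1) ≫ r (i + 1) = Q.toCycles i (i + 1) := fun i => by
    rw [← Q.toCycles_i, Category.assoc, hr, Category.comp_id]
  have hsd : ∀ i, s i ≫ Q.d i (i + 1) = Q.iCycles (i + 1) := fun i => by
    haveI := hτ i
    rw [← cancel_epi (Q.toCycles i (i + 1)), reassoc_of% (hs i), Q.toCycles_i, Preadditive.sub_comp, Category.id_comp,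
      Category.assoc, Q.iCycles_d, comp_zero, sub_zero]
  refine ⟨fun {A B} g f _ => ?_⟩
  have hψ : ∀ i, ∃ ψ : B.X i ⟶ Q.cycles i, f.f i ≫ ψ = g.f i ≫ r i := fun i =>
    haveI := hZ i
    ⟨Injective.factorThru (g.f i ≫ r i) (f.f i), Injective.comp_factorThru _ _⟩
  choose ψ hψ using hψ
  let h : B ⟶ Q :=
    { f := fun i => ψ i ≫ Q.iCycles i + B.d i (i + 1) ≫ ψ (i + 1) ≫ s i
      comm' := fun i j hij => by
        obtain rfl : i + 1 = j := hij
        simp only [Preadditive.add_comp, Category.assoc, Q.iCycles_d, comp_zero, zero_add, hsd, Preadditive.comp_add,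
          HomologicalComplex.d_comp_d_assoc, zero_comp, add_zero] }
  refine ⟨h, ?_⟩
  ext i
  show f.f i ≫ (ψ i ≫ Q.iCycles i + B.d i (i + 1) ≫ ψ (i + 1) ≫ s i) = g.f i
  rw [Preadditive.comp_add, reassoc_of% (hψ i), f.comm_assoc i (i + 1), reassoc_of% (hψ (i + 1)),
    ← g.comm_assoc i (i + 1), reassoc_of% (hdr i), hs, Preadditive.comp_sub, Category.comp_id]
  abel

end Groth.Agent.S8348
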