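import Groth.Statements.S8349
import Mathlib

set_option autoImplicit false
universe v u
open CategoryTheory CategoryTheory.Limits
open HomAlg3

namespace Groth.Agent.S8349

/-- Let C be an abelian category in which every object embeds in an injective object, and let A be a
cochain complex of objects of C in degrees 0, 1, 2, .... Then there are a cochain complex Q, with
every Q^i injective, H^i(Q) = 0 for every i ≥ 1 and every cycle inclusion Z^i(Q) ⟶ Q^i (i ≥ 0) a
split monomorphism, and a monomorphism of complexes A ⟶ Q. (The published statement asks Z^i(Q) =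
B^i(Q) for every i ≥ 0; in degree 0, where there is no incoming differential, this makes Z^0(Q) = 0,
and then no complex with nonzero degree-0 cycles, for instance a nonzero object placed in degree 0,
embeds in such a Q, because the degree-0 component of a chain map into Q factors through Z^0(Q).
This row asks vanishing homology in positive degrees only; the published construction, which embeds
each A^i in an injective I^i and takes Q^i = I^i ⊕ I^{i+1}, proves that version once an injective
I^0 containing A^0 is used in degree 0 as well.) -/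
theorem result {C : Type u} [Category.{v} C] [Abelian C]
    [EnoughInjectives C] (A : CochainComplex C ℕ) :
    ∃ (Q : CochainComplex C ℕ) (f : A ⟶ Q), Mono f ∧ (∀ i : ℕ, Injective (Q.X i)) ∧
      (∀ i : ℕ, IsZero (Q.homology (i + 1))) ∧ ∀ i : ℕ, IsSplitMono (Q.iCycles i) := by
  let J : ℕ → C := fun i => Injective.under (A.X i)
  let d : ∀ i, (J i ⊞ J (i + 1)) ⟶ (J (i + 1) ⊞ J (i + 1 + 1)) := fun i => biprod.snd ≫ biprod.inl
  let Q : CochainComplex C ℕ := CochainComplex.of (fun i => J i ⊞ J (i + 1)) d (fun i => by simp [d])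
  have hd : ∀ i, Q.d i (i + 1) = biprod.snd ≫ biprod.inl := fun i => by
    simp [Q, d, J]
  let f : A ⟶ Q :=
    { f := fun i => biprod.lift (Injective.ι (A.X i)) (A.d i (i + 1) ≫ Injective.ι (A.X (i + 1)))
      comm' := by
        rintro i j (rfl : i + 1 = j)
        rw [hd]
        apply biprod.hom_ext <;> simp [Q] }
  have hz : ∀ i, Q.iCycles i ≫ (biprod.snd : J i ⊞ J (i + 1) ⟶ _) = 0 := fun i => by
    have := Q.iCycles_d i (i + 1)
    rw [hd] at this
    have := congrArg (fun t => t ≫ biprod.fst) this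
    simpa using this
  have hinl : ∀ i, (biprod.inl : J i ⟶ J i ⊞ J (i + 1)) ≫ Q.d i (i + 1) = 0 := fun i => by
    rw [hd]; exact (biprod.inl_snd_assoc _).trans zero_comp
  have hcyc : ∀ i, Q.iCycles i ≫ (biprod.fst : J i ⊞ J (i + 1) ⟶ _) ≫ biprod.inl = Q.iCycles i := fun i => by
    apply biprod.hom_ext
    · simp
    · simp [hz i]
  refine ⟨Q, f, ?_, fun i => ?_, fun i => ?_, fun i => ?_⟩
  · have : ∀ i, Mono (f.f i) := fun i =>
      mono_of_mono_fac (show f.f i ≫ (biprod.fst : J i ⊞ J (i + 1) ⟶ _) = Injective.ι (A.X i) from biprod.lift_fst _ _)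
    exact HomologicalComplex.mono_of_mono_f _ inferInstance
  · exact inferInstanceAs (Injective (J i ⊞ J (i + 1)))
  · rw [← HomologicalComplex.exactAt_iff_isZero_homology, HomologicalComplex.exactAt_iff' _ i (i + 1) (i + 1 + 1) (by simp) (by simp)]
    refine ShortComplex.exact_iff_exact_up_to_refinements _ |>.2 fun T x hx => ?_
    obtain ⟨x, rfl⟩ : ∃ y : T ⟶ J (i + 1) ⊞ J (i + 1 + 1), y = x := ⟨x, rfl⟩
    refine ⟨T, 𝟙 T, inferInstance, x ≫ biprod.fst ≫ biprod.inr, ?_⟩
    have hx' : x ≫ (biprod.snd : J (i+1) ⊞ J (i + 1 + 1) ⟶ _) = 0 := by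
      have hx2 : x ≫ Q.d (i+1) (i+1+1) = 0 := hx
      rw [hd] at hx2
      have := congrArg (fun t => t ≫ biprod.fst) hx2
      simpa using this
    show 𝟙 T ≫ x = (x ≫ biprod.fst ≫ biprod.inr) ≫ Q.d i (i + 1)
    rw [hd]
    show 𝟙 T ≫ x = (x ≫ biprod.fst ≫ biprod.inr) ≫ (biprod.snd : J i ⊞ J (i + 1) ⟶ _) ≫ biprod.inl
    apply biprod.hom_ext
    · simp
    · simp [hx']
  · exact ⟨⟨⟨Q.liftCycles (biprod.fst ≫ biprod.inl) (i + 1) (by simp) (by rw [Category.assoc]; exact (congrArg (_ ≫ ·) (hinl i)).trans comp_zero),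
      by rw [← cancel_mono (Q.iCycles i), Category.assoc, HomologicalComplex.liftCycles_i, Category.id_comp]; exact hcyc i⟩⟩⟩

end Groth.Agent.S8349
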