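import Groth.Statements.S8352
import Mathlib
-- import your own Groth.Agent.* helpers here

set_option autoImplicit false
universe u
open CategoryTheory CategoryTheory.Limits Opposite
open HomAlg3

namespace Groth.Agent.S8352

open CategoryTheory Opposite CategoryTheory.Limits

theorem exists_chain {α : ℕ → Type*} (Rel : ∀ n, α n → α (n + 1) → Prop) (x₀ : α 0)
    (h : ∀ n x, ∃ y, Rel n x y) : ∃ f : ∀ n, α n, f 0 = x₀ ∧ ∀ n, Rel n (f n) (f (n + 1)) := by
  choose g hg using h
  exact ⟨fun n => Nat.rec x₀ (fun k x => g k x) n, rfl, fun n => hg n _⟩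

theorem map_map (F : ℕᵒᵖ ⥤ AddCommGrpCat.{u}) {i j k : ℕ} (h : i ≤ j)
    (h' : j ≤ k) (x : F.obj (op k)) :
    F.map (homOfLE h).op (F.map (homOfLE h').op x) = F.map (homOfLE (h.trans h')).op x := by
  rw [← CategoryTheory.comp_apply, ← Functor.map_comp]
  rfl

theorem range_proj (F : ℕᵒᵖ ⥤ AddCommGrpCat.{u})
    (hF : (F ⋙ forget AddCommGrpCat).IsMittagLeffler) (p : ℕ) (x : F.obj (op p)) :
    x ∈ (limit.π F (op p)).hom.range ↔
      ∀ k (hk : p ≤ k), x ∈ (F.map (homOfLE hk).op).hom.range := by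
  constructor
  · rintro ⟨z, rfl⟩ k hk
    exact ⟨limit.π F (op k) z, congr($(limit.w F (homOfLE hk).op) z)⟩
  intro hx
  -- stable images
  have hstep : ∀ n (y : F.obj (op (p + n))),
      (∀ k (hk : p + n ≤ k), ∃ z, F.map (homOfLE hk).op z = y) →
      ∃ y' : F.obj (op (p + (n + 1))),
        (∀ k (hk : p + (n + 1) ≤ k), ∃ z, F.map (homOfLE hk).op z = y') ∧
        F.map (homOfLE (by omega : p + n ≤ p + (n + 1))).op y' = y := by
    intro n y hy
    obtain ⟨⟨j⟩, f, hf⟩ := hF (op (p + (n + 1)))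
    have hj : p + (n + 1) ≤ j := leOfHom f.unop
    obtain ⟨z, hz⟩ := hy j (by omega)
    refine ⟨F.map (homOfLE hj).op z, fun k hk => ?_, ?_⟩
    · obtain ⟨z', hz'⟩ := hf (homOfLE hk).op ⟨z, rfl⟩
      exact ⟨z', hz'⟩
    · rw [map_map]; exact hz
  obtain ⟨y, hy0, hy⟩ := exists_chain
    (α := fun n => {y : F.obj (op (p + n)) // ∀ k (hk : p + n ≤ k), ∃ z, F.map (homOfLE hk).op z = y})
    (fun n y z => F.map (homOfLE (by omega : p + n ≤ p + (n + 1))).op z.1 = y.1)
    ⟨x, fun k hk => hx k hk⟩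
    (fun n y => by
      obtain ⟨y', h1, h2⟩ := hstep n y.1 y.2
      exact ⟨⟨y', h1⟩, h2⟩)
  have hb : ∀ m n (h : m ≤ n), F.map (homOfLE (Nat.add_le_add_left h p)).op (y n).1 = (y m).1 := by
    intro m n h
    induction n, h using Nat.le_induction with
    | base =>
      rw [show (homOfLE (Nat.add_le_add_left (le_refl m) p)).op = 𝟙 _ from rfl, F.map_id]
      rfl
    | succ n hmn ih =>
      rw [← ih, ← map_map F (Nat.add_le_add_left hmn p) (Nat.le_succ (p + n))]
      congr 1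
      exact hy n
  let sect : (F ⋙ forget AddCommGrpCat).sections :=
    ⟨fun i => F.map (homOfLE (Nat.le_add_left i.unop p)).op (y i.unop).1, fun {i j} f => by
      obtain ⟨i⟩ := i
      obtain ⟨j⟩ := j
      have hle : j ≤ i := leOfHom f.unop
      show F.map f (F.map _ (y i).1) = F.map _ (y j).1
      rw [show f = (homOfLE hle).op from rfl, map_map, ← hb j i hle, map_map]⟩
  let hlim := isLimitOfPreserves (forget AddCommGrpCat) (limit.isLimit F)
  refine ⟨(Types.isLimitEquivSections hlim).symm sect, ?_⟩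
  show limit.π F (op p) ((Types.isLimitEquivSections hlim).symm sect) = x
  erw [Types.isLimitEquivSections_symm_apply hlim sect (op p)]
  show F.map _ (y p).1 = x
  rw [← show (y 0).1 = x from congrArg Subtype.val hy0, ← hb 0 p (Nat.zero_le p)]

/-- Category of abelian groups, system indexed by the natural numbers: Let (A_k) be an inverse system of
abelian groups satisfying the Mittag-Leffler condition, A = lim A_k with projections π_p : A ⟶ A_p.
Filter A and each A_k by the kernels of the maps to A_{p-1} (with A_{-1} = 0); the graded piece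
gr^p(A) is identified with Im(π_p) ∩ Ker(A_p ⟶ A_{p-1}) and gr^p(A_k), k ≥ p, with Im(A_k ⟶ A_p) ∩
Ker(A_p ⟶ A_{p-1}), a decreasing family of subgroups of A_p. The statement gr^p(A) ≅ lim_k gr^p(A_k)
then reads: Im(π_0) = ⋂_k Im(A_k ⟶ A_0), and for every p, Im(π_{p+1}) ∩ Ker(A_{p+1} ⟶ A_p) = ⋂_{k ≥
p+1} (Im(A_k ⟶ A_{p+1}) ∩ Ker(A_{p+1} ⟶ A_p)). -/
theorem result (F : ℕᵒᵖ ⥤ AddCommGrpCat.{u})
    (hF : (F ⋙ forget AddCommGrpCat).IsMittagLeffler) :
    (limit.π F (op 0)).hom.range = ⨅ k : ℕ, (F.map (homOfLE (Nat.zero_le k)).op).hom.range ∧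
      ∀ p : ℕ, (limit.π F (op (p + 1))).hom.range ⊓ (F.map (homOfLE (Nat.le_succ p)).op).hom.ker =
        ⨅ (k : ℕ) (hk : p + 1 ≤ k),
          (F.map (homOfLE hk).op).hom.range ⊓ (F.map (homOfLE (Nat.le_succ p)).op).hom.ker := by
  refine ⟨?_, fun p => ?_⟩
  · ext x
    rw [range_proj F hF 0 x, AddSubgroup.mem_iInf]
    exact ⟨fun h k => h k (Nat.zero_le k), fun h k _ => h k⟩
  · ext x
    rw [AddSubgroup.mem_inf, range_proj F hF (p + 1) x]
    simp only [AddSubgroup.mem_iInf, AddSubgroup.mem_inf]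
    exact ⟨fun h k hk => ⟨h.1 k hk, h.2⟩, fun h => ⟨fun k hk => (h k hk).1, (h _ le_rfl).2⟩⟩

end Groth.Agent.S8352
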