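import Mathlib
-- import your own Groth.Agent.* helpers here

set_option autoImplicit false
universe u

namespace Groth.Agent.S8353

theorem pow_le_filtration {S : Type u} [CommRing S] (J : Ideal S) {M : Type u} [AddCommGroup M]
    [Module S M] (F : ℤ → Submodule S M) (hJ : ∀ p : ℤ, J • F p ≤ F (p + 1)) (q : ℤ)
    {G : Submodule S M} (hG : G ≤ F q) : ∀ k : ℕ, J ^ k • G ≤ F (q + k) := by
  intro k
  induction k with
  | zero => simpa using hG
  | succ k ih =>
    rw [pow_succ', Submodule.mul_smul, Nat.cast_succ, ← add_assoc]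
    exact (Submodule.smul_mono le_rfl ih).trans (hJ _)

theorem filtration_eq_pow_smul {S : Type u} [CommRing S] (J : Ideal S) [IsAdicComplete J S]
    {M : Type u} [AddCommGroup M] [Module S M] (F : ℤ → Submodule S M) (hF : Antitone F)
    (hJ : ∀ p : ℤ, J • F p ≤ F (p + 1)) (hsep : ⨅ p : ℤ, F p = ⊥) (q : ℤ) {r : ℕ}
    (g : Fin r → M) (hG : Submodule.span S (Set.range g) ≤ F q)
    (hgen : F q ≤ Submodule.span S (Set.range g) ⊔ F (q + 1))
    (hgr : ∀ p : ℤ, q ≤ p → F (p + 1) = J • F p ⊔ F (p + 2)) (k : ℕ) :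
    F (q + k) = J ^ k • Submodule.span S (Set.range g) := by
  set G := Submodule.span S (Set.range g) with hGdef
  refine le_antisymm (fun x hx => ?_) (pow_le_filtration J F hJ q hG k)
  have step : ∀ n : ℕ, F (q + n) ≤ J ^ n • G ⊔ F (q + n + 1) := by
    intro n
    induction n with
    | zero => simpa using hgen
    | succ n ih =>
      have e1 : q + ((n + 1 : ℕ) : ℤ) = q + n + 1 := by push_cast; ring
      have e2 : q + ((n + 1 : ℕ) : ℤ) + 1 = q + n + 2 := by push_cast; ring
      rw [e1, hgr (q + n) (by omega), show q + (n : ℤ) + 1 + 1 = q + n + 2 by ring]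
      refine sup_le ?_ le_sup_right
      refine (Submodule.smul_mono le_rfl ih).trans ?_
      rw [Submodule.smul_sup, ← Submodule.mul_smul, ← pow_succ']
      refine sup_le_sup le_rfl ?_
      simpa [show q + (n : ℤ) + 1 + 1 = q + n + 2 by ring] using hJ (q + n + 1)
  have step' : ∀ (j : ℕ) (y : F (q + (k + j : ℕ))), ∃ c : Fin r → S, (∀ i, c i ∈ J ^ (k + j)) ∧
      (y : M) - ∑ i, c i • g i ∈ F (q + (k + (j + 1) : ℕ)) := by
    intro j y
    obtain ⟨a, ha, b, hb, hab⟩ := Submodule.mem_sup.1 (step (k + j) y.2)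
    rw [hGdef, Submodule.mem_ideal_smul_span_iff_exists_sum] at ha
    obtain ⟨c, hc, hc'⟩ := ha
    rw [Finsupp.sum_fintype c (fun i a => a • g i) (fun i => zero_smul S (g i))] at hc'
    refine ⟨fun i => c i, hc, ?_⟩
    rw [hc', show (y : M) - a = b by rw [← hab]; abel]
    convert hb using 2
    push_cast; ring
  choose c hc hnext using step'
  let y : (j : ℕ) → F (q + (k + j : ℕ)) := fun j =>
    Nat.rec (⟨x, by simpa using hx⟩ : F (q + (k + 0 : ℕ))) (fun j yj => ⟨_, hnext j yj⟩) j
  let s : ℕ → Fin r → S := fun n i => ∑ j ∈ Finset.range n, c j (y j) i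
  have hy : ∀ n, (y n).1 = x - ∑ i, s n i • g i := by
    intro n
    induction n with
    | zero => simp [y, s]
    | succ n ih =>
      show (y n).1 - ∑ i, c n (y n) i • g i = _
      simp only [s, Finset.sum_range_succ, add_smul, Finset.sum_add_distrib] at ih ⊢
      rw [ih]; abel
  have hlim : ∀ i, ∃ L : S, ∀ n, s n i - L ∈ J ^ n := by
    intro i
    obtain ⟨L, hL⟩ := IsPrecomplete.prec (IsAdicComplete.toIsPrecomplete (I := J) (M := S))
      (f := fun n => s n i) (fun {m n} hmn => by
        rw [SModEq.sub_mem, smul_eq_mul, Ideal.mul_top, ← neg_mem_iff, neg_sub]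
        simp only [s]
        rw [← Finset.sum_Ico_eq_sub _ hmn]
        exact sum_mem fun j hj => Ideal.pow_le_pow_right
          (by have := (Finset.mem_Ico.1 hj).1; omega) (hc j (y j) i))
    exact ⟨L, fun n => by simpa [SModEq.sub_mem, smul_eq_mul, Ideal.mul_top] using hL n⟩
  choose L hL using hlim
  have hLk : ∀ i, L i ∈ J ^ k := by
    intro i
    have h1 : s k i ∈ J ^ k := sum_mem fun j _ => Ideal.pow_le_pow_right (by omega) (hc j (y j) i)
    simpa using sub_mem h1 (hL i k)
  have hx0 : x - ∑ i, L i • g i = 0 := by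
    rw [← Submodule.mem_bot S, ← hsep, Submodule.mem_iInf]
    intro p
    obtain ⟨n, hn⟩ : ∃ n : ℕ, p ≤ q + n := ⟨(p - q).toNat, by omega⟩
    refine hF hn ?_
    have h1 : (y n).1 ∈ F (q + n) := hF (by omega) (y n).2
    have h2 : ∑ i, (s n i - L i) • g i ∈ F (q + n) := pow_le_filtration J F hJ q hG n
      (Submodule.sum_mem _ fun i _ => Submodule.smul_mem_smul (hL i n) (Submodule.subset_span ⟨i, rfl⟩))
    have := add_mem h1 h2
    rw [hy] at this
    convert this using 1
    simp only [sub_smul, Finset.sum_sub_distrib]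
    abel
  rw [sub_eq_zero.1 hx0]
  exact Submodule.sum_mem _ fun i _ => Submodule.smul_mem_smul (hLk i) (Submodule.subset_span ⟨i, rfl⟩)

/-- Let S be a Noetherian ring which is separated and complete for the adic topology of an ideal J, and
let M be an S-module with a decreasing filtration (F^p M)_{p ∈ ℤ} by submodules such that F^p M = M
for some p, J·F^p M ⊆ F^{p+1} M for all p, and ⋂_p F^p M = 0. Then the following are equivalent: (a)
M is a finitely generated S-module and J·F^p M = F^{p+1} M for all large p; (c) every F^p M /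
F^{p+1} M is a finitely generated S-module and, for all large p, the map J ⊗ (F^p M/F^{p+1} M) ⟶
F^{p+1} M/F^{p+2} M is surjective, that is F^{p+1} M = J·F^p M + F^{p+2} M. (The published statement
also lists a third equivalent condition, finite generation of the associated graded module over the
associated graded ring; this row states the equivalence of the other two.) -/
theorem result {S : Type u} [CommRing S] [IsNoetherianRing S]
    (J : Ideal S) [IsAdicComplete J S] {M : Type u} [AddCommGroup M] [Module S M]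
    (F : ℤ → Submodule S M) (hF : Antitone F) (hcod : ∃ p₀ : ℤ, F p₀ = ⊤)
    (hJ : ∀ p : ℤ, J • F p ≤ F (p + 1)) (hsep : ⨅ p : ℤ, F p = ⊥) :
    (Module.Finite S M ∧ ∃ p₁ : ℤ, ∀ p : ℤ, p₁ ≤ p → J • F p = F (p + 1)) ↔
      ((∀ p : ℤ, (Submodule.map (F (p + 1)).mkQ (F p)).FG) ∧
        ∃ p₁ : ℤ, ∀ p : ℤ, p₁ ≤ p → F (p + 1) = J • F p ⊔ F (p + 2)) := by
  constructor
  · rintro ⟨hfin, p₁, hp₁⟩
    refine ⟨fun p => (IsNoetherian.noetherian (F p)).map _, p₁, fun p hp => ?_⟩
    rw [← hp₁ p hp]
    exact (sup_eq_left.2 (by rw [hp₁ p hp]; exact hF (by omega))).symm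
  · rintro ⟨hfg, q, hq⟩
    obtain ⟨T, hT⟩ := hfg q
    have hlift : ∀ t ∈ T, ∃ m ∈ F q, (F (q + 1)).mkQ m = t := fun t ht => by
      have := Submodule.subset_span (R := S) ht
      rw [hT] at this
      exact this
    choose m hm hmt using hlift
    let g : Fin T.card → M := fun i => m _ (T.equivFin.symm i).2
    have hG : Submodule.span S (Set.range g) ≤ F q :=
      Submodule.span_le.2 (Set.range_subset_iff.2 fun i => hm _ _)
    have hgen : F q ≤ Submodule.span S (Set.range g) ⊔ F (q + 1) := by
      intro x hx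
      have h1 : (F (q + 1)).mkQ x ∈ (Submodule.span S (Set.range g)).map (F (q + 1)).mkQ := by
        rw [Submodule.map_span]
        refine Submodule.span_mono ?_ (hT.symm ▸ Submodule.mem_map_of_mem hx)
        intro t ht
        exact ⟨g (T.equivFin ⟨t, ht⟩), ⟨_, rfl⟩, by simp [g, hmt]⟩
      obtain ⟨z, hz, hzx⟩ := h1
      rw [Submodule.mkQ_apply, Submodule.mkQ_apply, Submodule.Quotient.eq] at hzx
      exact Submodule.mem_sup.2 ⟨z, hz, x - z, by simpa using neg_mem hzx, by abel⟩
    have key := filtration_eq_pow_smul J F hF hJ hsep q g hG hgen hq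
    have hdown : ∀ k : ℕ, (F (q - k)).FG := by
      intro k
      induction k with
      | zero =>
        have := key 0
        simp only [Nat.cast_zero, add_zero, pow_zero, Ideal.one_eq_top, Submodule.top_smul] at this
        simpa [this] using Submodule.fg_span (R := S) (Set.finite_range g)
      | succ k ih =>
        refine Submodule.fg_of_fg_map_of_fg_inf_ker (F (q - k)).mkQ ?_ ?_
        · have := hfg (q - (k + 1 : ℕ))
          rwa [show q - ((k + 1 : ℕ) : ℤ) + 1 = q - k by push_cast; ring] at this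
        · rw [Submodule.ker_mkQ, inf_eq_right.2 (hF (by omega))]
          exact ih
    refine ⟨?_, q, fun p hp => ?_⟩
    · obtain ⟨p₀, hp₀⟩ := hcod
      refine ⟨?_⟩
      have := hdown (q - p₀).toNat
      rwa [eq_top_iff.2 (hp₀.symm.trans_le (hF (show q - ((q - p₀).toNat : ℤ) ≤ p₀ by omega)))] at this
    · obtain ⟨n, rfl⟩ : ∃ n : ℕ, p = q + n := ⟨(p - q).toNat, by omega⟩
      rw [show q + (n : ℤ) + 1 = q + (n + 1 : ℕ) by push_cast; ring, key, key, ← Submodule.mul_smul, ← pow_succ']

end Groth.Agent.S8353
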