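import Groth.Statements.S8355
import Mathlib
-- import your own Groth.Agent.* helpers here

set_option autoImplicit false
universe v u
open CategoryTheory CategoryTheory.Limits
open SpSeq

namespace Groth.Agent.S8355

/-- Let E be a spectral sequence in an abelian category and suppose E_r^{p,q} = 0. Then E_k^{p,q} = 0
for every k ≥ r, and E_∞^{p,q} = 0: for any abutment data (H^n) of E, the graded piece gr^p H^{p+q},
identified by the abutment with the limit term at (p, q), is zero. -/
theorem result {C : Type u} [Category.{v} C] [Abelian C] {r₀ : ℤ}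
    (E : CohomologicalSpectralSequence C r₀) (r : ℤ) (hr : r₀ ≤ r) (pq : ℤ × ℤ)
    (h : IsZero ((E.page r hr).X pq)) :
    (∀ (k : ℤ) (hk : r ≤ k), IsZero ((E.page k (hr.trans hk)).X pq)) ∧
      ∀ (H : ℤ → C) (a : SpSeq.Abutment E H),
        IsZero (SpSeq.grPiece (a.fil (pq.1 + pq.2)) (a.anti (pq.1 + pq.2)) pq.1) := by
  have step : ∀ (k : ℤ) (hk : r₀ ≤ k), IsZero ((E.page k hk).X pq) → IsZero ((E.page (k + 1) (by omega)).X pq) := by
    intro k hk hz
    refine IsZero.of_iso ?_ (E.iso k (k + 1) pq rfl hk).symm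
    exact ShortComplex.isZero_homology_of_isZero_X₂ _ hz
  have up : ∀ (k : ℤ) (hk : r ≤ k), IsZero ((E.page k (hr.trans hk)).X pq) := by
    intro k hk
    induction k, hk using Int.leInduction with
    | base => exact h
    | succ k hk ih => exact step k _ ih
  refine ⟨up, fun H a => ?_⟩
  refine IsZero.of_iso ?_ (a.β pq).symm
  obtain ⟨h₀, hd⟩ := a.stat pq
  have down : ∀ (k : ℤ) (hk : a.rk pq ≤ k), IsZero ((E.page k (h₀.trans hk)).X pq) →
      IsZero ((E.page (a.rk pq) h₀).X pq) := by
    intro k hk
    induction k, hk using Int.leInduction with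
    | base => exact fun h => h
    | succ k hk ih =>
      intro hz
      refine ih ?_
      obtain ⟨hd1, hd2⟩ := hd k (h₀.trans hk) hk
      let K := E.page k (h₀.trans hk)
      have hf : (K.sc pq).f = 0 := by
        show K.d _ pq = 0
        by_cases hrel : (ComplexShape.up' ((k, 1 - k) : ℤ × ℤ)).Rel ((ComplexShape.up' ((k, 1 - k) : ℤ × ℤ)).prev pq) pq
        · rw [show (ComplexShape.up' ((k, 1 - k) : ℤ × ℤ)).prev pq = pq - (k, 1 - k) from eq_sub_of_add_eq hrel]
          exact hd1
        · exact K.shape _ _ hrel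
      have hg : (K.sc pq).g = 0 := by
        show K.d pq _ = 0
        by_cases hrel : (ComplexShape.up' ((k, 1 - k) : ℤ × ℤ)).Rel pq ((ComplexShape.up' ((k, 1 - k) : ℤ × ℤ)).next pq)
        · rw [show (ComplexShape.up' ((k, 1 - k) : ℤ × ℤ)).next pq = pq + (k, 1 - k) from hrel.symm]
          exact hd2
        · exact K.shape _ _ hrel
      exact IsZero.of_iso hz ((ShortComplex.HomologyData.ofZeros _ hf hg).left.homologyIso.symm ≪≫ E.iso k (k + 1) pq rfl (h₀.trans hk))
  exact down (max r (a.rk pq)) (le_max_right _ _) (up _ (le_max_left _ _))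

end Groth.Agent.S8355
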