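import Groth.Statements.S8358
import Mathlib.RingTheory.Bialgebra.MonoidAlgebra
import Mathlib.RingTheory.Bialgebra.Convolution
-- import your own Groth.Agent.* helpers here

set_option autoImplicit false
universe u
open CategoryTheory MonObj AlgebraicGeometry
open LieS

namespace Groth.Agent.S8358

section Aux

variable {R : Type u} [CommRing R] {M : Type} [AddCommGroup M] {B : Type u} [CommRing B] [Algebra R B]

local notation "RM" => MonoidAlgebra R (Multiplicative M)

/-- The algebra map of a point. -/
noncomputable def psi (v : LieS.dpt B (Spec.map (CommRingCat.ofHom (algebraMap R B))) ⟶ Red.diag R M) :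
    WithConv (RM →ₐ[R] DualNumber B) :=
  Spec.mapMulEquiv.symm ((LieS.dptIso B).inv ≫ v)

/-- The point of an algebra map. -/
noncomputable def toV (f : WithConv (RM →ₐ[R] DualNumber B)) :
    LieS.dpt B (Spec.map (CommRingCat.ofHom (algebraMap R B))) ⟶ Red.diag R M :=
  (LieS.dptIso B).hom ≫ Spec.mapMulEquiv f

theorem psi_toV (f : WithConv (RM →ₐ[R] DualNumber B)) : psi (toV f) = f := by
  refine (congrArg (fun h => Spec.mapMulEquiv.symm h) ?_).trans (Spec.mapMulEquiv.symm_apply_apply f)
  exact Iso.inv_hom_id_assoc _ _

theorem toV_psi (v : LieS.dpt B (Spec.map (CommRingCat.ofHom (algebraMap R B))) ⟶ Red.diag R M) : toV (psi v) = v := by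
  refine (congrArg (fun h => (LieS.dptIso B).hom ≫ h) (Spec.mapMulEquiv.apply_symm_apply _)).trans ?_
  exact Iso.hom_inv_id_assoc _ _

theorem psi_mul (v w : LieS.dpt B (Spec.map (CommRingCat.ofHom (algebraMap R B))) ⟶ Red.diag R M) :
    psi (v * w) = psi v * psi w := by
  refine (congrArg (fun h => Spec.mapMulEquiv.symm h) (MonObj.comp_mul (LieS.dptIso B).inv v w)).trans ?_
  exact map_mul Spec.mapMulEquiv.symm _ _

theorem toV_left (f : WithConv (RM →ₐ[R] DualNumber B)) :
    (toV f).left = Spec.map (CommRingCat.ofHom f.ofConv.toRingHom) := by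
  change 𝟙 _ ≫ Spec.map _ = _
  exact Category.id_comp _

theorem one_left : (1 : LieS.pt B (Spec.map (CommRingCat.ofHom (algebraMap R B))) ⟶ Red.diag R M).left =
    Spec.map (CommRingCat.ofHom (1 : WithConv (RM →ₐ[R] B)).ofConv.toRingHom) := by
  let e : LieS.pt B (Spec.map (CommRingCat.ofHom (algebraMap R B))) ⟶
      (Spec (CommRingCat.of B)).asOver (Spec (CommRingCat.of R)) := Over.homMk (𝟙 _) (Category.id_comp _)
  have h : (1 : LieS.pt B (Spec.map (CommRingCat.ofHom (algebraMap R B))) ⟶ Red.diag R M) =
      e ≫ Spec.mapMulEquiv (1 : WithConv (RM →ₐ[R] B)) := by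
    refine Eq.trans ?_ (congrArg (fun h => e ≫ h) (map_one Spec.mapMulEquiv).symm)
    exact (MonObj.comp_one e).symm
  rw [h]
  change 𝟙 _ ≫ Spec.map _ = _
  exact Category.id_comp _

theorem mem_iff (f : WithConv (RM →ₐ[R] DualNumber B)) :
    toV f ∈ LieS.LieR (Red.diag R M) B ↔ ∀ m : M, TrivSqZeroExt.fst (f.ofConv (MonoidAlgebra.single (Multiplicative.ofAdd m) 1)) = 1 := by
  rw [LieS.mem_Lie_iff, Over.OverMorphism.ext_iff, Over.comp_left, toV_left, one_left]
  change Spec.map _ ≫ Spec.map _ = _ ↔ _
  rw [LieS.specMap_comp]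
  constructor
  · intro h m
    have h' := Spec.map_injective h
    have := RingHom.congr_fun ((congrArg CommRingCat.Hom.hom h')) (MonoidAlgebra.single (Multiplicative.ofAdd m) 1)
    simpa using this
  · intro h
    congr 2
    refine MonoidAlgebra.ringHom_ext (fun r => ?_) fun m => ?_
    · rw [RingHom.comp_apply]
      change TrivSqZeroExt.fst (f.ofConv (algebraMap R RM r)) = (1 : WithConv (RM →ₐ[R] B)).ofConv (algebraMap R RM r)
      rw [AlgHom.commutes, AlgHom.commutes]
      simp [TrivSqZeroExt.algebraMap_eq_inl']
    · simpa using h (Multiplicative.toAdd m)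

theorem psi_smul (b : B) (v : LieS.LieR (Red.diag R M) B) (x : RM) :
    (psi (b • v).1).ofConv x = LieS.scaleHom b ((psi v.1).ofConv x) := by
  have h : Spec.map (CommRingCat.ofHom (psi (b • v).1).ofConv.toRingHom) =
      Spec.map (CommRingCat.ofHom ((LieS.scaleHom b).comp (psi v.1).ofConv.toRingHom)) := by
    rw [← toV_left, toV_psi, LieS.smul_val, Over.comp_left, ← LieS.specMap_comp, ← toV_left, toV_psi]
    rfl
  exact RingHom.congr_fun (congrArg CommRingCat.Hom.hom (Spec.map_injective h)) x

theorem conv_single (f g : WithConv (RM →ₐ[R] DualNumber B)) (m : Multiplicative M) :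
    (f * g).ofConv (MonoidAlgebra.single m 1) = f.ofConv (MonoidAlgebra.single m 1) * g.ofConv (MonoidAlgebra.single m 1) := by
  rw [AlgHom.convMul_apply, MonoidAlgebra.comul_single]
  simp

end Aux

/-- First isomorphism: over an affine base: for a commutative ring R, a commutative group M, the
diagonalisable group D(M) = Spec R[M] over Spec R and a commutative R-algebra B, the group
Lie(D(M))(Spec B) is identified with the additive group Hom(M, B) of group homomorphisms: there is a
multiplicative isomorphism which sends a point v of D(M) with values in B[ε], read as an R-algebra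
homomorphism from R[M] to B[ε], to the homomorphism m ↦ (ε-coefficient of the image of m), and which
carries the rescaling action of b in B to multiplication of homomorphisms by b. -/
theorem result (R : Type u) [CommRing R] (M : Type) [AddCommGroup M]
    (B : Type u) [CommRing B] [Algebra R B] :
    ∃ e : LieS.LieR (Red.diag R M) B ≃* Multiplicative (M →+ B),
      (∀ (v : LieS.LieR (Red.diag R M) B) (m : M),
        Multiplicative.toAdd (e v) m =
          TrivSqZeroExt.snd (((Spec.mapMulEquiv.symm ((LieS.dptIso B).inv ≫ v.1)).ofConv :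
            MonoidAlgebra R (Multiplicative M) →ₐ[R] DualNumber B)
            (MonoidAlgebra.single (Multiplicative.ofAdd m) 1))) ∧
      ∀ (b : B) (v : LieS.LieR (Red.diag R M) B),
        e (b • v) = Multiplicative.ofAdd (b • Multiplicative.toAdd (e v)) := by
  classical
  have hfst : ∀ (v : LieS.LieR (Red.diag R M) B) (m : M),
      TrivSqZeroExt.fst ((psi v.1).ofConv (MonoidAlgebra.single (Multiplicative.ofAdd m) 1)) = 1 :=
    fun v => (mem_iff (psi v.1)).1 (by rw [toV_psi]; exact v.2)
  let coe : LieS.LieR (Red.diag R M) B → (M →+ B) := fun v =>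
    { toFun := fun m => TrivSqZeroExt.snd ((psi v.1).ofConv (MonoidAlgebra.single (Multiplicative.ofAdd m) 1))
      map_zero' := by
        rw [ofAdd_zero, ← MonoidAlgebra.one_def, map_one]
        rfl
      map_add' := fun m m' => by
        rw [ofAdd_add, show MonoidAlgebra.single (Multiplicative.ofAdd m * Multiplicative.ofAdd m') (1 : R) =
            MonoidAlgebra.single (Multiplicative.ofAdd m) 1 * MonoidAlgebra.single (Multiplicative.ofAdd m') 1 by
            rw [MonoidAlgebra.single_mul_single, _root_.mul_one], map_mul, TrivSqZeroExt.snd_mul, hfst, hfst]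
        simp [add_comm] }
  let hom : (M →+ B) → (Multiplicative M →* DualNumber B) := fun h =>
    { toFun := fun m => TrivSqZeroExt.inl 1 + TrivSqZeroExt.inr (h (Multiplicative.toAdd m))
      map_one' := by simp
      map_mul' := fun m m' => by
        refine TrivSqZeroExt.ext ?_ ?_
        · simp
        · simp [add_comm] }
  let inv : (M →+ B) → LieS.LieR (Red.diag R M) B := fun h =>
    ⟨toV (WithConv.toConv (MonoidAlgebra.lift R (DualNumber B) (Multiplicative M) (hom h))),
      (mem_iff _).2 fun m => by simp [hom]⟩
  let e : LieS.LieR (Red.diag R M) B ≃* Multiplicative (M →+ B) :=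
    { toFun := fun v => Multiplicative.ofAdd (coe v)
      invFun := fun h => inv (Multiplicative.toAdd h)
      left_inv := fun v => by
        refine Subtype.ext ?_
        show toV _ = v.1
        conv_rhs => rw [← toV_psi v.1]
        congr 1
        apply WithConv.ofConv_injective
        refine MonoidAlgebra.algHom_ext (fun (m : Multiplicative M) => ?_) (Subsingleton.elim _ _)
        refine TrivSqZeroExt.ext ?_ ?_
        · simpa [hom] using (hfst v (Multiplicative.toAdd m)).symm
        · simp [hom, coe]
      right_inv := fun h => by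
        refine AddMonoidHom.ext fun m => ?_
        show TrivSqZeroExt.snd ((psi (toV _)).ofConv _) = _
        rw [psi_toV]
        simp [hom]
        rfl
      map_mul' := fun v w => by
        refine AddMonoidHom.ext fun m => ?_
        show TrivSqZeroExt.snd ((psi (v.1 * w.1)).ofConv _) = _
        rw [psi_mul, conv_single, TrivSqZeroExt.snd_mul, hfst, hfst]
        simp [coe, add_comm]
        rfl }
  refine ⟨e, fun v m => rfl, fun b v => ?_⟩
  refine AddMonoidHom.ext fun m => ?_
  show TrivSqZeroExt.snd ((psi (b • v).1).ofConv _) = b • TrivSqZeroExt.snd ((psi v.1).ofConv _)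
  rw [psi_smul]
  rw [LieS.scaleHom, LieS.dualHom_apply, smul_eq_mul]
  simp only [TrivSqZeroExt.algebraMap_eq_inl', Algebra.algebraMap_self, RingHom.id_apply, DualNumber.eps,
    TrivSqZeroExt.snd_add, TrivSqZeroExt.snd_mul, TrivSqZeroExt.fst_mul, TrivSqZeroExt.fst_inl, TrivSqZeroExt.snd_inl,
    TrivSqZeroExt.fst_inr, TrivSqZeroExt.snd_inr]
  simp
  ring

end Groth.Agent.S8358
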