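import Groth.Statements.S8359
import Groth.Agent.DiagLift.Basic

set_option autoImplicit false
universe u
open CategoryTheory MonObj AlgebraicGeometry
open Red

set_option backward.isDefEq.respectTransparency false

namespace Groth.Agent.S8359

/-- Over an affine base S = Spec R with S₀ = Spec (R/I) for a nilpotent ideal I: for a commutative group
M, the diagonalisable group D(M) = Spec R[M] over S, a group scheme X locally of finite presentation
over S and a homomorphism f from D(M) to X, if the base change of f to S₀ is the unit homomorphism
then f is the unit homomorphism. (The published statement is over an arbitrary base scheme with S₀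
defined by a nilpotent quasi-coherent ideal; this row is its case of an affine base.) -/
theorem result (R : Type u) [CommRing R] (I : Ideal R) (hI : IsNilpotent I)
    (M : Type) [AddCommGroup M] (X : Over (Spec (CommRingCat.of R))) [GrpObj X]
    [LocallyOfFinitePresentation X.hom] (f : Red.diag R M ⟶ X) [IsMonHom f]
    (h : (Over.pullback (Spec.map (CommRingCat.ofHom (Ideal.Quotient.mk I)))).map f = 1) :
    f = 1 := by
  refine Groth.Agent.DiagLift.hom_eq_one_of_mod (Groth.Agent.DiagLift.isMT_diag M) f I hI fun B _ _ hB h' => ?_
  letI : Algebra (R ⧸ I) B := (Ideal.Quotient.lift I (algebraMap R B) hB).toAlgebra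
  haveI : IsScalarTower R (R ⧸ I) B := IsScalarTower.of_algebraMap_eq fun _ => rfl
  have e := congrArg (fun m => Groth.Agent.DiagGrp.down (Groth.Agent.DiagGrp.up (K := R ⧸ I) h' ≫ m)) h
  rw [MonObj.comp_one, Groth.Agent.DiagGrp.down_one] at e
  rw [← e]
  erw [Groth.Agent.DiagGrp.down_comp_map, Groth.Agent.DiagGrp.down_up]

end Groth.Agent.S8359
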