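import Groth.Statements.S8362
import Mathlib
-- import your own Groth.Agent.* helpers here

set_option autoImplicit false
universe u
open CategoryTheory AlgebraicGeometry
open SGA3

namespace Groth.Agent.S8362

/-- Over an affine base S = Spec R with S₀ = Spec (R/J) for an ideal J of square zero: for an arbitrary
S-scheme X, every S-endomorphism of X inducing the identity on X ×_S S₀ is an automorphism. (The
published statement is over an arbitrary base scheme with a quasi-coherent ideal of square zero;
this row is its case of an affine base, to which it reduces since being an isomorphism is local on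
the base.) -/
theorem result (R : Type u) [CommRing R] (J : Ideal R) (hJ : J * J = ⊥)
    (X : Over (Spec (CommRingCat.of R))) (u : X ⟶ X)
    (h : (Over.pullback (Spec.map (CommRingCat.ofHom (Ideal.Quotient.mk J)))).map u = 𝟙 _) :
    IsIso u := by
  let g₀ : Spec (CommRingCat.of (R ⧸ J)) ⟶ Spec (CommRingCat.of R) :=
    Spec.map (CommRingCat.ofHom (Ideal.Quotient.mk J))
  let p := Limits.pullback.fst X.hom g₀
  have hp : p ≫ u.left = p := by
    have h1 : ((Over.pullback g₀).map u).left ≫ p = p := by
      rw [h]; exact Category.id_comp p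
    exact (Limits.pullback.lift_fst _ _ _).symm.trans h1
  have hid : ∀ x : X.left, u.left x = x := fun x => by
    have : Surjective g₀ := ⟨fun q => by
      have hJ' : J ≤ q.asIdeal := fun r hr => q.isPrime.mem_of_pow_mem 2 (by
        have : r * r ∈ J * J := Ideal.mul_mem_mul hr hr
        rw [hJ, Ideal.mem_bot] at this
        rw [pow_two, this]; exact zero_mem _)
      have : q ∈ Set.range (PrimeSpectrum.comap (Ideal.Quotient.mk J)) := by
        rw [range_comap_of_surjective _ _ Ideal.Quotient.mk_surjective, Ideal.mk_ker]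
        exact hJ'
      exact this⟩
    have : Surjective p := MorphismProperty.pullback_fst _ _ this
    obtain ⟨x₀, rfl⟩ := p.surjective x
    rw [← Scheme.Hom.comp_apply, hp]
  suffices hstalk : ∀ x, IsIso (u.left.stalkMap x) by
    have hbase : IsIso u.left.base := by
      have : u.left.base = 𝟙 _ := TopCat.hom_ext (ContinuousMap.ext hid)
      rw [this]; infer_instance
    have : IsIso u.left := (isIso_iff_isIso_stalkMap _).mpr ⟨hbase, hstalk⟩
    have : IsIso ((Over.forget _).map u) := this
    exact isIso_of_reflects_iso u (Over.forget _)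
  intro x
  obtain ⟨U, hU, hxU, -⟩ := exists_isAffineOpen_mem_and_subset (X := X.left) (U := ⊤) (x := x) trivial
  have e : U ≤ u.left ⁻¹ᵁ U := fun y hy => by show u.left y ∈ U; rwa [hid y]
  let φ := u.left.appLE U U e
  obtain ⟨ψ, hψ⟩ := Spec.map_surjective (R := CommRingCat.of R) (hU.fromSpec ≫ X.hom)
  let alg : Algebra R Γ(X.left, U) := ψ.hom.toAlgebra
  have hφψ : ψ ≫ φ = ψ := Spec.map_injective (by
    rw [Spec.map_comp, hψ, ← Category.assoc, hU.SpecMap_appLE_fromSpec u.left hU e, Category.assoc, Over.w u])
  let I : Ideal Γ(X.left, U) := J.map ψ.hom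
  let mk : Γ(X.left, U) ⟶ CommRingCat.of (Γ(X.left, U) ⧸ I) := CommRingCat.ofHom (Ideal.Quotient.mk I)
  have hmod : ∀ a, φ a - a ∈ I := by
    let ψ₀ : CommRingCat.of (R ⧸ J) ⟶ CommRingCat.of (Γ(X.left, U) ⧸ I) :=
      CommRingCat.ofHom (Ideal.quotientMap I ψ.hom Ideal.le_comap_map)
    have hw : (Spec.map mk ≫ hU.fromSpec) ≫ X.hom = Spec.map ψ₀ ≫ g₀ := by
      rw [Category.assoc, ← hψ, ← Spec.map_comp, ← Spec.map_comp]
      rfl
    have h1 : Spec.map mk ≫ hU.fromSpec ≫ u.left = Spec.map mk ≫ hU.fromSpec := by
      have h0 := congrArg (Limits.pullback.lift _ _ hw ≫ ·) hp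
      simp only [p, ← Category.assoc, Limits.pullback.lift_fst] at h0
      rwa [Category.assoc] at h0
    rw [← hU.SpecMap_appLE_fromSpec u.left hU e, ← Category.assoc, cancel_mono, ← Spec.map_comp] at h1
    have h2 := Spec.map_injective h1
    exact fun a => Ideal.Quotient.eq.mp (congr($h2 a))
  have hfix : ∀ b ∈ I, φ b = b := fun b hb => by
    refine Submodule.span_induction (p := fun b _ => φ b = b) ?_ (map_zero _) ?_ ?_ hb
    · rintro _ ⟨r, hr, rfl⟩
      exact congr($hφψ r)
    · intro a b _ _ ha hb; rw [map_add, ha, hb]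
    · intro c a ha hca
      rw [smul_eq_mul, map_mul, hca, ← sub_eq_zero, ← sub_mul]
      have h0 : I * I = ⊥ := by rw [← Ideal.map_mul, hJ, Ideal.map_bot]
      have := Ideal.mul_mem_mul (hmod c) (show a ∈ I from ha)
      rwa [h0, Ideal.mem_bot] at this
  have hbij : Function.Bijective φ.hom := by
    refine ⟨(injective_iff_map_eq_zero _).mpr fun a ha => ?_, fun a => ⟨a - (φ a - a), ?_⟩⟩
    · have haI : a ∈ I := by
        have h0 := hmod a
        rw [show φ a = 0 from ha, zero_sub] at h0
        exact neg_mem_iff.mp h0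
      exact (hfix a haI).symm.trans ha
    · rw [map_sub]
      show φ a - φ (φ a - a) = a
      rw [hfix _ (hmod a)]
      exact sub_sub_cancel _ _
  have : IsIso φ := (ConcreteCategory.isIso_iff_bijective φ).mpr hbij
  have : IsOpenImmersion hU.fromSpec := hU.isOpenImmersion_fromSpec
  have h2 : IsOpenImmersion (hU.fromSpec ≫ u.left) := by
    rw [← hU.SpecMap_appLE_fromSpec u.left hU e]; infer_instance
  obtain ⟨y, rfl⟩ : x ∈ Set.range hU.fromSpec := by rw [hU.range_fromSpec]; exact hxU
  have h3 : IsIso (u.left.stalkMap (hU.fromSpec y) ≫ hU.fromSpec.stalkMap y) := by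
    rw [← Scheme.Hom.stalkMap_comp]
    exact (IsOpenImmersion.iff_isIso_stalkMap.mp h2).2 y
  exact @IsIso.of_isIso_comp_right _ _ _ _ _ (u.left.stalkMap (hU.fromSpec y)) (hU.fromSpec.stalkMap y) _ h3

end Groth.Agent.S8362
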