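import Groth.Statements.S8364
import Mathlib
-- import your own Groth.Agent.* helpers here

set_option autoImplicit false
universe u
open SGA3

namespace Groth.Agent.S8364

/-- For a commutative ring R, an ideal J of R of square zero, a smooth R-algebra A and the extended
ideal I = J·A, every R-algebra automorphism of A/I lifts to an R-algebra automorphism of A. (The
published statement concerns the automorphism functor of a smooth affine S-scheme E and affine test
schemes Y; this row is the case Y = S = Spec R, E = Spec A, which gives the general one after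
replacing R by the ring of Y.) -/
theorem result (R A : Type u) [CommRing R] [CommRing A] [Algebra R A]
    [Algebra.Smooth R A] (J : Ideal R) (hJ : J * J = ⊥)
    (φ₀ : (A ⧸ Ideal.map (algebraMap R A) J) ≃ₐ[R] (A ⧸ Ideal.map (algebraMap R A) J)) :
    ∃ φ : A ≃ₐ[R] A,
      (Ideal.Quotient.mkₐ R (Ideal.map (algebraMap R A) J)).comp φ.toAlgHom =
        φ₀.toAlgHom.comp (Ideal.Quotient.mkₐ R (Ideal.map (algebraMap R A) J)) := by
  have hI2 : (Ideal.map (algebraMap R A) J) ^ 2 = ⊥ := by rw [pow_two, ← Ideal.map_mul, hJ, Ideal.map_bot]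
  have hnil : IsNilpotent (Ideal.map (algebraMap R A) J) := ⟨2, hI2⟩
  obtain ⟨φ, hφ⟩ := Algebra.FormallySmooth.exists_lift (Ideal.map (algebraMap R A) J) hnil (φ₀.toAlgHom.comp (Ideal.Quotient.mkₐ R (Ideal.map (algebraMap R A) J)))
  obtain ⟨ψ, hψ⟩ := Algebra.FormallySmooth.exists_lift (Ideal.map (algebraMap R A) J) hnil (φ₀.symm.toAlgHom.comp (Ideal.Quotient.mkₐ R (Ideal.map (algebraMap R A) J)))
  have key : ∀ g : A →ₐ[R] A, (∀ a, g a - a ∈ (Ideal.map (algebraMap R A) J)) → Function.Bijective g := by
    intro g hg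
    have hfix : ∀ x ∈ (Ideal.map (algebraMap R A) J), g x = x := by
      intro x hx
      induction hx using Submodule.span_induction with
      | mem x hx =>
        obtain ⟨j, -, rfl⟩ := hx
        exact g.commutes j
      | zero => simp
      | add x y _ _ hx hy => rw [map_add, hx, hy]
      | smul a x hx ih =>
        rw [smul_eq_mul, map_mul, ih]
        have : (g a - a) * x ∈ (Ideal.map (algebraMap R A) J) ^ 2 := by
          rw [pow_two]; exact Ideal.mul_mem_mul (hg a) hx
        rw [hI2, Ideal.mem_bot, sub_mul, sub_eq_zero] at this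
        exact this
    refine ⟨(injective_iff_map_eq_zero g).mpr fun x hx => ?_, fun y => ⟨y - (g y - y), ?_⟩⟩
    · have h := hg x
      rw [hx, zero_sub, neg_mem_iff] at h
      rw [← hfix x h, hx]
    · rw [map_sub, hfix _ (hg y)]; ring
  have h1 : ∀ a, ψ (φ a) - a ∈ (Ideal.map (algebraMap R A) J) := by
    intro a
    rw [← Ideal.Quotient.eq]
    have e1 := DFunLike.congr_fun hψ (φ a)
    have e2 := DFunLike.congr_fun hφ a
    simp only [AlgHom.comp_apply, Ideal.Quotient.mkₐ_eq_mk] at e1 e2
    rw [e1, e2]
    exact φ₀.symm_apply_apply _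
  have h2 : ∀ a, φ (ψ a) - a ∈ (Ideal.map (algebraMap R A) J) := by
    intro a
    rw [← Ideal.Quotient.eq]
    have e1 := DFunLike.congr_fun hφ (ψ a)
    have e2 := DFunLike.congr_fun hψ a
    simp only [AlgHom.comp_apply, Ideal.Quotient.mkₐ_eq_mk] at e1 e2
    rw [e1, e2]
    exact φ₀.apply_symm_apply _
  have b1 := key (ψ.comp φ) h1
  have b2 := key (φ.comp ψ) h2
  have hbij : Function.Bijective φ := ⟨Function.Injective.of_comp b1.1, Function.Surjective.of_comp b2.2⟩
  exact ⟨AlgEquiv.ofBijective φ hbij, hφ⟩

end Groth.Agent.S8364
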