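import Groth.Statements.S8369
import Mathlib.RingTheory.Flat.Basic
import Mathlib.LinearAlgebra.TensorProduct.Quotient
import Mathlib.RingTheory.Flat.Stability
import Groth.Agent.TFun.Flat
-- import your own Groth.Agent.* helpers here

set_option autoImplicit false
universe u v
open SGA3

namespace Groth.Agent.S8369

/-- Let A be a commutative ring, J a nilpotent ideal, N ⊆ M A-modules with M/N flat over A. If elements
of N have images generating the image of N in M/JM, then they generate N. (The published statement
takes finitely many elements; this row allows an arbitrary set, which the same argument permits.) -/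
theorem result (A : Type u) [CommRing A] (J : Ideal A) (hJ : IsNilpotent J)
    (M : Type v) [AddCommGroup M] [Module A M] (N : Submodule A M) [Module.Flat A (M ⧸ N)] (s : Set M)
    (hs : s ⊆ N)
    (hgen : (Submodule.span A s).map (J • (⊤ : Submodule A M)).mkQ = N.map (J • (⊤ : Submodule A M)).mkQ) :
    Submodule.span A s = N := by
  refine le_antisymm (Submodule.span_le.2 hs) ?_
  have hinf : N ⊓ J • (⊤ : Submodule A M) ≤ J • N := by
    rintro x ⟨hxN, hxJ⟩
    have hinj : Function.Injective (N.subtype.lTensor (A ⧸ J)) :=
      LinearMap.lTensor_injective_of_exact_of_flat N.mkQ (Submodule.mkQ_surjective _) N.subtype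
        Subtype.val_injective (LinearMap.exact_subtype_mkQ _) (A ⧸ J)
    have h1 : (Ideal.Quotient.mk J 1) ⊗ₜ[A] x = 0 := by
      apply (TensorProduct.quotTensorEquivQuotSMul M J).injective
      rw [map_zero, TensorProduct.quotTensorEquivQuotSMul_mk_tmul, one_smul]
      exact (Submodule.Quotient.mk_eq_zero _).2 hxJ
    have h2 : (Ideal.Quotient.mk J 1) ⊗ₜ[A] (⟨x, hxN⟩ : N) = 0 :=
      hinj (by rw [LinearMap.lTensor_tmul, map_zero]; exact h1)
    have h3 := congrArg (TensorProduct.quotTensorEquivQuotSMul N J) h2
    rw [map_zero, TensorProduct.quotTensorEquivQuotSMul_mk_tmul, one_smul, Submodule.Quotient.mk_eq_zero] at h3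
    have h4 := Submodule.mem_map_of_mem (f := N.subtype) h3
    rwa [Submodule.map_smul'', Submodule.map_top, Submodule.range_subtype] at h4
  have hle : N ≤ Submodule.span A s ⊔ J • N := by
    intro x hx
    obtain ⟨y, hy, hyx⟩ : Submodule.mkQ _ x ∈ (Submodule.span A s).map (J • (⊤ : Submodule A M)).mkQ := by
      rw [hgen]; exact Submodule.mem_map_of_mem hx
    have hd : x - y ∈ J • N := hinf ⟨sub_mem hx (Submodule.span_le.2 hs hy), (Submodule.Quotient.eq _).1 hyx.symm⟩
    rw [← add_sub_cancel y x]
    exact Submodule.add_mem_sup hy hd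
  have hpow : ∀ k : ℕ, N ≤ Submodule.span A s ⊔ J ^ k • N := by
    intro k
    induction k with
    | zero => simp
    | succ k ih =>
      refine ih.trans (sup_le le_sup_left ((Submodule.smul_mono le_rfl hle).trans ?_))
      rw [Submodule.smul_sup, ← Submodule.smul_assoc, smul_eq_mul, ← pow_succ]
      exact sup_le (Submodule.smul_le_right.trans le_sup_left) le_sup_right
  obtain ⟨n, hn⟩ := hJ
  simpa [hn] using hpow n

end Groth.Agent.S8369
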