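import Mathlib
import Groth.Statements.S8371
-- import your own Groth.Agent.* helpers here

set_option autoImplicit false
universe u
open CategoryTheory MonObj AlgebraicGeometry
open LieS

namespace Groth.Agent.S8371

/-- The sequence of Lie algebras, with M = O_S: if 1 → G' → G → G'' → 1 is a sequence of homomorphisms
of group schemes over a scheme S which is exact on points with values in every S-scheme, then for
every affine S-scheme T = Spec B the derived morphisms give an exact sequence 1 → Lie(G'/S)(T) →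
Lie(G/S)(T) → Lie(G''/S)(T) → 1: the first is injective, the second surjective, and the kernel of
the second is the image of the first. -/
theorem result (S : Scheme.{u}) (G' G G'' : Over S) [GrpObj G'] [GrpObj G] [GrpObj G'']
    (i : G' ⟶ G) [IsMonHom i] (q : G ⟶ G'') [IsMonHom q]
    (hex : ∀ T : Over S, Function.Injective (fun a : T ⟶ G' => a ≫ i) ∧
      Function.Surjective (fun b : T ⟶ G => b ≫ q) ∧ ∀ b : T ⟶ G, b ≫ q = 1 ↔ ∃ a : T ⟶ G', a ≫ i = b)
    (B : Type u) [CommRing B] (f : Spec (CommRingCat.of B) ⟶ S) :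
    Function.Injective (LieS.map B f i) ∧ Function.Surjective (LieS.map B f q) ∧
      ∀ v : LieS.Lie G B f, LieS.map B f q v = 1 ↔ ∃ w : LieS.Lie G' B f, LieS.map B f i w = v := by
  have hzp : zeroSec B f ≫ proj B f = 𝟙 (pt B f) := by
    apply Over.OverMorphism.ext
    show Spec.map _ ≫ Spec.map _ = 𝟙 _
    rw [specMap_comp, fstHom_comp_algebraMap, CommRingCat.ofHom_id]
    exact Spec.map_id _
  have hone : ∀ {X Y Z : Over S} [GrpObj Z] (a : X ⟶ Y), a ≫ (1 : Y ⟶ Z) = 1 := fun a => MonObj.comp_one a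
  have hi1 : ∀ T : Over S, (1 : T ⟶ G') ≫ i = 1 := fun T => (IsMonHom.monoidHom i T).map_one
  refine ⟨fun v w h => ?_, fun v => ?_, fun v => ?_⟩
  · exact Subtype.ext ((hex _).1 (congrArg Subtype.val h))
  · obtain ⟨b, hb⟩ := (hex (dpt B f)).2.1 v.1
    change b ≫ q = v.1 at hb
    refine ⟨⟨b * (proj B f ≫ zeroSec B f ≫ b)⁻¹, ?_⟩, ?_⟩
    · rw [mem_Lie_iff, MonObj.comp_mul, GrpObj.comp_inv, ← Category.assoc _ (proj B f), hzp, Category.id_comp, mul_inv_cancel]
    · apply Subtype.ext
      show (IsMonHom.monoidHom q (dpt B f)) (b * (proj B f ≫ zeroSec B f ≫ b)⁻¹) = v.1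
      rw [map_mul, map_inv]
      show (b ≫ q) * ((proj B f ≫ zeroSec B f ≫ b) ≫ q)⁻¹ = v.1
      rw [Category.assoc, Category.assoc, hb, (mem_Lie_iff G'' B f v.1).1 v.2, hone, inv_one, _root_.mul_one]
  · constructor
    · intro h
      obtain ⟨a, ha⟩ := ((hex (dpt B f)).2.2 v.1).1 (congrArg Subtype.val h)
      refine ⟨⟨a, ?_⟩, Subtype.ext ha⟩
      rw [mem_Lie_iff]
      apply (hex (pt B f)).1
      show (zeroSec B f ≫ a) ≫ i = (1 : pt B f ⟶ G') ≫ i
      rw [Category.assoc, ha, (mem_Lie_iff G B f v.1).1 v.2, hi1]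
    · rintro ⟨w, rfl⟩
      exact Subtype.ext (((hex (dpt B f)).2.2 _).2 ⟨w.1, rfl⟩)

end Groth.Agent.S8371
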