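import Groth.Statements.S8383
import Mathlib.LinearAlgebra.Dual.Lemmas
import Mathlib.LinearAlgebra.Matrix.ToLinearEquiv
import Mathlib.RingTheory.TensorProduct.Free
import Mathlib.LinearAlgebra.Matrix.NonsingularInverse

set_option autoImplicit false
universe u
open scoped TensorProduct
open SGA3t2b

namespace Groth.Agent.S8383

open Matrix

/-- Over a field extension, each row of an invertible matrix can be pushed down by a linear functional. -/
theorem exists_descend {k K : Type u} [Field k] [Field K] [Algebra k K] {ι : Type} [Fintype ι] [DecidableEq ι]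
    (M : Matrix ι ι K) (hM : M.det ≠ 0) (s : Finset ι) :
    ∃ π : ι → (K →ₗ[k] k),
      (Matrix.of fun i j => if i ∈ s then algebraMap k K (π i (M i j)) else M i j).det ≠ 0 := by
  induction s using Finset.induction with
  | empty => exact ⟨0, by simp only [Finset.notMem_empty, ↓reduceIte]; exact hM⟩
  | insert a s ha ih =>
    obtain ⟨π, hπ⟩ := ih
    set N : Matrix ι ι K := Matrix.of fun i j => if i ∈ s then algebraMap k K (π i (M i j)) else M i j
    let L : (ι → K) →ₗ[K] K :=
      { toFun := fun v => (N.updateRow a v).det
        map_add' := fun u v => det_updateRow_add N a u v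
        map_smul' := fun c u => det_updateRow_smul N a c u }
    have hrow : L (M a) ≠ 0 := by
      have h : N.updateRow a (M a) = N := by
        conv_rhs => rw [← Matrix.updateRow_eq_self N a]
        congr 1
        funext j
        simp [N, ha]
      show (N.updateRow a (M a)).det ≠ 0
      rw [h]; exact hπ
    have hL : ∀ v : ι → K, L v = ∑ j, v j * L (Pi.single j 1) := fun v => by
      conv_lhs => rw [pi_eq_sum_univ' v]
      simp [map_sum]
    obtain ⟨φ, hφ⟩ : ∃ φ : K →ₗ[k] k, L (fun j => algebraMap k K (φ (M a j))) ≠ 0 := by
      by_contra! h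
      refine hrow ?_
      let bK := Module.Free.chooseBasis k K
      classical
      let supp := Finset.univ.biUnion fun j => (bK.repr (M a j)).support
      have hexp : ∀ j, M a j = ∑ c ∈ supp, algebraMap k K (bK.repr (M a j) c) * bK c := fun j => by
        conv_lhs => rw [← bK.linearCombination_repr (M a j)]
        rw [Finsupp.linearCombination_apply, Finsupp.sum_of_support_subset (s := supp) _
          (Finset.subset_biUnion_of_mem (fun j => (bK.repr (M a j)).support) (Finset.mem_univ j))
          (fun c t => t • bK c) (fun i _ => zero_smul k _)]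
        simp [Algebra.smul_def, supp]
      rw [hL]
      have h' : ∀ c, ∑ j, algebraMap k K (bK.repr (M a j) c) * L (Pi.single j 1) = 0 := fun c => by
        rw [← hL fun j => algebraMap k K (bK.repr (M a j) c)]
        exact h (bK.coord c)
      calc ∑ j, M a j * L (Pi.single j 1)
          = ∑ j, ∑ c ∈ supp, bK c * (algebraMap k K (bK.repr (M a j) c) * L (Pi.single j 1)) := by
            refine Finset.sum_congr rfl fun j _ => ?_
            conv_lhs => rw [hexp j, Finset.sum_mul]
            exact Finset.sum_congr rfl fun c _ => by ring
        _ = 0 := by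
            rw [Finset.sum_comm]
            exact Finset.sum_eq_zero fun c _ => by rw [← Finset.mul_sum, h', mul_zero]
    refine ⟨Function.update π a φ, ?_⟩
    have h : (Matrix.of fun i j => if i ∈ insert a s then algebraMap k K (Function.update π a φ i (M i j)) else M i j) =
        N.updateRow a fun j => algebraMap k K (φ (M a j)) := by
      ext i j
      rcases eq_or_ne i a with rfl | hi
      · simp [Matrix.updateRow_self]
      · simp [Matrix.updateRow_ne hi, N, hi]
    rw [h]; exact hφ

/-- Let k be a finite field with algebraic closure K, V a finite-dimensional vector space over k, and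
θ₁, …, θₙ a basis of the dual of the K-vector space K ⊗ V. Then there is x ∈ V with θᵢ(1 ⊗ x) ≠ 0
for every i. -/
theorem result (k : Type u) [Field k] [Finite k]
    (V : Type u) [AddCommGroup V] [Module k V] [Module.Finite k V] {ι : Type} [Fintype ι]
    (θ : Module.Basis ι (AlgebraicClosure k) (Module.Dual (AlgebraicClosure k) (AlgebraicClosure k ⊗[k] V))) :
    ∃ x : V, ∀ i : ι, θ i ((1 : AlgebraicClosure k) ⊗ₜ[k] x) ≠ 0 := by
  classical
  let K := AlgebraicClosure k
  let b := Module.Free.chooseBasis k V
  let B := Algebra.TensorProduct.basis K b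
  have hcard : Fintype.card ι = Fintype.card (Module.Free.ChooseBasisIndex k V) := by
    rw [← Module.finrank_eq_card_basis θ, ← Module.finrank_eq_card_basis B.dualBasis]
  obtain ⟨ε⟩ : Nonempty (ι ≃ Module.Free.ChooseBasisIndex k V) := Fintype.card_eq.mp hcard
  let M : Matrix ι ι K := Matrix.of fun i j => θ i (B (ε j))
  have hM : M.det ≠ 0 := fun h => by
    obtain ⟨v, hv0, hv⟩ := Matrix.exists_mulVec_eq_zero_iff.mpr h
    let w := ∑ j, v j • B (ε j)
    have hθw : ∀ i, θ i w = 0 := fun i => by
      have := congrFun hv i
      simp only [Matrix.mulVec, dotProduct, M, Matrix.of_apply, Pi.zero_apply] at this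
      simpa [w, map_sum, mul_comm] using this
    have hw : w = 0 := (Module.forall_dual_apply_eq_zero_iff K w).mp fun f => by
      rw [← θ.sum_repr f, LinearMap.sum_apply]
      refine Finset.sum_eq_zero fun i _ => ?_
      show θ.repr f i • θ i w = 0
      exact smul_eq_zero_of_right _ (hθw i)
    refine hv0 (funext fun j => ?_)
    have hli := (B.linearIndependent.comp ε ε.injective)
    exact Fintype.linearIndependent_iff.mp hli v hw j
  obtain ⟨π, hπ⟩ := exists_descend (k := k) M hM Finset.univ
  simp only [Finset.mem_univ, ↓reduceIte] at hπ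
  let N : Matrix ι ι k := Matrix.of fun i j => π i (M i j)
  have hN : IsUnit N.det := by
    rw [isUnit_iff_ne_zero]
    intro h
    refine hπ ?_
    have : (Matrix.of fun i j => algebraMap k K (π i (M i j))) = (algebraMap k K).mapMatrix N := rfl
    rw [this, ← RingHom.map_det, h, map_zero]
  let c := N⁻¹.mulVec 1
  have hc : N.mulVec c = 1 := by
    simp only [c, Matrix.mulVec_mulVec, Matrix.mul_nonsing_inv N hN, Matrix.one_mulVec]
  refine ⟨∑ j, c j • b (ε j), fun i h0 => ?_⟩
  have h1 := congrFun hc i
  simp only [Matrix.mulVec, dotProduct, N, Matrix.of_apply, Pi.one_apply] at h1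
  have h2 := congrArg (π i) h0
  rw [map_zero, TensorProduct.tmul_sum, map_sum, map_sum] at h2
  refine one_ne_zero (α := k) ?_
  rw [← h1, ← h2]
  refine Finset.sum_congr rfl fun j _ => ?_
  rw [TensorProduct.tmul_smul, ← algebraMap_smul K (c j), map_smul, algebraMap_smul, map_smul,
    smul_eq_mul, mul_comm]
  simp [M, B]

end Groth.Agent.S8383
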