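import Groth.Statements.S8384
import Mathlib
import Groth.Agent.FtPoint.Basic

set_option autoImplicit false
universe u
open CategoryTheory MonoidalCategory CartesianMonoidalCategory MonObj GrpObj AlgebraicGeometry
open SGA3x

namespace Groth.Agent.S8384

/-- Let A be a local ring, separated and complete for the topology defined by its maximal ideal m, S =
Spec A and Sₙ = Spec(A/mⁿ). Then for every scheme X the canonical map Hom(S, X) → lim Hom(Sₙ, X) is
bijective: two morphisms S → X that agree on every Sₙ are equal, and every family of morphisms Sₙ →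
X compatible with the closed immersions Sₙ → Sₙ₊₁ is induced by a morphism S → X. -/
theorem result (A : Type u) [CommRing A] [IsLocalRing A]
    [IsAdicComplete (IsLocalRing.maximalIdeal A) A] (X : Scheme.{u}) :
    (∀ f g : (Spec (CommRingCat.of A)) ⟶ X,
      (∀ n : ℕ, (Spec.map (CommRingCat.ofHom (Ideal.Quotient.mk ((IsLocalRing.maximalIdeal A) ^ n)))) ≫ f = (Spec.map (CommRingCat.ofHom (Ideal.Quotient.mk ((IsLocalRing.maximalIdeal A) ^ n)))) ≫ g) → f = g) ∧
    (∀ u : (n : ℕ) → (Spec (CommRingCat.of (A ⧸ (IsLocalRing.maximalIdeal A) ^ n)) ⟶ X),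
      (∀ n : ℕ, (Spec.map (CommRingCat.ofHom (Ideal.Quotient.factor
          (Ideal.pow_le_pow_right (I := (IsLocalRing.maximalIdeal A)) (Nat.le_succ n))))) ≫ u (n + 1) = u n) →
      ∃ f : (Spec (CommRingCat.of A)) ⟶ X, ∀ n : ℕ, (Spec.map (CommRingCat.ofHom (Ideal.Quotient.mk ((IsLocalRing.maximalIdeal A) ^ n)))) ≫ f = u n) := by
  set m := IsLocalRing.maximalIdeal A with hm
  have hcl : ∀ n : ℕ, ∀ p : PrimeSpectrum (A ⧸ m ^ n),
      PrimeSpectrum.comap (Ideal.Quotient.mk (m ^ n)) p = IsLocalRing.closedPoint A := fun n p => by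
    refine PrimeSpectrum.ext (le_antisymm (IsLocalRing.le_maximalIdeal (Ideal.IsPrime.ne_top (PrimeSpectrum.isPrime _))) ?_)
    intro a ha
    show Ideal.Quotient.mk (m ^ n) a ∈ p.asIdeal
    refine p.isPrime.mem_of_pow_mem n ?_
    rw [← map_pow, Ideal.Quotient.eq_zero_iff_mem.2 (Ideal.pow_mem_pow (show a ∈ m from ha) n)]
    exact zero_mem _
  have hpt : ∀ n : ℕ, 1 ≤ n → Nontrivial (A ⧸ m ^ n) := fun n hn =>
    Ideal.Quotient.nontrivial_iff.2 fun h => (IsLocalRing.maximalIdeal.isMaximal A).ne_top
      (top_le_iff.1 (h ▸ Ideal.pow_le_self (by omega)))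
  refine ⟨fun f g hfg => ?_, fun u hu => ?_⟩
  · obtain ⟨V, hV, hxV, -⟩ := exists_isAffineOpen_mem_and_subset (U := (⊤ : X.Opens)) (x := f.base (IsLocalRing.closedPoint A)) trivial
    have := hpt 1 le_rfl
    obtain ⟨p⟩ : Nonempty (PrimeSpectrum (A ⧸ m ^ 1)) := inferInstance
    have hgx : g.base (IsLocalRing.closedPoint A) ∈ V := by
      have e : g.base (IsLocalRing.closedPoint A) = f.base (IsLocalRing.closedPoint A) := by
        rw [← hcl 1 p]
        exact (congrArg (fun F : Spec (CommRingCat.of (A ⧸ m ^ 1)) ⟶ X => F.base p) (hfg 1)).symm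
      rw [e]; exact hxV
    obtain ⟨ψ, hψ⟩ := Groth.Agent.FtPoint.exists_factor f hV hxV
    obtain ⟨ψ', hψ'⟩ := Groth.Agent.FtPoint.exists_factor g hV hgx
    rw [hψ, hψ']
    congr 2
    ext a
    refine sub_eq_zero.1 (IsHausdorff.haus (I := m) inferInstance _ fun n => ?_)
    rw [SModEq.zero, smul_eq_mul, Ideal.mul_top]
    have h := hfg n
    rw [hψ, hψ', ← Category.assoc, ← Category.assoc, cancel_mono, ← Spec.map_comp, ← Spec.map_comp] at h
    exact Ideal.Quotient.eq.1 (congr($(Spec.map_injective h) a))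
  · have := hpt 1 le_rfl
    obtain ⟨p⟩ : Nonempty (PrimeSpectrum (A ⧸ m ^ 1)) := inferInstance
    obtain ⟨V, hV, hxV, -⟩ := exists_isAffineOpen_mem_and_subset (U := (⊤ : X.Opens)) (x := (u 1).base p) trivial
    have hmem : ∀ n : ℕ, ∀ q, (u n).base q ∈ V := by
      intro n
      rcases Nat.eq_zero_or_pos n with rfl | hn
      · intro q
        exact absurd (show (1 : A) ∈ m ^ 0 by simp) fun h => q.isPrime.ne_top
          ((Ideal.eq_top_iff_one _).2 (by
            rw [show (1 : A ⧸ m ^ 0) = 0 from Ideal.Quotient.eq_zero_iff_mem.2 h]; exact zero_mem _))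
      induction n, hn using Nat.le_induction with
      | base =>
        intro q
        have : q = p := PrimeSpectrum.comap_injective_of_surjective _ Ideal.Quotient.mk_surjective
          ((hcl 1 q).trans (hcl 1 p).symm)
        rw [this]; exact hxV
      | succ n hn ih =>
        intro q
        have := hpt n hn
        obtain ⟨q'⟩ : Nonempty (PrimeSpectrum (A ⧸ m ^ n)) := inferInstance
        have hq : q = PrimeSpectrum.comap (Ideal.Quotient.factor (Ideal.pow_le_pow_right (I := m) (Nat.le_succ n))) q' := by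
          refine PrimeSpectrum.comap_injective_of_surjective _ Ideal.Quotient.mk_surjective ((hcl (n + 1) q).trans ?_)
          rw [← PrimeSpectrum.comap_comp_apply, Ideal.Quotient.factor_comp_mk]
          exact (hcl n q').symm
        have := ih q'
        rw [← hu n] at this
        rw [hq]
        exact this
    have hlift : ∀ n : ℕ, ∃ ψ : Γ(X, V) ⟶ CommRingCat.of (A ⧸ m ^ n), u n = Spec.map ψ ≫ hV.fromSpec := fun n => by
      have hsub : Set.range (u n).base ⊆ Set.range hV.fromSpec.base := by
        rw [hV.range_fromSpec]; rintro _ ⟨q, rfl⟩; exact hmem n q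
      obtain ⟨ψ, hψ⟩ := Spec.map_surjective (IsOpenImmersion.lift hV.fromSpec (u n) hsub)
      exact ⟨ψ, by rw [hψ, IsOpenImmersion.lift_fac]⟩
    choose ψ hψ using hlift
    have hc1 : ∀ n, (Ideal.Quotient.factor (Ideal.pow_le_pow_right (I := m) (Nat.le_succ n))).comp (ψ (n + 1)).hom =
        (ψ n).hom := fun n => by
      have h := hu n
      rw [hψ n, hψ (n + 1), ← Category.assoc, cancel_mono, ← Spec.map_comp] at h
      exact congrArg CommRingCat.Hom.hom (Spec.map_injective h)
    have hc : ∀ {a b : ℕ} (hle : a ≤ b), (Ideal.Quotient.factorPow m hle).comp (ψ b).hom = (ψ a).hom := by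
      intro a b hle
      induction b, hle using Nat.le_induction with
      | base => ext x; simp
      | succ b hab ih =>
        rw [← ih, ← hc1 b, ← RingHom.comp_assoc]
        congr 1
        exact Ideal.Quotient.ringHom_ext (RingHom.ext fun x => rfl)
    refine ⟨Spec.map (CommRingCat.ofHom (IsAdicComplete.liftRingHom m (fun n => (ψ n).hom) hc)) ≫ hV.fromSpec, fun n => ?_⟩
    rw [hψ n, ← Category.assoc, ← Spec.map_comp, ← CommRingCat.ofHom_comp, IsAdicComplete.mk_comp_liftRingHom]
    rfl

end Groth.Agent.S8384
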