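import Groth.Statements.S8416
import Groth.Agent.FixLift.Scheme

set_option autoImplicit false
universe u
open CategoryTheory MonoidalCategory CartesianMonoidalCategory MonObj GrpObj AlgebraicGeometry
open SGA3x
open Groth.Agent.FixLift Groth.Agent.Transporter Groth.Agent.DiagAction

set_option backward.isDefEq.respectTransparency false

namespace Groth.Agent.S8416

/-- Let G be an S-group scheme of multiplicative type and of finite type acting on an S-scheme X which
is smooth, separated and of finite presentation over S, and suppose that the functor of fixed points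
X^G (T-points x of X with g · x_{T′} = x_{T′} for every T′ → T and every T′-point g of G) is
represented by a closed subscheme F of X. Then F is smooth over S. (The published statement, for
groups admitting a composition series of which groups of multiplicative type are one case, also
asserts that X^G is represented by a closed subscheme of X of finite presentation over S; this row
takes the representing closed subscheme as given and states its smoothness.) -/
theorem result (S : Scheme.{u}) (G : Over S) [GrpObj G]
    (hG : SGA3x.IsMultTypeFT G) (X : Over S) [Smooth X.hom] [QuasiCompact X.hom] [IsSeparated X.hom]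
    (a : AlgGrp.Action G X) (F : Scheme.{u}) (f : F ⟶ X.left) (hf : IsClosedImmersion f)
    (hF : ∀ (T : Over S) (x : T ⟶ X), (∃ y : T.left ⟶ F, y ≫ f = x.left) ↔
        ∀ (T' : Over S) (t : T' ⟶ T) (g : T' ⟶ G), lift g (t ≫ x) ≫ a.act = t ≫ x) :
    Smooth (f ≫ X.hom) := by
  have h := isMT_of_isMultTypeFT G hG
  obtain ⟨T, j, hj, hfp, hT⟩ := exists_fixedLocus a h
  haveI := hj
  haveI := hf
  let F' : Over S := Over.mk (f ≫ X.hom)
  let jF : F' ⟶ X := Over.homMk f
  haveI : Mono jF.left := inferInstanceAs (Mono f)
  have hF' : ∀ (Y : Over S) (x : Y ⟶ X), (∃ z : Y ⟶ F', z ≫ jF = x) ↔ Fixed a x := by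
    intro Y x
    constructor
    · rintro ⟨z, rfl⟩ Y' p g
      exact (hF Y (z ≫ jF)).mp ⟨z.left, rfl⟩ Y' p g
    · intro hx
      obtain ⟨y, hy⟩ := (hF Y x).mpr hx
      exact ⟨Over.homMk y (by rw [← Over.w x, ← hy, Category.assoc]; rfl), Over.OverMorphism.ext hy⟩
  haveI : Mono j := Over.mono_of_mono_left j
  haveI : Mono jF := Over.mono_of_mono_left jF
  obtain ⟨p, hp⟩ := (hT F' jF).mpr ((hF' F' jF).mp ⟨𝟙 _, Category.id_comp _⟩)
  obtain ⟨q, hq⟩ := (hF' T j).mpr ((hT T j).mp ⟨𝟙 _, Category.id_comp _⟩)
  haveI : IsIso p := ⟨q, by rw [← cancel_mono jF, Category.assoc, hq, hp, Category.id_comp],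
    by rw [← cancel_mono j, Category.assoc, hp, hq, Category.id_comp]⟩
  haveI : IsIso p.left := inferInstanceAs (IsIso ((Over.forget S).map p))
  haveI := hfp inferInstance
  have hl : LocallyOfFinitePresentation jF.left := by
    rw [← hp, Over.comp_left]
    infer_instance
  exact smooth_fixed a h jF hl hF'

end Groth.Agent.S8416
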