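import Groth.Statements.S8441


set_option autoImplicit false
universe u v w
open SGA3t2b

namespace Groth.Agent.S8441

theorem foldl_reflection_sub_mem {ι : Type*} {M : Type*} {N : Type*} [AddCommGroup M] [Module ℤ M]
    [AddCommGroup N] [Module ℤ N] (P : RootPairing ι ℤ M N) {α : Type*} (f : α → ι) (l : List α)
    (x : M) : l.foldl (fun x j => P.reflection (f j) x) x - x ∈
      Submodule.span ℤ ((fun j => P.root (f j)) '' {j | j ∈ l}) := by
  induction l generalizing x with
  | nil => simp
  | cons a l ih =>
    rw [List.foldl_cons, ← sub_add_sub_cancel _ (P.reflection (f a) x) x]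
    refine Submodule.add_mem _ (Submodule.span_mono (Set.image_mono fun j hj => ?_) (ih _)) ?_
    · exact List.mem_cons_of_mem _ hj
    · rw [RootPairing.reflection_apply, sub_sub_cancel_left]
      exact Submodule.neg_mem _ (Submodule.smul_mem _ _ (Submodule.subset_span ⟨a, List.mem_cons_self, rfl⟩))


/-- Let R be a root system with a system of simple roots a₁, …, aₙ and simple reflections rᵢ, and put θᵢ
= rₙ ⋯ rᵢ₊₁(aᵢ). Then the θᵢ form a basis of the group generated by the roots. Stated for a root
pairing over ℤ (Mathlib) with a base whose support is enumerated by Fin n: the θᵢ are ℤ-linearly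
independent and their ℤ-span is the ℤ-span of all roots. -/
theorem result {ι : Type u} {M : Type v} {N : Type w} [AddCommGroup M] [Module ℤ M]
    [AddCommGroup N] [Module ℤ N] (P : RootPairing ι ℤ M N) (b : P.Base) (n : ℕ) (e : Fin n ≃ ↥b.support) :
    LinearIndependent ℤ (fun i : Fin n =>
      ((List.finRange n).filter (fun j => i < j)).foldl (fun x j => P.reflection (e j : ι) x) (P.root (e i : ι))) ∧
    Submodule.span ℤ (Set.range (fun i : Fin n =>
      ((List.finRange n).filter (fun j => i < j)).foldl (fun x j => P.reflection (e j : ι) x) (P.root (e i : ι)))) =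
      Submodule.span ℤ (Set.range P.root) := by
  classical
  obtain rfl : ‹Module ℤ M› = AddCommGroup.toIntModule M := Subsingleton.elim _ _
  let a : Fin n → M := fun i => P.root (e i : ι)
  let θ : Fin n → M := fun i =>
    ((List.finRange n).filter (fun j => i < j)).foldl (fun x j => P.reflection (e j : ι) x) (P.root (e i : ι))
  change LinearIndependent ℤ θ ∧ Submodule.span ℤ (Set.range θ) = _
  have hθ : ∀ i, θ i - a i ∈ Submodule.span ℤ (a '' {j | i < j}) := by
    intro i
    refine Submodule.span_mono (Set.image_mono fun j hj => ?_)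
      (foldl_reflection_sub_mem P (fun j => (e j : ι)) _ _)
    simpa using hj
  have hspan : ∀ i, a i ∈ Submodule.span ℤ (Set.range θ) := by
    intro i
    induction i using WellFoundedGT.induction with
    | ind i ih =>
      have h : Submodule.span ℤ (a '' {j | i < j}) ≤ Submodule.span ℤ (Set.range θ) := by
        refine Submodule.span_le.2 ?_
        rintro _ ⟨j, hj, rfl⟩
        exact ih j hj
      have h' := Submodule.sub_mem _ (Submodule.subset_span ⟨i, rfl⟩ : θ i ∈ Submodule.span ℤ (Set.range θ)) (h (hθ i))
      rwa [sub_sub_cancel] at h'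
  have heq : Submodule.span ℤ (Set.range θ) = Submodule.span ℤ (Set.range a) := by
    refine le_antisymm (Submodule.span_le.2 ?_) (Submodule.span_le.2 ?_)
    · rintro _ ⟨i, rfl⟩
      have h := Submodule.span_mono (Set.image_subset_range a {j | i < j}) (hθ i)
      have h' := Submodule.add_mem _ h (Submodule.subset_span ⟨i, rfl⟩ : a i ∈ Submodule.span ℤ (Set.range a))
      rwa [sub_add_cancel] at h'
    · rintro _ ⟨i, rfl⟩
      exact hspan i
  have hrange : Set.range a = P.root '' b.support := by
    ext x
    constructor
    · rintro ⟨i, rfl⟩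
      exact ⟨_, (e i).2, rfl⟩
    · rintro ⟨j, hj, rfl⟩
      exact ⟨e.symm ⟨j, hj⟩, by simp [a]⟩
  have hroots : Submodule.span ℤ (Set.range θ) = Submodule.span ℤ (Set.range P.root) := by
    rw [heq, hrange, b.span_int_root_support]
  refine ⟨?_, hroots⟩
  have hli : LinearIndependent ℤ a := b.linearIndepOn_root.linearIndependent.comp e e.injective
  let B := Module.Basis.span hli
  have hmem : ∀ i, θ i ∈ Submodule.span ℤ (Set.range a) := fun i =>
    heq ▸ Submodule.subset_span ⟨i, rfl⟩
  let T : Submodule.span ℤ (Set.range a) →ₗ[ℤ] Submodule.span ℤ (Set.range a) :=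
    B.constr ℤ fun i => ⟨θ i, hmem i⟩
  have hT : Function.Surjective T := by
    rw [← LinearMap.range_eq_top, eq_top_iff]
    rintro ⟨x, hx⟩ -
    have hx' : x ∈ Submodule.span ℤ (Set.range θ) := heq ▸ hx
    have : (LinearMap.range T).map (Submodule.span ℤ (Set.range a)).subtype = Submodule.span ℤ (Set.range θ) := by
      rw [Module.Basis.constr_range, Submodule.map_span, ← Set.range_comp]
      rfl
    rw [← this] at hx'
    obtain ⟨z, hz, hzx⟩ := hx'
    rwa [show z = ⟨x, hx⟩ from Subtype.ext hzx] at hz
  haveI : Module.Finite ℤ (Submodule.span ℤ (Set.range a)) := Module.Finite.of_basis B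
  have hT' := OrzechProperty.injective_of_surjective_endomorphism T hT
  have h1 := (B.linearIndependent.map' T (LinearMap.ker_eq_bot.2 hT')).map'
    (Submodule.span ℤ (Set.range a)).subtype (Submodule.ker_subtype _)
  have h2 : (⇑(Submodule.span ℤ (Set.range a)).subtype ∘ ⇑T ∘ ⇑B) = θ := by
    funext i
    simp [T]
  rw [h2] at h1
  exact h1

end Groth.Agent.S8441
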