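import Groth.Statements.S8448
import Groth.Agent.RedPts.Glue

set_option autoImplicit false
universe u
open CategoryTheory MonoidalCategory CartesianMonoidalCategory MonObj GrpObj AlgebraicGeometry CategoryTheory.Limits
open Red

namespace Groth.Agent.S8448

/-- Let G be an S-group scheme, i : T ⟶ G a torus of G (a monomorphism of groups), α : T ⟶ 𝔾_m and α^* :
𝔾_m ⟶ T homomorphisms with α ∘ α^* the squaring map, and p₊, p₋ : 𝔾_a ⟶ G homomorphisms normalised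
by T with multipliers α and α⁻¹ which satisfy the rank-one commutation rule: whenever 1 + xy is
invertible, p₊(x) p₋(y) = p₋(y/(1+xy)) · i(α^*(1+xy)) · p₊(x/(1+xy)) (the situation of any reductive
group of semisimple rank 1 with trivialised root groups, where α^* is the coroot). For a point x of
𝔾_a whose coordinate is invertible put w(x) = p₊(x) p₋(-x⁻¹) p₊(x). Then w(x) normalises T: w(x)
i(t) w(x)⁻¹ = i(α^*(α(t)))⁻¹ · i(t) for every point t of T, and for every point z of 𝔾_m one has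
w(zx) = i(α^*(z)) · w(x) = w(x) · i(α^*(z))⁻¹. (The published statement is for a reductive group of
semisimple rank one with a maximal torus and a root; this row assumes only the commutation rule, the
normalisation of p₊, p₋ by T and α ∘ α^* the squaring map, which is all the published proof uses.) -/
theorem result (S : Scheme.{u}) (G T : Over S) [GrpObj G] [GrpObj T] (i : T ⟶ G) [IsMonHom i] [Mono i] (hT : Red.IsTorus T)
    (α : T ⟶ Red.Gm S) [IsMonHom α]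
    (pp pm : Red.Ga S ⟶ G) [IsMonHom pp] [IsMonHom pm]
    (hpp : ∀ (X : Over S) (t : X ⟶ T) (x : X ⟶ Red.Ga S), ∃ x' : X ⟶ Red.Ga S,
      x' ≫ pp = (t ≫ i) * (x ≫ pp) * (t ≫ i)⁻¹ ∧ Red.gaFn x' = Red.gmFn (t ≫ α) * Red.gaFn x)
    (hpm : ∀ (X : Over S) (t : X ⟶ T) (y : X ⟶ Red.Ga S), ∃ y' : X ⟶ Red.Ga S,
      y' ≫ pm = (t ≫ i) * (y ≫ pm) * (t ≫ i)⁻¹ ∧ Red.gaFn y' * Red.gmFn (t ≫ α) = Red.gaFn y)
    (av : Red.Gm S ⟶ T) [IsMonHom av] (h2 : av ≫ α = (𝟙 (Red.Gm S)) ^ 2)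
    (hF : ∀ (X : Over S) (x y : X ⟶ Red.Ga S), IsUnit (1 + Red.gaFn x * Red.gaFn y) →
      ∃ (x' y' : X ⟶ Red.Ga S) (z : X ⟶ Red.Gm S), Red.gmFn z = 1 + Red.gaFn x * Red.gaFn y ∧
        Red.gaFn x' * Red.gmFn z = Red.gaFn x ∧ Red.gaFn y' * Red.gmFn z = Red.gaFn y ∧
        (x ≫ pp) * (y ≫ pm) = (y' ≫ pm) * (z ≫ av ≫ i) * (x' ≫ pp))
    (X : Over S) (x x' : X ⟶ Red.Ga S) (hx : Red.gaFn x' * Red.gaFn x = -1) :
    (∀ t : X ⟶ T, ((x ≫ pp) * (x' ≫ pm) * (x ≫ pp)) * (t ≫ i) * ((x ≫ pp) * (x' ≫ pm) * (x ≫ pp))⁻¹ =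
        (t ≫ α ≫ av ≫ i)⁻¹ * (t ≫ i)) ∧
      ∀ (z : X ⟶ Red.Gm S) (y y' : X ⟶ Red.Ga S), Red.gaFn y = Red.gmFn z * Red.gaFn x →
        Red.gaFn y' * Red.gaFn y = -1 →
        (y ≫ pp) * (y' ≫ pm) * (y ≫ pp) = (z ≫ av ≫ i) * ((x ≫ pp) * (x' ≫ pm) * (x ≫ pp)) ∧
          (y ≫ pp) * (y' ≫ pm) * (y ≫ pp) = ((x ≫ pp) * (x' ≫ pm) * (x ≫ pp)) * (z ≫ av ≫ i)⁻¹ := by
  let Q := RedPts.data X i α pp pm hpp hpm av h2 hF
  have hW : ∀ a b, (a ≫ pp) * (b ≫ pm) * (a ≫ pp) = Q.W (Red.gaFn a) (Red.gaFn b) := fun a b =>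
    (RedPts.W_data i α pp pm hpp hpm av h2 hF a b).symm
  rw [hW x x']
  refine ⟨fun t => ?_, fun z y y' hy hy' => ?_⟩
  · let c := (RedPts.isUnit_gmFn (t ≫ α)).unit
    let s : X ⟶ T := (t ≫ α ≫ av)⁻¹ * t
    have hs : s ≫ i = (t ≫ α ≫ av ≫ i)⁻¹ * (t ≫ i) := by
      simp only [s, MonObj.mul_comp, GrpObj.inv_comp, Category.assoc]
    have hc : (RedPts.isUnit_gmFn (s ≫ α)).unit = c⁻¹ := by
      refine eq_inv_of_mul_eq_one_left (Units.ext ?_)
      rw [Units.val_mul, IsUnit.unit_spec, IsUnit.unit_spec, Units.val_one, ← RedPts.gmFn_mul, ← RedPts.gmFn_one (S := S) (X := X)]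
      congr 1
      simp only [s, MonObj.mul_comp, GrpObj.inv_comp, Category.assoc, h2, sq, MonObj.comp_mul, Category.comp_id]
      rw [_root_.mul_assoc, inv_mul_cancel]
    have hconj := Q.conj_W (s ≫ i) _ (RedPts.torus_conjP i α pp hpp s) (RedPts.torus_conjM i α pm hpm s)
      (Red.gaFn x) (Red.gaFn x')
    rw [hc, RedPts.RankOne.W_smul Q _ _ _ hx] at hconj
    have hh : (Q.h c⁻¹)⁻¹ = t ≫ α ≫ av ≫ i := by
      have hd := RedPts.h_data i α pp pm hpp hpm av h2 hF (t ≫ α)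
      rw [Category.assoc] at hd
      rw [← hd]
      apply inv_eq_of_mul_eq_one_left
      rw [← Q.h_mul, mul_inv_cancel, Q.h_one]
    rw [hh, hs, mul_inv_eq_iff_eq_mul] at hconj
    rw [mul_inv_eq_iff_eq_mul, hconj]
    group
  · let u := (RedPts.isUnit_gmFn z).unit
    have hy'' : Red.gaFn y' = ↑u⁻¹ * Red.gaFn x' := by
      rw [hy] at hy'
      have hu1 : (↑u⁻¹ : Γ(X.left, ⊤)) * Red.gmFn z = 1 := (RedPts.isUnit_gmFn z).val_inv_mul
      linear_combination (-(↑u⁻¹ : Γ(X.left, ⊤)) * Red.gaFn x') * hy' +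
        (↑u⁻¹ * Red.gmFn z * Red.gaFn y') * hx + (-Red.gaFn y') * hu1
    rw [hW y y', hy, hy'', ← RedPts.h_data i α pp pm hpp hpm av h2 hF z]
    exact ⟨RedPts.RankOne.W_smul' Q _ _ u hx, RedPts.RankOne.W_smul Q _ _ u hx⟩

end Groth.Agent.S8448
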