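import Groth.Statements.S8471
-- import your own Groth.Agent.* helpers here

set_option autoImplicit false
open Red

namespace Groth.Agent.S8471

open Polynomial in
theorem hom_eval {k R L : Type*} [Field k] [CommRing R] [Field L] (ψ : R →+* L) (f : k →+* R)
    (P : k[X]) (N : ℕ) (hN : P.natDegree ≤ N) (w d : R) (hd : ψ d ≠ 0) :
    ψ (∑ i ∈ Finset.range (N+1), f (P.coeff i) * w^i * d^(N-i)) =
      ψ d ^ N * P.eval₂ (ψ.comp f) (ψ w / ψ d) := by
  rw [map_sum, eval₂_eq_sum_range' _ (Nat.lt_succ_of_le hN), Finset.mul_sum]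
  refine Finset.sum_congr rfl fun i hi => ?_
  have hi' : i ≤ N := Nat.lt_succ_iff.mp (Finset.mem_range.mp hi)
  simp only [map_mul, map_pow, RingHom.comp_apply]
  rw [pow_sub₀ _ hd hi', div_pow]
  field_simp

open Polynomial in
theorem eval_var_ne_zero {k : Type*} [Field k] (P : k[X]) (hP : P ≠ 0) (i : Fin 2) :
    algebraMap (MvPolynomial (Fin 2) k) (FractionRing (MvPolynomial (Fin 2) k))
      (P.eval₂ MvPolynomial.C (MvPolynomial.X i)) ≠ 0 := by
  intro h
  rw [map_eq_zero_iff _ (IsFractionRing.injective _ _)] at h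
  have h2 := congrArg (MvPolynomial.eval₂Hom (Polynomial.C : k →+* k[X]) (fun _ => Polynomial.X)) h
  rw [hom_eval₂, map_zero, MvPolynomial.eval₂Hom_X'] at h2
  have h3 : (MvPolynomial.eval₂Hom (Polynomial.C : k →+* k[X]) (fun _ : Fin 2 => Polynomial.X)).comp
      MvPolynomial.C = Polynomial.C := by
    ext a; simp
  rw [h3, eval₂_C_X] at h2
  exact hP h2

open Polynomial in
theorem root_lin {k A : Type*} [Field k] [Field A] [IsAlgClosed A] (f : k →+* A) (G P Q : k[X])
    (hG : G ≠ 0) (hQ : Q ≠ 0) (β : A)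
    (h : G.eval₂ ((algebraMap A (RatFunc A)).comp f)
      (RatFunc.X + algebraMap A (RatFunc A) β *
        (P.eval₂ ((algebraMap A (RatFunc A)).comp f) RatFunc.X /
          Q.eval₂ ((algebraMap A (RatFunc A)).comp f) RatFunc.X)) = 0) :
    ∃ γ : A, Polynomial.C β * P.map f = (Polynomial.C γ - Polynomial.X) * Q.map f := by
  set g := (algebraMap A (RatFunc A)).comp f
  set z := RatFunc.X + algebraMap A (RatFunc A) β * (P.eval₂ g RatFunc.X / Q.eval₂ g RatFunc.X)
  have hz : IsAlgebraic A z :=
    ⟨G.map f, (Polynomial.map_ne_zero_iff f.injective).2 hG, by rw [aeval_def, eval₂_map]; exact h⟩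
  have hint := hz.isIntegral
  obtain ⟨γ, hγ⟩ := minpoly.mem_range_of_degree_eq_one A z
    (IsAlgClosed.degree_eq_one_of_irreducible A (minpoly.irreducible hint))
  refine ⟨γ, RatFunc.algebraMap_injective A ?_⟩
  have key : ∀ R : k[X], algebraMap A[X] (RatFunc A) (R.map f) = R.eval₂ g RatFunc.X := by
    intro R
    rw [← RatFunc.algebraMap_X]
    have : g = (algebraMap A[X] (RatFunc A)).comp (Polynomial.C.comp f) := by
      ext a; simp [g, RatFunc.algebraMap_C, RatFunc.algebraMap_eq_C]
    rw [this, ← hom_eval₂, ← eval₂_map, eval₂_C_X]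
  have hQ' : Q.eval₂ g RatFunc.X ≠ 0 := by
    rw [← key]
    exact (map_ne_zero_iff _ (RatFunc.algebraMap_injective A)).2
      ((Polynomial.map_ne_zero_iff f.injective).2 hQ)
  simp only [map_mul, map_sub, RatFunc.algebraMap_C, RatFunc.algebraMap_X, key]
  simp only [z, RatFunc.algebraMap_eq_C] at hγ
  rw [hγ]
  field_simp
  ring

/-- Let k be a field and F ∈ k(X) a rational function whose denominator does not vanish at 0 and with
F(0) = 1. Suppose that in the field of fractions L of k[X₀, X₁] one has F(X₀ + X₁ · F(X₀)) = F(X₀) ·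
F(X₁) (the functional equation F(x + y F(x)) = F(x) F(y)). Then there is a ∈ k with F = 1 + a X.
(The published statement takes the identity on an open neighbourhood of the origin of 𝔾_a × 𝔾_a on
which all terms are defined; this row takes it as an identity of rational functions in two
variables.) -/
theorem result (k : Type) [Field k] (F : RatFunc k)
    (h0 : F.denom.eval 0 ≠ 0) (h1 : F.num.eval 0 = F.denom.eval 0)
    (hFE : RatFunc.eval (algebraMap k (FractionRing (MvPolynomial (Fin 2) k)))
        (algebraMap (MvPolynomial (Fin 2) k) (FractionRing (MvPolynomial (Fin 2) k)) (MvPolynomial.X 0) +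
          algebraMap (MvPolynomial (Fin 2) k) (FractionRing (MvPolynomial (Fin 2) k)) (MvPolynomial.X 1) *
            RatFunc.eval (algebraMap k (FractionRing (MvPolynomial (Fin 2) k)))
              (algebraMap (MvPolynomial (Fin 2) k) (FractionRing (MvPolynomial (Fin 2) k)) (MvPolynomial.X 0)) F) F =
      RatFunc.eval (algebraMap k (FractionRing (MvPolynomial (Fin 2) k)))
          (algebraMap (MvPolynomial (Fin 2) k) (FractionRing (MvPolynomial (Fin 2) k)) (MvPolynomial.X 0)) F *
        RatFunc.eval (algebraMap k (FractionRing (MvPolynomial (Fin 2) k)))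
          (algebraMap (MvPolynomial (Fin 2) k) (FractionRing (MvPolynomial (Fin 2) k)) (MvPolynomial.X 1)) F) :
    ∃ a : k, F = 1 + RatFunc.C a * RatFunc.X := by
  classical
  open Polynomial in
  let R0 := MvPolynomial (Fin 2) k
  let L := FractionRing R0
  let φ : R0 →+* L := algebraMap R0 L
  set P := F.num with hPdef
  set Q := F.denom with hQdef
  have hQ : Q ≠ 0 := RatFunc.denom_ne_zero F
  have hP : P ≠ 0 := by
    intro h
    apply h0
    rw [← h1, h, Polynomial.eval_zero]
  have hC : φ.comp MvPolynomial.C = algebraMap k L := by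
    rw [IsScalarTower.algebraMap_eq k R0 L]
    rfl
  have hev : ∀ (G : Polynomial k) (i : Fin 2),
      G.eval₂ (algebraMap k L) (φ (MvPolynomial.X i)) =
        φ (G.eval₂ MvPolynomial.C (MvPolynomial.X i)) := by
    intro G i
    rw [← hC, Polynomial.hom_eval₂]
  simp only [RatFunc.eval, ← hPdef, ← hQdef] at hFE
  set x := φ (MvPolynomial.X 0) with hx
  set y := φ (MvPolynomial.X 1) with hy
  have hQx : Q.eval₂ (algebraMap k L) x ≠ 0 := by rw [hev]; exact eval_var_ne_zero Q hQ 0
  have hQy : Q.eval₂ (algebraMap k L) y ≠ 0 := by rw [hev]; exact eval_var_ne_zero Q hQ 1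
  have hPx : P.eval₂ (algebraMap k L) x ≠ 0 := by rw [hev]; exact eval_var_ne_zero P hP 0
  have hPy : P.eval₂ (algebraMap k L) y ≠ 0 := by rw [hev]; exact eval_var_ne_zero P hP 1
  set z := x + y * (P.eval₂ (algebraMap k L) x / Q.eval₂ (algebraMap k L) x) with hz
  change P.eval₂ (algebraMap k L) z / Q.eval₂ (algebraMap k L) z = _ at hFE
  have hQz : Q.eval₂ (algebraMap k L) z ≠ 0 := by
    intro h
    rw [h, div_zero] at hFE
    exact (mul_ne_zero (div_ne_zero hPx hQx) (div_ne_zero hPy hQy)) hFE.symm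
  have hFE' : P.eval₂ (algebraMap k L) z *
      (Q.eval₂ (algebraMap k L) x * Q.eval₂ (algebraMap k L) y) =
      (P.eval₂ (algebraMap k L) x * P.eval₂ (algebraMap k L) y) *
        Q.eval₂ (algebraMap k L) z := by
    rw [div_mul_div_comm, div_eq_div_iff hQz (mul_ne_zero hQx hQy)] at hFE
    exact hFE
  let e : Polynomial k → Fin 2 → R0 := fun G i => G.eval₂ MvPolynomial.C (MvPolynomial.X i)
  let w : R0 := MvPolynomial.X 0 * e Q 0 + MvPolynomial.X 1 * e P 0
  let N := max P.natDegree Q.natDegree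
  let hom : Polynomial k → R0 := fun G =>
    ∑ i ∈ Finset.range (N+1), MvPolynomial.C (G.coeff i) * w ^ i * e Q 0 ^ (N - i)
  have hid : hom P * (e Q 0 * e Q 1) = (e P 0 * e P 1) * hom Q := by
    apply IsFractionRing.injective R0 L
    have hw : φ w / φ (e Q 0) = z := by
      simp only [w, hz, e, map_add, map_mul, ← hev, ← hx, ← hy]
      rw [add_div, mul_div_cancel_right₀ _ hQx, mul_div_assoc]
    have hd : φ (e Q 0) ≠ 0 := by rw [← hev]; exact hQx
    change φ _ = φ _
    simp only [map_mul, hom]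
    rw [hom_eval φ _ P N (le_max_left _ _) w _ hd, hom_eval φ _ Q N (le_max_right _ _) w _ hd,
      hw, hC]
    simp only [e, ← hev, ← hx, ← hy]
    rw [mul_assoc, hFE']
    ring
  let A := AlgebraicClosure k
  let f : k →+* A := algebraMap k A
  let g : k →+* RatFunc A := (algebraMap A (RatFunc A)).comp f
  have spec : ∀ β : A,
      P.eval₂ g (RatFunc.X + algebraMap A (RatFunc A) β *
        (P.eval₂ g RatFunc.X / Q.eval₂ g RatFunc.X)) *
        (Q.eval₂ g RatFunc.X * algebraMap A (RatFunc A) (Q.eval₂ f β)) =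
      (P.eval₂ g RatFunc.X * algebraMap A (RatFunc A) (P.eval₂ f β)) *
      Q.eval₂ g (RatFunc.X + algebraMap A (RatFunc A) β *
        (P.eval₂ g RatFunc.X / Q.eval₂ g RatFunc.X)) := by
    intro β
    let ψ : R0 →+* RatFunc A :=
      MvPolynomial.eval₂Hom g ![RatFunc.X, algebraMap A (RatFunc A) β]
    have hψC : ψ.comp MvPolynomial.C = g := RingHom.ext fun a => MvPolynomial.eval₂Hom_C _ _ a
    have hψ0 : ψ (MvPolynomial.X 0) = RatFunc.X := MvPolynomial.eval₂Hom_X' _ _ _
    have hψ1 : ψ (MvPolynomial.X 1) = algebraMap A (RatFunc A) β := MvPolynomial.eval₂Hom_X' _ _ _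
    have he0 : ∀ G, ψ (e G 0) = G.eval₂ g RatFunc.X := by
      intro G
      simp only [e]
      rw [Polynomial.hom_eval₂, hψC, hψ0]
    have he1 : ∀ G, ψ (e G 1) = algebraMap A (RatFunc A) (G.eval₂ f β) := by
      intro G
      simp only [e]
      rw [Polynomial.hom_eval₂, hψC, hψ1, Polynomial.hom_eval₂]
    have hq : Q.eval₂ g RatFunc.X ≠ 0 := by
      intro h
      have h2 : (Q.map f).eval₂ (algebraMap A (RatFunc A)) RatFunc.X = 0 := by
        rw [Polynomial.eval₂_map]; exact h
      rw [← Polynomial.aeval_def, RatFunc.aeval_X_left_eq_algebraMap,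
        map_eq_zero_iff _ (RatFunc.algebraMap_injective A),
        Polynomial.map_eq_zero_iff f.injective] at h2
      exact hQ h2
    have hd : ψ (e Q 0) ≠ 0 := by rw [he0]; exact hq
    have h := congrArg ψ hid
    simp only [map_mul, hom] at h
    rw [hom_eval ψ _ P N (le_max_left _ _) w _ hd, hom_eval ψ _ Q N (le_max_right _ _) w _ hd,
      hψC, he0, he0, he1, he1] at h
    have hw : ψ w / Q.eval₂ g RatFunc.X = RatFunc.X + algebraMap A (RatFunc A) β *
        (P.eval₂ g RatFunc.X / Q.eval₂ g RatFunc.X) := by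
      simp only [w, map_add, map_mul, he0]
      rw [hψ0, hψ1, add_div, mul_div_cancel_right₀ _ hq, mul_div_assoc]
    rw [hw] at h
    refine mul_left_cancel₀ (pow_ne_zero N hq) ?_
    linear_combination h
  have hcop : ∀ β : A, P.eval₂ f β = 0 → Q.eval₂ f β ≠ 0 := by
    intro β hp hq
    obtain ⟨a, b, hab⟩ := RatFunc.isCoprime_num_denom F
    have := congrArg (Polynomial.eval₂ f β) hab
    simp [Polynomial.eval₂_add, Polynomial.eval₂_mul, ← hPdef, ← hQdef, hp, hq] at this
  have hgx : ∀ G : Polynomial k, G ≠ 0 → G.eval₂ g RatFunc.X ≠ 0 := by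
    intro G hG h
    have h2 : (G.map f).eval₂ (algebraMap A (RatFunc A)) RatFunc.X = 0 := by
      rw [Polynomial.eval₂_map]; exact h
    rw [← Polynomial.aeval_def, RatFunc.aeval_X_left_eq_algebraMap,
      map_eq_zero_iff _ (RatFunc.algebraMap_injective A),
      Polynomial.map_eq_zero_iff f.injective] at h2
    exact hG h2
  have hroot : ∀ G : Polynomial k, 0 < G.natDegree → ∃ β : A, G.eval₂ f β = 0 := by
    intro G hG
    obtain ⟨β, hβ⟩ := IsAlgClosed.exists_root (G.map f) (by
      rw [Polynomial.degree_map]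
      exact ne_of_gt (Polynomial.natDegree_pos_iff_degree_pos.1 hG))
    exact ⟨β, by rwa [Polynomial.IsRoot, Polynomial.eval_map] at hβ⟩
  have hzero : ∀ G : Polynomial k, G.eval 0 ≠ 0 → ∀ β : A, G.eval₂ f β = 0 → β ≠ 0 := by
    intro G hG β hβ hb
    rw [hb, Polynomial.eval₂_at_zero, Polynomial.coeff_zero_eq_eval_zero] at hβ
    exact hG ((map_eq_zero f).1 hβ)
  have hQ1 : Q = 1 := by
    refine (RatFunc.monic_denom F).natDegree_eq_zero.1 ?_
    by_contra hne
    obtain ⟨β, hβ⟩ := hroot Q (Nat.pos_of_ne_zero hne)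
    have h := spec β
    rw [hβ, map_zero, mul_zero, mul_zero, eq_comm, mul_eq_zero] at h
    have hpβ : P.eval₂ f β ≠ 0 := fun hp => hcop β hp hβ
    rcases h with h | h
    · exact mul_ne_zero (hgx P hP)
        ((map_ne_zero (algebraMap A (RatFunc A))).2 hpβ) h
    obtain ⟨γ, hγ⟩ := root_lin f Q P Q hQ hQ β h
    have hdvd : Q.map f ∣ Polynomial.C β :=
      ((RatFunc.isCoprime_num_denom F).symm.map (Polynomial.mapRingHom f)).dvd_of_dvd_mul_right
        ⟨Polynomial.C γ - Polynomial.X, hγ.trans (mul_comm _ _)⟩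
    have hu := isUnit_of_dvd_unit hdvd (Polynomial.isUnit_C.2 (hzero Q h0 β hβ).isUnit)
    exact hne (by simpa using Polynomial.natDegree_eq_zero_of_isUnit hu)
  have hdeg : P.natDegree ≤ 1 := by
    by_contra hne
    obtain ⟨β, hβ⟩ := hroot P (by omega)
    have h := spec β
    rw [hβ, map_zero, mul_zero, zero_mul, hQ1] at h
    simp only [Polynomial.eval₂_one, map_one, mul_one, div_one] at h
    obtain ⟨γ, hγ⟩ := root_lin f P P Q hP hQ β (by rw [hQ1, Polynomial.eval₂_one, div_one]; simpa only [mul_eq_zero, hgx P hP, or_false, false_or] using h)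
    rw [hQ1, Polynomial.map_one, mul_one] at hγ
    have h2 := congrArg Polynomial.natDegree hγ
    rw [Polynomial.natDegree_C_mul (hzero P (by rw [h1]; exact h0) β hβ),
      Polynomial.natDegree_map, Polynomial.natDegree_sub, Polynomial.natDegree_X_sub_C] at h2
    omega
  refine ⟨P.coeff 1, ?_⟩
  have hc0 : P.coeff 0 = 1 := by
    rw [Polynomial.coeff_zero_eq_eval_zero, h1, hQ1, Polynomial.eval_one]
  conv_lhs => rw [← RatFunc.num_div_denom F, ← hPdef, ← hQdef, hQ1,
    Polynomial.eq_X_add_C_of_natDegree_le_one hdeg, hc0]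
  simp [RatFunc.algebraMap_C, RatFunc.algebraMap_X]
  ring

end Groth.Agent.S8471
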