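import Groth.Statements.S8475
import Groth.Agent.RedPts.Glue
-- import your own Groth.Agent.* helpers here

set_option autoImplicit false
universe u
open CategoryTheory MonoidalCategory CartesianMonoidalCategory MonObj GrpObj AlgebraicGeometry CategoryTheory.Limits
open Red

namespace Groth.Agent.S8475

/-- Let G be a reductive S-group, i : T ⟶ G a maximal torus, α a character of T non-trivial on every
geometric fibre, p₊, p₋ : 𝔾_a ⟶ G monomorphisms of groups normalised by T with multipliers α and α⁻¹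
whose cell map (y, t, x) ↦ p₋(y) i(t) p₊(x) is an open immersion 𝔾_a ×_S T ×_S 𝔾_a ⟶ G, and α^* :
𝔾_m ⟶ T the coroot: α ∘ α^* is the squaring map and p₊(x) p₋(y) = p₋(y/(1+xy)) · i(α^*(1+xy)) ·
p₊(x/(1+xy)) whenever 1 + xy is invertible (so p₊ and p₋ are dual to each other). For a point x of
𝔾_a with invertible coordinate put w(x) = p₊(x) p₋(-x⁻¹) p₊(x). Then w(x) p₊(x) w(x)⁻¹ = p₋(-x⁻¹),
and consequently (w(x) p₊(x))³ = e. -/
theorem result (S : Scheme.{u}) (G T : Over S) [GrpObj G] [GrpObj T] (i : T ⟶ G) [IsMonHom i] [Mono i] (hG : Red.IsReductive G) (hTm : Red.IsMaximalTorus i)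
    (α : T ⟶ Red.Gm S) [IsMonHom α] (hα : ∀ s : S, (Over.pullback (Red.geomPt s)).map α ≠ 1)
    (pp pm : Red.Ga S ⟶ G) [IsMonHom pp] [Mono pp] [IsMonHom pm] [Mono pm]
    (hpp : ∀ (X : Over S) (t : X ⟶ T) (x : X ⟶ Red.Ga S), ∃ x' : X ⟶ Red.Ga S,
      x' ≫ pp = (t ≫ i) * (x ≫ pp) * (t ≫ i)⁻¹ ∧ Red.gaFn x' = Red.gmFn (t ≫ α) * Red.gaFn x)
    (hpm : ∀ (X : Over S) (t : X ⟶ T) (y : X ⟶ Red.Ga S), ∃ y' : X ⟶ Red.Ga S,
      y' ≫ pm = (t ≫ i) * (y ≫ pm) * (t ≫ i)⁻¹ ∧ Red.gaFn y' * Red.gmFn (t ≫ α) = Red.gaFn y)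
    (hΩ : IsOpenImmersion (((pm ⊗ₘ i) ⊗ₘ pp) ≫ (μ[G] ▷ G) ≫ μ[G]).left)
    (av : Red.Gm S ⟶ T) [IsMonHom av] (h2 : av ≫ α = (𝟙 (Red.Gm S)) ^ 2)
    (hF : ∀ (X : Over S) (x y : X ⟶ Red.Ga S), IsUnit (1 + Red.gaFn x * Red.gaFn y) →
      ∃ (x' y' : X ⟶ Red.Ga S) (z : X ⟶ Red.Gm S), Red.gmFn z = 1 + Red.gaFn x * Red.gaFn y ∧
        Red.gaFn x' * Red.gmFn z = Red.gaFn x ∧ Red.gaFn y' * Red.gmFn z = Red.gaFn y ∧
        (x ≫ pp) * (y ≫ pm) = (y' ≫ pm) * (z ≫ av ≫ i) * (x' ≫ pp))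
    (X : Over S) (x x' : X ⟶ Red.Ga S) (hx : Red.gaFn x' * Red.gaFn x = -1) :
    ((x ≫ pp) * (x' ≫ pm) * (x ≫ pp)) * (x ≫ pp) * ((x ≫ pp) * (x' ≫ pm) * (x ≫ pp))⁻¹ = x' ≫ pm ∧
      (((x ≫ pp) * (x' ≫ pm) * (x ≫ pp)) * (x ≫ pp)) ^ 3 = 1 := by
  let Q := RedPts.data X i α pp pm hpp hpm av h2 hF
  have hW : ∀ a b, (a ≫ pp) * (b ≫ pm) * (a ≫ pp) = Q.W (Red.gaFn a) (Red.gaFn b) := fun a b =>
    (RedPts.W_data i α pp pm hpp hpm av h2 hF a b).symm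
  have hb := RedPts.braid_points i α pp pm hpp hpm av h2 hF x x' hx
  generalize hu : x ≫ pp = u at hb ⊢
  generalize hv : x' ≫ pm = v at hb ⊢
  have e1 : u * v * u * u = v * (u * v * u) := by
    conv_lhs => rw [hb]
    group
  refine ⟨by rw [e1]; group, ?_⟩
  have hWW : (u * v * u) * (u * v * u) = Q.h (-1) := by
    rw [← hu, ← hv, hW x x']
    exact RedPts.RankOne.W_mul_W Q _ _ _ _ _ hx hx (by simp)
  have hcomm : Q.h (-1) * v = v * Q.h (-1) := by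
    have hv' : v = Q.M (Red.gaFn x') := by
      rw [← hv]
      exact congrArg (· ≫ pm) (RedPts.pA_gaFn x').symm
    rw [hv', ← mul_inv_eq_iff_eq_mul, Q.h_conjM]
    simp
  have h1 : Q.h (-1) * Q.h (-1) = 1 := by rw [← Q.h_mul, neg_one_mul, neg_neg, RedPts.RankOne.h_one]
  generalize Q.h (-1) = c at hWW hcomm h1
  calc (u * v * u * u) ^ 3 = v * ((u * v * u) * (u * v * u * u) * ((u * v * u) * u)) := by
        rw [pow_succ, sq]; conv_lhs => arg 1; arg 1; rw [e1]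
        group
    _ = v * (u * v * u) * (u * v * u) * (u * (u * v * u) * u) := by group
    _ = v * c * (u * (u * v * u) * u) := by rw [mul_assoc v, hWW]
    _ = c * (v * u * (v * (u * v * u))) := by
        rw [← hcomm]
        conv_rhs => rw [← e1]
        group
    _ = c * ((v * u * v) * (u * v * u)) := by group
    _ = c * ((u * v * u) * (u * v * u)) := by rw [← hb]
    _ = 1 := by rw [hWW, h1]


end Groth.Agent.S8475
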