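import Groth.Statements.S8524
import Groth.Agent.EtSite.Points
import Mathlib.AlgebraicGeometry.Morphisms.UniversallyOpen
import Mathlib.AlgebraicGeometry.Morphisms.Etale

set_option autoImplicit false
universe u
open CategoryTheory CategoryTheory.Limits AlgebraicGeometry Opposite
open EtAcyc

namespace Groth.Agent.S8524

/-- For the small etale site of a scheme and abelian sheaves: let L be a set of primes, F an abelian
L-torsion sheaf on the small etale site of a scheme X, and U an etale X-scheme with quasi-compact
underlying space. Then every section of F over U is killed by some positive integer all of whose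
prime factors lie in L. -/
theorem result {X : Scheme.{u}} (L : Set ℕ) (F : EtCoh.Ab X)
    (hF : EtAcyc.IsLTorsion L F) (U : X.Etale) [CompactSpace U.left] (s : EtCoh.sect F U) :
    ∃ m : ℕ, EtAcyc.PrimesIn L m ∧ m • s = 0 := by
  choose V g m hv hm hz using hF U s
  have ho : ∀ x : U.left, IsOpen (Set.range (g x).left.base) := fun x => by
    have : EtCoh.etaleMP (g x).left := inferInstance
    have : UniversallyOpen (g x).left := inferInstance
    exact (g x).left.isOpenMap.isOpen_range
  obtain ⟨T, hT⟩ := isCompact_univ.elim_finite_subcover _ ho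
    (fun x _ => Set.mem_iUnion.2 ⟨x, hv x⟩)
  refine ⟨∏ x ∈ T, m x, ⟨Finset.prod_pos fun x _ => (hm x).1, fun p hp hd => ?_⟩, ?_⟩
  · obtain ⟨x, _, hx⟩ := (hp.prime.dvd_finset_prod_iff _).1 hd
    exact (hm x).2 p hp hx
  let R : Sieve U :=
    { arrows := fun W a => F.obj.map a.op ((∏ x ∈ T, m x) • s) = F.obj.map a.op 0
      downward_closed := fun {W W'} a ha k => by
        simp only [op_comp, Functor.map_comp_apply, ha] }
  refine Presheaf.IsSheaf.isSeparated F.property U R
    (EtSite.mem_smallEtaleTopology_of_points U R fun y => ?_) _ 0 fun W a ha => ha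
  obtain ⟨x, hxT, v, hvy⟩ : ∃ x ∈ T, y ∈ Set.range (g x).left.base := by
    simpa using hT (Set.mem_univ y)
  refine ⟨V x, g x, v, ?_, hvy⟩
  obtain ⟨c, hc⟩ := Finset.dvd_prod_of_mem m hxT
  show F.obj.map (g x).op ((∏ x ∈ T, m x) • s) = F.obj.map (g x).op 0
  rw [map_zero, map_nsmul, hc, mul_comm, mul_smul, hz x, smul_zero]

end Groth.Agent.S8524
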