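import Groth.Prelude.Def_EtAcyc
import Groth.Agent.EtSite.Sect
-- import your own Groth.Agent.* helpers here

set_option autoImplicit false
universe u
open CategoryTheory CategoryTheory.Limits AlgebraicGeometry Opposite

namespace Groth.Agent.S8525

/-- Let L be a set of primes and F an abelian sheaf on the small etale site of a scheme X. Then F is an
L-torsion sheaf if and only if for every geometric point ξ of X every element of the stalk F_ξ is
killed by a positive integer all of whose prime factors lie in L. -/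
theorem result {X : Scheme.{u}} (L : Set ℕ) (F : EtCoh.Ab X) :
    EtAcyc.IsLTorsion L F ↔
      ∀ (Ω : Type u) [Field Ω] [IsSepClosed Ω] (ξ : Spec (CommRingCat.of Ω) ⟶ X)
        (t : (EtCoh.stalk ξ).obj F), ∃ m : ℕ, EtAcyc.PrimesIn L m ∧ m • t = 0 := by
  constructor
  · intro hF Ω _ _ ξ t
    obtain ⟨A, a, s, -, rfl⟩ := EtSite.Sect.exists_gm F ξ t
    obtain ⟨V, g, m, hv, hm, h0⟩ := hF A s (EtSite.Sect.pt a)
    obtain ⟨b, hb⟩ := EtSite.Sect.exists_pt g a hv
    refine ⟨m, hm, ?_⟩
    rw [← EtSite.FLCOps.gm_res F g hb s, ← map_nsmul, h0, map_zero]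
  · intro h U s x
    obtain ⟨m, hm, h0⟩ := h _ (EtSite.gpt x ≫ U.hom)
      (EtSite.FLCOps.gm _ F U (EtSite.tautPt U x) s)
    rw [← map_nsmul] at h0
    obtain ⟨V, g, hx, hg⟩ := EtSite.Sect.gm_eq_zero_iff_locally F x (m • s) h0
    exact ⟨V, g, m, hx, hm, (map_nsmul (F.obj.map g.op).hom m s).symm.trans hg⟩

end Groth.Agent.S8525
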