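import Groth.Prelude.Def_PBC
import Groth.Agent.EtSite.StrataLocus
-- import your own Groth.Agent.* helpers here

set_option autoImplicit false
universe u
open CategoryTheory CategoryTheory.Limits AlgebraicGeometry Opposite
open EtPBC

namespace Groth.Agent.S8526

/-- Let F be a constructible abelian sheaf on the small etale site of a scheme X. Then the support of F,
the set of points of X over which some geometric stalk of F is nonzero, is a locally constructible
subset of X. -/
theorem result {X : Scheme.{u}} (F : EtCoh.Ab X) (hF : EtPBC.IsConstructible F) :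
    Topology.IsLocallyConstructible (EtPBC.supp F) := by
  intro x
  obtain ⟨U, hU, hxU, -⟩ := exists_isAffineOpen_mem_and_subset (x := x) (U := ⊤) trivial
  refine ⟨U, U.2.mem_nhds hxU, U.2, ?_⟩
  have : IsAffine U.toScheme := hU
  have h := (EtSite.StrataLocus.isConstructible_locus (P := fun A => IsZero A)
    (fun e h => h.of_iso e.symm) (EtSite.StrataLocal.isConstructible_pull U.ι hF)).compl
  rw [← EtSite.StrataLocus.preimage_locus (P := fun A => IsZero A)
    (fun e h => h.of_iso e.symm) U.ι F, ← Set.preimage_compl] at h
  have e : EtPBC.supp F = (EtSite.StrataLocus.locus (fun A => IsZero A) F)ᶜ := by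
    ext y
    refine ⟨fun ⟨Ω, _, _, ξ, hr, hne⟩ hy => hne (hy Ω ξ
      ((EtSite.StrataLocus.range_eq_singleton_iff ξ y).1 hr)), fun hy => ?_⟩
    simp only [EtSite.StrataLocus.locus, Set.mem_compl_iff, Set.mem_ofPred_eq, not_forall] at hy
    obtain ⟨Ω, i1, i2, ξ, hr, hne⟩ := hy
    exact ⟨Ω, i1, i2, ξ, (EtSite.StrataLocus.range_eq_singleton_iff ξ y).2 hr, hne⟩
  rw [e]
  exact h

end Groth.Agent.S8526
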