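import Groth.Prelude.Def_EtAcyc
import Groth.Agent.S8525
import Groth.Agent.EtMV.ExtAdj
-- import your own Groth.Agent.* helpers here

set_option autoImplicit false
set_option backward.isDefEq.respectTransparency.types false
universe u
open CategoryTheory CategoryTheory.Limits AlgebraicGeometry Opposite CategoryTheory.Abelian

namespace Groth.Agent.S8536

/-- Let h : Y → X be a morphism of quasi-compact quasi-separated schemes, L a set of primes and n a
natural number, and suppose that for every abelian L-torsion sheaf on X the pullback map on etale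
cohomology along h is bijective in degrees ≤ n and injective in degree n + 1. Let u : F → G be a
monomorphism of abelian L-torsion sheaves on X and ξ a class in H^{n+1}(Y, h⁻¹F) whose image in
H^{n+1}(Y, h⁻¹G) comes from H^{n+1}(X, G). Then ξ comes from H^{n+1}(X, F). -/
theorem result {X Y : Scheme.{u}} [CompactSpace X] [QuasiSeparatedSpace X]
    [CompactSpace Y] [QuasiSeparatedSpace Y] (h : Y ⟶ X) (L : Set ℕ) (n : ℕ) (hc : EtAcyc.CompN h L n)
    [PreservesFiniteLimits (EtCoh.pull h)] {F G : EtCoh.Ab X} (u : F ⟶ G) [Mono u]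
    (hF : EtAcyc.IsLTorsion L F) (hG : EtAcyc.IsLTorsion L G)
    (ξ : EtCoh.H Y ((EtCoh.pull h).obj F) (n + 1))
    (hξ : (EtCoh.HF Y (n + 1)).map ((EtCoh.pull h).map u) ξ ∈ Set.range (EtCore.Hpull h G (n + 1))) :
    ξ ∈ Set.range (EtCore.Hpull h F (n + 1)) := by
  let E := ShortComplex.mk u (cokernel.π u) (cokernel.condition u)
  have hE : E.ShortExact := { exact := ShortComplex.exact_of_g_is_cokernel _ (cokernelIsCokernel u) }
  have hQ : EtAcyc.IsLTorsion L E.X₃ := (S8525.result L _).2 fun Ω _ _ p t => by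
    have : Epi E.g := hE.epi_g
    obtain ⟨s, rfl⟩ := (EtSite.epi_iff_stalks E.g).1 inferInstance Ω p t
    obtain ⟨m, hm, h0⟩ := (S8525.result L G).1 hG Ω p s
    exact ⟨m, hm, (map_nsmul ((EtCoh.stalk p).map E.g).hom m s).symm.trans
      ((congrArg _ h0).trans (map_zero _))⟩
  let P := EtCoh.pull h
  have hE' := hE.map_of_exact P
  let c := (EtCore.pullConst h ℤ).inv
  have hp : ∀ {A : EtCoh.Ab X} {q : ℕ} (x : EtCoh.H X A q),
      EtCore.Hpull h A q x = (Ext.mk₀ c).comp (x.mapExactFunctor P) (zero_add q) := fun x => rfl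
  have hnat : ∀ {A B : EtCoh.Ab X} {q : ℕ} (v : A ⟶ B) (x : EtCoh.H X A q),
      EtCore.Hpull h B q (x.comp (Ext.mk₀ v) (add_zero q)) =
        (EtCore.Hpull h A q x).comp (Ext.mk₀ (P.map v)) (add_zero q) := fun v x => by
    rw [hp, hp, Ext.mapExactFunctor_comp, Ext.mapExactFunctor_mk₀]
    exact (Ext.comp_assoc_of_third_deg_zero _ _ _ _).symm
  obtain ⟨η, hη⟩ := hξ
  have hη' : ξ.comp (Ext.mk₀ (P.map u)) (add_zero (n + 1)) = EtCore.Hpull h G (n + 1) η := hη.symm
  have h1 : η.comp (Ext.mk₀ E.g) (add_zero (n + 1)) = 0 := by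
    apply (hc E.X₃ hQ).2
    rw [hnat, map_zero, ← hη', Ext.comp_assoc_of_third_deg_zero, Ext.mk₀_comp_mk₀, ← P.map_comp,
      show u ≫ E.g = 0 from E.zero, P.map_zero, Ext.mk₀_zero, Ext.comp_zero]
  obtain ⟨η', hη''⟩ := Ext.covariant_sequence_exact₂ _ hE η h1
  have h2 : (ξ - EtCore.Hpull h F (n + 1) η').comp (Ext.mk₀ (E.map P).f) (add_zero (n + 1)) = 0 := by
    rw [sub_eq_add_neg, Ext.add_comp, Ext.neg_comp, ← sub_eq_add_neg, sub_eq_zero]
    exact hη'.trans ((congrArg (EtCore.Hpull h G (n + 1)) hη''.symm).trans (hnat u η'))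
  obtain ⟨z, hz⟩ := Ext.covariant_sequence_exact₁ _ hE' _ h2 rfl
  obtain ⟨z', hz'⟩ := ((hc E.X₃ hQ).1 n le_rfl).2 z
  refine ⟨η' + z'.comp hE.extClass rfl, ?_⟩
  rw [map_add, hp (z'.comp hE.extClass rfl), EtMV.mapExactFunctor_comp_extClass (R := P) hE z' rfl]
  erw [← Ext.comp_assoc (Ext.mk₀ c) (z'.mapExactFunctor P) (hE.map_of_exact P).extClass (zero_add n) rfl (by omega)]
  rw [show (Ext.mk₀ c).comp (z'.mapExactFunctor P) (zero_add n) = z from hz']
  exact (congrArg (fun w : EtCoh.H Y ((EtCoh.pull h).obj F) (n + 1) => EtCore.Hpull h F (n + 1) η' + w) hz).trans (add_sub_cancel _ _)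

end Groth.Agent.S8536
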