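import Groth.Statements.S8560
import Groth.Agent.S8525
import Groth.Agent.EtSite.RpushTorsion

set_option autoImplicit false
universe u
open CategoryTheory CategoryTheory.Limits AlgebraicGeometry Opposite
open EtAcyc

namespace Groth.Agent.S8560

/-- A prime outside `L` acts invertibly on an `L`-torsion sheaf. -/
theorem isIso_nsmul {X : Scheme.{u}} {L : Set ℕ} {F : EtCoh.Ab X} (hF : EtAcyc.IsLTorsion L F)
    {p : ℕ} (hp : p.Prime) (hL : p ∉ L) : IsIso (p • 𝟙 F) := by
  refine EtSite.isIso_of_stalks _ fun Ω _ _ ξ => ?_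
  have he : (EtCoh.stalk ξ).map (p • 𝟙 F) = p • 𝟙 ((EtCoh.stalk ξ).obj F) :=
    ((EtCoh.stalk ξ).map_nsmul (f := 𝟙 F) (n := p)).trans
      (congrArg (p • ·) ((EtCoh.stalk ξ).map_id F))
  rw [he, ConcreteCategory.isIso_iff_bijective]
  have hx : ∀ x : (EtCoh.stalk ξ).obj F,
      (p • 𝟙 ((EtCoh.stalk ξ).obj F) : (EtCoh.stalk ξ).obj F ⟶ _) x = p • x := fun x => by
    simp
  have key : ∀ x : (EtCoh.stalk ξ).obj F, ∃ a : ℤ, a • (p • x) = x := fun x => by
    obtain ⟨m, ⟨-, hm⟩, hmx⟩ := (Groth.Agent.S8525.result L F).1 hF Ω ξ x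
    have hc : Nat.Coprime p m := hp.coprime_iff_not_dvd.2 fun h => hL (hm p hp h)
    obtain ⟨a, b, hab⟩ := (Int.isCoprime_iff_gcd_eq_one.2 hc : IsCoprime (p : ℤ) (m : ℤ))
    refine ⟨a, ?_⟩
    calc a • (p • x) = (a * p) • x + b • (m • x) := by
          rw [hmx, zsmul_zero, add_zero, mul_zsmul, natCast_zsmul]
      _ = x := by
          rw [← natCast_zsmul x m, ← mul_zsmul, ← add_zsmul, hab, one_zsmul]
  refine ⟨fun x y h => ?_, fun x => ?_⟩
  · rw [hx, hx, ← sub_eq_zero, ← nsmul_sub] at h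
    obtain ⟨a, ha⟩ := key (x - y)
    rw [h, zsmul_zero] at ha
    exact sub_eq_zero.1 ha.symm
  · obtain ⟨a, ha⟩ := key x
    exact ⟨a • x, (hx _).trans ((smul_comm p a x).trans ha)⟩

theorem app_nsmul {X : Scheme.{u}} (G : EtCoh.Ab X) (W : X.Etale) (s : EtCoh.sect G W) : ∀ k : ℕ,
    (k • 𝟙 G).hom.app (op W) s = k • s
  | 0 => by rw [zero_smul, zero_smul]; rfl
  | k + 1 => by rw [succ_nsmul, succ_nsmul, ← app_nsmul G W s k]; rfl

/-- For the etale sites of schemes and a set of primes L: if f : X ⟶ Y is a quasi-compact and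
quasi-separated morphism of schemes and F is an abelian L-torsion sheaf on the small etale site of X
(every section is, etale-locally around each point, killed by a positive integer all of whose prime
factors lie in L), then each higher direct image R^q f_* F is an L-torsion sheaf on Y. (The
published statement, for topoi, asks only that the morphism be quasi-compact; this row also assumes
f quasi-separated: for the spectrum of a polynomial ring in countably many variables over a
separably closed field glued to a copy of itself along the complement of the origin, and the direct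
sum of the skyscraper sheaves ℤ/pⁿ at the points where exactly the n-th variable is 1, the structure
morphism to the field is quasi-compact but H¹ contains a class of infinite order.) -/
theorem result {X Y : Scheme.{u}} (f : X ⟶ Y) [QuasiCompact f] [QuasiSeparated f]
    [EtCoh.BCCont f] (L : Set ℕ) (F : EtCoh.Ab X) (hF : EtAcyc.IsLTorsion L F) (q : ℕ) :
    EtAcyc.IsLTorsion L ((EtCoh.Rpush f q).obj F) := by
  intro U s x
  have hT : EtCoh.IsTorsion F := fun U s x => by
    obtain ⟨V, g, m, hv, hm, h0⟩ := hF U s x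
    exact ⟨V, g, hv, isOfFinAddOrder_iff_nsmul_eq_zero.2 ⟨m, hm.1, h0⟩⟩
  obtain ⟨V, g, hv, ho⟩ := EtSite.RpushTorsion.isTorsion_Rpush f F hT q U s x
  obtain ⟨m, hm, h0⟩ := isOfFinAddOrder_iff_nsmul_eq_zero.1 ho
  suffices h : ∀ (m : ℕ) (t : EtCoh.sect ((EtCoh.Rpush f q).obj F) V), 0 < m → m • t = 0 →
      ∃ k, EtAcyc.PrimesIn L k ∧ k • t = 0 by
    obtain ⟨k, hk, hk0⟩ := h m _ hm h0
    exact ⟨V, g, k, hv, hk, hk0⟩
  intro m
  induction m using Nat.strong_induction_on with
  | _ m ih =>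
    intro t hm h0
    by_cases hP : EtAcyc.PrimesIn L m
    · exact ⟨m, hP, h0⟩
    obtain ⟨p, hp, ⟨c, hc⟩, hpL⟩ : ∃ p, p.Prime ∧ p ∣ m ∧ p ∉ L := by
      by_contra hne
      exact hP ⟨hm, fun p hp hd => by_contra fun hL => hne ⟨p, hp, hd, hL⟩⟩
    subst hc
    have hc0 : 0 < c := Nat.pos_of_ne_zero fun h => by simp [h] at hm
    refine ih c (lt_mul_of_one_lt_left hc0 hp.one_lt) t hc0 ?_
    have := isIso_nsmul hF hp hpL
    have he : (EtCoh.Rpush f q).map (p • 𝟙 F) = p • 𝟙 ((EtCoh.Rpush f q).obj F) :=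
      ((EtCoh.Rpush f q).map_nsmul (f := 𝟙 F) (n := p)).trans
        (congrArg (p • ·) ((EtCoh.Rpush f q).map_id F))
    have hi : IsIso (p • 𝟙 ((EtCoh.Rpush f q).obj F)) := he ▸ inferInstance
    refine EtSite.RpushTorsion.app_injective (p • 𝟙 ((EtCoh.Rpush f q).obj F)) V ?_
    rw [app_nsmul, map_zero, ← mul_smul, h0]

end Groth.Agent.S8560
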