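import Groth.Statements.S8565
import Groth.Agent.S6800
import Mathlib.AlgebraicTopology.SimplicialObject.Coskeletal
import Mathlib.AlgebraicTopology.SimplicialObject.Homotopy
import Mathlib.CategoryTheory.Functor.KanExtension.Pointwise

set_option autoImplicit false
open CategoryTheory CategoryTheory.Limits Opposite
universe v u
open Hyper

namespace Groth.Agent.S8565

open SimplexCategory Simplicial Opposite

set_option linter.style.haveILetI false
set_option backward.isDefEq.respectTransparency false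
set_option backward.isDefEq.respectTransparency.types false
set_option backward.defeqAttrib.useBackward true

variable {E : Type u} [Category.{v} E] {n : ℕ} {Y Y' : SimplicialObject E}

/-- A map between simplices of the truncated category. -/
abbrev ord {a b : (SimplexCategory.Truncated n)ᵒᵖ} (m : a ⟶ b) : Fin (b.unop.1.len + 1) → Fin (a.unop.1.len + 1) :=
  ((Truncated.inclusion n).map m.unop).toOrderHom

variable {T : (SimplexCategory.Truncated n)ᵒᵖ ⥤ E} (ε : (Truncated.inclusion n).op ⋙ Y' ⟶ T)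
  (v₀ v₁ : (Truncated.inclusion n).op ⋙ Y ⟶ T)
  (hlow : ∀ a : (SimplexCategory.Truncated n)ᵒᵖ, a.unop.1.len < n → v₀.app a = v₁.app a)

open Classical in
/-- The component attached to a colouring of the vertices. -/
noncomputable def colT (a : (SimplexCategory.Truncated n)ᵒᵖ) (χ : Fin (a.unop.1.len + 1) → Bool) :
    Y.obj ((Truncated.inclusion n).op.obj a) ⟶ T.obj a :=
  if ∀ i, χ i = true then v₁.app a else v₀.app a

include hlow in
lemma colT_natural {a b : (SimplexCategory.Truncated n)ᵒᵖ} (m : a ⟶ b) (χ : Fin (a.unop.1.len + 1) → Bool) :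
    Y.map ((Truncated.inclusion n).op.map m) ≫ colT v₀ v₁ b (χ ∘ ord m) = colT v₀ v₁ a χ ≫ T.map m := by
  have hn : ∀ v : (Truncated.inclusion n).op ⋙ Y ⟶ T,
      Y.map ((Truncated.inclusion n).op.map m) ≫ v.app b = v.app a ≫ T.map m := fun v => v.naturality m
  have key : Y.map ((Truncated.inclusion n).op.map m) ≫ v₀.app b = Y.map ((Truncated.inclusion n).op.map m) ≫ v₁.app b →
      Y.map ((Truncated.inclusion n).op.map m) ≫ colT v₀ v₁ b (χ ∘ ord m) = colT v₀ v₁ a χ ≫ T.map m := fun e => by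
    unfold colT
    split <;> split
    all_goals first
      | exact hn _
      | exact e ▸ hn _
  rcases lt_or_eq_of_le b.unop.2 with hb | hb
  · exact key (by rw [hlow b hb])
  rcases lt_or_eq_of_le a.unop.2 with ha | ha
  · exact key ((hn v₀).trans ((congrArg (fun t => t ≫ T.map m) (hlow a ha)).trans (hn v₁).symm))
  by_cases hs : Function.Surjective ((Truncated.inclusion n).map m.unop).toOrderHom
  · have e : (∀ i, (χ ∘ ord m) i = true) ↔ ∀ i, χ i = true :=
      ⟨fun h i => (hs i).elim fun j hj => hj ▸ h j, fun h i => h _⟩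
    unfold colT
    by_cases h : ∀ i, χ i = true
    · rw [if_pos h, if_pos (e.2 h)]
      exact hn _
    · rw [if_neg h, if_neg (fun h' => h (e.1 h'))]
      exact hn _
  · refine key ?_
    obtain ⟨⟨⟨p⟩, hp⟩⟩ := a
    change p = n at ha
    match p, ha, hp, m, hs with
    | 0, _, _, m, hs => exact absurd (fun i => ⟨0, Subsingleton.elim (α := Fin 1) _ _⟩) hs
    | q + 1, ha, hp, m, hs =>
      obtain ⟨i, α, hα⟩ := SimplexCategory.eq_comp_δ_of_not_surjective ((Truncated.inclusion n).map m.unop) hs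
      let c : (SimplexCategory.Truncated n)ᵒᵖ := op ⟨⦋q⦌, show q ≤ n by omega⟩
      let m1 : op (⟨⦋q + 1⦌, hp⟩ : SimplexCategory.Truncated n) ⟶ c := (ObjectProperty.homMk (SimplexCategory.δ i)).op
      let m2 : c ⟶ b := (ObjectProperty.homMk α).op
      have hm : m = m1 ≫ m2 := Quiver.Hom.unop_inj (ObjectProperty.hom_ext _ hα)
      rw [hm]
      have h2 : ∀ v : (Truncated.inclusion n).op ⋙ Y ⟶ T,
          Y.map ((Truncated.inclusion n).op.map (m1 ≫ m2)) ≫ v.app b =
            Y.map ((Truncated.inclusion n).op.map m1) ≫ v.app c ≫ T.map m2 := fun v => by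
        rw [Functor.map_comp, Functor.map_comp, Category.assoc]
        exact congrArg _ (v.naturality m2)
      rw [h2, h2, hlow c (show q < n by omega)]

variable (hε : (Functor.RightExtension.mk _ ε).IsPointwiseRightKanExtension)

/-- The cone over the simplices of the truncation. -/
noncomputable def psiCone (p : ℕ) (q : SimplexCategoryᵒᵖ) (σ : q ⟶ op ⦋p⦌) (χ : Fin (p + 1) → Bool) :
    Limits.Cone (StructuredArrow.proj (op ⦋p⦌) (Truncated.inclusion n).op ⋙ T) :=
  Limits.Cone.mk (Y.obj q)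
    { app := fun j => Y.map (σ ≫ j.hom) ≫ colT v₀ v₁ j.right (χ ∘ j.hom.unop.toOrderHom)
      naturality := fun j k φ => by
        dsimp
        rw [Category.id_comp, Category.assoc, ← colT_natural v₀ v₁ hlow φ.right, ← Category.assoc, ← Y.map_comp]
        have w : j.hom ≫ (Truncated.inclusion n).op.map φ.right = k.hom := StructuredArrow.w φ
        have wf : (j.hom.unop.toOrderHom : Fin _ → Fin (p + 1)) ∘ ord φ.right = k.hom.unop.toOrderHom := by
          rw [← w]
          rfl
        rw [Category.assoc σ j.hom, w, Function.comp_assoc]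
        exact congrArg (fun t => Y.map (σ ≫ k.hom) ≫ colT v₀ v₁ k.right (χ ∘ t)) wf.symm }

/-- The map from the degree `q` of `Y` to the degree `p` of `Y'`. -/
noncomputable def psi (p : ℕ) (q : SimplexCategoryᵒᵖ) (σ : q ⟶ op ⦋p⦌) (χ : Fin (p + 1) → Bool) :
    Y.obj q ⟶ Y'.obj (op ⦋p⦌) :=
  (hε (op ⦋p⦌)).lift (psiCone v₀ v₁ hlow p q σ χ)

lemma psi_π {p : ℕ} {q : SimplexCategoryᵒᵖ} (σ : q ⟶ op ⦋p⦌) (χ : Fin (p + 1) → Bool)
    (j : StructuredArrow (op ⦋p⦌) (Truncated.inclusion n).op) :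
    psi ε v₀ v₁ hlow hε p q σ χ ≫ Y'.map j.hom ≫ ε.app j.right =
      Y.map (σ ≫ j.hom) ≫ colT v₀ v₁ j.right (χ ∘ j.hom.unop.toOrderHom) :=
  (hε (op ⦋p⦌)).fac (psiCone v₀ v₁ hlow p q σ χ) j

include hε in
lemma hom_ext_π {Z : E} {p : ℕ} {f g : Z ⟶ Y'.obj (op ⦋p⦌)}
    (h : ∀ j : StructuredArrow (op ⦋p⦌) (Truncated.inclusion n).op,
      f ≫ Y'.map j.hom ≫ ε.app j.right = g ≫ Y'.map j.hom ≫ ε.app j.right) : f = g :=
  (hε (op ⦋p⦌)).hom_ext h

lemma psi_map {p r : ℕ} {q : SimplexCategoryᵒᵖ} (σ : q ⟶ op ⦋p⦌) (χ : Fin (p + 1) → Bool) (α : ⦋r⦌ ⟶ ⦋p⦌) :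
    psi ε v₀ v₁ hlow hε p q σ χ ≫ Y'.map α.op =
      psi ε v₀ v₁ hlow hε r q (σ ≫ α.op) (χ ∘ α.toOrderHom) := by
  refine hom_ext_π ε hε fun j => ?_
  rw [psi_π, Category.assoc, ← Y'.map_comp_assoc]
  refine (psi_π ε v₀ v₁ hlow hε σ χ (StructuredArrow.mk (α.op ≫ j.hom))).trans ?_
  rw [Category.assoc]
  rfl

lemma map_psi {p : ℕ} {q q' : SimplexCategoryᵒᵖ} (β : q' ⟶ q) (σ : q ⟶ op ⦋p⦌) (χ : Fin (p + 1) → Bool) :
    Y.map β ≫ psi ε v₀ v₁ hlow hε p q σ χ = psi ε v₀ v₁ hlow hε p q' (β ≫ σ) χ := by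
  refine hom_ext_π ε hε fun j => ?_
  rw [Category.assoc, psi_π, psi_π, Category.assoc, ← Y.map_comp_assoc]

lemma psi_true (w : Y ⟶ Y') (hw : ∀ a, w.app _ ≫ ε.app a = v₁.app a) (p : ℕ) (σ : op ⦋p⦌ ⟶ op ⦋p⦌) (hσ : σ = 𝟙 _)
    (χ : Fin (p + 1) → Bool) (hχ : ∀ i, χ i = true) :
    psi ε v₀ v₁ hlow hε p (op ⦋p⦌) σ χ = w.app (op ⦋p⦌) := by
  refine hom_ext_π ε hε fun j => ?_
  subst hσ
  rw [psi_π, Category.id_comp, ← Category.assoc (w.app _), ← w.naturality, Category.assoc, hw, colT]
  exact congrArg (fun t => Y.map j.hom ≫ t) (if_pos fun i => hχ _)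

lemma psi_false (w : Y ⟶ Y') (hw : ∀ a, w.app _ ≫ ε.app a = v₀.app a) (p : ℕ) (σ : op ⦋p⦌ ⟶ op ⦋p⦌) (hσ : σ = 𝟙 _)
    (χ : Fin (p + 1) → Bool) (hχ : ∀ i, χ i = false) :
    psi ε v₀ v₁ hlow hε p (op ⦋p⦌) σ χ = w.app (op ⦋p⦌) := by
  refine hom_ext_π ε hε fun j => ?_
  subst hσ
  rw [psi_π, Category.id_comp, ← Category.assoc (w.app _), ← w.naturality, Category.assoc, hw, colT]
  exact congrArg (fun t => Y.map j.hom ≫ t)
    (if_neg fun h => Bool.false_ne_true ((hχ _).symm.trans (h 0)))

/-- Colouring for the `i`-th prism. -/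
def prism {p : ℕ} (i : Fin (p + 1)) (j : Fin (p + 2)) : Bool := decide (i.castSucc < j)

lemma psi_congr {p : ℕ} {q : SimplexCategoryᵒᵖ} {σ σ' : q ⟶ op ⦋p⦌} {χ χ' : Fin (p + 1) → Bool}
    (hσ : σ = σ') (hχ : χ = χ') : psi ε v₀ v₁ hlow hε p q σ χ = psi ε v₀ v₁ hlow hε p q σ' χ' := by
  subst hσ hχ; rfl

/-- The homotopy. -/
noncomputable def homotopy (w₀ w₁ : Y ⟶ Y') (h₀ : ∀ a, w₀.app _ ≫ ε.app a = v₀.app a)
    (h₁ : ∀ a, w₁.app _ ≫ ε.app a = v₁.app a) : SimplicialObject.Homotopy w₀ w₁ where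
  h {p} i := psi ε v₀ v₁ hlow hε (p + 1) (op ⦋p⦌) (SimplexCategory.σ i).op (prism i)
  h_zero_comp_δ_zero p := by
    refine (psi_map ε v₀ v₁ hlow hε _ _ (SimplexCategory.δ 0)).trans (psi_true ε v₀ v₁ hlow hε w₁ h₁ p _ ?_ _ ?_)
    · exact op_comp.symm.trans (congrArg Quiver.Hom.op (SimplexCategory.δ_comp_σ_self (i := (0 : Fin (p + 1)))))
    · intro i
      simp [prism, SimplexCategory.δ, Fin.lt_def]
  h_last_comp_δ_last p := by
    refine (psi_map ε v₀ v₁ hlow hε _ _ (SimplexCategory.δ (Fin.last (p + 1)))).trans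
      (psi_false ε v₀ v₁ hlow hε w₀ h₀ p _ ?_ _ ?_)
    · refine op_comp.symm.trans (congrArg Quiver.Hom.op ?_)
      have := SimplexCategory.δ_comp_σ_succ (i := Fin.last p)
      simpa using this
    · intro i
      simp [prism, SimplexCategory.δ, Fin.lt_def]
      omega
  h_succ_comp_δ_castSucc_of_lt {p} i j hij := by
    refine (psi_map ε v₀ v₁ hlow hε _ _ (SimplexCategory.δ i.castSucc)).trans
      (Eq.trans ?_ (map_psi ε v₀ v₁ hlow hε (SimplexCategory.δ i).op _ _).symm)
    refine psi_congr ε v₀ v₁ hlow hε ?_ (funext fun k => ?_)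
    · rw [← op_comp, ← op_comp, SimplexCategory.δ_comp_σ_of_le hij]
    · rw [Fin.le_def] at hij
      simp only [prism, Function.comp_apply, decide_eq_decide]
      simp only [SimplexCategory.δ, Hom.toOrderHom_mk, mkHom, OrderEmbedding.toOrderHom_coe, Fin.succAboveOrderEmb_apply, Fin.succAbove, Fin.lt_def]
      simp only [Fin.val_castSucc] at hij ⊢
      split <;> simp only [Fin.val_succ, Fin.val_castSucc] <;> omega
  h_succ_comp_δ_castSucc_succ {p} j := by
    refine (psi_map ε v₀ v₁ hlow hε _ _ (SimplexCategory.δ j.castSucc.succ)).trans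
      (Eq.trans ?_ (psi_map ε v₀ v₁ hlow hε _ _ (SimplexCategory.δ j.castSucc.succ)).symm)
    refine psi_congr ε v₀ v₁ hlow hε ?_ (funext fun k => ?_)
    · rw [← op_comp, ← op_comp, SimplexCategory.δ_comp_σ_succ]
      congr 1
      rw [Fin.succ_castSucc]
      exact SimplexCategory.δ_comp_σ_self
    · simp only [prism, Function.comp_apply, decide_eq_decide]
      simp only [SimplexCategory.δ, Hom.toOrderHom_mk, mkHom, OrderEmbedding.toOrderHom_coe, Fin.succAboveOrderEmb_apply, Fin.succAbove, Fin.lt_def]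
      split <;> simp only [Fin.val_succ, Fin.val_castSucc] at * <;> omega
  h_castSucc_comp_δ_succ_of_lt {p} i j hji := by
    refine (psi_map ε v₀ v₁ hlow hε _ _ (SimplexCategory.δ i.succ)).trans
      (Eq.trans ?_ (map_psi ε v₀ v₁ hlow hε (SimplexCategory.δ i).op _ _).symm)
    refine psi_congr ε v₀ v₁ hlow hε ?_ (funext fun k => ?_)
    · rw [← op_comp, ← op_comp, SimplexCategory.δ_comp_σ_of_gt hji]
    · rw [Fin.lt_def] at hji
      simp only [prism, Function.comp_apply, decide_eq_decide]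
      simp only [SimplexCategory.δ, Hom.toOrderHom_mk, mkHom, OrderEmbedding.toOrderHom_coe, Fin.succAboveOrderEmb_apply, Fin.succAbove, Fin.lt_def]
      simp only [Fin.val_castSucc] at hji ⊢
      split <;> simp only [Fin.val_succ, Fin.val_castSucc] at * <;> omega
  h_comp_σ_castSucc_of_le {p} i j hij := by
    refine (psi_map ε v₀ v₁ hlow hε _ _ (SimplexCategory.σ i.castSucc)).trans
      (Eq.trans ?_ (map_psi ε v₀ v₁ hlow hε (SimplexCategory.σ i).op _ _).symm)
    refine psi_congr ε v₀ v₁ hlow hε ?_ (funext fun k => ?_)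
    · rw [← op_comp, ← op_comp, SimplexCategory.σ_comp_σ hij]
    · rw [Fin.le_def] at hij
      simp only [prism, Function.comp_apply, decide_eq_decide]
      simp only [SimplexCategory.σ, Hom.toOrderHom_mk, mkHom, OrderHom.coe_mk, Fin.predAboveOrderHom, Fin.predAbove, Fin.lt_def]
      split
      all_goals
        rename_i h
        have h' := h
        simp only [Fin.val_succ, Fin.val_castSucc, Fin.coe_castPred, Fin.val_pred] at h' ⊢
        omega
  h_comp_σ_succ_of_lt {p} i j hji := by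
    refine (psi_map ε v₀ v₁ hlow hε _ _ (SimplexCategory.σ i.succ)).trans
      (Eq.trans ?_ (map_psi ε v₀ v₁ hlow hε (SimplexCategory.σ i).op _ _).symm)
    refine psi_congr ε v₀ v₁ hlow hε ?_ (funext fun k => ?_)
    · rw [← op_comp, ← op_comp, SimplexCategory.σ_comp_σ hji]
    · rw [Fin.le_def] at hji
      simp only [prism, Function.comp_apply, decide_eq_decide]
      simp only [SimplexCategory.σ, Hom.toOrderHom_mk, mkHom, OrderHom.coe_mk, Fin.predAboveOrderHom, Fin.predAbove, Fin.lt_def]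
      split
      all_goals
        rename_i h
        have h' := h
        simp only [Fin.val_succ, Fin.val_castSucc, Fin.coe_castPred, Fin.val_pred] at h' ⊢
        try omega

/-- Let E be a category with finite limits, n a natural number and f, g : X ⟶ X' two morphisms of
simplicial objects of E whose components agree in every degree p < n. Then there is a simplicial
homotopy between the morphisms cosk_n(f) and cosk_n(g) of n-coskeleta (cosk_n = right Kan extension
of the n-truncation; Mathlib's combinatorial simplicial homotopies). For n = 0 the hypothesis is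
empty. -/
theorem result {E : Type u} [Category.{v} E] [HasFiniteLimits E] (n : ℕ)
    [∀ (F : (SimplexCategory.Truncated n)ᵒᵖ ⥤ E), (SimplexCategory.Truncated.inclusion n).op.HasRightKanExtension F]
    {X X' : SimplicialObject E} (f g : X ⟶ X')
    (hfg : ∀ p : ℕ, p < n → f.app (op (SimplexCategory.mk p)) = g.app (op (SimplexCategory.mk p))) :
    Nonempty (SimplicialObject.Homotopy ((SimplicialObject.cosk n).map f) ((SimplicialObject.cosk n).map g)) := by
  haveI : ∀ U : (SimplexCategory.Truncated n)ᵒᵖ ⥤ E,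
      (SimplexCategory.Truncated.inclusion n).op.HasPointwiseRightKanExtension U :=
    fun U => Groth.Agent.S6800.result n U
  let T := (SimplicialObject.truncation n).obj X'
  let ε := (SimplicialObject.coskAdj n).counit.app T
  haveI : ((SimplicialObject.cosk n).obj X').IsRightKanExtension ε :=
    inferInstanceAs (((SimplicialObject.cosk n).obj X').IsRightKanExtension ((SimplicialObject.coskAdj n).counit.app _))
  have hε := Functor.isPointwiseRightKanExtensionOfIsRightKanExtension ((SimplicialObject.cosk n).obj X') ε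
  let T₀ := (SimplicialObject.truncation n).obj X
  let ε₀ := (SimplicialObject.coskAdj n).counit.app T₀
  have hnat : ∀ (φ : X ⟶ X') (a : (SimplexCategory.Truncated n)ᵒᵖ),
      ((SimplicialObject.cosk n).map φ).app ((SimplexCategory.Truncated.inclusion n).op.obj a) ≫ ε.app a =
        (ε₀ ≫ (SimplicialObject.truncation n).map φ).app a := fun φ a =>
    congr_app ((SimplicialObject.coskAdj n).counit.naturality ((SimplicialObject.truncation n).map φ)) a
  refine ⟨homotopy ε (ε₀ ≫ (SimplicialObject.truncation n).map f) (ε₀ ≫ (SimplicialObject.truncation n).map g)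
    (fun a ha => ?_) hε _ _ (hnat f) (hnat g)⟩
  rw [NatTrans.comp_app, NatTrans.comp_app]
  exact congrArg (ε₀.app a ≫ ·) (hfg a.unop.1.len ha)

end Groth.Agent.S8565
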