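import Groth.Statements.S8570
import Groth.Agent.DescSec.ClosedCover
import Groth.Agent.DescSec.ResSS
import Groth.Agent.DescSec.ProdDerived
import Mathlib.Algebra.Category.Grp.Biproducts
-- import your own Groth.Agent.* helpers here

set_option autoImplicit false
open CategoryTheory TopologicalSpace
universe u
open CohTop

namespace Groth.Agent.S8570

/-- Let (U_i), i in I, be a locally finite covering of a topological space X by closed subsets and F an
abelian sheaf on X. The disjoint union of the U_i is then of cohomological descent over X, and the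
descent spectral sequence reads, in existence form: there is a bounded spectral sequence of abelian
groups starting at page one, with E_1^{p,q} isomorphic for p, q ≥ 0 to the product, over all ordered
(p+1)-tuples of indices (i_0, ..., i_p), of the groups H^q(U_{i_0} ∩ ... ∩ U_{i_p}, F|(U_{i_0} ∩ ...
∩ U_{i_p})) (inverse image of F on the closed subspace) and zero otherwise, together with abutment
data whose filtrations are finite on H^n(X, F) for n ≥ 0 (zero for n < 0). (The E_1 identifications
and the abutment isomorphisms are asserted to exist only; the first differential, which is the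
alternating sum of the restriction maps, is not part of this statement.) -/
theorem result {X : TopCat.{u}} {I : Type u} (U : I → Set X)
    (hU : ∀ i, IsClosed (U i)) (hlf : LocallyFinite U) (hcov : ⋃ i, U i = Set.univ) (F : CohTop.Ab X) :
    ∃ (E : CohomologicalSpectralSequence AddCommGrpCat.{u} 1)
      (a : SpSeq.Abutment E (fun n : ℤ =>
        if 0 ≤ n then AddCommGrpCat.of (CohTop.H F n.toNat) else AddCommGrpCat.of PUnit.{u + 1})),
      (∀ n, a.IsFinite n) ∧ SpSeq.IsBounded E ∧
      ∀ p q : ℤ, Nonempty ((E.page 1 le_rfl).X (p, q) ≅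
        (if 0 ≤ p ∧ 0 ≤ q then
          AddCommGrpCat.of (∀ σ : Fin (p.toNat + 1) → I,
            CohTop.H ((CohTop.pull (TopCat.ofHom ⟨((↑) : (⋂ k, U (σ k) : Set X) → X), continuous_subtype_val⟩ :
              TopCat.of (⋂ k, U (σ k) : Set X) ⟶ X)).obj F) q.toNat)
         else AddCommGrpCat.of PUnit.{u + 1})) := by
  have hK := fun n => ((HomologicalComplex.exactAt_iff_isZero_homology _ _).1
    (DescSec.exact_closedCx_succ U hU F hlf hcov n))
  refine DescSec.exists_resolutionSS (DescSec.gSec X) (DescSec.closedCx U hU F) F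
    (DescSec.nonempty_iso_homology_zero U hU F hlf hcov) hK (fun n => AddCommGrpCat.of (CohTop.H F n))
    (fun n => SSExist.nonempty_ext_iso_rightDerived (DescSec.gSec X) (DescSec.zSheaf X) (Iso.refl _) F n)
    (fun p q => AddCommGrpCat.of (∀ σ : Fin (p + 1) → I,
      CohTop.H ((CohTop.pull (DescSec.incl (⋂ k, U (σ k) : Set X))).obj F) q))
    (fun p q => ?_) (AddCommGrpCat.of PUnit.{u + 1}) (AddCommGrpCat.isZero_of_subsingleton _)
  have hr : ∀ σ : Fin (p + 1) → I, Set.range (DescSec.incl (DescSec.inter U σ)) = DescSec.inter U σ :=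
    fun σ => Subtype.range_coe
  obtain ⟨e⟩ := DescSec.nonempty_rightDerived_pi_push
    (f := fun σ : Fin (p + 1) → I => DescSec.incl (DescSec.inter U σ))
    (fun σ => Topology.IsClosedEmbedding.subtypeVal (DescSec.isClosed_inter U hU σ))
    (fun x => by
      simp only [hr]
      exact DescSec.finite_tuples U hlf x _)
    (fun x => by
      obtain ⟨V, hx, hV⟩ := DescSec.exists_small_nhd U hU hlf x
      refine ⟨V, hx, fun σ hσ y hy => ?_⟩
      rw [hr] at hσ ⊢
      obtain ⟨k, hk⟩ := not_forall.1 (fun h => hσ (Set.mem_iInter.2 h))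
      exact fun hy' => hV _ hk y hy (Set.mem_iInter.1 hy' k))
    (fun σ => (CohTop.pull (DescSec.incl (DescSec.inter U σ))).obj F) q
  let G : (Fin (p + 1) → I) → AddCommGrpCat.{u} := fun σ =>
    AddCommGrpCat.of (CohTop.H ((CohTop.pull (DescSec.incl (DescSec.inter U σ))).obj F) q)
  let e₁ : AddCommGrpCat.of (∀ σ, G σ) ≅ Limits.piObj G :=
    ((Limits.limit.isLimit (Discrete.functor G)).conePointUniqueUpToIso (AddCommGrpCat.HasLimit.productLimitCone G).isLimit).symm
  have hX : (DescSec.closedCx U hU F).X p = Limits.piObj (DescSec.pushFam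
      (fun σ : Fin (p + 1) → I => DescSec.incl (DescSec.inter U σ))
      (fun σ => (CohTop.pull (DescSec.incl (DescSec.inter U σ))).obj F)) := rfl
  exact ⟨e₁ ≪≫ e.symm ≪≫ ((DescSec.gSec X).rightDerived q).mapIso (eqToIso hX.symm)⟩

end Groth.Agent.S8570
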