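import Groth.Statements.S8586


set_option autoImplicit false
universe u
open CAlg

namespace Groth.Agent.S8586

section
variable {A : Type u} [CommRing A] [IsLocalRing A] {d : ℕ}

/-- A system of parameters. -/
def Sop (u : Fin d → A) : Prop :=
  (∀ i, u i ∈ IsLocalRing.maximalIdeal A) ∧
    IsLocalRing.maximalIdeal A ≤ (Ideal.span (Set.range u)).radical

/-- Two systems of parameters differing in at most one coordinate. -/
def Step (u v : Fin d → A) : Prop :=
  Sop u ∧ Sop v ∧ ∃ i : Fin d, ∀ i', i' ≠ i → u i' = v i'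

theorem Step.symm {u v : Fin d → A} (h : Step u v) : Step v u := by
  obtain ⟨hu, hv, i, hi⟩ := h
  exact ⟨hv, hu, i, fun i' h' => (hi i' h').symm⟩

theorem range_update (u : Fin d → A) (j : Fin d) (z : A) :
    Ideal.span (Set.range (Function.update u j z)) = Ideal.span (u '' {j}ᶜ) ⊔ Ideal.span {z} := by
  rw [← Ideal.span_union]
  congr 1
  ext a
  constructor
  · rintro ⟨i, rfl⟩
    rcases eq_or_ne i j with rfl | h
    · exact Or.inr (by simp)
    · exact Or.inl ⟨i, h, by simp [h]⟩
  · rintro (⟨i, h, rfl⟩ | rfl)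
    · exact ⟨i, Function.update_of_ne h z u⟩
    · exact ⟨j, Function.update_self ..⟩

variable [IsNoetherianRing A]

theorem not_maximal_mem_minimalPrimes (hht : (IsLocalRing.maximalIdeal A).height = d)
    (u : Fin d → A) (j : Fin d) :
    IsLocalRing.maximalIdeal A ∉ (Ideal.span (u '' {j}ᶜ)).minimalPrimes := by
  intro h
  have h1 := Ideal.height_le_card_of_mem_minimalPrimes_span (Set.toFinite _) h
  rw [hht, Nat.cast_le] at h1
  have h2 : (u '' {j}ᶜ).ncard ≤ ({j}ᶜ : Set (Fin d)).ncard := Set.ncard_image_le (Set.toFinite _)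
  rw [Set.ncard_compl, Set.ncard_singleton, Nat.card_eq_fintype_card, Fintype.card_fin] at h2
  have := j.isLt
  omega

theorem sop_update {u : Fin d → A} (hu : Sop u) (j : Fin d) {z : A}
    (hzm : z ∈ IsLocalRing.maximalIdeal A)
    (hz : ∀ P ∈ (Ideal.span (u '' {j}ᶜ)).minimalPrimes, z ∉ P) : Sop (Function.update u j z) := by
  refine ⟨fun i => ?_, ?_⟩
  · rcases eq_or_ne i j with rfl | h
    · simpa using hzm
    · simpa [h] using hu.1 i
  rw [range_update, Ideal.radical_eq_sInf]
  refine le_sInf fun Q ⟨hQ, hQp⟩ => ?_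
  by_contra hQm
  have hlt : Q < IsLocalRing.maximalIdeal A :=
    lt_of_le_of_ne (IsLocalRing.le_maximalIdeal hQp.ne_top) fun h => hQm h.ge
  obtain ⟨P, hP, hPQ⟩ := Ideal.exists_minimalPrimes_le (le_sup_left.trans hQ)
  have hPQ' : P < Q := lt_of_le_of_ne hPQ fun h =>
    hz P hP (h ▸ hQ (Ideal.mem_sup_right (Ideal.mem_span_singleton_self z)))
  have hmin : IsLocalRing.maximalIdeal A ∈
      (Ideal.span (u '' {j}ᶜ) ⊔ Ideal.span {u j}).minimalPrimes := by
    have hle : Ideal.span (u '' {j}ᶜ) ⊔ Ideal.span {u j} ≤ IsLocalRing.maximalIdeal A := by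
      rw [← range_update, Function.update_eq_self, Ideal.span_le]
      rintro _ ⟨i, rfl⟩
      exact hu.1 i
    refine ⟨⟨(IsLocalRing.maximalIdeal.isMaximal A).isPrime, hle⟩, fun r ⟨hr, hr'⟩ _ => ?_⟩
    rw [← range_update, Function.update_eq_self] at hr'
    exact hu.2.trans (hr.radical_le_iff.mpr hr')
  have h1 := Ideal.map_height_le_one_of_mem_minimalPrimes hmin
  set f := Ideal.Quotient.mk (Ideal.span (u '' {j}ᶜ))
  haveI := hP.isPrime
  haveI := hQp
  have hJP := hP.le
  have hJQ := hJP.trans hPQ
  have hJm := hJQ.trans hlt.le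
  haveI : (P.map f).IsPrime := Ideal.map_isPrime_of_surjective Ideal.Quotient.mk_surjective (by simpa [f] using hJP)
  haveI : (Q.map f).IsPrime := Ideal.map_isPrime_of_surjective Ideal.Quotient.mk_surjective (by simpa [f] using hJQ)
  haveI : ((IsLocalRing.maximalIdeal A).map f).IsPrime :=
    Ideal.map_isPrime_of_surjective Ideal.Quotient.mk_surjective (by simpa [f] using hJm)
  have hmono : ∀ I K : Ideal A, Ideal.span (u '' {j}ᶜ) ≤ I → Ideal.span (u '' {j}ᶜ) ≤ K → I < K →
      I.map f < K.map f := by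
    intro I K hI hK hIK
    refine lt_of_le_of_ne (Ideal.map_mono hIK.le) fun h => hIK.ne ?_
    have h' := congrArg (Ideal.comap f) h
    rwa [Ideal.comap_map_of_surjective f Ideal.Quotient.mk_surjective,
      Ideal.comap_map_of_surjective f Ideal.Quotient.mk_surjective,
      sup_eq_left.mpr (by rw [← RingHom.ker_eq_comap_bot]; simpa [f] using hI),
      sup_eq_left.mpr (by rw [← RingHom.ker_eq_comap_bot]; simpa [f] using hK)] at h'
  have a := Ideal.height_strict_mono_of_isPrime_of_isPrime (hmono P Q hJP hJQ hPQ')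
  have b := Ideal.height_strict_mono_of_isPrime_of_isPrime (hmono Q _ hJQ hJm hlt)
  exact absurd (lt_of_lt_of_le b h1) (not_lt.mpr (Order.one_le_iff_pos.mpr (lt_of_le_of_lt bot_le a)))

theorem connected (hht : (IsLocalRing.maximalIdeal A).height = d) (S : Finset (Fin d)) :
    ∀ u v : Fin d → A, Sop u → Sop v → (∀ i ∉ S, u i = v i) →
      Relation.ReflTransGen Step u v := by
  induction S using Finset.induction with
  | empty =>
    intro u v _ _ h
    obtain rfl : u = v := funext fun i => h i (Finset.notMem_empty i)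
    exact .refl
  | @insert j S hj IH =>
    intro u v hu hv h
    set T := (Ideal.span (u '' {j}ᶜ)).minimalPrimes ∪ (Ideal.span (v '' {j}ᶜ)).minimalPrimes
    have hT : T.Finite :=
      (Ideal.finite_minimalPrimes_of_isNoetherianRing A _).union
        (Ideal.finite_minimalPrimes_of_isNoetherianRing A _)
    have hTp : ∀ P ∈ T, P.IsPrime := fun P hP => hP.elim (·.isPrime) (·.isPrime)
    obtain ⟨z, hzm, hz⟩ : ∃ z ∈ IsLocalRing.maximalIdeal A, ∀ P ∈ T, z ∉ P := by
      by_contra hne
      push Not at hne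
      obtain ⟨P, hP, hle⟩ := (Ideal.subset_union_prime_finite hT (f := id) ⊥ ⊥
        fun P hP _ _ => hTp P hP).mp (show ((IsLocalRing.maximalIdeal A : Ideal A) : Set A) ⊆
          ⋃ P ∈ T, ((id P : Ideal A) : Set A) from fun z hz => by
            obtain ⟨P, hP, hzP⟩ := hne z hz
            exact Set.mem_biUnion hP hzP)
      have := (IsLocalRing.maximalIdeal.isMaximal A).eq_of_le (hTp P hP).ne_top hle
      rcases hP with hP | hP
      · exact not_maximal_mem_minimalPrimes hht u j (this.symm ▸ hP)
      · exact not_maximal_mem_minimalPrimes hht v j (this.symm ▸ hP)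
    have hu' := sop_update hu j hzm fun P hP => hz P (Or.inl hP)
    have hv' := sop_update hv j hzm fun P hP => hz P (Or.inr hP)
    have h1 : Step u (Function.update u j z) :=
      ⟨hu, hu', j, fun i hi => (Function.update_of_ne hi z u).symm⟩
    have h2 : Step (Function.update v j z) v :=
      ⟨hv', hv, j, fun i hi => Function.update_of_ne hi z v⟩
    refine (Relation.ReflTransGen.single h1).trans ((IH _ _ hu' hv' fun i hi => ?_).trans (.single h2))
    rcases eq_or_ne i j with rfl | hij
    · simp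
    · simp [hij, h i (by simp [hij, hi])]

end

theorem chain_of_reflTransGen {A : Type u} [CommRing A] [IsLocalRing A] {d : ℕ} {u v : Fin d → A}
    (hu : Sop u) (h : Relation.ReflTransGen Step u v) :
    ∃ (m : ℕ) (w : Fin (m + 1) → Fin d → A), w 0 = u ∧ w (Fin.last m) = v ∧
      (∀ k : Fin (m + 1), Sop (w k)) ∧
      (∀ k : Fin m, ∃ i : Fin d, ∀ i' : Fin d, i' ≠ i → w k.castSucc i' = w k.succ i') := by
  induction h with
  | refl => exact ⟨0, fun _ => u, rfl, rfl, fun _ => hu, fun k => k.elim0⟩
  | @tail b c _ hbc IH =>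
    obtain ⟨m, w, h0, hl, hs, hstep⟩ := IH
    refine ⟨m + 1, Fin.snoc w c, ?_, Fin.snoc_last .., fun k => ?_, fun k => ?_⟩
    · rw [← Fin.castSucc_zero, Fin.snoc_castSucc, h0]
    · refine Fin.lastCases ?_ (fun k => ?_) k
      · rw [Fin.snoc_last]; exact hbc.2.1
      · rw [Fin.snoc_castSucc]; exact hs k
    · refine Fin.lastCases ?_ (fun k => ?_) k
      · rw [Fin.succ_last, Fin.snoc_last, Fin.snoc_castSucc, hl]
        exact hbc.2.2
      · rw [Fin.succ_castSucc, Fin.snoc_castSucc, Fin.snoc_castSucc]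
        exact hstep k


/-- Suppose A is a Cohen–Macaulay local ring whose Krull dimension is d, and consider two systems of
parameters u = (u_1, ..., u_d) and v = (v_1, ..., v_d) of A (that is, d-tuples of elements of the
maximal ideal m such that the ideal they generate has radical m). Then one can find a finite
sequence w_0 = u, w_1, ..., w_m = v, each term a system of parameters of A, where w_{k+1} arises
from w_k by altering just one coordinate. -/
theorem result (A : Type u) [CommRing A] [LocCoh.IsCohenMacaulayLocalRing A]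
    (d : ℕ) (hd : ringKrullDim A = d) (u v : Fin d → A)
    (hu : ∀ i, u i ∈ IsLocalRing.maximalIdeal A) (hu' : IsLocalRing.maximalIdeal A ≤ (Ideal.span (Set.range u)).radical)
    (hv : ∀ i, v i ∈ IsLocalRing.maximalIdeal A) (hv' : IsLocalRing.maximalIdeal A ≤ (Ideal.span (Set.range v)).radical) :
    ∃ (m : ℕ) (w : Fin (m + 1) → Fin d → A), w 0 = u ∧ w (Fin.last m) = v ∧
      (∀ k : Fin (m + 1), (∀ i, w k i ∈ IsLocalRing.maximalIdeal A) ∧
        IsLocalRing.maximalIdeal A ≤ (Ideal.span (Set.range (w k))).radical) ∧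
      (∀ k : Fin m, ∃ i : Fin d, ∀ i' : Fin d, i' ≠ i → w k.castSucc i' = w k.succ i') := by
  obtain hm := fun i => hu i
  have hht : (IsLocalRing.maximalIdeal A).height = d :=
    WithBot.coe_injective (IsLocalRing.maximalIdeal_height_eq_ringKrullDim.trans hd)
  have key := connected hht Finset.univ u v ⟨hu, hu'⟩ ⟨hv, hv'⟩ (fun i hi => absurd (Finset.mem_univ i) hi)
  exact chain_of_reflTransGen ⟨hu, hu'⟩ key

end Groth.Agent.S8586
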