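import Groth.Statements.S8591
import Mathlib.RingTheory.AdjoinRoot
import Mathlib.RingTheory.Norm.Defs
import Mathlib.LinearAlgebra.Charpoly.Basic
import Mathlib.LinearAlgebra.Charpoly.ToMatrix
import Mathlib.LinearAlgebra.Determinant
import Mathlib.LinearAlgebra.Matrix.Polynomial
import Mathlib.LinearAlgebra.Matrix.Charpoly.Coeff

set_option autoImplicit false
universe u
open CAlg

namespace Groth.Agent.S8591

open Polynomial in
theorem det_eval_of_monic (N : ℕ) : ∀ (k : Type u) [CommRing k] [Nontrivial k] {ι κ : Type u} [Fintype ι]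
    [DecidableEq ι] [Fintype κ] [DecidableEq κ] (A : Matrix ι ι k) (B : Matrix κ κ k),
    A.charpoly = B.charpoly → ∀ P : k[X], P.Monic → P.natDegree = N →
      (aeval A P).det = (aeval B P).det := by
  induction N with
  | zero =>
    intro k _ _ ι κ _ _ _ _ A B _ P hP hdeg
    rw [hP.natDegree_eq_zero.mp hdeg]
    simp
  | succ N IH =>
    intro k _ _ ι κ _ _ _ _ A B hAB P hP hdeg
    have hinj : Function.Injective (algebraMap k (AdjoinRoot P)) := by
      rw [injective_iff_map_eq_zero]
      intro a ha
      by_contra h0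
      rw [AdjoinRoot.algebraMap_eq, ← AdjoinRoot.mk_C, AdjoinRoot.mk_eq_zero] at ha
      exact hP.not_dvd_of_natDegree_lt (by simpa using h0) (by rw [natDegree_C, hdeg]; omega) ha
    haveI : Nontrivial (AdjoinRoot P) := hinj.nontrivial
    set φ := algebraMap k (AdjoinRoot P)
    set r := AdjoinRoot.root P
    obtain ⟨Q, hQ⟩ : X - C r ∣ P.map φ := dvd_iff_isRoot.mpr (by
      rw [IsRoot, eval_map]; exact AdjoinRoot.eval₂_root P)
    have hQm : Q.Monic := (monic_X_sub_C r).of_mul_monic_left (hQ ▸ hP.map φ)
    have hQdeg : Q.natDegree = N := by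
      have := congrArg natDegree hQ
      rw [hP.natDegree_map, hdeg, (monic_X_sub_C r).natDegree_mul hQm, natDegree_X_sub_C] at this
      omega
    have hchar : (A.map φ).charpoly = (B.map φ).charpoly := by
      rw [Matrix.charpoly_map, Matrix.charpoly_map, hAB]
    have hcard : Fintype.card ι = Fintype.card κ := by
      simpa [Matrix.charpoly_natDegree_eq_dim] using congrArg natDegree hAB
    have key : ∀ {σ : Type u} [Fintype σ] [DecidableEq σ] (C' : Matrix σ σ k),
        φ (aeval C' P).det = (-1) ^ Fintype.card σ * (C'.map φ).charpoly.eval r * (aeval (C'.map φ) Q).det := by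
      intro σ _ _ C'
      have h1 : φ.mapMatrix (aeval C' P) = aeval (C'.map φ) (P.map φ) := by
        rw [Polynomial.aeval_map_algebraMap]
        exact (aeval_algHom_apply (Algebra.ofId k (AdjoinRoot P)).mapMatrix C' P).symm
      rw [RingHom.map_det, h1, hQ, map_mul, Matrix.det_mul]
      congr 1
      have h2 : aeval (C'.map φ) (X - C r) = -(Matrix.scalar σ r - C'.map φ) := by
        simp [Matrix.algebraMap_eq_diagonal, Matrix.scalar_apply, neg_sub]
      rw [h2, Matrix.det_neg, Matrix.eval_charpoly]
    apply hinj
    rw [key, key, hchar, hcard, IH (AdjoinRoot P) _ _ hchar Q hQm hQdeg]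

open Polynomial in
theorem det_aeval_eq_of_charpoly_eq {k : Type u} [CommRing k] [Nontrivial k] {M N : Type u}
    [AddCommGroup M] [Module k M] [Module.Free k M] [Module.Finite k M]
    [AddCommGroup N] [Module k N] [Module.Free k N] [Module.Finite k N]
    (u : M →ₗ[k] M) (v : N →ₗ[k] N) (h : u.charpoly = v.charpoly) (P : k[X]) :
    LinearMap.det (aeval u P) = LinearMap.det (aeval v P) := by
  classical
  let b := Module.Free.chooseBasis k M
  let c := Module.Free.chooseBasis k N
  rw [← LinearMap.det_toMatrix b, ← LinearMap.det_toMatrix c]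
  have hu : LinearMap.toMatrix b b (aeval u P) = aeval (LinearMap.toMatrix b b u) P :=
    (aeval_algHom_apply (LinearMap.toMatrixAlgEquiv b).toAlgHom u P).symm
  have hv : LinearMap.toMatrix c c (aeval v P) = aeval (LinearMap.toMatrix c c v) P :=
    (aeval_algHom_apply (LinearMap.toMatrixAlgEquiv c).toAlgHom v P).symm
  rw [hu, hv]
  set A := LinearMap.toMatrix b b u
  set B := LinearMap.toMatrix c c v
  have hAB : A.charpoly = B.charpoly := by rw [LinearMap.charpoly_toMatrix, LinearMap.charpoly_toMatrix, h]
  -- deform `P` to the monic polynomial `X^(N+1) + t P` over `k[t]`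
  let φ : k →+* k[X] := C
  set d := P.natDegree + 1
  let P0 : k[X][X] := X ^ d + C X * P.map φ
  have hmon : P0.Monic := by
    refine monic_X_pow_add (lt_of_le_of_lt ((degree_mul_le _ _).trans (add_le_of_nonpos_left degree_C_le)) ?_)
    exact lt_of_le_of_lt degree_map_le (lt_of_le_of_lt degree_le_natDegree (by exact_mod_cast Nat.lt_succ_self _))
  have h0 := det_eval_of_monic P0.natDegree k[X] (A.map φ) (B.map φ)
    (by rw [Matrix.charpoly_map, Matrix.charpoly_map, hAB]) P0 hmon rfl
  have hexp : ∀ {σ : Type u} [Fintype σ] [DecidableEq σ] (D : Matrix σ σ k),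
      aeval (D.map φ) P0 = (X : k[X]) • (aeval D P).map φ + (D ^ d).map φ := by
    intro σ _ _ D
    have h1 : aeval (D.map φ) (P.map φ) = (aeval D P).map φ := by
      rw [show φ = algebraMap k k[X] from rfl, Polynomial.aeval_map_algebraMap]
      exact aeval_algHom_apply (Algebra.ofId k k[X]).mapMatrix D P
    rw [map_add, map_mul, aeval_C, h1, map_pow, aeval_X, ← Algebra.smul_def, add_comm,
      Matrix.map_pow]
  rw [hexp, hexp] at h0
  have hcard : Fintype.card (Module.Free.ChooseBasisIndex k M) = Fintype.card (Module.Free.ChooseBasisIndex k N) := by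
    simpa [Matrix.charpoly_natDegree_eq_dim] using congrArg natDegree hAB
  calc (aeval A P).det = _ := (coeff_det_X_add_C_card _ _).symm
    _ = _ := congrArg₂ coeff h0 hcard
    _ = _ := coeff_det_X_add_C_card _ _


/-- Let k be a commutative ring, M a finite free k-module, u an endomorphism of M with characteristic
polynomial χ, and P a polynomial over k. Then the norm, from the k-algebra k[T]/(χ) (free of rank
the rank of M) down to k, of the class of P(T) equals det(P(u)). (The published statement writes the
quotient by det(u - T), which generates the same ideal as χ(T) = det(T - u).) -/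
theorem result (k : Type u) [CommRing k] (M : Type u) [AddCommGroup M] [Module k M]
    [Module.Free k M] [Module.Finite k M] (u : M →ₗ[k] M) (P : Polynomial k) :
    Algebra.norm k (AdjoinRoot.mk u.charpoly P) = LinearMap.det (Polynomial.aeval u P) := by
  nontriviality k
  classical
  set χ := u.charpoly with hχdef
  have hχ : χ.Monic := u.charpoly_monic
  let b := (AdjoinRoot.powerBasis' hχ).basis
  let v : AdjoinRoot χ →ₗ[k] AdjoinRoot χ := Algebra.lmul k _ (AdjoinRoot.root χ)
  have hv : Algebra.lmul k _ (AdjoinRoot.mk χ P) = Polynomial.aeval v P := by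
    rw [← AdjoinRoot.aeval_eq, Polynomial.aeval_algHom_apply]
  have hdim : Module.finrank k (AdjoinRoot χ) = Module.finrank k M := by
    rw [(AdjoinRoot.powerBasis' hχ).finrank, AdjoinRoot.powerBasis'_dim, hχdef, u.charpoly_natDegree]
  haveI : Module.Free k (AdjoinRoot χ) := Module.Free.of_basis b
  haveI : Module.Finite k (AdjoinRoot χ) := Module.Finite.of_basis b
  have hvchar : v.charpoly = χ := by
    have h0 := v.aeval_self_charpoly
    rw [Polynomial.aeval_algHom_apply, AdjoinRoot.aeval_eq] at h0
    have h1 : AdjoinRoot.mk χ v.charpoly = 0 := by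
      simpa using LinearMap.congr_fun h0 1
    refine (Polynomial.eq_of_monic_of_dvd_of_natDegree_le hχ v.charpoly_monic (AdjoinRoot.mk_eq_zero.mp h1) ?_)
    rw [v.charpoly_natDegree, hdim, hχdef, u.charpoly_natDegree]
  rw [Algebra.norm_apply, hv]
  exact det_aeval_eq_of_charpoly_eq v u hvchar P

end Groth.Agent.S8591
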