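import Groth.Statements.S8598
import Groth.Agent.EtShriekLib.Supp
-- import your own Groth.Agent.* helpers here

set_option autoImplicit false
set_option linter.style.haveILetI false
universe u
open CategoryTheory CategoryTheory.Limits AlgebraicGeometry Opposite
open EtDl

namespace Groth.Agent.S8598

/-- Let u : X -> Y be an etale, separated morphism of finite type that is surjective, and F an abelian
sheaf on Y_et. The sheaves F_n = (u_n)_! u_n^* F built from the iterated fibre powers of X over Y
form a left resolution of F; in particular (the part stated here) the augmentation u_! u^* F -> F,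
which is the counit of the adjunction between extension by zero u_! and restriction u^*, is an
epimorphism. (The continuity of V ↦ (V -> X -> Y) between the small etale sites is carried as an
instance hypothesis, the prelude's convention for extension by zero along an etale morphism.) -/
theorem result {X Y : Scheme.{u}} (u : X ⟶ Y) [Etale u] [IsSeparated u]
    [LocallyOfFiniteType u] [QuasiCompact u] [Surjective u] [EtShriek.JCont u] (F : EtCoh.Ab Y) :
    Epi ((EtShriek.extZeroAdj u).counit.app F) := by
  haveI : (EtShriek.restrAlong u).Faithful := ⟨fun {A B} a b h => by
    refine Sheaf.hom_ext (NatTrans.ext (funext fun W => AddCommGrpCat.hom_ext (AddMonoidHom.ext fun s => ?_)))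
    haveI : Etale W.unop.hom := W.unop.prop
    let q := pullback.fst W.unop.hom u
    let V : X.Etale := MorphismProperty.Over.mk ⊤ (pullback.snd W.unop.hom u) (by
      show Etale _; infer_instance)
    let g : (EtShriek.compEtale u).obj V ⟶ W.unop := MorphismProperty.Over.homMk q pullback.condition
    rw [← sub_eq_zero]
    refine EtShriekLib.eq_zero_of_supp_empty B W.unop _ (Set.eq_empty_of_forall_notMem fun x hx => ?_)
    obtain ⟨z, hz, -⟩ := Scheme.Pullback.exists_preimage_pullback (f := W.unop.hom) (g := u) x
      (u.surjective (W.unop.hom.base x)).choose (u.surjective (W.unop.hom.base x)).choose_spec.symm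
    refine hx ((EtShriek.compEtale u).obj V) g ⟨z, hz⟩ ?_
    rw [map_sub, ← NatTrans.naturality_apply a.hom, ← NatTrans.naturality_apply b.hom, sub_eq_zero]
    exact ConcreteCategory.congr_hom (congrArg (fun m => m.hom.app (op V)) h) _⟩
  infer_instance

end Groth.Agent.S8598
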