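import Groth.Statements.S8604
import Groth.Agent.PLinFix.Basic

set_option autoImplicit false
universe u
open CAlg

namespace Groth.Agent.S8604

/-- Over an algebraically closed field: let k be an algebraically closed field of characteristic p > 0,
V a finite-dimensional k-vector space and F : V -> V a p-linear endomorphism (additive with F(a·v) =
a^p·F(v)). Let V^F be the set of vectors fixed by F (an F_p-subspace), V_0 the k-span of V^F and V_n
the k-span of the vectors killed by some iterate of F (these already form an F-stable subspace on
which F is nilpotent). Then V = V_0 ⊕ V_n, and V^F ⊗ k -> V_0 is bijective in the sense that any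
finitely many F-fixed vectors linearly independent over Z/p (every vanishing integer combination has
all coefficients divisible by p) are linearly independent over k. (The published statement asserts
this decomposition, with V^F ⊗ k ≅ V_0, for every PERFECT field k; that is false when k is not
separably closed — for k = Z/3, V = k and F = multiplication by 2 there are no nonzero fixed vectors
although F is bijective — and the decomposition is stated here over an algebraically closed field,
the case in which it holds.) -/
theorem result (p : ℕ) [Fact p.Prime] (k : Type u) [Field k]
    [IsAlgClosed k] [CharP k p] (V : Type u) [AddCommGroup V] [Module k V] [FiniteDimensional k V]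
    (F : V →+ V) (hF : ∀ (a : k) (v : V), F (a • v) = a ^ p • F v) :
    IsCompl (Submodule.span k {v : V | F v = v})
        (Submodule.span k {v : V | ∃ m : ℕ, (⇑F)^[m] v = 0}) ∧
      ∀ (s : Finset V), (∀ v ∈ s, F v = v) →
        (∀ c : s → ℤ, (∑ v : s, c v • (v : V)) = 0 → ∀ v : s, (p : ℤ) ∣ c v) →
          LinearIndependent k (fun v : s => (v : V)) := by
  obtain ⟨m₀, hm₀⟩ := PLinFix.exists_stable p hF
  refine ⟨?_, fun s hs hZ => ?_⟩
  · rw [PLinFix.span_fixed_eq p hF hm₀,
      show Submodule.span k {v : V | ∃ m : ℕ, (⇑F)^[m] v = 0} = PLinFix.nil p hF from
        Submodule.span_eq (PLinFix.nil p hF)]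
    exact PLinFix.isCompl_stable p hF hm₀
  · classical
    rw [Fintype.linearIndependent_iff]
    intro g hg v
    have h := PLinFix.linearIndependent_fixed p hF s hs
      (fun c hc w hw => hZ (fun x => c x) (by rw [Finset.sum_coe_sort s fun x => c x • x]; exact hc) ⟨w, hw⟩)
      (fun x => if h : x ∈ s then g ⟨x, h⟩ else 0)
      (by rw [← Finset.sum_coe_sort]; simpa using hg) v v.2
    simpa using h

end Groth.Agent.S8604
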