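import Mathlib
import Groth.Statements.S8609
-- import your own Groth.Agent.* helpers here

set_option autoImplicit false
universe u
open CategoryTheory
open SGA4h

namespace Groth.Agent.S8609

universe v
open Finset
open Polynomial (C X)

noncomputable section

section Matrices

variable {d : ℕ}

/-- The multiset of values of a word. -/
def symW {n : ℕ} (c : Fin n → Fin d) : Sym (Fin d) n := ⟨(univ : Finset (Fin n)).val.map c, by simp⟩

lemma symW_surjective (n : ℕ) : Function.Surjective (symW : (Fin n → Fin d) → Sym (Fin d) n) := by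
  rintro ⟨s, hs⟩
  subst hs
  obtain ⟨l, rfl⟩ : ∃ l : List (Fin d), (l : Multiset (Fin d)) = s := Quot.exists_rep s
  exact ⟨l.get, Subtype.ext ((Fin.univ_val_map l.get).trans (congrArg _ (List.ofFn_get l)))⟩

/-- A chosen word with given multiset. -/
def rep {n : ℕ} (m : Sym (Fin d) n) : Fin n → Fin d := (symW_surjective n m).choose

lemma symW_rep {n : ℕ} (m : Sym (Fin d) n) : symW (rep m) = m := (symW_surjective n m).choose_spec

lemma exists_perm {n : ℕ} {c c' : Fin n → Fin d} (h : symW c = symW c') :
    ∃ σ : Equiv.Perm (Fin n), ∀ i, c' (σ i) = c i := by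
  classical
  have hcard : ∀ a : Fin d, Fintype.card {i // c i = a} = Fintype.card {i // c' i = a} := by
    intro a
    have := congrArg (fun m : Sym (Fin d) n => Multiset.count a (m : Multiset (Fin d))) h
    simp only [symW, Sym.coe_mk, Multiset.count_map] at this
    simpa [Fintype.card_subtype, eq_comm, Finset.card_def, Finset.filter_val] using this
  exact ⟨Equiv.ofFiberEquiv fun a => Fintype.equivOfCardEq (hcard a), fun i => Equiv.ofFiberEquiv_map _ i⟩

lemma symW_comp_perm {n : ℕ} (c : Fin n → Fin d) (σ : Equiv.Perm (Fin n)) :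
    symW (fun i => c (σ i)) = symW c := by
  refine Subtype.ext ?_
  change (univ : Finset (Fin n)).val.map (fun i => c (σ i)) = (univ : Finset (Fin n)).val.map c
  conv_rhs => rw [← Finset.map_univ_equiv σ, Finset.map_val, Multiset.map_map]
  rfl

/-- The trace of the `n`-th symmetric tensor power of a matrix. -/
def trS {A : Type*} [CommRing A] (M : Matrix (Fin d) (Fin d) A) (n : ℕ) : A :=
  ∑ m : Sym (Fin d) n, ∑ c ∈ univ.filter (fun c : Fin n → Fin d => symW c = m), ∏ l, M (rep m l) (c l)

lemma map_trS {A B : Type*} [CommRing A] [CommRing B] (f : A →+* B) (M : Matrix (Fin d) (Fin d) A) (n : ℕ) :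
    f (trS M n) = trS (M.map f) n := by
  simp [trS, map_sum, map_prod]

lemma trS_lower {A : Type*} [CommRing A] (M : Matrix (Fin d) (Fin d) A) (hM : ∀ i j, i < j → M i j = 0) (n : ℕ) :
    trS M n = ∑ m ∈ (univ : Finset (Fin d)).sym n, ((m : Multiset (Fin d)).map fun i => M i i).prod := by
  rw [trS, Finset.sym_univ]
  refine sum_congr rfl fun m _ => ?_
  rw [Finset.sum_eq_single (rep m)]
  · conv_rhs => rw [← symW_rep m]
    rw [symW, Sym.coe_mk, Multiset.map_map]
    rfl
  · intro c hc hne
    by_contra h0
    apply hne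
    have hle : ∀ l, (c l : ℕ) ≤ (rep m l : ℕ) := fun l => by
      by_contra hl
      exact h0 (prod_eq_zero (mem_univ l) (hM _ _ (Fin.lt_def.2 (by omega))))
    have hsum : ∑ l, (c l : ℕ) = ∑ l, (rep m l : ℕ) := by
      have := congrArg (fun s : Sym (Fin d) n => (Multiset.map (Fin.val : Fin d → ℕ) (s : Multiset (Fin d))).sum)
        ((mem_filter.1 hc).2.trans (symW_rep m).symm)
      simp only [symW, Sym.coe_mk, Multiset.map_map] at this
      exact this
    funext l
    exact Fin.ext ((Finset.sum_eq_sum_iff_of_le fun i _ => hle i).1 hsum l (mem_univ l))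
  · intro h
    simp [symW_rep] at h

lemma series_mul_prod {A : Type*} [CommRing A] {ι : Type*} [DecidableEq ι] (v : ι → A) (s : Finset ι) :
    (∏ i ∈ s, (1 - PowerSeries.X * PowerSeries.C (v i))) *
      PowerSeries.mk (fun n => ∑ m ∈ s.sym n, ((m : Multiset ι).map v).prod) = 1 := by
  induction s using Finset.induction with
  | empty =>
    rw [Finset.prod_empty, one_mul]
    ext n
    rw [PowerSeries.coeff_mk, PowerSeries.coeff_one]
    cases n with
    | zero => simp [Sym.eq_nil_of_card_zero]
    | succ n => rw [if_neg n.succ_ne_zero, Finset.sym_eq_empty.2 ⟨n.succ_ne_zero, rfl⟩, Finset.sum_empty]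
  | insert a s ha ih =>
    have hstep : (1 - PowerSeries.X * PowerSeries.C (v a)) *
        PowerSeries.mk (fun n => ∑ m ∈ (insert a s).sym n, ((m : Multiset ι).map v).prod) =
        PowerSeries.mk (fun n => ∑ m ∈ s.sym n, ((m : Multiset ι).map v).prod) := by
      ext n
      rw [sub_mul, one_mul, map_sub, mul_assoc]
      cases n with
      | zero => simp [Sym.eq_nil_of_card_zero]
      | succ n =>
        rw [PowerSeries.coeff_succ_X_mul, PowerSeries.coeff_C_mul, PowerSeries.coeff_mk, PowerSeries.coeff_mk,
          PowerSeries.coeff_mk, sub_eq_iff_eq_add, Finset.mul_sum,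
          ← Finset.sum_filter_add_sum_filter_not ((insert a s).sym (n + 1)) (fun m => a ∈ m), add_comm]
        congr 1
        · refine sum_congr ?_ fun _ _ => rfl
          ext m
          simp only [Finset.mem_filter, Finset.mem_sym_iff, Finset.mem_insert]
          constructor
          · rintro ⟨h1, h2⟩ b hb
            exact (h1 b hb).resolve_left fun h => h2 (h ▸ hb)
          · intro h
            exact ⟨fun b hb => Or.inr (h b hb), fun h2 => ha (h a h2)⟩
        · refine Finset.sum_bij' (fun m hm => m.erase a (Finset.mem_filter.1 hm).2) (fun m _ => Sym.cons a m) ?_ ?_ ?_ ?_ ?_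
          · intro m hm
            rw [Finset.mem_sym_iff]
            intro b hb
            refine Finset.mem_sym_iff.1 (Finset.mem_filter.1 hm).1 b ?_
            rw [← Sym.cons_erase (Finset.mem_filter.1 hm).2]
            exact Sym.mem_cons_of_mem hb
          · intro m hm
            rw [Finset.mem_filter, Finset.mem_sym_iff]
            refine ⟨fun b hb => ?_, Sym.mem_cons_self a m⟩
            rcases Sym.mem_cons.1 hb with rfl | hb
            · exact Finset.mem_insert_self b s
            · exact Finset.mem_sym_iff.1 hm b hb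
          · intro m hm
            exact Sym.cons_erase (Finset.mem_filter.1 hm).2
          · intro m hm
            exact Sym.erase_cons_head m a
          · intro m hm
            conv_lhs => rw [← Sym.cons_erase (Finset.mem_filter.1 hm).2]
            rw [Sym.coe_cons, Multiset.map_cons, Multiset.prod_cons]
    rw [Finset.prod_insert ha, mul_comm _ (∏ i ∈ s, _), mul_assoc, hstep, ih]

lemma identity_lower {A : Type*} [CommRing A] (M : Matrix (Fin d) (Fin d) A) (hM : ∀ i j, i < j → M i j = 0) :
    (M.charpolyRev : PowerSeries A) * PowerSeries.mk (trS M) = 1 := by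
  have hdet : M.charpolyRev = ∏ i, (1 - X * C (M i i)) := by
    rw [Matrix.charpolyRev, Matrix.det_of_lowerTriangular]
    · exact prod_congr rfl fun i _ => by simp
    · intro i j hij
      have hij' : i < j := hij
      simp [Matrix.one_apply_ne hij'.ne, hM i j hij']
  rw [hdet, ← series_mul_prod (fun i => M i i) univ]
  congr 1
  · rw [← Polynomial.coeToPowerSeries.ringHom_apply, map_prod]
    refine prod_congr rfl fun i _ => ?_
    simp only [Polynomial.coeToPowerSeries.ringHom_apply, Polynomial.coe_sub, Polynomial.coe_one, Polynomial.coe_mul,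
      Polynomial.coe_X, Polynomial.coe_C]
  · ext n
    simp only [PowerSeries.coeff_mk, trS_lower M hM]

end Matrices

section Invariant

/-- `det(1 - u t)`. -/
def detU {A M : Type*} [CommRing A] [AddCommGroup M] [Module A M] (u : M →ₗ[A] M) : Polynomial A :=
  LinearMap.det (LinearMap.id - (X : Polynomial A) • u.baseChange (Polynomial A))

variable {A : Type*} [CommRing A] {M : Type*} [AddCommGroup M] [Module A M] {d : ℕ}

lemma detU_eq (b : Module.Basis (Fin d) A M) (u : M →ₗ[A] M) :
    detU u = (LinearMap.toMatrix b b u).charpolyRev := by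
  rw [detU, ← LinearMap.det_toMatrix (Algebra.TensorProduct.basis (Polynomial A) b), Matrix.charpolyRev]
  congr 1
  refine (map_sub (LinearMap.toMatrix (Algebra.TensorProduct.basis (Polynomial A) b)
    (Algebra.TensorProduct.basis (Polynomial A) b)) _ _).trans ?_
  refine congrArg₂ (· - ·) (LinearMap.toMatrix_id _) ?_
  refine (map_smul (LinearMap.toMatrix (Algebra.TensorProduct.basis (Polynomial A) b)
    (Algebra.TensorProduct.basis (Polynomial A) b)) (X : Polynomial A) _).trans ?_
  rw [LinearMap.toMatrix_baseChange]
  rfl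

variable (A M) in
/-- Symmetric tensors. -/
abbrev symT (n : ℕ) : Submodule A (PiTensorProduct A (fun _ : Fin n => M)) :=
  ⨅ σ : Equiv.Perm (Fin n),
    LinearMap.eqLocus ((PiTensorProduct.reindex A (fun _ : Fin n => M) σ).toLinearMap) LinearMap.id

lemma mem_symT {n : ℕ} {x : PiTensorProduct A (fun _ : Fin n => M)} :
    x ∈ symT A M n ↔ ∀ σ : Equiv.Perm (Fin n), PiTensorProduct.reindex A (fun _ : Fin n => M) σ x = x := by
  simp [symT, Submodule.mem_iInf]

/-- The monomial basis of the tensor power. -/
def powB (b : Module.Basis (Fin d) A M) (n : ℕ) :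
    Module.Basis (Fin n → Fin d) A (PiTensorProduct A (fun _ : Fin n => M)) :=
  Basis.piTensorProduct fun _ => b

lemma repr_reindex (b : Module.Basis (Fin d) A M) {n : ℕ} (σ : Equiv.Perm (Fin n))
    (x : PiTensorProduct A (fun _ : Fin n => M)) (c : Fin n → Fin d) :
    (powB b n).repr (PiTensorProduct.reindex A (fun _ : Fin n => M) σ x) c =
      (powB b n).repr x (fun i => c (σ i)) := by
  have hlin : ((Finsupp.lapply c).comp (powB b n).repr.toLinearMap).comp
      (PiTensorProduct.reindex A (fun _ : Fin n => M) σ).toLinearMap =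
      (Finsupp.lapply fun i => c (σ i)).comp (powB b n).repr.toLinearMap := by
    refine PiTensorProduct.ext (MultilinearMap.ext fun v => ?_)
    simp only [LinearMap.compMultilinearMap_apply, LinearMap.comp_apply, LinearEquiv.coe_coe, Finsupp.lapply_apply,
      PiTensorProduct.reindex_tprod, powB, Basis.piTensorProduct_repr_tprod_apply]
    refine Eq.trans (Equiv.prod_comp σ fun i => (b.repr (v (σ.symm i))) (c i)).symm ?_
    simp
  exact LinearMap.congr_fun hlin x

/-- Symmetric tensors are functions on multisets. -/
def symEquiv (b : Module.Basis (Fin d) A M) (n : ℕ) : ↥(symT A M n) ≃ₗ[A] (Sym (Fin d) n → A) where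
  toFun x m := (powB b n).repr x.1 (rep m)
  map_add' x y := by funext m; simp
  map_smul' r x := by funext m; simp
  invFun g := ⟨∑ c, g (symW c) • powB b n c, mem_symT.2 fun σ => by
    refine (powB b n).ext_elem fun c => ?_
    rw [repr_reindex, Module.Basis.repr_sum_self, symW_comp_perm]⟩
  left_inv x := by
    refine Subtype.ext ((powB b n).ext_elem fun c => ?_)
    rw [Module.Basis.repr_sum_self]
    obtain ⟨σ, hσ⟩ := exists_perm (symW_rep (symW c))
    have h := repr_reindex b σ x.1 c
    rw [mem_symT.1 x.2 σ, funext hσ] at h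
    exact h.symm
  right_inv g := by
    funext m
    change (powB b n).repr (∑ c, g (symW c) • powB b n c) (rep m) = g m
    rw [Module.Basis.repr_sum_self, symW_rep]

lemma trace_gamma (b : Module.Basis (Fin d) A M) (u : M →ₗ[A] M) {n : ℕ}
    (g : ↥(symT A M n) →ₗ[A] ↥(symT A M n))
    (hg : ∀ x, (g x : PiTensorProduct A (fun _ : Fin n => M)) = PiTensorProduct.map (fun _ : Fin n => u) x.1) :
    LinearMap.trace A _ g = trS (LinearMap.toMatrix b b u) n := by
  classical
  rw [LinearMap.trace_eq_matrix_trace A (Module.Basis.ofEquivFun (symEquiv b n)), Matrix.trace, trS]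
  refine sum_congr rfl fun m _ => ?_
  rw [Matrix.diag_apply, LinearMap.toMatrix_apply, Module.Basis.ofEquivFun_repr_apply,
    Module.Basis.coe_ofEquivFun]
  change (powB b n).repr (g ((symEquiv b n).symm (Pi.single m 1))).1 (rep m) = _
  rw [hg]
  change (powB b n).repr (PiTensorProduct.map (fun _ : Fin n => u)
    (∑ c, (Pi.single m (1 : A) : Sym (Fin d) n → A) (symW c) • powB b n c)) (rep m) = _
  rw [map_sum, map_sum, Finsupp.finsetSum_apply, Finset.sum_filter]
  refine sum_congr rfl fun c _ => ?_
  rw [map_smul, map_smul, Finsupp.smul_apply, powB, Basis.piTensorProduct_apply, PiTensorProduct.map_tprod,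
    Basis.piTensorProduct_repr_tprod_apply]
  by_cases h : symW c = m
  · rw [if_pos h, h, Pi.single_eq_same, one_smul]
    simp [LinearMap.toMatrix_apply]
  · rw [if_neg h, Pi.single_eq_of_ne h, zero_smul]

lemma map_mem_symT (u : M →ₗ[A] M) {n : ℕ} {x : PiTensorProduct A (fun _ : Fin n => M)} (hx : x ∈ symT A M n) :
    PiTensorProduct.map (fun _ : Fin n => u) x ∈ symT A M n := by
  refine mem_symT.2 fun σ => ?_
  have hlin : (PiTensorProduct.reindex A (fun _ : Fin n => M) σ).toLinearMap.comp
      (PiTensorProduct.map fun _ : Fin n => u) =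
      (PiTensorProduct.map fun _ : Fin n => u).comp (PiTensorProduct.reindex A (fun _ : Fin n => M) σ).toLinearMap := by
    refine PiTensorProduct.ext (MultilinearMap.ext fun v => ?_)
    simp [PiTensorProduct.reindex_tprod, PiTensorProduct.map_tprod]
  have := LinearMap.congr_fun hlin x
  simp only [LinearMap.comp_apply, LinearEquiv.coe_coe, mem_symT.1 hx σ] at this
  exact this

lemma trS_basis (b b' : Module.Basis (Fin d) A M) (u : M →ₗ[A] M) (n : ℕ) :
    trS (LinearMap.toMatrix b b u) n = trS (LinearMap.toMatrix b' b' u) n := by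
  let g : ↥(symT A M n) →ₗ[A] ↥(symT A M n) :=
    LinearMap.restrict (PiTensorProduct.map fun _ : Fin n => u) fun x hx => map_mem_symT u hx
  rw [← trace_gamma b u g fun x => rfl, ← trace_gamma b' u g fun x => rfl]

end Invariant

section Triangular

lemma exists_lower {K : Type*} [Field K] [IsAlgClosed K] : ∀ (n : ℕ) (V : Type v) [AddCommGroup V] [Module K V]
    [FiniteDimensional K V] (_ : Module.finrank K V = n) (u : V →ₗ[K] V),
    ∃ b : Module.Basis (Fin n) K V, ∀ i j, i < j → b.repr (u (b j)) i = 0 := by
  intro n
  induction n with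
  | zero => exact fun V _ _ _ h u => ⟨Module.finBasisOfFinrankEq K V h, fun i => i.elim0⟩
  | succ n ih =>
    intro V _ _ _ hV u
    have : Nontrivial V := Module.nontrivial_of_finrank_eq_succ hV
    have hd : Module.finrank K (Module.Dual K V) = n + 1 := by rw [Subspace.dual_finrank_eq, hV]
    have : Nontrivial (Module.Dual K V) := Module.nontrivial_of_finrank_eq_succ hd
    obtain ⟨t, ht⟩ := Module.End.exists_eigenvalue (K := K) (V := Module.Dual K V) u.dualMap
    obtain ⟨f, hf⟩ := Module.End.HasEigenvalue.exists_hasEigenvector ht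
    have hfu : ∀ w, f (u w) = t * f w := fun w => by
      have h := LinearMap.congr_fun hf.apply_eq_smul w
      simpa using h
    have hf0 : f ≠ 0 := hf.2
    obtain ⟨y, hy⟩ : ∃ y, f y ≠ 0 := by
      by_contra h
      push Not at h
      exact hf0 (LinearMap.ext h)
    have hW : Module.finrank K (LinearMap.ker f) = n := by
      have h := LinearMap.finrank_range_add_finrank_ker f
      rw [LinearMap.range_eq_top.2 (LinearMap.surjective hf0), finrank_top, Module.finrank_self, hV] at h
      omega
    obtain ⟨b', hb'⟩ := ih (LinearMap.ker f) hW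
      (LinearMap.restrict u fun w hw => by
        rw [LinearMap.mem_ker] at hw ⊢
        rw [hfu, hw, mul_zero])
    have hli : ∀ (c : K), ∀ w ∈ LinearMap.ker f, c • y + w = 0 → c = 0 := by
      intro c w hw h
      have h' := congrArg f h
      rw [map_add, map_smul, LinearMap.mem_ker.1 hw, add_zero, map_zero, smul_eq_mul] at h'
      exact (mul_eq_zero.1 h').resolve_right hy
    have hsp : ∀ z : V, ∃ c : K, z + c • y ∈ LinearMap.ker f := fun z =>
      ⟨-(f z / f y), by rw [LinearMap.mem_ker, map_add, map_smul, smul_eq_mul, neg_mul, div_mul_cancel₀ _ hy, add_neg_cancel]⟩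
    refine ⟨Module.Basis.mkFinCons y b' hli hsp, fun i j hij => ?_⟩
    obtain ⟨j', rfl⟩ := Fin.exists_succ_eq.2 (show j ≠ 0 from fun h => Nat.not_lt_zero _ (show (i : ℕ) < 0 by simpa [h] using Fin.lt_def.1 hij))
    rw [Module.Basis.coe_mkFinCons, Fin.cons_succ, Function.comp_apply]
    let w : LinearMap.ker f := ⟨u (b' j'), by rw [LinearMap.mem_ker, hfu, LinearMap.mem_ker.1 (b' j').2, mul_zero]⟩
    have hw : u (b' j' : V) =
        ∑ k, (Fin.cons 0 (fun l => b'.repr w l) : Fin (n + 1) → K) k • Module.Basis.mkFinCons y b' hli hsp k := by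
      rw [Fin.sum_univ_succ]
      simp only [Fin.cons_zero, zero_smul, zero_add, Fin.cons_succ, Module.Basis.coe_mkFinCons, Function.comp_apply]
      conv_lhs => rw [show u (b' j' : V) = (w : V) from rfl, ← b'.sum_repr w, Submodule.coe_sum]
      rfl
    rw [hw, Module.Basis.repr_sum_self]
    induction i using Fin.cases with
    | zero => simp
    | succ i' =>
      rw [Fin.cons_succ]
      exact hb' i' j' (Fin.succ_lt_succ_iff.1 hij)

end Triangular

lemma identity {A : Type*} [CommRing A] {d : ℕ} (M : Matrix (Fin d) (Fin d) A) :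
    (M.charpolyRev : PowerSeries A) * PowerSeries.mk (trS M) = 1 := by
  have hmap : ∀ {B B' : Type} [CommRing B] [CommRing B'] (f : B →+* B') (N : Matrix (Fin d) (Fin d) B),
      PowerSeries.map f ((N.charpolyRev : PowerSeries B) * PowerSeries.mk (trS N)) =
        ((N.map f).charpolyRev : PowerSeries B') * PowerSeries.mk (trS (N.map f)) := by
    intro B B' _ _ f N
    rw [map_mul]
    congr 1
    · rw [← Polynomial.polynomial_map_coe]
      congr 1
      rw [Matrix.charpolyRev, Matrix.charpolyRev, ← Polynomial.coe_mapRingHom, RingHom.map_det]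
      congr 1
      ext i j : 1
      simp [Matrix.one_apply, apply_ite (Polynomial.map f)]
    · ext n
      simp [map_trS]
  let G : Matrix (Fin d) (Fin d) (MvPolynomial (Fin d × Fin d) ℤ) := fun i j => MvPolynomial.X (i, j)
  have hgen : (G.charpolyRev : PowerSeries (MvPolynomial (Fin d × Fin d) ℤ)) * PowerSeries.mk (trS G) = 1 := by
    ext n : 1
    refine MvPolynomial.map_injective (Int.castRingHom ℂ) Int.cast_injective (MvPolynomial.funext fun z => ?_)
    let ev : MvPolynomial (Fin d × Fin d) ℤ →+* ℂ :=
      (MvPolynomial.eval z).comp (MvPolynomial.map (Int.castRingHom ℂ))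
    have key : PowerSeries.map ev ((G.charpolyRev : PowerSeries (MvPolynomial (Fin d × Fin d) ℤ)) * PowerSeries.mk (trS G)) = 1 := by
      rw [hmap ev G]
      set N := G.map ev
      let u : (Fin d → ℂ) →ₗ[ℂ] (Fin d → ℂ) := Matrix.toLin (Pi.basisFun ℂ (Fin d)) (Pi.basisFun ℂ (Fin d)) N
      obtain ⟨b, hb⟩ := exists_lower d (Fin d → ℂ) (Module.finrank_fin_fun ℂ) u
      have hN : LinearMap.toMatrix (Pi.basisFun ℂ (Fin d)) (Pi.basisFun ℂ (Fin d)) u = N := LinearMap.toMatrix_toLin _ _ _
      rw [← hN, ← detU_eq, funext (trS_basis (Pi.basisFun ℂ (Fin d)) b u), detU_eq b]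
      exact identity_lower _ fun i j hij => by rw [LinearMap.toMatrix_apply]; exact hb i j hij
    have h := congrArg (PowerSeries.coeff n) key
    rw [← map_one (PowerSeries.map ev), PowerSeries.coeff_map, PowerSeries.coeff_map] at h
    exact h
  let φ : MvPolynomial (Fin d × Fin d) ℤ →+* A := (MvPolynomial.aeval fun ij => M ij.1 ij.2).toRingHom
  have hM : G.map φ = M := by
    ext i j
    exact MvPolynomial.aeval_X _ _
  have h := congrArg (PowerSeries.map φ) hgen
  rw [map_one, map_mul] at h
  rw [← h]
  congr 1
  · rw [← Polynomial.polynomial_map_coe]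
    congr 1
    rw [Matrix.charpolyRev, Matrix.charpolyRev, ← Polynomial.coe_mapRingHom, RingHom.map_det]
    congr 1
    refine Matrix.ext fun i j => ?_
    rw [← hM]
    simp [Matrix.one_apply, apply_ite (Polynomial.map φ)]
  · ext n
    simp [map_trS, hM]

end


open TensorProduct PiTensorProduct Polynomial in
/-- The case of a module placed in degree 0: let A be a commutative ring, M a finite free A-module and u
an endomorphism of M. For each n let Γ^n M be the submodule of the n-fold tensor power of M fixed by
all permutations of the factors (symmetric tensors) and γ_n the endomorphism of Γ^n M induced by the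
n-fold tensor power of u. Then the power series Σ_n Tr(γ_n) t^n is the inverse of the polynomial
det(1 - u t, M): their product is 1 in A[[t]]. (The published statement allows M projective of
finite type; this row takes M free, where the trace of Γ^n M is the usual one.) -/
theorem result {A : Type u} [CommRing A] (M : Type u) [AddCommGroup M]
    [Module A M] [Module.Free A M] [Module.Finite A M] (u : M →ₗ[A] M)
    (γ : ∀ n : ℕ, ↥(⨅ σ : Equiv.Perm (Fin n),
        LinearMap.eqLocus ((PiTensorProduct.reindex A (fun _ : Fin n => M) σ).toLinearMap) LinearMap.id) →ₗ[A]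
      ↥(⨅ σ : Equiv.Perm (Fin n),
        LinearMap.eqLocus ((PiTensorProduct.reindex A (fun _ : Fin n => M) σ).toLinearMap) LinearMap.id))
    (hγ : ∀ (n : ℕ) (x : ↥(⨅ σ : Equiv.Perm (Fin n),
        LinearMap.eqLocus ((PiTensorProduct.reindex A (fun _ : Fin n => M) σ).toLinearMap) LinearMap.id)),
      (↑(γ n x) : ⨂[A] _i : Fin n, M) = PiTensorProduct.map (fun _ : Fin n => u) (↑x : ⨂[A] _i : Fin n, M)) :
    (↑(SGA4h.detOneSub (ModuleCat.of A M) (ModuleCat.ofHom u)) : PowerSeries A) *
      PowerSeries.mk (fun n => LinearMap.trace A _ (γ n)) = 1 := by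
  classical
  let b := (Module.Free.chooseBasis A M).reindex (Fintype.equivFin _)
  have h1 : SGA4h.detOneSub (ModuleCat.of A M) (ModuleCat.ofHom u) = (LinearMap.toMatrix b b u).charpolyRev :=
    detU_eq b u
  have h2 : (fun n => LinearMap.trace A _ (γ n)) = trS (LinearMap.toMatrix b b u) :=
    funext fun n => trace_gamma b u (γ n) (hγ n)
  rw [h1, h2]
  exact identity _

end Groth.Agent.S8609
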