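import Groth.Statements.S8625
import Mathlib
-- import your own Groth.Agent.* helpers here

set_option autoImplicit false
universe u
open SGA4h

namespace Groth.Agent.S8625

/-- Let G be a group with an endomorphism F, and assume the Lang map g ↦ F(g)g⁻¹ is surjective (for
instance the geometric points of a connected algebraic group over F_q with its Frobenius, where the
surjectivity is the classical result of Lang; the other Lang map g ↦ g⁻¹F(g) is then surjective too,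
by g ↦ g⁻¹). Let G^F be the subgroup of fixed points of F. (i) If F(g)g⁻¹ is fixed by F then so is
g⁻¹F(g). (ii), (iii) There is a bijection of the set of conjugacy classes of G^F with itself
sending, for every g with F(g)g⁻¹ ∈ G^F, the class of F(g)g⁻¹ to the class of g⁻¹F(g) (in particular
the latter class depends only on the former). -/
theorem result {G : Type u} [Group G] (F : G →* G)
    (hL : Function.Surjective fun g : G => F g * g⁻¹) :
    (∀ g : G, F (F g * g⁻¹) = F g * g⁻¹ → F (g⁻¹ * F g) = g⁻¹ * F g) ∧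
    ∃ φ : ConjClasses ↥(F.eqLocus (MonoidHom.id G)) → ConjClasses ↥(F.eqLocus (MonoidHom.id G)),
      Function.Bijective φ ∧
      ∀ (g : G) (h : F (F g * g⁻¹) = F g * g⁻¹) (h' : F (g⁻¹ * F g) = g⁻¹ * F g),
        φ (ConjClasses.mk (⟨F g * g⁻¹, h⟩ : ↥(F.eqLocus (MonoidHom.id G)))) =
          ConjClasses.mk (⟨g⁻¹ * F g, h'⟩ : ↥(F.eqLocus (MonoidHom.id G))) := by
  classical
  have part1 : ∀ g : G, F (F g * g⁻¹) = F g * g⁻¹ → F (g⁻¹ * F g) = g⁻¹ * F g := by
    intro g hg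
    have e : F (F g) = (F g * g⁻¹) * F g := by
      rw [map_mul, map_inv] at hg
      rw [← hg]; group
    rw [map_mul, map_inv, e]; group
  refine ⟨part1, ?_⟩
  let H := F.eqLocus (MonoidHom.id G)
  let cg : H → G := fun a => (hL a.1).choose
  have hcg : ∀ a : H, F (cg a) = a.1 * cg a := fun a =>
    mul_inv_eq_iff_eq_mul.1 (hL a.1).choose_spec
  have hfix : ∀ (g : G) (a : H), F g = a.1 * g → F (g⁻¹ * F g) = g⁻¹ * F g := fun g a hg => part1 g (by
    rw [hg, mul_inv_cancel_right]; exact a.2)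
  have key : ∀ (a a' : H) (g g' : G) (hg : F g = a.1 * g) (hg' : F g' = a'.1 * g'), IsConj a a' →
      ConjClasses.mk (⟨g⁻¹ * F g, hfix g a hg⟩ : H) = ConjClasses.mk (⟨g'⁻¹ * F g', hfix g' a' hg'⟩ : H) := by
    intro a a' g g' hg hg' hc
    obtain ⟨⟨h, hh⟩, e⟩ := isConj_iff.1 hc
    have e' : h * a.1 * h⁻¹ = a'.1 := congrArg Subtype.val e
    have hh' : F h = h := hh
    have hk : F (g'⁻¹ * (h * g)) = g'⁻¹ * (h * g) := by
      simp only [map_mul, map_inv, hg, hg', hh', ← e']; group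
    rw [ConjClasses.mk_eq_mk_iff_isConj, isConj_iff]
    refine ⟨⟨g'⁻¹ * (h * g), hk⟩, Subtype.ext ?_⟩
    show g'⁻¹ * (h * g) * (g⁻¹ * F g) * (g'⁻¹ * (h * g))⁻¹ = g'⁻¹ * F g'
    rw [hg, hg', ← e']; group
  let ψ : H → ConjClasses H := fun a => ConjClasses.mk ⟨(cg a)⁻¹ * F (cg a), hfix _ a (hcg a)⟩
  refine ⟨Quotient.lift ψ (fun a a' hc => key a a' _ _ (hcg a) (hcg a') hc), ⟨?_, ?_⟩, fun g h h' => ?_⟩
  · rintro ⟨a⟩ ⟨a'⟩ e
    refine Quotient.sound ?_
    obtain ⟨⟨k, hk⟩, e1⟩ := isConj_iff.1 (ConjClasses.mk_eq_mk_iff_isConj.1 e)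
    have e2 : k * ((cg a)⁻¹ * F (cg a)) * k⁻¹ = (cg a')⁻¹ * F (cg a') := congrArg Subtype.val e1
    have hk' : F k = k := hk
    set g := cg a
    set g' := cg a'
    have e3 : F g' = g' * (k * (g⁻¹ * F g) * k⁻¹) := by rw [e2]; group
    have hu : F (g' * k * g⁻¹) = g' * k * g⁻¹ := by
      simp only [map_mul, map_inv, hk', e3]; group
    show IsConj a a'
    rw [isConj_iff]
    refine ⟨⟨g' * k * g⁻¹, hu⟩, Subtype.ext ?_⟩
    show g' * k * g⁻¹ * a.1 * (g' * k * g⁻¹)⁻¹ = a'.1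
    have ha : a.1 = F g * g⁻¹ := eq_mul_inv_of_mul_eq (hcg a).symm
    have ha' : a'.1 = F g' * g'⁻¹ := eq_mul_inv_of_mul_eq (hcg a').symm
    rw [ha, ha', e3]; group
  · rintro ⟨c⟩
    obtain ⟨g, hg⟩ := hL (c.1⁻¹)
    have hg' : F g = c.1⁻¹ * g := mul_inv_eq_iff_eq_mul.1 hg
    have hc' : F c.1 = c.1 := c.2
    have hF : F g⁻¹ = g⁻¹ * c.1 := by rw [map_inv, hg']; group
    have ha : F (F g⁻¹ * g⁻¹⁻¹) = F g⁻¹ * g⁻¹⁻¹ := by
      rw [hF]
      simp only [map_mul, map_inv, hg', hc']; group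
    refine ⟨ConjClasses.mk (⟨F g⁻¹ * g⁻¹⁻¹, ha⟩ : H), (key _ (⟨F g⁻¹ * g⁻¹⁻¹, ha⟩ : H) _ g⁻¹ (hcg _) (by group) (IsConj.refl _)).trans ?_⟩
    show ConjClasses.mk _ = ConjClasses.mk c
    congr 1
    refine Subtype.ext ?_
    show g⁻¹⁻¹ * F g⁻¹ = c.1
    rw [hF]; group
  · exact key _ (⟨F g * g⁻¹, h⟩ : H) _ g (hcg _) (by group) (IsConj.refl _)

end Groth.Agent.S8625
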