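import Groth.Statements.S8630
import Mathlib
-- import your own Groth.Agent.* helpers here

set_option autoImplicit false
open Zeta

namespace Groth.Agent.S8630

theorem clear_den (Q : Polynomial ℚ) :
    ∃ (M : ℤ) (Q₁ : Polynomial ℤ), M ≠ 0 ∧ Q₁.map (Int.castRingHom ℚ) = Polynomial.C (M : ℚ) * Q := by
  obtain ⟨⟨M, hM⟩, hb⟩ := IsLocalization.integerNormalization_map_to_map (nonZeroDivisors ℤ) Q
  refine ⟨M, IsLocalization.integerNormalization (nonZeroDivisors ℤ) Q, nonZeroDivisors.ne_zero hM, ?_⟩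
  rw [show (Int.castRingHom ℚ) = algebraMap ℤ ℚ from rfl, hb, Polynomial.C_eq_intCast, zsmul_eq_mul]

theorem unit_const (Q₁ : Polynomial ℤ) (h1 : Q₁.IsPrimitive) :
    ∀ (m : ℕ) (W : PowerSeries ℤ) (K : ℤ), K.natAbs = m → K ≠ 0 →
      (Q₁ : PowerSeries ℤ) * W = PowerSeries.C K → IsUnit (Q₁.coeff 0) := by
  intro m
  induction m using Nat.strong_induction_on with
  | _ m ih =>
    intro W K hK hK0 h
    by_cases hm : m = 1
    · have h0 := congrArg PowerSeries.constantCoeff h
      rw [map_mul, PowerSeries.constantCoeff_C] at h0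
      have : IsUnit K := Int.isUnit_iff_natAbs_eq.2 (hK.trans hm)
      rw [← h0] at this
      have := isUnit_of_mul_isUnit_left this
      simpa [Polynomial.constantCoeff_coe] using this
    · obtain ⟨p, hp, hpK⟩ := Nat.exists_prime_and_dvd (n := K.natAbs) (hK ▸ hm)
      haveI := Fact.mk hp
      obtain ⟨K', rfl⟩ : (p : ℤ) ∣ K := Int.natCast_dvd.2 hpK
      have hW : ∀ i, (p : ℤ) ∣ PowerSeries.coeff i W := by
        have h' := congrArg (PowerSeries.map (Int.castRingHom (ZMod p))) h
        rw [map_mul, PowerSeries.map_C, ← Polynomial.polynomial_map_coe] at h'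
        have hz : (Int.castRingHom (ZMod p)) ((p : ℤ) * K') = 0 := by simp
        rw [hz, map_zero] at h'
        rcases mul_eq_zero.1 h' with h'' | h''
        · exfalso
          rw [Polynomial.coe_eq_zero_iff] at h''
          have hdvd : Polynomial.C (p : ℤ) ∣ Q₁ := by
            rw [Polynomial.C_dvd_iff_dvd_coeff]
            intro i
            have := congrArg (fun f => Polynomial.coeff f i) h''
            simp only [Polynomial.coeff_map, Polynomial.coeff_zero, eq_intCast] at this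
            exact (ZMod.intCast_zmod_eq_zero_iff_dvd _ p).1 this
          exact (Nat.prime_iff_prime_int.1 hp).not_isUnit (h1 _ hdvd)
        · intro i
          have := congrArg (PowerSeries.coeff i) h''
          simp only [PowerSeries.coeff_map, map_zero, eq_intCast] at this
          exact (ZMod.intCast_zmod_eq_zero_iff_dvd _ p).1 this
      choose w hw using hW
      have hK' : K' ≠ 0 := right_ne_zero_of_mul hK0
      have hlt : K'.natAbs < m := by
        rw [← hK, Int.natAbs_mul, Int.natAbs_natCast]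
        exact lt_mul_of_one_lt_left (Int.natAbs_pos.2 hK') hp.one_lt
      refine ih _ hlt (PowerSeries.mk w) K' rfl hK' ?_
      have hWeq : W = PowerSeries.C (p : ℤ) * PowerSeries.mk w := by
        ext i; rw [PowerSeries.coeff_C_mul, PowerSeries.coeff_mk, hw i]
      rw [hWeq, mul_left_comm, map_mul] at h
      exact mul_left_cancel₀ (fun e => hp.ne_zero (by simpa using congrArg PowerSeries.constantCoeff e)) h


/-- Fatou's lemma: let P, Q ∈ ℚ[T] be coprime with constant coefficient 1, and suppose the power series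
P/Q has integer coefficients, i.e. P = Q·Z in ℚ⟦T⟧ for a power series Z with coefficients in ℤ. Then
P and Q have integer coefficients. -/
theorem result (P Q : Polynomial ℚ)
    (hPQ : IsCoprime P Q) (hP : P.coeff 0 = 1) (hQ : Q.coeff 0 = 1) (Z : PowerSeries ℤ)
    (hZ : (P : PowerSeries ℚ) = (Q : PowerSeries ℚ) * PowerSeries.map (Int.castRingHom ℚ) Z) :
    (∃ P₀ : Polynomial ℤ, P₀.map (Int.castRingHom ℚ) = P) ∧
      ∃ Q₀ : Polynomial ℤ, Q₀.map (Int.castRingHom ℚ) = Q := by
  obtain ⟨u, v, huv⟩ := hPQ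
  obtain ⟨a, U, ha, hU⟩ := clear_den v
  obtain ⟨b, V, hb, hV⟩ := clear_den u
  obtain ⟨M, Q₀, hM, hQ₀⟩ := clear_den Q
  have hQ₀0 : Q₀ ≠ 0 := fun e => by
    have := congrArg (fun f => Polynomial.coeff f 0) hQ₀
    simp [e, hQ] at this
    exact hM (by exact_mod_cast this.symm)
  have hc : Q₀.content ≠ 0 := fun e => hQ₀0 (Polynomial.content_eq_zero_iff.1 e)
  set ι := Int.castRingHom ℚ
  have hι : Function.Injective (PowerSeries.map ι) := PowerSeries.map_injective _ Int.cast_injective
  have hW : (Q₀.primPart : PowerSeries ℤ) * (PowerSeries.C Q₀.content * (PowerSeries.C b * (U : PowerSeries ℤ) +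
      PowerSeries.C a * (V : PowerSeries ℤ) * Z)) = PowerSeries.C (M * a * b) := by
    apply hι
    have e1 := congrArg (fun f : Polynomial ℚ => (f : PowerSeries ℚ)) hU
    have e2 := congrArg (fun f : Polynomial ℚ => (f : PowerSeries ℚ)) hV
    have e3 := congrArg (fun f : Polynomial ℚ => (f : PowerSeries ℚ)) hQ₀
    have e4 := congrArg (fun f : Polynomial ℚ => (f : PowerSeries ℚ)) huv
    have e5 : (Q₀.primPart : PowerSeries ℤ) * PowerSeries.C Q₀.content = (Q₀ : PowerSeries ℤ) := by
      rw [← Polynomial.coe_C, ← Polynomial.coe_mul, mul_comm, ← Q₀.eq_C_content_mul_primPart]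
    simp only [Polynomial.coe_mul, Polynomial.coe_C, Polynomial.coe_add, Polynomial.coe_one] at e1 e2 e3 e4
    rw [← mul_assoc, e5]
    simp only [map_mul, map_add, PowerSeries.map_C, ← Polynomial.polynomial_map_coe]
    rw [e1, e2, e3, show ι a = (a : ℚ) from rfl, show ι b = (b : ℚ) from rfl, show ι M = (M : ℚ) from rfl]
    linear_combination (PowerSeries.C (M : ℚ) * PowerSeries.C (a : ℚ) * PowerSeries.C (b : ℚ)) * e4 -
      (PowerSeries.C (M : ℚ) * PowerSeries.C (a : ℚ) * PowerSeries.C (b : ℚ) * (u : PowerSeries ℚ)) * hZ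
  have hu := unit_const _ Q₀.isPrimitive_primPart _ _ _ rfl (mul_ne_zero (mul_ne_zero hM ha) hb) hW
  have hQint : ∀ i, ∃ z : ℤ, (z : ℚ) = Q.coeff i := by
    intro i
    obtain ⟨e, he⟩ := hu
    refine ⟨(↑e⁻¹ : ℤ) * Q₀.primPart.coeff i, ?_⟩
    have key : ∀ j, (Q₀.content : ℚ) * (Q₀.primPart.coeff j : ℚ) = M * Q.coeff j := fun j => by
      have := congrArg (fun f => Polynomial.coeff f j) hQ₀
      simp only [Polynomial.coeff_map, Polynomial.coeff_C_mul] at this
      rw [← this, ← Int.cast_mul, ← Polynomial.coeff_C_mul, ← Q₀.eq_C_content_mul_primPart]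
      rfl
    have h0 := key 0
    rw [hQ, mul_one] at h0
    have hi := key i
    rw [← h0] at hi
    have hee : ((↑e⁻¹ : ℤ) : ℚ) * (Q₀.primPart.coeff 0 : ℚ) = 1 := by
      rw [← Int.cast_mul, ← he, Units.inv_mul, Int.cast_one]
    push_cast
    have hc' : (Q₀.content : ℚ) ≠ 0 := by exact_mod_cast hc
    apply mul_left_cancel₀ hc'
    linear_combination ((↑e⁻¹ : ℤ) : ℚ) * hi + ((Q₀.content : ℚ) * Q.coeff i) * hee
  have hQlift : ∃ Q₂ : Polynomial ℤ, Q₂.map ι = Q := (Polynomial.mem_lifts Q).1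
    ((Polynomial.lifts_iff_coeff_lifts Q).2 fun i => by
      obtain ⟨z, hz⟩ := hQint i
      exact ⟨z, hz⟩)
  obtain ⟨Q₂, hQ₂⟩ := hQlift
  refine ⟨(Polynomial.mem_lifts P).1 ((Polynomial.lifts_iff_coeff_lifts P).2 fun i => ?_), Q₂, hQ₂⟩
  refine ⟨PowerSeries.coeff i ((Q₂ : PowerSeries ℤ) * Z), ?_⟩
  rw [← PowerSeries.coeff_map, map_mul, ← Polynomial.polynomial_map_coe, hQ₂, ← hZ, Polynomial.coeff_coe]

end Groth.Agent.S8630
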