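import Groth.Statements.S8666
import Mathlib
-- import your own Groth.Agent.* helpers here

set_option autoImplicit false
universe u
open CAlg

namespace Groth.Agent.S8666

open Module

variable {A : Type u} [CommRing A] {M : Type u} [AddCommGroup M] [Module A M]

theorem span_mk_eq_top_iff (p : Ideal A) [p.IsPrime] (s : M) :
    Submodule.span (Localization.AtPrime p) {LocalizedModule.mkLinearMap p.primeCompl M s} = ⊤ ↔
      ∀ m : M, ∃ t ∈ p.primeCompl, ∃ a : A, t • m = a • s := by
  rw [Submodule.span_singleton_eq_top_iff]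
  constructor
  · intro h m
    obtain ⟨c, hc⟩ := h (LocalizedModule.mk m 1)
    induction c using Localization.induction_on with
    | _ z =>
      rw [LocalizedModule.mkLinearMap_apply, LocalizedModule.mk_smul_mk, LocalizedModule.mk_eq] at hc
      obtain ⟨v, hv⟩ := hc
      refine ⟨v * z.2, (v * z.2).2, v * z.1, ?_⟩
      simpa [mul_smul, Submonoid.smul_def, smul_comm (z.2 : A) (v : A) m] using hv.symm
  · intro h x
    induction x with
    | _ m w =>
      obtain ⟨t, ht, a, ha⟩ := h m
      refine ⟨Localization.mk a (w * ⟨t, ht⟩), ?_⟩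
      rw [LocalizedModule.mkLinearMap_apply, LocalizedModule.mk_smul_mk, LocalizedModule.mk_eq]
      exact ⟨1, by simp [Submonoid.smul_def, mul_smul, ← ha]⟩

theorem exists_unit_coord [Module.Invertible A M] (p : Ideal A) [p.IsPrime] :
    ∃ (e : LocalizedModule p.primeCompl M ≃ₗ[Localization.AtPrime p] Localization.AtPrime p) (m : M),
      IsUnit (e (LocalizedModule.mkLinearMap p.primeCompl M m)) := by
  obtain ⟨e⟩ := Module.Invertible.free_iff_linearEquiv.mp
    (inferInstance : Module.Free (Localization.AtPrime p) (LocalizedModule p.primeCompl M))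
  obtain ⟨x, hx⟩ := e.surjective 1
  induction x with
  | _ m w =>
    refine ⟨e, m, ?_⟩
    have h1 : LocalizedModule.mkLinearMap p.primeCompl M m =
        algebraMap A (Localization.AtPrime p) (w : A) • LocalizedModule.mk m w := by
      rw [algebraMap_smul, LocalizedModule.smul'_mk, ← Submonoid.smul_def, LocalizedModule.mk_cancel]
      rfl
    rw [h1, map_smul, hx, smul_eq_mul, mul_one]
    exact IsLocalization.map_units _ w

theorem exists_generator [Module.Invertible A M] (P : Finset (PrimeSpectrum A))
    (hP : ∀ p ∈ P, ∀ q ∈ P, p ≠ q → ¬ p.asIdeal ≤ q.asIdeal) :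
    ∃ s : M, ∀ p ∈ P, Submodule.span (Localization.AtPrime p.asIdeal)
      {LocalizedModule.mkLinearMap p.asIdeal.primeCompl M s} = ⊤ := by
  classical
  choose e m hm using fun p : PrimeSpectrum A => exists_unit_coord (M := M) p.asIdeal
  have hex : ∀ p ∈ P, ∃ c : A, c ∉ p.asIdeal ∧ ∀ q ∈ P, q ≠ p → c ∈ q.asIdeal := by
    intro p hp
    have : ¬ (P.erase p).inf (fun q => q.asIdeal) ≤ p.asIdeal := fun h => by
      obtain ⟨q, hq, hqp⟩ := (Ideal.IsPrime.inf_le' p.isPrime).mp h
      exact hP q (Finset.mem_of_mem_erase hq) p hp (Finset.ne_of_mem_erase hq) hqp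
    obtain ⟨c, hc, hcp⟩ := SetLike.not_le_iff_exists.mp this
    exact ⟨c, hcp, fun q hq hqp => Finset.inf_le (f := fun q : PrimeSpectrum A => q.asIdeal)
      (Finset.mem_erase.mpr ⟨hqp, hq⟩) hc⟩
  choose! c hc hc' using hex
  refine ⟨∑ p ∈ P, c p • m p, fun p hp => ?_⟩
  have hu : IsUnit (e p (LocalizedModule.mkLinearMap p.asIdeal.primeCompl M (∑ q ∈ P, c q • m q))) := by
    have lin : ∀ (b : A) x, e p (b • x) = b • e p x := fun b x => (e p).toLinearMap.map_smul_of_tower b x
    simp only [map_sum, map_smul, lin]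
    rw [← Finset.add_sum_erase P _ hp]
    rw [← IsLocalRing.notMem_maximalIdeal]
    intro h
    have hrest : ∑ q ∈ P.erase p, c q • e p (LocalizedModule.mkLinearMap p.asIdeal.primeCompl M (m q)) ∈
        IsLocalRing.maximalIdeal (Localization.AtPrime p.asIdeal) := by
      refine Ideal.sum_mem _ fun q hq => ?_
      rw [Algebra.smul_def]
      exact Ideal.mul_mem_right _ _ ((IsLocalization.AtPrime.to_map_mem_maximal_iff _ p.asIdeal _).mpr
        (hc' q (Finset.mem_of_mem_erase hq) p hp (Finset.ne_of_mem_erase hq).symm))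
    have h1 := (Ideal.add_mem_iff_left _ hrest).mp h
    rw [Algebra.smul_def] at h1
    refine (IsLocalRing.notMem_maximalIdeal.mpr (IsUnit.mul ?_ (hm p))) h1
    exact IsLocalization.map_units _ (⟨c p, hc p hp⟩ : p.asIdeal.primeCompl)
  rw [Submodule.span_singleton_eq_top_iff]
  intro x
  obtain ⟨u, hu⟩ := hu
  refine ⟨e p x * ↑u⁻¹, (e p).injective ?_⟩
  rw [map_smul, smul_eq_mul, ← hu, mul_assoc, Units.inv_mul, mul_one]


/-- Let A be a Noetherian ring, M an invertible A-module and p_1, …, p_k finitely many primes of A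
(points of Spec A). Then there is a single element s ∈ M whose image generates M_{p_i} as an
A_{p_i}-module for every i, i.e. s is a basis of the stalk of M at each of the given points. -/
theorem result (A : Type u) [CommRing A] [IsNoetherianRing A]
    (M : Type u) [AddCommGroup M] [Module A M] [Module.Invertible A M] (ι : Type) [Finite ι] (p : ι → PrimeSpectrum A) :
    ∃ s : M, ∀ i : ι, Submodule.span (Localization.AtPrime (p i).asIdeal)
      {LocalizedModule.mkLinearMap (p i).asIdeal.primeCompl M s} = ⊤ := by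
  classical
  haveI := Fintype.ofFinite ι
  let Q : Finset (PrimeSpectrum A) := Finset.univ.image p
  let P : Finset (PrimeSpectrum A) := Q.filter fun q => Maximal (· ∈ Q) q
  obtain ⟨s, hs⟩ := exists_generator (M := M) P (fun a ha b hb hab h => by
    simp only [P, Finset.mem_filter] at ha hb
    exact hab (ha.2.eq_of_le hb.1 h))
  refine ⟨s, fun i => ?_⟩
  obtain ⟨q, hiq, hq⟩ := Q.exists_le_maximal (Finset.mem_image_of_mem p (Finset.mem_univ i))
  have := (span_mk_eq_top_iff q.asIdeal s).mp (hs q (Finset.mem_filter.mpr ⟨hq.prop, hq⟩))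
  refine (span_mk_eq_top_iff (p i).asIdeal s).mpr fun m => ?_
  obtain ⟨t, ht, a, ha⟩ := this m
  exact ⟨t, fun h => ht (hiq h), a, ha⟩

end Groth.Agent.S8666
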