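import Groth.Statements.S8678
import Groth.Agent.Lambda.Positive

set_option autoImplicit false
universe u
open Finset
open LambdaRing

namespace Groth.Agent.S8678

/-- As the identity it proves in the pre-λ-ring K(Y') of the exceptional divisor: let K be a pre-λ-ring
(λ^0 = 1, λ^1 = id, additive formula) with λ^k(1) = 0 for all k ≥ 2, let d ≥ 2, and let F, L, N' ∈ K
satisfy λ^j(L) = 0 for j ≥ 2 (L is the class of an invertible module), λ^i(N') = 0 for i ≥ d − 1 (N'
is the class of a bundle of rank d − 2) and F + L = N' + 2 (for the blowing up of a regular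
immersion of codimension d: on the exceptional divisor the pulled-back conormal class is F + L, and
N = N' + 2). Then 1 − L divides λ_{−1}(F) = Σ_{i<d} (−1)^i λ^i(F). (The published proof uses only
additivity of λ_t and λ_t(1) = 1 + t, the hypotheses taken here.) -/
theorem result (K : Type u) [CommRing K] [LambdaRing.LambdaOps K]
    (h1 : ∀ k : ℕ, 2 ≤ k → LambdaRing.LambdaOps.lam k (1 : K) = 0) (d : ℕ) (hd : 2 ≤ d) (F L N' : K)
    (hL : ∀ j : ℕ, 2 ≤ j → LambdaRing.LambdaOps.lam j L = 0) (hN' : ∀ i : ℕ, d - 1 ≤ i → LambdaRing.LambdaOps.lam i N' = 0)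
    (hrel : F + L = N' + 2) :
    (1 - L) ∣ ∑ i ∈ range d, (-1 : K) ^ i * LambdaRing.LambdaOps.lam i F := by
  let I : Ideal K := Ideal.span {1 - L}
  let q := Ideal.Quotient.mk I
  rw [← Ideal.mem_span_singleton, ← Ideal.Quotient.eq_zero_iff_mem]
  change q _ = 0
  have hqL : q L = 1 := (Ideal.Quotient.eq.2 (by
    rw [← neg_sub]; exact neg_mem (Ideal.mem_span_singleton_self _)) : q L = q 1).trans (map_one q)
  have e : LambdaRing.lamSeries F * Lambda.lin L =
      LambdaRing.lamSeries N' * (Lambda.lin 1 * Lambda.lin 1) := by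
    rw [← Lambda.lamSeries_eq_lin hL, ← Lambda.lamSeries_eq_lin h1, ← Lambda.lamSeries_add, hrel,
      show (2 : K) = 1 + 1 by ring, Lambda.lamSeries_add, Lambda.lamSeries_add]
  have hmap : ∀ a : K, PowerSeries.map q (Lambda.lin a) = Lambda.lin (q a) := fun a => by
    simp [Lambda.lin]
  have e2 := congrArg (PowerSeries.map q) e
  rw [map_mul, map_mul, map_mul, hmap, hmap, hqL, map_one, ← mul_assoc] at e2
  have e3 := (PowerSeries.isUnit_iff_constantCoeff.2 (by simp)).mul_right_cancel e2
  have key : ∀ i, q (LambdaRing.LambdaOps.lam (i + 1) F) =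
      q (LambdaRing.LambdaOps.lam (i + 1) N') + q (LambdaRing.LambdaOps.lam i N') := fun i => by
    have := congrArg (PowerSeries.coeff (i + 1)) e3
    rw [mul_comm, Lambda.coeff_lin_mul] at this
    simpa using this
  have hsum : ∀ n, q (∑ i ∈ Finset.range (n + 1), (-1 : K) ^ i * LambdaRing.LambdaOps.lam i F) =
      (-1) ^ n * q (LambdaRing.LambdaOps.lam n N') := by
    intro n
    induction n with
    | zero => simp [LambdaRing.LambdaOps.lam_zero]
    | succ n ih =>
      rw [Finset.sum_range_succ, map_add, ih, map_mul, map_pow, map_neg, map_one, key, pow_succ]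
      ring
  obtain ⟨n, rfl⟩ : ∃ n, d = n + 1 := ⟨d - 1, by omega⟩
  rw [hsum, hN' n (by omega), map_zero, mul_zero]

end Groth.Agent.S8678
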