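import Groth.Statements.S8691
import Groth.Agent.Lambda.LineRing
-- import your own Groth.Agent.* helpers here

set_option autoImplicit false
universe u
open Finset
open LambdaRing

namespace Groth.Agent.S8691

/-- Let K be a λ-ring in the strict sense, d a natural number and N ∈ K with λ^i(N) = 0 for every i > d;
put λ_{−1}(N) = Σ_{i=0}^{d} (−1)^i λ^i(N). Then for every p ≥ 1 and every x ∈ K the element λ^p(x ·
λ_{−1}(N)) is divisible by λ_{−1}(N). (The published statement is for the λ-ring generated over the
integers by N and x subject to λ^i(N) = 0 for i > d, a polynomial ring; the divisibility passes to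
any λ-ring along the λ-homomorphism sending the generators to N and x, which is the substituted form
stated here.) The hypotheses hP and hQ, existence of the universal polynomials, are true statements
carried so that the identities of K can be used at every index. -/
theorem result (K : Type u) [CommRing K] [LambdaRing.LambdaOps K]
    (hK : LambdaRing.IsSpecial K)
    (hP : ∀ n : ℕ, ∃ P : MvPolynomial (Fin n ⊕ Fin n) ℤ, LambdaRing.IsMulPoly n P)
    (hQ : ∀ i j : ℕ, ∃ Q : MvPolynomial (Fin (i * j)) ℤ, LambdaRing.IsCompPoly i j Q)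
    (d : ℕ) (N : K) (hN : ∀ i : ℕ, d < i → LambdaRing.LambdaOps.lam i N = 0)
    (p : ℕ) (hp : 1 ≤ p) (x : K) :
    (∑ i ∈ range (d + 1), (-1 : K) ^ i * LambdaRing.LambdaOps.lam i N) ∣
      LambdaRing.LambdaOps.lam p (x * ∑ i ∈ range (d + 1), (-1 : K) ^ i * LambdaRing.LambdaOps.lam i N) := by
  obtain ⟨P, hPp⟩ := hP p
  rw [hK.lam_mul p P hPp, MvPolynomial.as_sum P, map_sum]
  refine Finset.dvd_sum fun e he => ?_
  rw [MvPolynomial.aeval_monomial]
  refine Dvd.dvd.mul_left ?_ _
  obtain ⟨t, ht⟩ : ∃ t : Fin p, e (Sum.inr t) ≠ 0 := by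
    by_contra hcon
    simp only [not_exists, not_not] at hcon
    have h := congrArg Prod.snd (hPp.2 (MvPolynomial.mem_support_iff.1 he))
    rw [Finsupp.weight_apply, Finsupp.sum, Prod.snd_sum] at h
    rw [Finset.sum_eq_zero fun i _ => ?_] at h
    · exact absurd h (by simp only; omega)
    · cases i with
      | inl a => simp
      | inr a => simp [hcon a]
  refine dvd_trans ?_ (Finset.dvd_prod_of_mem _ (Finsupp.mem_support_iff.2 ht))
  exact dvd_pow (Groth.Agent.Lambda.Line.dvd_lam_alt hK hN t) ht

end Groth.Agent.S8691
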