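import Groth.Statements.S8697
import Groth.Agent.Lambda.FreeGen
-- import your own Groth.Agent.* helpers here

set_option autoImplicit false
universe u v
open Finset
open LambdaRing
open Groth.Agent.Lambda

namespace Groth.Agent.S8697

/-- Let K be a binomial ring with its binomial λ-structure and B a λ-ring in the strict sense which is
an augmented K-λ-algebra with augmentation ε. Let x ∈ B satisfy ε(x) = 0 and γ^k(x) = 0 for every k
> n, and assume that γ^1(x), …, γ^n(x) are algebraically independent over K and generate B as a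
K-algebra — so B is the K-λ-algebra generated by one element subject to the relations γ^k = 0 for k
> n, a polynomial ring K[γ^1 x, …, γ^n x]. Then for every k, the k-th ideal Fil^k B of the
γ-filtration (generated by the products of γ^{i}(z), ε(z) = 0, of total weight ≥ k) is the ideal
generated by the monomials ∏_j (γ^j x)^{e_j} with Σ_j j·e_j ≥ k: the λ-ring filtration is the
filtration by the weight in the γ^j x. (With λ in place of γ — relations λ^k x = 0 for k > n and
weights in the λ^j x — the assertion fails already for n = 1, where γ^i(x) = x for all i ≥ 1 puts x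
in every Fil^k while x is not in the ideal (x²); the form with γ stated here is the one the proof
establishes.) The hypotheses hP and hQ, existence of the universal polynomials, are true statements
carried so that the identities of B can be used at every index. -/
theorem result
    (K : Type u) [CommRing K] [LambdaRing.LambdaOps K] [BinomialRing K] (hKb : LambdaRing.IsBinomial K)
    (hK : LambdaRing.IsSpecial K)
    (B : Type v) [CommRing B] [LambdaRing.LambdaOps B] [Algebra K B] (hB : LambdaRing.IsSpecial B)
    (hP : ∀ n : ℕ, ∃ P : MvPolynomial (Fin n ⊕ Fin n) ℤ, LambdaRing.IsMulPoly n P)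
    (hQ : ∀ i j : ℕ, ∃ Q : MvPolynomial (Fin (i * j)) ℤ, LambdaRing.IsCompPoly i j Q)
    (ε : B →ₐ[K] K) (hε : LambdaRing.IsAugLambdaAlg K B ε)
    (n : ℕ) (x : B) (hx : ε x = 0) (hγ : ∀ k : ℕ, n < k → LambdaRing.gamma k x = 0)
    (hind : AlgebraicIndependent K (fun j : Fin n => LambdaRing.gamma ((j : ℕ) + 1) x))
    (hgen : Algebra.adjoin K (Set.range fun j : Fin n => LambdaRing.gamma ((j : ℕ) + 1) x) = ⊤)
    (k : ℕ) :
    LambdaRing.gammaFil (ε : B →+* K) k =
      Ideal.span {m : B | ∃ e : Fin n → ℕ, k ≤ ∑ j : Fin n, ((j : ℕ) + 1) * e j ∧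
        m = ∏ j : Fin n, LambdaRing.gamma ((j : ℕ) + 1) x ^ e j} := by
  let g : Fin n → B := fun j => gamma ((j : ℕ) + 1) x
  let S : ℕ → Set B := fun k => {m : B | ∃ e : Fin n → ℕ, k ≤ ∑ j : Fin n, ((j : ℕ) + 1) * e j ∧
    m = ∏ j : Fin n, g j ^ e j}
  let GB := gammaFilFil (ε : B →+* K)
  let F : Fil B :=
    { W := fun k => Ideal.span (S k)
      zero := (Ideal.eq_top_iff_one _).2 (Ideal.subset_span ⟨0, by simp, by simp⟩)
      anti := fun h => Ideal.span_mono (by rintro b ⟨e, he, rfl⟩; exact ⟨e, h.trans he, rfl⟩)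
      mul := fun {m n u v} hu hv => by
        have h := Ideal.mul_mem_mul hu hv
        rw [Ideal.span_mul_span'] at h
        refine Ideal.span_mono ?_ h
        rintro _ ⟨_, ⟨e, he, rfl⟩, _, ⟨e', he', rfl⟩, rfl⟩
        refine ⟨e + e', ?_, ?_⟩
        · simp only [Pi.add_apply, Nat.mul_add, sum_add_distrib]; omega
        · simp only [Pi.add_apply, pow_add, prod_mul_distrib] }
  have hxF : ∀ j, gamma (j + 1) x ∈ F.W (j + 1) := fun j => by
    by_cases h : j < n
    · refine Ideal.subset_span ⟨Pi.single ⟨j, h⟩ 1, le_of_eq ?_, ?_⟩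
      · rw [sum_eq_single ⟨j, h⟩] <;> simp (config := { contextual := true })
      · rw [prod_eq_single ⟨j, h⟩] <;> simp (config := { contextual := true }) [g]
    · rw [hγ _ (by omega)]; exact zero_mem _
  have hA0 : ∀ a : K, AlgHom.id K K a = 0 → ∀ p, gamma p (algebraMap K B a) ∈ F.W p := fun a ha p => by
    rw [show a = 0 from ha, map_zero]
    rcases p with _ | p
    · exact F.mem_zero _
    · rw [gamma_succ_zero]; exact zero_mem _
  have hgen' : Algebra.adjoin K (Set.range fun j : ℕ => gamma (j + 1) x) = ⊤ :=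
    top_unique (hgen ▸ Algebra.adjoin_mono (by rintro _ ⟨j, rfl⟩; exact ⟨j, rfl⟩))
  refine le_antisymm (gammaFil_le (ε : B →+* K) F (fun z hz =>
    gamma_mem_of_generated hKb hB (AlgHom.id K K) ε hε (fun a => ε.commutes a) F hx hxF hA0 hgen' hz) k) ?_
  change Ideal.span (S k) ≤ _
  refine Ideal.span_le.2 ?_
  rintro _ ⟨e, he, rfl⟩
  refine GB.anti he (GB.prod_mem univ _ _ fun j _ => ?_)
  rw [Nat.mul_comm]
  exact GB.pow_mem (gamma_mem_gammaFil _ hx _) _

end Groth.Agent.S8697
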