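import Groth.Statements.S8698
import Groth.Agent.Lambda.FreeGen
-- import your own Groth.Agent.* helpers here

set_option autoImplicit false
universe u v w
open Finset
open LambdaRing
open Groth.Agent.Lambda

namespace Groth.Agent.S8698

/-- Let K be a binomial ring with its binomial λ-structure, A a λ-ring in the strict sense which is an
augmented K-λ-algebra with augmentation ε_A, and B a λ-ring in the strict sense which is at once an
augmented K-λ-algebra with augmentation ε_B and an A-algebra compatibly with the K-structures, the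
structure map A → B commuting with the λ^n and ε_B restricting to ε_A on A. Let x ∈ B with ε_B(x) =
0, and assume that the family (γ^{j+1} x)_{j ∈ ℕ} is algebraically independent over A and generates
B as an A-algebra: B is the free λ-ring A[X, γ^2 X, γ^3 X, …] on one generator over A, augmented by
X ↦ 0. Then for every k the k-th ideal Fil^k B of the γ-filtration of B is the ideal generated by
the products a · m where m = ∏_j (γ^{j+1} x)^{e_j} is a monomial of weight i = Σ_j (j+1) e_j and a
lies in (the image of) Fil^{k−i} A, with Fil^s A = A for s ≤ 0; that is, Fil^k B = Fil^k A +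
Fil^{k−1} A·M_1 + ⋯ + Fil^0 A·M_k + (monomials of weight > k), M_i denoting the monomials of weight
i. The hypotheses hP and hQ, existence of the universal polynomials, are true statements carried so
that the identities of A and B can be used at every index. -/
theorem result
    (K : Type u) [CommRing K] [LambdaRing.LambdaOps K] [BinomialRing K] (hKb : LambdaRing.IsBinomial K)
    (hK : LambdaRing.IsSpecial K)
    (A : Type v) [CommRing A] [LambdaRing.LambdaOps A] [Algebra K A] (hA : LambdaRing.IsSpecial A)
    (εA : A →ₐ[K] K) (hεA : LambdaRing.IsAugLambdaAlg K A εA)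
    (B : Type w) [CommRing B] [LambdaRing.LambdaOps B] [Algebra K B] [Algebra A B] [IsScalarTower K A B]
    (hB : LambdaRing.IsSpecial B) (hAB : LambdaRing.IsLambdaAlg A B)
    (εB : B →ₐ[K] K) (hεB : LambdaRing.IsAugLambdaAlg K B εB) (hεAB : ∀ a : A, εB (algebraMap A B a) = εA a)
    (hP : ∀ n : ℕ, ∃ P : MvPolynomial (Fin n ⊕ Fin n) ℤ, LambdaRing.IsMulPoly n P)
    (hQ : ∀ i j : ℕ, ∃ Q : MvPolynomial (Fin (i * j)) ℤ, LambdaRing.IsCompPoly i j Q)
    (x : B) (hx : εB x = 0)
    (hind : AlgebraicIndependent A (fun j : ℕ => LambdaRing.gamma (j + 1) x))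
    (hgen : Algebra.adjoin A (Set.range fun j : ℕ => LambdaRing.gamma (j + 1) x) = ⊤)
    (k : ℕ) :
    LambdaRing.gammaFil (εB : B →+* K) k =
      Ideal.span {b : B | ∃ (e : ℕ →₀ ℕ) (a : A),
        a ∈ LambdaRing.gammaFil (εA : A →+* K) (k - e.sum fun j n => (j + 1) * n) ∧
        b = algebraMap A B a * e.prod fun j n => LambdaRing.gamma (j + 1) x ^ n} := by
  let S : ℕ → Set B := fun k => {b : B | ∃ (e : ℕ →₀ ℕ) (a : A),
    a ∈ gammaFil (εA : A →+* K) (k - ewt e) ∧ b = algebraMap A B a * gmon x e}
  let GA := gammaFilFil (εA : A →+* K)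
  let GB := gammaFilFil (εB : B →+* K)
  let F : Fil B :=
    { W := fun k => Ideal.span (S k)
      zero := (Ideal.eq_top_iff_one _).2 (Ideal.subset_span ⟨0, 1, by rw [Nat.zero_sub]; exact GA.mem_zero _,
        by simp [gmon]⟩)
      anti := fun h => Ideal.span_mono (by
        rintro b ⟨e, a, ha, rfl⟩
        exact ⟨e, a, GA.anti (Nat.sub_le_sub_right h _) ha, rfl⟩)
      mul := fun {m n u v} hu hv => by
        have h := Ideal.mul_mem_mul hu hv
        rw [Ideal.span_mul_span'] at h
        refine Ideal.span_mono ?_ h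
        rintro _ ⟨_, ⟨e, a, ha, rfl⟩, _, ⟨e', a', ha', rfl⟩, rfl⟩
        refine ⟨e + e', a * a', GA.anti (m := m + n - ewt (e + e')) (by rw [ewt_add]; omega) (GA.mul ha ha'), ?_⟩
        simp only [map_mul, gmon_add]
        ring }
  have hxB : ∀ j, gamma (j + 1) x ∈ GB.W (j + 1) := fun j => gamma_mem_gammaFil _ hx _
  have hxF : ∀ j, gamma (j + 1) x ∈ F.W (j + 1) := fun j =>
    Ideal.subset_span ⟨Finsupp.single j 1, 1, by simpa [ewt, GA, gammaFilFil] using GA.mem_zero 1, by simp [gmon]⟩
  have hA0 : ∀ a : A, εA a = 0 → ∀ p, gamma p (algebraMap A B a) ∈ F.W p := fun a ha p =>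
    Ideal.subset_span ⟨0, gamma p a, by simpa [ewt] using gamma_mem_gammaFil (εA : A →+* K) ha p,
      by rw [map_gamma_hom (algebraMap A B) hAB]; simp [gmon]⟩
  refine le_antisymm (gammaFil_le (εB : B →+* K) F
    (fun z hz => gamma_mem_of_generated hKb hB εA εB hεB hεAB F hx hxF hA0 hgen hz) k) ?_
  change Ideal.span (S k) ≤ _
  refine Ideal.span_le.2 ?_
  rintro _ ⟨e, a, ha, rfl⟩
  have hmap : ∀ s, gammaFil (εA : A →+* K) s ≤ Ideal.comap (algebraMap A B) (gammaFil (εB : B →+* K) s) := by
    intro s
    refine Ideal.span_le.2 ?_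
    rintro _ ⟨l, hl, hn, rfl⟩
    refine Ideal.subset_span ⟨l.map fun p => (p.1, algebraMap A B p.2), ?_, ?_, ?_⟩
    · intro q hq
      obtain ⟨p, hp, rfl⟩ := List.mem_map.1 hq
      exact (hεAB p.2).trans (hl p hp)
    · rw [List.map_map]; exact hn
    · rw [map_list_prod, List.map_map, List.map_map]
      exact congrArg List.prod (List.map_congr_left fun p _ => map_gamma_hom (algebraMap A B) hAB _ _)
  exact GB.anti (by omega : k ≤ (k - ewt e) + ewt e) (GB.mul (hmap _ ha) (gmon_mem GB hxB e))

end Groth.Agent.S8698
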