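import Groth.Statements.S8704
import Groth.Agent.Lambda.AugFil
-- import your own Groth.Agent.* helpers here

set_option autoImplicit false
universe u v
open LambdaRing
open Groth.Agent.Lambda

namespace Groth.Agent.S8704

/-- Let K and A be λ-rings in the strict sense, A an augmented K-λ-algebra with augmentation ε : A → K,
and Fil^n A its γ-filtration, the ideal generated by the products γ^{i_1}(x_1) ⋯ γ^{i_k}(x_k) with
i_1 + ⋯ + i_k ≥ n and all ε(x_r) = 0. If a subset S generates A as an abelian group, then Fil^n A,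
as a K-submodule of A, is generated over K by the products γ^{i_1}(s_1 − ε(s_1)) ⋯ γ^{i_k}(s_k −
ε(s_k)) with s_r ∈ S and i_1 + ⋯ + i_k ≥ n. -/
theorem result
    (K : Type u) [CommRing K] [LambdaRing.LambdaOps K] (hK : LambdaRing.IsSpecial K)
    (A : Type v) [CommRing A] [LambdaRing.LambdaOps A] [Algebra K A] (hA : LambdaRing.IsSpecial A)
    (ε : A →ₐ[K] K) (hε : LambdaRing.IsAugLambdaAlg K A ε)
    (S : Set A) (hS : AddSubgroup.closure S = ⊤) (n : ℕ) :
    (LambdaRing.gammaFil (ε : A →+* K) n).restrictScalars K =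
      Submodule.span K {y : A | ∃ l : List (ℕ × A), (∀ p ∈ l, p.2 ∈ S) ∧ n ≤ (l.map Prod.fst).sum ∧
        y = (l.map fun p => LambdaRing.gamma p.1 (p.2 - algebraMap K A (ε p.2))).prod} := by
  let φ : A → A := fun a => a - algebraMap K A (ε a)
  let P : ℕ → Set A := fun n => {y : A | ∃ l : List (ℕ × A), (∀ p ∈ l, p.2 ∈ S) ∧ n ≤ (l.map Prod.fst).sum ∧
    y = (l.map fun p => gamma p.1 (φ p.2)).prod}
  let M : ℕ → Submodule K A := fun n => Submodule.span K (P n)
  have hmul : ∀ {a b : ℕ} {u v : A}, u ∈ M a → v ∈ M b → u * v ∈ M (a + b) := by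
    intro a b u v hu hv
    have h := Submodule.mul_mem_mul hu hv
    rw [Submodule.span_mul_span] at h
    refine Submodule.span_mono ?_ h
    rintro _ ⟨_, ⟨l, hl, ha, rfl⟩, _, ⟨l', hl', hb, rfl⟩, rfl⟩
    refine ⟨l ++ l', fun p hp => (List.mem_append.1 hp).elim (hl p) (hl' p), ?_, by simp⟩
    rw [List.map_append, List.sum_append]; omega
  have h1 : (1 : A) ∈ M 0 := Submodule.subset_span ⟨[], by simp, by simp, by simp⟩
  have hsub : ∀ a, φ a ∈ AddSubgroup.closure (φ '' S) := by
    let φ' : A →+ A := AddMonoidHom.mk' φ fun a b => by simp only [φ, map_add]; ring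
    intro a
    have : φ' a ∈ (AddSubgroup.closure S).map φ' := AddSubgroup.mem_map_of_mem _ (by rw [hS]; trivial)
    rwa [AddMonoidHom.map_closure] at this
  have hT : ∀ x ∈ AddSubgroup.closure (φ '' S), ∀ i, gamma i x ∈ M i := by
    intro x hx
    induction hx using AddSubgroup.closure_induction with
    | mem y hy =>
      obtain ⟨s, hs, rfl⟩ := hy
      exact fun i => Submodule.subset_span ⟨[(i, s)], by simpa, le_of_eq (by simp), by simp⟩
    | zero =>
      intro i
      rcases i with _ | i
      · rw [gamma_zero]; exact h1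
      · rw [gamma_succ_zero]; exact zero_mem _
    | add y z _ _ hy hz =>
      intro i
      rw [gamma_add]
      refine Submodule.sum_mem _ fun j hj => ?_
      rw [Finset.mem_range] at hj
      conv => arg 1; arg 1; rw [show i = j + (i - j) by omega]
      exact hmul (hy j) (hz _)
    | neg y _ hy =>
      intro i
      induction i using Nat.strong_induction_on with
      | _ i ih =>
        rcases i with _ | i
        · rw [gamma_zero]; exact h1
        have h := gamma_add (i + 1) y (-y)
        rw [add_neg_cancel, gamma_succ_zero, Finset.sum_range_succ', gamma_zero, one_mul, Nat.sub_zero] at h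
        rw [eq_neg_of_add_eq_zero_right h.symm]
        refine neg_mem (Submodule.sum_mem _ fun j hj => ?_)
        rw [Finset.mem_range] at hj
        conv => arg 1; arg 1; rw [show i + 1 = (j + 1) + (i + 1 - (j + 1)) by omega]
        exact hmul (hy _) (ih _ (by omega))
  have hker : ∀ x, ε x = 0 → ∀ i, gamma i x ∈ M i := fun x hx i => by
    have h := hT _ (hsub x) i
    rwa [show φ x = x by simp [φ, hx]] at h
  have hlist : ∀ (l : List (ℕ × A)), (∀ p ∈ l, ε p.2 = 0) →
      (l.map fun p => gamma p.1 p.2).prod ∈ M (l.map Prod.fst).sum := by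
    intro l hl
    induction l with
    | nil => exact h1
    | cons a l ih =>
      simp only [List.map_cons, List.prod_cons, List.sum_cons]
      exact hmul (hker _ (hl a List.mem_cons_self) _) (ih fun p hp => hl p (List.mem_cons_of_mem _ hp))
  have hanti : ∀ {a b : ℕ}, a ≤ b → M b ≤ M a := fun h => Submodule.span_mono (by
    rintro y ⟨l, hl, hb, rfl⟩; exact ⟨l, hl, h.trans hb, rfl⟩)
  refine le_antisymm (fun z hz => ?_) (Submodule.span_le.2 ?_)
  · change z ∈ M n
    rw [Submodule.restrictScalars_mem] at hz
    suffices h : ∀ a, a * z ∈ M n by simpa using h 1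
    refine Submodule.span_induction (p := fun z _ => ∀ a, a * z ∈ M n) ?_ ?_ ?_ ?_ hz
    · rintro _ ⟨l, hl, hn, rfl⟩ a
      have e : a * (l.map fun p => gamma p.1 p.2).prod = ε a • (l.map fun p => gamma p.1 p.2).prod +
          (((1, φ a) :: l).map fun p => gamma p.1 p.2).prod := by
        rw [List.map_cons, List.prod_cons, gamma_one, Algebra.smul_def]; ring
      rw [e]
      refine add_mem (Submodule.smul_mem _ _ (hanti hn (hlist l hl))) (hanti ?_ (hlist _ ?_))
      · rw [List.map_cons, List.sum_cons]; omega
      · intro p hp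
        rcases List.mem_cons.1 hp with rfl | hp
        · simp [φ]
        · exact hl p hp
    · intro a; rw [mul_zero]; exact zero_mem _
    · intro x y _ _ hx hy a; rw [mul_add]; exact add_mem (hx a) (hy a)
    · intro b x _ hx a; rw [smul_eq_mul, ← mul_assoc]; exact hx (a * b)
  · rintro _ ⟨l, hl, hn, rfl⟩
    refine Ideal.subset_span ⟨l.map fun p => (p.1, φ p.2), ?_, ?_, ?_⟩
    · intro q hq
      obtain ⟨p, hp, rfl⟩ := List.mem_map.1 hq
      simp [φ]
    · rw [List.map_map]; exact hn
    · rw [List.map_map]; rfl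

end Groth.Agent.S8704
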