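import Groth.Statements.S8709
import Mathlib
import Groth.Agent.UnitProd.Core
-- import your own Groth.Agent.* helpers here

set_option autoImplicit false
universe u
open CategoryTheory CategoryTheory.Limits MonoidalCategory CartesianMonoidalCategory MonObj AlgebraicGeometry
open SGA7

namespace Groth.Agent.S8709

open Groth.Agent

/-- Two maps to the spectrum of a group algebra agree if they agree on the group elements. -/
theorem ext_single {P : Scheme.{u}} {R : Type u} [CommRing R] (g h : P ⟶ Spec (CommRingCat.of R)) (T : Set R)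
    (hT : ∀ (S : Type u) [CommRing S] (φ ψ : R →+* S), (∀ t ∈ T, φ t = ψ t) → φ = ψ)
    (H : ∀ t ∈ T, g.appTop ((Scheme.ΓSpecIso (CommRingCat.of R)).inv t) = h.appTop ((Scheme.ΓSpecIso (CommRingCat.of R)).inv t)) :
    g = h := by
  refine ext_of_isAffine ?_
  rw [← cancel_epi (Scheme.ΓSpecIso (CommRingCat.of R)).inv]
  exact CommRingCat.hom_ext (hT _ _ _ H)

theorem ext_int {R : Type u} [CommRing R] (φ ψ : MonoidAlgebra (ULift.{u} ℤ) (Multiplicative ℤ) →+* R)
    (h : φ (MonoidAlgebra.single (Multiplicative.ofAdd 1) 1) = ψ (MonoidAlgebra.single (Multiplicative.ofAdd 1) 1)) :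
    φ = ψ := by
  refine MonoidAlgebra.ringHom_ext (fun r => ?_) ?_
  · exact RingHom.congr_fun (Subsingleton.elim ((φ.comp MonoidAlgebra.singleOneRingHom).comp
      (ULift.ringEquiv.{0, u} (R := ℤ)).symm.toRingHom) ((ψ.comp MonoidAlgebra.singleOneRingHom).comp
      (ULift.ringEquiv.{0, u} (R := ℤ)).symm.toRingHom)) r.down
  · intro m
    have : φ.toMonoidHom.comp (MonoidAlgebra.of (ULift.{u} ℤ) (Multiplicative ℤ)) =
        ψ.toMonoidHom.comp (MonoidAlgebra.of (ULift.{u} ℤ) (Multiplicative ℤ)) := MonoidHom.ext_mint h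
    exact DFunLike.congr_fun this m

/-- Let k be a field and X, Y two k-schemes of finite type which are geometrically reduced and
geometrically connected, with rational points e_X and e_Y. Then every k-morphism u from X ×_k Y to
the multiplicative group whose restrictions to X × e_Y and to e_X × Y are trivial is trivial.
(Morphisms to the multiplicative group over k form a group; trivial means equal to its unit
element.) -/
theorem result (k : Type u) [Field k]
    (X Y : Over (Spec (CommRingCat.of k)))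
    [LocallyOfFiniteType X.hom] [QuasiCompact X.hom] [GeometricallyReduced X.hom] [GeometricallyConnected X.hom]
    [LocallyOfFiniteType Y.hom] [QuasiCompact Y.hom] [GeometricallyReduced Y.hom] [GeometricallyConnected Y.hom]
    (eX : 𝟙_ (Over (Spec (CommRingCat.of k))) ⟶ X) (eY : 𝟙_ (Over (Spec (CommRingCat.of k))) ⟶ Y)
    (u : X ⊗ Y ⟶ Red.Gm (Spec (CommRingCat.of k)))
    (huX : lift (𝟙 X) (toUnit X ≫ eY) ≫ u = 1) (huY : lift (toUnit Y ≫ eX) (𝟙 Y) ≫ u = 1) :
    u = 1 := by
  let K := AlgebraicClosure k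
  let s : Spec (CommRingCat.of K) ⟶ Spec (CommRingCat.of k) := Spec.map (CommRingCat.ofHom (algebraMap k K))
  let F := Over.pullback s
  let X' := F.obj X
  let Y' := F.obj Y
  have : LocallyOfFiniteType X'.hom := inferInstanceAs (LocallyOfFiniteType (pullback.snd X.hom s))
  have : LocallyOfFiniteType Y'.hom := inferInstanceAs (LocallyOfFiniteType (pullback.snd Y.hom s))
  have : IsReduced X'.left := GeometricallyReduced.geometrically_isReduced _ _ _ (IsPullback.of_hasPullback X.hom s)
  have : IsReduced Y'.left := GeometricallyReduced.geometrically_isReduced _ _ _ (IsPullback.of_hasPullback Y.hom s)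
  have : ConnectedSpace X'.left := GeometricallyConnected.geometrically_connectedSpace _ _ _ (IsPullback.of_hasPullback X.hom s)
  have : ConnectedSpace Y'.left := GeometricallyConnected.geometrically_connectedSpace _ _ _ (IsPullback.of_hasPullback Y.hom s)
  have : GeometricallyReduced X'.hom := inferInstanceAs (GeometricallyReduced (pullback.snd X.hom s))
  have : IsLocallyNoetherian Y'.left := LocallyOfFiniteType.isLocallyNoetherian Y'.hom
  have : IsReduced (X' ⊗ Y').left := inferInstanceAs (IsReduced (pullback X'.hom Y'.hom))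
  have : LocallyOfFiniteType (X' ⊗ Y').hom := inferInstanceAs (LocallyOfFiniteType (pullback.fst X'.hom Y'.hom ≫ X'.hom))
  have : Surjective s := ⟨fun p => ⟨IsLocalRing.closedPoint K, Subsingleton.elim _ _⟩⟩
  have : Flat s := Flat.SpecMap_iff.mpr (RingHom.flat_algebraMap_iff.mpr inferInstance)
  let π : (X' ⊗ Y').left ⟶ (X ⊗ Y).left := (Functor.Monoidal.μIso F X Y).hom.left ≫ pullback.fst (X ⊗ Y).hom s
  have : IsIso (Functor.Monoidal.μIso F X Y).hom.left := inferInstance
  have : Flat π := inferInstance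
  have : Surjective π := inferInstance
  have : QuasiCompact π := inferInstance
  have hπ₁ : π ≫ (fst X Y).left = (fst X' Y').left ≫ pullback.fst X.hom s := by
    rw [← Functor.Monoidal.μ_fst F X Y, Over.comp_left, Category.assoc, Category.assoc]
    congr 1
    exact (pullback.lift_fst _ _ _).symm
  have hπ₂ : π ≫ (snd X Y).left = (snd X' Y').left ≫ pullback.fst Y.hom s := by
    rw [← Functor.Monoidal.μ_snd F X Y, Over.comp_left, Category.assoc, Category.assoc]
    congr 1
    exact (pullback.lift_fst _ _ _).symm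
  let eX' : 𝟙_ (Over (Spec (CommRingCat.of K))) ⟶ X' :=
    Over.homMk (pullback.lift (s ≫ eX.left) (𝟙 _) (by rw [Category.assoc, Category.id_comp]; exact (congrArg (s ≫ ·) (Over.w eX)).trans (Category.comp_id s)))
      (pullback.lift_snd _ _ _)
  let eY' : 𝟙_ (Over (Spec (CommRingCat.of K))) ⟶ Y' :=
    Over.homMk (pullback.lift (s ≫ eY.left) (𝟙 _) (by rw [Category.assoc, Category.id_comp]; exact (congrArg (s ≫ ·) (Over.w eY)).trans (Category.comp_id s)))
      (pullback.lift_snd _ _ _)
  have hax₁ : (lift (𝟙 X') (toUnit X' ≫ eY')).left ≫ π = pullback.fst X.hom s ≫ (lift (𝟙 X) (toUnit X ≫ eY)).left := by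
    refine pullback.hom_ext ?_ ?_
    · change ((lift (𝟙 X') (toUnit X' ≫ eY')).left ≫ π) ≫ (fst X Y).left = (_ ≫ _) ≫ (fst X Y).left
      rw [Category.assoc, hπ₁, ← Category.assoc, ← Over.comp_left, lift_fst, Category.assoc, ← Over.comp_left, lift_fst]
      exact (Category.id_comp _).trans (Category.comp_id _).symm
    · change ((lift (𝟙 X') (toUnit X' ≫ eY')).left ≫ π) ≫ (snd X Y).left = (_ ≫ _) ≫ (snd X Y).left
      rw [Category.assoc, hπ₂, ← Category.assoc, ← Over.comp_left, lift_snd, Category.assoc, ← Over.comp_left, lift_snd,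
        Over.comp_left, Over.comp_left, Category.assoc, show eY'.left ≫ pullback.fst Y.hom s = s ≫ eY.left from pullback.lift_fst _ _ _]
      exact ((Category.assoc _ _ _).symm.trans (congrArg (· ≫ eY.left) pullback.condition.symm)).trans (Category.assoc _ _ _)
  have hax₂ : (lift (toUnit Y' ≫ eX') (𝟙 Y')).left ≫ π = pullback.fst Y.hom s ≫ (lift (toUnit Y ≫ eX) (𝟙 Y)).left := by
    refine pullback.hom_ext ?_ ?_
    · change ((lift (toUnit Y' ≫ eX') (𝟙 Y')).left ≫ π) ≫ (fst X Y).left = (_ ≫ _) ≫ (fst X Y).left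
      rw [Category.assoc, hπ₁, ← Category.assoc, ← Over.comp_left, lift_fst, Category.assoc, ← Over.comp_left, lift_fst,
        Over.comp_left, Over.comp_left, Category.assoc, show eX'.left ≫ pullback.fst X.hom s = s ≫ eX.left from pullback.lift_fst _ _ _]
      exact ((Category.assoc _ _ _).symm.trans (congrArg (· ≫ eX.left) pullback.condition.symm)).trans (Category.assoc _ _ _)
    · change ((lift (toUnit Y' ≫ eX') (𝟙 Y')).left ≫ π) ≫ (snd X Y).left = (_ ≫ _) ≫ (snd X Y).left
      rw [Category.assoc, hπ₂, ← Category.assoc, ← Over.comp_left, lift_snd, Category.assoc, ← Over.comp_left, lift_snd]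
      exact (Category.id_comp _).trans (Category.comp_id _).symm
  apply Over.OverMorphism.ext
  rw [← cancel_epi π]
  refine pullback.hom_ext ?_ ((Category.assoc _ _ _).trans ((congrArg (π ≫ ·)
    ((Over.w u).trans (Over.w (1 : X ⊗ Y ⟶ Red.Gm (Spec (CommRingCat.of k)))).symm)).trans (Category.assoc _ _ _).symm))
  let σ : MonoidAlgebra (ULift.{u} ℤ) (Multiplicative ℤ) := MonoidAlgebra.single (Multiplicative.ofAdd 1) 1
  refine ext_single _ _ {σ} (fun S _ φ ψ h => ext_int φ ψ (h σ rfl)) ?_
  intro t ht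
  rw [Set.mem_singleton_iff] at ht
  subst ht
  set a := ((π ≫ u.left) ≫ pullback.fst _ _).appTop ((Scheme.ΓSpecIso _).inv σ) with ha
  set b := ((π ≫ (1 : X ⊗ Y ⟶ Red.Gm (Spec (CommRingCat.of k))).left) ≫ pullback.fst _ _).appTop ((Scheme.ΓSpecIso _).inv σ) with hb
  have hσ : IsUnit σ := ⟨⟨σ, MonoidAlgebra.single (Multiplicative.ofAdd (-1)) 1,
    by simp [σ, MonoidAlgebra.single_mul_single, MonoidAlgebra.one_def],
    by simp [σ, MonoidAlgebra.single_mul_single, MonoidAlgebra.one_def]⟩, rfl⟩
  obtain ⟨b', hb'⟩ : IsUnit b := (hσ.map (Scheme.ΓSpecIso (CommRingCat.of (MonoidAlgebra (ULift.{u} ℤ) (Multiplicative ℤ)))).inv.hom).map _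
  obtain ⟨a', ha'⟩ : IsUnit a := (hσ.map (Scheme.ΓSpecIso (CommRingCat.of (MonoidAlgebra (ULift.{u} ℤ) (Multiplicative ℤ)))).inv.hom).map _
  let w := a' * b'⁻¹
  suffices h : (w : Γ((X' ⊗ Y').left, ⊤)) = 1 by
    change a = b
    rw [← ha', ← hb']
    exact congrArg Units.val (mul_inv_eq_one.mp (Units.ext h))
  have haxis : ∀ {Z : Over (Spec (CommRingCat.of k))} (j : Z ⟶ X ⊗ Y) (j' : F.obj Z ⟶ X' ⊗ Y'),
      j'.left ≫ π = pullback.fst Z.hom s ≫ j.left → j ≫ u = 1 → j'.left.appTop (w : Γ((X' ⊗ Y').left, ⊤)) = 1 := by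
    intro Z j j' hj hu
    have key : j'.left.appTop a = j'.left.appTop b := by
      rw [ha, hb, ← CommRingCat.comp_apply, ← CommRingCat.comp_apply, ← Scheme.Hom.comp_appTop, ← Scheme.Hom.comp_appTop]
      refine congrArg (fun m : (F.obj Z).left ⟶ _ => m.appTop _) ?_
      simp only [← Category.assoc, hj]
      congr 1
      rw [Category.assoc, Category.assoc, ← Over.comp_left, ← Over.comp_left, hu, MonObj.comp_one]
    rw [Units.val_mul, map_mul, ha', key, ← hb', ← map_mul, Units.mul_inv, map_one]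
  have : JacobsonSpace (X' ⊗ Y').left := LocallyOfFiniteType.jacobsonSpace (X' ⊗ Y').hom
  refine sub_eq_zero.mp ((basicOpen_eq_bot_iff _).mp ?_)
  by_contra hne
  let B : (X' ⊗ Y').left.Opens := (X' ⊗ Y').left.basicOpen ((w : Γ((X' ⊗ Y').left, ⊤)) - 1)
  obtain ⟨p, hp, hpc⟩ := nonempty_inter_closedPoints (X := (X' ⊗ Y').left) (Z := (B : Set (X' ⊗ Y').left))
    (Set.nonempty_iff_ne_empty.mpr fun h => hne (TopologicalSpace.Opens.ext h))
    B.isOpen.isLocallyClosed
  let z : 𝟙_ (Over (Spec (CommRingCat.of K))) ⟶ X' ⊗ Y' :=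
    Over.homMk (pointOfClosedPoint (X' ⊗ Y').hom p hpc) (pointOfClosedPoint_comp _ p hpc)
  have hz : z = lift (z ≫ fst X' Y') (z ≫ snd X' Y') := by rw [← comp_lift, lift_fst_snd, Category.comp_id]
  have h1 := UnitProd.apply_eq_one w eX' eY' (haxis _ _ hax₁ huX) (haxis _ _ hax₂ huY) (z ≫ fst X' Y') (z ≫ snd X' Y')
  rw [← hz] at h1
  have h2 : IsLocalRing.closedPoint K ∈ z.left ⁻¹ᵁ (X' ⊗ Y').left.basicOpen ((w : Γ((X' ⊗ Y').left, ⊤)) - 1) := by
    change z.left (IsLocalRing.closedPoint K) ∈ B
    rw [show z.left (IsLocalRing.closedPoint K) = p from pointOfClosedPoint_apply _ p hpc _]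
    exact hp
  rw [Scheme.preimage_basicOpen_top] at h2
  have h3 : z.left.appTop ((w : Γ((X' ⊗ Y').left, ⊤)) - 1) = 0 := by
    refine (ConcreteCategory.bijective_of_isIso (Scheme.ΓSpecIso (CommRingCat.of K)).hom).1 ?_
    rw [map_sub, map_one, map_sub, map_one, map_zero]
    exact sub_eq_zero.mpr h1
  rw [h3, Scheme.basicOpen_zero] at h2
  exact h2

end Groth.Agent.S8709
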