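import Groth.Statements.S8710
import Groth.Agent.FTorColim.Vanish

set_option autoImplicit false
universe u
open CategoryTheory CategoryTheory.Limits
open SGA7

namespace Groth.Agent.S8710

/-- Let f : B' → B be a surjective map of R-algebras with B' flat over R, g : C → B a map of R-algebras,
P = B' ×_B C their fibre product (the equalizer of f ∘ pr₁ and g ∘ pr₂ in B' × C), S an R-algebra
and n a natural number. If Tor_i^R(C, S) = 0 for 0 < i < n and Tor_i^R(B, S) = 0 for 0 < i ≤ n, then
Tor_i^R(P, S) = 0 for 0 < i < n. Here Tor_i^R(M, S) is the i-th left derived functor of M ⊗_R − on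
R-modules, evaluated at S. (The published statement asks the vanishing for B only in degrees 0 < i <
n; the published proof and the corollary following it use it in degrees 0 < i ≤ n, which this row
assumes.) -/
theorem result (R B' B C S : Type u) [CommRing R] [CommRing B'] [CommRing B]
    [CommRing C] [CommRing S] [Algebra R B'] [Algebra R B] [Algebra R C] [Algebra R S]
    (f : B' →ₐ[R] B) (hf : Function.Surjective f) (g : C →ₐ[R] B) [Module.Flat R B'] (n : ℕ)
    (hC : ∀ i : ℕ, 0 < i → i < n →
      IsZero (((Tor (ModuleCat.{u} R) i).obj (ModuleCat.of R C)).obj (ModuleCat.of R S)))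
    (hB : ∀ i : ℕ, 0 < i → i ≤ n →
      IsZero (((Tor (ModuleCat.{u} R) i).obj (ModuleCat.of R B)).obj (ModuleCat.of R S))) :
    letI P := AlgHom.equalizer (f.comp (AlgHom.fst R B' C)) (g.comp (AlgHom.snd R B' C))
    ∀ i : ℕ, 0 < i → i < n →
      IsZero (((Tor (ModuleCat.{u} R) i).obj (ModuleCat.of R ↥P)).obj (ModuleCat.of R S)) := by
  intro i hi hin
  obtain ⟨q, rfl⟩ : ∃ q, i = q + 1 := ⟨i - 1, by omega⟩
  refine FTorColim.isZero_tor_of_iso (LinearEquiv.toModuleIso ?_)
    (FTorColim.isZero_tor_pullback f.toLinearMap hf g.toLinearMap (ModuleCat.of R S) q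
      (hC (q + 1) (by omega) hin) (hB (q + 2) (by omega) (by omega)))
  refine
    { toFun := fun z => ⟨z.1, ?_⟩
      invFun := fun z => ⟨z.1, ?_⟩
      left_inv := fun _ => rfl
      right_inv := fun _ => rfl
      map_add' := fun _ _ => rfl
      map_smul' := fun _ _ => rfl }
  · have h := z.2
    simp only [LinearMap.mem_ker, LinearMap.coprod_apply, LinearMap.neg_apply, AlgHom.toLinearMap_apply,
      add_neg_eq_zero] at h
    exact h
  · have h : f z.1.1 = g z.1.2 := z.2
    simp only [LinearMap.mem_ker, LinearMap.coprod_apply, LinearMap.neg_apply, AlgHom.toLinearMap_apply,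
      add_neg_eq_zero]
    exact h

end Groth.Agent.S8710
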