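import Groth.Statements.S8718
import Mathlib

set_option autoImplicit false
universe u
open CategoryTheory CategoryTheory.Limits MonoidalCategory CartesianMonoidalCategory MonObj AlgebraicGeometry
open SGA7

namespace Groth.Agent.S8718

variable {S : Scheme.{u}} {P E G : Over S} (v : E ⟶ P)

/-- The points of `X` whose image in `P` lifts to `E`. -/
def liftSieve {X : Over S} (p : X ⟶ P) : Sieve X.left where
  arrows W h := ∃ x : W ⟶ E.left, x ≫ v.left = h ≫ p.left
  downward_closed := by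
    rintro W W' h ⟨x, hx⟩ k
    exact ⟨k ≫ x, by rw [Category.assoc, hx, Category.assoc]⟩

theorem liftSieve_mem (hv : NonAbH1.IsLocallyTrivialFor Scheme.fppfPrecoverage
    (Over.mk v.left : Over P.left)) {X : Over S} (p : X ⟶ P) :
    liftSieve v p ∈ Scheme.fppfTopology X.left := by
  obtain ⟨R, hR, hsec⟩ := hv
  refine Scheme.fppfTopology.superset_covering ?_
    (Scheme.fppfTopology.pullback_stable p.left (Precoverage.generate_mem_toGrothendieck hR))
  rintro W h ⟨W', k, g, hg, hkg⟩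
  obtain ⟨x, hx⟩ := hsec g hg
  replace hx : x ≫ v.left = g := hx
  exact ⟨k ≫ x, by rw [Category.assoc, hx, hkg]⟩

theorem hom_unique (hv : NonAbH1.IsLocallyTrivialFor Scheme.fppfPrecoverage
    (Over.mk v.left : Over P.left)) {X : Over S} (p : X ⟶ P) (a b : X ⟶ G)
    (h : ∀ (T : Over S) (t : T ⟶ X) (x : T ⟶ E), x ≫ v = t ≫ p → t ≫ a = t ≫ b) : a = b := by
  have hsh := (GrothendieckTopology.Subcanonical.isSheaf_of_isRepresentable
    (J := Scheme.fppfTopology) (yoneda.obj G.left)) (liftSieve v p) (liftSieve_mem v hv p)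
  ext : 1
  refine hsh.isSeparatedFor.ext (t₁ := a.left) (t₂ := b.left) ?_
  rintro W k ⟨x, hx⟩
  let T : Over S := Over.mk (k ≫ X.hom)
  let x' : T ⟶ E := Over.homMk x (by
    show x ≫ E.hom = k ≫ X.hom
    rw [← Over.w v, reassoc_of% hx, Over.w p])
  exact congrArg CommaMorphism.left
    (h T (Over.homMk k rfl) x' (Over.OverMorphism.ext hx))

theorem exists_descent (hv : NonAbH1.IsLocallyTrivialFor Scheme.fppfPrecoverage
    (Over.mk v.left : Over P.left)) {X : Over S} (p : X ⟶ P)
    (val : ∀ {T : Over S} (t : T ⟶ X) (x : T ⟶ E), x ≫ v = t ≫ p → (T ⟶ G))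
    (hval : ∀ {T T' : Over S} (k : T' ⟶ T) (t : T ⟶ X) (x : T ⟶ E) (x' : T' ⟶ E)
      (h : x ≫ v = t ≫ p) (h' : x' ≫ v = (k ≫ t) ≫ p), val (k ≫ t) x' h' = k ≫ val t x h) :
    ∃ f : X ⟶ G, ∀ {T : Over S} (t : T ⟶ X) (x : T ⟶ E) (h : x ≫ v = t ≫ p), t ≫ f = val t x h := by
  have hsh := (GrothendieckTopology.Subcanonical.isSheaf_of_isRepresentable
    (J := Scheme.fppfTopology) (yoneda.obj G.left)) (liftSieve v p) (liftSieve_mem v hv p)
  let tT : ∀ {W : Scheme.{u}} (k : W ⟶ X.left), (Over.mk (k ≫ X.hom) ⟶ X) := fun k => Over.homMk k rfl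
  let xT : ∀ {W : Scheme.{u}} (k : W ⟶ X.left) (hk : liftSieve v p k), (Over.mk (k ≫ X.hom) ⟶ E) :=
    fun k hk => Over.homMk hk.choose (by
      show hk.choose ≫ E.hom = k ≫ X.hom
      rw [← Over.w v, reassoc_of% hk.choose_spec, Over.w p])
  have hxT : ∀ {W : Scheme.{u}} (k : W ⟶ X.left) (hk : liftSieve v p k), xT k hk ≫ v = tT k ≫ p :=
    fun k hk => Over.OverMorphism.ext hk.choose_spec
  let fam : Presieve.FamilyOfElements (yoneda.obj G.left) (liftSieve v p).arrows :=
    fun W k hk => (val (tT k) (xT k hk) (hxT k hk)).left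
  have hfam : fam.Compatible := by
    rw [Presieve.compatible_iff_sieveCompatible]
    intro W W' k j hk
    let jT : Over.mk ((j ≫ k) ≫ X.hom) ⟶ Over.mk (k ≫ X.hom) := Over.homMk j (Category.assoc _ _ _).symm
    have hjt : jT ≫ tT k = tT (j ≫ k) := Over.OverMorphism.ext rfl
    have key : ∀ (t' : Over.mk ((j ≫ k) ≫ X.hom) ⟶ X) (x' : _ ⟶ E) (h' : x' ≫ v = t' ≫ p),
        jT ≫ tT k = t' → val t' x' h' = jT ≫ val (tT k) (xT k hk) (hxT k hk) := by
      rintro t' x' h' rfl
      exact hval jT (tT k) _ x' _ h'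
    exact congrArg CommaMorphism.left (key _ _ (hxT (j ≫ k) _) hjt)
  let f₀ : X.left ⟶ G.left := hsh.amalgamate fam hfam
  have hf₀ : ∀ {W : Scheme.{u}} (k : W ⟶ X.left) (hk : liftSieve v p k),
      k ≫ f₀ = (val (tT k) (xT k hk) (hxT k hk)).left := fun k hk => hsh.valid_glue hfam k hk
  have hover : f₀ ≫ G.hom = X.hom := by
    refine ((GrothendieckTopology.Subcanonical.isSheaf_of_isRepresentable
      (J := Scheme.fppfTopology) (yoneda.obj S)) (liftSieve v p) (liftSieve_mem v hv p)).isSeparatedFor.ext (t₁ := f₀ ≫ G.hom) (t₂ := X.hom) ?_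
    intro W k hk
    show k ≫ f₀ ≫ G.hom = k ≫ X.hom
    rw [reassoc_of% hf₀ k hk, Over.w]
    rfl
  refine ⟨Over.homMk f₀ hover, fun {T} t x h => ?_⟩
  have hk : liftSieve v p t.left := ⟨x.left, congrArg CommaMorphism.left h⟩
  ext : 1
  let e : Over.mk (t.left ≫ X.hom) ⟶ T := Over.homMk (𝟙 _) (by simp)
  have key : ∀ (t' : Over.mk (t.left ≫ X.hom) ⟶ X) (x' : _ ⟶ E) (h' : x' ≫ v = t' ≫ p),
      e ≫ t = t' → val t' x' h' = e ≫ val t x h := by
    rintro t' x' h' rfl
    exact hval e t x x' h h'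
  show t.left ≫ f₀ = _
  rw [hf₀ _ hk, key _ _ (hxT _ hk) (Over.OverMorphism.ext (Category.id_comp _))]
  exact Category.id_comp _

theorem mul_comp' {T T' : Over S} [GrpObj G] (f : T' ⟶ T) (a b : T ⟶ G) :
    f ≫ (a * b) = (f ≫ a) * (f ≫ b) := MonObj.comp_mul f a b


/-- For group schemes over a base scheme S (the representable case on the fppf site): let P and G be
S-group schemes with G commutative, and u : G → E, v : E → P homomorphisms of S-group schemes
forming a sequence 1 → G → E → P → 1 exact for the fppf topology. Suppose every morphism of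
S-schemes P ×_S G → G whose restrictions to P × e_G and to e_P × G are trivial is trivial. Then u(G)
is central in E: for all points g of G and x of E with values in any S-scheme, u(g) x = x u(g). If
moreover P is commutative and every morphism of S-schemes P ×_S P → G trivial on P × e_P and on e_P
× P is trivial, then E is commutative. (The published statement is for sheaves of groups on an
arbitrary topos; this row is its case of representable sheaves on the fppf site of S. Morphisms to G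
form a group; trivial means equal to its unit.) -/
theorem result (S : Scheme.{u})
    (P G E : Over S) [GrpObj P] [GrpObj G] [GrpObj E] [IsCommMonObj G]
    (u : G ⟶ E) (v : E ⟶ P) (hex : NonAbH1.IsExactSeq Scheme.fppfPrecoverage u v)
    (hPG : ∀ f : P ⊗ G ⟶ G, lift (𝟙 P) (toUnit P ≫ η[G]) ≫ f = 1 → lift (toUnit G ≫ η[P]) (𝟙 G) ≫ f = 1 → f = 1) :
    (∀ (T : Over S) (g : T ⟶ G) (x : T ⟶ E), (g ≫ u) * x = x * (g ≫ u)) ∧
      (IsCommMonObj P →
        (∀ f : P ⊗ P ⟶ G, lift (𝟙 P) (toUnit P ≫ η[P]) ≫ f = 1 → lift (toUnit P ≫ η[P]) (𝟙 P) ≫ f = 1 → f = 1) →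
          IsCommMonObj E) := by
  obtain ⟨hu, hv, huv, hpb, hloc⟩ := hex
  have hkey : ∀ {T : Over S} (a b : T ⟶ E), a ≫ v = b ≫ v → ∃! g : T ⟶ G, b = a * (g ≫ u) := by
    intro T a b hab
    refine ⟨hpb.lift a b hab ≫ snd E G, ?_, fun g hg => ?_⟩
    · have h2 := hpb.lift_snd a b hab
      have h1 := hpb.lift_fst a b hab
      show b = a * ((hpb.lift a b hab ≫ snd E G) ≫ u)
      conv_lhs => rw [← h2]
      rw [Hom.mul_def]
      refine (Category.assoc _ _ _).symm.trans (congrArg (· ≫ μ[E]) ?_)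
      apply CartesianMonoidalCategory.hom_ext <;> simp [h1]
    · have : lift a g = hpb.lift a b hab := by
        apply hpb.hom_ext
        · rw [lift_fst, hpb.lift_fst]
        · rw [hpb.lift_snd, hg, Hom.mul_def]
          refine (Category.assoc _ _ _).symm.trans (congrArg (· ≫ μ[E]) ?_)
          apply CartesianMonoidalCategory.hom_ext <;> simp
      rw [← this, lift_snd]
  have hker : ∀ {T : Over S} (a : T ⟶ E), a ≫ v = 1 → ∃! g : T ⟶ G, g ≫ u = a := by
    intro T a ha
    obtain ⟨g, hg, huniq⟩ := hkey (1 : T ⟶ E) a (by rw [MonObj.one_comp, ha])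
    rw [_root_.one_mul] at hg
    exact ⟨g, hg.symm, fun g' hg' => huniq g' (by dsimp only; rw [_root_.one_mul, hg'])⟩
  have hinj : ∀ {T : Over S} (g g' : T ⟶ G), g ≫ u = g' ≫ u → g = g' := fun {T} g g' h =>
    (hker (g ≫ u) (by rw [Category.assoc, huv, MonObj.comp_one])).unique rfl h.symm
  have hcomm : ∀ {T : Over S} (g g' : T ⟶ G), Commute (g ≫ u) (g' ≫ u) := fun {T} g g' => by
    show (g ≫ u) * (g' ≫ u) = (g' ≫ u) * (g ≫ u)
    rw [← MonObj.mul_comp, ← MonObj.mul_comp, _root_.mul_comm]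
  have hlift : ∀ {T : Over S} (x x' : T ⟶ E), x' ≫ v = x ≫ v → ∃ h : T ⟶ G, x' = x * (h ≫ u) :=
    fun {T} x x' hxx => (hkey x x' hxx.symm).exists
  have hc : ∀ {T : Over S} (x : T ⟶ E) (g : T ⟶ G),
      (x * (g ≫ u) * x⁻¹ * (g ≫ u)⁻¹) ≫ v = 1 := fun {T} x g => by
    simp only [MonObj.mul_comp, GrpObj.inv_comp, Category.assoc, huv, MonObj.comp_one]
    rw [_root_.mul_one, mul_inv_cancel, inv_one, _root_.mul_one]
  choose c hcu using fun (T : Over S) (x : T ⟶ E) (g : T ⟶ G) => (hker _ (hc x g)).exists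
  obtain ⟨f, hf⟩ := exists_descent v hloc (fst P G)
    (fun {T} t x _ => c T x (t ≫ snd P G)) (fun {T T'} k t x x' h h' => by
      apply hinj
      obtain ⟨a, rfl⟩ := hlift (k ≫ x) x' (by rw [h', Category.assoc k x v, h, Category.assoc])
      rw [hcu, Category.assoc k (c _ _ _) u, hcu, Category.assoc]
      simp only [MonObj.comp_mul, GrpObj.comp_inv, Category.assoc, _root_.mul_inv_rev]
      have hc' : (a ≫ u) * (k ≫ t ≫ snd P G ≫ u) = (k ≫ t ≫ snd P G ≫ u) * (a ≫ u) := by
        simpa only [Category.assoc] using (hcomm a (k ≫ t ≫ snd P G)).eq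
      rw [_root_.mul_assoc (k ≫ x) (a ≫ u), hc']
      group)
  have hf1 : f = 1 := by
    refine hPG f ?_ ?_
    · refine hom_unique v hloc (𝟙 P) _ _ fun T t x h => ?_
      rw [← Category.assoc, hf (t ≫ lift (𝟙 P) (toUnit P ≫ η[G])) x (by simpa using h)]
      apply hinj
      rw [hcu, MonObj.comp_one, MonObj.one_comp]
      have : (t ≫ lift (𝟙 P) (toUnit P ≫ η[G])) ≫ snd P G = 1 := by
        rw [Category.assoc, lift_snd, ← Hom.one_def, MonObj.comp_one]
      rw [this, MonObj.one_comp, _root_.mul_one, mul_inv_cancel, inv_one, _root_.mul_one]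
    · rw [hf _ (1 : G ⟶ E) (by rw [MonObj.one_comp, lift_fst, ← Hom.one_def])]
      apply hinj
      rw [hcu, MonObj.one_comp]
      group
  have hcen : ∀ (T : Over S) (g : T ⟶ G) (x : T ⟶ E), (g ≫ u) * x = x * (g ≫ u) := by
    intro T g x
    have h := hf (lift (x ≫ v) g) x (by rw [lift_fst])
    rw [hf1, MonObj.comp_one, lift_snd] at h
    have h1 := hcu T x g
    rw [← h, MonObj.one_comp] at h1
    exact (mul_inv_eq_iff_eq_mul.mp (mul_inv_eq_one.mp h1.symm)).symm
  refine ⟨hcen, fun hP hPP => ?_⟩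
  have hd : ∀ {T : Over S} (x y : T ⟶ E), (x * y * x⁻¹ * y⁻¹) ≫ v = 1 := fun {T} x y => by
    simp only [MonObj.mul_comp, GrpObj.inv_comp]
    rw [_root_.mul_comm (x ≫ v) (y ≫ v)]
    group
  choose d hdu using fun (T : Over S) (x y : T ⟶ E) => (hker _ (hd x y)).exists
  have hd1 : ∀ {T : Over S} (x y : T ⟶ E) (a : T ⟶ G), d T (x * (a ≫ u)) y = d T x y := by
    intro T x y a
    apply hinj
    rw [hdu, hdu, _root_.mul_inv_rev, _root_.mul_assoc x (a ≫ u) y, hcen T a y]
    group
  have hd2 : ∀ {T : Over S} (x y : T ⟶ E) (a : T ⟶ G), d T x (y * (a ≫ u)) = d T x y := by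
    intro T x y a
    apply hinj
    rw [hdu, hdu, _root_.mul_inv_rev, ← _root_.mul_assoc x y (a ≫ u),
      _root_.mul_assoc (x * y) (a ≫ u) x⁻¹, hcen T a x⁻¹]
    group
  obtain ⟨f1, hf1'⟩ := exists_descent v hloc (fst P E)
    (fun {T} t x _ => d T x (t ≫ snd P E)) (fun {T T'} k t x x' h h' => by
      obtain ⟨a, rfl⟩ := hlift (k ≫ x) x' (by rw [h', Category.assoc k x v, h, Category.assoc])
      rw [hd1]
      apply hinj
      rw [hdu, Category.assoc k (d _ _ _) u, hdu]
      simp only [MonObj.comp_mul, GrpObj.comp_inv, Category.assoc])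
  have hf1y : ∀ {T : Over S} (p : T ⟶ P) (y y' : T ⟶ E), y' ≫ v = y ≫ v →
      lift p y' ≫ f1 = lift p y ≫ f1 := by
    intro T p y y' hy
    obtain ⟨a, rfl⟩ := hlift y y' hy
    refine hom_unique v hloc p _ _ fun T' t x hx => ?_
    rw [← Category.assoc, ← Category.assoc, hf1' (t ≫ lift p (y * (a ≫ u))) x (by simpa using hx),
      hf1' (t ≫ lift p y) x (by simpa using hx)]
    rw [Category.assoc t (lift p (y * (a ≫ u))), Category.assoc t (lift p y), lift_snd, lift_snd,
      MonObj.comp_mul, ← Category.assoc t a u, hd2]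
  obtain ⟨f2, hf2⟩ := exists_descent v hloc (snd P P)
    (fun {T} t y _ => lift (t ≫ fst P P) y ≫ f1) (fun {T T'} k t y y' h h' => by
      rw [← Category.assoc k (lift (t ≫ fst P P) y), comp_lift, Category.assoc k t (fst P P)]
      exact hf1y _ _ _ (by rw [h', Category.assoc k y v, h, Category.assoc]))
  have hval : ∀ {T : Over S} (x y : T ⟶ E), lift (x ≫ v) (y ≫ v) ≫ f2 = d T x y := by
    intro T x y
    rw [hf2 (lift (x ≫ v) (y ≫ v)) y (by rw [lift_snd]), lift_fst,
      hf1' (lift (x ≫ v) y) x (by rw [lift_fst]), lift_snd]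
  have hf21 : f2 = 1 := by
    refine hPP f2 ?_ ?_
    · refine hom_unique v hloc (𝟙 P) _ _ fun T t x hx => ?_
      rw [Category.comp_id] at hx
      rw [← Category.assoc, comp_lift, Category.comp_id, ← Hom.one_def, MonObj.comp_one,
        MonObj.comp_one, ← hx, ← MonObj.one_comp (f := v), hval]
      apply hinj
      rw [hdu, MonObj.one_comp]
      group
    · refine hom_unique v hloc (𝟙 P) _ _ fun T t x hx => ?_
      rw [Category.comp_id] at hx
      rw [← Category.assoc, comp_lift, Category.comp_id, ← Hom.one_def, MonObj.comp_one,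
        MonObj.comp_one, ← hx, ← MonObj.one_comp (f := v), hval]
      apply hinj
      rw [hdu, MonObj.one_comp]
      group
  refine ⟨?_⟩
  have h := hdu (E ⊗ E) (snd E E) (fst E E)
  rw [← hval, hf21, MonObj.comp_one, MonObj.one_comp] at h
  have h2 : fst E E * snd E E = snd E E * fst E E :=
    (mul_inv_eq_iff_eq_mul.mp (mul_inv_eq_one.mp h.symm)).symm
  rw [Hom.mul_def, Hom.mul_def] at h2
  simpa [BraidedCategory.braiding] using h2.symm

end Groth.Agent.S8718
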