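import Groth.Statements.S8719
import Mathlib.RingTheory.MvPowerSeries.Inverse
import Mathlib.RingTheory.MvPowerSeries.Derivative
import Mathlib.LinearAlgebra.Matrix.NonsingularInverse
set_option linter.style.haveILetI false

set_option autoImplicit false
universe u
open VanCyc

namespace Groth.Agent.S8719

/-- A power series without constant term is a combination of the variables. -/
theorem exists_decomp {k : Type u} [Field k] {N : ℕ} (g : MvPowerSeries (Fin N) k)
    (hg : MvPowerSeries.constantCoeff g = 0) :
    ∃ h : Fin N → MvPowerSeries (Fin N) k, ∑ i, h i * MvPowerSeries.X i = g := by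
  classical
  let h : Fin N → MvPowerSeries (Fin N) k := fun i => fun (d : Fin N →₀ ℕ) =>
    if ∀ j, j < i → (d + Finsupp.single i 1 : Fin N →₀ ℕ) j = 0 then MvPowerSeries.coeff (d + Finsupp.single i 1) g else 0
  have hh : ∀ (i : Fin N) (d : Fin N →₀ ℕ), MvPowerSeries.coeff d (h i) =
      if ∀ j, j < i → (d + Finsupp.single i 1 : Fin N →₀ ℕ) j = 0 then MvPowerSeries.coeff (d + Finsupp.single i 1) g else 0 :=
    fun i d => rfl
  refine ⟨h, MvPowerSeries.ext fun d => ?_⟩
  rw [map_sum]
  simp only [MvPowerSeries.X_def, MvPowerSeries.coeff_mul_monomial, mul_one]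
  by_cases hd : d = 0
  · subst hd
    rw [Finset.sum_eq_zero fun i _ => if_neg (fun hle => by simpa using hle i)]
    exact hg.symm
  have hne : d.support.Nonempty := Finsupp.support_nonempty_iff.2 hd
  set i₀ := d.support.min' hne with hi₀
  have hi : d i₀ ≠ 0 := Finsupp.mem_support_iff.1 (d.support.min'_mem hne)
  have hsub : d - Finsupp.single i₀ 1 + Finsupp.single i₀ 1 = d :=
    tsub_add_cancel_of_le (Finsupp.single_le_iff.2 (Nat.one_le_iff_ne_zero.2 hi))
  rw [Finset.sum_eq_single i₀ (fun i _ hne' => ?_) (fun h => absurd (Finset.mem_univ _) h),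
    if_pos (Finsupp.single_le_iff.2 (Nat.one_le_iff_ne_zero.2 hi)), hh, hsub, if_pos fun j hj => ?_]
  · by_contra hj0
    exact absurd (d.support.min'_le j (Finsupp.mem_support_iff.2 hj0)) (not_le.2 hj)
  · by_cases hle : Finsupp.single i 1 ≤ d
    · rw [if_pos hle, hh, tsub_add_cancel_of_le hle, if_neg]
      intro hall
      have hi1 : d i ≠ 0 := Nat.one_le_iff_ne_zero.1 (Finsupp.single_le_iff.1 hle)
      exact hi (hall i₀ (lt_of_le_of_ne (d.support.min'_le i (Finsupp.mem_support_iff.2 hi1)) hne'.symm))
    · rw [if_neg hle]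


/-- The formal computation carried out in its proof: let k be a field and f a power series in k[[x_0,
..., x_n]] with vanishing constant and linear terms whose degree-two part is a non-degenerate
quadratic form (the Gram determinant of its polar bilinear form is a unit). Then the partial
derivatives of f generate the maximal ideal of k[[x_0, ..., x_n]] (so f together with its partial
derivatives cut out the origin with multiplicity one). -/
theorem result (k : Type u) [Field k] (n : ℕ)
    (f : MvPowerSeries (Fin (n + 1)) k) (hf : VanCyc.NondegQuadSeries f) :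
    Ideal.span (Set.range fun i : Fin (n + 1) => MvPowerSeries.pderiv k i f) =
      IsLocalRing.maximalIdeal (MvPowerSeries (Fin (n + 1)) k) := by
  classical
  have hmax : ∀ g : MvPowerSeries (Fin (n + 1)) k, g ∈ IsLocalRing.maximalIdeal (MvPowerSeries (Fin (n + 1)) k) ↔
      MvPowerSeries.constantCoeff g = 0 := fun g => by
    rw [IsLocalRing.mem_maximalIdeal, mem_nonunits_iff, MvPowerSeries.isUnit_iff_constantCoeff,
      isUnit_iff_ne_zero, not_not]
  obtain ⟨⟨hf0, hf1⟩, hdet⟩ := hf
  have hc : ∀ i, MvPowerSeries.constantCoeff (MvPowerSeries.pderiv k i f) = 0 := fun i => by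
    rw [← MvPowerSeries.coeff_zero_eq_constantCoeff_apply, MvPowerSeries.coeff_pderiv, zero_add, hf1 i, zero_mul]
  choose H hH using fun i => exists_decomp _ (hc i)
  have hH0 : ∀ i j, MvPowerSeries.constantCoeff (H i j) = polarMatrix (quadPart f) i j := by
    intro i j
    have h1 : MvPowerSeries.coeff (Finsupp.single j 1) (MvPowerSeries.pderiv k i f) =
        MvPowerSeries.constantCoeff (H i j) := by
      rw [← hH i, map_sum]
      simp only [MvPowerSeries.X_def, MvPowerSeries.coeff_mul_monomial, mul_one]
      rw [Finset.sum_eq_single j (fun l _ hl => if_neg (fun hle => by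
        have := Finsupp.single_le_iff.1 hle
        simp [Finsupp.single_apply, hl.symm] at this)) (fun h => absurd (Finset.mem_univ _) h), if_pos le_rfl,
        tsub_self, MvPowerSeries.coeff_zero_eq_constantCoeff_apply]
    rw [← h1, MvPowerSeries.coeff_pderiv]
    unfold polarMatrix quadPart
    rcases lt_trichotomy i j with h | h | h
    · simp [h.ne, h, h.ne', add_comm (Finsupp.single j 1)]
    · subst h
      simp [← Finsupp.single_add]
      ring
    · simp [h.ne, h.ne', not_lt.2 h.le, h]
  let A : Matrix (Fin (n + 1)) (Fin (n + 1)) (MvPowerSeries (Fin (n + 1)) k) := Matrix.of H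
  have hA : IsUnit A.det := by
    rw [MvPowerSeries.isUnit_iff_constantCoeff, RingHom.map_det]
    have : (MvPowerSeries.constantCoeff (σ := Fin (n + 1)) (R := k)).mapMatrix A = polarMatrix (quadPart f) := by
      ext i j
      exact hH0 i j
    rw [this]
    exact hdet
  apply le_antisymm
  · rw [Ideal.span_le]
    rintro _ ⟨i, rfl⟩
    exact (hmax _).2 (hc i)
  · intro g hg
    obtain ⟨h, rfl⟩ := exists_decomp g ((hmax g).1 hg)
    refine Ideal.sum_mem _ fun l _ => Ideal.mul_mem_left _ _ ?_
    have hv : A.mulVec (fun j => MvPowerSeries.X j) = fun i => MvPowerSeries.pderiv k i f :=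
      funext fun i => hH i
    have hx : (fun j => MvPowerSeries.X j) = A⁻¹.mulVec (fun i => MvPowerSeries.pderiv k i f) := by
      rw [← hv, Matrix.mulVec_mulVec, Matrix.nonsing_inv_mul _ hA, Matrix.one_mulVec]
    rw [congrFun hx l]
    simp only [Matrix.mulVec, dotProduct]
    exact Ideal.sum_mem _ fun i _ => Ideal.mul_mem_left _ _ (Ideal.subset_span (Set.mem_range_self (f := fun i => MvPowerSeries.pderiv k i f) i))

end Groth.Agent.S8719
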