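import Groth.Statements.S8721
import Groth.Agent.SigmaLang.Basic

set_option autoImplicit false
universe u v
open SGA7II

namespace Groth.Agent.S8721

/-- Let k be a separably closed field of characteristic p > 0, q = p^r with r >= 1, V a
finite-dimensional k-vector space and phi : V -> V additive with phi(c v) = c^q phi(v). Let V_ss be
the intersection, over n >= 1, of the k-subspaces spanned by the images of the iterates phi^n (the
semisimple part of V). Then V_ss has a k-basis consisting of phi-fixed vectors, and every phi-fixed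
vector of V is a linear combination of this basis with coefficients c satisfying c^q = c; that is,
V_ss is obtained from the F_q-space of fixed vectors by extension of scalars. -/
theorem result (k : Type u) [Field k] [IsSepClosed k] (p : ℕ)
    [Fact p.Prime] [CharP k p] (r : ℕ) (hr : 0 < r) (V : Type v) [AddCommGroup V] [Module k V]
    [FiniteDimensional k V] (φ : V →+ V) (hφ : ∀ (c : k) (v : V), φ (c • v) = c ^ (p ^ r) • φ v) :
    let Vss : Submodule k V := ⨅ n : ℕ, Submodule.span k (Set.range (φ^[n + 1]))
    ∃ b : Module.Basis (Fin (Module.finrank k ↥Vss)) k ↥Vss, (∀ i, φ (b i : V) = (b i : V)) ∧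
      ∀ v : V, φ v = v → ∃ c : Fin (Module.finrank k ↥Vss) → k,
        (∀ i, c i ^ (p ^ r) = c i) ∧ v = ∑ i, c i • (b i : V) := by
  intro Vss
  let T : V →ₛₗ[iterateFrobenius k p r] V :=
    { toFun := φ, map_add' := map_add φ, map_smul' := fun c v => by rw [hφ, iterateFrobenius_def] }
  have hσ : ∀ x, iterateFrobenius k p r x = x ^ p ^ r := fun x => iterateFrobenius_def ..
  have he : Vss = Groth.Agent.SigmaLang.stable T :=
    le_antisymm (le_iInf fun n => (iInf_le _ n).trans (Groth.Agent.SigmaLang.span_iterate_anti T n.le_succ))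
      (le_iInf fun n => iInf_le _ (n + 1))
  clear_value Vss
  subst he
  obtain ⟨b, hb⟩ := Groth.Agent.SigmaLang.exists_basis_stable T (Groth.Agent.SigmaLang.twistRoots_powq p hr hσ) (Groth.Agent.SigmaLang.subSurj_powq p hr hσ)
  refine ⟨b, hb, fun v hv => ?_⟩
  let v' : Groth.Agent.SigmaLang.stable T := ⟨v, Groth.Agent.SigmaLang.fixed_mem_stable T hv⟩
  refine ⟨fun i => b.repr v' i, fun i => ?_, ?_⟩
  · rw [← hσ]
    exact (Groth.Agent.SigmaLang.repr_fixed (Groth.Agent.SigmaLang.restrictStable T) b (fun j => Subtype.ext (hb j)) (v := v')).1 (Subtype.ext hv) i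
  · have h := congrArg Subtype.val (b.sum_repr v')
    rw [Submodule.coe_sum] at h
    exact h.symm.trans (Finset.sum_congr rfl fun j _ => rfl)

end Groth.Agent.S8721
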