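import Groth.Statements.S8722
import Groth.Agent.SigmaLang.Local

set_option autoImplicit false
universe u v
open SGA7II

namespace Groth.Agent.S8722

/-- Let k be a separably closed field of characteristic p > 0, q = p^r with r >= 1, V a
finite-dimensional k-vector space and phi : V -> V additive with phi(c v) = c^q phi(v), semisimple
in the sense that its image spans V. Then for n >= 1 the fixed vectors of the n-th iterate of phi
are exactly the finite linear combinations of phi-fixed vectors with coefficients c satisfying
c^(q^n) = c; that is, the fixed space of phi^n is obtained from the F_q-space of phi-fixed vectors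
by extending scalars to F_{q^n}. -/
theorem result (k : Type u) [Field k] [IsSepClosed k] (p : ℕ)
    [Fact p.Prime] [CharP k p] (r : ℕ) (hr : 0 < r) (V : Type v) [AddCommGroup V] [Module k V]
    [FiniteDimensional k V] (φ : V →+ V) (hφ : ∀ (c : k) (v : V), φ (c • v) = c ^ (p ^ r) • φ v)
    (hss : Submodule.span k (Set.range φ) = ⊤) (n : ℕ) (hn : 0 < n) (v : V) :
    φ^[n] v = v ↔ ∃ (s : Finset V) (c : V → k), (∀ w ∈ s, φ w = w) ∧
      (∀ w ∈ s, c w ^ ((p ^ r) ^ n) = c w) ∧ v = ∑ w ∈ s, c w • w := by
  classical
  let T : V →ₛₗ[iterateFrobenius k p r] V :=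
    { toFun := φ, map_add' := map_add φ, map_smul' := fun c v => by rw [hφ, iterateFrobenius_def] }
  have hσ : ∀ x, iterateFrobenius k p r x = x ^ p ^ r := fun x => iterateFrobenius_def ..
  obtain ⟨b, hb⟩ := Groth.Agent.SigmaLang.exists_basis_fixed (Groth.Agent.SigmaLang.twistRoots_powq p hr hσ) (Groth.Agent.SigmaLang.subSurj_powq p hr hσ) T hss
  have hcomb : ∀ {ι : Type v} (s : Finset ι) (c : ι → k) (u : ι → V), (∀ i ∈ s, φ (u i) = u i) →
      φ^[n] (∑ i ∈ s, c i • u i) = ∑ i ∈ s, c i ^ (p ^ r) ^ n • u i := by
    intro ι s c u hu
    have : ∀ (c : k) (x : V), φ x = x → φ^[n] (c • x) = c ^ (p ^ r) ^ n • x := by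
      intro c x hx
      have := Groth.Agent.SigmaLang.iterate_map_smul T n c x
      rw [Groth.Agent.SigmaLang.iterate_powq hσ] at this
      exact this.trans (by rw [show (⇑T)^[n] x = x from Function.iterate_fixed hx n])
    clear hn
    induction s using Finset.induction_on with
    | empty => simp
    | insert a s ha ih =>
      rw [Finset.sum_insert ha, Finset.sum_insert ha, iterate_map_add, this _ _ (hu a (Finset.mem_insert_self a s)),
        ih (fun i hi => hu i (Finset.mem_insert_of_mem hi))]
  constructor
  · intro hv
    let c : V → k := fun w => if h : ∃ i, b i = w then b.repr v h.choose else 0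
    have hc : ∀ i, c (b i) = b.repr v i := fun i => by
      have h : ∃ j, b j = b i := ⟨i, rfl⟩
      simp only [c, dif_pos h]
      rw [b.injective h.choose_spec]
    have hsum : v = ∑ w ∈ Finset.univ.image b, c w • w := by
      rw [Finset.sum_image b.injective.injOn]
      simp only [hc, b.sum_repr]
    refine ⟨Finset.univ.image b, c, fun w hw => ?_, ?_, hsum⟩
    · obtain ⟨i, -, rfl⟩ := Finset.mem_image.1 hw
      exact hb i
    · intro w hw
      obtain ⟨i, -, rfl⟩ := Finset.mem_image.1 hw
      have hh := hcomb (Finset.univ.image b) c (fun w => w) (fun w hw => by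
        obtain ⟨i, -, rfl⟩ := Finset.mem_image.1 hw
        exact hb i)
      rw [hsum, hh] at hv
      rw [Finset.sum_image b.injective.injOn, Finset.sum_image b.injective.injOn] at hv
      have := congrArg (fun z => b.repr z i) hv
      simp only [b.repr_sum_self] at this
      exact this
  · rintro ⟨s, c, hs, hc, rfl⟩
    rw [hcomb s c (fun w => w) hs]
    exact Finset.sum_congr rfl fun w hw => by rw [hc w hw]

end Groth.Agent.S8722
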