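import Mathlib
import Groth.Statements.S8724
-- import your own Groth.Agent.* helpers here

set_option autoImplicit false
open LefPen

namespace Groth.Agent.S8724

/-- The algebraic identity established in its proof: let a >= 1 and work in Z[y, z]. Then (1+y)^(a-1) -
(1+z)^(a-1) = (y - z) * (sum over i, j >= 0 with i + j + 1 <= a - 1 of C(a-1, i+j+1) y^i z^j), and
(1+y)^a z - (1+z)^a y = (y - z) * (-1 + sum over i, j >= 1 with i + j <= a of C(a, i+j) y^i z^j).
Consequently the rational function -((1+y)^(a-1) - (1+z)^(a-1)) / ((1+y)^a z - (1+z)^a y), the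
generating series of the primitive middle Hodge numbers of smooth hypersurfaces of degree a, equals
(sum_{i,j >= 0} C(a-1, i+j+1) y^i z^j) / (1 - sum_{i,j >= 1} C(a, i+j) y^i z^j). -/
theorem result (a : ℕ) (ha : 1 ≤ a) :
    let y : MvPolynomial (Fin 2) ℤ := MvPolynomial.X 0
    let z : MvPolynomial (Fin 2) ℤ := MvPolynomial.X 1
    ((1 + y) ^ (a - 1) - (1 + z) ^ (a - 1) =
      (y - z) * ∑ i ∈ Finset.range a, ∑ j ∈ Finset.range a,
        if i + j + 1 ≤ a - 1 then ((a - 1).choose (i + j + 1) : MvPolynomial (Fin 2) ℤ) * y ^ i * z ^ j else 0) ∧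
    ((1 + y) ^ a * z - (1 + z) ^ a * y =
      (y - z) * (-1 + ∑ i ∈ Finset.range (a + 1), ∑ j ∈ Finset.range (a + 1),
        if 1 ≤ i ∧ 1 ≤ j ∧ i + j ≤ a then (a.choose (i + j) : MvPolynomial (Fin 2) ℤ) * y ^ i * z ^ j else 0)) := by
  intro y z
  have L : ∀ (c : ℕ → MvPolynomial (Fin 2) ℤ) (n b : ℕ), n ≤ b →
      (y - z) * ∑ i ∈ Finset.range b, ∑ j ∈ Finset.range b, (if i + j + 1 ≤ n then c (i + j + 1) * y ^ i * z ^ j else 0) =
      ∑ k ∈ Finset.range (n + 1), c k * (y ^ k - z ^ k) := by
    intro c n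
    induction n with
    | zero => intro b _; simp
    | succ n ih =>
      intro b hb
      have e : ∀ i j, (if i + j + 1 ≤ n + 1 then c (i + j + 1) * y ^ i * z ^ j else 0) =
          (if i + j + 1 ≤ n then c (i + j + 1) * y ^ i * z ^ j else 0) + (if i + j = n then c (n + 1) * (y ^ i * z ^ j) else 0) := by
        intro i j
        split_ifs <;> first | omega | (subst_vars; ring)
      simp only [e, Finset.sum_add_distrib, mul_add]
      rw [ih b (by omega), Finset.sum_range_succ _ (n + 1)]
      congr 1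
      have : ∑ i ∈ Finset.range b, ∑ j ∈ Finset.range b, (if i + j = n then c (n + 1) * (y ^ i * z ^ j) else 0) =
          c (n + 1) * ∑ i ∈ Finset.range (n + 1), y ^ i * z ^ (n - i) := by
        rw [Finset.mul_sum, ← Finset.sum_subset (s₁ := Finset.range (n + 1)) (s₂ := Finset.range b) (by intro i hi; simp at hi ⊢; omega)]
        · refine Finset.sum_congr rfl fun i hi => ?_
          rw [Finset.sum_eq_single (n - i)]
          · rw [if_pos]; simp at hi; omega
          · intro j _ hj; rw [if_neg]; omega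
          · intro h; simp at h hi; omega
        · intro i _ hi
          refine Finset.sum_eq_zero fun j _ => if_neg ?_
          simp at hi; omega
      rw [this, ← geom_sum₂_mul y z (n + 1)]
      simp only [Nat.add_sub_cancel]
      ring
  have hexp : ∀ (w : MvPolynomial (Fin 2) ℤ) (n : ℕ), (1 + w) ^ n = ∑ k ∈ Finset.range (n + 1), (n.choose k : MvPolynomial (Fin 2) ℤ) * w ^ k := by
    intro w n
    rw [add_comm, add_pow]; simp [mul_comm]
  constructor
  · rw [L (fun k => ((a - 1).choose k : MvPolynomial (Fin 2) ℤ)) (a - 1) a (by omega), hexp, hexp, ← Finset.sum_sub_distrib]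
    simp [mul_sub]
  · obtain ⟨d, rfl⟩ : ∃ d, a = d + 1 := ⟨a - 1, by omega⟩
    have hS : ∑ i ∈ Finset.range (d + 1 + 1), ∑ j ∈ Finset.range (d + 1 + 1),
        (if 1 ≤ i ∧ 1 ≤ j ∧ i + j ≤ d + 1 then ((d + 1).choose (i + j) : MvPolynomial (Fin 2) ℤ) * y ^ i * z ^ j else 0) =
        y * z * ∑ i ∈ Finset.range (d + 1), ∑ j ∈ Finset.range (d + 1),
          (if i + j + 1 ≤ d then ((d + 1).choose (i + j + 1 + 1) : MvPolynomial (Fin 2) ℤ) * y ^ i * z ^ j else 0) := by
      rw [Finset.sum_range_succ', Finset.mul_sum]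
      have h0 : ∀ j, ¬ (1 ≤ 0 ∧ 1 ≤ j ∧ 0 + j ≤ d + 1) := fun j h => by omega
      simp only [h0, if_false, Finset.sum_const_zero, add_zero]
      refine Finset.sum_congr rfl fun i _ => ?_
      rw [Finset.sum_range_succ', Finset.mul_sum, if_neg (by omega), add_zero]
      refine Finset.sum_congr rfl fun j _ => ?_
      split_ifs <;> first | omega | (rw [show i + 1 + (j + 1) = i + j + 1 + 1 by omega]; ring) | simp
    rw [hS, mul_add, ← mul_assoc (y - z), mul_comm (y - z) (y * z), mul_assoc (y * z),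
      L (fun k => ((d + 1).choose (k + 1) : MvPolynomial (Fin 2) ℤ)) d (d + 1) (by omega), hexp, hexp,
      Finset.sum_range_succ' _ (d + 1), Finset.sum_range_succ' _ (d + 1), Finset.mul_sum, add_mul, add_mul,
      Finset.sum_mul, Finset.sum_mul]
    have e : ∑ k ∈ Finset.range (d + 1), ((d + 1).choose (k + 1) : MvPolynomial (Fin 2) ℤ) * y ^ (k + 1) * z -
        ∑ k ∈ Finset.range (d + 1), ((d + 1).choose (k + 1) : MvPolynomial (Fin 2) ℤ) * z ^ (k + 1) * y =
        ∑ k ∈ Finset.range (d + 1), y * z * (((d + 1).choose (k + 1) : MvPolynomial (Fin 2) ℤ) * (y ^ k - z ^ k)) := by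
      rw [← Finset.sum_sub_distrib]
      exact Finset.sum_congr rfl fun k _ => by ring
    rw [← e]
    simp; ring

end Groth.Agent.S8724
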