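import Groth.Statements.S8737
import Groth.Agent.CliffSmooth.EvenMatrix
import Groth.Agent.CliffSmooth.SplitCentre

set_option autoImplicit false
universe u v w
open SGA7II

namespace Groth.Agent.S8737

open CliffordAlgebra TensorProduct Groth.Agent.CliffSmooth

theorem map_mem {A : Type u} [CommRing A] {V : Type v} [AddCommGroup V] [Module A V] {W : Type w} [AddCommGroup W]
    [Module A W] {p : QuadraticForm A W} {q : QuadraticForm A V} (f : p →qᵢ q) {x : CliffordAlgebra p}
    (hx : x ∈ CliffordAlgebra.even p) : CliffordAlgebra.map f x ∈ CliffordAlgebra.even q := by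
  change x ∈ evenOdd p 0 at hx
  induction x, hx using CliffordAlgebra.evenOdd_induction (Q := p) (n := (0 : ZMod 2)) with
  | range_ι_pow v hv =>
    rw [ZMod.val_zero, pow_zero, Submodule.mem_one] at hv
    obtain ⟨r, rfl⟩ := hv
    rw [AlgHom.commutes]
    exact Subalgebra.algebraMap_mem _ _
  | add x y _ _ hx hy => rw [map_add]; exact add_mem hx hy
  | ι_mul_ι_mul a b x _ ih =>
    rw [map_mul, map_mul, map_apply_ι, map_apply_ι]
    exact mul_mem (ι_mul_ι_mem_evenOdd_zero q (f a) (f b)) ih

theorem even_congr {A : Type u} [CommRing A] {V : Type v} [AddCommGroup V] [Module A V] {W : Type w} [AddCommGroup W]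
    [Module A W] {p : QuadraticForm A W} {q : QuadraticForm A V} (iso : p.IsometryEquiv q) :
    Nonempty (↥(CliffordAlgebra.even p) ≃ₐ[A] ↥(CliffordAlgebra.even q)) := by
  let E := CliffordAlgebra.equivOfIsometry iso
  have hle : (CliffordAlgebra.even p).map E.toAlgHom = CliffordAlgebra.even q := by
    refine le_antisymm ?_ ?_
    · rintro _ ⟨x, hx, rfl⟩
      exact map_mem iso.toIsometry hx
    · intro x hx
      exact ⟨E.symm x, map_mem iso.symm.toIsometry hx, E.apply_symm_apply x⟩
  exact ⟨(E.subalgebraMap _).trans (Subalgebra.equivOfEq _ _ hle)⟩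

theorem split {A : Type u} [CommRing A] {V : Type v} [AddCommGroup V] [Module A V] (k : ℕ)
    (b : Module.Basis (Fin (2 * (k + 1))) A V) (Q : QuadraticForm A V)
    (hQ : Function.Bijective (QuadraticMap.polarBilin Q)) :
    ∃ (A' : Type u) (_ : CommRing A') (_ : Algebra A A'), IsCover (R := A) A' ∧
      Nonempty ((A' ⊗[A] ↥(CliffordAlgebra.even Q)) ≃ₐ[A']
        (Matrix (Fin (2 ^ k)) (Fin (2 ^ k)) A' × Matrix (Fin (2 ^ k)) (Fin (2 ^ k)) A')) ∧
      Module.Finite A ↥(CliffordAlgebra.even Q) ∧ Module.Projective A ↥(CliffordAlgebra.even Q) := by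
  set q := Q.comp b.equivFun.symm.toLinearMap
  let iso : q.IsometryEquiv Q := { b.equivFun.symm with map_app' := fun _ => rfl }
  have hq : QuadGrp.IsRegular q := by
    let φ := b.equivFun.symm
    have : (QuadraticMap.polarBilin q : (Fin (2 * (k + 1)) → A) → _) =
        (fun B => B.comp φ.toLinearMap) ∘ QuadraticMap.polarBilin Q ∘ φ := by
      funext x
      refine LinearMap.ext fun y => ?_
      change QuadraticMap.polar q x y = QuadraticMap.polar Q (φ x) (φ y)
      simp only [QuadraticMap.polar, q, φ, QuadraticMap.comp_apply, map_add, LinearEquiv.coe_toLinearMap]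
    change Function.Bijective (QuadraticMap.polarBilin q)
    rw [this]
    refine Function.Bijective.comp ⟨fun B B' h => ?_, fun B => ⟨B.comp φ.symm.toLinearMap, ?_⟩⟩
      (hQ.comp φ.bijective)
    · refine LinearMap.ext fun y => ?_
      have := LinearMap.congr_fun h (φ.symm y)
      simpa using this
    · refine LinearMap.ext fun y => ?_
      simp
  obtain ⟨A', _, _, hA, -, ⟨e⟩⟩ := exists_even_matrix (Pi.basisFun A (Fin (2 * (k + 1)))) hq
  obtain ⟨c⟩ := even_congr iso
  haveI : Module.Finite A (CliffordAlgebra q) :=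
    Module.Finite.of_basis ((Pi.basisFun A (Fin (2 * (k + 1)))).ExteriorAlgebra.map (toExt q).symm)
  haveI : Module.Free A (CliffordAlgebra q) :=
    Module.Free.of_basis ((Pi.basisFun A (Fin (2 * (k + 1)))).ExteriorAlgebra.map (toExt q).symm)
  have hret : (evenPart q).comp (CliffordAlgebra.even q).val.toLinearMap = LinearMap.id :=
    LinearMap.ext fun x => Subtype.ext (par_of_mem q x.2)
  haveI : Module.Finite A ↥(CliffordAlgebra.even q) :=
    Module.Finite.of_surjective (evenPart q) fun x => ⟨x.1, LinearMap.congr_fun hret x⟩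
  haveI : Module.Projective A ↥(CliffordAlgebra.even q) := Module.Projective.of_split _ _ hret
  exact ⟨A', inferInstance, inferInstance, hA,
    ⟨(Algebra.TensorProduct.congr (AlgEquiv.refl (R := A') (A₁ := A')) c.symm).trans e⟩,
    Module.Finite.equiv c.toLinearEquiv, Module.Projective.of_equiv c.toLinearEquiv⟩


/-- Let A be a commutative ring, V a free A-module of rank 2m with m >= 1, and Q a quadratic form on V
which is non-degenerate in the sense that its polar bilinear form induces a bijection V -> Hom_A(V,
A). Let Z be the centre of the even Clifford algebra C^+(Q), and regard C^+(Q) as a Z-algebra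
through the inclusion of the centre. Then Z is an etale A-algebra which is finitely generated
projective of rank 2 at every prime of A, and C^+(Q) is an Azumaya algebra over Z. (The published
statement allows V locally free of rank 2m; this row takes V free.) -/
theorem result (A : Type u) [CommRing A] (V : Type v) [AddCommGroup V] [Module A V]
    [Module.Free A V] [Module.Finite A V] (m : ℕ) (hm : 1 ≤ m) (hV : Module.finrank A V = 2 * m)
    (Q : QuadraticForm A V) (hQ : Function.Bijective (QuadraticMap.polarBilin Q)) :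
    letI : Algebra ↥(Subalgebra.center A ↥(CliffordAlgebra.even Q)) ↥(CliffordAlgebra.even Q) :=
      (Subalgebra.center A ↥(CliffordAlgebra.even Q)).val.toRingHom.toAlgebra'
        (fun c x => (Subalgebra.mem_center_iff.mp c.2 x).symm)
    Algebra.Etale A ↥(Subalgebra.center A ↥(CliffordAlgebra.even Q)) ∧
      Module.Finite A ↥(Subalgebra.center A ↥(CliffordAlgebra.even Q)) ∧
      Module.Projective A ↥(Subalgebra.center A ↥(CliffordAlgebra.even Q)) ∧
      (∀ p : PrimeSpectrum A, Module.rankAtStalk ↥(Subalgebra.center A ↥(CliffordAlgebra.even Q)) p = 2) ∧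
      IsAzumaya ↥(Subalgebra.center A ↥(CliffordAlgebra.even Q)) ↥(CliffordAlgebra.even Q) := by
  obtain ⟨k, rfl⟩ : ∃ k, m = k + 1 := ⟨m - 1, by omega⟩
  have hnt : Nontrivial A := by
    by_contra h
    rw [not_nontrivial_iff_subsingleton] at h
    have : Module.finrank A V = 1 := Module.finrank_eq_of_rank_eq (rank_subsingleton A V)
    omega
  obtain ⟨A', _, _, hA, ⟨e⟩, hfin, hproj⟩ := split k (Module.finBasisOfFinrankEq A V hV) Q hQ
  haveI := hfin
  haveI := hproj
  haveI := hA.1
  exact Groth.Agent.CliffSmooth.SplitCentre.main A' (Nat.two_pow_pos k) e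

end Groth.Agent.S8737
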