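import Groth.Statements.S8754
import Groth.Agent.ModGroth.ULift

set_option autoImplicit false
universe u
open CategoryTheory Limits
open Adeq

namespace Groth.Agent.S8754

/-- The category of module-valued functors on `A`-algebras has enough injectives (it is a category of
presheaves of modules). -/
theorem result (A : Type u) [CommRing A] : EnoughInjectives (Adeq.MVF A) :=
  have h := Groth.Agent.ModGroth.presheaf_isGrothendieckAbelian'.{u + 1, u}
    (Groth.Agent.ModGroth.uliftRings.{u, u + 1} (Adeq.ringOf A))
  have : IsGrothendieckAbelian.{u + 1} (Adeq.MVF A) :=
    IsGrothendieckAbelian.of_equivalence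
      (Groth.Agent.ModGroth.uliftModulesEquivalence.{u, u + 1} (Adeq.ringOf A)).symm
  inferInstance

end Groth.Agent.S8754
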