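import Groth.Statements.S8770
import Groth.Agent.MLMod.PureCover
import Mathlib.LinearAlgebra.DFinsupp

set_option autoImplicit false
universe u
open PureExt

namespace Groth.Agent.S8770

/-- For every `R`-module `M` there is a universally exact sequence `0 → N → P → M → 0` with `P` pure
projective; this row takes `P` to be a direct sum of finitely presented modules, which is pure
projective: there is a surjection from such a direct sum onto `M` whose kernel inclusion is
universally injective. -/
theorem result (R : Type u) [CommRing R]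
    (M : Type u) [AddCommGroup M] [Module R M] :
    ∃ (ι : Type u) (Q : ι → Type u) (_ : ∀ i, AddCommGroup (Q i)) (_ : ∀ i, Module R (Q i)),
      (∀ i, Module.FinitePresentation R (Q i)) ∧
      ∃ g : (Π₀ i, Q i) →ₗ[R] M, Function.Surjective g ∧
        CAlgX.UniversallyInjective R (LinearMap.ker g).subtype := by
  classical
  let ι : Type u := Σ n : ℕ, Σ K : {K : Submodule R (Fin n → R) // K.FG}, (((Fin n → R) ⧸ K.1) →ₗ[R] M)
  let Q : ι → Type u := fun i => (Fin i.1 → R) ⧸ i.2.1.1
  refine ⟨ι, Q, fun i => inferInstanceAs (AddCommGroup ((Fin i.1 → R) ⧸ i.2.1.1)),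
    fun i => inferInstanceAs (Module R ((Fin i.1 → R) ⧸ i.2.1.1)), fun i => ?_, ?_⟩
  · exact Module.finitePresentation_of_surjective _ (Submodule.mkQ_surjective i.2.1.1)
      (by rw [Submodule.ker_mkQ]; exact i.2.1.2)
  refine ⟨DFinsupp.lsum ℕ fun i : ι => i.2.2, fun m => ?_, ?_⟩
  · let i : ι := ⟨1, ⟨⊥, Submodule.fg_bot⟩,
      (⊥ : Submodule R (Fin 1 → R)).liftQ (Fintype.linearCombination R fun _ => m) bot_le⟩
    refine ⟨DFinsupp.single i (Submodule.Quotient.mk (Pi.single 0 1)), ?_⟩
    rw [DFinsupp.lsum_single, Submodule.liftQ_apply, Fintype.linearCombination_apply_single, one_smul]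
  · exact Groth.MLMod.ui_ker_lsum (fun i : ι => i.2.2)
      (fun m n b k => ⟨⟨m, ⟨Groth.MLMod.relSub b, Submodule.fg_span (Set.finite_range _)⟩, k⟩,
        LinearMap.id, LinearMap.comp_id k⟩)
      _ (fun i q => DFinsupp.lsum_single ..)

end Groth.Agent.S8770
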