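import Groth.Statements.S8769
import Groth.Agent.S8770
import Groth.Agent.MLMod.Basic
-- import your own Groth.Agent.* helpers here

set_option autoImplicit false
set_option linter.style.haveILetI false
universe u
open PureExt

namespace Groth.Agent.S8769

/-- An `R`-module `P` is pure projective (every linear map `P → N` lifts along every surjection `L → N`
for which `0 → ker → L → N → 0` is universally exact, i.e. whose kernel inclusion is universally
injective) if and only if `P` is a direct summand of a direct sum of finitely presented `R`-modules. -/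
theorem result (R : Type u) [CommRing R]
    (P : Type u) [AddCommGroup P] [Module R P] :
    (∀ ⦃L N : Type u⦄ [AddCommGroup L] [Module R L] [AddCommGroup N] [Module R N] (g : L →ₗ[R] N),
        Function.Surjective g → CAlgX.UniversallyInjective R (LinearMap.ker g).subtype →
        ∀ φ : P →ₗ[R] N, ∃ ψ : P →ₗ[R] L, g ∘ₗ ψ = φ) ↔
    ∃ (ι : Type u) (Q : ι → Type u) (_ : ∀ i, AddCommGroup (Q i)) (_ : ∀ i, Module R (Q i)),
      (∀ i, Module.FinitePresentation R (Q i)) ∧
      ∃ (s : P →ₗ[R] (Π₀ i, Q i)) (r : (Π₀ i, Q i) →ₗ[R] P), r ∘ₗ s = LinearMap.id := by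
  classical
  constructor
  · intro h
    obtain ⟨ι, Q, iA, iM, hfp, g, hg, hui⟩ := Groth.Agent.S8770.result R P
    obtain ⟨s, hs⟩ := h g hg hui LinearMap.id
    exact ⟨ι, Q, iA, iM, hfp, s, g, hs⟩
  · rintro ⟨ι, Q, iA, iM, hfp, s, r, hsr⟩ L N _ _ _ _ g hg hui φ
    letI := iA
    letI := iM
    have key : ∀ i, ∃ l : Q i →ₗ[R] L, g ∘ₗ l = (φ ∘ₗ r) ∘ₗ DFinsupp.lsingle i := by
      intro i
      haveI := hfp i
      obtain ⟨n, m, e, t, he, hex⟩ := Module.FinitePresentation.exists_fin' R (Q i)
      set ψ := (φ ∘ₗ r) ∘ₗ DFinsupp.lsingle i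
      choose l hl using fun k : Fin n => hg (ψ (e (Pi.single k 1)))
      let lift₀ : (Fin n → R) →ₗ[R] L := Fintype.linearCombination R l
      have hl₀ : g ∘ₗ lift₀ = ψ ∘ₗ e := by
        refine (Pi.basisFun R (Fin n)).ext fun k => ?_
        simp [lift₀, Fintype.linearCombination_apply_single, hl]
      have hx : ∀ j, lift₀ (t (Pi.single j 1)) ∈ LinearMap.ker g := fun j => by
        rw [LinearMap.mem_ker, ← LinearMap.comp_apply, hl₀, LinearMap.comp_apply, hex.apply_apply_eq_zero, map_zero]
      obtain ⟨z, hz⟩ := Groth.MLMod.ui_equational hui (fun (j : Fin m) (k : Fin n) => t (Pi.single j 1) k)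
        (fun j => (⟨_, hx j⟩ : LinearMap.ker g)) l (fun j => Fintype.linearCombination_apply R l _)
      let lift₁ : (Fin n → R) →ₗ[R] L := Fintype.linearCombination R fun k => l k - (z k : L)
      have h1 : LinearMap.ker e ≤ LinearMap.ker lift₁ := by
        rw [hex.linearMap_ker_eq, LinearMap.range_eq_map, ← (Pi.basisFun R (Fin m)).span_eq, Submodule.map_span,
          Submodule.span_le]
        rintro _ ⟨_, ⟨j, rfl⟩, rfl⟩
        have h2 : lift₀ (t (Pi.single j 1)) = ∑ k, t (Pi.single j 1) k • (z k : L) := by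
          have := congrArg Subtype.val (hz j)
          simpa using this
        rw [Pi.basisFun_apply, SetLike.mem_coe, LinearMap.mem_ker, Fintype.linearCombination_apply]
        rw [Fintype.linearCombination_apply] at h2
        simp only [smul_sub, Finset.sum_sub_distrib, h2, sub_self]
      refine ⟨(LinearMap.ker e).liftQ lift₁ h1 ∘ₗ (LinearMap.quotKerEquivOfSurjective e he).symm.toLinearMap, ?_⟩
      refine LinearMap.ext fun q => ?_
      obtain ⟨v, rfl⟩ := he q
      have h3 : (LinearMap.quotKerEquivOfSurjective e he).symm (e v) = Submodule.Quotient.mk v := by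
        rw [LinearEquiv.symm_apply_eq]; rfl
      simp only [LinearMap.comp_apply, LinearEquiv.coe_coe, h3, Submodule.liftQ_apply]
      have h4 : g ∘ₗ lift₁ = ψ ∘ₗ e := by
        refine (Pi.basisFun R (Fin n)).ext fun k => ?_
        have hzk : g (z k : L) = 0 := (z k).2
        simp [lift₁, Fintype.linearCombination_apply_single, hl, hzk]
      exact LinearMap.congr_fun h4 v
    choose l hl using key
    refine ⟨DFinsupp.lsum ℕ l ∘ₗ s, ?_⟩
    have hA : g ∘ₗ DFinsupp.lsum ℕ l = φ ∘ₗ r := DFinsupp.lhom_ext fun i q => by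
      simp only [LinearMap.comp_apply, DFinsupp.lsum_single]
      exact LinearMap.congr_fun (hl i) q
    rw [← LinearMap.comp_assoc, hA, LinearMap.comp_assoc, hsr, LinearMap.comp_id]

end Groth.Agent.S8769
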