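import Mathlib
import Groth.Statements.S8771
-- import your own Groth.Agent.* helpers here

set_option autoImplicit false
universe u
open PureExt

namespace Groth.Agent.S8771

open scoped TensorProduct

/-- An `R`-module `I` is pure injective (every linear map `K → I` extends along every universally
injective `K → L`) if and only if the evaluation map `I → (I^∨)^∨` into its double character module
splits, i.e. admits a linear retraction. -/
theorem result (R : Type u) [CommRing R] (I : Type u) [AddCommGroup I]
    [Module R I] :
    (∀ ⦃K L : Type u⦄ [AddCommGroup K] [Module R K] [AddCommGroup L] [Module R L] (f : K →ₗ[R] L),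
        CAlgX.UniversallyInjective R f → ∀ φ : K →ₗ[R] I, ∃ ψ : L →ₗ[R] I, ψ ∘ₗ f = φ) ↔
    ∃ r : CharacterModule (CharacterModule I) →ₗ[R] I, r ∘ₗ PureExt.charEval R I = LinearMap.id := by
  let ev := PureExt.charEval R I
  have hev : CAlgX.UniversallyInjective R ev := by
    intro Q _ _
    refine (injective_iff_map_eq_zero _).2 fun z hz => ?_
    have hz' : (TensorProduct.comm R I Q) z = 0 := by
      refine CharacterModule.eq_zero_of_character_apply fun χ => ?_
      let ψ : Q →ₗ[R] CharacterModule I := CharacterModule.curry χ
      let χ' : CharacterModule (Q ⊗[R] CharacterModule (CharacterModule I)) :=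
        CharacterModule.uncurry ((PureExt.charEval R (CharacterModule I)) ∘ₗ ψ)
      have h : ∀ w : I ⊗[R] Q, χ ((TensorProduct.comm R I Q) w) = χ' ((TensorProduct.comm R _ Q) (ev.rTensor Q w)) := by
        intro w
        induction w using TensorProduct.induction_on with
        | zero => simp
        | tmul a q => rfl
        | add a b ha hb => simp only [map_add, ha, hb]
      rw [h, hz, map_zero, map_zero]
    simpa using hz'
  constructor
  · intro h
    obtain ⟨r, hr⟩ := h ev hev LinearMap.id
    exact ⟨r, hr⟩
  · rintro ⟨r, hr⟩ K L _ _ _ _ f hf φ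
    obtain ⟨ζ, hζ⟩ := CharacterModule.dual_surjective_of_injective _ (hf (CharacterModule I))
      (CharacterModule.uncurry (ev ∘ₗ φ))
    refine ⟨r ∘ₗ CharacterModule.curry ζ, LinearMap.ext fun a => ?_⟩
    have e : CharacterModule.curry ζ (f a) = ev (φ a) := by
      refine DFunLike.ext _ _ fun b => ?_
      have := DFunLike.congr_fun hζ (a ⊗ₜ[R] b)
      exact this
    show r (CharacterModule.curry ζ (f a)) = φ a
    rw [e]
    exact LinearMap.congr_fun hr (φ a)

end Groth.Agent.S8771
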