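import Groth.Statements.S8772
import Groth.Agent.MLMod.Basic

set_option autoImplicit false
universe u
open PureExt

namespace Groth.Agent.S8772

/-- For every `R`-module `M` the evaluation map `M → (M^∨)^∨` into the double character module is
universally injective; with the pure injectivity of character modules this gives a universally exact
embedding of `M` into a pure injective module. (The published statement asserts only the existence
of such an embedding; this row names the map.) -/
theorem result (R : Type u) [CommRing R] (M : Type u) [AddCommGroup M]
    [Module R M] : CAlgX.UniversallyInjective R (PureExt.charEval R M) := by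
  intro Q _ _
  rw [rTensor_injective_iff_lcomp_surjective]
  intro φ
  have h0 : ∀ q : Q, (0 : CharacterModule Q) q = 0 := fun _ => rfl
  have hadd : ∀ (c d : CharacterModule Q) (q : Q), (c + d) q = c q + d q := fun _ _ _ => rfl
  let ψ : Q →ₗ[R] CharacterModule M :=
    { toFun := fun q =>
        ({ toFun := fun m => φ m q
           map_zero' := by rw [map_zero]; exact h0 q
           map_add' := fun a b => by rw [map_add]; exact hadd _ _ q } : M →+ AddCircle (1 : ℚ))
      map_add' := fun a b => CharacterModule.ext M (fun m => map_add (φ m) a b)
      map_smul' := fun r a => CharacterModule.ext M (fun m => by
        show φ m (r • a) = φ (r • m) a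
        rw [φ.map_smul]
        rfl) }
  exact ⟨CharacterModule.dual ψ, LinearMap.ext fun m => CharacterModule.ext Q fun q => rfl⟩

end Groth.Agent.S8772
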