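import Groth.Statements.S8773
import Groth.Agent.MLMod.ML

set_option autoImplicit false
universe u
open PureExt

namespace Groth.Agent.S8773

/-- If `L → M → N` is a universally exact sequence of `R`-modules (exact after tensoring with any
module) then the inclusion of the image of `M → N` into `N` is universally injective. -/
theorem result (R : Type u) [CommRing R]
    {L M N : Type u} [AddCommGroup L] [Module R L] [AddCommGroup M] [Module R M] [AddCommGroup N] [Module R N]
    (f : L →ₗ[R] M) (g : M →ₗ[R] N)
    (h : ∀ (Q : Type u) [AddCommGroup Q] [Module R Q], Function.Exact (f.rTensor Q) (g.rTensor Q)) :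
    CAlgX.UniversallyInjective R (LinearMap.range g).subtype := by
  rw [Groth.MLMod.ui_iff]
  intro Q _ _ x hx
  obtain ⟨y, rfl⟩ := LinearMap.rTensor_surjective Q g.surjective_rangeRestrict x
  have hsr : (LinearMap.range g).subtype ∘ₗ g.rangeRestrict = g := LinearMap.ext fun _ => rfl
  rw [← LinearMap.rTensor_comp_apply, hsr] at hx
  obtain ⟨z, rfl⟩ := (h Q y).1 hx
  rw [← LinearMap.rTensor_comp_apply]
  have h0 : g.rangeRestrict ∘ₗ f = 0 := by
    refine LinearMap.ext fun l => Subtype.ext ?_
    have := (h R _).2 ⟨TensorProduct.tmul R l 1, rfl⟩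
    simpa using congrArg (TensorProduct.rid R N) this
  rw [h0, LinearMap.rTensor_zero, LinearMap.zero_apply]

end Groth.Agent.S8773
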