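import Groth.Statements.S8780
import Groth.Agent.ModGroth.ULift
import Mathlib
-- import your own Groth.Agent.* helpers here

set_option autoImplicit false
universe u
open CategoryTheory Limits
open AdeqTF

namespace Groth.Agent.S8780

/-- Take `I` injective in the category of module-valued functors on `A`-algebras. For every `A`-algebra
`B` and every short exact sequence `0 → N₁ → N → N₂ → 0` of `B`-modules, the induced map of tangent
modules `TI(B, N) → TI(B, N₂)` is surjective (`TI(B, N)` is the kernel of `I(B[N]) → I(B)`, `B[N]`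
the trivial square-zero extension). (The published statement asserts that `TI(B, N₁) → TI(B, N) →
TI(B, N₂) → 0` is exact; exactness at the middle term is false: for `A = B = ℚ`, the split sequence
`0 → ℚ → ℚ² → ℚ → 0` and the injective functor `D ↦ Map(Hom(D, ℚ[ε]/(ε²)), E)` with `E` an injective
hull of `ℚ[ε]/(ε²)`, the indicator function of the first coordinate form lies in the kernel of
`TI(B, ℚ²) → TI(B, ℚ)` and not in the image of `TI(B, ℚ) → TI(B, ℚ²)`. This row keeps the
surjectivity, which the published argument does establish.) -/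
theorem result (A : Type u) [CommRing A] (I : Adeq.MVF A) [Injective I]
    (B : Adeq.Alg A) (S : ShortComplex (ModuleCat.{u} B)) (hS : S.ShortExact) :
    Function.Surjective (AdeqTF.tangentMap B I S.g) := by
  intro z
  let e := Groth.Agent.ModGroth.uliftModulesEquivalence.{u, u + 1} (Adeq.ringOf A)
  haveI : Injective (e.functor.obj I) := Adjunction.map_injective e.symm.toAdjunction I ‹_›
  let D := Adeq.pt (AdeqTF.ext B S.X₂)
  let D' := Adeq.pt (AdeqTF.ext B S.X₃)
  let π : D ⟶ D' := Adeq.ptHom (AdeqTF.map B S.g)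
  let Fr : (Adeq.Alg A)ᵒᵖᵒᵖ → ((Adeq.Alg A)ᵒᵖᵒᵖ ⥤ Type (u + 1)) := fun d =>
    coyoneda.obj (Opposite.op d) ⋙ uliftFunctor.{u + 1}
  let φ : Fr D' ⟶ (e.functor.obj I).presheaf ⋙ forget _ :=
    { app := fun X => TypeCat.ofHom fun g => I.map g.down z.1
      naturality := fun X Y k => by
        ext g
        exact I.map_comp_apply g.down k z.1 }
  let θ : Fr D' ⟶ Fr D :=
    { app := fun X => TypeCat.ofHom fun g => ULift.up (π ≫ g.down)
      naturality := fun X Y k => by
        ext g
        exact congrArg ULift.up (Category.assoc _ _ _).symm }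
  have hsurj : Function.Surjective (AdeqTF.map B S.g).hom := fun y => by
    haveI := hS.epi_g
    obtain ⟨n, hn⟩ := (ModuleCat.epi_iff_surjective S.g).1 inferInstance y.snd
    refine ⟨TrivSqZeroExt.inl y.fst + TrivSqZeroExt.inr n, ?_⟩
    show TrivSqZeroExt.map S.g.hom _ = y
    rw [map_add, TrivSqZeroExt.map_inl, TrivSqZeroExt.map_inr, hn, TrivSqZeroExt.inl_fst_add_inr_snd_eq]
  have hθ : ∀ X, Mono (θ.app X) := fun X => by
    rw [mono_iff_injective]
    rintro ⟨g⟩ ⟨g'⟩ h
    have h' : π ≫ g = π ≫ g' := congrArg ULift.down h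
    refine congrArg ULift.up (Quiver.Hom.unop_inj (Quiver.Hom.unop_inj (CommAlgCat.hom_ext (AlgHom.ext fun y => ?_))))
    obtain ⟨w, rfl⟩ := hsurj y
    exact AlgHom.congr_fun (congrArg (fun t => t.unop.unop.hom) h') w
  let m : PresheafOfModules.freeObj (R := Groth.Agent.ModGroth.uliftRings.{u, u + 1} (Adeq.ringOf A)) (Fr D') ⟶
      PresheafOfModules.freeObj (Fr D) :=
    (PresheafOfModules.free.{u + 1} (Groth.Agent.ModGroth.uliftRings.{u, u + 1} (Adeq.ringOf A))).map θ
  haveI hm : Mono m := by
    haveI : ∀ X, Mono (((PresheafOfModules.toPresheaf _).map m).app X) := fun X => by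
      rw [AddCommGrpCat.mono_iff_injective]
      exact Finsupp.mapDomain_injective ((mono_iff_injective _).1 (hθ X))
    exact (PresheafOfModules.toPresheaf _).mono_of_mono_map
      (NatTrans.mono_of_mono_app ((PresheafOfModules.toPresheaf _).map m))
  let b := Injective.factorThru (PresheafOfModules.freeHomEquiv.symm φ) m
  let y : I.obj D := b.app D (ModuleCat.freeMk (ULift.up (𝟙 D)))
  have hy : I.map π y = z.1 := by
    refine (PresheafOfModules.naturality_apply b π (ModuleCat.freeMk (ULift.up (𝟙 D)))).symm.trans ?_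
    have h3 : (PresheafOfModules.freeObj (R := Groth.Agent.ModGroth.uliftRings.{u, u + 1} (Adeq.ringOf A)) (Fr D)).map π
        (ModuleCat.freeMk (ULift.up (𝟙 D))) = m.app D' (ModuleCat.freeMk (ULift.up (𝟙 D'))) := by
      simp [m, θ, Fr]
      erw [ModuleCat.freeDesc_apply, ModuleCat.free_map_apply]
      simp
      exact congrArg ModuleCat.freeMk (congrArg ULift.up (Category.id_comp π))
    refine (congrArg (b.app D') h3).trans ?_
    refine (congrArg (fun t : PresheafOfModules.freeObj (Fr D') ⟶ e.functor.obj I => t.app D' (ModuleCat.freeMk (ULift.up (𝟙 D'))))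
      (Injective.comp_factorThru (PresheafOfModules.freeHomEquiv.symm φ) m)).trans ?_
    simp [φ, PresheafOfModules.freeHomEquiv, Fr]
    erw [ModuleCat.freeDesc_apply]
    simp
    rfl
  refine ⟨⟨y, ?_⟩, Subtype.ext hy⟩
  change I.map (Adeq.ptHom (AdeqTF.fst B S.X₂)) y = 0
  rw [← I.congr_map_apply (show π ≫ Adeq.ptHom (AdeqTF.fst B S.X₃) = Adeq.ptHom (AdeqTF.fst B S.X₂) from
    congrArg Adeq.ptHom (AdeqTF.map_fst B S.g)), I.map_comp_apply, hy]
  exact z.2

end Groth.Agent.S8780
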