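import Groth.Statements.S8781
import Mathlib.Algebra.Homology.ShortComplex.ModuleCat
import Mathlib.Algebra.Category.ModuleCat.Presheaf.Abelian
import Mathlib.Algebra.Category.ModuleCat.Presheaf.Limits
import Mathlib.Algebra.Category.ModuleCat.Presheaf.Colimits
set_option linter.unusedVariables false
set_option backward.isDefEq.respectTransparency false
set_option maxHeartbeats 400000

set_option autoImplicit false
universe u
open CategoryTheory Limits
open AdeqTF

namespace Groth.Agent.S8781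

/-- Say a module-valued functor `F` on `A`-algebras has right exact tangent functors if for every
`A`-algebra `B` and every short exact sequence `0 → N₁ → N → N₂ → 0` of `B`-modules the sequence
`TF(B, N₁) → TF(B, N) → TF(B, N₂) → 0` is exact. If `0 → F → G → H → 0` is a short exact sequence of
module-valued functors and `F`, `G` have right exact tangent functors, so does `H`. -/
theorem result (A : Type u) [CommRing A] (C : ShortComplex (Adeq.MVF A))
    (hC : C.ShortExact)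
    (h₁ : (∀ (B : Adeq.Alg A) (S : ShortComplex (ModuleCat.{u} B)), S.ShortExact →
        Function.Surjective (AdeqTF.tangentMap B C.X₁ S.g) ∧
          (AdeqTF.tangentMap B C.X₁ S.g).ker = (AdeqTF.tangentMap B C.X₁ S.f).range))
    (h₂ : (∀ (B : Adeq.Alg A) (S : ShortComplex (ModuleCat.{u} B)), S.ShortExact →
        Function.Surjective (AdeqTF.tangentMap B C.X₂ S.g) ∧
          (AdeqTF.tangentMap B C.X₂ S.g).ker = (AdeqTF.tangentMap B C.X₂ S.f).range)) :
    (∀ (B : Adeq.Alg A) (S : ShortComplex (ModuleCat.{u} B)), S.ShortExact →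
        Function.Surjective (AdeqTF.tangentMap B C.X₃ S.g) ∧
          (AdeqTF.tangentMap B C.X₃ S.g).ker = (AdeqTF.tangentMap B C.X₃ S.f).range) := by
  intro B S hS
  haveI hadd : ∀ X, (PresheafOfModules.evaluation.{u + 1} (Adeq.ringOf A) X).Additive :=
    fun X => ⟨fun {_ _ _ _} => rfl⟩
  haveI hpl : ∀ X, Limits.PreservesFiniteLimits (PresheafOfModules.evaluation.{u + 1} (Adeq.ringOf A) X) :=
    fun X => ⟨fun _ _ _ => ⟨fun {K} => PresheafOfModules.evaluation_preservesLimit K X⟩⟩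
  haveI hpc : ∀ X, Limits.PreservesFiniteColimits (PresheafOfModules.evaluation.{u + 1} (Adeq.ringOf A) X) :=
    fun X => ⟨fun _ _ _ => ⟨fun {K} => PresheafOfModules.evaluation_preservesColimit K X⟩⟩
  have hinj : ∀ X, Function.Injective (C.f.app X) := fun X =>
    ((hC.map_of_exact (PresheafOfModules.evaluation.{u + 1} (Adeq.ringOf A) X)).moduleCat_injective_f :)
  have hsurj : ∀ X, Function.Surjective (C.g.app X) := fun X =>
    ((hC.map_of_exact (PresheafOfModules.evaluation.{u + 1} (Adeq.ringOf A) X)).moduleCat_surjective_g :)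
  have hzero : ∀ X (x : C.X₁.obj X), C.g.app X (C.f.app X x) = 0 := fun X x => by
    have := (C.map (PresheafOfModules.evaluation.{u + 1} (Adeq.ringOf A) X)).moduleCat_zero_apply x
    exact this
  have hexact : ∀ X (y : C.X₂.obj X), C.g.app X y = 0 → ∃ x, C.f.app X x = y := fun X y hy =>
    (ShortComplex.moduleCat_exact_iff _).1 (hC.map_of_exact (PresheafOfModules.evaluation.{u + 1} (Adeq.ringOf A) X)).exact y hy
  -- transfer maps on tangent spaces
  have memT : ∀ {F : Adeq.MVF A} {M : ModuleCat.{u} B} (x : F.obj (Adeq.pt (AdeqTF.ext B M))),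
      x ∈ AdeqTF.tangent B M F ↔ F.map (Adeq.ptHom (AdeqTF.fst B M)) x = 0 := fun _ => Iff.rfl
  have natT : ∀ {F G : Adeq.MVF A} (φ : F ⟶ G) {M : ModuleCat.{u} B} (x : F.obj (Adeq.pt (AdeqTF.ext B M))),
      x ∈ AdeqTF.tangent B M F → φ.app _ x ∈ AdeqTF.tangent B M G := by
    intro F G φ M x hx
    rw [memT] at hx ⊢
    rw [← PresheafOfModules.naturality_apply, hx, map_zero]
  have hsec : ∀ {F : Adeq.MVF A} {M : ModuleCat.{u} B} (x : F.obj (Adeq.pt B)),
      F.map (Adeq.ptHom (AdeqTF.fst B M)) (F.map (Adeq.ptHom (AdeqTF.inl B M)) x) = x := by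
    intro F M x
    have e : Adeq.ptHom (AdeqTF.inl B M) ≫ Adeq.ptHom (AdeqTF.fst B M) = 𝟙 (Adeq.pt B) := by
      rw [show Adeq.ptHom (AdeqTF.inl B M) ≫ Adeq.ptHom (AdeqTF.fst B M) = Adeq.ptHom (AdeqTF.inl B M ≫ AdeqTF.fst B M) from rfl,
        show AdeqTF.inl B M ≫ AdeqTF.fst B M = 𝟙 B from by
          apply CommAlgCat.hom_ext; refine AlgHom.ext fun b => ?_; rfl]
      rfl
    rw [← F.map_comp_apply, F.congr_map_apply e]
    simp
  have liftH : ∀ {M : ModuleCat.{u} B} (y : AdeqTF.tangent B M C.X₃), ∃ x : AdeqTF.tangent B M C.X₂,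
      C.g.app _ x.1 = y.1 := by
    intro M y
    obtain ⟨z, hz⟩ := hsurj _ y.1
    let z₀ : C.X₂.obj (Adeq.pt (AdeqTF.ext B M)) := C.X₂.map (Adeq.ptHom (AdeqTF.inl B M)) (C.X₂.map (Adeq.ptHom (AdeqTF.fst B M)) z)
    refine ⟨⟨z - z₀, ?_⟩, ?_⟩
    · rw [memT, map_sub, hsec, sub_self]
    · change C.g.app _ (z - z₀) = _
      rw [map_sub, PresheafOfModules.naturality_apply, PresheafOfModules.naturality_apply, hz,
        (memT _).1 y.2, map_zero, sub_zero]
  have liftF : ∀ {M : ModuleCat.{u} B} (x : AdeqTF.tangent B M C.X₂), C.g.app _ x.1 = 0 →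
      ∃ w : AdeqTF.tangent B M C.X₁, C.f.app _ w.1 = x.1 := by
    intro M x hx
    obtain ⟨w, hw⟩ := hexact _ x.1 hx
    refine ⟨⟨w, ?_⟩, hw⟩
    rw [memT]
    refine hinj (Adeq.pt B) (Eq.trans ?_ (map_zero _).symm)
    rw [PresheafOfModules.naturality_apply, hw]
    exact (memT _).1 x.2
  obtain ⟨hs1, he1⟩ := h₁ B S hS
  obtain ⟨hs2, he2⟩ := h₂ B S hS
  have nat : ∀ {F G : Adeq.MVF A} (φ : F ⟶ G) {M M' : ModuleCat.{u} B} (g : M ⟶ M') (x : AdeqTF.tangent B M F),
      φ.app _ (AdeqTF.tangentMap B F g x).1 = G.map (Adeq.ptHom (AdeqTF.map B g)) (φ.app _ x.1) :=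
    fun φ _ _ g x => PresheafOfModules.naturality_apply φ _ _
  have val : ∀ {F : Adeq.MVF A} {M M' : ModuleCat.{u} B} (g : M ⟶ M') (x : AdeqTF.tangent B M F),
      (AdeqTF.tangentMap B F g x).1 = F.map (Adeq.ptHom (AdeqTF.map B g)) x.1 := fun _ _ => rfl
  have push : ∀ {M M' : ModuleCat.{u} B} (g : M ⟶ M') (x : AdeqTF.tangent B M C.X₂),
      AdeqTF.tangentMap B C.X₃ g ⟨C.g.app _ x.1, natT _ _ x.2⟩ =
        ⟨C.g.app _ (AdeqTF.tangentMap B C.X₂ g x).1, natT _ _ (AdeqTF.tangentMap B C.X₂ g x).2⟩ :=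
    fun g x => Subtype.ext (nat C.g g x).symm
  refine ⟨fun y => ?_, ?_⟩
  · obtain ⟨x, hx⟩ := liftH y
    obtain ⟨x', hx'⟩ := hs2 x
    exact ⟨⟨C.g.app _ x'.1, natT _ _ x'.2⟩, by rw [push, hx']; exact Subtype.ext hx⟩
  · ext y
    constructor
    · intro hy
      have hy' : AdeqTF.tangentMap B C.X₃ S.g y = 0 := hy
      obtain ⟨x, hx⟩ := liftH y
      have h0 : C.g.app _ (AdeqTF.tangentMap B C.X₂ S.g x).1 = 0 := by
        rw [nat, hx, ← val, hy']; rfl
      obtain ⟨w, hw⟩ := liftF _ h0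
      obtain ⟨w', hw'⟩ := hs1 w
      have hk : AdeqTF.tangentMap B C.X₂ S.g (x - ⟨C.f.app _ w'.1, natT _ _ w'.2⟩) = 0 := by
        rw [map_sub, sub_eq_zero]
        apply Subtype.ext
        rw [val (x := ⟨C.f.app _ w'.1, natT _ _ w'.2⟩), ← nat, hw', hw]
      have hk' : _ ∈ (AdeqTF.tangentMap B C.X₂ S.g).ker := hk
      rw [he2] at hk'
      obtain ⟨z, hz⟩ := hk'
      refine ⟨⟨C.g.app _ z.1, natT _ _ z.2⟩, ?_⟩
      rw [push, hz]
      apply Subtype.ext
      change C.g.app _ (x.1 - _) = y.1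
      rw [map_sub, hzero, sub_zero, hx]
    · rintro ⟨z, rfl⟩
      obtain ⟨x, hx⟩ := liftH z
      have hz : z = ⟨C.g.app _ x.1, natT _ _ x.2⟩ := Subtype.ext hx.symm
      change AdeqTF.tangentMap B C.X₃ S.g _ = 0
      rw [hz, push, push]
      apply Subtype.ext
      change C.g.app _ _ = 0
      have : AdeqTF.tangentMap B C.X₂ S.g (AdeqTF.tangentMap B C.X₂ S.f x) = 0 := by
        have hm : AdeqTF.tangentMap B C.X₂ S.f x ∈ (AdeqTF.tangentMap B C.X₂ S.g).ker := he2 ▸ ⟨x, rfl⟩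
        exact hm
      rw [this]
      exact map_zero _

end Groth.Agent.S8781
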