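import Groth.Statements.S8782
import Mathlib.Algebra.Homology.ShortComplex.ModuleCat
import Mathlib.Algebra.Category.ModuleCat.Presheaf.Abelian
import Mathlib.Algebra.Category.ModuleCat.Presheaf.Limits
import Mathlib.Algebra.Category.ModuleCat.Presheaf.Colimits
set_option linter.unusedVariables false
set_option backward.isDefEq.respectTransparency false
set_option maxHeartbeats 400000

set_option autoImplicit false
universe u
open CategoryTheory Limits
open AdeqTF

namespace Groth.Agent.S8782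

/-- If `0 → F → G → H → 0` is a short exact sequence of module-valued functors on `A`-algebras and `F`,
`H` have right exact tangent functors (for every `A`-algebra `B` and short exact `0 → N₁ → N → N₂ →
0` of `B`-modules, `T(B, N₁) → T(B, N) → T(B, N₂) → 0` is exact), so does `G`. -/
theorem result (A : Type u) [CommRing A] (C : ShortComplex (Adeq.MVF A))
    (hC : C.ShortExact)
    (h₁ : (∀ (B : Adeq.Alg A) (S : ShortComplex (ModuleCat.{u} B)), S.ShortExact →
        Function.Surjective (AdeqTF.tangentMap B C.X₁ S.g) ∧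
          (AdeqTF.tangentMap B C.X₁ S.g).ker = (AdeqTF.tangentMap B C.X₁ S.f).range))
    (h₃ : (∀ (B : Adeq.Alg A) (S : ShortComplex (ModuleCat.{u} B)), S.ShortExact →
        Function.Surjective (AdeqTF.tangentMap B C.X₃ S.g) ∧
          (AdeqTF.tangentMap B C.X₃ S.g).ker = (AdeqTF.tangentMap B C.X₃ S.f).range)) :
    (∀ (B : Adeq.Alg A) (S : ShortComplex (ModuleCat.{u} B)), S.ShortExact →
        Function.Surjective (AdeqTF.tangentMap B C.X₂ S.g) ∧
          (AdeqTF.tangentMap B C.X₂ S.g).ker = (AdeqTF.tangentMap B C.X₂ S.f).range) := by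
  intro B S hS
  haveI hadd : ∀ X, (PresheafOfModules.evaluation.{u + 1} (Adeq.ringOf A) X).Additive :=
    fun X => ⟨fun {_ _ _ _} => rfl⟩
  haveI hpl : ∀ X, Limits.PreservesFiniteLimits (PresheafOfModules.evaluation.{u + 1} (Adeq.ringOf A) X) :=
    fun X => ⟨fun _ _ _ => ⟨fun {K} => PresheafOfModules.evaluation_preservesLimit K X⟩⟩
  haveI hpc : ∀ X, Limits.PreservesFiniteColimits (PresheafOfModules.evaluation.{u + 1} (Adeq.ringOf A) X) :=
    fun X => ⟨fun _ _ _ => ⟨fun {K} => PresheafOfModules.evaluation_preservesColimit K X⟩⟩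
  have hinj : ∀ X, Function.Injective (C.f.app X) := fun X =>
    ((hC.map_of_exact (PresheafOfModules.evaluation.{u + 1} (Adeq.ringOf A) X)).moduleCat_injective_f :)
  have hsurj : ∀ X, Function.Surjective (C.g.app X) := fun X =>
    ((hC.map_of_exact (PresheafOfModules.evaluation.{u + 1} (Adeq.ringOf A) X)).moduleCat_surjective_g :)
  have hzero : ∀ X (x : C.X₁.obj X), C.g.app X (C.f.app X x) = 0 := fun X x => by
    have := (C.map (PresheafOfModules.evaluation.{u + 1} (Adeq.ringOf A) X)).moduleCat_zero_apply x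
    exact this
  have hexact : ∀ X (y : C.X₂.obj X), C.g.app X y = 0 → ∃ x, C.f.app X x = y := fun X y hy =>
    (ShortComplex.moduleCat_exact_iff _).1 (hC.map_of_exact (PresheafOfModules.evaluation.{u + 1} (Adeq.ringOf A) X)).exact y hy
  -- transfer maps on tangent spaces
  have memT : ∀ {F : Adeq.MVF A} {M : ModuleCat.{u} B} (x : F.obj (Adeq.pt (AdeqTF.ext B M))),
      x ∈ AdeqTF.tangent B M F ↔ F.map (Adeq.ptHom (AdeqTF.fst B M)) x = 0 := fun _ => Iff.rfl
  have natT : ∀ {F G : Adeq.MVF A} (φ : F ⟶ G) {M : ModuleCat.{u} B} (x : F.obj (Adeq.pt (AdeqTF.ext B M))),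
      x ∈ AdeqTF.tangent B M F → φ.app _ x ∈ AdeqTF.tangent B M G := by
    intro F G φ M x hx
    rw [memT] at hx ⊢
    rw [← PresheafOfModules.naturality_apply, hx, map_zero]
  have hsec : ∀ {F : Adeq.MVF A} {M : ModuleCat.{u} B} (x : F.obj (Adeq.pt B)),
      F.map (Adeq.ptHom (AdeqTF.fst B M)) (F.map (Adeq.ptHom (AdeqTF.inl B M)) x) = x := by
    intro F M x
    have e : Adeq.ptHom (AdeqTF.inl B M) ≫ Adeq.ptHom (AdeqTF.fst B M) = 𝟙 (Adeq.pt B) := by
      rw [show Adeq.ptHom (AdeqTF.inl B M) ≫ Adeq.ptHom (AdeqTF.fst B M) = Adeq.ptHom (AdeqTF.inl B M ≫ AdeqTF.fst B M) from rfl,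
        show AdeqTF.inl B M ≫ AdeqTF.fst B M = 𝟙 B from by
          apply CommAlgCat.hom_ext; refine AlgHom.ext fun b => ?_; rfl]
      rfl
    rw [← F.map_comp_apply, F.congr_map_apply e]
    simp
  have liftH : ∀ {M : ModuleCat.{u} B} (y : AdeqTF.tangent B M C.X₃), ∃ x : AdeqTF.tangent B M C.X₂,
      C.g.app _ x.1 = y.1 := by
    intro M y
    obtain ⟨z, hz⟩ := hsurj _ y.1
    let z₀ : C.X₂.obj (Adeq.pt (AdeqTF.ext B M)) := C.X₂.map (Adeq.ptHom (AdeqTF.inl B M)) (C.X₂.map (Adeq.ptHom (AdeqTF.fst B M)) z)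
    refine ⟨⟨z - z₀, ?_⟩, ?_⟩
    · rw [memT, map_sub, hsec, sub_self]
    · change C.g.app _ (z - z₀) = _
      rw [map_sub, PresheafOfModules.naturality_apply, PresheafOfModules.naturality_apply, hz,
        (memT _).1 y.2, map_zero, sub_zero]
  have liftF : ∀ {M : ModuleCat.{u} B} (x : AdeqTF.tangent B M C.X₂), C.g.app _ x.1 = 0 →
      ∃ w : AdeqTF.tangent B M C.X₁, C.f.app _ w.1 = x.1 := by
    intro M x hx
    obtain ⟨w, hw⟩ := hexact _ x.1 hx
    refine ⟨⟨w, ?_⟩, hw⟩
    rw [memT]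
    refine hinj (Adeq.pt B) (Eq.trans ?_ (map_zero _).symm)
    rw [PresheafOfModules.naturality_apply, hw]
    exact (memT _).1 x.2
  obtain ⟨hs1, he1⟩ := h₁ B S hS
  obtain ⟨hs3, he3⟩ := h₃ B S hS
  have nat : ∀ {F G : Adeq.MVF A} (φ : F ⟶ G) {M M' : ModuleCat.{u} B} (g : M ⟶ M') (x : AdeqTF.tangent B M F),
      φ.app _ (AdeqTF.tangentMap B F g x).1 = G.map (Adeq.ptHom (AdeqTF.map B g)) (φ.app _ x.1) :=
    fun φ _ _ g x => PresheafOfModules.naturality_apply φ _ _
  have val : ∀ {F : Adeq.MVF A} {M M' : ModuleCat.{u} B} (g : M ⟶ M') (x : AdeqTF.tangent B M F),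
      (AdeqTF.tangentMap B F g x).1 = F.map (Adeq.ptHom (AdeqTF.map B g)) x.1 := fun _ _ => rfl
  refine ⟨fun y => ?_, ?_⟩
  · obtain ⟨a, ha⟩ := hs3 ⟨C.g.app _ y.1, natT _ _ y.2⟩
    obtain ⟨x, hx⟩ := liftH a
    have h0 : C.g.app _ (y - AdeqTF.tangentMap B C.X₂ S.g x).1 = 0 := by
      rw [AddSubgroup.coe_sub, map_sub, nat, hx, ← val, ha, sub_self]
    obtain ⟨w, hw⟩ := liftF _ h0
    obtain ⟨w', hw'⟩ := hs1 w
    refine ⟨x + ⟨C.f.app _ w'.1, natT _ _ w'.2⟩, Subtype.ext ?_⟩
    have e : C.X₂.map (Adeq.ptHom (AdeqTF.map B S.g)) (C.f.app _ w'.1) = C.f.app _ w.1 := by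
      rw [← nat, hw']
    rw [map_add, AddSubgroup.coe_add, val, val, e, hw, AddSubgroup.coe_sub, val]
    exact add_sub_cancel _ _
  · ext x
    constructor
    · intro hx
      have hx' : AdeqTF.tangentMap B C.X₂ S.g x = 0 := hx
      have : (⟨C.g.app _ x.1, natT _ _ x.2⟩ : AdeqTF.tangent B S.X₂ C.X₃) ∈ (AdeqTF.tangentMap B C.X₃ S.g).ker := by
        apply Subtype.ext
        rw [val, ← nat, hx']
        exact map_zero _
      rw [he3] at this
      obtain ⟨z, hz⟩ := this
      obtain ⟨z', hz'⟩ := liftH z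
      have h0 : C.g.app _ (x - AdeqTF.tangentMap B C.X₂ S.f z').1 = 0 := by
        rw [AddSubgroup.coe_sub, map_sub, nat, hz', ← val, hz, sub_self]
      obtain ⟨w, hw⟩ := liftF _ h0
      have hcomp : ∀ (M : AdeqTF.tangent B S.X₁ C.X₂), AdeqTF.tangentMap B C.X₂ S.g (AdeqTF.tangentMap B C.X₂ S.f M) = 0 := by
        intro M
        apply Subtype.ext
        rw [val, val, ← C.X₂.map_comp_apply]
        have e : Adeq.ptHom (AdeqTF.map B S.f) ≫ Adeq.ptHom (AdeqTF.map B S.g) =
            Adeq.ptHom (AdeqTF.fst B S.X₁) ≫ Adeq.ptHom (AdeqTF.inl B S.X₃) := by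
          change Adeq.ptHom (AdeqTF.map B S.f ≫ AdeqTF.map B S.g) = Adeq.ptHom (AdeqTF.fst B S.X₁ ≫ AdeqTF.inl B S.X₃)
          congr 1
          apply CommAlgCat.hom_ext
          refine AlgHom.ext fun v => ?_
          change TrivSqZeroExt.map S.g.hom (TrivSqZeroExt.map S.f.hom v) = TrivSqZeroExt.inl v.fst
          ext
          · simp
          · simp only [TrivSqZeroExt.snd_map, TrivSqZeroExt.snd_inl]
            exact S.moduleCat_zero_apply v.snd
        rw [C.X₂.congr_map_apply e, C.X₂.map_comp_apply, (memT _).1 M.2, map_zero]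
        rfl
      have hw0 : AdeqTF.tangentMap B C.X₁ S.g w = 0 := by
        apply Subtype.ext
        apply hinj
        rw [nat, hw, ← val, map_sub, hx', hcomp, sub_self]
        exact (map_zero _).symm
      obtain ⟨w', hw'⟩ := (he1 ▸ hw0 : w ∈ (AdeqTF.tangentMap B C.X₁ S.f).range)
      refine ⟨z' + ⟨C.f.app _ w'.1, natT _ _ w'.2⟩, Subtype.ext ?_⟩
      have e : C.X₂.map (Adeq.ptHom (AdeqTF.map B S.f)) (C.f.app _ w'.1) = C.f.app _ w.1 := by
        rw [← nat, hw']
      rw [map_add, AddSubgroup.coe_add, val, val, e, hw, AddSubgroup.coe_sub, val]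
      exact add_sub_cancel _ _
    · rintro ⟨z, rfl⟩
      apply Subtype.ext
      rw [val, val, ← C.X₂.map_comp_apply]
      have e : Adeq.ptHom (AdeqTF.map B S.f) ≫ Adeq.ptHom (AdeqTF.map B S.g) =
          Adeq.ptHom (AdeqTF.fst B S.X₁) ≫ Adeq.ptHom (AdeqTF.inl B S.X₃) := by
        change Adeq.ptHom (AdeqTF.map B S.f ≫ AdeqTF.map B S.g) = Adeq.ptHom (AdeqTF.fst B S.X₁ ≫ AdeqTF.inl B S.X₃)
        congr 1
        apply CommAlgCat.hom_ext
        refine AlgHom.ext fun v => ?_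
        change TrivSqZeroExt.map S.g.hom (TrivSqZeroExt.map S.f.hom v) = TrivSqZeroExt.inl v.fst
        ext
        · simp
        · simp only [TrivSqZeroExt.snd_map, TrivSqZeroExt.snd_inl]
          exact S.moduleCat_zero_apply v.snd
      rw [C.X₂.congr_map_apply e, C.X₂.map_comp_apply, (memT _).1 z.2, map_zero]
      rfl

end Groth.Agent.S8782
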