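import Mathlib
import Groth.Statements.S8783
-- import your own Groth.Agent.* helpers here

set_option autoImplicit false
universe u
open CategoryTheory Limits
open AdeqTF

namespace Groth.Agent.S8783

set_option backward.isDefEq.respectTransparency false
set_option backward.isDefEq.respectTransparency.types false

/-- Let `F` be a module-valued functor on `A`-algebras with right exact tangent functors (for every
`A`-algebra `B` and short exact `0 → N₁ → N → N₂ → 0` of `B`-modules, `TF(B, N₁) → TF(B, N) → TF(B,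
N₂) → 0` is exact). Then `TF(B, N₁ ⊕ N₂) = TF(B, N₁) ⊕ TF(B, N₂)`: the map from the product induced
by the two inclusions is bijective. -/
theorem result (A : Type u) [CommRing A] (F : Adeq.MVF A)
    (hF : (∀ (B : Adeq.Alg A) (S : ShortComplex (ModuleCat.{u} B)), S.ShortExact →
        Function.Surjective (AdeqTF.tangentMap B F S.g) ∧
          (AdeqTF.tangentMap B F S.g).ker = (AdeqTF.tangentMap B F S.f).range))
    (B : Adeq.Alg A) (N₁ N₂ : ModuleCat.{u} B) :
    Function.Bijective ((AdeqTF.tangentMap B F (biprod.inl : N₁ ⟶ N₁ ⊞ N₂)).coprod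
      (AdeqTF.tangentMap B F (biprod.inr : N₂ ⟶ N₁ ⊞ N₂))) := by
  let T := fun {N N' : ModuleCat.{u} B} (g : N ⟶ N') => AdeqTF.tangentMap B F g
  have hcomp : ∀ {N N' N'' : ModuleCat.{u} B} (f : N ⟶ N') (g : N' ⟶ N'') (x : AdeqTF.tangent B N F),
      T g (T f x) = T (f ≫ g) x := by
    intro N N' N'' f g x
    apply Subtype.ext
    have e : Adeq.ptHom (AdeqTF.map B f) ≫ Adeq.ptHom (AdeqTF.map B g) = Adeq.ptHom (AdeqTF.map B (f ≫ g)) := by
      refine congrArg Adeq.ptHom ?_
      apply CommAlgCat.hom_ext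
      refine AlgHom.ext fun y => ?_
      exact (DFunLike.congr_fun (TrivSqZeroExt.map_comp_map f.hom g.hom) y).symm
    change F.map (Adeq.ptHom (AdeqTF.map B g)) (F.map (Adeq.ptHom (AdeqTF.map B f)) x.1) = F.map (Adeq.ptHom (AdeqTF.map B (f ≫ g))) x.1
    rw [← F.map_comp_apply, F.congr_map_apply e]
  have hid : ∀ {N : ModuleCat.{u} B} (x : AdeqTF.tangent B N F), T (𝟙 N) x = x := by
    intro N x
    apply Subtype.ext
    have e : Adeq.ptHom (AdeqTF.map B (𝟙 N)) = 𝟙 (Adeq.pt (AdeqTF.ext B N)) := by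
      show Adeq.ptHom _ = Adeq.ptHom (𝟙 _)
      refine congrArg Adeq.ptHom ?_
      apply CommAlgCat.hom_ext
      refine AlgHom.ext fun y => ?_
      exact DFunLike.congr_fun (TrivSqZeroExt.map_id (R' := (B : Type u)) (M := N)) y
    change F.map (Adeq.ptHom (AdeqTF.map B (𝟙 N))) x.1 = x.1
    rw [F.congr_map_apply e]
    simp
  have hzero : ∀ {N N' : ModuleCat.{u} B} (x : AdeqTF.tangent B N F), T (0 : N ⟶ N') x = 0 := by
    intro N N' x
    apply Subtype.ext
    have e : Adeq.ptHom (AdeqTF.map B (0 : N ⟶ N')) =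
        Adeq.ptHom (AdeqTF.fst B N) ≫ Adeq.ptHom (AdeqTF.inl B N') := by
      refine congrArg Adeq.ptHom ?_
      apply CommAlgCat.hom_ext
      refine AlgHom.ext fun y => ?_
      refine TrivSqZeroExt.ext ?_ ?_
      · exact TrivSqZeroExt.fst_map _ y
      · exact (TrivSqZeroExt.snd_map _ y).trans rfl
    change F.map (Adeq.ptHom (AdeqTF.map B (0 : N ⟶ N'))) x.1 = 0
    rw [F.congr_map_apply e, F.map_comp_apply]
    have h0 : F.map (Adeq.ptHom (AdeqTF.fst B N)) x.1 = 0 := x.2
    rw [h0]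
    exact map_zero _
  let S := ShortComplex.mk (biprod.inl : N₁ ⟶ N₁ ⊞ N₂) (biprod.snd : N₁ ⊞ N₂ ⟶ N₂) biprod.inl_snd
  have hS : S.ShortExact := (ShortComplex.Splitting.ofHasBinaryBiproduct N₁ N₂).shortExact
  obtain ⟨-, hker⟩ := hF B S hS
  constructor
  · rw [injective_iff_map_eq_zero]
    rintro ⟨a, b⟩ hab
    rw [AddMonoidHom.coprod_apply] at hab
    have hb := congrArg (T (biprod.snd : N₁ ⊞ N₂ ⟶ N₂)) hab
    rw [map_add, map_zero, hcomp, hcomp, biprod.inl_snd, biprod.inr_snd, hzero, hid, zero_add] at hb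
    subst hb
    have ha := congrArg (T (biprod.fst : N₁ ⊞ N₂ ⟶ N₁)) hab
    rw [map_zero, map_zero, add_zero, hcomp, biprod.inl_fst, hid] at ha
    subst ha
    rfl
  · intro x
    have hx : x - T (biprod.inr : N₂ ⟶ N₁ ⊞ N₂) (T (biprod.snd : N₁ ⊞ N₂ ⟶ N₂) x) ∈
        (AdeqTF.tangentMap B F S.g).ker := by
      change T (biprod.snd : N₁ ⊞ N₂ ⟶ N₂) _ = 0
      rw [map_sub, hcomp, biprod.inr_snd, hid, sub_self]
    rw [hker] at hx
    obtain ⟨y, hy⟩ := hx
    refine ⟨(y, T biprod.snd x), ?_⟩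
    rw [AddMonoidHom.coprod_apply]
    exact eq_sub_iff_add_eq.1 hy

end Groth.Agent.S8783
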