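import Groth.Statements.S8803
import Groth.Agent.LocCohLib.Artinian
import Mathlib.Algebra.Category.ModuleCat.Subobject
import Mathlib.CategoryTheory.Subobject.Limits
set_option linter.style.haveILetI false
open CategoryTheory.Limits

set_option autoImplicit false
universe u
open CategoryTheory
open LocCoh

namespace Groth.Agent.S8803

theorem comp_le {C : Type*} [Category C] [Abelian C] {X Y Z : C} (h : X ⟶ Y) (g : Y ⟶ Z) :
    imageSubobject (h ≫ g) ≤ imageSubobject g :=
  imageSubobject_comp_le h g

/-- Let (A, m) be a Noetherian local ring and (M_n) an inverse system of finite A-modules. Then for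
every i the inverse system H^i_m(M_n) of local cohomology modules satisfies the Mittag-Leffler
condition. -/
theorem result (A : Type u) [CommRing A] [IsNoetherianRing A] [IsLocalRing A] (Msys : ℕᵒᵖ ⥤ ModuleCat.{u} A) (hfin : ∀ n : ℕᵒᵖ, Module.Finite A (Msys.obj n)) (i : ℕ) : ARSys.IsML (Msys ⋙ localCohomology (IsLocalRing.maximalIdeal A) i) := by
  intro n
  let X := Msys ⋙ localCohomology (IsLocalRing.maximalIdeal A) i
  haveI := hfin (Opposite.op n)
  haveI : IsArtinian A (X.obj (Opposite.op n)) := Groth.Agent.LocCohLib.isArtinian_H i (Msys.obj (Opposite.op n))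
  haveI : HasImages (ModuleCat.{u} A) := inferInstance
  let e := ModuleCat.subobjectModule (X.obj (Opposite.op n))
  have hmono : ∀ r s : ℕ, r ≤ s → imageSubobject (ARSys.shiftMap X s n) ≤ imageSubobject (ARSys.shiftMap X r n) := by
    intro r s hrs
    obtain ⟨d, rfl⟩ := Nat.exists_eq_add_of_le hrs
    have h : ARSys.shiftMap X (r + d) n =
        X.map (homOfLE (by omega : n + r ≤ n + (r + d))).op ≫ ARSys.shiftMap X r n := by
      show X.map _ = X.map _ ≫ X.map _
      exact (congrArg X.map (Subsingleton.elim _ _)).trans (X.map_comp _ _)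
    rw [h]
    exact comp_le _ _
  let f : ℕ →o (Submodule A (X.obj (Opposite.op n)))ᵒᵈ :=
    ⟨fun r => OrderDual.toDual (e (imageSubobject (ARSys.shiftMap X r n))), fun r s hrs => e.monotone (hmono r s hrs)⟩
  obtain ⟨r, hr⟩ := IsArtinian.monotone_stabilizes f
  exact ⟨r, fun s hs => e.injective (congrArg OrderDual.ofDual (hr s hs)).symm⟩

end Groth.Agent.S8803
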