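import Groth.Statements.S8804
import Mathlib
import Groth.Agent.AdicLim.Noetherian
-- import your own Groth.Agent.* helpers here

set_option autoImplicit false
universe u
open AdicRing

namespace Groth.Agent.S8804

theorem complete_of_equiv {B : Type u} [CommRing B] {J R : Ideal B} (hJR : J ≤ R) {k : ℕ} (hk : R ^ (k + 1) ≤ J)
    [IsAdicComplete J B] : IsAdicComplete R B where
  haus' x hx := IsHausdorff.haus (I := J) inferInstance x fun n => by
    refine SModEq.mono (Submodule.smul_mono_left ?_) (hx ((k + 1) * n))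
    rw [pow_mul]; exact Ideal.pow_right_mono hk n
  prec' f hf := by
    obtain ⟨L, hL⟩ := IsPrecomplete.prec (I := J) inferInstance (f := fun n => f ((k + 1) * n)) fun {m n} h => by
      refine SModEq.mono (Submodule.smul_mono_left ?_) (hf (Nat.mul_le_mul_left (k + 1) h))
      rw [pow_mul]; exact Ideal.pow_right_mono hk m
    refine ⟨L, fun n => (hf (Nat.le_mul_of_pos_left n k.succ_pos)).trans ?_⟩
    exact SModEq.mono (Submodule.smul_mono_left (Ideal.pow_right_mono hJR n)) (hL n)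

variable {B : Type u} [CommRing B] [IsDomain B] [IsNoetherianRing B]

theorem dim_le_one {J : Ideal B} (hJ : J ≠ ⊥) (h : ∀ P : Ideal B, P.IsPrime → P ≠ ⊥ → J ≤ P) :
    ∀ P : Ideal B, P.IsPrime → P ≠ ⊥ → P.IsMaximal := by
  classical
  obtain ⟨b, hbJ, hb0⟩ := Submodule.exists_mem_ne_zero_of_ne_bot hJ
  intro P hP hP0
  obtain ⟨M, hM, hPM⟩ := Ideal.exists_le_maximal P hP.ne_top
  by_contra hmax
  have hlt : P < M := lt_of_le_of_ne hPM fun e => hmax (e ▸ hM)
  have two : ∀ Q₁ Q₂ : Ideal B, Q₁.IsPrime → Q₂.IsPrime → ∀ x : B, Q₁ ≠ ⊥ → Q₁ < Q₂ → Q₂ ∉ (Ideal.span {x}).minimalPrimes := by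
    intro Q₁ Q₂ h1 h2 x h0 hlt hmem
    have := h2; have := h1
    have ha : Q₂.height ≤ 1 := Ideal.height_le_one_of_isPrincipal_of_mem_minimalPrimes _ _ hmem
    have hb : Q₁.height < Q₂.height := Ideal.height_strict_mono_of_isPrime hlt
    have hc : (⊥ : Ideal B).height < Q₁.height :=
      have := Ideal.isPrime_bot (α := B)
      Ideal.height_strict_mono_of_isPrime (bot_lt_iff_ne_bot.2 h0)
    have hd : (1 : ℕ∞) ≤ Q₁.height := Order.one_le_iff_pos.2 (lt_of_le_of_lt zero_le hc)
    exact absurd (lt_of_le_of_lt hd (lt_of_lt_of_le hb ha)) (lt_irrefl _)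
  have hfin := Ideal.finite_minimalPrimes_of_isNoetherianRing B (Ideal.span {b})
  have hnot : ¬ (M : Set B) ⊆ ⋃ s ∈ (hfin.toFinset : Set (Ideal B)), (s : Set B) := by
    rw [Ideal.subset_union_prime ⊥ ⊥ (fun i hi _ _ => (hfin.mem_toFinset.1 hi).1.1)]
    rintro ⟨s, hs, hMs⟩
    have hsm := hfin.mem_toFinset.1 hs
    have e : M = s := hM.eq_of_le hsm.1.1.ne_top hMs
    exact two P M hP hM.isPrime b hP0 hlt (e ▸ hsm)
  obtain ⟨x, hxM, hx⟩ := Set.not_subset.1 hnot
  have := hM.isPrime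
  obtain ⟨Q, hQ, hQM⟩ := Ideal.exists_minimalPrimes_le ((Ideal.span_singleton_le_iff_mem M).2 hxM)
  have hQp := hQ.1.1
  have hQ0 : Q ≠ ⊥ := by
    intro e
    have hx0 : x = 0 := by simpa [e] using hQ.1.2 (Ideal.mem_span_singleton_self x)
    obtain ⟨s, hs, -⟩ := Ideal.exists_minimalPrimes_le
      ((Ideal.span_singleton_le_iff_mem M).2 (h M hM.isPrime (fun e' => by simp [e'] at hlt) hbJ))
    exact hx (Set.mem_biUnion (hfin.mem_toFinset.2 hs) (by rw [hx0]; exact s.zero_mem))
  have hbQ := h Q hQp hQ0 hbJ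
  obtain ⟨s, hs, hsQ⟩ := Ideal.exists_minimalPrimes_le ((Ideal.span_singleton_le_iff_mem Q).2 hbQ)
  have hs0 : s ≠ ⊥ := fun e => hb0 (by simpa [e] using hs.1.2 (Ideal.mem_span_singleton_self b))
  rcases eq_or_lt_of_le hsQ with e | hl
  · refine hx (Set.mem_biUnion (hfin.mem_toFinset.2 hs) ?_)
    rw [e]; exact hQ.1.2 (Ideal.mem_span_singleton_self x)
  · exact two s Q hs.1.1 hQp x hs0 hl hQ

theorem radical_isMax {J : Ideal B} (hJ : J ≠ ⊥) [IsAdicComplete J B]
    (hdim : ∀ P : Ideal B, P.IsPrime → P ≠ ⊥ → P.IsMaximal) :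
    (∀ m : Ideal B, m.IsMaximal → m = J.radical) ∧ IsAdicComplete J.radical B := by
  classical
  have hjac : ∀ m : Ideal B, m.IsMaximal → J ≤ m := fun m hm =>
    (IsAdicComplete.le_jacobson_bot J).trans (sInf_le ⟨bot_le, hm⟩)
  have hover : ∀ P : Ideal B, P.IsPrime → J ≤ P → P.IsMaximal := fun P hP hle =>
    hdim P hP fun e => hJ (le_bot_iff.1 (e ▸ hle))
  obtain ⟨k, hk⟩ := Ideal.exists_radical_pow_le_of_fg J J.radical.fg_of_isNoetherianRing
  have hk' : J.radical ^ (k + 1) ≤ J := (Ideal.pow_le_pow_right k.le_succ).trans hk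
  have uniq : ∀ m₁ m₂ : Ideal B, m₁.IsMaximal → m₂.IsMaximal → m₁ = m₂ := by
    intro m₁ m₂ h1 h2
    by_contra hne
    have hfin := Ideal.finite_minimalPrimes_of_isNoetherianRing B J
    have hmin : ∀ m : Ideal B, m.IsMaximal → m ∈ J.minimalPrimes := fun m hm =>
      ⟨⟨hm.isPrime, hjac m hm⟩, fun P hP hle => ((hover P hP.1 hP.2).eq_of_le hm.ne_top hle).ge⟩
    let N : Ideal B := (hfin.toFinset.erase m₁).inf id
    have hcop : m₁ ⊔ N = ⊤ := by
      by_contra h
      have e : m₁ = m₁ ⊔ N := h1.eq_of_le h le_sup_left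
      obtain ⟨P, hP, hPm⟩ := (Ideal.IsPrime.inf_le' h1.isPrime).1 (show N ≤ m₁ from e ▸ le_sup_right)
      obtain ⟨hPne, hP⟩ := Finset.mem_erase.1 hP
      have hP' := (hfin.mem_toFinset.1 hP).1
      exact hPne ((hover P hP'.1 hP'.2).eq_of_le h1.ne_top hPm)
    have hsub : m₁ * N ≤ J.radical := by
      rw [← Ideal.sInf_minimalPrimes]
      refine le_sInf fun P hP => ?_
      rcases eq_or_ne P m₁ with rfl | hne'
      · exact fun x hx => (Ideal.mul_le_inf hx).1
      · exact fun x hx => Finset.inf_le (f := id) (Finset.mem_erase.2 ⟨hne', hfin.mem_toFinset.2 hP⟩) (Ideal.mul_le_inf hx).2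
    obtain ⟨e, he, e', he', hee⟩ := Submodule.mem_sup.1
      ((Ideal.eq_top_iff_one _).1 (Ideal.pow_sup_pow_eq_top (m := k + 1) (n := k + 1) hcop))
    have hJe : e * e' ∈ J := ((mul_pow m₁ N (k + 1)).symm.le.trans ((Ideal.pow_right_mono hsub _).trans hk'))
      (Ideal.mul_mem_mul he he')
    obtain ⟨a, ha, hae⟩ := HenselianRing.is_henselian (R := B) (I := J) (Polynomial.X ^ 2 - Polynomial.X)
      ((Polynomial.monic_X_pow 2).sub_of_left (by simp)) e
      (by
        rw [show e' = 1 - e by linear_combination hee] at hJe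
        simpa using neg_mem (show e * (1 - e) ∈ J from hJe) |> fun h => by
          simpa [sq, mul_sub] using h)
      (by
        refine IsUnit.of_mul_eq_one (Ideal.Quotient.mk J (2 * e - 1)) ?_
        rw [← map_mul, ← map_one (Ideal.Quotient.mk J), Ideal.Quotient.eq]
        have : (Polynomial.X ^ 2 - Polynomial.X : Polynomial B).derivative.eval e * (2 * e - 1) - 1 = -4 * (e * e') := by
          simp; linear_combination (-4 * e) * hee.symm
        rw [this]; exact J.mul_mem_left _ hJe)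
    have hk0 : k + 1 ≠ 0 := k.succ_ne_zero
    have hem : e ∈ m₁ := Ideal.pow_le_self hk0 he
    have he'm : e' ∈ m₂ := Finset.inf_le (f := id)
      (Finset.mem_erase.2 ⟨Ne.symm hne, hfin.mem_toFinset.2 (hmin m₂ h2)⟩) (Ideal.pow_le_self hk0 he')
    have hdom : a * (a - 1) = 0 := by simpa [mul_sub, sq] using ha
    rcases mul_eq_zero.1 hdom with h0 | h0
    · have : e ∈ m₂ := by
        rw [show e = -(a - e) by rw [h0]; ring]
        exact neg_mem (hjac m₂ h2 hae)
      exact h2.ne_top ((Ideal.eq_top_iff_one _).2 (hee ▸ add_mem this he'm))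
    · have : a ∈ m₁ := by
        rw [show a = (a - e) + e by ring]
        exact add_mem (hjac m₁ h1 hae) hem
      rw [sub_eq_zero.1 h0] at this
      exact h1.ne_top ((Ideal.eq_top_iff_one _).2 this)
  refine ⟨fun m hm => le_antisymm ?_ ((Ideal.radical_mono (hjac m hm)).trans hm.isPrime.radical.le),
    complete_of_equiv Ideal.le_radical hk'⟩
  rw [← Ideal.sInf_minimalPrimes]
  exact le_sInf fun P hP => (uniq m P hm (hover P hP.1.1 hP.1.2)).le

/-- Let A be a Noetherian ring which is complete for the adic topology of an ideal I, and let q be a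
prime ideal of A. The following are equivalent: (1) I ⊄ q and q is maximal among the primes not
containing I; (5) dim(A/q) = 1 and I ⊄ q; (8) A/q is a one-dimensional complete local ring whose
maximal ideal is the radical of the image of I (stated as: the Krull dimension of A/q is 1, every
maximal ideal of A/q equals the radical of I(A/q), and A/q is adically complete for that radical).
(The other equivalent forms, for other ideals of definition or for the induced topology, are not
stated.) -/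
theorem result (A : Type u) [CommRing A] [IsNoetherianRing A] (I : Ideal A) [IsAdicComplete I A] (q : PrimeSpectrum A) : List.TFAE [¬ I ≤ q.asIdeal ∧ ∀ q' : PrimeSpectrum A, q ≤ q' → ¬ I ≤ q'.asIdeal → q' = q, ringKrullDim (A ⧸ q.asIdeal) = 1 ∧ ¬ I ≤ q.asIdeal, ringKrullDim (A ⧸ q.asIdeal) = 1 ∧ (∀ m : Ideal (A ⧸ q.asIdeal), m.IsMaximal → m = (I.map (Ideal.Quotient.mk q.asIdeal)).radical) ∧ IsAdicComplete (I.map (Ideal.Quotient.mk q.asIdeal)).radical (A ⧸ q.asIdeal)] := by
  classical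
  set B := A ⧸ q.asIdeal
  set J : Ideal B := I.map (Ideal.Quotient.mk q.asIdeal) with hJ
  have hcomp : IsAdicComplete J B := Groth.Agent.AdicLim.isAdicComplete_quotient q.asIdeal
  have hJ0 : J ≠ ⊥ ↔ ¬ I ≤ q.asIdeal := by rw [Ne, hJ, Ideal.map_eq_bot_iff_le_ker, Ideal.mk_ker]
  have hjac : ∀ m : Ideal B, m.IsMaximal → J ≤ m := fun m hm =>
    (IsAdicComplete.le_jacobson_bot J).trans (sInf_le ⟨bot_le, hm⟩)
  tfae_have 1 → 3 := by
    rintro ⟨hI, hmax⟩
    have hne := hJ0.2 hI
    have hall : ∀ P : Ideal B, P.IsPrime → P ≠ ⊥ → J ≤ P := by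
      intro P hP hP0
      rw [hJ, Ideal.map_le_iff_le_comap]
      by_contra h
      have hle : q.asIdeal ≤ P.comap (Ideal.Quotient.mk q.asIdeal) := fun x hx => by
        rw [Ideal.mem_comap, Ideal.Quotient.eq_zero_iff_mem.2 hx]; exact P.zero_mem
      refine hP0 ?_
      have e := congrArg PrimeSpectrum.asIdeal (hmax ⟨_, Ideal.comap_isPrime _ P⟩ hle h)
      simp only at e
      rw [← Ideal.map_comap_of_surjective _ Ideal.Quotient.mk_surjective P, e, Ideal.map_quotient_self]
    have hd := dim_le_one hne hall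
    obtain ⟨h1, h2⟩ := radical_isMax hne hd
    refine ⟨?_, h1, h2⟩
    have : Ring.KrullDimLE 1 B := Ring.krullDimLE_one_iff_of_noZeroDivisors.2 fun P hP hPp => hd P hPp hP
    refine le_antisymm (Ring.krullDimLE_iff.1 this) ?_
    obtain ⟨m, hm⟩ := Ideal.exists_maximal B
    have hm0 : (⊥ : Ideal B) < m := bot_lt_iff_ne_bot.2 fun e => hne (le_bot_iff.1 (e ▸ hjac m hm))
    have hh := Ideal.height_strict_mono_of_isPrime (I := (⊥ : Ideal B)) (J := m) hm0
    have h1m : (1 : ℕ∞) ≤ m.height := Order.one_le_iff_pos.2 (lt_of_le_of_lt zero_le hh)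
    exact le_trans (by exact_mod_cast h1m) (Ideal.height_le_ringKrullDim_of_ne_top hm.ne_top)
  tfae_have 3 → 2 := by
    rintro ⟨hd, hm, -⟩
    refine ⟨hd, fun hI => ?_⟩
    have hbot : J = ⊥ := by rw [hJ, Ideal.map_eq_bot_iff_le_ker, Ideal.mk_ker]; exact hI
    obtain ⟨m, hmm⟩ := Ideal.exists_maximal B
    have e := hm m hmm
    rw [hbot, Ideal.radical_eq_iff.2 Ideal.isPrime_bot.isRadical] at e
    subst e
    have : IsField B := Ring.isField_iff_maximal_bot.2 hmm
    rw [ringKrullDim_eq_zero_of_isField this] at hd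
    exact zero_ne_one hd
  tfae_have 2 → 1 := by
    rintro ⟨hd, hI⟩
    refine ⟨hI, fun q' hle hq' => ?_⟩
    by_contra hne
    have hK : Ring.KrullDimLE 1 B := Ring.krullDimLE_iff.2 hd.le
    have hp : (q'.asIdeal.map (Ideal.Quotient.mk q.asIdeal)).IsPrime :=
      Ideal.map_isPrime_of_surjective Ideal.Quotient.mk_surjective (by rw [Ideal.mk_ker]; exact hle)
    have hmax : (q'.asIdeal.map (Ideal.Quotient.mk q.asIdeal)).IsMaximal :=
      Ring.krullDimLE_one_iff_of_noZeroDivisors.1 hK _ (fun e => hne (by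
        rw [Ideal.map_eq_bot_iff_le_ker, Ideal.mk_ker] at e
        exact PrimeSpectrum.ext (le_antisymm e hle))) hp
    refine hq' fun x hx => ?_
    obtain ⟨y, hy, hxy⟩ := (Ideal.mem_map_iff_of_surjective _ Ideal.Quotient.mk_surjective).1
      (hjac _ hmax (Ideal.mem_map_of_mem _ hx))
    simpa using add_mem hy (hle (Ideal.Quotient.eq.1 hxy.symm))
  tfae_finish

end Groth.Agent.S8804
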