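import Groth.Statements.S8806
import Groth.Agent.NL17.Basic
import Mathlib

set_option autoImplicit false
universe u
open CategoryTheory
attribute [local instance] HasDerivedCategory.standard
open LCI

namespace Groth.Agent.S8806

open CategoryTheory CategoryTheory.Limits Algebra

attribute [local instance] HasDerivedCategory.standard

section Complex

variable {B : Type u} [CommRing B] {X₀ X₁ : ModuleCat.{u} B} (d : X₀ ⟶ X₁) (g : B) (s : X₁ ⟶ X₀)

local notation "DX" => HomologicalComplex.double d Groth.Agent.NL17.rel₀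

theorem smul_id_eq_zero (hs : d ≫ s = g • 𝟙 X₀) (hs' : s ≫ d = g • 𝟙 X₁) :
    g • 𝟙 (DRing.toD DX) = 0 := by
  have H : Homotopy (g • 𝟙 DX) 0 := NL17.homotopyDouble _ _ s (by simp [hs]) (by simp [hs'])
  have h := DerivedCategory.Q_map_eq_of_homotopy _ H
  rwa [Functor.map_smul, CategoryTheory.Functor.map_id, Functor.map_zero] at h

theorem smul_hom_eq_zero [Projective X₁] (hs : d ≫ s = g • 𝟙 X₀) (N : Type u) [AddCommGroup N]
    [Module B N] (φ : DRing.toD DX ⟶ (Dual.inD B N)⟦(1 : ℤ)⟧) : g • φ = 0 := by
  let ψ : X₁ ⟶ X₁ := g • 𝟙 X₁ - s ≫ d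
  have hψ : d ≫ ψ = 0 := by
    simp only [ψ, Preadditive.comp_sub, Linear.comp_smul, Category.comp_id, ← Category.assoc, hs,
      Linear.smul_comp, Category.id_comp, sub_self]
  let S := (HomologicalComplex.single (ModuleCat.{u} B) (ComplexShape.up ℤ) 0).obj X₁
  let π : DX ⟶ S := HomologicalComplex.mkHomToSingle
    ((HomologicalComplex.doubleXIso₁ d NL17.rel₀ (by decide)).hom ≫ ψ) fun i hi => by
      obtain rfl : i = -1 := by simp at hi; omega
      rw [HomologicalComplex.double_d d NL17.rel₀ (by decide)]
      simp [hψ]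
  let ι : S ⟶ DX := HomologicalComplex.mkHomFromSingle
    (HomologicalComplex.doubleXIso₁ d NL17.rel₀ (by decide)).inv fun k hk => by
      apply (HomologicalComplex.isZero_double_X d NL17.rel₀ k
        (by simp at hk; omega) (by simp at hk; omega)).eq_of_tgt
  have H : Homotopy (g • 𝟙 DX) (π ≫ ι) := NL17.homotopyDouble _ _ s
    (by
      have hπ : π.f (-1) = 0 :=
        (HomologicalComplex.isZero_single_obj_X _ 0 X₁ (-1) (by decide)).eq_of_tgt _ _
      simp [hπ, hs])
    (by simp [π, ι, ψ])
  haveI : Subsingleton (Abelian.Ext.{u} X₁ (ModuleCat.of B N) 1) :=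
    subsingleton_of_forall_eq 0 Abelian.Ext.eq_zero_of_projective
  haveI : Subsingleton ((DerivedCategory.singleFunctor (ModuleCat.{u} B) 0).obj X₁ ⟶
      (Dual.inD B N)⟦(1 : ℤ)⟧) :=
    (Abelian.Ext.homEquiv (X := X₁) (Y := ModuleCat.of B N) (n := 1)).symm.subsingleton
  have hι : DerivedCategory.Q.map ι ≫ φ = 0 :=
    (cancel_epi ((DerivedCategory.singleFunctorIsoCompQ (ModuleCat.{u} B) 0).app X₁).hom).1
      (Subsingleton.elim _ _)
  have h := DerivedCategory.Q_map_eq_of_homotopy _ H
  rw [Functor.map_smul, CategoryTheory.Functor.map_id, Functor.map_comp] at h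
  rw [← Category.id_comp φ, ← Linear.smul_comp, h, Category.assoc, hι, comp_zero]

end Complex


/-- Let A be a ring, m ≤ n, f_1, …, f_m ∈ A[x_1, …, x_n], B = A[x_1, …, x_n]/(f_1, …, f_m), and g ∈ B
the image of the determinant of the m × m matrix of partial derivatives ∂f_j/∂x_i with i, j ≤ m (the
first m variables). Then: (1) for every B-module N, g annihilates Ext^1_B(NL_{B/A}, N), i.e. every
morphism NL_{B/A} → N[1] in D(B) is killed by g; (2) if n = m then multiplication by g on NL_{B/A}
is the zero endomorphism in D(B). -/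
theorem result (A : Type u) [CommRing A] (n m : ℕ) (hmn : m ≤ n) (f : Fin m → MvPolynomial (Fin n) A) : (∀ (N : Type u) [AddCommGroup N] [Module (MvPolynomial (Fin n) A ⧸ Ideal.span (Set.range f)) N] (φ : LCI.NL A (MvPolynomial (Fin n) A ⧸ Ideal.span (Set.range f)) ⟶ (Dual.inD (MvPolynomial (Fin n) A ⧸ Ideal.span (Set.range f)) N)⟦(1 : ℤ)⟧), (Ideal.Quotient.mk (Ideal.span (Set.range f)) (Matrix.det (Matrix.of (fun i j : Fin m => MvPolynomial.pderiv (Fin.castLE hmn i) (f j))))) • φ = 0) ∧ (n = m → (Ideal.Quotient.mk (Ideal.span (Set.range f)) (Matrix.det (Matrix.of (fun i j : Fin m => MvPolynomial.pderiv (Fin.castLE hmn i) (f j))))) • 𝟙 (LCI.NL A (MvPolynomial (Fin n) A ⧸ Ideal.span (Set.range f))) = 0) := by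
  classical
  let I := Ideal.span (Set.range f)
  let B := MvPolynomial (Fin n) A ⧸ I
  let G : Generators A B (Fin n) := Generators.naive
  have hG : ∀ p : MvPolynomial (Fin n) A, MvPolynomial.aeval G.val p = Ideal.Quotient.mk I p :=
    fun p => AlgHom.congr_fun (MvPolynomial.algHom_ext (f := MvPolynomial.aeval (R := A) G.val)
      (g := Ideal.Quotient.mkₐ A I) fun i => by simp [G, Generators.naive]; rfl) p
  have hker : G.toExtension.ker = I := Generators.ker_naive _ _
  let e := G.cotangentSpaceBasis
  let c : Fin m → G.toExtension.Cotangent := fun j =>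
    Extension.Cotangent.mk ⟨f j, hker.symm.le (Ideal.subset_span ⟨j, rfl⟩)⟩
  let P₀ : Matrix (Fin m) (Fin m) (MvPolynomial (Fin n) A) :=
    Matrix.of fun i j : Fin m => MvPolynomial.pderiv (Fin.castLE hmn i) (f j)
  let M : Matrix (Fin m) (Fin m) B := (Ideal.Quotient.mk I).mapMatrix P₀
  let g : B := Ideal.Quotient.mk I P₀.det
  have hg : M.det = g := ((Ideal.Quotient.mk I).map_det P₀).symm
  have hrepr : ∀ (j : Fin m) (k : Fin n), e.repr (G.toExtension.cotangentComplex (c j)) k =
      Ideal.Quotient.mk I (MvPolynomial.pderiv k (f j)) := fun j k => by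
    rw [Extension.cotangentComplex_mk]
    exact (G.cotangentSpaceBasis_repr_one_tmul _ _).trans (hG _)
  let v : Fin n → G.toExtension.Cotangent := fun k =>
    ∑ i, if Fin.castLE hmn i = k then ∑ l, M.adjugate l i • c l else 0
  let s : G.toExtension.CotangentSpace →ₗ[B] G.toExtension.Cotangent := e.constr B v
  have hc : ∀ j, s (G.toExtension.cotangentComplex (c j)) = g • c j := fun j => by
    calc s (G.toExtension.cotangentComplex (c j))
        = ∑ k, e.repr (G.toExtension.cotangentComplex (c j)) k • v k := by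
          conv_lhs => rw [← e.sum_repr (G.toExtension.cotangentComplex (c j))]
          simp [s]
      _ = ∑ i, M i j • ∑ l, M.adjugate l i • c l := by
          simp_rw [v, Finset.smul_sum, smul_ite, smul_zero]
          rw [Finset.sum_comm]
          refine Finset.sum_congr rfl fun i _ => ?_
          rw [Finset.sum_ite_eq, if_pos (Finset.mem_univ _), hrepr, ← Finset.smul_sum]
          rfl
      _ = ∑ l, (M.adjugate * M) l j • c l := by
          simp only [Finset.smul_sum]
          rw [Finset.sum_comm]
          refine Finset.sum_congr rfl fun l _ => ?_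
          rw [Matrix.mul_apply, Finset.sum_smul]
          exact Finset.sum_congr rfl fun i _ => by rw [smul_smul, mul_comm]
      _ = g • c j := by simp [Matrix.adjugate_mul, hg, Matrix.one_apply]
  have hsd : ∀ y, s (G.toExtension.cotangentComplex y) = g • y := fun y => by
    obtain ⟨⟨p, hp⟩, rfl⟩ := Extension.Cotangent.mk_surjective y
    obtain ⟨r, hr⟩ := Ideal.mem_span_range_iff_exists_fun.1 (hker.le hp)
    have hy : Extension.Cotangent.mk (P := G.toExtension) ⟨p, hp⟩ =
        ∑ j, algebraMap G.toExtension.Ring B (r j) • c j := by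
      simp_rw [c, algebraMap_smul, ← map_smul, ← map_sum]
      exact congrArg _ (Subtype.ext (by simp; exact hr.symm))
    simp_rw [hy, map_sum, map_smul, hc, Finset.smul_sum, smul_comm g]
  haveI : Projective (ModuleCat.of B G.toExtension.CotangentSpace) :=
    (ModuleCat.of B G.toExtension.CotangentSpace).projective_of_free e
  let d := ModuleCat.ofHom G.toExtension.cotangentComplex
  have hs₀ : d ≫ ModuleCat.ofHom s = g • 𝟙 _ := ModuleCat.hom_ext (LinearMap.ext hsd)
  let E := NL17.mapEquiv (P := G.toExtension) (P' := (Generators.self A B).toExtension)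
    (G.defaultHom (Generators.self A B)).toExtensionHom
    ((Generators.self A B).defaultHom G).toExtensionHom
  haveI : QuasiIso E.hom := inferInstance
  have hiso := (DerivedCategory.isIso_Q_map_iff_quasiIso (C := ModuleCat.{u} B) E.hom).2 inferInstance
  let ei : DRing.toD (NLCx.cx G.toExtension) ≅ LCI.NL A B := @asIso _ _ _ _ _ hiso
  refine ⟨fun N _ _ φ => ?_, fun hnm => ?_⟩
  · rw [← cancel_epi ei.hom, Linear.comp_smul, comp_zero]
    exact smul_hom_eq_zero d g (ModuleCat.ofHom s) hs₀ N _
  · subst hnm
    have hds : ∀ z, G.toExtension.cotangentComplex (s z) = g • z := by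
      refine LinearMap.congr_fun (e.ext (f₁ := G.toExtension.cotangentComplex ∘ₗ s)
        (f₂ := g • LinearMap.id) fun k => e.repr.injective (Finsupp.ext fun k' => ?_))
      have h1 := congrFun (congrFun M.mul_adjugate k') k
      simp only [Matrix.mul_apply, Matrix.smul_apply, hg] at h1
      simp only [LinearMap.comp_apply, s, Module.Basis.constr_basis, v, Fin.castLE_rfl, id_eq,
        Finset.sum_ite_eq', Finset.mem_univ, if_true, map_sum, map_smul, Finsupp.coe_finset_sum,
        Finset.sum_apply, Finsupp.smul_apply, smul_eq_mul, hrepr, LinearMap.smul_apply,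
        LinearMap.id_apply, Module.Basis.repr_self]
      rw [Finsupp.single_apply]
      simpa [M, P₀, mul_comm, Matrix.one_apply, eq_comm] using h1
    have h0 := smul_id_eq_zero d g (ModuleCat.ofHom s) hs₀ (ModuleCat.hom_ext (LinearMap.ext hds))
    calc g • 𝟙 (LCI.NL A B) = ei.inv ≫ (g • 𝟙 _) ≫ ei.hom := by simp
      _ = 0 := by rw [show g • 𝟙 (DRing.toD (NLCx.cx G.toExtension)) = 0 from h0]; simp

end Groth.Agent.S8806
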