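import Groth.Statements.S8812
import Mathlib
import Groth.Agent.AlgzDelta.Basic
-- import your own Groth.Agent.* helpers here

set_option autoImplicit false
universe u
open CategoryTheory AlgebraicGeometry
open Algz

namespace Groth.Agent.S8812

/-- Let Y be a Noetherian scheme and Z ⊆ Y a closed subset. If y specializes to y' then δ_Z(y') ≤
δ_Z(y); equivalently each set {y | δ_Z(y) ≤ k} is stable under specialization. -/
theorem result (Y : Scheme.{u}) [IsNoetherian Y] (Z : Set Y) (hZ : IsClosed Z) (y y' : Y) (h : y ⤳ y') : Algz.deltaZ Z y' ≤ Algz.deltaZ Z y := by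
  classical
  by_cases hne : y = y'
  · rw [hne]
  refine le_iInf fun k => le_iInf fun S => ?_
  have hy'Z : y ∈ Z → y' ∈ Z := fun hy => h.mem_closed hZ hy
  have cz : ∀ (a b : Y) (hab : a ⤳ b), a = b → Algz.codimPt a b hab = 0 := by
    rintro a b hab rfl
    exact Groth.Agent.AlgzDelta.codimPt_self a hab
  have hlast : S.w (Fin.last k) = y := S.last_eq
  by_cases hck : S.v (Fin.last k) = y
  · rcases Nat.eq_zero_or_pos k with rfl | hk
    · let S0 : Algz.DSystem Z y' 0 :=
        { v := fun _ => y'
          w := fun _ => y'
          spec := fun _ => specializes_rfl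
          spec_succ := fun i => i.elim0
          start_mem := hy'Z (by rw [← hck]; exact S.start_mem)
          last_eq := rfl }
      refine (iInf_le_of_le 0 (iInf_le_of_le S0 ?_))
      have : S0.delta = 0 := by
        simp [Algz.DSystem.delta, Algz.DSystem.c, S0, Groth.Agent.AlgzDelta.codimPt_self]
      rw [this]; exact bot_le
    · have h0 : (0 : Fin (k + 1)) ≠ Fin.last k := by
        intro e; have := congr_arg Fin.val e; simp at this; omega
      let v' := Function.update S.v (Fin.last k) y'
      let w' := Function.update S.w (Fin.last k) y'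
      have hv' : ∀ j : Fin k, v' j.castSucc = S.v j.castSucc := fun j =>
        Function.update_of_ne (Fin.castSucc_lt_last j).ne _ _
      have hw' : ∀ j : Fin k, w' j.castSucc = S.w j.castSucc := fun j =>
        Function.update_of_ne (Fin.castSucc_lt_last j).ne _ _
      have hspl : ∀ j, S.v j ⤳ v' j := fun j => by
        rcases eq_or_ne j (Fin.last k) with rfl | hj
        · simp only [v', Function.update_self, hck]; exact h
        · simp only [v', Function.update_of_ne hj]; exact specializes_rfl
      let S' : Algz.DSystem Z y' k :=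
        { v := v'
          w := w'
          spec := fun i => by
            refine Fin.lastCases ?_ (fun j => ?_) i
            · simp only [v', w', Function.update_self]; exact specializes_rfl
            · rw [hv', hw']; exact S.spec _
          spec_succ := fun i => by
            rw [hw']; exact (S.spec_succ i).trans (hspl _)
          start_mem := by
            show v' 0 ∈ Z
            rw [show v' 0 = S.v 0 from Function.update_of_ne h0 _ _]; exact S.start_mem
          last_eq := Function.update_self _ _ _ }
      refine (iInf_le_of_le k (iInf_le_of_le S' ?_))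
      have key : ∀ (a a' b b' : Y) (p : a ⤳ b) (q : a' ⤳ b'), a = a' → b = b' →
          Algz.codimPt a b p = Algz.codimPt a' b' q := by
        rintro a _ b _ p q rfl rfl; rfl
      have key2 : ∀ (a a' b b' : Y) (p : a ⤳ b) (q : a' ⤳ b'), a = a' → b ⤳ b' →
          Algz.codimPt a b p ≤ Algz.codimPt a' b' q := by
        rintro a _ b b' p q rfl hbb
        exact Groth.Agent.AlgzDelta.codimPt_mono p hbb
      rw [Algz.DSystem.delta, Algz.DSystem.delta]
      refine add_le_add le_rfl (Finset.sup_mono_fun fun i _ =>
        tsub_le_tsub (Finset.sum_le_sum fun j _ => ?_) (Finset.sum_le_sum fun j _ => ?_))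
      · induction j using Fin.lastCases with
        | last =>
          have : S'.c (Fin.last k) = 0 := cz _ _ _ (by simp [S', v', w'])
          rw [this]; exact bot_le
        | cast l => exact (key _ _ _ _ _ _ (hw' l) (hv' l)).le
      · exact key2 _ _ _ _ _ _ (hw' j).symm (hspl _)
  · let v' : Fin (k + 2) → Y := Fin.snoc S.v y'
    let w' : Fin (k + 2) → Y := Fin.snoc S.w y'
    have hv' : ∀ j : Fin (k + 1), v' j.castSucc = S.v j := fun j => Fin.snoc_castSucc _ _ j
    have hw' : ∀ j : Fin (k + 1), w' j.castSucc = S.w j := fun j => Fin.snoc_castSucc _ _ j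
    have hvl : v' (Fin.last (k + 1)) = y' := Fin.snoc_last _ _
    have hwl : w' (Fin.last (k + 1)) = y' := Fin.snoc_last _ _
    let S' : Algz.DSystem Z y' (k + 1) :=
      { v := v'
        w := w'
        spec := fun i => by
          refine Fin.lastCases ?_ (fun j => ?_) i
          · rw [hvl, hwl]
          · rw [hv', hw']; exact S.spec _
        spec_succ := fun i => by
          rw [hw']
          refine Fin.lastCases ?_ (fun j => ?_) i
          · rw [Fin.succ_last, hvl, hlast]; exact h
          · rw [Fin.succ_castSucc, hv']; exact S.spec_succ j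
        start_mem := by
          show v' 0 ∈ Z
          rw [show (0 : Fin (k + 2)) = Fin.castSucc 0 from rfl, hv']; exact S.start_mem
        last_eq := hwl }
    refine (iInf_le_of_le (k + 1) (iInf_le_of_le S' ?_))
    have key : ∀ (a a' b b' : Y) (p : a ⤳ b) (q : a' ⤳ b'), a = a' → b = b' →
        Algz.codimPt a b p = Algz.codimPt a' b' q := by
      rintro a _ b _ p q rfl rfl; rfl
    have hc : ∀ j : Fin (k + 1), S'.c j.castSucc = S.c j := fun j => key _ _ _ _ _ _ (hw' j) (hv' j)
    have hcl : S'.c (Fin.last (k + 1)) = 0 := cz _ _ _ (hwl.trans hvl.symm)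
    have hb : ∀ j : Fin k, S'.b j.castSucc = S.b j := fun j =>
      key _ _ _ _ _ _ (hw' _) (by rw [Fin.succ_castSucc]; exact hv' _)
    have hbl : 1 ≤ S'.b (Fin.last k) := Groth.Agent.AlgzDelta.one_le_codimPt _ (by
      show w' (Fin.last k).castSucc ≠ v' (Fin.last k).succ
      rw [hw', Fin.succ_last, hvl, hlast]; exact hne)
    set T := Finset.univ.sup fun i : Fin (k + 1) =>
      (∑ j ∈ Finset.univ.filter (fun j : Fin (k + 1) => i ≤ j), S.c j) -
        ∑ j ∈ Finset.univ.filter (fun j : Fin k => i.val ≤ j.val), S.b j with hT
    have hT1 : 1 ≤ T := by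
      refine le_trans ?_ (Finset.le_sup (Finset.mem_univ (Fin.last k)))
      have e1 : Finset.univ.filter (fun j : Fin (k + 1) => Fin.last k ≤ j) = {Fin.last k} := by
        ext j; simp [Fin.last_le_iff]
      have e2 : Finset.univ.filter (fun j : Fin k => (Fin.last k).val ≤ j.val) = ∅ := by
        ext j; simp
      rw [e1, e2, Finset.sum_singleton, Finset.sum_empty, tsub_zero]
      exact Groth.Agent.AlgzDelta.one_le_codimPt _ (by rw [hlast]; exact Ne.symm hck)
    have hterm : ∀ i : Fin (k + 2),
        ((∑ j ∈ Finset.univ.filter (fun j : Fin (k + 2) => i ≤ j), S'.c j) -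
          ∑ j ∈ Finset.univ.filter (fun j : Fin (k + 1) => i.val ≤ j.val), S'.b j) + 1 ≤ T := by
      intro i
      rw [Finset.sum_filter, Finset.sum_filter, Fin.sum_univ_castSucc,
        Fin.sum_univ_castSucc (f := fun j : Fin (k + 1) => if i.val ≤ j.val then S'.b j else 0)]
      simp only [hc, hcl, hb, ite_self, add_zero]
      refine Fin.lastCases ?_ (fun l => ?_) i
      · have z1 : ∀ j : Fin (k + 1), ¬ Fin.last (k + 1) ≤ j.castSucc := fun j =>
          not_le.mpr (Fin.castSucc_lt_last j)
        simp only [z1, if_false, Finset.sum_const_zero, zero_tsub, zero_add]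
        exact hT1
      · have z2 : (l.castSucc : Fin (k + 2)).val ≤ (Fin.last k).val := Nat.lt_succ_iff.mp l.2
        rw [if_pos z2]
        simp only [Fin.castSucc_le_castSucc_iff, Fin.val_castSucc]
        refine le_trans ?_ (max_le (Finset.le_sup (f := fun i : Fin (k + 1) =>
          (∑ j ∈ Finset.univ.filter (fun j : Fin (k + 1) => i ≤ j), S.c j) -
            ∑ j ∈ Finset.univ.filter (fun j : Fin k => i.val ≤ j.val), S.b j) (Finset.mem_univ l)) hT1)
        rw [Finset.sum_filter, Finset.sum_filter, ← tsub_tsub]
        refine le_trans ?_ (tsub_add_eq_max).le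
        gcongr
    obtain ⟨i, -, hi⟩ := Finset.exists_mem_eq_sup (Finset.univ : Finset (Fin (k + 2)))
      Finset.univ_nonempty (fun i : Fin (k + 2) =>
        (∑ j ∈ Finset.univ.filter (fun j : Fin (k + 2) => i ≤ j), S'.c j) -
          ∑ j ∈ Finset.univ.filter (fun j : Fin (k + 1) => i.val ≤ j.val), S'.b j)
    rw [Algz.DSystem.delta, Algz.DSystem.delta, hi, ← hT]
    push_cast
    rw [add_assoc, add_comm (1 : ℕ∞)]
    gcongr
    exact hterm i

end Groth.Agent.S8812
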