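import Groth.Statements.S8813
import Mathlib
import Groth.Agent.Hironaka.Catenary
-- import your own Groth.Agent.* helpers here

set_option autoImplicit false
universe u
open CategoryTheory AlgebraicGeometry
open Algz

namespace Groth.Agent.S8813

/-- Let Y be a Noetherian scheme, Z ⊆ Y a closed subset, y a point of Y and z a point of Z lying in the
closure of y. Then δ_Z(y) is at most the dimension of the local ring at z of the closure of y with
its reduced structure, that is, the Krull dimension of O_{Y,z}/𝔭 where 𝔭 is the prime ideal of the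
local ring O_{Y,z} given by the point of Spec O_{Y,z} that maps to y. -/
theorem result (Y : Scheme.{u}) [IsNoetherian Y] (Z : Set Y) (hZ : IsClosed Z) (y z : Y) (h : y ⤳ z) (hz : z ∈ Z) (P : PrimeSpectrum (Y.presheaf.stalk z)) (hP : (Y.fromSpecStalk z).base P = y) : ((Algz.deltaZ Z y : ℕ∞) : WithBot ℕ∞) ≤ ringKrullDim (↥(Y.presheaf.stalk z) ⧸ P.asIdeal) := by
  let S : Algz.DSystem Z y 0 :=
    { v := fun _ => z
      w := fun _ => y
      spec := fun _ => h
      spec_succ := fun i => i.elim0
      start_mem := hz
      last_eq := rfl }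
  have hS : Algz.deltaZ Z y ≤ Algz.codimPt y z h := by
    refine iInf_le_of_le 0 (iInf_le_of_le S ?_)
    simp [Algz.DSystem.delta, Algz.DSystem.c, S]
  rw [← Groth.Agent.Hironaka.coheight_eq_ringKrullDim_quotient, WithBot.coe_le_coe]
  refine hS.trans (le_of_eq ?_)
  have hf := (Y.fromSpecStalk z).isEmbedding
  have hcl : ∀ Q : PrimeSpectrum (Y.presheaf.stalk z), (Y.fromSpecStalk z).base Q ⤳ z := fun Q => by
    have : (Y.fromSpecStalk z).base Q ∈ Set.range (Y.fromSpecStalk z).base := ⟨Q, rfl⟩
    rw [Scheme.range_fromSpecStalk] at this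
    exact this
  let e : (PrimeSpectrum (Y.presheaf.stalk z))ᵒᵈ → Set.Ici (Specialization.toEquiv (z : Y)) := fun Q =>
    ⟨Specialization.toEquiv ((Y.fromSpecStalk z).base (OrderDual.ofDual Q)),
      Specialization.toEquiv_le_toEquiv.mpr (hcl _)⟩
  have hmap : ∀ a b, e a ≤ e b ↔ a ≤ b := fun a b =>
    (hf.toIsInducing.specializes_iff).trans
      (PrimeSpectrum.le_iff_specializes (OrderDual.ofDual b) (OrderDual.ofDual a)).symm
  have hbij : Function.Bijective e := by
    refine ⟨fun a b hab => ?_, fun a => ?_⟩
    · exact OrderDual.ofDual.injective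
        (hf.injective (congr_arg (fun t => Specialization.ofEquiv t.1) hab))
    · have hmem : Specialization.ofEquiv a.1 ∈ Set.range (Y.fromSpecStalk z).base := by
        rw [Scheme.range_fromSpecStalk]
        exact Specialization.toEquiv_le_toEquiv.mp a.2
      obtain ⟨Q, hQ⟩ := hmem
      exact ⟨OrderDual.toDual Q, Subtype.ext (congr_arg Specialization.toEquiv hQ)⟩
  let o : (PrimeSpectrum (Y.presheaf.stalk z))ᵒᵈ ≃o Set.Ici (Specialization.toEquiv (z : Y)) :=
    { Equiv.ofBijective e hbij with map_rel_iff' := fun {a b} => hmap a b }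
  have h2 := Order.height_orderIso o (OrderDual.toDual P)
  rw [Order.height_toDual] at h2
  rw [← h2]
  subst hP
  rfl

end Groth.Agent.S8813
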