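import Groth.Statements.S8815
import Mathlib
import Groth.Agent.DimFun.Distance
import Groth.Agent.Hironaka.Catenary
-- import your own Groth.Agent.* helpers here

set_option autoImplicit false
universe u
open CategoryTheory AlgebraicGeometry
open Algz

namespace Groth.Agent.S8815

/-- Let A be a catenary Noetherian local ring, Y = Spec A and Z the closed point. Then δ_Z(y) equals the
dimension of the closure of y, i.e. dim(A/p_y), for every point y. -/
theorem result (A : Type u) [CommRing A] [IsNoetherianRing A] [IsLocalRing A] (hA : CAlg.IsCatenary A) (y : Spec (CommRingCat.of A)) : ((Algz.deltaZ ({IsLocalRing.closedPoint A} : Set (Spec (CommRingCat.of A))) y : ℕ∞) : WithBot ℕ∞) = ringKrullDim (A ⧸ y.asIdeal) := by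
  classical
  let δ : Spec (CommRingCat.of A) → ℤ := fun p =>
    ((Order.coheight (α := PrimeSpectrum A) p).toNat : ℤ)
  have hne : ∀ p : PrimeSpectrum A, Order.coheight p ≠ ⊤ := Groth.Agent.Hironaka.coheight_ne_top
  have hδ : Cyc.IsDimFun (Spec (CommRingCat.of A)) δ := by
    intro p q hpq hne'
    have hle : @LE.le (PrimeSpectrum A) _ p q := (PrimeSpectrum.le_iff_specializes p q).mpr hpq
    have hlt : @LT.lt (PrimeSpectrum A) _ p q := lt_of_le_of_ne (α := PrimeSpectrum A) hle hne'
    refine ⟨?_, fun himm => ?_⟩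
    · have h1 := Order.coheight_strictAnti (α := PrimeSpectrum A) hlt (hne q).lt_top
      obtain ⟨a, ha⟩ := ENat.ne_top_iff_exists.mp (hne q)
      obtain ⟨b, hb⟩ := ENat.ne_top_iff_exists.mp (hne p)
      rw [← ha, ← hb, Nat.cast_lt] at h1
      simp only [δ, ← ha, ← hb, ENat.toNat_coe]
      exact_mod_cast h1
    · have hcov : CovBy (α := PrimeSpectrum A) p q := ⟨hlt, fun r h1 h2 => by
        rcases himm r ((PrimeSpectrum.le_iff_specializes p r).mp h1.le)
          ((PrimeSpectrum.le_iff_specializes r q).mp h2.le) with e | e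
        · exact h1.ne e.symm
        · exact h2.ne e⟩
      have h3 := Groth.Agent.Hironaka.coheight_of_covBy hA hcov
      simp only [δ]
      rw [h3, ENat.toNat_add (hne q) (by simp)]
      simp
  have hz : δ (IsLocalRing.closedPoint A) = 0 := by
    have : Order.coheight (α := PrimeSpectrum A) (IsLocalRing.closedPoint A) = 0 := by
      rw [Order.coheight_eq_zero]
      intro b _
      exact IsLocalRing.le_maximalIdeal b.isPrime.ne_top
    simp [δ, this]
  have hspec : y ⤳ (IsLocalRing.closedPoint A : Spec (CommRingCat.of A)) :=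
    (PrimeSpectrum.le_iff_specializes (y : PrimeSpectrum A) _).mp
      (IsLocalRing.le_maximalIdeal y.isPrime.ne_top)
  rw [← Groth.Agent.Hironaka.coheight_eq_ringKrullDim_quotient]
  have hcy : Order.coheight (α := PrimeSpectrum A) y = ((δ y).toNat : ℕ∞) := by
    simp [δ, ENat.natCast_toNat (hne y)]
  rw [WithBot.coe_inj, hcy]
  have hup : Algz.deltaZ ({(IsLocalRing.closedPoint A : Spec (CommRingCat.of A))} : Set (Spec (CommRingCat.of A))) y
      ≤ ((δ y).toNat : ℕ∞) := by
    let S : Algz.DSystem ({(IsLocalRing.closedPoint A : Spec (CommRingCat.of A))} : Set (Spec (CommRingCat.of A))) y 0 :=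
      { v := fun _ => IsLocalRing.closedPoint A
        w := fun _ => y
        spec := fun _ => hspec
        spec_succ := fun i => i.elim0
        start_mem := rfl
        last_eq := rfl }
    refine iInf_le_of_le 0 (iInf_le_of_le S ?_)
    simp [Algz.DSystem.delta, Algz.DSystem.c, S, Groth.Agent.DimFun.codimPt_eq hδ, hz]
  refine le_antisymm hup ?_
  obtain ⟨m, hm⟩ := ENat.ne_top_iff_exists.mp (ne_top_of_le_ne_top (ENat.natCast_ne_top _) hup)
  obtain ⟨z, hzm, hle⟩ := Groth.Agent.DimFun.le_deltaZ_add hδ hm.symm
  replace hzm : z = (IsLocalRing.closedPoint A : Spec (CommRingCat.of A)) := hzm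
  rw [hzm, hz, add_zero] at hle
  rw [← hm, Nat.cast_le]
  omega

end Groth.Agent.S8815
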