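import Groth.Statements.S8816
import Mathlib
import Groth.Agent.AlgzDelta.Basic
-- import your own Groth.Agent.* helpers here

set_option autoImplicit false
universe u
open CategoryTheory AlgebraicGeometry
open Algz

namespace Groth.Agent.S8816

/-- Let Y be a Noetherian scheme and Z ⊆ Y closed. Given points y_0, …, y_k and y'_0, …, y'_{k-1} of Y
with y_0 ∈ Z such that each y'_i specializes to y_{i+1} with y'_i ≠ y_{i+1}, and each y'_i ⤳ y_i is
an immediate specialization (y'_i ≠ y_i and no point strictly between), one has δ_Z(y_k) ≤ k. (The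
published statement also allows y'_i = y_{i+1}. In that generality the bound needs catenarity: for a
Noetherian local domain of dimension 3 having a saturated chain of primes (0) ⊂ 𝔭 ⊂ 𝔪 of length 2,
with Z the closed point and the pattern y_0 = 𝔪, y'_0 = y_1 = 𝔭, y'_1 = y_2 = (0), one has k = 2 but
δ_Z((0)) = 3. The published proof handles nontrivial specializations y'_i ⤳ y_{i+1}, for which the
closures of the y_i and y'_i form a system of value k, and reduces to that case by shortening the
chain, which does not preserve immediacy; this row states the case the proof establishes.) -/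
theorem result (Y : Scheme.{u}) [IsNoetherian Y] (Z : Set Y) (hZ : IsClosed Z) (k : ℕ) (y : Fin (k + 1) → Y) (y' : Fin k → Y) (h0 : y 0 ∈ Z) (hdown : ∀ i : Fin k, y' i ⤳ y i.castSucc ∧ y' i ≠ y i.castSucc ∧ ∀ z : Y, y' i ⤳ z → z ⤳ y i.castSucc → z = y' i ∨ z = y i.castSucc) (hup : ∀ i : Fin k, y' i ⤳ y i.succ ∧ y' i ≠ y i.succ) : Algz.deltaZ Z (y (Fin.last k)) ≤ k := by
  classical
  let w : Fin (k + 1) → Y := fun i => if h : i.1 < k then y' ⟨i.1, h⟩ else y (Fin.last k)
  have hwc : ∀ i : Fin k, w i.castSucc = y' i := fun i => by simp [w]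
  have hwl : w (Fin.last k) = y (Fin.last k) := by simp [w]
  let S : Algz.DSystem Z (y (Fin.last k)) k :=
    { v := y
      w := w
      spec := fun i => by
        refine Fin.lastCases ?_ (fun j => ?_) i
        · rw [hwl]
        · rw [hwc]; exact (hdown j).1
      spec_succ := fun i => by rw [hwc]; exact (hup i).1
      start_mem := h0
      last_eq := hwl }
  have hc : ∀ j : Fin k, S.c j.castSucc ≤ 1 := fun j => by
    refine Groth.Agent.AlgzDelta.codimPt_le_one _ ?_
    show ∀ z : Y, w j.castSucc ⤳ z → z ⤳ y j.castSucc → z = w j.castSucc ∨ z = y j.castSucc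
    rw [hwc]
    exact (hdown j).2.2
  have hcl : S.c (Fin.last k) = 0 := by
    have key : ∀ (a b : Y) (h : a ⤳ b), a = b → Algz.codimPt a b h = 0 := by
      rintro a b h rfl
      exact Groth.Agent.AlgzDelta.codimPt_self a h
    exact key _ _ _ hwl
  have hb : ∀ j : Fin k, 1 ≤ S.b j := fun j =>
    Groth.Agent.AlgzDelta.one_le_codimPt _ (by
      show w j.castSucc ≠ y j.succ
      rw [hwc]; exact (hup j).2)
  refine (iInf_le_of_le k (iInf_le_of_le S ?_))
  have hz : ∀ i : Fin (k + 1),
      (∑ j ∈ Finset.univ.filter (fun j : Fin (k + 1) => i ≤ j), S.c j) -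
        ∑ j ∈ Finset.univ.filter (fun j : Fin k => i.val ≤ j.val), S.b j = 0 := by
    intro i
    rw [tsub_eq_zero_iff_le, Finset.sum_filter, Finset.sum_filter, Fin.sum_univ_castSucc]
    simp only [hcl, ite_self, add_zero]
    refine Finset.sum_le_sum fun j _ => ?_
    by_cases hij : i.val ≤ j.val
    · rw [if_pos hij, if_pos (show i ≤ j.castSucc from hij)]
      exact (hc j).trans (hb j)
    · rw [if_neg hij, if_neg (show ¬ i ≤ j.castSucc from hij)]
  rw [Algz.DSystem.delta]
  simp only [hz, Finset.sup_const Finset.univ_nonempty, add_zero, le_refl]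

end Groth.Agent.S8816
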