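import Groth.Statements.S8817
import Mathlib
-- import your own Groth.Agent.* helpers here

set_option autoImplicit false
universe u
open CategoryTheory AlgebraicGeometry
open Algz

namespace Groth.Agent.S8817

lemma height_map {X Y : Type u} [TopologicalSpace X] [TopologicalSpace Y] {f : X → Y}
    (hf : Topology.IsOpenEmbedding f) (w v : X) (h : w ⤳ v) (h' : f w ⤳ f v) :
    Algz.codimPt (f w) (f v) h' = Algz.codimPt w v h := by
  have hge : ∀ a : Y, a ⤳ f v → a ∈ Set.range f := fun a ha =>
    ha.mem_open hf.isOpen_range ⟨v, rfl⟩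
  let e : Set.Ici (Specialization.toEquiv v) → Set.Ici (Specialization.toEquiv (f v)) := fun x =>
    ⟨Specialization.toEquiv (f (Specialization.ofEquiv x.1)), Specialization.toEquiv_le_toEquiv.mpr
      ((hf.toIsInducing.specializes_iff).mpr (Specialization.toEquiv_le_toEquiv.mp x.2))⟩
  have hmap : ∀ a b, e a ≤ e b ↔ a ≤ b := fun a b =>
    hf.toIsInducing.specializes_iff
  have hbij : Function.Bijective e := by
    refine ⟨fun a b hab => ?_, fun a => ?_⟩
    · exact Subtype.ext (Specialization.ofEquiv.injective
        (hf.injective (congr_arg (fun t => Specialization.ofEquiv t.1) hab)))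
    · obtain ⟨x, hx⟩ := hge (Specialization.ofEquiv a.1) (Specialization.toEquiv_le_toEquiv.mp a.2)
      refine ⟨⟨Specialization.toEquiv x, Specialization.toEquiv_le_toEquiv.mpr
        ((hf.toIsInducing.specializes_iff).mp ?_)⟩, Subtype.ext ?_⟩
      · rw [hx]; exact Specialization.toEquiv_le_toEquiv.mp a.2
      · exact congr_arg Specialization.toEquiv hx
  let o : Set.Ici (Specialization.toEquiv v) ≃o Set.Ici (Specialization.toEquiv (f v)) :=
    { Equiv.ofBijective e hbij with map_rel_iff' := fun {a b} => hmap a b }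
  exact (Order.height_orderIso o ⟨Specialization.toEquiv w, Specialization.toEquiv_le_toEquiv.mpr h⟩)

/-- Let Y be a Noetherian scheme, Z ⊆ Y a closed subset and Y' ⊆ Y an open subscheme. For a point y' of
Y' the distance function of Y' relative to Y' ∩ Z at y' is at least the distance function of Y
relative to Z at y'. -/
theorem result (Y : Scheme.{u}) [IsNoetherian Y] (Z : Set Y) (hZ : IsClosed Z) (Y' : Y.Opens) (y' : (↑Y' : Scheme.{u})) : Algz.deltaZ Z (Y'.ι.base y') ≤ Algz.deltaZ ((fun x : (↑Y' : Scheme.{u}) => Y'.ι.base x) ⁻¹' Z) y' := by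
  have hf : Topology.IsOpenEmbedding (fun x : (↑Y' : Scheme.{u}) => Y'.ι.base x) := Y'.ι.isOpenEmbedding
  refine le_iInf fun k => le_iInf fun S => ?_
  let T : Algz.DSystem Z (Y'.ι.base y') k :=
    { v := fun i => Y'.ι.base (S.v i)
      w := fun i => Y'.ι.base (S.w i)
      spec := fun i => (S.spec i).map hf.continuous
      spec_succ := fun i => (S.spec_succ i).map hf.continuous
      start_mem := S.start_mem
      last_eq := congr_arg (fun x => Y'.ι.base x) S.last_eq }
  refine iInf_le_of_le k (iInf_le_of_le T ?_)
  have hc : ∀ i, T.c i = S.c i := fun i => height_map hf _ _ (S.spec i) _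
  have hb : ∀ i, T.b i = S.b i := fun i => height_map hf _ _ (S.spec_succ i) _
  rw [Algz.DSystem.delta, Algz.DSystem.delta]
  simp only [hc, hb, le_refl]

end Groth.Agent.S8817
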