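import Groth.Statements.S8819
-- import your own Groth.Agent.* helpers here

set_option autoImplicit false
universe u
open scoped BigOperators
open LocCoh

namespace Groth.Agent.S8819

/-- Let A be a Noetherian ring, f_1, …, f_r ∈ A and I = (f_1, …, f_r) with cd(A, I) = 1; let c ≥ 1 and
let φ_j : I^c → A be A-linear maps with x = Σ_j f_j φ_j(x) for all x ∈ I^c. Under these assumptions,
exactly one homomorphism of graded A-algebras, from ⊕_{n ≥ 0} I^{nc} into the polynomial ring A[T_1,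
…, T_r], exists that sends each g ∈ I^c to Σ_j φ_j(g) T_j; call it Φ. Here Φ is encoded by functions
Φ_n : A → A[T_1, …, T_r] whose values on I^{nc} are A-linear, homogeneous of degree n,
multiplicative (Φ_{n+m}(gh) = Φ_n(g)Φ_m(h)), with Φ_0 the structure map and Φ_1 as prescribed;
uniqueness is asserted for the values on the I^{nc}. Moreover substituting T_j ↦ f_j in Φ_n(g) gives
back g for every g ∈ I^{nc}. -/
theorem result (A : Type u) [CommRing A] [IsNoetherianRing A] (r : ℕ) (f : Fin r → A) (I : Ideal A) (hI : I = Ideal.span (Set.range f)) (h1 : LocCoh.CdLE A I 1) (h0 : ¬ LocCoh.CdLE A I 0) (c : ℕ) (hc : 1 ≤ c) (φ : Fin r → (↥(I ^ c) →ₗ[A] A)) (hφ : ∀ x : ↥(I ^ c), (x : A) = ∑ j, f j * φ j x) : ∃ Φ : ℕ → A → MvPolynomial (Fin r) A, (((∀ n : ℕ, ∀ g ∈ I ^ (n * c), ∀ h ∈ I ^ (n * c), Φ n (g + h) = Φ n g + Φ n h) ∧ (∀ (n : ℕ) (a : A), ∀ g ∈ I ^ (n * c), Φ n (a * g) = a • Φ n g) ∧ (∀ n :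 ℕ, ∀ g ∈ I ^ (n * c), (Φ n g).IsHomogeneous n) ∧ (∀ n m : ℕ, ∀ g ∈ I ^ (n * c), ∀ h ∈ I ^ (m * c), Φ (n + m) (g * h) = Φ n g * Φ m h) ∧ (∀ a : A, Φ 0 a = MvPolynomial.C a) ∧ (∀ (g : A) (hg : g ∈ I ^ c), Φ 1 g = ∑ j, MvPolynomial.C (φ j ⟨g, hg⟩) * MvPolynomial.X j)) ∧ ∀ n : ℕ, ∀ g ∈ I ^ (n * c), MvPolynomial.aeval f (Φ n g) = g) ∧ ∀ Ψ : ℕ → A → MvPolynomial (Fin r) A, ((∀ n : ℕ, ∀ g ∈ I ^ (n * c), ∀ h ∈ I ^ (n * c), Ψ n (g + h) = Ψ n g + Ψ n h) ∧ (∀ (n : ℕ) (a : A), ∀ g ∈ I ^ (n * c), Ψ n (a * g) = a • Ψ n g) ∧ (∀ n : ℕ, ∀ g ∈ I ^ (n * c), (Ψ n g).IsHomogeneous n) ∧ (∀ n m : ℕ, ∀ g ∈ I ^ (n * c), ∀ h ∈ I ^ (m * c), Ψ (n + m) (g * h) = Ψ n g * Ψ m h) ∧ (∀ a : A, Ψ 0 a = MvPolynomial.C a) ∧ (∀ (g : A) (hg : g ∈ I ^ c), Ψ 1 g = ∑ j, MvPolynomial.C (φ j ⟨g, hg⟩) * MvPolynomial.X j)) → ∀ n : ℕ, ∀ g ∈ I ^ (n * c), Ψ n g = Φ n g := by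
  classical
  have hsub : ∀ n : ℕ, I ^ ((n + 1) * c) ≤ I ^ c := fun n =>
    Ideal.pow_le_pow_right (Nat.le_mul_of_pos_left c n.succ_pos)
  have hswap : ∀ (j : Fin r) (x y : A) (hy : y ∈ I ^ c) (hxy : x * y ∈ I ^ c),
      φ j ⟨x * y, hxy⟩ = x * φ j ⟨y, hy⟩ := fun j x y hy hxy => by
    rw [show (⟨x * y, hxy⟩ : ↥(I ^ c)) = x • ⟨y, hy⟩ from Subtype.ext rfl, map_smul, smul_eq_mul]
  have hφI : ∀ (n : ℕ) (j : Fin r) (g : A) (hg : g ∈ I ^ ((n + 1) * c)), φ j ⟨g, hsub n hg⟩ ∈ I ^ (n * c) := by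
    intro n j g hg
    have h : ∃ h : g ∈ I ^ c, φ j ⟨g, h⟩ ∈ I ^ (n * c) := by
      rw [Nat.succ_mul, pow_add] at hg
      refine Submodule.mul_induction_on hg (fun x hx y hy => ⟨Ideal.mul_mem_left _ _ hy, ?_⟩) ?_
      · rw [hswap j x y hy]
        exact Ideal.mul_mem_right _ _ hx
      · rintro a b ⟨ha, ha'⟩ ⟨hb, hb'⟩
        refine ⟨add_mem ha hb, ?_⟩
        rw [show (⟨a + b, add_mem ha hb⟩ : ↥(I ^ c)) = ⟨a, ha⟩ + ⟨b, hb⟩ from Subtype.ext rfl, map_add]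
        exact add_mem ha' hb'
    obtain ⟨_, h⟩ := h
    exact h
  let Φ : ℕ → A → MvPolynomial (Fin r) A := fun n => Nat.rec (motive := fun _ => A → MvPolynomial (Fin r) A)
    (fun a => MvPolynomial.C a)
    (fun _ ih g => if h : g ∈ I ^ c then ∑ j, MvPolynomial.X j * ih (φ j ⟨g, h⟩) else 0) n
  have hΦ : ∀ (n : ℕ) (g : A) (h : g ∈ I ^ c), Φ (n + 1) g = ∑ j, MvPolynomial.X j * Φ n (φ j ⟨g, h⟩) :=
    fun n g h => dif_pos h
  have hadd : ∀ n : ℕ, ∀ g ∈ I ^ (n * c), ∀ h ∈ I ^ (n * c), Φ n (g + h) = Φ n g + Φ n h := by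
    intro n
    induction n with
    | zero => exact fun g _ h _ => map_add MvPolynomial.C g h
    | succ n ih =>
      intro g hg h hh
      rw [hΦ n _ (hsub n (add_mem hg hh)), hΦ n g (hsub n hg), hΦ n h (hsub n hh), ← Finset.sum_add_distrib]
      refine Finset.sum_congr rfl fun j _ => ?_
      rw [show (⟨g + h, hsub n (add_mem hg hh)⟩ : ↥(I ^ c)) = ⟨g, hsub n hg⟩ + ⟨h, hsub n hh⟩ from Subtype.ext rfl,
        map_add, ih _ (hφI n j g hg) _ (hφI n j h hh), mul_add]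
  have hmul : ∀ n m : ℕ, ∀ g ∈ I ^ (n * c), ∀ h ∈ I ^ (m * c), Φ (n + m) (g * h) = Φ n g * Φ m h := by
    intro n
    induction n with
    | zero =>
      intro m
      induction m with
      | zero => exact fun g _ h _ => map_mul MvPolynomial.C g h
      | succ m ih =>
        intro g hg h hh
        rw [zero_add, hΦ m _ (hsub m (Ideal.mul_mem_left _ g hh)), hΦ m h (hsub m hh), Finset.mul_sum]
        refine Finset.sum_congr rfl fun j _ => ?_
        have := ih g hg _ (hφI m j h hh)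
        rw [zero_add] at this
        rw [hswap j g h (hsub m hh), this, mul_left_comm]
    | succ n ih =>
      intro m g hg h hh
      rw [show n + 1 + m = (n + m) + 1 by ring, mul_comm g h, hΦ (n + m) _ (Ideal.mul_mem_left _ h (hsub n hg)),
        hΦ n g (hsub n hg), Finset.sum_mul]
      refine Finset.sum_congr rfl fun j _ => ?_
      rw [hswap j h g (hsub n hg), mul_comm h, ih m _ (hφI n j g hg) h hh, mul_assoc]
  have hsmul : ∀ (n : ℕ) (a : A), ∀ g ∈ I ^ (n * c), Φ n (a * g) = a • Φ n g := by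
    intro n a g hg
    have := hmul 0 n a (by simp) g hg
    rw [zero_add] at this
    rw [this, MvPolynomial.smul_eq_C_mul]
    rfl
  have hhom : ∀ n : ℕ, ∀ g ∈ I ^ (n * c), (Φ n g).IsHomogeneous n := by
    intro n
    induction n with
    | zero => exact fun g _ => MvPolynomial.isHomogeneous_C _ g
    | succ n ih =>
      intro g hg
      rw [hΦ n g (hsub n hg)]
      refine MvPolynomial.IsHomogeneous.sum _ _ _ fun j _ => ?_
      rw [add_comm n 1]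
      exact (MvPolynomial.isHomogeneous_X A j).mul (ih _ (hφI n j g hg))
  have heval : ∀ n : ℕ, ∀ g ∈ I ^ (n * c), MvPolynomial.aeval f (Φ n g) = g := by
    intro n
    induction n with
    | zero => exact fun g _ => MvPolynomial.aeval_C f g
    | succ n ih =>
      intro g hg
      rw [hΦ n g (hsub n hg), map_sum]
      refine Eq.trans (Finset.sum_congr rfl fun j _ => ?_) (hφ ⟨g, hsub n hg⟩).symm
      rw [map_mul, MvPolynomial.aeval_X, ih _ (hφI n j g hg)]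
  have hone : ∀ (g : A) (hg : g ∈ I ^ c), Φ 1 g = ∑ j, MvPolynomial.C (φ j ⟨g, hg⟩) * MvPolynomial.X j :=
    fun g hg => (hΦ 0 g hg).trans (Finset.sum_congr rfl fun j _ => mul_comm _ _)
  refine ⟨Φ, ⟨⟨hadd, hsmul, hhom, hmul, fun a => rfl, hone⟩, heval⟩, ?_⟩
  rintro Ψ ⟨hadd', -, -, hmul', h0', h1'⟩ n
  induction n with
  | zero => exact fun g _ => h0' g
  | succ n ih =>
    intro g hg
    have hg' : g ∈ I ^ (n * c) * I ^ c := by rwa [Nat.succ_mul, pow_add] at hg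
    suffices g ∈ I ^ ((n + 1) * c) ∧ Ψ (n + 1) g = Φ (n + 1) g from this.2
    have e : I ^ (n * c) * I ^ c = I ^ ((n + 1) * c) := by rw [Nat.succ_mul, pow_add]
    refine Submodule.mul_induction_on hg' (fun x hx y hy => ⟨e ▸ Ideal.mul_mem_mul hx hy, ?_⟩) ?_
    · have hy' : y ∈ I ^ (1 * c) := by rwa [one_mul]
      rw [hmul' n 1 x hx y hy', hmul n 1 x hx y hy', ih x hx, h1' y hy, hone y hy]
    · rintro a b ⟨ha, ha'⟩ ⟨hb, hb'⟩
      exact ⟨add_mem ha hb, by rw [hadd' _ a ha b hb, hadd _ a ha b hb, ha', hb']⟩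

end Groth.Agent.S8819
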