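import Groth.Statements.S8834
import Groth.Agent.RigClosed17.Basic
-- import your own Groth.Agent.* helpers here

set_option autoImplicit false
universe u
open AdicRing

namespace Groth.Agent.S8834

/-- Let A be a Noetherian ring complete for the adic topology of an ideal I and B a Noetherian ring
complete for the adic topology of an ideal J, with an algebra map A → B sending I into the radical
of J (a continuous homomorphism of adic Noetherian topological rings; the radicals of I and J are
the ideals of topologically nilpotent elements). Assume B/√J is of finite type over A, equivalently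
over A/√I. Then B is topologically of finite type over A: there are b_1, …, b_s ∈ B such that the
A-algebra map A[x_1, …, x_s] → B with x_i ↦ b_i has dense image for the J-adic topology, that is,
for every y ∈ B and every n there is a polynomial whose value at b differs from y by an element of
J^n. -/
theorem result (A : Type u) [CommRing A] [IsNoetherianRing A] (I : Ideal A) [IsAdicComplete I A] (B : Type u) [CommRing B] [Algebra A B] [IsNoetherianRing B] (J : Ideal B) [IsAdicComplete J B] (hIJ : I.map (algebraMap A B) ≤ J.radical) (hft : Algebra.FiniteType A (B ⧸ J.radical)) : ∃ s : ℕ, ∃ b : Fin s → B, ∀ (y : B) (n : ℕ), ∃ p : MvPolynomial (Fin s) A, y - MvPolynomial.aeval b p ∈ J ^ n := by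
  classical
  haveI := hft
  obtain ⟨S, hS⟩ := hft.out
  obtain ⟨T, hT⟩ := (J.radical).fg_of_isNoetherianRing
  choose lift hlift using fun x : B ⧸ J.radical => Ideal.Quotient.mk_surjective x
  let G : Finset B := S.image lift ∪ T
  let e := G.equivFin.symm
  refine ⟨G.card, fun i => (e i : B), ?_⟩
  let b : Fin G.card → B := fun i => (e i : B)
  let R : Subalgebra A B := (MvPolynomial.aeval b).range
  have hmemG : ∀ x ∈ G, x ∈ R := fun x hx => ⟨MvPolynomial.X (e.symm ⟨x, hx⟩), by
    show MvPolynomial.aeval b (MvPolynomial.X (e.symm ⟨x, hx⟩)) = x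
    rw [MvPolynomial.aeval_X]
    simp [b]⟩
  -- density modulo the powers of the radical
  have h0 : ∀ y : B, ∃ r ∈ R, y - r ∈ J.radical := by
    intro y
    have : Ideal.Quotient.mk J.radical y ∈ R.map (Ideal.Quotient.mkₐ A J.radical) := by
      have h : Algebra.adjoin A (S : Set (B ⧸ J.radical)) ≤ R.map (Ideal.Quotient.mkₐ A J.radical) :=
        Algebra.adjoin_le fun x hx => ⟨lift x, hmemG _ (Finset.mem_union_left _
          (Finset.mem_image_of_mem lift hx)), hlift x⟩
      exact h (hS ▸ Algebra.mem_top)
    obtain ⟨r, hr, hry⟩ := this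
    exact ⟨r, hr, Ideal.Quotient.eq.1 hry.symm⟩
  have key : ∀ n : ℕ, ∀ y ∈ J.radical ^ n, ∃ r ∈ R, y - r ∈ J.radical ^ (n + 1) := by
    intro n
    induction n with
    | zero =>
      intro y _
      simpa using h0 y
    | succ n ih =>
      intro y hy
      rw [pow_succ'] at hy
      refine Submodule.mul_induction_on hy (fun c hc z hz => ?_) ?_
      · obtain ⟨r, hr, hrz⟩ := ih z hz
        rw [← hT] at hc
        induction hc using Submodule.span_induction generalizing z r with
        | mem t ht =>
          refine ⟨t * r, mul_mem (hmemG t (Finset.mem_union_right _ ht)) hr, ?_⟩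
          rw [← mul_sub, pow_succ']
          exact Ideal.mul_mem_mul (hT ▸ Ideal.subset_span ht) hrz
        | zero => exact ⟨0, zero_mem _, by simp⟩
        | add c d _ _ hc hd =>
          obtain ⟨r₁, hr₁, h₁⟩ := hc z hz r hr hrz
          obtain ⟨r₂, hr₂, h₂⟩ := hd z hz r hr hrz
          exact ⟨r₁ + r₂, add_mem hr₁ hr₂, by
            rw [show (c + d) * z - (r₁ + r₂) = (c * z - r₁) + (d * z - r₂) by ring]
            exact add_mem h₁ h₂⟩
        | smul a c hc hcc =>
          obtain ⟨a', ha', haa⟩ := h0 a
          obtain ⟨r₁, hr₁, h₁⟩ := hcc z hz r hr hrz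
          refine ⟨a' * r₁, mul_mem ha' hr₁, ?_⟩
          have hcz : (a - a') * (c * z) ∈ J.radical ^ (n + 1 + 1) := by
            have hcJ : c ∈ J.radical := hT ▸ hc
            rw [pow_succ']
            refine Ideal.mul_mem_mul haa ?_
            rw [pow_succ']
            exact Ideal.mul_mem_mul hcJ hz
          rw [smul_eq_mul, show a * c * z - a' * r₁ = (a - a') * (c * z) + a' * (c * z - r₁) by ring]
          exact add_mem hcz (Ideal.mul_mem_left _ _ h₁)
      · rintro u v ⟨r, hr, h₁⟩ ⟨s, hs, h₂⟩
        exact ⟨r + s, add_mem hr hs, by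
          rw [show u + v - (r + s) = (u - r) + (v - s) by ring]
          exact add_mem h₁ h₂⟩
  have dense : ∀ (n : ℕ) (y : B), ∃ r ∈ R, y - r ∈ J.radical ^ n := by
    intro n
    induction n with
    | zero => exact fun y => ⟨0, zero_mem _, by simp⟩
    | succ n ih =>
      intro y
      obtain ⟨r, hr, h⟩ := ih y
      obtain ⟨s, hs, h'⟩ := key n _ h
      exact ⟨r + s, add_mem hr hs, by rwa [← sub_sub]⟩
  intro y n
  obtain ⟨N, hN⟩ := J.exists_radical_pow_le_of_fg (J.radical).fg_of_isNoetherianRing
  obtain ⟨r, ⟨p, rfl⟩, h⟩ := dense (N * n) y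
  refine ⟨p, ?_⟩
  rw [pow_mul] at h
  exact Ideal.pow_right_mono hN n h

end Groth.Agent.S8834
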