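import Groth.Statements.S8835
import Groth.Agent.RigClosed17.Basic
-- import your own Groth.Agent.* helpers here

set_option autoImplicit false
universe u
open AdicRing

namespace Groth.Agent.S8835

/-- Let A be a Noetherian ring complete for the adic topology of an ideal I, and B a Noetherian
A-algebra complete for the IB-adic topology with B/IB of finite type over A (an adic morphism,
topologically of finite type, of adic Noetherian topological rings). Let q be a prime of B which is
rig-closed (IB ⊄ q and q maximal among the primes not containing IB). If A/I is a Jacobson ring,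
then the inverse image p of q in A is rig-closed: I ⊄ p and p is maximal among the primes of A not
containing I. -/
theorem result (A : Type u) [CommRing A] [IsNoetherianRing A] (I : Ideal A) [IsAdicComplete I A] (B : Type u) [CommRing B] [Algebra A B] [IsNoetherianRing B] [IsAdicComplete (I.map (algebraMap A B)) B] (hft : Algebra.FiniteType A (B ⧸ (I.map (algebraMap A B)))) (q : PrimeSpectrum B) (hq : (¬ (I.map (algebraMap A B)) ≤ q.asIdeal ∧ ∀ y : PrimeSpectrum B, q ≤ y → ¬ (I.map (algebraMap A B)) ≤ y.asIdeal → y = q)) (hJ : IsJacobsonRing (A ⧸ I)) : (¬ I ≤ (PrimeSpectrum.comap (algebraMap A B) q).asIdeal ∧ ∀ y : PrimeSpectrum A, (PrimeSpectrum.comap (algebraMap A B) q) ≤ y → ¬ I ≤ y.asIdeal → y = (PrimeSpectrum.comap (algebraMap A B) q)) := by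
  have hft' := RigClosed17.finiteType_sup I hft q.asIdeal
  haveI := RigClosed17.finite_of_residue I q hq.1 hq.2 hft' (fun m hm hqm => by
    haveI := hm
    have hIm : I.map (algebraMap A B) ≤ m :=
      (IsAdicComplete.le_jacobson_bot _).trans (sInf_le ⟨bot_le, hm⟩)
    haveI := hft
    haveI : Algebra.FiniteType A (B ⧸ m) := Algebra.FiniteType.of_surjective
      (Ideal.Quotient.factorₐ A hIm) (Ideal.Quotient.factor_surjective hIm)
    letI : Algebra (A ⧸ I) (B ⧸ m) :=
      (Ideal.quotientMap m (algebraMap A B) (Ideal.map_le_iff_le_comap.1 hIm)).toAlgebra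
    haveI : IsScalarTower A (A ⧸ I) (B ⧸ m) := IsScalarTower.of_algebraMap_eq fun _ => rfl
    letI := Ideal.Quotient.field m
    haveI : Algebra.FiniteType (A ⧸ I) (B ⧸ m) := Algebra.FiniteType.of_restrictScalars_finiteType A _ _
    haveI : Module.Finite (A ⧸ I) (B ⧸ m) := finite_of_finite_type_of_isJacobsonRing _ _
    exact Module.Finite.trans (A ⧸ I) (B ⧸ m))
  obtain ⟨h, h'⟩ := RigClosed17.rigClosed_comap_of_finite I q hq.1 hq.2
  exact ⟨h, fun y hy hIy => PrimeSpectrum.ext (h' y.asIdeal y.2 hy hIy)⟩

end Groth.Agent.S8835
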