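import Groth.Statements.S8836
import Groth.Agent.RigClosed17.Basic
-- import your own Groth.Agent.* helpers here

set_option autoImplicit false
universe u
open AdicRing

namespace Groth.Agent.S8836

/-- Let A be a Noetherian ring complete for the adic topology of an ideal I, and B a Noetherian
A-algebra complete for the IB-adic topology, flat over A, with B/IB of finite type over A (a flat
adic morphism, topologically of finite type, of adic Noetherian topological rings). Let p be a prime
of A which is rig-closed (I ⊄ p and p maximal among the primes not containing I). The following are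
equivalent: (1) the maximal ideal of the local ring A/p lies in the image of Spec(B/√(IB)) →
Spec(A/√I), stated as: some prime Q of B containing IB lies over a maximal ideal of A containing p;
(2) there is a rig-closed prime q of B (IB ⊄ q, q maximal among the primes not containing IB) whose
inverse image in A is p. (The published statement adds that, when these hold, A/p ⊆ B/q is a finite
extension of rings and the residue field of the local ring B/q is finite over A/√I; this is not
restated here.) -/
theorem result (A : Type u) [CommRing A] [IsNoetherianRing A] (I : Ideal A) [IsAdicComplete I A] (B : Type u) [CommRing B] [Algebra A B] [IsNoetherianRing B] [IsAdicComplete (I.map (algebraMap A B)) B] (hft : Algebra.FiniteType A (B ⧸ (I.map (algebraMap A B)))) [Module.Flat A B] (p : PrimeSpectrum A) (hp : (¬ I ≤ p.asIdeal ∧ ∀ y : PrimeSpectrum A, p ≤ y → ¬ I ≤ y.asIdeal → y = p)) : (∃ Q : PrimeSpectrum B, (I.map (algebraMap A B)) ≤ Q.asIdeal ∧ p.asIdeal ≤ (PrimeSpectrum.comap (algebraMap A B) Q).asIdeal ∧ (PrimeSpectrum.comap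 (algebraMap A B) Q).asIdeal.IsMaximal) ↔ (∃ q : PrimeSpectrum B, (¬ (I.map (algebraMap A B)) ≤ q.asIdeal ∧ ∀ y : PrimeSpectrum B, q ≤ y → ¬ (I.map (algebraMap A B)) ≤ y.asIdeal → y = q) ∧ PrimeSpectrum.comap (algebraMap A B) q = p) := by
  constructor
  · rintro ⟨Q, hIQ, hpQ, hQmax⟩
    haveI := p.2
    haveI := Q.2
    haveI : Algebra.HasGoingDown A B := inferInstance
    haveI : Q.asIdeal.LiesOver (Q.asIdeal.under A) := Ideal.over_under ..
    obtain ⟨q₀, hq₀Q, hq₀, hover⟩ := Ideal.exists_ideal_le_liesOver_of_le (p := p.asIdeal)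
      (q := Q.asIdeal.under A) Q.asIdeal hpQ
    have hcq : q₀.comap (algebraMap A B) = p.asIdeal := hover.over.symm
    have hnI : ¬ I.map (algebraMap A B) ≤ q₀ := fun h => hp.1 (hcq ▸ Ideal.map_le_iff_le_comap.1 h)
    obtain ⟨y, ⟨hy1, hy2⟩, hmax⟩ := set_has_maximal_iff_noetherian.2 (inferInstance : IsNoetherian B B)
      {y : Ideal B | q₀ ≤ y ∧ y.IsPrime ∧ ¬ I.map (algebraMap A B) ≤ y} ⟨q₀, le_rfl, hq₀, hnI⟩
    refine ⟨⟨y, hy2.1⟩, ⟨hy2.2, fun z hz hIz => PrimeSpectrum.ext ?_⟩, ?_⟩
    · by_contra hne
      exact hmax z.asIdeal ⟨hy1.trans hz, z.2, hIz⟩ (lt_of_le_of_ne hz fun e => hne e.symm)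
    · exact hp.2 _ (show p.asIdeal ≤ Ideal.comap (algebraMap A B) y from hcq ▸ Ideal.comap_mono hy1)
        (fun hI => hy2.2 (Ideal.map_le_iff_le_comap.2 hI))
  · rintro ⟨q, hq, rfl⟩
    have hft' := RigClosed17.finiteType_sup I hft q.asIdeal
    have hres := RigClosed17.residue_of_rigClosed_comap I q hq.1 hft' hp.2
    obtain ⟨M, hM, hqM, hIM, -⟩ := RigClosed17.exists_maximal _ q hq.1 hq.2
    haveI := hM
    haveI := hres M hM hqM
    refine ⟨⟨M, hM.isPrime⟩, hIM, Ideal.comap_mono hqM, ?_⟩
    haveI : Algebra.IsIntegral A (B ⧸ M) := Algebra.IsIntegral.of_finite A _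
    letI := Ideal.Quotient.field M
    have h := Ideal.isMaximal_comap_of_isIntegral_of_isMaximal (R := A) (⊥ : Ideal (B ⧸ M))
    convert h using 1
    show M.comap (algebraMap A B) = _
    rw [IsScalarTower.algebraMap_eq A B (B ⧸ M), ← Ideal.comap_comap]
    congr 1
    rw [← RingHom.ker_eq_comap_bot]
    exact Ideal.mk_ker.symm

end Groth.Agent.S8836
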