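import Groth.Statements.S8837
import Groth.Agent.CplFlat.Noetherian
import Mathlib.RingTheory.Localization.Away.Basic
import Mathlib.RingTheory.Localization.Submodule

set_option autoImplicit false
universe u
open AdicRing

namespace Groth.Agent.S8837

/-- Let A be a Noetherian ring complete for the adic topology of an ideal I (an adic Noetherian
topological ring), p a prime ideal of A, and f ∈ A an element mapping to a unit in A/p. Let A_{f}
denote the completed principal localization, i.e. the I-adic completion of A_f = A[1/f]. Then the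
ideal p A_{f} generated by p is prime, and the canonical map A/p → A_{f}/p A_{f} is bijective (so p
A_{f} = p ⊗_A A_{f} is the completion of p_f, with quotient A/p). -/
theorem result (A : Type u) [CommRing A] [IsNoetherianRing A] (I : Ideal A) [IsAdicComplete I A] (p : Ideal A) [p.IsPrime] (f : A) (hf : IsUnit (Ideal.Quotient.mk p f)) : (p.map (algebraMap A (AdicCompletion (I.map (algebraMap A (Localization.Away f))) (Localization.Away f)))).IsPrime ∧ Function.Bijective (Ideal.quotientMap (p.map (algebraMap A (AdicCompletion (I.map (algebraMap A (Localization.Away f))) (Localization.Away f)))) (algebraMap A (AdicCompletion (I.map (algebraMap A (Localization.Away f))) (Localization.Away f))) Ideal.le_comap_map) := by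
  classical
  let C := Localization.Away f
  let K : Ideal C := I.map (algebraMap A C)
  have hKfg : K.FG := I.fg_of_isNoetherianRing.map _
  haveI : IsNoetherianRing C := IsLocalization.isNoetherianRing (Submonoid.powers f) C inferInstance
  haveI : IsNoetherianRing (C ⧸ K) :=
    isNoetherianRing_of_surjective C _ (Ideal.Quotient.mk K) Ideal.Quotient.mk_surjective
  haveI := Groth.Agent.CplFlat.isNoetherianRing_completion_of_fg K hKfg
  haveI : IsAdicComplete (K.map (algebraMap C (AdicCompletion K C))) (AdicCompletion K C) :=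
    Groth.Agent.CplFlat.isAdicComplete_map K C hKfg
  show (p.map (algebraMap A (AdicCompletion K C))).IsPrime ∧ Function.Bijective
    (Ideal.quotientMap (p.map (algebraMap A (AdicCompletion K C))) (algebraMap A (AdicCompletion K C)) Ideal.le_comap_map)
  set P := p.map (algebraMap A (AdicCompletion K C)) with hPdef
  obtain ⟨v, hv⟩ := hf.exists_right_inv
  obtain ⟨v, rfl⟩ := Ideal.Quotient.mk_surjective v
  have hfv : ∀ (k : ℕ) (a : A), a * (1 - (f * v) ^ k) ∈ p := by
    intro k a
    rw [← Ideal.Quotient.eq_zero_iff_mem, map_mul, map_sub, map_one, map_pow, map_mul, hv, one_pow, sub_self, mul_zero]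
  have hmapmk : ∀ n, (p ⊔ I ^ n).map (algebraMap A C) = p.map (algebraMap A C) ⊔ K ^ n := fun n => by
    rw [Ideal.map_sup, Ideal.map_pow]
  have lem1 : ∀ (n : ℕ) (a : A), algebraMap A C a ∈ p.map (algebraMap A C) ⊔ K ^ n → a ∈ p ⊔ I ^ n := by
    intro n a ha
    rw [← hmapmk, IsLocalization.mem_map_algebraMap_iff (Submonoid.powers f)] at ha
    obtain ⟨⟨⟨b, hb⟩, s⟩, h⟩ := ha
    rw [← map_mul] at h
    obtain ⟨⟨_, j, rfl⟩, hj⟩ := (IsLocalization.eq_iff_exists (Submonoid.powers f) C).1 h
    obtain ⟨_, k, rfl⟩ := s
    have h1 : f ^ (j + k) * a ∈ p ⊔ I ^ n := by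
      have e : f ^ (j + k) * a = f ^ j * b := by rw [← hj]; ring
      rw [e]
      exact Ideal.mul_mem_left _ _ hb
    have h2 : a = v ^ (j + k) * (f ^ (j + k) * a) + a * (1 - (f * v) ^ (j + k)) := by ring
    rw [h2]
    exact add_mem (Ideal.mul_mem_left _ _ h1) (Submodule.mem_sup_left (hfv _ a))
  have hPC : P = (p.map (algebraMap A C)).map (algebraMap C (AdicCompletion K C)) := by
    rw [Ideal.map_map, ← IsScalarTower.algebraMap_eq]
  have hev : ∀ (n : ℕ) (c : C), AdicCompletion.eval K C n (algebraMap C (AdicCompletion K C) c) =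
      Submodule.Quotient.mk c := fun n c => rfl
  haveI hq : IsAdicComplete (I.map (algebraMap A (A ⧸ p))) (A ⧸ p) := Groth.Agent.AdicLim.isAdicComplete_quotient p
  have hmem : ∀ (n : ℕ) (a : A), Ideal.Quotient.mk p a ∈ ((I.map (algebraMap A (A ⧸ p))) ^ n • ⊤ : Submodule (A ⧸ p) (A ⧸ p)) ↔
      a ∈ p ⊔ I ^ n := by
    intro n a
    rw [smul_eq_mul, Ideal.mul_top, ← Ideal.map_pow, Ideal.Quotient.algebraMap_eq, ← Ideal.mem_comap,
      Ideal.comap_map_of_surjective _ Ideal.Quotient.mk_surjective, ← RingHom.ker_eq_comap_bot, Ideal.mk_ker, sup_comm]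
  have hinj : ∀ a : A, algebraMap A (AdicCompletion K C) a ∈ P → a ∈ p := by
    intro a ha
    rw [← Ideal.Quotient.eq_zero_iff_mem]
    refine IsHausdorff.haus hq.toIsHausdorff _ fun n => ?_
    rw [SModEq.zero, hmem]
    refine lem1 n a ?_
    have h1 := Ideal.mem_map_of_mem (AdicCompletion.evalₐ K n).toRingHom ha
    rw [hPC, Ideal.map_map, show (AdicCompletion.evalₐ K n).toRingHom.comp (algebraMap C (AdicCompletion K C)) = Ideal.Quotient.mk (K ^ n) from
      (AdicCompletion.evalₐ K n).comp_algebraMap, IsScalarTower.algebraMap_apply A C (AdicCompletion K C) a,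
      AlgHom.toRingHom_eq_coe, RingHom.coe_coe, AlgHom.commutes, Ideal.Quotient.algebraMap_eq, ← Ideal.mem_comap,
      Ideal.comap_map_of_surjective _ Ideal.Quotient.mk_surjective, ← RingHom.ker_eq_comap_bot, Ideal.mk_ker] at h1
    exact h1
  have hbij : Function.Bijective (Ideal.quotientMap P (algebraMap A (AdicCompletion K C)) Ideal.le_comap_map) := by
    constructor
    · rw [injective_iff_map_eq_zero]
      intro z hz
      obtain ⟨a, rfl⟩ := Ideal.Quotient.mk_surjective z
      rw [Ideal.quotientMap_mk, Ideal.Quotient.eq_zero_iff_mem] at hz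
      exact Ideal.Quotient.eq_zero_iff_mem.2 (hinj a hz)
    · intro z
      obtain ⟨x, rfl⟩ := Ideal.Quotient.mk_surjective z
      choose c hc using fun n => Submodule.Quotient.mk_surjective _ (AdicCompletion.eval K C n x)
      have hcl : ∀ n, ∃ a : A, c n - algebraMap A C a ∈ p.map (algebraMap A C) := by
        intro n
        obtain ⟨⟨a, s⟩, hs⟩ := IsLocalization.surj (Submonoid.powers f) (c n)
        obtain ⟨k, hk⟩ := s.2
        refine ⟨a * v ^ k, ?_⟩
        have hu := IsLocalization.map_units C s
        rw [← Ideal.mul_unit_mem_iff_mem _ hu, sub_mul, hs, ← map_mul, ← map_sub]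
        refine Ideal.mem_map_of_mem _ ?_
        have : a - a * v ^ k * (s : A) = a * (1 - (f * v) ^ k) := by
          rw [← hk]; ring
        rw [this]
        exact hfv k a
      choose a ha using hcl
      have hcauchy : ∀ {n m : ℕ}, n ≤ m → a m - a n ∈ p ⊔ I ^ n := by
        intro n m hnm
        refine lem1 n _ ?_
        have h1 : c m - c n ∈ K ^ n := by
          have h := x.property hnm
          rw [show x.val m = Submodule.Quotient.mk (c m) from (hc m).symm,
            show x.val n = Submodule.Quotient.mk (c n) from (hc n).symm] at h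
          have h' := (Submodule.Quotient.eq _).1 h
          rwa [smul_eq_mul, Ideal.mul_top] at h'
        rw [map_sub, show algebraMap A C (a m) - algebraMap A C (a n) =
          (c m - c n) + ((c n - algebraMap A C (a n)) - (c m - algebraMap A C (a m))) by ring]
        exact add_mem (Submodule.mem_sup_right h1) (Submodule.mem_sup_left (sub_mem (ha n) (ha m)))
      obtain ⟨L, hL⟩ := IsPrecomplete.prec hq.toIsPrecomplete (f := fun n => Ideal.Quotient.mk p (a n)) fun {n m} hnm => by
        rw [SModEq.sub_mem, ← neg_sub, Submodule.neg_mem_iff, ← map_sub, hmem]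
        exact hcauchy hnm
      obtain ⟨aL, rfl⟩ := Ideal.Quotient.mk_surjective L
      refine ⟨Ideal.Quotient.mk p aL, ?_⟩
      rw [Ideal.quotientMap_mk, Ideal.Quotient.eq]
      haveI hqP : IsAdicComplete ((K.map (algebraMap C (AdicCompletion K C))).map
          (algebraMap (AdicCompletion K C) (AdicCompletion K C ⧸ P))) (AdicCompletion K C ⧸ P) :=
        Groth.Agent.AdicLim.isAdicComplete_quotient P
      rw [← Ideal.Quotient.eq_zero_iff_mem]
      refine IsHausdorff.haus hqP.toIsHausdorff _ fun n => ?_
      rw [SModEq.zero, smul_eq_mul, Ideal.mul_top, ← Ideal.map_pow, Ideal.Quotient.algebraMap_eq]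
      have h2 : aL - a n ∈ p ⊔ I ^ n := by
        rw [← hmem, map_sub, ← Submodule.neg_mem_iff, neg_sub]
        exact SModEq.sub_mem.1 (hL n)
      have h3 : algebraMap A C aL - c n ∈ p.map (algebraMap A C) ⊔ K ^ n := by
        rw [show algebraMap A C aL - c n = algebraMap A C (aL - a n) - (c n - algebraMap A C (a n)) by rw [map_sub]; ring]
        refine sub_mem ?_ (Submodule.mem_sup_left (ha n))
        rw [← hmapmk]
        exact Ideal.mem_map_of_mem _ h2
      obtain ⟨y, hy, w, hw, hyw⟩ := Submodule.mem_sup.1 h3
      have hyP : algebraMap C (AdicCompletion K C) y ∈ P := hPC ▸ Ideal.mem_map_of_mem _ hy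
      have e : Ideal.Quotient.mk P (algebraMap A (AdicCompletion K C) aL - x) =
          Ideal.Quotient.mk P (algebraMap A (AdicCompletion K C) aL - x - algebraMap C (AdicCompletion K C) y) := by
        rw [map_sub (Ideal.Quotient.mk P) (_ - x) (algebraMap C (AdicCompletion K C) y),
          Ideal.Quotient.eq_zero_iff_mem.2 hyP, sub_zero]
      rw [e]
      refine Ideal.mem_map_of_mem _ ?_
      rw [Groth.Agent.CplFlat.mem_pow_iff K hKfg, IsScalarTower.algebraMap_apply A C (AdicCompletion K C) aL,
        map_sub, map_sub, hev, hev, ← hc n, ← Submodule.Quotient.mk_sub, ← Submodule.Quotient.mk_sub,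
        Submodule.Quotient.mk_eq_zero, smul_eq_mul, Ideal.mul_top,
        show algebraMap A C aL - c n - y = w by rw [← hyw]; ring]
      exact hw
  refine ⟨?_, hbij⟩
  rw [← Ideal.Quotient.isDomain_iff_prime]
  haveI : IsDomain (A ⧸ p) := Ideal.Quotient.isDomain p
  exact MulEquiv.isDomain (A ⧸ p) (RingEquiv.ofBijective _ hbij).symm.toMulEquiv

end Groth.Agent.S8837
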