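import Groth.Statements.S8838
import Groth.Agent.RigClosed17.Basic
-- import your own Groth.Agent.* helpers here

set_option autoImplicit false
universe u
open AdicRing TensorProduct

namespace Groth.Agent.S8838

/-- Suppose A is a Noetherian ring that is I-adically complete for an ideal I, and B is a Noetherian
A-algebra that is complete with respect to the IB-adic topology, with B/IB of finite type over A (so
A → B is an adic morphism of adic Noetherian topological rings that is topologically of finite
type). Assume further that A → B is flat and that the induced map A/I → B/IB is étale (with I as the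
chosen ideal of definition). Consider a prime q of B that is rig-closed (q does not contain IB, and
q is maximal among primes of B not containing IB), and suppose its preimage p in A is rig-closed as
well (p does not contain I, and p is maximal among primes of A not containing I). Then the extension
of p to the localization B_q equals its maximal ideal, that is, p B_q = q B_q. -/
theorem result (A : Type u) [CommRing A] [IsNoetherianRing A] (I : Ideal A) [IsAdicComplete I A] (B : Type u) [CommRing B] [Algebra A B] [IsNoetherianRing B] [IsAdicComplete (I.map (algebraMap A B)) B] (hft : Algebra.FiniteType A (B ⧸ (I.map (algebraMap A B)))) [Module.Flat A B] [Algebra.Etale (A ⧸ I) (B ⧸ (I.map (algebraMap A B)))] (q : PrimeSpectrum B) (hq : (¬ (I.map (algebraMap A B)) ≤ q.asIdeal ∧ ∀ y : PrimeSpectrum B, q ≤ y → ¬ (I.map (algebraMap A B)) ≤ y.asIdeal → y = q)) (hp : (¬ I ≤ (PrimeSpectrum.comap (algebraMap A B) q).asIdeal ∧ ∀ y : PrimeSpectrum A, (PrimeSpectrum.comap (algebraMap A B) q) ≤ y → ¬ I ≤ y.asIdeal → y = (PrimeSpectrum.comap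 (algebraMap A B) q))) : ((PrimeSpectrum.comap (algebraMap A B) q).asIdeal.map (algebraMap A B)).map (algebraMap B (Localization.AtPrime q.asIdeal)) = IsLocalRing.maximalIdeal (Localization.AtPrime q.asIdeal) := by
  have hft' := RigClosed17.finiteType_sup I hft q.asIdeal
  haveI hfin := RigClosed17.finite_of_residue I q hq.1 hq.2 hft'
    (RigClosed17.residue_of_rigClosed_comap I q hq.1 hft' hp.2)
  obtain ⟨MA, hMA, hpMA, hIMA, huA⟩ := RigClosed17.exists_maximal I _ hp.1 hp.2
  let p := (PrimeSpectrum.comap (algebraMap A B) q).asIdeal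
  let pB := p.map (algebraMap A B)
  let J := I.map (algebraMap A B)
  let B' := B ⧸ pB
  -- `B/pB` is finite
  haveI : Algebra.FormallyUnramified A (B ⧸ J) := Algebra.FormallyUnramified.comp A (A ⧸ I) (B ⧸ J)
  haveI : Algebra.FiniteType A (B ⧸ (pB ⊔ J)) := RigClosed17.finiteType_sup I hft pB
  haveI : Algebra.FormallyUnramified A (B ⧸ (pB ⊔ J)) :=
    Algebra.FormallyUnramified.of_surjective (Ideal.Quotient.factorₐ A (le_sup_right : J ≤ pB ⊔ J))
      (Ideal.Quotient.factor_surjective le_sup_right)
  let K := p ⊔ I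
  haveI : IsArtinianRing (A ⧸ K) := by
    rw [isArtinianRing_iff_isNoetherianRing_krullDimLE_zero]
    refine ⟨inferInstance, Ring.krullDimLE_zero_iff.2 fun P hP => ?_⟩
    have hKP : K ≤ P.comap (Ideal.Quotient.mk K) := fun x hx => by
      show Ideal.Quotient.mk K x ∈ P
      rw [Ideal.Quotient.eq_zero_iff_mem.2 hx]
      exact zero_mem _
    rcases huA _ (Ideal.IsPrime.comap _) (le_sup_left.trans hKP) with e | e
    · exact absurd (e ▸ le_sup_right.trans hKP) hp.1
    · rw [← Ideal.map_comap_of_surjective _ Ideal.Quotient.mk_surjective P, e]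
      exact Ideal.IsMaximal.map_of_surjective_of_ker_le Ideal.Quotient.mk_surjective
        (Ideal.mk_ker.trans_le (sup_le hpMA hIMA))
  letI : Algebra (A ⧸ K) (B ⧸ (pB ⊔ J)) :=
    (Ideal.quotientMap (pB ⊔ J) (algebraMap A B) (Ideal.map_le_iff_le_comap.1
      (by rw [Ideal.map_sup]))).toAlgebra
  haveI : IsScalarTower A (A ⧸ K) (B ⧸ (pB ⊔ J)) := IsScalarTower.of_algebraMap_eq fun _ => rfl
  haveI : Algebra.FormallyUnramified (A ⧸ K) (B ⧸ (pB ⊔ J)) :=
    Algebra.FormallyUnramified.of_restrictScalars A _ _
  haveI : Algebra.FiniteType (A ⧸ K) (B ⧸ (pB ⊔ J)) :=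
    Algebra.FiniteType.of_restrictScalars_finiteType A _ _
  haveI : Module.Finite (A ⧸ K) (B ⧸ (pB ⊔ J)) := Module.Finite.of_quasiFinite
  haveI : Module.Finite A B' :=
    RigClosed17.finite_quotient I pB (Module.Finite.trans (A ⧸ K) (B ⧸ (pB ⊔ J)))
  -- hence unramified
  have hle : pB ≤ pB ⊔ J := le_sup_left
  letI : Algebra B' (B ⧸ (pB ⊔ J)) := (Ideal.Quotient.factor hle).toAlgebra
  haveI : IsScalarTower A B' (B ⧸ (pB ⊔ J)) := IsScalarTower.of_algebraMap_eq fun _ => rfl
  have hsurj : Function.Surjective (algebraMap B' (B ⧸ (pB ⊔ J))) :=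
    Ideal.Quotient.factor_surjective hle
  haveI : Algebra.FormallyUnramified A B' := by
    rw [Algebra.formallyUnramified_iff]
    let J' : Ideal B' := I.map (algebraMap A B')
    have hJ' : J' ≤ Ring.jacobson B' := by
      rw [← Ideal.jacobson_bot]
      haveI hc : IsAdicComplete (J.map (algebraMap B B')) B' :=
        Groth.Agent.AdicLim.isAdicComplete_quotient pB
      rw [Ideal.map_map, ← IsScalarTower.algebraMap_eq] at hc
      exact IsAdicComplete.le_jacobson_bot J'
    suffices h : (⊤ : Submodule B' (Ω[B'⁄A])) = ⊥ from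
      ⟨fun x y => by
        have h0 : ∀ z : Ω[B'⁄A], z = 0 := fun z =>
          (Submodule.mem_bot B').1 (show z ∈ (⊥ : Submodule B' (Ω[B'⁄A])) from h ▸ Submodule.mem_top)
        rw [h0 x, h0 y]⟩
    refine Submodule.eq_bot_of_le_smul_of_le_jacobson_bot J' _ Module.Finite.fg_top ?_
      (by rw [Ideal.jacobson_bot]; exact hJ')
    intro ω _
    have hker : RingHom.ker (algebraMap B' (B ⧸ (pB ⊔ J))) ≤ J' := fun x hx => by
      obtain ⟨x, rfl⟩ := Ideal.Quotient.mk_surjective x
      have hx' : x ∈ pB ⊔ J := Ideal.Quotient.eq_zero_iff_mem.1 hx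
      have := Ideal.mem_map_of_mem (Ideal.Quotient.mk pB) hx'
      rw [Ideal.map_sup, Ideal.map_quotient_self, bot_sup_eq, Ideal.map_map] at this
      exact this
    haveI : Subsingleton (Ω[(B ⧸ (pB ⊔ J))⁄A]) := Algebra.FormallyUnramified.subsingleton_kaehlerDifferential
    obtain ⟨c, hc⟩ := (KaehlerDifferential.exact_kerCotangentToTensor_mapBaseChange A B'
      (B ⧸ (pB ⊔ J)) hsurj (1 ⊗ₜ ω)).mp (Subsingleton.elim _ _)
    obtain ⟨⟨x, hx⟩, rfl⟩ := Ideal.toCotangent_surjective _ c
    rw [KaehlerDifferential.kerCotangentToTensor_toCotangent] at hc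
    have hDx : ∀ x ∈ J', KaehlerDifferential.D A B' x ∈ J' • (⊤ : Submodule B' (Ω[B'⁄A])) := by
      intro x hx
      induction hx using Submodule.span_induction with
      | mem x h => obtain ⟨a, -, rfl⟩ := h; simp
      | zero => simp
      | add x y _ _ h1 h2 => rw [map_add]; exact add_mem h1 h2
      | smul b x hx h1 =>
        rw [smul_eq_mul, Derivation.leibniz]
        exact add_mem (Submodule.smul_mem _ _ h1) (Submodule.smul_mem_smul hx trivial)
    -- `ω` and `D x` agree modulo the kernel
    have hk : (RingHom.ker (algebraMap B' (B ⧸ (pB ⊔ J)))) • (⊤ : Submodule B' (Ω[B'⁄A])) ≤ J' • ⊤ :=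
      Submodule.smul_mono_left hker
    have hd : ω - KaehlerDifferential.D A B' x ∈ J' • (⊤ : Submodule B' (Ω[B'⁄A])) := by
      apply hk
      let e := TensorProduct.AlgebraTensorModule.congr
        ((Ideal.quotientKerAlgEquivOfSurjective (f := Algebra.ofId B' (B ⧸ (pB ⊔ J))) hsurj).symm.toLinearEquiv)
        (LinearEquiv.refl B' (Ω[B'⁄A]))
      have h2 : (1 : B' ⧸ RingHom.ker (Algebra.ofId B' (B ⧸ (pB ⊔ J)))) ⊗ₜ[B'] (ω - KaehlerDifferential.D A B' x) = 0 := by
        have h3 := congrArg e (sub_eq_zero.2 hc.symm)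
        simpa [e, TensorProduct.tmul_sub] using h3
      have h4 := congrArg (TensorProduct.quotTensorEquivQuotSMul _ _) h2
      rw [map_zero, ← map_one (Ideal.Quotient.mk _), TensorProduct.quotTensorEquivQuotSMul_mk_tmul,
        one_smul, Submodule.Quotient.mk_eq_zero] at h4
      exact h4
    have := add_mem hd (hDx x (hker hx))
    simpa using this
  -- so `p` generates the maximal ideal of the local ring at `q`
  have hpq : pB ≤ q.asIdeal := Ideal.map_comap_le
  let q' : Ideal B' := q.asIdeal.map (Ideal.Quotient.mk pB)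
  haveI : q'.IsPrime :=
    Ideal.map_isPrime_of_surjective Ideal.Quotient.mk_surjective (Ideal.mk_ker.trans_le hpq)
  have hq'c : q'.comap (Ideal.Quotient.mk pB) = q.asIdeal := by
    rw [Ideal.comap_map_of_surjective _ Ideal.Quotient.mk_surjective, ← RingHom.ker_eq_comap_bot,
      Ideal.mk_ker]
    exact sup_eq_left.2 hpq
  haveI : p.IsPrime := (PrimeSpectrum.comap (algebraMap A B) q).2
  haveI : q'.LiesOver p := ⟨by
    show q.asIdeal.comap (algebraMap A B) = q'.comap (algebraMap A B')
    rw [IsScalarTower.algebraMap_eq A B B', ← Ideal.comap_comap]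
    exact congrArg (Ideal.comap (algebraMap A B)) hq'c.symm⟩
  haveI : Algebra.IsUnramifiedAt A q' := inferInstance
  letI := Localization.AtPrime.algebraOfLiesOver p q'
  obtain ⟨-, hmap⟩ := (Algebra.isUnramifiedAt_iff_map_eq A p q').1 inferInstance
  refine le_antisymm ?_ ?_
  · rw [← Localization.AtPrime.map_eq_maximalIdeal]
    exact Ideal.map_mono hpq
  rw [← Localization.AtPrime.map_eq_maximalIdeal, Ideal.map_le_iff_le_comap]
  intro x hx
  show algebraMap B (Localization.AtPrime q.asIdeal) x ∈ pB.map _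
  have h0 : algebraMap B' (Localization.AtPrime q') (Ideal.Quotient.mk pB x) = 0 := by
    have : algebraMap B' (Localization.AtPrime q') (Ideal.Quotient.mk pB x) ∈
        IsLocalRing.maximalIdeal (Localization.AtPrime q') :=
      (IsLocalization.AtPrime.to_map_mem_maximal_iff _ q' _).2 (Ideal.mem_map_of_mem _ hx)
    rw [← hmap, IsScalarTower.algebraMap_eq A B' (Localization.AtPrime q'), ← Ideal.map_map,
      IsScalarTower.algebraMap_eq A B B', ← Ideal.map_map] at this
    change _ ∈ (pB.map (Ideal.Quotient.mk pB)).map _ at this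
    rwa [Ideal.map_quotient_self, Ideal.map_bot, Ideal.mem_bot] at this
  obtain ⟨⟨s, hs⟩, hs'⟩ := (IsLocalization.map_eq_zero_iff q'.primeCompl _ _).1 h0
  obtain ⟨s, rfl⟩ := Ideal.Quotient.mk_surjective s
  have hsq : s ∉ q.asIdeal := fun h => hs (Ideal.mem_map_of_mem _ h)
  have hsx : s * x ∈ pB := by
    rw [← Ideal.Quotient.eq_zero_iff_mem, map_mul]
    exact hs'
  have := Ideal.mem_map_of_mem (algebraMap B (Localization.AtPrime q.asIdeal)) hsx
  rw [map_mul, Ideal.unit_mul_mem_iff_mem] at this
  · exact this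
  · exact IsLocalization.map_units _ (⟨s, hsq⟩ : q.asIdeal.primeCompl)

end Groth.Agent.S8838
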