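import Groth.Statements.S8839
import Groth.Agent.RigClosed17.Basic
import Groth.Agent.RigClosed17.LocalIso
import Groth.Agent.CplFlat.Noetherian
-- import your own Groth.Agent.* helpers here

set_option autoImplicit false
universe u
open AdicRing

namespace Groth.Agent.S8839

/-- Let A be a Noetherian ring complete for the adic topology of an ideal I, n a natural number, and
A{x_1, …, x_n} the restricted power series ring, i.e. the I-adic completion of the polynomial ring
A[x_1, …, x_n]. Let q be a prime ideal of A{x_1, …, x_n}, q' its inverse image in A[x_1, …, x_n] and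
p its inverse image in A. Assume q is rig-closed (the extension of I is not contained in q and q is
maximal among such primes) and p is rig-closed in A (I ⊄ p, p maximal among the primes not
containing I). Then the local homomorphism A[x_1, …, x_n]_{q'} → A{x_1, …, x_n}_q induces an
isomorphism on completions with respect to the maximal ideals; stated as: for every m ≥ 1 the
induced map on quotients by the m-th powers of the maximal ideals is injective and surjective. -/
theorem result (A : Type u) [CommRing A] [IsNoetherianRing A] (I : Ideal A) [IsAdicComplete I A] (n : ℕ) (q : PrimeSpectrum (AdicCompletion (I.map (algebraMap A (MvPolynomial (Fin n) A))) (MvPolynomial (Fin n) A))) (hq : (¬ (I.map (algebraMap A (AdicCompletion (I.map (algebraMap A (MvPolynomial (Fin n) A))) (MvPolynomial (Fin n) A)))) ≤ q.asIdeal ∧ ∀ y : PrimeSpectrum (AdicCompletion (I.map (algebraMap A (MvPolynomial (Fin n) A))) (MvPolynomial (Fin n) A)), q ≤ y → ¬ (I.map (algebraMap A (AdicCompletion (I.map (algebraMap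 A (MvPolynomial (Fin n) A))) (MvPolynomial (Fin n) A)))) ≤ y.asIdeal → y = q)) (hp : (¬ I ≤ (PrimeSpectrum.comap (algebraMap A (AdicCompletion (I.map (algebraMap A (MvPolynomial (Fin n) A))) (MvPolynomial (Fin n) A))) q).asIdeal ∧ ∀ y : PrimeSpectrum A, (PrimeSpectrum.comap (algebraMap A (AdicCompletion (I.map (algebraMap A (MvPolynomial (Fin n) A))) (MvPolynomial (Fin n) A))) q) ≤ y → ¬ I ≤ y.asIdeal → y = (PrimeSpectrum.comap (algebraMap A (AdicCompletion (I.map (algebraMap A (MvPolynomial (Fin n) A))) (MvPolynomial (Fin n) A))) q))) (m : ℕ) (hm : 1 ≤ m) : (∀ x : (Localization.AtPrime (PrimeSpectrum.comap (algebraMap (MvPolynomial (Fin n) A) (AdicCompletion (I.map (algebraMap A (MvPolynomial (Fin n) A))) (MvPolynomial (Fin n) A))) q).asIdeal), (Localization.localRingHom (PrimeSpectrum.comap (algebraMap (MvPolynomial (Fin n) A) (AdicCompletion (I.map (algebraMap A (MvPolynomial (Fin n) A))) (MvPolynomial (Fin n) A))) q).asIdeal q.asIdeal (algebraMap (MvPolynomial (Fin n) A) (AdicCompletion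 (I.map (algebraMap A (MvPolynomial (Fin n) A))) (MvPolynomial (Fin n) A))) rfl) x ∈ (IsLocalRing.maximalIdeal (Localization.AtPrime q.asIdeal)) ^ m → x ∈ (IsLocalRing.maximalIdeal (Localization.AtPrime (PrimeSpectrum.comap (algebraMap (MvPolynomial (Fin n) A) (AdicCompletion (I.map (algebraMap A (MvPolynomial (Fin n) A))) (MvPolynomial (Fin n) A))) q).asIdeal)) ^ m) ∧ (∀ y : (Localization.AtPrime q.asIdeal), ∃ x : (Localization.AtPrime (PrimeSpectrum.comap (algebraMap (MvPolynomial (Fin n) A) (AdicCompletion (I.map (algebraMap A (MvPolynomial (Fin n) A))) (MvPolynomial (Fin n) A))) q).asIdeal), y - (Localization.localRingHom (PrimeSpectrum.comap (algebraMap (MvPolynomial (Fin n) A) (AdicCompletion (I.map (algebraMap A (MvPolynomial (Fin n) A))) (MvPolynomial (Fin n) A))) q).asIdeal q.asIdeal (algebraMap (MvPolynomial (Fin n) A) (AdicCompletion (I.map (algebraMap A (MvPolynomial (Fin n) A))) (MvPolynomial (Fin n) A))) rfl) x ∈ (IsLocalRing.maximalIdeal (Localization.AtPrime q.asIdeal)) ^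 m) := by
  classical
  let P₀ := MvPolynomial (Fin n) A
  let J : Ideal P₀ := I.map (algebraMap A P₀)
  let B := AdicCompletion J P₀
  have hJfg : J.FG := J.fg_of_isNoetherianRing
  haveI : IsNoetherianRing (P₀ ⧸ J) :=
    isNoetherianRing_of_surjective P₀ _ (Ideal.Quotient.mk J) Ideal.Quotient.mk_surjective
  haveI : IsNoetherianRing B := Groth.Agent.CplFlat.isNoetherianRing_completion_of_fg J hJfg
  let IB : Ideal B := I.map (algebraMap A B)
  have hIB : IB = J.map (algebraMap P₀ B) := by rw [Ideal.map_map, ← IsScalarTower.algebraMap_eq]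
  haveI : IsAdicComplete IB B := hIB ▸ Groth.Agent.CplFlat.isAdicComplete_map J P₀ hJfg
  have hlev : ∀ x : B, ∃ c : P₀, x - algebraMap P₀ B c ∈ IB := fun x => by
    obtain ⟨c, hc⟩ := Submodule.Quotient.mk_surjective _ (AdicCompletion.eval J P₀ 1 x)
    refine ⟨c, ?_⟩
    rw [hIB, ← pow_one (J.map _), Groth.Agent.CplFlat.mem_pow_iff J hJfg, map_sub, sub_eq_zero, ← hc]
    rfl
  -- dense images in finite quotients are everything
  have hdense : ∀ 𝔞 : Ideal B, Module.Finite A (B ⧸ 𝔞) → ∀ x : B, ∃ c : P₀, x - algebraMap P₀ B c ∈ 𝔞 := by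
    intro 𝔞 h𝔞 x
    let β : P₀ →ₐ[A] B ⧸ 𝔞 := (Ideal.Quotient.mkₐ A 𝔞).comp (IsScalarTower.toAlgHom A P₀ B)
    have htop : (⊤ : Submodule A (B ⧸ 𝔞)) ≤ Subalgebra.toSubmodule β.range := by
      refine Submodule.le_of_le_smul_of_le_jacobson_bot h𝔞.fg_top
        (IsAdicComplete.le_jacobson_bot I) fun y _ => ?_
      obtain ⟨y, rfl⟩ := Ideal.Quotient.mk_surjective y
      obtain ⟨c, hc⟩ := hlev y
      refine Submodule.mem_sup.2 ⟨β c, β.mem_range_self c, Ideal.Quotient.mk 𝔞 (y - algebraMap P₀ B c), ?_, ?_⟩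
      · rw [Ideal.smul_top_eq_map, Submodule.restrictScalars_mem]
        have := Ideal.mem_map_of_mem (Ideal.Quotient.mk 𝔞) hc
        rwa [Ideal.map_map] at this
      · show Ideal.Quotient.mk 𝔞 (algebraMap P₀ B c) + _ = _
        rw [← map_add, add_sub_cancel]
    obtain ⟨c, hc⟩ := htop (Submodule.mem_top (x := Ideal.Quotient.mk 𝔞 x))
    exact ⟨c, Ideal.Quotient.eq.1 (show Ideal.Quotient.mk 𝔞 x = Ideal.Quotient.mk 𝔞 (algebraMap P₀ B c) from hc.symm)⟩
  have hft : Algebra.FiniteType A (B ⧸ (q.asIdeal ⊔ IB)) :=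
    Algebra.FiniteType.of_surjective
      ((Ideal.Quotient.mkₐ A (q.asIdeal ⊔ IB)).comp (IsScalarTower.toAlgHom A P₀ B)) fun x => by
        obtain ⟨x, rfl⟩ := Ideal.Quotient.mk_surjective x
        obtain ⟨c, hc⟩ := hlev x
        exact ⟨c, (Ideal.Quotient.eq.2 (Ideal.mem_sup_right hc)).symm⟩
  haveI hfin : Module.Finite A (B ⧸ q.asIdeal) := RigClosed17.finite_of_residue I q hq.1 hq.2 hft
    (RigClosed17.residue_of_rigClosed_comap I q hq.1 hft hp.2)
  let q₀ : Ideal P₀ := (PrimeSpectrum.comap (algebraMap P₀ B) q).asIdeal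
  haveI : q₀.IsPrime := (PrimeSpectrum.comap (algebraMap P₀ B) q).2
  -- the prime is extended from the polynomial ring
  have hqq : q₀.map (algebraMap P₀ B) = q.asIdeal := by
    let Q := q₀.map (algebraMap P₀ B)
    have hQ : Q ≤ q.asIdeal := Ideal.map_comap_le
    haveI : Module.Finite A (P₀ ⧸ q₀) :=
      Module.Finite.of_injective
        ((Ideal.Quotient.liftₐ q₀ ((Ideal.Quotient.mkₐ A q.asIdeal).comp (IsScalarTower.toAlgHom A P₀ B))
          (fun c hc => Ideal.Quotient.eq_zero_iff_mem.2 hc)).toLinearMap)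
        ((injective_iff_map_eq_zero _).2 fun c hc => by
          obtain ⟨c, rfl⟩ := Ideal.Quotient.mk_surjective c
          exact Ideal.Quotient.eq_zero_iff_mem.2 (Ideal.Quotient.eq_zero_iff_mem.1 hc : algebraMap P₀ B c ∈ q.asIdeal))
    have hfinQ : Module.Finite A (B ⧸ Q) := by
      refine RigClosed17.finite_quotient I Q ?_
      refine Module.Finite.of_surjective
        ((Ideal.Quotient.liftₐ q₀ ((Ideal.Quotient.mkₐ A (Q ⊔ IB)).comp (IsScalarTower.toAlgHom A P₀ B))
          (fun c hc => Ideal.Quotient.eq_zero_iff_mem.2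
            (Ideal.mem_sup_left (Ideal.mem_map_of_mem _ hc)))).toLinearMap) fun x => ?_
      obtain ⟨x, rfl⟩ := Ideal.Quotient.mk_surjective x
      obtain ⟨c, hc⟩ := hlev x
      exact ⟨Ideal.Quotient.mk _ c, (Ideal.Quotient.eq.2 (Ideal.mem_sup_right hc)).symm⟩
    refine le_antisymm hQ fun x hx => ?_
    obtain ⟨c, hc⟩ := hdense Q hfinQ x
    have hcq : c ∈ q₀ := by
      show algebraMap P₀ B c ∈ q.asIdeal
      have h2 := q.asIdeal.sub_mem hx (hQ hc)
      rwa [sub_sub_cancel] at h2
    simpa using add_mem hc (Ideal.mem_map_of_mem (algebraMap P₀ B) hcq)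
  let R := Localization.AtPrime q₀
  let S := Localization.AtPrime q.asIdeal
  let φ : R →+* S := Localization.localRingHom q₀ q.asIdeal (algebraMap P₀ B) rfl
  haveI : IsLocalHom φ := Localization.isLocalHom_localRingHom _ _ _ _
  haveI : Module.Flat P₀ B := AdicCompletion.flat_of_isNoetherian J
  have hflat : φ.Flat := RingHom.Flat.localRingHom (f := algebraMap P₀ B)
    (RingHom.flat_algebraMap_iff.2 ‹_›) _ _ rfl
  have hmm : (IsLocalRing.maximalIdeal R).map φ = IsLocalRing.maximalIdeal S := by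
    rw [← Localization.AtPrime.map_eq_maximalIdeal, Ideal.map_map,
      show φ.comp (algebraMap P₀ R) = (algebraMap B S).comp (algebraMap P₀ B) from
        RingHom.ext fun a => Localization.localRingHom_to_map q₀ q.asIdeal (algebraMap P₀ B) rfl a,
      ← Ideal.map_map, hqq]
    exact Localization.AtPrime.map_eq_maximalIdeal
  refine ⟨fun x hx => RigClosed17.comap_pow_maximal φ hflat hmm m x hx, fun y => ?_⟩
  have h1 : ∀ s : S, ∃ r : R, s - φ r ∈ (IsLocalRing.maximalIdeal R).map φ := by
    intro s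
    rw [hmm]
    obtain ⟨x, ⟨z, hz⟩, rfl⟩ := IsLocalization.exists_mk'_eq q.asIdeal.primeCompl s
    obtain ⟨a, ha⟩ := hdense _ hfin x
    obtain ⟨b, hb⟩ := hdense _ hfin z
    have hbp : b ∉ q₀ := fun h => by
      have h2 : z ∈ q.asIdeal := by
        have h3 := q.asIdeal.add_mem hb (show algebraMap P₀ B b ∈ q.asIdeal from h)
        rwa [sub_add_cancel] at h3
      exact hz h2
    refine ⟨IsLocalization.mk' R a (⟨b, hbp⟩ : q₀.primeCompl), ?_⟩
    rw [show φ (IsLocalization.mk' R a (⟨b, hbp⟩ : q₀.primeCompl)) = IsLocalization.mk' S (algebraMap P₀ B a)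
        (⟨algebraMap P₀ B b, hbp⟩ : q.asIdeal.primeCompl) from
      Localization.localRingHom_mk' q₀ q.asIdeal (algebraMap P₀ B) rfl a ⟨b, hbp⟩,
      ← IsLocalization.mk'_sub (S := S), IsLocalization.AtPrime.mk'_mem_maximal_iff S q.asIdeal]
    show x * algebraMap P₀ B b - algebraMap P₀ B a * z ∈ q.asIdeal
    rw [show x * algebraMap P₀ B b - algebraMap P₀ B a * z =
      (x - algebraMap P₀ B a) * algebraMap P₀ B b - algebraMap P₀ B a * (z - algebraMap P₀ B b) by ring]
    exact sub_mem (Ideal.mul_mem_right _ _ ha) (Ideal.mul_mem_left _ _ hb)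
  obtain ⟨r, hr⟩ := RigClosed17.dense_of_residue φ _ h1 m y
  rw [hmm] at hr
  exact ⟨r, hr⟩

end Groth.Agent.S8839
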