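import Groth.Statements.S8840
import Groth.Agent.RigClosed17.Basic
import Groth.Agent.CplFlat.Noetherian
import Groth.Agent.S8837
-- import your own Groth.Agent.* helpers here

set_option autoImplicit false
universe u
open AdicRing

namespace Groth.Agent.S8840

/-- Let A be a Noetherian ring complete for the adic topology of an ideal I, and B a Noetherian
A-algebra complete for the IB-adic topology with B/IB of finite type over A (an adic morphism,
topologically of finite type, of adic Noetherian topological rings). Let q be a prime of B which is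
rig-closed (IB ⊄ q and q maximal among the primes not containing IB). Then there exists f ∈ A which
maps to a unit in B/q such that the following holds. Let A_{f} and B_{f} be the completed principal
localizations (the I-adic completions of A_f and B_f) and ψ : A_{f} → B_{f} the canonical map,
characterised here as any ring map compatible with A_f → B_f (there is exactly one). Then the
inverse image p' under ψ of the ideal q' = q B_{f} is a rig-closed prime of A_{f}: p' is prime, I
A_{f} ⊄ p', and p' is maximal among the primes of A_{f} not containing I A_{f}. (That q B_{f} is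
itself prime with quotient B/q holds because f is a unit modulo q; it is not restated.) -/
theorem result (A : Type u) [CommRing A] [IsNoetherianRing A] (I : Ideal A) [IsAdicComplete I A] (B : Type u) [CommRing B] [Algebra A B] [IsNoetherianRing B] [IsAdicComplete (I.map (algebraMap A B)) B] (hft : Algebra.FiniteType A (B ⧸ (I.map (algebraMap A B)))) (q : PrimeSpectrum B) (hq : (¬ (I.map (algebraMap A B)) ≤ q.asIdeal ∧ ∀ y : PrimeSpectrum B, q ≤ y → ¬ (I.map (algebraMap A B)) ≤ y.asIdeal → y = q)) : ∃ f : A, IsUnit (Ideal.Quotient.mk q.asIdeal (algebraMap A B f)) ∧ ∀ ψ : (AdicCompletion (I.map (algebraMap A (Localization.Away f))) (Localization.Away f)) →+* (AdicCompletion ((I.map (algebraMap A B)).map (algebraMap B (Localization.Away (algebraMap A B f)))) (Localization.Away (algebraMap A B f))), ψ.comp (algebraMap (Localization.Away f) (AdicCompletion (I.map (algebraMap A (Localization.Away f))) (Localization.Away f))) = (algebraMap (Localization.Away (algebraMap A B f)) (AdicCompletion ((I.map (algebraMap A B)).map (algebraMap B (Localization.Away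 (algebraMap A B f)))) (Localization.Away (algebraMap A B f)))).comp (Localization.awayMap (algebraMap A B) f) → (((q.asIdeal.map (algebraMap B (AdicCompletion ((I.map (algebraMap A B)).map (algebraMap B (Localization.Away (algebraMap A B f)))) (Localization.Away (algebraMap A B f))))).comap ψ).IsPrime ∧ ¬ (I.map (algebraMap A (AdicCompletion (I.map (algebraMap A (Localization.Away f))) (Localization.Away f)))) ≤ ((q.asIdeal.map (algebraMap B (AdicCompletion ((I.map (algebraMap A B)).map (algebraMap B (Localization.Away (algebraMap A B f)))) (Localization.Away (algebraMap A B f))))).comap ψ) ∧ ∀ y : PrimeSpectrum (AdicCompletion (I.map (algebraMap A (Localization.Away f))) (Localization.Away f)), ((q.asIdeal.map (algebraMap B (AdicCompletion ((I.map (algebraMap A B)).map (algebraMap B (Localization.Away (algebraMap A B f)))) (Localization.Away (algebraMap A B f))))).comap ψ) ≤ y.asIdeal → ¬ (I.map (algebraMap A (AdicCompletion (I.map (algebraMap A (Localization.Away f))) (Localization.Away f)))) ≤ y.asIdeal → y.asIdeal = ((q.asIdeal.map (algebraMap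 B (AdicCompletion ((I.map (algebraMap A B)).map (algebraMap B (Localization.Away (algebraMap A B f)))) (Localization.Away (algebraMap A B f))))).comap ψ)) := by
  classical
  have hft' := RigClosed17.finiteType_sup I hft q.asIdeal
  obtain ⟨M, hM, hqM, hIM, huniq⟩ := RigClosed17.exists_maximal _ q hq.1 hq.2
  haveI := hM
  haveI := hft
  haveI hEft : Algebra.FiniteType A (B ⧸ M) := Algebra.FiniteType.of_surjective
    (Ideal.Quotient.factorₐ A hIM) (Ideal.Quotient.factor_surjective hIM)
  let P := M.under A
  -- denominators making the residue field integral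
  have halg : ∀ x : B ⧸ M, ∃ d : A, d ∉ P ∧ IsIntegral A (d • x) := by
    let D := A ⧸ P
    letI := Ideal.Quotient.field M
    haveI : P.IsPrime := Ideal.IsPrime.under A M
    haveI : FaithfulSMul D (B ⧸ M) := by
      rw [faithfulSMul_iff_algebraMap_injective]
      exact Ideal.quotientMap_injective
    haveI : Algebra.FiniteType D (B ⧸ M) := Algebra.FiniteType.of_restrictScalars_finiteType A _ _
    letI := FractionRing.liftAlgebra D (B ⧸ M)
    haveI : Algebra.FiniteType (FractionRing D) (B ⧸ M) :=
      Algebra.FiniteType.of_restrictScalars_finiteType D _ _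
    haveI : Module.Finite (FractionRing D) (B ⧸ M) := finite_of_finite_type_of_isJacobsonRing _ _
    intro x
    have hx : IsAlgebraic D x :=
      (IsFractionRing.isAlgebraic_iff D (FractionRing D) (B ⧸ M)).2
        (IsIntegral.of_finite (FractionRing D) x).isAlgebraic
    obtain ⟨y, hy, hyi⟩ := hx.exists_integral_multiple
    obtain ⟨d, rfl⟩ := Ideal.Quotient.mk_surjective y
    refine ⟨d, fun h => hy (Ideal.Quotient.eq_zero_iff_mem.2 h), ?_⟩
    haveI : Algebra.IsIntegral A D := Algebra.IsIntegral.of_finite A D
    have := isIntegral_trans (R := A) _ hyi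
    rwa [← Ideal.Quotient.algebraMap_eq, algebraMap_smul] at this
  choose d hd hdi using halg
  obtain ⟨S, hS⟩ := hEft.out
  set f := ∏ x ∈ S, d x with hf
  let g := algebraMap A B f
  have hu : IsUnit (Ideal.Quotient.mk q.asIdeal g) := by
    by_contra hu
    obtain ⟨m, hm, hmem⟩ := exists_max_ideal_of_mem_nonunits (a := Ideal.Quotient.mk q.asIdeal g) hu
    haveI := hm
    have hqm : q.asIdeal ≤ m.comap (Ideal.Quotient.mk q.asIdeal) := fun x hx => by
      show Ideal.Quotient.mk q.asIdeal x ∈ m
      rw [Ideal.Quotient.eq_zero_iff_mem.2 hx]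
      exact zero_mem _
    haveI hmc := Ideal.comap_isMaximal_of_surjective (Ideal.Quotient.mk q.asIdeal)
      Ideal.Quotient.mk_surjective (K := m)
    have he : m.comap (Ideal.Quotient.mk q.asIdeal) = M := by
      rcases huniq _ hmc.isPrime hqm with e | e
      · rw [e]
        exact (e ▸ hmc : q.asIdeal.IsMaximal).eq_of_le hM.ne_top hqM
      · exact e
    haveI : P.IsPrime := Ideal.IsPrime.under A M
    have hgM : g ∈ M := he ▸ (hmem : g ∈ m.comap (Ideal.Quotient.mk q.asIdeal))
    obtain ⟨x, -, hx⟩ := (Ideal.IsPrime.prod_mem_iff (p := P)).1 (show f ∈ P from hgM)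
    exact hd x hx
  refine ⟨f, hu, fun ψ hψ => ?_⟩
  let C := Localization.Away f
  let CB := Localization.Away g
  let K : Ideal C := I.map (algebraMap A C)
  let KB : Ideal CB := (I.map (algebraMap A B)).map (algebraMap B CB)
  let A' := AdicCompletion K C
  let B' := AdicCompletion KB CB
  haveI : IsNoetherianRing C := IsLocalization.isNoetherianRing (Submonoid.powers f) C inferInstance
  haveI : IsNoetherianRing CB := IsLocalization.isNoetherianRing (Submonoid.powers g) CB inferInstance
  haveI : IsNoetherianRing (C ⧸ K) :=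
    isNoetherianRing_of_surjective C _ (Ideal.Quotient.mk K) Ideal.Quotient.mk_surjective
  haveI : IsNoetherianRing (CB ⧸ KB) :=
    isNoetherianRing_of_surjective CB _ (Ideal.Quotient.mk KB) Ideal.Quotient.mk_surjective
  have hKfg : K.FG := K.fg_of_isNoetherianRing
  have hKBfg : KB.FG := KB.fg_of_isNoetherianRing
  haveI : IsNoetherianRing A' := Groth.Agent.CplFlat.isNoetherianRing_completion_of_fg K hKfg
  haveI : IsNoetherianRing B' := Groth.Agent.CplFlat.isNoetherianRing_completion_of_fg KB hKBfg
  let I' : Ideal A' := I.map (algebraMap A A')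
  haveI : IsAdicComplete I' A' := by
    have := Groth.Agent.CplFlat.isAdicComplete_map K C hKfg
    rwa [Ideal.map_map, ← IsScalarTower.algebraMap_eq] at this
  letI : Algebra A' B' := ψ.toAlgebra
  have hψA : ∀ a, ψ (algebraMap A A' a) = algebraMap B B' (algebraMap A B a) := fun a => by
    rw [IsScalarTower.algebraMap_apply A C A', IsScalarTower.algebraMap_apply B CB B']
    refine (RingHom.congr_fun hψ (algebraMap A C a)).trans ?_
    exact congrArg (algebraMap CB B') (IsLocalization.map_eq _ a)
  haveI : IsScalarTower A A' B' := IsScalarTower.of_algebraMap_eq fun a => by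
    rw [IsScalarTower.algebraMap_apply A B B', RingHom.algebraMap_toAlgebra, hψA]
  have hJ : I'.map (algebraMap A' B') = (I.map (algebraMap A B)).map (algebraMap B B') := by
    rw [Ideal.map_map, Ideal.map_map, ← IsScalarTower.algebraMap_eq, ← IsScalarTower.algebraMap_eq]
  haveI : IsAdicComplete (I'.map (algebraMap A' B')) B' := by
    have := Groth.Agent.CplFlat.isAdicComplete_map KB CB hKBfg
    rwa [Ideal.map_map, ← IsScalarTower.algebraMap_eq, ← hJ] at this
  -- the prime `q B'`
  obtain ⟨hq'p, hbij⟩ := S8837.result B (I.map (algebraMap A B)) q.asIdeal g hu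
  let q' : PrimeSpectrum B' := ⟨q.asIdeal.map (algebraMap B B'), hq'p⟩
  haveI := hq'p
  have hinj : ∀ b, algebraMap B B' b ∈ q'.asIdeal → b ∈ q.asIdeal := fun b hb =>
    Ideal.Quotient.eq_zero_iff_mem.1 (hbij.1 (by
      rw [Ideal.quotientMap_mk, map_zero, Ideal.Quotient.eq_zero_iff_mem]; exact hb))
  have hsurj : ∀ x : B', ∃ b, x - algebraMap B B' b ∈ q'.asIdeal := fun x => by
    obtain ⟨y, hy⟩ := hbij.2 (Ideal.Quotient.mk _ x)
    obtain ⟨b, rfl⟩ := Ideal.Quotient.mk_surjective y
    rw [Ideal.quotientMap_mk] at hy
    exact ⟨b, Ideal.Quotient.eq.1 hy.symm⟩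
  have hn : ¬ I'.map (algebraMap A' B') ≤ q'.asIdeal := fun h => hq.1 fun x hx =>
    hinj x (h (hJ ▸ Ideal.mem_map_of_mem _ hx))
  have hmax : ∀ y : PrimeSpectrum B', q' ≤ y → ¬ I'.map (algebraMap A' B') ≤ y.asIdeal → y = q' := by
    intro y hy hIy
    have hc := hq.2 (PrimeSpectrum.comap (algebraMap B B') y)
      (fun x hx => hy (Ideal.mem_map_of_mem _ hx))
      (fun h => hIy (hJ ▸ Ideal.map_le_iff_le_comap.2 h))
    refine PrimeSpectrum.ext (le_antisymm (fun x hx => ?_) hy)
    obtain ⟨b, hb⟩ := hsurj x
    have hby : algebraMap B B' b ∈ y.asIdeal := by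
      simpa using sub_mem hx (hy hb)
    have hbq : b ∈ q.asIdeal := (congrArg PrimeSpectrum.asIdeal hc) ▸ hby
    simpa using add_mem hb (Ideal.mem_map_of_mem (algebraMap B B') hbq)
  haveI := hft'
  have hft'' : Algebra.FiniteType A (B' ⧸ (q'.asIdeal ⊔ I'.map (algebraMap A' B'))) :=
    Algebra.FiniteType.of_surjective
      (Ideal.Quotient.liftₐ (q.asIdeal ⊔ I.map (algebraMap A B))
        ((Ideal.Quotient.mkₐ A (q'.asIdeal ⊔ I'.map (algebraMap A' B'))).comp
          (IsScalarTower.toAlgHom A B B')) (fun x hx => Ideal.Quotient.eq_zero_iff_mem.2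
            (show algebraMap B B' x ∈ _ by
              rw [hJ, ← Ideal.map_sup]; exact Ideal.mem_map_of_mem _ hx)))
      (fun x => by
        obtain ⟨x, rfl⟩ := Ideal.Quotient.mk_surjective x
        obtain ⟨b, hb⟩ := hsurj x
        exact ⟨Ideal.Quotient.mk _ b, (Ideal.Quotient.eq.2 (Ideal.mem_sup_left hb)).symm⟩)
  haveI := hft''
  have hres : ∀ m : Ideal B', m.IsMaximal → q'.asIdeal ≤ m → Module.Finite A' (B' ⧸ m) := by
    intro m hm hqm
    haveI := hm
    let e₀ : B →ₐ[A] B' ⧸ m := (Ideal.Quotient.mkₐ A m).comp (IsScalarTower.toAlgHom A B B')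
    have he₀ : Function.Surjective e₀ := fun x => by
      obtain ⟨x, rfl⟩ := Ideal.Quotient.mk_surjective x
      obtain ⟨b, hb⟩ := hsurj x
      exact ⟨b, (Ideal.Quotient.eq.2 (hqm hb)).symm⟩
    have hker : ∀ x ∈ M, e₀ x = 0 := by
      letI := Ideal.Quotient.field m
      have hk : (RingHom.ker e₀.toRingHom).IsMaximal := RingHom.ker_isMaximal_of_surjective _ he₀
      have hqk : q.asIdeal ≤ RingHom.ker e₀.toRingHom := fun x hx =>
        Ideal.Quotient.eq_zero_iff_mem.2 (hqm (Ideal.mem_map_of_mem _ hx))
      rcases huniq _ hk.isPrime hqk with h | h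
      · intro x hx
        have : q.asIdeal = M := (h ▸ hk : q.asIdeal.IsMaximal).eq_of_le hM.ne_top hqM
        show x ∈ RingHom.ker e₀.toRingHom
        rwa [h, this]
      · intro x hx
        show x ∈ RingHom.ker e₀.toRingHom
        rwa [h]
    let e : B ⧸ M →ₐ[A] B' ⧸ m := Ideal.Quotient.liftₐ M e₀ hker
    have he : Function.Surjective e := fun x => by
      obtain ⟨b, rfl⟩ := he₀ x
      exact ⟨Ideal.Quotient.mk M b, rfl⟩
    haveI : Algebra.FiniteType A (B' ⧸ m) := Algebra.FiniteType.of_surjective e he
    haveI : Algebra.FiniteType A' (B' ⧸ m) := Algebra.FiniteType.of_restrictScalars_finiteType A _ _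
    have hint : ∀ x ∈ S, IsIntegral A' (e x) := by
      intro x hx
      have hu : IsUnit (algebraMap A A' (d x)) := by
        refine isUnit_of_dvd_unit (map_dvd _ (Finset.dvd_prod_of_mem d hx)) ?_
        rw [IsScalarTower.algebraMap_apply A C A']
        exact (IsLocalization.Away.algebraMap_isUnit (S := C) f).map _
      obtain ⟨w, hw⟩ := hu
      have h1 : IsIntegral A' ((w : A') • e x) := by
        rw [hw, algebraMap_smul, ← map_smul]
        exact ((hdi x).map e).tower_top
      have h2 := h1.smul (↑w⁻¹ : A')
      rwa [smul_smul, Units.inv_mul, one_smul] at h2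
    haveI : Algebra.IsIntegral A' (B' ⧸ m) := ⟨fun y => by
      obtain ⟨z, rfl⟩ := he y
      have hz : z ∈ Algebra.adjoin A (S : Set (B ⧸ M)) := hS ▸ Algebra.mem_top
      induction hz using Algebra.adjoin_induction with
      | mem x hx => exact hint x hx
      | algebraMap r =>
        rw [AlgHom.commutes, IsScalarTower.algebraMap_apply A A' (B' ⧸ m)]
        exact isIntegral_algebraMap
      | add x y _ _ h1 h2 => rw [map_add]; exact h1.add h2
      | mul x y _ _ h1 h2 => rw [map_mul]; exact h1.mul h2⟩
    exact Algebra.IsIntegral.finite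
  haveI := RigClosed17.finite_of_residue I' q' hn hmax
    (Algebra.FiniteType.of_restrictScalars_finiteType A _ _) hres
  obtain ⟨h1, h2⟩ := RigClosed17.rigClosed_comap_of_finite I' q' hn hmax
  exact ⟨Ideal.IsPrime.comap ψ, h1, fun y hy hIy => h2 y.asIdeal y.2 hy hIy⟩

end Groth.Agent.S8840
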