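import Groth.Statements.S8841
import Groth.Agent.RigClosed17.Basic
import Groth.Agent.RigClosed17.FlatLevel
import Groth.Agent.CplFlat.Noetherian
import Groth.Agent.S8837
-- import your own Groth.Agent.* helpers here

set_option autoImplicit false
universe u
open AdicRing

namespace Groth.Agent.S8841

/-- Residue fields are finite over a ring with Jacobson reduction. -/
theorem finite_residue_jacobson {A B : Type u} [CommRing A] [CommRing B] [Algebra A B] (I : Ideal A)
    [IsJacobsonRing (A ⧸ I)] (m : Ideal B) [m.IsMaximal] (hIm : I.map (algebraMap A B) ≤ m)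
    [Algebra.FiniteType A (B ⧸ m)] : Module.Finite A (B ⧸ m) := by
  letI : Algebra (A ⧸ I) (B ⧸ m) :=
    (Ideal.quotientMap m (algebraMap A B) (Ideal.map_le_iff_le_comap.1 hIm)).toAlgebra
  haveI : IsScalarTower A (A ⧸ I) (B ⧸ m) := IsScalarTower.of_algebraMap_eq fun _ => rfl
  letI := Ideal.Quotient.field m
  haveI : Algebra.FiniteType (A ⧸ I) (B ⧸ m) := Algebra.FiniteType.of_restrictScalars_finiteType A _ _
  haveI : Module.Finite (A ⧸ I) (B ⧸ m) := finite_of_finite_type_of_isJacobsonRing _ _
  exact Module.Finite.trans (A ⧸ I) (B ⧸ m)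

/-- Let A be a Noetherian ring complete for the adic topology of an ideal I, and B a Noetherian
A-algebra complete for the IB-adic topology with B/IB of finite type over A (an adic morphism,
topologically of finite type, of adic Noetherian topological rings), and assume A/I is a Jacobson
ring. Suppose A → B is naively rig-flat: whenever q is a rig-closed prime of B (IB ⊄ q and q maximal
among the primes not containing IB), the localization B_q is an A-flat ring. Then A → B is rig-flat:
for every f ∈ A, letting A_{f} and B_{f} be the completed principal localizations (the I-adic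
completions of A_f and B_f) and ψ : A_{f} → B_{f} the canonical map, characterised here as any ring
map compatible with A_f → B_f (there is exactly one), the local ring (B_{f})_{q'} is flat over A_{f}
via ψ for every rig-closed prime q' of B_{f} (I B_{f} ⊄ q' and q' maximal among the primes not
containing I B_{f}). (That A_{f} → B_{f} is again adic and topologically of finite type is not
restated.) -/
theorem result (A : Type u) [CommRing A] [IsNoetherianRing A] (I : Ideal A) [IsAdicComplete I A] (B : Type u) [CommRing B] [Algebra A B] [IsNoetherianRing B] [IsAdicComplete (I.map (algebraMap A B)) B] (hft : Algebra.FiniteType A (B ⧸ (I.map (algebraMap A B)))) (hJ : IsJacobsonRing (A ⧸ I)) (hnaive : ∀ q : PrimeSpectrum B, (¬ (I.map (algebraMap A B)) ≤ q.asIdeal ∧ ∀ y : PrimeSpectrum B, q ≤ y → ¬ (I.map (algebraMap A B)) ≤ y.asIdeal → y = q) → (algebraMap A (Localization.AtPrime q.asIdeal)).Flat) (f : A) (ψ : (AdicCompletion (I.map (algebraMap A (Localization.Away f))) (Localization.Away f)) →+* (AdicCompletion ((I.map (algebraMap A B)).map (algebraMap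 B (Localization.Away (algebraMap A B f)))) (Localization.Away (algebraMap A B f)))) (hψ : ψ.comp (algebraMap (Localization.Away f) (AdicCompletion (I.map (algebraMap A (Localization.Away f))) (Localization.Away f))) = (algebraMap (Localization.Away (algebraMap A B f)) (AdicCompletion ((I.map (algebraMap A B)).map (algebraMap B (Localization.Away (algebraMap A B f)))) (Localization.Away (algebraMap A B f)))).comp (Localization.awayMap (algebraMap A B) f)) (q' : PrimeSpectrum (AdicCompletion ((I.map (algebraMap A B)).map (algebraMap B (Localization.Away (algebraMap A B f)))) (Localization.Away (algebraMap A B f)))) (hq' : (¬ ((((I.map (algebraMap A B))).map (algebraMap B (Localization.Away (algebraMap A B f)))).map (algebraMap (Localization.Away (algebraMap A B f)) (AdicCompletion ((I.map (algebraMap A B)).map (algebraMap B (Localization.Away (algebraMap A B f)))) (Localization.Away (algebraMap A B f))))) ≤ q'.asIdeal ∧ ∀ y : PrimeSpectrum (AdicCompletion ((I.map (algebraMap A B)).map (algebraMap B (Localization.Away (algebraMap A B f)))) (Localization.Away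 (algebraMap A B f))), q' ≤ y → ¬ ((((I.map (algebraMap A B))).map (algebraMap B (Localization.Away (algebraMap A B f)))).map (algebraMap (Localization.Away (algebraMap A B f)) (AdicCompletion ((I.map (algebraMap A B)).map (algebraMap B (Localization.Away (algebraMap A B f)))) (Localization.Away (algebraMap A B f))))) ≤ y.asIdeal → y = q')) : ((algebraMap (AdicCompletion ((I.map (algebraMap A B)).map (algebraMap B (Localization.Away (algebraMap A B f)))) (Localization.Away (algebraMap A B f))) (Localization.AtPrime q'.asIdeal)).comp ψ).Flat := by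
  classical
  haveI := hJ
  haveI := hft
  let g := algebraMap A B f
  let C := Localization.Away f
  let CB := Localization.Away g
  let J : Ideal B := I.map (algebraMap A B)
  let K : Ideal C := I.map (algebraMap A C)
  let KB : Ideal CB := J.map (algebraMap B CB)
  let A' := AdicCompletion K C
  let B' := AdicCompletion KB CB
  haveI : IsNoetherianRing C := IsLocalization.isNoetherianRing (Submonoid.powers f) C inferInstance
  haveI : IsNoetherianRing CB := IsLocalization.isNoetherianRing (Submonoid.powers g) CB inferInstance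
  haveI : IsNoetherianRing (C ⧸ K) :=
    isNoetherianRing_of_surjective C _ (Ideal.Quotient.mk K) Ideal.Quotient.mk_surjective
  haveI : IsNoetherianRing (CB ⧸ KB) :=
    isNoetherianRing_of_surjective CB _ (Ideal.Quotient.mk KB) Ideal.Quotient.mk_surjective
  have hKfg : K.FG := K.fg_of_isNoetherianRing
  have hKBfg : KB.FG := KB.fg_of_isNoetherianRing
  haveI : IsNoetherianRing A' := Groth.Agent.CplFlat.isNoetherianRing_completion_of_fg K hKfg
  haveI : IsNoetherianRing B' := Groth.Agent.CplFlat.isNoetherianRing_completion_of_fg KB hKBfg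
  let J' : Ideal B' := J.map (algebraMap B B')
  have hJ' : J' = KB.map (algebraMap CB B') := by
    rw [Ideal.map_map, ← IsScalarTower.algebraMap_eq]
  haveI : IsAdicComplete J' B' := hJ' ▸ Groth.Agent.CplFlat.isAdicComplete_map KB CB hKBfg
  have hn : ¬ J' ≤ q'.asIdeal := hJ' ▸ hq'.1
  have hmax : ∀ y : PrimeSpectrum B', q' ≤ y → ¬ J' ≤ y.asIdeal → y = q' := hJ' ▸ hq'.2
  haveI : IsJacobsonRing (B ⧸ J) :=
    letI : Algebra (A ⧸ I) (B ⧸ J) :=
      (Ideal.quotientMap J (algebraMap A B) Ideal.le_comap_map).toAlgebra
    haveI : IsScalarTower A (A ⧸ I) (B ⧸ J) := IsScalarTower.of_algebraMap_eq fun _ => rfl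
    haveI : Algebra.FiniteType (A ⧸ I) (B ⧸ J) := Algebra.FiniteType.of_restrictScalars_finiteType A _ _
    isJacobsonRing_of_finiteType (A := A ⧸ I)
  -- `B' / J'` is of finite type over `B`
  have hlev : ∀ x : B', ∃ c : CB, x - algebraMap CB B' c ∈ J' := fun x => by
    obtain ⟨c, hc⟩ := Submodule.Quotient.mk_surjective _ (AdicCompletion.eval KB CB 1 x)
    refine ⟨c, ?_⟩
    rw [hJ', ← pow_one (KB.map _), Groth.Agent.CplFlat.mem_pow_iff KB hKBfg, map_sub, sub_eq_zero, ← hc]
    rfl
  haveI : Algebra.FinitePresentation B CB := IsLocalization.Away.finitePresentation g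
  have hft' : ∀ N : Ideal B', J' ≤ N → Algebra.FiniteType B (B' ⧸ N) := fun N hN =>
    Algebra.FiniteType.of_surjective ((Ideal.Quotient.mkₐ B N).comp (IsScalarTower.toAlgHom B CB B'))
      fun x => by
        obtain ⟨x, rfl⟩ := Ideal.Quotient.mk_surjective x
        obtain ⟨c, hc⟩ := hlev x
        exact ⟨c, (Ideal.Quotient.eq.2 (hN hc)).symm⟩
  have hjac : ∀ m : Ideal B', m.IsMaximal → J' ≤ m := fun m hm =>
    (IsAdicComplete.le_jacobson_bot J').trans (sInf_le ⟨bot_le, hm⟩)
  -- `q` is rig-closed in `B`
  haveI hfin' : Module.Finite B (B' ⧸ q'.asIdeal) :=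
    RigClosed17.finite_of_residue J q' hn hmax (hft' _ le_sup_right) fun m hm hqm => by
      haveI := hm
      haveI := hft' m (hjac m hm)
      exact finite_residue_jacobson J m (hjac m hm)
  obtain ⟨hqn, hqmax⟩ := RigClosed17.rigClosed_comap_of_finite J q' hn hmax
  let q : PrimeSpectrum B := PrimeSpectrum.comap (algebraMap B B') q'
  have hqmax' : ∀ y : PrimeSpectrum B, q ≤ y → ¬ J ≤ y.asIdeal → y = q := fun y hy hIy =>
    PrimeSpectrum.ext (hqmax y.asIdeal y.2 hy hIy)
  haveI hfin : Module.Finite A (B ⧸ q.asIdeal) :=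
    RigClosed17.finite_of_residue I q hqn hqmax' (RigClosed17.finiteType_sup I hft q.asIdeal)
      fun m hm hqm => by
        haveI := hm
        have hIm : J ≤ m := (IsAdicComplete.le_jacobson_bot J).trans (sInf_le ⟨bot_le, hm⟩)
        haveI : Algebra.FiniteType A (B ⧸ m) := Algebra.FiniteType.of_surjective
          (Ideal.Quotient.factorₐ A hIm) (Ideal.Quotient.factor_surjective hIm)
        exact finite_residue_jacobson I m hIm
  have hflat : (algebraMap A (Localization.AtPrime q.asIdeal)).Flat := hnaive q ⟨hqn, hqmax'⟩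
  -- `p` and the units
  let p : Ideal A := q.asIdeal.comap (algebraMap A B)
  haveI : p.IsPrime := Ideal.IsPrime.comap _
  have hgq : IsUnit (algebraMap B (B' ⧸ q'.asIdeal) g) := by
    rw [IsScalarTower.algebraMap_apply B B' (B' ⧸ q'.asIdeal), IsScalarTower.algebraMap_apply B CB B']
    exact ((IsLocalization.Away.algebraMap_isUnit (S := CB) g).map _).map _
  have hgq' : IsUnit (Ideal.Quotient.mk q.asIdeal g) := by
    let e : B ⧸ q.asIdeal →+* B' ⧸ q'.asIdeal := Ideal.quotientMap q'.asIdeal (algebraMap B B') le_rfl
    have he : Function.Injective e := Ideal.quotientMap_injective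
    have hei : e.IsIntegral := fun x =>
      RingHom.IsIntegralElem.of_comp (f := Ideal.Quotient.mk q.asIdeal) (g := e)
        ((Algebra.IsIntegral.of_finite B (B' ⧸ q'.asIdeal)).isIntegral x)
    exact (hei.isLocalHom he).map_nonunit _ (show IsUnit (e (Ideal.Quotient.mk q.asIdeal g)) from hgq)
  have hfp : IsUnit (Ideal.Quotient.mk p f) := by
    let e : A ⧸ p →+* B ⧸ q.asIdeal := Ideal.quotientMap q.asIdeal (algebraMap A B) le_rfl
    have he : Function.Injective e := Ideal.quotientMap_injective
    have hei : e.IsIntegral := fun x =>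
      RingHom.IsIntegralElem.of_comp (f := Ideal.Quotient.mk p) (g := e)
        ((Algebra.IsIntegral.of_finite A (B ⧸ q.asIdeal)).isIntegral x)
    exact (hei.isLocalHom he).map_nonunit _ (show IsUnit (e (Ideal.Quotient.mk p f)) from hgq')
  obtain ⟨hPp, hbij⟩ := S8837.result A I p f hfp
  let P : Ideal A' := p.map (algebraMap A A')
  let p' : Ideal A' := q'.asIdeal.comap ψ
  haveI : p'.IsPrime := Ideal.IsPrime.comap _
  have hψA : ∀ a, ψ (algebraMap A A' a) = algebraMap B B' (algebraMap A B a) := fun a => by
    rw [IsScalarTower.algebraMap_apply A C A', IsScalarTower.algebraMap_apply B CB B']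
    refine (RingHom.congr_fun hψ (algebraMap A C a)).trans ?_
    exact congrArg (algebraMap CB B') (IsLocalization.map_eq _ a)
  have hp'c : p'.comap (algebraMap A A') = p := by
    ext a
    show ψ (algebraMap A A' a) ∈ q'.asIdeal ↔ _
    rw [hψA]
    rfl
  have hPle : P ≤ p' := Ideal.map_le_iff_le_comap.2 hp'c.ge
  have hsurjA : ∀ x : A', ∃ a, x - algebraMap A A' a ∈ P := fun x => by
    obtain ⟨y, hy⟩ := hbij.2 (Ideal.Quotient.mk _ x)
    obtain ⟨b, rfl⟩ := Ideal.Quotient.mk_surjective y
    rw [Ideal.quotientMap_mk] at hy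
    exact ⟨b, Ideal.Quotient.eq.1 hy.symm⟩
  have hp'P : p' = P := le_antisymm (fun x hx => by
    obtain ⟨a, ha⟩ := hsurjA x
    have : algebraMap A A' a ∈ p' := by simpa using sub_mem hx (hPle ha)
    have hap : a ∈ p := hp'c ▸ this
    simpa using add_mem ha (Ideal.mem_map_of_mem (algebraMap A A') hap)) hPle
  -- the local rings
  let Rp := Localization.AtPrime p
  let R' := Localization.AtPrime p'
  let S := Localization.AtPrime q'.asIdeal
  let φ : Rp →+* R' := Localization.localRingHom p p' (algebraMap A A') hp'c.symm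
  let η : R' →+* S := Localization.localRingHom p' q'.asIdeal ψ rfl
  haveI : IsLocalHom φ := Localization.isLocalHom_localRingHom _ _ _ _
  haveI : IsLocalHom η := Localization.isLocalHom_localRingHom _ _ _ _
  letI : Algebra Rp R' := φ.toAlgebra
  letI : Algebra R' S := η.toAlgebra
  letI : Algebra Rp S := (η.comp φ).toAlgebra
  haveI : IsScalarTower Rp R' S := IsScalarTower.of_algebraMap_eq fun _ => rfl
  haveI : IsLocalHom (algebraMap Rp R') := ‹IsLocalHom φ›
  haveI : IsLocalHom (algebraMap R' S) := ‹IsLocalHom η›
  haveI : IsScalarTower A Rp S := IsScalarTower.of_algebraMap_eq fun a => by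
    show _ = η (φ (algebraMap A Rp a))
    rw [Localization.localRingHom_to_map, Localization.localRingHom_to_map, hψA,
      IsScalarTower.algebraMap_apply A B S, IsScalarTower.algebraMap_apply B B' S]
  haveI : Module.Flat C A' := AdicCompletion.flat_of_isNoetherian K
  haveI : Module.Flat A A' := Module.Flat.trans A C A'
  haveI : Module.Flat CB B' := AdicCompletion.flat_of_isNoetherian KB
  haveI : Module.Flat B B' := Module.Flat.trans B CB B'
  haveI : Module.Flat Rp R' := RingHom.Flat.localRingHom (f := algebraMap A A')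
    (RingHom.flat_algebraMap_iff.2 ‹_›) _ _ hp'c.symm
  haveI : Module.FaithfullyFlat Rp R' := Module.FaithfullyFlat.of_flat_of_isLocalHom
  have hAS : Module.Flat A S := by
    let χ : Localization.AtPrime q.asIdeal →+* S :=
      Localization.localRingHom q.asIdeal q'.asIdeal (algebraMap B B') rfl
    have h1 : (χ.comp (algebraMap A (Localization.AtPrime q.asIdeal))).Flat := hflat.comp
      (RingHom.Flat.localRingHom (f := algebraMap B B') (RingHom.flat_algebraMap_iff.2 ‹_›) _ _ rfl)
    rw [show χ.comp (algebraMap A (Localization.AtPrime q.asIdeal)) = algebraMap A S from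
      RingHom.ext fun a => by
        show χ (algebraMap A (Localization.AtPrime q.asIdeal) a) = _
        rw [IsScalarTower.algebraMap_apply A B (Localization.AtPrime q.asIdeal),
          Localization.localRingHom_to_map, IsScalarTower.algebraMap_apply A B S,
          IsScalarTower.algebraMap_apply B B' S]] at h1
    exact RingHom.flat_algebraMap_iff.1 h1
  haveI : Module.Flat Rp S := (Module.flat_iff_of_isLocalization Rp p.primeCompl S).2 hAS
  let m₀ := IsLocalRing.maximalIdeal Rp
  let m' := IsLocalRing.maximalIdeal R'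
  have hm' : m₀.map φ = m' := by
    rw [show m₀ = p.map (algebraMap A Rp) from (Localization.AtPrime.map_eq_maximalIdeal).symm,
      Ideal.map_map, show φ.comp (algebraMap A Rp) = (algebraMap A' R').comp (algebraMap A A') from
        RingHom.ext fun a => Localization.localRingHom_to_map p p' (algebraMap A A') hp'c.symm a,
      ← Ideal.map_map]
    show P.map (algebraMap A' R') = m'
    rw [← hp'P]
    exact Localization.AtPrime.map_eq_maximalIdeal
  have hpow : ∀ n, m' ^ n = (m₀ ^ n).map φ := fun n => by rw [Ideal.map_pow, hm']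
  have h1 : ∀ s : R', ∃ r : Rp, s - φ r ∈ m' := by
    intro s
    obtain ⟨x, ⟨y, hy⟩, rfl⟩ := IsLocalization.exists_mk'_eq p'.primeCompl s
    obtain ⟨a, ha⟩ := hsurjA x
    obtain ⟨b, hb⟩ := hsurjA y
    have hbp : b ∉ p := fun h => hy (hp'P ▸ (by
      simpa using add_mem hb (Ideal.mem_map_of_mem (algebraMap A A') h) : y ∈ P))
    refine ⟨IsLocalization.mk' Rp a (⟨b, hbp⟩ : p.primeCompl), ?_⟩
    rw [show φ (IsLocalization.mk' Rp a (⟨b, hbp⟩ : p.primeCompl)) = IsLocalization.mk' R' (algebraMap A A' a)
        (⟨algebraMap A A' b, fun h => hbp (hp'c ▸ h)⟩ : p'.primeCompl) from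
      Localization.localRingHom_mk' _ _ _ _ a ⟨b, hbp⟩, ← IsLocalization.mk'_sub (S := R'),
      IsLocalization.AtPrime.mk'_mem_maximal_iff R' p']
    show x * algebraMap A A' b - algebraMap A A' a * y ∈ p'
    rw [hp'P, show x * algebraMap A A' b - algebraMap A A' a * y =
      (x - algebraMap A A' a) * algebraMap A A' b - algebraMap A A' a * (y - algebraMap A A' b) by ring]
    exact sub_mem (Ideal.mul_mem_right _ _ ha) (Ideal.mul_mem_left _ _ hb)
  have hdense : ∀ (n : ℕ) (s : R'), ∃ r : Rp, s - φ r ∈ m' ^ n := by
    intro n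
    induction n with
    | zero => exact fun s => ⟨0, by simp⟩
    | succ n ih =>
      intro s
      obtain ⟨r, hr⟩ := ih s
      have hstep : ∀ z ∈ (m₀ ^ n).map φ, ∃ r : Rp, z - φ r ∈ m' ^ (n + 1) := by
        intro z hz
        induction hz using Submodule.span_induction with
        | mem z hz => obtain ⟨c, -, rfl⟩ := hz; exact ⟨c, by simp⟩
        | zero => exact ⟨0, by simp⟩
        | add a b _ _ ha hb =>
          obtain ⟨c, hc⟩ := ha
          obtain ⟨d, hd⟩ := hb
          exact ⟨c + d, by rw [map_add, show a + b - (φ c + φ d) = (a - φ c) + (b - φ d) by ring]; exact add_mem hc hd⟩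
        | smul t z hz hc =>
          obtain ⟨c, hc⟩ := hc
          obtain ⟨t₀, ht⟩ := h1 t
          refine ⟨t₀ * c, ?_⟩
          have hz' : z ∈ m' ^ n := (hpow n).symm ▸ hz
          rw [smul_eq_mul, map_mul,
            show t * z - φ t₀ * φ c = (t - φ t₀) * z + φ t₀ * (z - φ c) by ring, pow_succ']
          exact add_mem (Ideal.mul_mem_mul ht hz') (Ideal.mul_mem_left _ _ (pow_succ' m' n ▸ hc))
      obtain ⟨d, hd⟩ := hstep _ (hpow n ▸ hr)
      exact ⟨r + d, by rwa [map_add, ← sub_sub]⟩
  have hsm : ∀ n, ((m' ^ n • ⊤ : Submodule R' S) : Set S) = ((m₀ ^ n • ⊤ : Submodule Rp S) : Set S) := fun n => by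
    rw [Ideal.smul_top_eq_map, Ideal.smul_top_eq_map, Submodule.coe_restrictScalars,
      Submodule.coe_restrictScalars, hpow]
    exact congrArg (fun X : Ideal S => (X : Set S)) (Ideal.map_map φ η)
  have hlevel : CplFlat.LevelFlat m' S := by
    refine (CplFlat.levelFlat_of_flat (K := m₀) (P := S)).transfer φ (AddMonoidHom.id S)
      (fun r m => ?_) hdense (fun n r => ?_) (fun n m => ⟨m, by simp⟩)
      (fun n m => by
        show m ∈ ((m' ^ n • ⊤ : Submodule R' S) : Set S) ↔ _
        rw [hsm]
        rfl)
    · show r • m = φ r • m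
      rw [Algebra.smul_def, Algebra.smul_def]
      rfl
    · rw [hpow]
      show r ∈ ((m₀ ^ n).map (algebraMap Rp R')).comap (algebraMap Rp R') ↔ _
      rw [Ideal.comap_map_eq_self_of_faithfullyFlat]
  haveI : Module.Flat R' S := RigClosed17.flat_of_levelFlat_finite (S := S) m'
    (by
      rw [← Ideal.jacobson_bot, IsLocalRing.jacobson_eq_maximalIdeal ⊥ bot_ne_top]
      exact ((IsLocalRing.local_hom_TFAE (algebraMap R' S)).out 0 2).1 ‹_›) hlevel
  have hcomp : (algebraMap B' S).comp ψ = η.comp (algebraMap A' R') :=
    RingHom.ext fun a => (Localization.localRingHom_to_map p' q'.asIdeal ψ rfl a).symm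
  show ((algebraMap B' S).comp ψ).Flat
  rw [hcomp]
  exact (RingHom.flat_algebraMap_iff.2 (inferInstance : Module.Flat A' R')).comp
    (RingHom.flat_algebraMap_iff.2 ‹Module.Flat R' S›)

end Groth.Agent.S8841
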