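import Groth.Statements.S8843
import Groth.Agent.RigClosed17.Cpl
-- import your own Groth.Agent.* helpers here

set_option autoImplicit false
universe u
open AdicRing

namespace Groth.Agent.S8843

/-- Let A be a Noetherian ring complete for the adic topology of an ideal I, B a Noetherian A-algebra
complete for the IB-adic topology with B/IB of finite type over A, and C a Noetherian B-algebra,
compatibly an A-algebra, complete for the IC-adic topology with C/IC of finite type over B (so A → B
→ C are adic morphisms of adic Noetherian topological rings, topologically of finite type). Assume A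
→ B and B → C are rig-flat, in the following form: for every f ∈ A and the canonical map ψ : A_{f} →
B_{f} of completed principal localizations (the I-adic completions of A_f → B_f; ψ is characterised
as any ring map compatible with A_f → B_f, and there is exactly one), the local ring (B_{f})_q is
flat over A_{f} via ψ for every rig-closed prime q of B_{f} (I B_{f} ⊄ q and q maximal among the
primes not containing I B_{f}); and likewise for B → C with g ∈ B and rig-closed primes of C_{g}.
Then A → C is rig-flat in the same form: for every f ∈ A, every ring map A_{f} → C_{f} compatible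
with A_f → C_f, and every rig-closed prime q of C_{f}, the local ring (C_{f})_q is flat over A_{f}.
(That A → C is again adic and topologically of finite type is not restated.) -/
theorem result (A : Type u) [CommRing A] [IsNoetherianRing A] (I : Ideal A) [IsAdicComplete I A] (B : Type u) [CommRing B] [Algebra A B] [IsNoetherianRing B] [IsAdicComplete (I.map (algebraMap A B)) B] (hftB : Algebra.FiniteType A (B ⧸ (I.map (algebraMap A B)))) (C : Type u) [CommRing C] [Algebra A C] [Algebra B C] [IsScalarTower A B C] [IsNoetherianRing C] [IsAdicComplete (I.map (algebraMap A C)) C] (hftC : Algebra.FiniteType B (C ⧸ (I.map (algebraMap A C)))) (hAB : (∀ f : A, ∀ ψf : (AdicCompletion (I.map (algebraMap A (Localization.Away f))) (Localization.Away f)) →+* (AdicCompletion ((I.map (algebraMap A B)).map (algebraMap B (Localization.Away (algebraMap A B f)))) (Localization.Away (algebraMap A B f))), ψf.comp (algebraMap (Localization.Away f) (AdicCompletion (I.map (algebraMap A (Localization.Away f))) (Localization.Away f))) = (algebraMap (Localization.Away (algebraMap A B f)) (AdicCompletion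 ((I.map (algebraMap A B)).map (algebraMap B (Localization.Away (algebraMap A B f)))) (Localization.Away (algebraMap A B f)))).comp (Localization.awayMap (algebraMap A B) f) → ∀ qf : PrimeSpectrum (AdicCompletion ((I.map (algebraMap A B)).map (algebraMap B (Localization.Away (algebraMap A B f)))) (Localization.Away (algebraMap A B f))), (¬ (((I.map (algebraMap A B)).map (algebraMap B (Localization.Away (algebraMap A B f)))).map (algebraMap (Localization.Away (algebraMap A B f)) (AdicCompletion ((I.map (algebraMap A B)).map (algebraMap B (Localization.Away (algebraMap A B f)))) (Localization.Away (algebraMap A B f))))) ≤ qf.asIdeal ∧ ∀ y : PrimeSpectrum (AdicCompletion ((I.map (algebraMap A B)).map (algebraMap B (Localization.Away (algebraMap A B f)))) (Localization.Away (algebraMap A B f))), qf ≤ y → ¬ (((I.map (algebraMap A B)).map (algebraMap B (Localization.Away (algebraMap A B f)))).map (algebraMap (Localization.Away (algebraMap A B f)) (AdicCompletion ((I.map (algebraMap A B)).map (algebraMap B (Localization.Away (algebraMap A B f)))) (Localization.Away (algebraMap A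 B f))))) ≤ y.asIdeal → y = qf) → ((algebraMap (AdicCompletion ((I.map (algebraMap A B)).map (algebraMap B (Localization.Away (algebraMap A B f)))) (Localization.Away (algebraMap A B f))) (Localization.AtPrime qf.asIdeal)).comp ψf).Flat)) (hBC : (∀ g : B, ∀ ψg : (AdicCompletion ((I.map (algebraMap A B)).map (algebraMap B (Localization.Away g))) (Localization.Away g)) →+* (AdicCompletion (((I.map (algebraMap A B)).map (algebraMap B C)).map (algebraMap C (Localization.Away (algebraMap B C g)))) (Localization.Away (algebraMap B C g))), ψg.comp (algebraMap (Localization.Away g) (AdicCompletion ((I.map (algebraMap A B)).map (algebraMap B (Localization.Away g))) (Localization.Away g))) = (algebraMap (Localization.Away (algebraMap B C g)) (AdicCompletion (((I.map (algebraMap A B)).map (algebraMap B C)).map (algebraMap C (Localization.Away (algebraMap B C g)))) (Localization.Away (algebraMap B C g)))).comp (Localization.awayMap (algebraMap B C) g) → ∀ qg : PrimeSpectrum (AdicCompletion (((I.map (algebraMap A B)).map (algebraMap B C)).map (algebraMap C (Localization.Away (algebraMap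 B C g)))) (Localization.Away (algebraMap B C g))), (¬ ((((I.map (algebraMap A B)).map (algebraMap B C)).map (algebraMap C (Localization.Away (algebraMap B C g)))).map (algebraMap (Localization.Away (algebraMap B C g)) (AdicCompletion (((I.map (algebraMap A B)).map (algebraMap B C)).map (algebraMap C (Localization.Away (algebraMap B C g)))) (Localization.Away (algebraMap B C g))))) ≤ qg.asIdeal ∧ ∀ y : PrimeSpectrum (AdicCompletion (((I.map (algebraMap A B)).map (algebraMap B C)).map (algebraMap C (Localization.Away (algebraMap B C g)))) (Localization.Away (algebraMap B C g))), qg ≤ y → ¬ ((((I.map (algebraMap A B)).map (algebraMap B C)).map (algebraMap C (Localization.Away (algebraMap B C g)))).map (algebraMap (Localization.Away (algebraMap B C g)) (AdicCompletion (((I.map (algebraMap A B)).map (algebraMap B C)).map (algebraMap C (Localization.Away (algebraMap B C g)))) (Localization.Away (algebraMap B C g))))) ≤ y.asIdeal → y = qg) → ((algebraMap (AdicCompletion (((I.map (algebraMap A B)).map (algebraMap B C)).map (algebraMap C (Localization.Away (algebraMap B C g)))) (Localization.Away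 (algebraMap B C g))) (Localization.AtPrime qg.asIdeal)).comp ψg).Flat)) : (∀ e : A, ∀ ψe : (AdicCompletion (I.map (algebraMap A (Localization.Away e))) (Localization.Away e)) →+* (AdicCompletion ((I.map (algebraMap A C)).map (algebraMap C (Localization.Away (algebraMap A C e)))) (Localization.Away (algebraMap A C e))), ψe.comp (algebraMap (Localization.Away e) (AdicCompletion (I.map (algebraMap A (Localization.Away e))) (Localization.Away e))) = (algebraMap (Localization.Away (algebraMap A C e)) (AdicCompletion ((I.map (algebraMap A C)).map (algebraMap C (Localization.Away (algebraMap A C e)))) (Localization.Away (algebraMap A C e)))).comp (Localization.awayMap (algebraMap A C) e) → ∀ qe : PrimeSpectrum (AdicCompletion ((I.map (algebraMap A C)).map (algebraMap C (Localization.Away (algebraMap A C e)))) (Localization.Away (algebraMap A C e))), (¬ (((I.map (algebraMap A C)).map (algebraMap C (Localization.Away (algebraMap A C e)))).map (algebraMap (Localization.Away (algebraMap A C e)) (AdicCompletion ((I.map (algebraMap A C)).map (algebraMap C (Localization.Away (algebraMap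 A C e)))) (Localization.Away (algebraMap A C e))))) ≤ qe.asIdeal ∧ ∀ y : PrimeSpectrum (AdicCompletion ((I.map (algebraMap A C)).map (algebraMap C (Localization.Away (algebraMap A C e)))) (Localization.Away (algebraMap A C e))), qe ≤ y → ¬ (((I.map (algebraMap A C)).map (algebraMap C (Localization.Away (algebraMap A C e)))).map (algebraMap (Localization.Away (algebraMap A C e)) (AdicCompletion ((I.map (algebraMap A C)).map (algebraMap C (Localization.Away (algebraMap A C e)))) (Localization.Away (algebraMap A C e))))) ≤ y.asIdeal → y = qe) → ((algebraMap (AdicCompletion ((I.map (algebraMap A C)).map (algebraMap C (Localization.Away (algebraMap A C e)))) (Localization.Away (algebraMap A C e))) (Localization.AtPrime qe.asIdeal)).comp ψe).Flat) := by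
  intro e ψ hψ q hq
  let IB : Ideal B := I.map (algebraMap A B)
  let IC : Ideal C := I.map (algebraMap A C)
  let gC : C := algebraMap A C e
  let X := RigClosed17.T IC gC
  let JX : Ideal X := IC.map (algebraMap C X)
  have hJXeq : (IC.map (algebraMap C (Localization.Away gC))).map (algebraMap (Localization.Away gC) X) = JX :=
    (RigClosed17.map_T IC gC).symm
  have hqn : ¬ JX ≤ q.asIdeal := hJXeq ▸ hq.1
  have hqmax : ∀ y : PrimeSpectrum X, q ≤ y → ¬ JX ≤ y.asIdeal → y = q := hJXeq ▸ hq.2
  obtain ⟨M, hM, hqM, hJM, huniq⟩ := RigClosed17.exists_maximal JX q hqn hqmax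
  haveI := hM
  have hCft : Algebra.FiniteType A (C ⧸ IC) := by
    haveI := hftC
    refine RigClosed17.finiteType_trans IB hftB fun b hb => ?_
    rw [IsScalarTower.algebraMap_apply B C (C ⧸ IC), Ideal.Quotient.algebraMap_eq, Ideal.Quotient.eq_zero_iff_mem]
    show algebraMap B C b ∈ I.map (algebraMap A C)
    rw [IsScalarTower.algebraMap_eq A B C, ← Ideal.map_map]
    exact Ideal.mem_map_of_mem _ hb
  letI := Ideal.Quotient.field M
  haveI : Algebra.FiniteType C (X ⧸ M) := RigClosed17.finiteType_quotient IC gC M hJM
  haveI : Algebra.FiniteType A (X ⧸ M) := RigClosed17.finiteType_trans IC hCft fun c hc => by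
    rw [IsScalarTower.algebraMap_apply C X (X ⧸ M), Ideal.Quotient.algebraMap_eq, Ideal.Quotient.eq_zero_iff_mem]
    exact hJM (Ideal.mem_map_of_mem _ hc)
  obtain ⟨h, hh0, hh⟩ := RigClosed17.exists_denominator (A := A) (X ⧸ M)
  have hu : IsUnit (Ideal.Quotient.mk q.asIdeal (algebraMap C X (algebraMap A C h))) := by
    refine RigClosed17.isUnit_mk q.asIdeal M hqM huniq _ fun hmem => hh0 ?_
    rw [IsScalarTower.algebraMap_apply A X (X ⧸ M), Ideal.Quotient.algebraMap_eq,
      Ideal.Quotient.eq_zero_iff_mem, IsScalarTower.algebraMap_apply A C X]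
    exact hmem
  let g : B := algebraMap A B (e * h)
  let J : Ideal C := IB.map (algebraMap B C)
  let v : C := algebraMap B C g
  have hJ : J = IC := by
    show (I.map (algebraMap A B)).map (algebraMap B C) = _
    rw [Ideal.map_map, ← IsScalarTower.algebraMap_eq]
  have hv : v = gC * algebraMap A C h := by
    show algebraMap B C (algebraMap A B (e * h)) = algebraMap A C e * algebraMap A C h
    rw [← IsScalarTower.algebraMap_apply, map_mul]
  obtain ⟨ρ, q', hρ, hρflat, hq'c, hsurj, hq'n, hq'max⟩ :=
    RigClosed17.exists_point_localization' IC gC (algebraMap A C h) q hqn hqmax hu J v hJ hv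
  obtain ⟨ψA, hψA⟩ := RigClosed17.exists_psi I (e * h) (algebraMap A B) IB le_rfl
  obtain ⟨ψB, hψB⟩ := RigClosed17.exists_psi IB g (algebraMap B C) J le_rfl
  have hψA' := RigClosed17.apply_algebraMap I (e * h) ψA hψA
  have hψB' := RigClosed17.apply_algebraMap IB g ψB hψB
  obtain ⟨μ, hμ, hμflat⟩ := RigClosed17.exists_res I e h
  let A' := RigClosed17.T I (e * h)
  let B' := RigClosed17.T IB g
  let Y := RigClosed17.T J v
  letI : Algebra A' B' := ψA.toAlgebra
  letI : Algebra B' Y := ψB.toAlgebra
  letI : Algebra A' Y := (ψB.comp ψA).toAlgebra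
  haveI : IsScalarTower A' B' Y := IsScalarTower.of_algebraMap_eq fun _ => rfl
  haveI : IsScalarTower A A' Y := IsScalarTower.of_algebraMap_eq fun a => by
    show _ = ψB (ψA (algebraMap A A' a))
    rw [hψA', hψB', IsScalarTower.algebraMap_apply A C Y, IsScalarTower.algebraMap_apply A B C]
  haveI : IsScalarTower B B' Y := IsScalarTower.of_algebraMap_eq fun b => by
    show _ = ψB (algebraMap B B' b)
    rw [hψB', IsScalarTower.algebraMap_apply B C Y]
  let JY : Ideal Y := J.map (algebraMap C Y)
  have hJA : (I.map (algebraMap A A')).map (algebraMap A' Y) = JY :=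
    (RigClosed17.map_tower I).trans
      ((congrArg (Ideal.map (algebraMap C Y)) hJ).trans (RigClosed17.map_tower I)).symm
  have hJB : (IB.map (algebraMap B B')).map (algebraMap B' Y) = JY :=
    (RigClosed17.map_tower IB).trans (RigClosed17.map_tower IB).symm
  haveI : IsAdicComplete ((I.map (algebraMap A A')).map (algebraMap A' Y)) Y := hJA ▸ inferInstance
  haveI : IsAdicComplete ((IB.map (algebraMap B B')).map (algebraMap B' Y)) Y := hJB ▸ inferInstance
  have hftY : ∀ N : Ideal Y, JY ≤ N → Algebra.FiniteType A (Y ⧸ N) := fun N hN => by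
    haveI := RigClosed17.finiteType_quotient J v N hN
    exact RigClosed17.finiteType_trans IC hCft fun c hc => by
      rw [IsScalarTower.algebraMap_apply C Y (Y ⧸ N), Ideal.Quotient.algebraMap_eq, Ideal.Quotient.eq_zero_iff_mem]
      exact hN (Ideal.mem_map_of_mem _ (hJ ▸ hc))
  haveI hfin : Module.Finite A' (Y ⧸ q'.asIdeal) := by
    refine RigClosed17.finite_of_residue (I.map (algebraMap A A')) q' (hJA ▸ hq'n) (hJA ▸ hq'max) ?_ ?_
    · haveI := hftY _ (hJA.ge.trans (le_sup_right (a := q'.asIdeal)))
      exact Algebra.FiniteType.of_restrictScalars_finiteType A _ _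
    intro m hm hqm
    haveI := hm
    -- the residue field is that of `X`
    let e₀ : X →+* Y ⧸ m := (Ideal.Quotient.mk m).comp ρ
    have he₀ : Function.Surjective e₀ := fun x => by
      obtain ⟨x, rfl⟩ := Ideal.Quotient.mk_surjective x
      obtain ⟨b, hb⟩ := hsurj x
      exact ⟨b, (Ideal.Quotient.eq.2 (hqm hb)).symm⟩
    letI := Ideal.Quotient.field m
    have hk : (RingHom.ker e₀).IsMaximal := RingHom.ker_isMaximal_of_surjective _ he₀
    have hqk : q.asIdeal ≤ RingHom.ker e₀ := fun x hx =>
      Ideal.Quotient.eq_zero_iff_mem.2 (hqm (hq'c.ge hx))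
    have hkM : RingHom.ker e₀ = M := by
      rcases huniq _ hk.isPrime hqk with e' | e'
      · rw [e']
        exact (e' ▸ hk : q.asIdeal.IsMaximal).eq_of_le hM.ne_top hqM
      · exact e'
    let e₁ : X ⧸ M →+* Y ⧸ m := Ideal.Quotient.lift M e₀ fun x hx => hkM.ge hx
    have he₁A : ∀ a, e₁ (algebraMap A (X ⧸ M) a) = algebraMap A (Y ⧸ m) a := fun a => by
      show Ideal.Quotient.mk m (ρ (algebraMap A X a)) = _
      rw [IsScalarTower.algebraMap_apply A C X, hρ, ← IsScalarTower.algebraMap_apply]
      rfl
    have hI0 : ∀ a ∈ I, algebraMap A (X ⧸ M) a = 0 := fun a ha => by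
      rw [IsScalarTower.algebraMap_apply A X (X ⧸ M), Ideal.Quotient.algebraMap_eq,
        Ideal.Quotient.eq_zero_iff_mem, IsScalarTower.algebraMap_apply A C X]
      exact hJM (Ideal.mem_map_of_mem _ (Ideal.mem_map_of_mem _ ha))
    have heh : IsUnit (algebraMap A (X ⧸ M) (e * h)) := by
      rw [map_mul]
      refine IsUnit.mul ?_ (isUnit_iff_ne_zero.2 hh0)
      rw [IsScalarTower.algebraMap_apply A X (X ⧸ M), IsScalarTower.algebraMap_apply A C X]
      exact (RigClosed17.isUnit_self IC gC).map _
    obtain ⟨σ, hσ⟩ := RigClosed17.exists_hom I (e * h) (⊥ : Ideal (X ⧸ M)) (algebraMap A (X ⧸ M)) heh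
      (Ideal.map_le_iff_le_comap.2 fun a ha => Ideal.mem_bot.2 (hI0 a ha))
    letI : Algebra A' (X ⧸ M) := σ.toAlgebra
    haveI : IsScalarTower A A' (X ⧸ M) := IsScalarTower.of_algebraMap_eq fun a => (hσ a).symm
    haveI : Module.Finite A' (X ⧸ M) := hh A' (isUnit_of_mul_isUnit_right (x := algebraMap A A' e)
      (by rw [← map_mul]; exact RigClosed17.isUnit_self I (e * h)))
    have hcomm : e₁.comp σ = algebraMap A' (Y ⧸ m) :=
      RigClosed17.ext_hom I (e * h) (⊥ : Ideal (Y ⧸ m)) _ _
        (fun a => by rw [RingHom.comp_apply, hσ, he₁A, IsScalarTower.algebraMap_apply A A' (Y ⧸ m)])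
        (fun a ha => by rw [RingHom.comp_apply, hσ, hI0 a ha, map_zero]; exact Ideal.zero_mem _)
    exact Module.Finite.of_surjective
      ({ e₁ with commutes' := RingHom.congr_fun hcomm } : (X ⧸ M) →ₐ[A'] (Y ⧸ m)).toLinearMap
      fun y => by
        obtain ⟨x, rfl⟩ := he₀ y
        exact ⟨Ideal.Quotient.mk M x, rfl⟩
  haveI : Module.Finite B' (Y ⧸ q'.asIdeal) := Module.Finite.of_restrictScalars_finite A' B' _
  obtain ⟨hpn, hpmax⟩ := RigClosed17.rigClosed_comap_of_finite (IB.map (algebraMap B B')) q'
    (hJB ▸ hq'n) (hJB ▸ hq'max)
  let p : PrimeSpectrum B' := PrimeSpectrum.comap (algebraMap B' Y) q'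
  have hJB' : (IB.map (algebraMap B (Localization.Away g))).map (algebraMap (Localization.Away g) B') =
      IB.map (algebraMap B B') := (RigClosed17.map_T IB g).symm
  have hJY' : (J.map (algebraMap C (Localization.Away v))).map (algebraMap (Localization.Away v) Y) = JY :=
    (RigClosed17.map_T J v).symm
  have h1 := hAB (e * h) ψA hψA p
    (hJB'.symm ▸ ⟨hpn, fun y hy hIy => PrimeSpectrum.ext (hpmax y.asIdeal y.2 hy hIy)⟩)
  have h2 := hBC g ψB hψB q' (hJY'.symm ▸ ⟨hq'n, hq'max⟩)
  -- compose
  let R1 := Localization.AtPrime p.asIdeal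
  let S1 := Localization.AtPrime q'.asIdeal
  let η : R1 →+* S1 := Localization.localRingHom p.asIdeal q'.asIdeal ψB rfl
  have hη : η.comp (algebraMap B' R1) = (algebraMap Y S1).comp ψB :=
    RingHom.ext fun b => Localization.localRingHom_to_map p.asIdeal q'.asIdeal ψB rfl b
  have hηflat : η.Flat := by
    letI := η.toAlgebra
    haveI : IsScalarTower B' R1 S1 := IsScalarTower.of_algebraMap_eq fun b => (RingHom.congr_fun hη b).symm
    show Module.Flat R1 S1
    exact (Module.flat_iff_of_isLocalization R1 p.asIdeal.primeCompl S1).2
      (RingHom.flat_algebraMap_iff.1 (show (algebraMap B' S1).Flat from h2))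
  have h3 : ((algebraMap Y S1).comp (ψB.comp ψA)).Flat := by
    rw [← RingHom.comp_assoc, ← hη, RingHom.comp_assoc]
    exact h1.comp hηflat
  refine RigClosed17.flat_of_comp_flat q q' ψ ρ hρflat hq'c ?_
  have hψ' := RigClosed17.apply_algebraMap I e ψ hψ
  have hsq : ρ.comp ψ = (ψB.comp ψA).comp μ := RigClosed17.ext_hom I e JY _ _
    (fun a => by
      simp only [RingHom.comp_apply]
      rw [hψ', hρ, hμ, hψA', hψB', IsScalarTower.algebraMap_apply A B C])
    (fun a ha => by
      rw [RingHom.comp_apply, hψ', hρ]
      exact Ideal.mem_map_of_mem _ (hJ.symm ▸ Ideal.mem_map_of_mem _ ha))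
  rw [hsq, ← RingHom.comp_assoc]
  exact hμflat.comp h3

end Groth.Agent.S8843
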