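import Groth.Statements.S8844
import Groth.Agent.RigClosed17.Cpl
import Groth.Agent.S8836
-- import your own Groth.Agent.* helpers here

set_option autoImplicit false
universe u
open AdicRing

namespace Groth.Agent.S8844

/-- Consider a commutative square of adic Noetherian topological rings with all maps adic and
topologically of finite type: A a Noetherian ring complete for the adic topology of an ideal I; B,
A' and B' Noetherian algebras complete for the IB-, IA'- and IB'-adic topologies, B' an algebra over
B and over A' compatibly with A, with B/IB and A'/IA' of finite type over A and B'/IB' of finite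
type over B and over A'. Assume A → A' is flat and B → B' is faithfully flat. If A' → B' is rig-flat
— for every f' ∈ A', every ring map A'_{f'} → B'_{f'} of completed principal localizations
compatible with the map of ordinary localizations A'[1/f'] → B'[1/f'] (there is exactly one), and
every rig-closed prime q of B'_{f'} (I B'_{f'} ⊄ q and q maximal among the primes not containing I
B'_{f'}), the local ring (B'_{f'})_q is flat over A'_{f'} — then A → B is rig-flat in the same form:
for every f ∈ A, every ring map A_{f} → B_{f} of completed principal localizations compatible with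
the map of ordinary localizations A[1/f] → B[1/f], and every rig-closed prime q of B_{f}, the local
ring (B_{f})_q is flat over A_{f}. -/
theorem result (A : Type u) [CommRing A] [IsNoetherianRing A] (I : Ideal A) [IsAdicComplete I A] (B : Type u) [CommRing B] [Algebra A B] [IsNoetherianRing B] [IsAdicComplete (I.map (algebraMap A B)) B] (hftB : Algebra.FiniteType A (B ⧸ (I.map (algebraMap A B)))) (A' : Type u) [CommRing A'] [Algebra A A'] [IsNoetherianRing A'] [IsAdicComplete (I.map (algebraMap A A')) A'] (hftA' : Algebra.FiniteType A (A' ⧸ (I.map (algebraMap A A')))) (B' : Type u) [CommRing B'] [Algebra A B'] [Algebra B B'] [Algebra A' B'] [IsScalarTower A B B'] [IsScalarTower A A' B'] [IsNoetherianRing B'] [IsAdicComplete (I.map (algebraMap A B')) B'] (hftB'B : Algebra.FiniteType B (B' ⧸ (I.map (algebraMap A B')))) (hftB'A' : Algebra.FiniteType A' (B' ⧸ (I.map (algebraMap A B')))) [Module.Flat A A'] [Module.FaithfullyFlat B B'] (hA'B' : (∀ f' : A', ∀ ψf' : (AdicCompletion ((I.map (algebraMap A A')).map (algebraMap A' (Localization.Away f'))) (Localization.Away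 f')) →+* (AdicCompletion (((I.map (algebraMap A A')).map (algebraMap A' B')).map (algebraMap B' (Localization.Away (algebraMap A' B' f')))) (Localization.Away (algebraMap A' B' f'))), ψf'.comp (algebraMap (Localization.Away f') (AdicCompletion ((I.map (algebraMap A A')).map (algebraMap A' (Localization.Away f'))) (Localization.Away f'))) = (algebraMap (Localization.Away (algebraMap A' B' f')) (AdicCompletion (((I.map (algebraMap A A')).map (algebraMap A' B')).map (algebraMap B' (Localization.Away (algebraMap A' B' f')))) (Localization.Away (algebraMap A' B' f')))).comp (Localization.awayMap (algebraMap A' B') f') → ∀ qf' : PrimeSpectrum (AdicCompletion (((I.map (algebraMap A A')).map (algebraMap A' B')).map (algebraMap B' (Localization.Away (algebraMap A' B' f')))) (Localization.Away (algebraMap A' B' f'))), (¬ ((((I.map (algebraMap A A')).map (algebraMap A' B')).map (algebraMap B' (Localization.Away (algebraMap A' B' f')))).map (algebraMap (Localization.Away (algebraMap A' B' f')) (AdicCompletion (((I.map (algebraMap A A')).map (algebraMap A' B')).map (algebraMap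 B' (Localization.Away (algebraMap A' B' f')))) (Localization.Away (algebraMap A' B' f'))))) ≤ qf'.asIdeal ∧ ∀ y : PrimeSpectrum (AdicCompletion (((I.map (algebraMap A A')).map (algebraMap A' B')).map (algebraMap B' (Localization.Away (algebraMap A' B' f')))) (Localization.Away (algebraMap A' B' f'))), qf' ≤ y → ¬ ((((I.map (algebraMap A A')).map (algebraMap A' B')).map (algebraMap B' (Localization.Away (algebraMap A' B' f')))).map (algebraMap (Localization.Away (algebraMap A' B' f')) (AdicCompletion (((I.map (algebraMap A A')).map (algebraMap A' B')).map (algebraMap B' (Localization.Away (algebraMap A' B' f')))) (Localization.Away (algebraMap A' B' f'))))) ≤ y.asIdeal → y = qf') → ((algebraMap (AdicCompletion (((I.map (algebraMap A A')).map (algebraMap A' B')).map (algebraMap B' (Localization.Away (algebraMap A' B' f')))) (Localization.Away (algebraMap A' B' f'))) (Localization.AtPrime qf'.asIdeal)).comp ψf').Flat)) : (∀ f : A, ∀ ψf : (AdicCompletion (I.map (algebraMap A (Localization.Away f))) (Localization.Away f)) →+* (AdicCompletion ((I.map (algebraMap A B)).map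 (algebraMap B (Localization.Away (algebraMap A B f)))) (Localization.Away (algebraMap A B f))), ψf.comp (algebraMap (Localization.Away f) (AdicCompletion (I.map (algebraMap A (Localization.Away f))) (Localization.Away f))) = (algebraMap (Localization.Away (algebraMap A B f)) (AdicCompletion ((I.map (algebraMap A B)).map (algebraMap B (Localization.Away (algebraMap A B f)))) (Localization.Away (algebraMap A B f)))).comp (Localization.awayMap (algebraMap A B) f) → ∀ qf : PrimeSpectrum (AdicCompletion ((I.map (algebraMap A B)).map (algebraMap B (Localization.Away (algebraMap A B f)))) (Localization.Away (algebraMap A B f))), (¬ (((I.map (algebraMap A B)).map (algebraMap B (Localization.Away (algebraMap A B f)))).map (algebraMap (Localization.Away (algebraMap A B f)) (AdicCompletion ((I.map (algebraMap A B)).map (algebraMap B (Localization.Away (algebraMap A B f)))) (Localization.Away (algebraMap A B f))))) ≤ qf.asIdeal ∧ ∀ y : PrimeSpectrum (AdicCompletion ((I.map (algebraMap A B)).map (algebraMap B (Localization.Away (algebraMap A B f)))) (Localization.Away (algebraMap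 A B f))), qf ≤ y → ¬ (((I.map (algebraMap A B)).map (algebraMap B (Localization.Away (algebraMap A B f)))).map (algebraMap (Localization.Away (algebraMap A B f)) (AdicCompletion ((I.map (algebraMap A B)).map (algebraMap B (Localization.Away (algebraMap A B f)))) (Localization.Away (algebraMap A B f))))) ≤ y.asIdeal → y = qf) → ((algebraMap (AdicCompletion ((I.map (algebraMap A B)).map (algebraMap B (Localization.Away (algebraMap A B f)))) (Localization.Away (algebraMap A B f))) (Localization.AtPrime qf.asIdeal)).comp ψf).Flat) := by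
  intro f ψ hψ q hq
  let J : Ideal B := I.map (algebraMap A B)
  let I' : Ideal A' := I.map (algebraMap A A')
  let f' : A' := algebraMap A A' f
  let g : B := algebraMap A B f
  let J'' : Ideal B' := I'.map (algebraMap A' B')
  let g'' : B' := algebraMap A' B' f'
  have hg : g'' = algebraMap B B' g := by
    show algebraMap A' B' (algebraMap A A' f) = algebraMap B B' (algebraMap A B f)
    rw [← IsScalarTower.algebraMap_apply, ← IsScalarTower.algebraMap_apply]
  have hJ : J'' = J.map (algebraMap B B') := by
    show (I.map (algebraMap A A')).map (algebraMap A' B') = (I.map (algebraMap A B)).map (algebraMap B B')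
    rw [Ideal.map_map, Ideal.map_map, ← IsScalarTower.algebraMap_eq, ← IsScalarTower.algebraMap_eq]
  have hJ₀ : J'' = I.map (algebraMap A B') := by
    show (I.map (algebraMap A A')).map (algebraMap A' B') = _
    rw [Ideal.map_map, ← IsScalarTower.algebraMap_eq]
  obtain ⟨μ, hμ, hμflat⟩ := RigClosed17.exists_flat_map I f (algebraMap A A')
    (RingHom.flat_algebraMap_iff.2 ‹_›) I' f' rfl rfl
  obtain ⟨χ, hχ, hχflat⟩ := RigClosed17.exists_flat_map J g (algebraMap B B')
    (RingHom.flat_algebraMap_iff.2 inferInstance) J'' g'' hJ hg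
  obtain ⟨ψ', hψ'⟩ := RigClosed17.exists_psi I' f' (algebraMap A' B') J'' le_rfl
  have hψA := RigClosed17.apply_algebraMap I f ψ hψ
  have hψ'A := RigClosed17.apply_algebraMap I' f' ψ' hψ'
  let X := RigClosed17.T J g
  let X' := RigClosed17.T J'' g''
  have hsq : χ.comp ψ = ψ'.comp μ := RigClosed17.ext_hom I f (J''.map (algebraMap B' X')) _ _
    (fun a => by
      rw [RingHom.comp_apply, RingHom.comp_apply, hψA, hχ, hμ, hψ'A]
      exact congrArg (algebraMap B' X')
        ((IsScalarTower.algebraMap_apply A B B' a).symm.trans (IsScalarTower.algebraMap_apply A A' B' a)))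
    (fun a ha => by
      rw [RingHom.comp_apply, hψA, hχ]
      exact Ideal.mem_map_of_mem _ (hJ ▸ Ideal.mem_map_of_mem _ (Ideal.mem_map_of_mem _ ha)))
  letI : Algebra X X' := χ.toAlgebra
  haveI : Module.Flat X X' := hχflat
  haveI : IsScalarTower B X X' := IsScalarTower.of_algebraMap_eq fun b => by
    rw [IsScalarTower.algebraMap_apply B B' X']
    exact (hχ b).symm
  let JX : Ideal X := J.map (algebraMap B X)
  have hJX : JX.map (algebraMap X X') = J''.map (algebraMap B' X') :=
    (RigClosed17.map_tower J).trans
      ((congrArg (Ideal.map (algebraMap B' X')) hJ).trans (RigClosed17.map_tower J)).symm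
  haveI : IsAdicComplete (JX.map (algebraMap X X')) X' := hJX ▸ inferInstance
  have hftX : Algebra.FiniteType X (X' ⧸ JX.map (algebraMap X X')) := by
    haveI := RigClosed17.finiteType_quotient J'' g'' (JX.map (algebraMap X X')) hJX.ge
    haveI : Algebra.FiniteType B (X' ⧸ JX.map (algebraMap X X')) := by
      refine RigClosed17.finiteType_trans (I.map (algebraMap A B')) hftB'B fun b hb => ?_
      rw [IsScalarTower.algebraMap_apply B' X' (X' ⧸ _), Ideal.Quotient.algebraMap_eq,
        Ideal.Quotient.eq_zero_iff_mem, hJX]
      exact Ideal.mem_map_of_mem _ (hJ₀ ▸ hb)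
    exact Algebra.FiniteType.of_restrictScalars_finiteType B _ _
  have hJXeq : (J.map (algebraMap B (Localization.Away g))).map (algebraMap (Localization.Away g) X) = JX :=
    (RigClosed17.map_T J g).symm
  have hqn : ¬ JX ≤ q.asIdeal := hJXeq ▸ hq.1
  have hqmax : ∀ y : PrimeSpectrum X, q ≤ y → ¬ JX ≤ y.asIdeal → y = q := hJXeq ▸ hq.2
  obtain ⟨M, hM, hqM, hJM, -⟩ := RigClosed17.exists_maximal JX q hqn hqmax
  haveI := hM
  -- a closed point upstairs
  haveI : (M.comap (algebraMap B X)).IsPrime := Ideal.IsPrime.comap _
  obtain ⟨Q₀, hQ₀⟩ := PrimeSpectrum.comap_surjective_of_faithfullyFlat (A := B) (B := B')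
    ⟨M.comap (algebraMap B X), inferInstance⟩
  have hQ₀' : ∀ b, algebraMap B B' b ∈ Q₀.asIdeal ↔ algebraMap B X b ∈ M := fun b =>
    SetLike.ext_iff.1 (congrArg PrimeSpectrum.asIdeal hQ₀) b
  let K := FractionRing (B' ⧸ Q₀.asIdeal)
  let τ : B' →+* K := (algebraMap (B' ⧸ Q₀.asIdeal) K).comp (Ideal.Quotient.mk Q₀.asIdeal)
  have hτ : ∀ b, τ b = 0 ↔ b ∈ Q₀.asIdeal := fun b => by
    show algebraMap (B' ⧸ Q₀.asIdeal) K _ = 0 ↔ _
    rw [IsFractionRing.to_map_eq_zero_iff]
    exact Ideal.Quotient.eq_zero_iff_mem
  obtain ⟨π, hπ⟩ := RigClosed17.exists_hom J'' g'' (⊥ : Ideal K) τ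
    (isUnit_iff_ne_zero.2 fun h => hM.ne_top (Ideal.eq_top_of_isUnit_mem _
      ((hQ₀' g).1 (hg ▸ (hτ _).1 h)) (RigClosed17.isUnit_self J g)))
    (Ideal.map_le_iff_le_comap.2 fun b hb => by
      show τ b ∈ (⊥ : Ideal K)
      rw [Ideal.mem_bot, hτ]
      rw [hJ] at hb
      exact (Ideal.map_le_iff_le_comap.2 fun c hc => (hQ₀' c).2 (hJM (Ideal.mem_map_of_mem _ hc))) hb)
  let Q : PrimeSpectrum X' := ⟨RingHom.ker π, RingHom.ker_isPrime π⟩
  have hJQ : JX.map (algebraMap X X') ≤ Q.asIdeal := by
    rw [hJX, Ideal.map_le_iff_le_comap]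
    intro b hb
    show π (algebraMap B' X' b) = 0
    rw [hπ, hτ]
    rw [hJ] at hb
    exact (Ideal.map_le_iff_le_comap.2 fun c hc => (hQ₀' c).2 (hJM (Ideal.mem_map_of_mem _ hc))) hb
  have hQM : Q.asIdeal.comap (algebraMap X X') = M := by
    have hc : (Q.asIdeal.comap (algebraMap X X')).comap (algebraMap B X) = M.comap (algebraMap B X) := by
      ext b
      show π (χ (algebraMap B X b)) = 0 ↔ algebraMap B X b ∈ M
      rw [hχ, hπ, hτ, hQ₀']
    haveI := Q.2
    haveI : (Q.asIdeal.comap (algebraMap X X')).IsPrime := Ideal.IsPrime.comap _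
    exact le_antisymm
      (RigClosed17.prime_le_of_comap_le J g _ M (Ideal.map_le_iff_le_comap.1 hJQ) hJM hc.le)
      (RigClosed17.prime_le_of_comap_le J g M _ hJM (Ideal.map_le_iff_le_comap.1 hJQ) hc.ge)
  obtain ⟨q', ⟨hq'n, hq'max⟩, hq'q⟩ :=
    (S8836.result X JX X' hftX q ⟨hqn, hqmax⟩).1 ⟨Q, hJQ, by
      show q.asIdeal ≤ Q.asIdeal.comap (algebraMap X X')
      rw [hQM]; exact hqM, by
      show (Q.asIdeal.comap (algebraMap X X')).IsMaximal
      rw [hQM]; exact hM⟩
  have hJ'eq : (J''.map (algebraMap B' (Localization.Away g''))).map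
      (algebraMap (Localization.Away g'') X') = JX.map (algebraMap X X') :=
    hJX ▸ (RigClosed17.map_T J'' g'').symm
  have hflat := hA'B' f' ψ' hψ' q' (hJ'eq.symm ▸ ⟨hq'n, hq'max⟩)
  refine RigClosed17.flat_of_comp_flat q q' ψ χ hχflat (congrArg PrimeSpectrum.asIdeal hq'q) ?_
  rw [hsq, ← RingHom.comp_assoc]
  exact hμflat.comp hflat

end Groth.Agent.S8844
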