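import Groth.Statements.S8845
import Groth.Agent.RigClosed17.Cpl
import Groth.Agent.RigClosed17.Unram
-- import your own Groth.Agent.* helpers here

set_option autoImplicit false
universe u
open AdicRing

namespace Groth.Agent.S8845

/-- Quotients of completed localisations of an algebra with unramified reduction are unramified. -/
theorem formallyUnramified_quotient {A A' : Type u} [CommRing A] [CommRing A'] [IsNoetherianRing A']
    [Algebra A A'] (I' : Ideal A') [Algebra.FormallyUnramified A (A' ⧸ I')] (v : A')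
    (N : Ideal (RigClosed17.T I' v)) (hN : I'.map (algebraMap A' (RigClosed17.T I' v)) ≤ N) :
    Algebra.FormallyUnramified A (RigClosed17.T I' v ⧸ N) := by
  let Z := RigClosed17.T I' v ⧸ N
  let L := Localization.Away (Ideal.Quotient.mk I' v)
  let g : A' ⧸ I' →+* Z := Ideal.Quotient.lift I' (algebraMap A' Z) fun b hb => by
    rw [IsScalarTower.algebraMap_apply A' (RigClosed17.T I' v) Z, Ideal.Quotient.algebraMap_eq,
      Ideal.Quotient.eq_zero_iff_mem]
    exact hN (Ideal.mem_map_of_mem _ hb)
  have hu : IsUnit (g (Ideal.Quotient.mk I' v)) := by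
    show IsUnit (algebraMap A' Z v)
    rw [IsScalarTower.algebraMap_apply A' (RigClosed17.T I' v) Z]
    exact (RigClosed17.isUnit_self I' v).map _
  let e : L →+* Z := IsLocalization.Away.lift (Ideal.Quotient.mk I' v) hu
  have he : ∀ a, e (algebraMap (A' ⧸ I') L a) = g a := fun a => IsLocalization.Away.lift_eq _ hu a
  let eA : L →ₐ[A] Z :=
    { e with
      commutes' := fun a => by
        show e (algebraMap A L a) = _
        rw [IsScalarTower.algebraMap_apply A (A' ⧸ I') L, he, IsScalarTower.algebraMap_apply A A' (A' ⧸ I'),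
          IsScalarTower.algebraMap_apply A A' Z]
        rfl }
  refine Algebra.FormallyUnramified.of_surjective eA fun z => ?_
  obtain ⟨x, rfl⟩ := Ideal.Quotient.mk_surjective z
  obtain ⟨c, hc⟩ := RigClosed17.exists_approx I' v 1 x
  rw [pow_one] at hc
  obtain ⟨a, ⟨_, k, rfl⟩, rfl⟩ := IsLocalization.exists_mk'_eq (Submonoid.powers v) c
  refine ⟨IsLocalization.mk' L (Ideal.Quotient.mk I' a)
    (⟨Ideal.Quotient.mk I' v ^ k, k, rfl⟩ : Submonoid.powers (Ideal.Quotient.mk I' v)), ?_⟩
  show e _ = _
  refine (hu.pow k).mul_right_cancel ?_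
  have h1 := congrArg e (IsLocalization.mk'_spec L (Ideal.Quotient.mk I' a)
    (⟨Ideal.Quotient.mk I' v ^ k, k, rfl⟩ : Submonoid.powers (Ideal.Quotient.mk I' v)))
  rw [map_mul, he, he, map_pow] at h1
  rw [h1, Ideal.Quotient.eq.2 (hN hc)]
  have hs := congrArg (algebraMap (Localization.Away v) Z)
    (IsLocalization.mk'_spec (Localization.Away v) a (⟨v ^ k, k, rfl⟩ : Submonoid.powers v))
  rw [map_mul, ← IsScalarTower.algebraMap_apply, ← IsScalarTower.algebraMap_apply, map_pow] at hs
  exact hs.symm

/-- Consider a commutative square of adic Noetherian topological rings with all maps adic and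
topologically of finite type: A a Noetherian ring complete for the adic topology of an ideal I (the
ideal of definition used below); B, A' and B' Noetherian algebras complete for the IB-, IA'- and
IB'-adic topologies, B' an algebra over B and over A' compatibly with A, with B/IB and A'/IA' of
finite type over A and B'/IB' of finite type over B and over A'. Assume A → A' and B → B' are flat
and A/I → A'/IA' is étale. If A → B is rig-flat — for every f ∈ A, every ring map ψ : A_{f} → B_{f}
of completed principal localizations compatible with the map of ordinary localizations A[1/f] →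
B[1/f] (there is exactly one), and every rig-closed prime q of B_{f} (I B_{f} ⊄ q and q maximal
among the primes not containing I B_{f}), the local ring (B_{f})_q is flat over A_{f} via ψ — then
A' → B' is rig-flat in the same form: for every f' ∈ A', every ring map A'_{f'} → B'_{f'} of
completed principal localizations compatible with the map of ordinary localizations A'[1/f'] →
B'[1/f'], and every rig-closed prime q' of B'_{f'}, the local ring (B'_{f'})_{q'} is flat over
A'_{f'}. -/
theorem result (A : Type u) [CommRing A] [IsNoetherianRing A] (I : Ideal A) [IsAdicComplete I A] (B : Type u) [CommRing B] [Algebra A B] [IsNoetherianRing B] [IsAdicComplete (I.map (algebraMap A B)) B] (hftB : Algebra.FiniteType A (B ⧸ (I.map (algebraMap A B)))) (A' : Type u) [CommRing A'] [Algebra A A'] [IsNoetherianRing A'] [IsAdicComplete (I.map (algebraMap A A')) A'] (hftA' : Algebra.FiniteType A (A' ⧸ (I.map (algebraMap A A')))) (B' : Type u) [CommRing B'] [Algebra A B'] [Algebra B B'] [Algebra A' B'] [IsScalarTower A B B'] [IsScalarTower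 A A' B'] [IsNoetherianRing B'] [IsAdicComplete (I.map (algebraMap A B')) B'] (hftB'B : Algebra.FiniteType B (B' ⧸ (I.map (algebraMap A B')))) (hftB'A' : Algebra.FiniteType A' (B' ⧸ (I.map (algebraMap A B')))) [Module.Flat A A'] [Module.Flat B B'] [Algebra.Etale (A ⧸ I) (A' ⧸ (I.map (algebraMap A A')))] (hAB : (∀ f : A, ∀ ψf : (AdicCompletion (I.map (algebraMap A (Localization.Away f))) (Localization.Away f)) →+* (AdicCompletion ((I.map (algebraMap A B)).map (algebraMap B (Localization.Away (algebraMap A B f)))) (Localization.Away (algebraMap A B f))), ψf.comp (algebraMap (Localization.Away f) (AdicCompletion (I.map (algebraMap A (Localization.Away f))) (Localization.Away f))) = (algebraMap (Localization.Away (algebraMap A B f)) (AdicCompletion ((I.map (algebraMap A B)).map (algebraMap B (Localization.Away (algebraMap A B f)))) (Localization.Away (algebraMap A B f)))).comp (Localization.awayMap (algebraMap A B) f) → ∀ qf : PrimeSpectrum (AdicCompletion ((I.map (algebraMap A B)).map (algebraMap B (Localization.Away (algebraMap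 A B f)))) (Localization.Away (algebraMap A B f))), (¬ (((I.map (algebraMap A B)).map (algebraMap B (Localization.Away (algebraMap A B f)))).map (algebraMap (Localization.Away (algebraMap A B f)) (AdicCompletion ((I.map (algebraMap A B)).map (algebraMap B (Localization.Away (algebraMap A B f)))) (Localization.Away (algebraMap A B f))))) ≤ qf.asIdeal ∧ ∀ y : PrimeSpectrum (AdicCompletion ((I.map (algebraMap A B)).map (algebraMap B (Localization.Away (algebraMap A B f)))) (Localization.Away (algebraMap A B f))), qf ≤ y → ¬ (((I.map (algebraMap A B)).map (algebraMap B (Localization.Away (algebraMap A B f)))).map (algebraMap (Localization.Away (algebraMap A B f)) (AdicCompletion ((I.map (algebraMap A B)).map (algebraMap B (Localization.Away (algebraMap A B f)))) (Localization.Away (algebraMap A B f))))) ≤ y.asIdeal → y = qf) → ((algebraMap (AdicCompletion ((I.map (algebraMap A B)).map (algebraMap B (Localization.Away (algebraMap A B f)))) (Localization.Away (algebraMap A B f))) (Localization.AtPrime qf.asIdeal)).comp ψf).Flat))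 : (∀ f' : A', ∀ ψf' : (AdicCompletion ((I.map (algebraMap A A')).map (algebraMap A' (Localization.Away f'))) (Localization.Away f')) →+* (AdicCompletion (((I.map (algebraMap A A')).map (algebraMap A' B')).map (algebraMap B' (Localization.Away (algebraMap A' B' f')))) (Localization.Away (algebraMap A' B' f'))), ψf'.comp (algebraMap (Localization.Away f') (AdicCompletion ((I.map (algebraMap A A')).map (algebraMap A' (Localization.Away f'))) (Localization.Away f'))) = (algebraMap (Localization.Away (algebraMap A' B' f')) (AdicCompletion (((I.map (algebraMap A A')).map (algebraMap A' B')).map (algebraMap B' (Localization.Away (algebraMap A' B' f')))) (Localization.Away (algebraMap A' B' f')))).comp (Localization.awayMap (algebraMap A' B') f') → ∀ qf' : PrimeSpectrum (AdicCompletion (((I.map (algebraMap A A')).map (algebraMap A' B')).map (algebraMap B' (Localization.Away (algebraMap A' B' f')))) (Localization.Away (algebraMap A' B' f'))), (¬ ((((I.map (algebraMap A A')).map (algebraMap A' B')).map (algebraMap B' (Localization.Away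 (algebraMap A' B' f')))).map (algebraMap (Localization.Away (algebraMap A' B' f')) (AdicCompletion (((I.map (algebraMap A A')).map (algebraMap A' B')).map (algebraMap B' (Localization.Away (algebraMap A' B' f')))) (Localization.Away (algebraMap A' B' f'))))) ≤ qf'.asIdeal ∧ ∀ y : PrimeSpectrum (AdicCompletion (((I.map (algebraMap A A')).map (algebraMap A' B')).map (algebraMap B' (Localization.Away (algebraMap A' B' f')))) (Localization.Away (algebraMap A' B' f'))), qf' ≤ y → ¬ ((((I.map (algebraMap A A')).map (algebraMap A' B')).map (algebraMap B' (Localization.Away (algebraMap A' B' f')))).map (algebraMap (Localization.Away (algebraMap A' B' f')) (AdicCompletion (((I.map (algebraMap A A')).map (algebraMap A' B')).map (algebraMap B' (Localization.Away (algebraMap A' B' f')))) (Localization.Away (algebraMap A' B' f'))))) ≤ y.asIdeal → y = qf') → ((algebraMap (AdicCompletion (((I.map (algebraMap A A')).map (algebraMap A' B')).map (algebraMap B' (Localization.Away (algebraMap A' B' f')))) (Localization.Away (algebraMap A'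 B' f'))) (Localization.AtPrime qf'.asIdeal)).comp ψf').Flat) := by
  intro f' ψ' hψ' q hq
  let IB : Ideal B := I.map (algebraMap A B)
  let I' : Ideal A' := I.map (algebraMap A A')
  let J'' : Ideal B' := I'.map (algebraMap A' B')
  let g'' : B' := algebraMap A' B' f'
  have hJ₀ : J'' = I.map (algebraMap A B') := RigClosed17.map_tower I
  have hJ : J'' = IB.map (algebraMap B B') := hJ₀.trans (RigClosed17.map_tower I).symm
  let X := RigClosed17.T J'' g''
  let JX : Ideal X := J''.map (algebraMap B' X)
  have hJXeq : (J''.map (algebraMap B' (Localization.Away g''))).map (algebraMap (Localization.Away g'') X) = JX :=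
    (RigClosed17.map_T J'' g'').symm
  have hqn : ¬ JX ≤ q.asIdeal := hJXeq ▸ hq.1
  have hqmax : ∀ y : PrimeSpectrum X, q ≤ y → ¬ JX ≤ y.asIdeal → y = q := hJXeq ▸ hq.2
  obtain ⟨M, hM, hqM, hJM, huniq⟩ := RigClosed17.exists_maximal JX q hqn hqmax
  haveI := hM
  have hB'ft : Algebra.FiniteType A (B' ⧸ J'') := by
    rw [hJ₀]
    haveI := hftB'A'
    refine RigClosed17.finiteType_trans I' hftA' fun b hb => ?_
    rw [IsScalarTower.algebraMap_apply A' B' (B' ⧸ _), Ideal.Quotient.algebraMap_eq, Ideal.Quotient.eq_zero_iff_mem,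
      ← hJ₀]
    exact Ideal.mem_map_of_mem _ hb
  letI := Ideal.Quotient.field M
  haveI : Algebra.FiniteType B' (X ⧸ M) := RigClosed17.finiteType_quotient J'' g'' M hJM
  haveI : Algebra.FiniteType A (X ⧸ M) := RigClosed17.finiteType_trans J'' hB'ft fun c hc => by
    rw [IsScalarTower.algebraMap_apply B' X (X ⧸ M), Ideal.Quotient.algebraMap_eq, Ideal.Quotient.eq_zero_iff_mem]
    exact hJM (Ideal.mem_map_of_mem _ hc)
  obtain ⟨h, hh0, hh⟩ := RigClosed17.exists_denominator (A := A) (X ⧸ M)
  have hu : IsUnit (Ideal.Quotient.mk q.asIdeal (algebraMap B' X (algebraMap A B' h))) := by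
    refine RigClosed17.isUnit_mk q.asIdeal M hqM huniq _ fun hmem => hh0 ?_
    rw [IsScalarTower.algebraMap_apply A X (X ⧸ M), Ideal.Quotient.algebraMap_eq,
      Ideal.Quotient.eq_zero_iff_mem, IsScalarTower.algebraMap_apply A B' X]
    exact hmem
  let u : B := algebraMap A B h
  let u'' : B' := algebraMap A B' h
  let w : A' := f' * algebraMap A A' h
  let v : B' := u'' * g''
  obtain ⟨ρ, q', hρ, hρflat, hq'c, hsurj, hq'n, hq'max⟩ :=
    RigClosed17.exists_point_localization' J'' g'' u'' q hqn hqmax hu J'' v rfl (mul_comm _ _)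
  obtain ⟨ψA, hψA⟩ := RigClosed17.exists_psi I h (algebraMap A B) IB le_rfl
  obtain ⟨χ₁, hχ₁, hχ₁flat⟩ := RigClosed17.exists_flat_map IB u (algebraMap B B')
    (RingHom.flat_algebraMap_iff.2 inferInstance) J'' u'' hJ (IsScalarTower.algebraMap_apply A B B' h)
  obtain ⟨χ₂, hχ₂, hχ₂flat⟩ := RigClosed17.exists_res J'' u'' g''
  obtain ⟨μ, hμ, hμflat⟩ := RigClosed17.exists_res I' f' (algebraMap A A' h)
  have hψA' := RigClosed17.apply_algebraMap I h ψA hψA
  let A₀ := RigClosed17.T I h
  let A'' := RigClosed17.T I' w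
  let B₀ := RigClosed17.T IB u
  let Y := RigClosed17.T J'' v
  have hhw : IsUnit (algebraMap A A'' h) := by
    rw [IsScalarTower.algebraMap_apply A A' A'']
    exact isUnit_of_mul_isUnit_right (x := algebraMap A' A'' f')
      (by rw [← map_mul]; exact RigClosed17.isUnit_self I' w)
  obtain ⟨α, hα⟩ := RigClosed17.exists_hom I h (I'.map (algebraMap A' A'')) (algebraMap A A'') hhw
    (RigClosed17.map_tower I).ge
  obtain ⟨β, hβ⟩ := RigClosed17.exists_hom I' w (J''.map (algebraMap B' Y))
    ((algebraMap B' Y).comp (algebraMap A' B'))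
    (by
      show IsUnit (algebraMap B' Y (algebraMap A' B' (f' * algebraMap A A' h)))
      rw [map_mul, ← IsScalarTower.algebraMap_apply, mul_comm]
      exact RigClosed17.isUnit_self J'' v)
    (by rw [← Ideal.map_map])
  letI : Algebra A₀ A'' := α.toAlgebra
  letI : Algebra A'' Y := β.toAlgebra
  letI : Algebra A₀ Y := (β.comp α).toAlgebra
  letI : Algebra A₀ B₀ := ψA.toAlgebra
  letI : Algebra B₀ Y := (χ₂.comp χ₁).toAlgebra
  haveI : IsScalarTower A₀ A'' Y := IsScalarTower.of_algebraMap_eq fun _ => rfl
  haveI : IsScalarTower A A₀ A'' := IsScalarTower.of_algebraMap_eq fun a => (hα a).symm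
  haveI : IsScalarTower A A₀ Y := IsScalarTower.of_algebraMap_eq fun a => by
    show _ = β (α (algebraMap A A₀ a))
    rw [hα, IsScalarTower.algebraMap_apply A A' A'', hβ, RingHom.comp_apply,
      IsScalarTower.algebraMap_apply A B' Y, IsScalarTower.algebraMap_apply A A' B']
  haveI : IsScalarTower A' A'' Y := IsScalarTower.of_algebraMap_eq fun a => by
    show _ = β (algebraMap A' A'' a)
    rw [hβ, IsScalarTower.algebraMap_apply A' B' Y]
    rfl
  haveI : IsScalarTower B B₀ Y := IsScalarTower.of_algebraMap_eq fun b => by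
    show _ = χ₂ (χ₁ (algebraMap B B₀ b))
    rw [hχ₁, hχ₂, IsScalarTower.algebraMap_apply B B' Y]
  let JY : Ideal Y := J''.map (algebraMap B' Y)
  let IA₀ : Ideal A₀ := I.map (algebraMap A A₀)
  let IA'' : Ideal A'' := I'.map (algebraMap A' A'')
  have hI₀'' : IA₀.map (algebraMap A₀ A'') = IA'' :=
    (RigClosed17.map_tower I).trans (RigClosed17.map_tower I).symm
  have hI'' : IA''.map (algebraMap A'' Y) = JY :=
    (RigClosed17.map_tower I').trans (RigClosed17.map_tower I').symm
  have hI₀ : IA₀.map (algebraMap A₀ Y) = JY :=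
    (RigClosed17.map_tower I).trans
      ((congrArg (Ideal.map (algebraMap B' Y)) hJ₀).trans (RigClosed17.map_tower I)).symm
  have hIB : (IB.map (algebraMap B B₀)).map (algebraMap B₀ Y) = JY :=
    (RigClosed17.map_tower IB).trans
      ((congrArg (Ideal.map (algebraMap B' Y)) hJ).trans (RigClosed17.map_tower IB)).symm
  haveI : IsAdicComplete (IA₀.map (algebraMap A₀ A'')) A'' := hI₀'' ▸ inferInstance
  haveI : IsAdicComplete (IA''.map (algebraMap A'' Y)) Y := hI'' ▸ inferInstance
  haveI : IsAdicComplete (IA₀.map (algebraMap A₀ Y)) Y := hI₀ ▸ inferInstance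
  haveI : IsAdicComplete ((IB.map (algebraMap B B₀)).map (algebraMap B₀ Y)) Y := hIB ▸ inferInstance
  have hftY : ∀ N : Ideal Y, JY ≤ N → Algebra.FiniteType A (Y ⧸ N) := fun N hN => by
    haveI := RigClosed17.finiteType_quotient J'' v N hN
    exact RigClosed17.finiteType_trans J'' hB'ft fun c hc => by
      rw [IsScalarTower.algebraMap_apply B' Y (Y ⧸ N), Ideal.Quotient.algebraMap_eq, Ideal.Quotient.eq_zero_iff_mem]
      exact hN (Ideal.mem_map_of_mem _ hc)
  haveI hfin : Module.Finite A₀ (Y ⧸ q'.asIdeal) := by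
    refine RigClosed17.finite_of_residue IA₀ q' (hI₀ ▸ hq'n) (hI₀ ▸ hq'max) ?_ ?_
    · haveI := hftY _ (hI₀.ge.trans (le_sup_right (a := q'.asIdeal)))
      exact Algebra.FiniteType.of_restrictScalars_finiteType A _ _
    intro m hm hqm
    haveI := hm
    -- the residue field is that of `X`
    let e₀ : X →+* Y ⧸ m := (Ideal.Quotient.mk m).comp ρ
    have he₀ : Function.Surjective e₀ := fun x => by
      obtain ⟨x, rfl⟩ := Ideal.Quotient.mk_surjective x
      obtain ⟨b, hb⟩ := hsurj x
      exact ⟨b, (Ideal.Quotient.eq.2 (hqm hb)).symm⟩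
    letI := Ideal.Quotient.field m
    have hk : (RingHom.ker e₀).IsMaximal := RingHom.ker_isMaximal_of_surjective _ he₀
    have hqk : q.asIdeal ≤ RingHom.ker e₀ := fun x hx =>
      Ideal.Quotient.eq_zero_iff_mem.2 (hqm (hq'c.ge hx))
    have hkM : RingHom.ker e₀ = M := by
      rcases huniq _ hk.isPrime hqk with e' | e'
      · rw [e']
        exact (e' ▸ hk : q.asIdeal.IsMaximal).eq_of_le hM.ne_top hqM
      · exact e'
    let e₁ : X ⧸ M →+* Y ⧸ m := Ideal.Quotient.lift M e₀ fun x hx => hkM.ge hx
    have he₁A : ∀ a, e₁ (algebraMap A (X ⧸ M) a) = algebraMap A (Y ⧸ m) a := fun a => by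
      show Ideal.Quotient.mk m (ρ (algebraMap A X a)) = _
      rw [IsScalarTower.algebraMap_apply A B' X, hρ, ← IsScalarTower.algebraMap_apply]
      rfl
    have hI0 : ∀ a ∈ I, algebraMap A (X ⧸ M) a = 0 := fun a ha => by
      rw [IsScalarTower.algebraMap_apply A X (X ⧸ M), Ideal.Quotient.algebraMap_eq,
        Ideal.Quotient.eq_zero_iff_mem, IsScalarTower.algebraMap_apply A B' X]
      exact hJM (Ideal.mem_map_of_mem _ (hJ₀ ▸ Ideal.mem_map_of_mem _ ha))
    obtain ⟨σ, hσ⟩ := RigClosed17.exists_hom I h (⊥ : Ideal (X ⧸ M)) (algebraMap A (X ⧸ M))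
      (isUnit_iff_ne_zero.2 hh0) (Ideal.map_le_iff_le_comap.2 fun a ha => Ideal.mem_bot.2 (hI0 a ha))
    letI : Algebra A₀ (X ⧸ M) := σ.toAlgebra
    haveI : IsScalarTower A A₀ (X ⧸ M) := IsScalarTower.of_algebraMap_eq fun a => (hσ a).symm
    haveI : Module.Finite A₀ (X ⧸ M) := hh A₀ (RigClosed17.isUnit_self I h)
    have hcomm : e₁.comp σ = algebraMap A₀ (Y ⧸ m) :=
      RigClosed17.ext_hom I h (⊥ : Ideal (Y ⧸ m)) _ _
        (fun a => by rw [RingHom.comp_apply, hσ, he₁A, IsScalarTower.algebraMap_apply A A₀ (Y ⧸ m)])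
        (fun a ha => by rw [RingHom.comp_apply, hσ, hI0 a ha, map_zero]; exact Ideal.zero_mem _)
    exact Module.Finite.of_surjective
      ({ e₁ with commutes' := RingHom.congr_fun hcomm } : (X ⧸ M) →ₐ[A₀] (Y ⧸ m)).toLinearMap
      fun y => by
        obtain ⟨x, rfl⟩ := he₀ y
        exact ⟨Ideal.Quotient.mk M x, rfl⟩
  -- the squares
  have hsqB : algebraMap A₀ Y = (algebraMap B₀ Y).comp ψA :=
    RigClosed17.ext_hom I h JY _ _
      (fun a => by
        rw [RingHom.comp_apply, hψA', ← IsScalarTower.algebraMap_apply A A₀ Y,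
          ← IsScalarTower.algebraMap_apply B B₀ Y, IsScalarTower.algebraMap_apply A B' Y,
          IsScalarTower.algebraMap_apply A B B', ← IsScalarTower.algebraMap_apply B B' Y])
      (fun a ha => hI₀.le (Ideal.mem_map_of_mem _ (Ideal.mem_map_of_mem _ ha)))
  haveI : IsScalarTower A₀ B₀ Y := IsScalarTower.of_algebraMap_eq (RingHom.congr_fun hsqB)
  haveI : Module.Finite B₀ (Y ⧸ q'.asIdeal) := Module.Finite.of_restrictScalars_finite A₀ B₀ _
  haveI : Module.Finite A'' (Y ⧸ q'.asIdeal) := Module.Finite.of_restrictScalars_finite A₀ A'' _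
  obtain ⟨hpn, hpmax⟩ := RigClosed17.rigClosed_comap_of_finite (IB.map (algebraMap B B₀)) q'
    (hIB ▸ hq'n) (hIB ▸ hq'max)
  obtain ⟨hp0n, hp0max⟩ := RigClosed17.rigClosed_comap_of_finite IA₀ q' (hI₀ ▸ hq'n) (hI₀ ▸ hq'max)
  obtain ⟨hp2n, hp2max⟩ := RigClosed17.rigClosed_comap_of_finite IA'' q' (hI'' ▸ hq'n) (hI'' ▸ hq'max)
  let p : PrimeSpectrum B₀ := PrimeSpectrum.comap (algebraMap B₀ Y) q'
  let p'' : PrimeSpectrum A'' := PrimeSpectrum.comap (algebraMap A'' Y) q'
  have hJB' : (IB.map (algebraMap B (Localization.Away u))).map (algebraMap (Localization.Away u) B₀) =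
      IB.map (algebraMap B B₀) := (RigClosed17.map_T IB u).symm
  have h1 := hAB h ψA hψA p
    (hJB'.symm ▸ ⟨hpn, fun y hy hIy => PrimeSpectrum.ext (hpmax y.asIdeal y.2 hy hIy)⟩)
  let R1 := Localization.AtPrime p''.asIdeal
  let S1 := Localization.AtPrime q'.asIdeal
  -- flatness over `A₀`
  haveI hflat₀ : Module.Flat A₀ S1 := by
    have hη : (Localization.localRingHom p.asIdeal q'.asIdeal (algebraMap B₀ Y) rfl).Flat :=
      RingHom.Flat.localRingHom (hχ₁flat.comp hχ₂flat) _ _ rfl
    have h3 := h1.comp hη
    rw [← RingHom.comp_assoc, show (Localization.localRingHom p.asIdeal q'.asIdeal (algebraMap B₀ Y) rfl).comp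
        (algebraMap B₀ (Localization.AtPrime p.asIdeal)) = (algebraMap Y S1).comp (algebraMap B₀ Y) from
        RingHom.ext fun b => Localization.localRingHom_to_map p.asIdeal q'.asIdeal (algebraMap B₀ Y) rfl b,
      RingHom.comp_assoc, ← hsqB, ← IsScalarTower.algebraMap_eq] at h3
    exact RingHom.flat_algebraMap_iff.1 h3
  -- the fibre of `R1` is a field
  have hft'' : Algebra.FiniteType A₀ (A'' ⧸ IA₀.map (algebraMap A₀ A'')) := by
    haveI := RigClosed17.finiteType_quotient I' w (IA₀.map (algebraMap A₀ A'')) hI₀''.ge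
    haveI : Algebra.FiniteType A (A'' ⧸ IA₀.map (algebraMap A₀ A'')) :=
      RigClosed17.finiteType_trans I' hftA' fun c hc => by
        rw [IsScalarTower.algebraMap_apply A' A'' (A'' ⧸ _), Ideal.Quotient.algebraMap_eq,
          Ideal.Quotient.eq_zero_iff_mem, hI₀'']
        exact Ideal.mem_map_of_mem _ hc
    exact Algebra.FiniteType.of_restrictScalars_finiteType A _ _
  haveI : Algebra.FormallyUnramified A (A' ⧸ I') := Algebra.FormallyUnramified.comp A (A ⧸ I) (A' ⧸ I')
  haveI : Algebra.FormallyUnramified A (A'' ⧸ IA₀.map (algebraMap A₀ A'')) :=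
    formallyUnramified_quotient I' w _ hI₀''.ge
  haveI : Algebra.FormallyUnramified A₀ (A'' ⧸ IA₀.map (algebraMap A₀ A'')) :=
    Algebra.FormallyUnramified.of_restrictScalars A _ _
  have hp0eq : p''.asIdeal.comap (algebraMap A₀ A'') = q'.asIdeal.comap (algebraMap A₀ Y) := rfl
  have hmax := RigClosed17.map_eq_maximal_of_unramified IA₀ hft'' p''
    ⟨hI₀'' ▸ hp2n, hI₀'' ▸ fun y hy hIy => PrimeSpectrum.ext (hp2max y.asIdeal y.2 hy hIy)⟩
    ⟨hp0n, fun y hy hIy => PrimeSpectrum.ext (hp0max y.asIdeal y.2 hy hIy)⟩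
  let η : R1 →+* S1 := Localization.localRingHom p''.asIdeal q'.asIdeal (algebraMap A'' Y) rfl
  haveI : IsLocalHom η := Localization.isLocalHom_localRingHom _ _ _ _
  letI : Algebra R1 S1 := η.toAlgebra
  haveI : IsScalarTower A₀ R1 S1 := IsScalarTower.of_algebraMap_eq fun a => by
    rw [IsScalarTower.algebraMap_apply A₀ A'' R1]
    show _ = η (algebraMap A'' R1 _)
    rw [Localization.localRingHom_to_map, ← IsScalarTower.algebraMap_apply,
      ← IsScalarTower.algebraMap_apply]
  let m₀ : Ideal A₀ := (PrimeSpectrum.comap (algebraMap A₀ A'') p'').asIdeal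
  have hm1 : m₀.map (algebraMap A₀ R1) = IsLocalRing.maximalIdeal R1 :=
    (RigClosed17.map_tower m₀).symm.trans hmax
  haveI : (m₀.map (algebraMap A₀ R1)).IsMaximal := hm1 ▸ inferInstance
  letI := Ideal.Quotient.field (m₀.map (algebraMap A₀ R1))
  haveI : Module.Flat R1 S1 := Groth.FlatDescent.flat_of_flat_fibre (S' := S1) (M := S1) m₀ (by
    rw [hm1, IsLocalRing.jacobson_eq_maximalIdeal ⊥ bot_ne_top]
    exact ((IsLocalRing.local_hom_TFAE η).out 0 2).1 ‹IsLocalHom η›)
  have h2 : ((algebraMap Y S1).comp (algebraMap A'' Y)).Flat := by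
    rw [← show η.comp (algebraMap A'' R1) = (algebraMap Y S1).comp (algebraMap A'' Y) from
      RingHom.ext fun b => Localization.localRingHom_to_map p''.asIdeal q'.asIdeal (algebraMap A'' Y) rfl b]
    exact (RingHom.flat_algebraMap_iff.2 inferInstance).comp (RingHom.flat_algebraMap_iff.2 ‹Module.Flat R1 S1›)
  refine RigClosed17.flat_of_comp_flat q q' ψ' ρ hρflat hq'c ?_
  have hψ'A := RigClosed17.apply_algebraMap I' f' ψ' hψ'
  have hsq : ρ.comp ψ' = β.comp μ := RigClosed17.ext_hom I' f' JY _ _
    (fun a => by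
      simp only [RingHom.comp_apply]
      rw [hψ'A, hρ, hμ, hβ]
      rfl)
    (fun a ha => by
      rw [RingHom.comp_apply, hψ'A, hρ]
      exact Ideal.mem_map_of_mem _ (Ideal.mem_map_of_mem _ ha))
  rw [hsq, ← RingHom.comp_assoc]
  exact hμflat.comp h2

end Groth.Agent.S8845
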