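import Groth.Statements.S8846
import Groth.Agent.RigClosed17.Cpl
import Groth.Agent.RigClosed17.CplGen
import Groth.Agent.RigClosed17.Pushout
-- import your own Groth.Agent.* helpers here

set_option autoImplicit false
universe u
open scoped TensorProduct
open AdicRing

namespace Groth.Agent.S8846

open TensorProduct Groth.Agent.RigClosed17 Groth.Agent.RigClosed17.Pushout

set_option maxHeartbeats 1000000 in
/-- The statement with the completed tensor product abstracted. -/
theorem key (A : Type u) [CommRing A] [IsNoetherianRing A] (I : Ideal A) [IsAdicComplete I A] (B : Type u)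
    [CommRing B] [Algebra A B] [IsNoetherianRing B] [IsAdicComplete (I.map (algebraMap A B)) B]
    (hAB : (∀ f : A, ∀ ψf : (AdicCompletion (I.map (algebraMap A (Localization.Away f))) (Localization.Away f)) →+* (AdicCompletion ((I.map (algebraMap A B)).map (algebraMap B (Localization.Away (algebraMap A B f)))) (Localization.Away (algebraMap A B f))), ψf.comp (algebraMap (Localization.Away f) (AdicCompletion (I.map (algebraMap A (Localization.Away f))) (Localization.Away f))) = (algebraMap (Localization.Away (algebraMap A B f)) (AdicCompletion ((I.map (algebraMap A B)).map (algebraMap B (Localization.Away (algebraMap A B f)))) (Localization.Away (algebraMap A B f)))).comp (Localization.awayMap (algebraMap A B) f) → ∀ qf : PrimeSpectrum (AdicCompletion ((I.map (algebraMap A B)).map (algebraMap B (Localization.Away (algebraMap A B f)))) (Localization.Away (algebraMap A B f))), (¬ (((I.map (algebraMap A B)).map (algebraMap B (Localization.Away (algebraMap A B f)))).map (algebraMap (Localization.Away (algebraMap A B f)) (AdicCompletion ((I.map (algebraMap A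 B)).map (algebraMap B (Localization.Away (algebraMap A B f)))) (Localization.Away (algebraMap A B f))))) ≤ qf.asIdeal ∧ ∀ y : PrimeSpectrum (AdicCompletion ((I.map (algebraMap A B)).map (algebraMap B (Localization.Away (algebraMap A B f)))) (Localization.Away (algebraMap A B f))), qf ≤ y → ¬ (((I.map (algebraMap A B)).map (algebraMap B (Localization.Away (algebraMap A B f)))).map (algebraMap (Localization.Away (algebraMap A B f)) (AdicCompletion ((I.map (algebraMap A B)).map (algebraMap B (Localization.Away (algebraMap A B f)))) (Localization.Away (algebraMap A B f))))) ≤ y.asIdeal → y = qf) → ((algebraMap (AdicCompletion ((I.map (algebraMap A B)).map (algebraMap B (Localization.Away (algebraMap A B f)))) (Localization.Away (algebraMap A B f))) (Localization.AtPrime qf.asIdeal)).comp ψf).Flat))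
    (C : Type u) [CommRing C] [Algebra A C] [IsNoetherianRing C] [IsAdicComplete (I.map (algebraMap A C)) C]
    (hftC : Algebra.FiniteType A (C ⧸ (I.map (algebraMap A C))))
    (D : Type u) [CommRing D] [IsNoetherianRing D] [Algebra A D] [Algebra C D] [IsScalarTower A C D]
    (ιD : B →ₐ[A] D) (hDft : Algebra.FiniteType A (D ⧸ I.map (algebraMap A D)))
    (hext : ∀ (v : D) {X : Type u} [CommRing X] (L : Ideal X) [IsHausdorff L X]
      (f g : RigClosed17.T ((I.map (algebraMap A C)).map (algebraMap C D)) v →+* X),
      (∀ c : C, f (algebraMap D _ (algebraMap C D c)) = g (algebraMap D _ (algebraMap C D c))) →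
      (∀ b : B, f (algebraMap D _ (ιD b)) = g (algebraMap D _ (ιD b))) →
      (∀ a ∈ I, f (algebraMap D _ (algebraMap C D (algebraMap A C a))) ∈ L) → f = g)
    (hlift : ∀ (v : D) (w : C), v = algebraMap C D w → ∀ {X : Type u} [CommRing X] [Algebra A X] (L : Ideal X)
      [IsAdicComplete L X] (f₁ : C →ₐ[A] X) (f₂ : B →ₐ[A] X), IsUnit (f₁ w) → I.map (algebraMap A X) ≤ L →
      ∃ Φ : RigClosed17.T ((I.map (algebraMap A C)).map (algebraMap C D)) v →+* X,
        (∀ c : C, Φ (algebraMap D _ (algebraMap C D c)) = f₁ c) ∧ ∀ b : B, Φ (algebraMap D _ (ιD b)) = f₂ b)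
    (h : C) (ψh : AdicCompletion ((I.map (algebraMap A C)).map (algebraMap C (Localization.Away h))) (Localization.Away h) →+* AdicCompletion (((I.map (algebraMap A C)).map (algebraMap C D)).map (algebraMap D (Localization.Away (algebraMap C D h)))) (Localization.Away (algebraMap C D h)))
    (hψh : ψh.comp (algebraMap (Localization.Away h) (AdicCompletion ((I.map (algebraMap A C)).map (algebraMap C (Localization.Away h))) (Localization.Away h))) =
      (algebraMap (Localization.Away (algebraMap C D h)) (AdicCompletion (((I.map (algebraMap A C)).map (algebraMap C D)).map (algebraMap D (Localization.Away (algebraMap C D h)))) (Localization.Away (algebraMap C D h)))).comp (Localization.awayMap (algebraMap C D) h))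
    (q : PrimeSpectrum (AdicCompletion (((I.map (algebraMap A C)).map (algebraMap C D)).map (algebraMap D (Localization.Away (algebraMap C D h)))) (Localization.Away (algebraMap C D h))))
    (hq : ¬ (((I.map (algebraMap A C)).map (algebraMap C D)).map (algebraMap D (Localization.Away (algebraMap C D h)))).map
        (algebraMap (Localization.Away (algebraMap C D h)) (AdicCompletion (((I.map (algebraMap A C)).map (algebraMap C D)).map (algebraMap D (Localization.Away (algebraMap C D h)))) (Localization.Away (algebraMap C D h)))) ≤ q.asIdeal ∧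
      ∀ y : PrimeSpectrum (AdicCompletion (((I.map (algebraMap A C)).map (algebraMap C D)).map (algebraMap D (Localization.Away (algebraMap C D h)))) (Localization.Away (algebraMap C D h))),
        q ≤ y → ¬ (((I.map (algebraMap A C)).map (algebraMap C D)).map (algebraMap D (Localization.Away (algebraMap C D h)))).map
          (algebraMap (Localization.Away (algebraMap C D h)) (AdicCompletion (((I.map (algebraMap A C)).map (algebraMap C D)).map (algebraMap D (Localization.Away (algebraMap C D h)))) (Localization.Away (algebraMap C D h)))) ≤ y.asIdeal → y = q) :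
    ((algebraMap (AdicCompletion (((I.map (algebraMap A C)).map (algebraMap C D)).map (algebraMap D (Localization.Away (algebraMap C D h)))) (Localization.Away (algebraMap C D h))) (Localization.AtPrime q.asIdeal)).comp ψh).Flat := by
  classical
  let IC : Ideal C := I.map (algebraMap A C)
  let JD : Ideal D := IC.map (algebraMap C D)
  have hJD : JD = I.map (algebraMap A D) := RigClosed17.map_tower I
  let gD : D := algebraMap C D h
  let X := RigClosed17.T JD gD
  let JX : Ideal X := JD.map (algebraMap D X)
  have hJXeq : (JD.map (algebraMap D (Localization.Away gD))).map (algebraMap (Localization.Away gD) X) = JX :=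
    (RigClosed17.map_T JD gD).symm
  have hqn : ¬ JX ≤ q.asIdeal := hJXeq ▸ hq.1
  have hqmax : ∀ y : PrimeSpectrum X, q ≤ y → ¬ JX ≤ y.asIdeal → y = q := hJXeq ▸ hq.2
  obtain ⟨M, hM, hqM, hJM, huniq⟩ := RigClosed17.exists_maximal JX q hqn hqmax
  haveI := hM
  letI := Ideal.Quotient.field M
  haveI : Algebra.FiniteType D (X ⧸ M) := RigClosed17.finiteType_quotient JD gD M hJM
  haveI : Algebra.FiniteType A (X ⧸ M) := RigClosed17.finiteType_trans (I.map (algebraMap A D)) hDft fun c hc => by
    rw [IsScalarTower.algebraMap_apply D X (X ⧸ M), Ideal.Quotient.algebraMap_eq, Ideal.Quotient.eq_zero_iff_mem]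
    exact hJM (Ideal.mem_map_of_mem _ (hJD ▸ hc))
  obtain ⟨e, he0, he⟩ := RigClosed17.exists_denominator (A := A) (X ⧸ M)
  have hu : IsUnit (Ideal.Quotient.mk q.asIdeal (algebraMap D X (algebraMap A D e))) := by
    refine RigClosed17.isUnit_mk q.asIdeal M hqM huniq _ fun hmem => he0 ?_
    rw [IsScalarTower.algebraMap_apply A X (X ⧸ M), Ideal.Quotient.algebraMap_eq,
      Ideal.Quotient.eq_zero_iff_mem, IsScalarTower.algebraMap_apply A D X]
    exact hmem
  let u : B := algebraMap A B e
  let w : C := h * algebraMap A C e
  let v : D := algebraMap C D w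
  have hv : v = gD * algebraMap A D e := by
    show algebraMap C D (h * algebraMap A C e) = algebraMap C D h * algebraMap A D e
    rw [map_mul, ← IsScalarTower.algebraMap_apply A C D]
  obtain ⟨ρ, q', hρ, hρflat, hq'c, hsurj, hq'n, hq'max⟩ :=
    RigClosed17.exists_point_localization' JD gD (algebraMap A D e) q hqn hqmax hu JD v rfl hv
  obtain ⟨μ, hμ, hμflat⟩ := RigClosed17.exists_res IC h (algebraMap A C e)
  obtain ⟨ψC, hψC⟩ := RigClosed17.exists_psi IC w (algebraMap C D) JD le_rfl
  have hψC' := RigClosed17.apply_algebraMap IC w ψC hψC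
  obtain ⟨ψA, hψA⟩ := RigClosed17.exists_psi I e (algebraMap A B) (I.map (algebraMap A B)) le_rfl
  have hψA' := RigClosed17.apply_algebraMap I e ψA hψA
  let IB : Ideal B := I.map (algebraMap A B)
  let A₀ := RigClosed17.T I e
  let B₀ := RigClosed17.T IB u
  let C₁ := RigClosed17.T IC w
  let Y := RigClosed17.T JD v
  let JY : Ideal Y := JD.map (algebraMap D Y)
  let ιB : B →ₐ[A] Y := (IsScalarTower.toAlgHom A D Y).comp ιD
  have heY : IsUnit (algebraMap A Y e) := by
    rw [IsScalarTower.algebraMap_apply A D Y]
    refine isUnit_of_mul_isUnit_right (x := algebraMap D Y gD) ?_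
    rw [← map_mul, ← hv]
    exact RigClosed17.isUnit_self JD v
  have hIY : I.map (algebraMap A Y) = JY :=
    (RigClosed17.map_tower I).symm.trans (congrArg (Ideal.map (algebraMap D Y)) hJD.symm)
  obtain ⟨βB, hβB⟩ := RigClosed17.exists_hom IB u JY ιB.toRingHom
    (by
      show IsUnit (ιB (algebraMap A B e))
      rw [AlgHom.commutes]
      exact heY)
    (le_of_eq ((Ideal.map_map _ _).trans ((congrArg (fun φ => Ideal.map φ I) ιB.comp_algebraMap).trans hIY)))
  have heC : IsUnit (algebraMap A C₁ e) := by
    rw [IsScalarTower.algebraMap_apply A C C₁]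
    exact isUnit_of_mul_isUnit_right (x := algebraMap C C₁ h)
      (by rw [← map_mul]; exact RigClosed17.isUnit_self IC w)
  obtain ⟨α, hα⟩ := RigClosed17.exists_hom I e (IC.map (algebraMap C C₁)) (algebraMap A C₁) heC
    (RigClosed17.map_tower I).ge
  letI : Algebra A₀ C₁ := α.toAlgebra
  letI : Algebra C₁ Y := ψC.toAlgebra
  letI : Algebra A₀ Y := (ψC.comp α).toAlgebra
  letI : Algebra A₀ B₀ := ψA.toAlgebra
  letI : Algebra B₀ Y := βB.toAlgebra
  haveI : IsScalarTower A₀ C₁ Y := IsScalarTower.of_algebraMap_eq fun _ => rfl
  haveI : IsScalarTower A A₀ C₁ := IsScalarTower.of_algebraMap_eq fun a => (hα a).symm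
  haveI : IsScalarTower A A₀ B₀ := IsScalarTower.of_algebraMap_eq fun a => by
    show _ = ψA (algebraMap A A₀ a)
    rw [hψA', IsScalarTower.algebraMap_apply A B B₀]
  haveI : IsScalarTower C C₁ Y := IsScalarTower.of_algebraMap_eq fun c => by
    show _ = ψC (algebraMap C C₁ c)
    rw [hψC', IsScalarTower.algebraMap_apply C D Y]
  haveI : IsScalarTower A A₀ Y := IsScalarTower.of_algebraMap_eq fun a => by
    show _ = ψC (α (algebraMap A A₀ a))
    rw [hα, IsScalarTower.algebraMap_apply A C C₁, hψC', IsScalarTower.algebraMap_apply A D Y,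
      IsScalarTower.algebraMap_apply A C D]
  let IA₀ : Ideal A₀ := I.map (algebraMap A A₀)
  let IC₁ : Ideal C₁ := IC.map (algebraMap C C₁)
  have hI₀C : IA₀.map (algebraMap A₀ C₁) = IC₁ :=
    (RigClosed17.map_tower I).trans (RigClosed17.map_tower I).symm
  have hI₀B : IA₀.map (algebraMap A₀ B₀) = IB.map (algebraMap B B₀) :=
    (RigClosed17.map_tower I).trans (RigClosed17.map_tower I).symm
  have hI₀ : IA₀.map (algebraMap A₀ Y) = JY := (RigClosed17.map_tower I).trans hIY
  have hIC₁ : IC₁.map (algebraMap C₁ Y) = JY := (RigClosed17.map_tower IC).trans (RigClosed17.map_tower IC).symm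
  have hsqB : algebraMap A₀ Y = (algebraMap B₀ Y).comp (algebraMap A₀ B₀) :=
    RigClosed17.ext_hom I e JY _ _
      (fun a => by
        show _ = βB (ψA (algebraMap A A₀ a))
        rw [hψA', hβB, ← IsScalarTower.algebraMap_apply A A₀ Y]
        exact (ιB.commutes a).symm)
      (fun a ha => hI₀.le (Ideal.mem_map_of_mem _ (Ideal.mem_map_of_mem _ ha)))
  haveI : IsScalarTower A₀ B₀ Y := IsScalarTower.of_algebraMap_eq (RingHom.congr_fun hsqB)
  have hIB₀ : (IB.map (algebraMap B B₀)).map (algebraMap B₀ Y) = JY :=
    (congrArg (Ideal.map (algebraMap B₀ Y)) hI₀B.symm).trans ((RigClosed17.map_tower IA₀).trans hI₀)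
  haveI : IsAdicComplete (IA₀.map (algebraMap A₀ C₁)) C₁ := hI₀C ▸ inferInstance
  haveI : IsAdicComplete (IA₀.map (algebraMap A₀ Y)) Y := hI₀ ▸ inferInstance
  haveI : IsAdicComplete (IC₁.map (algebraMap C₁ Y)) Y := hIC₁ ▸ inferInstance
  haveI : IsAdicComplete ((IB.map (algebraMap B B₀)).map (algebraMap B₀ Y)) Y := hIB₀ ▸ inferInstance
  have hftY : ∀ N : Ideal Y, JY ≤ N → Algebra.FiniteType A (Y ⧸ N) := fun N hN => by
    haveI := RigClosed17.finiteType_quotient JD v N hN
    exact RigClosed17.finiteType_trans (I.map (algebraMap A D)) hDft fun c hc => by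
      rw [IsScalarTower.algebraMap_apply D Y (Y ⧸ N), Ideal.Quotient.algebraMap_eq, Ideal.Quotient.eq_zero_iff_mem]
      exact hN (Ideal.mem_map_of_mem _ (hJD ▸ hc))
  haveI hfin : Module.Finite A₀ (Y ⧸ q'.asIdeal) := by
    refine RigClosed17.finite_of_residue IA₀ q' (hI₀ ▸ hq'n) (hI₀ ▸ hq'max) ?_ ?_
    · haveI := hftY _ (hI₀.ge.trans (le_sup_right (a := q'.asIdeal)))
      exact Algebra.FiniteType.of_restrictScalars_finiteType A _ _
    intro m hm hqm
    haveI := hm
    -- the residue field is that of `X`
    let e₀ : X →+* Y ⧸ m := (Ideal.Quotient.mk m).comp ρ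
    have he₀ : Function.Surjective e₀ := fun x => by
      obtain ⟨x, rfl⟩ := Ideal.Quotient.mk_surjective x
      obtain ⟨b, hb⟩ := hsurj x
      exact ⟨b, (Ideal.Quotient.eq.2 (hqm hb)).symm⟩
    letI := Ideal.Quotient.field m
    have hk : (RingHom.ker e₀).IsMaximal := RingHom.ker_isMaximal_of_surjective _ he₀
    have hqk : q.asIdeal ≤ RingHom.ker e₀ := fun x hx =>
      Ideal.Quotient.eq_zero_iff_mem.2 (hqm (hq'c.ge hx))
    have hkM : RingHom.ker e₀ = M := by
      rcases huniq _ hk.isPrime hqk with e' | e'
      · rw [e']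
        exact (e' ▸ hk : q.asIdeal.IsMaximal).eq_of_le hM.ne_top hqM
      · exact e'
    let e₁ : X ⧸ M →+* Y ⧸ m := Ideal.Quotient.lift M e₀ fun x hx => hkM.ge hx
    have he₁A : ∀ a, e₁ (algebraMap A (X ⧸ M) a) = algebraMap A (Y ⧸ m) a := fun a => by
      show Ideal.Quotient.mk m (ρ (algebraMap A X a)) = _
      rw [IsScalarTower.algebraMap_apply A D X, hρ, ← IsScalarTower.algebraMap_apply]
      rfl
    have hI0 : ∀ a ∈ I, algebraMap A (X ⧸ M) a = 0 := fun a ha => by
      rw [IsScalarTower.algebraMap_apply A X (X ⧸ M), Ideal.Quotient.algebraMap_eq,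
        Ideal.Quotient.eq_zero_iff_mem, IsScalarTower.algebraMap_apply A D X]
      exact hJM (Ideal.mem_map_of_mem _ (hJD ▸ Ideal.mem_map_of_mem _ ha))
    obtain ⟨σ, hσ⟩ := RigClosed17.exists_hom I e (⊥ : Ideal (X ⧸ M)) (algebraMap A (X ⧸ M))
      (isUnit_iff_ne_zero.2 he0) (Ideal.map_le_iff_le_comap.2 fun a ha => Ideal.mem_bot.2 (hI0 a ha))
    letI : Algebra A₀ (X ⧸ M) := σ.toAlgebra
    haveI : IsScalarTower A A₀ (X ⧸ M) := IsScalarTower.of_algebraMap_eq fun a => (hσ a).symm
    haveI : Module.Finite A₀ (X ⧸ M) := he A₀ (RigClosed17.isUnit_self I e)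
    have hcomm : e₁.comp σ = algebraMap A₀ (Y ⧸ m) :=
      RigClosed17.ext_hom I e (⊥ : Ideal (Y ⧸ m)) _ _
        (fun a => by rw [RingHom.comp_apply, hσ, he₁A, IsScalarTower.algebraMap_apply A A₀ (Y ⧸ m)])
        (fun a ha => by rw [RingHom.comp_apply, hσ, hI0 a ha, map_zero]; exact Ideal.zero_mem _)
    exact Module.Finite.of_surjective
      ({ e₁ with commutes' := RingHom.congr_fun hcomm } : (X ⧸ M) →ₐ[A₀] (Y ⧸ m)).toLinearMap
      fun y => by
        obtain ⟨x, rfl⟩ := he₀ y
        exact ⟨Ideal.Quotient.mk M x, rfl⟩
  haveI : Module.Finite B₀ (Y ⧸ q'.asIdeal) := Module.Finite.of_restrictScalars_finite A₀ B₀ _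
  obtain ⟨hpn, hpmax⟩ := RigClosed17.rigClosed_comap_of_finite (IB.map (algebraMap B B₀)) q'
    (hIB₀ ▸ hq'n) (hIB₀ ▸ hq'max)
  let p : PrimeSpectrum B₀ := PrimeSpectrum.comap (algebraMap B₀ Y) q'
  have hJB' : (IB.map (algebraMap B (Localization.Away u))).map (algebraMap (Localization.Away u) B₀) =
      IB.map (algebraMap B B₀) := (RigClosed17.map_T IB u).symm
  have h1 := hAB e ψA hψA p
    (hJB'.symm ▸ ⟨hpn, fun y hy hIy => PrimeSpectrum.ext (hpmax y.asIdeal y.2 hy hIy)⟩)
  let S0 := Localization.AtPrime p.asIdeal
  haveI : Module.Flat A₀ S0 := by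
    have : (algebraMap A₀ S0).Flat := by
      rw [IsScalarTower.algebraMap_eq A₀ B₀ S0]
      exact h1
    exact RingHom.flat_algebraMap_iff.1 this
  -- the prime of `C₁`
  let P₁ : Ideal C₁ := q'.asIdeal.comap (algebraMap C₁ Y)
  haveI : P₁.IsPrime := Ideal.IsPrime.comap _
  haveI : Module.Finite A₀ (C₁ ⧸ P₁) := Module.Finite.of_injective
    ((Ideal.quotientMapₐ q'.asIdeal (IsScalarTower.toAlgHom A₀ C₁ Y) le_rfl).toLinearMap)
    (show Function.Injective (Ideal.quotientMap q'.asIdeal (algebraMap C₁ Y) le_rfl) from
      Ideal.quotientMap_injective)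
  have hftC₁ : ∀ N : Ideal C₁, IA₀.map (algebraMap A₀ C₁) ≤ N → Algebra.FiniteType A₀ (C₁ ⧸ N) := fun N hN => by
    haveI := RigClosed17.finiteType_quotient IC w N (hI₀C.ge.trans hN)
    haveI : Algebra.FiniteType A (C₁ ⧸ N) := RigClosed17.finiteType_trans IC hftC fun c hc => by
      rw [IsScalarTower.algebraMap_apply C C₁ (C₁ ⧸ N), Ideal.Quotient.algebraMap_eq, Ideal.Quotient.eq_zero_iff_mem]
      exact hN (hI₀C.ge (Ideal.mem_map_of_mem _ hc))
    exact Algebra.FiniteType.of_restrictScalars_finiteType A _ _
  let S1 := Localization.AtPrime q'.asIdeal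
  -- level flatness over `C₁`
  have hlev : CplFlat.LevelFlat P₁ S1 := by
    refine CplFlat.levelFlat_of_flat_quotient fun n => ?_
    let G := C₁ ⧸ P₁ ^ n
    haveI : Module.Finite A₀ G := finite_quotient_pow IA₀ hftC₁ P₁ n
    haveI : IsAdicComplete (IA₀.map (algebraMap A₀ B₀)) B₀ := hI₀B ▸ inferInstance
    let H := G ⊗[A₀] B₀
    haveI : IsAdicComplete (IA₀.map (algebraMap A₀ H)) H := tensor_complete IA₀ G B₀
    let f₁ : C →ₐ[A] H := ((Algebra.TensorProduct.includeLeft : G →ₐ[A₀] H).restrictScalars A).comp
      ((Ideal.Quotient.mkₐ A (P₁ ^ n)).comp (IsScalarTower.toAlgHom A C C₁))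
    let f₂ : B →ₐ[A] H := ((Algebra.TensorProduct.includeRight : B₀ →ₐ[A₀] H).restrictScalars A).comp
      (IsScalarTower.toAlgHom A B B₀)
    have hIH : I.map (algebraMap A H) ≤ IA₀.map (algebraMap A₀ H) := (RigClosed17.map_tower I).ge
    obtain ⟨Φ, hΦ₁, hΦ₂⟩ := hlift v w rfl (IA₀.map (algebraMap A₀ H)) f₁ f₂
      (((RigClosed17.isUnit_self IC w).map (Ideal.Quotient.mkₐ A (P₁ ^ n))).map
        ((Algebra.TensorProduct.includeLeft : G →ₐ[A₀] H).restrictScalars A)) hIH
    haveI : Module.Flat A₀ (Localization.AtPrime (q'.asIdeal.comap (algebraMap B₀ Y))) := ‹Module.Flat A₀ S0›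
    refine flat_quotient q'.asIdeal (P₁ ^ n) Φ ?_ ?_ ?_
    · refine RingHom.congr_fun (RigClosed17.ext_hom IC w (IA₀.map (algebraMap A₀ H)) (Φ.comp (algebraMap C₁ Y))
        ((Algebra.TensorProduct.includeLeftRingHom : G →+* H).comp (Ideal.Quotient.mk (P₁ ^ n))) (fun c => ?_) ?_)
      · rw [RingHom.comp_apply, ← IsScalarTower.algebraMap_apply C C₁ Y,
          IsScalarTower.algebraMap_apply C D Y, hΦ₁]
        rfl
      · intro c hc
        rw [RingHom.comp_apply, ← IsScalarTower.algebraMap_apply C C₁ Y,
          IsScalarTower.algebraMap_apply C D Y, hΦ₁]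
        refine (Ideal.map_le_iff_le_comap.2 ?_ : IC ≤ (IA₀.map (algebraMap A₀ H)).comap f₁.toRingHom) hc
        intro a ha
        show f₁ (algebraMap A C a) ∈ IA₀.map (algebraMap A₀ H)
        rw [AlgHom.commutes]
        exact hIH (Ideal.mem_map_of_mem _ ha)
    · refine RingHom.congr_fun (RigClosed17.ext_hom IB u (IA₀.map (algebraMap A₀ H)) (Φ.comp (algebraMap B₀ Y))
        (Algebra.TensorProduct.includeRight : B₀ →ₐ[A₀] H).toRingHom (fun b => ?_) ?_)
      · show Φ (βB (algebraMap B B₀ b)) = _
        rw [hβB]
        exact hΦ₂ b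
      · intro b hb
        show Φ (βB (algebraMap B B₀ b)) ∈ _
        rw [hβB]
        refine (hΦ₂ b).symm ▸ (?_ : f₂ b ∈ IA₀.map (algebraMap A₀ H))
        refine (Ideal.map_le_iff_le_comap.2 ?_ : IB ≤ (IA₀.map (algebraMap A₀ H)).comap f₂.toRingHom) hb
        intro a ha
        show f₂ (algebraMap A B a) ∈ IA₀.map (algebraMap A₀ H)
        rw [AlgHom.commutes]
        exact hIH (Ideal.mem_map_of_mem _ ha)
    · intro f hfC hfB
      let Z := Y ⧸ (P₁ ^ n).map (algebraMap C₁ Y)
      haveI : IsAdicComplete (JY.map (algebraMap Y Z)) Z := Groth.Agent.AdicLim.isAdicComplete_quotient _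
      refine hext v (JY.map (algebraMap Y Z)) f _ (fun c => ?_) (fun b => ?_) (fun a ha => ?_)
      · rw [← IsScalarTower.algebraMap_apply C D Y, IsScalarTower.algebraMap_apply C C₁ Y]
        exact hfC _
      · have := hfB (algebraMap B B₀ b)
        rw [show algebraMap B₀ Y (algebraMap B B₀ b) = βB (algebraMap B B₀ b) from rfl, hβB] at this
        exact this
      · rw [← IsScalarTower.algebraMap_apply C D Y, IsScalarTower.algebraMap_apply C C₁ Y, hfC,
          ← IsScalarTower.algebraMap_apply C C₁ Y, IsScalarTower.algebraMap_apply C D Y]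
        exact Ideal.mem_map_of_mem (algebraMap Y Z) (Ideal.mem_map_of_mem (algebraMap D Y)
          (Ideal.mem_map_of_mem _ (Ideal.mem_map_of_mem _ ha)))
  let R1 := Localization.AtPrime P₁
  let η : R1 →+* S1 := Localization.localRingHom P₁ q'.asIdeal (algebraMap C₁ Y) rfl
  haveI : IsLocalHom η := Localization.isLocalHom_localRingHom _ _ _ _
  letI : Algebra R1 S1 := η.toAlgebra
  haveI : IsScalarTower C₁ R1 S1 := IsScalarTower.of_algebraMap_eq fun c => by
    show _ = η (algebraMap C₁ R1 c)
    rw [Localization.localRingHom_to_map, ← IsScalarTower.algebraMap_apply]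
  haveI : Module.Flat R1 S1 := RigClosed17.flat_of_levelFlat_finite (S := S1) (IsLocalRing.maximalIdeal R1)
    (by
      rw [← Ideal.jacobson_bot, IsLocalRing.jacobson_eq_maximalIdeal ⊥ bot_ne_top]
      exact ((IsLocalRing.local_hom_TFAE η).out 0 2).1 ‹IsLocalHom η›)
    (levelFlat_localization P₁ hlev)
  have h2 : ((algebraMap Y S1).comp (algebraMap C₁ Y)).Flat := by
    rw [← show η.comp (algebraMap C₁ R1) = (algebraMap Y S1).comp (algebraMap C₁ Y) from
      RingHom.ext fun b => Localization.localRingHom_to_map P₁ q'.asIdeal (algebraMap C₁ Y) rfl b]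
    exact (RingHom.flat_algebraMap_iff.2 inferInstance).comp (RingHom.flat_algebraMap_iff.2 ‹Module.Flat R1 S1›)
  refine RigClosed17.flat_of_comp_flat q q' ψh ρ hρflat hq'c ?_
  have hψh' := RigClosed17.apply_algebraMap IC h ψh hψh
  have hsq : ρ.comp ψh = (algebraMap C₁ Y).comp μ := RigClosed17.ext_hom IC h JY _ _
    (fun c => by
      rw [RingHom.comp_apply, RingHom.comp_apply, hψh', hρ, hμ, ← IsScalarTower.algebraMap_apply C C₁ Y,
        IsScalarTower.algebraMap_apply C D Y])
    (fun c hc => by
      rw [RingHom.comp_apply, hψh', hρ]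
      exact Ideal.mem_map_of_mem _ (Ideal.mem_map_of_mem _ hc))
  rw [hsq, ← RingHom.comp_assoc]
  exact hμflat.comp h2


/-- Let A be a Noetherian ring complete for the adic topology of an ideal I, and B a Noetherian
A-algebra complete for the IB-adic topology with B/IB of finite type over A (an adic morphism,
topologically of finite type, of adic Noetherian topological rings), and assume A → B is rig-flat in
the following form: for every f ∈ A, every ring map ψ : A_{f} → B_{f} of completed principal
localizations compatible with A_f → B_f (there is exactly one), and every rig-closed prime q of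
B_{f} (I B_{f} ⊄ q and q maximal among the primes not containing I B_{f}), the local ring (B_{f})_q
is flat over A_{f} via ψ. Let C be a Noetherian A-algebra complete for the IC-adic topology with
C/IC of finite type over A (A → C adic and topologically of finite type), and let D be the completed
tensor product B ⊗̂_A C, i.e. the I-adic completion of C ⊗_A B, viewed as a C-algebra. Then C → D is
rig-flat in the same form: for every h ∈ C, every ring map C_{h} → D_{h} compatible with C_h → D_h,
and every rig-closed prime q of D_{h}, the local ring (D_{h})_q is flat over C_{h}. (That D is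
Noetherian and C → D adic and topologically of finite type is not restated.) -/
theorem result (A : Type u) [CommRing A] [IsNoetherianRing A] (I : Ideal A) [IsAdicComplete I A] (B : Type u) [CommRing B] [Algebra A B] [IsNoetherianRing B] [IsAdicComplete (I.map (algebraMap A B)) B] (hft : Algebra.FiniteType A (B ⧸ (I.map (algebraMap A B)))) (hAB : (∀ f : A, ∀ ψf : (AdicCompletion (I.map (algebraMap A (Localization.Away f))) (Localization.Away f)) →+* (AdicCompletion ((I.map (algebraMap A B)).map (algebraMap B (Localization.Away (algebraMap A B f)))) (Localization.Away (algebraMap A B f))), ψf.comp (algebraMap (Localization.Away f) (AdicCompletion (I.map (algebraMap A (Localization.Away f))) (Localization.Away f))) = (algebraMap (Localization.Away (algebraMap A B f)) (AdicCompletion ((I.map (algebraMap A B)).map (algebraMap B (Localization.Away (algebraMap A B f)))) (Localization.Away (algebraMap A B f)))).comp (Localization.awayMap (algebraMap A B) f) → ∀ qf : PrimeSpectrum (AdicCompletion ((I.map (algebraMap A B)).map (algebraMap B (Localization.Away (algebraMap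 A B f)))) (Localization.Away (algebraMap A B f))), (¬ (((I.map (algebraMap A B)).map (algebraMap B (Localization.Away (algebraMap A B f)))).map (algebraMap (Localization.Away (algebraMap A B f)) (AdicCompletion ((I.map (algebraMap A B)).map (algebraMap B (Localization.Away (algebraMap A B f)))) (Localization.Away (algebraMap A B f))))) ≤ qf.asIdeal ∧ ∀ y : PrimeSpectrum (AdicCompletion ((I.map (algebraMap A B)).map (algebraMap B (Localization.Away (algebraMap A B f)))) (Localization.Away (algebraMap A B f))), qf ≤ y → ¬ (((I.map (algebraMap A B)).map (algebraMap B (Localization.Away (algebraMap A B f)))).map (algebraMap (Localization.Away (algebraMap A B f)) (AdicCompletion ((I.map (algebraMap A B)).map (algebraMap B (Localization.Away (algebraMap A B f)))) (Localization.Away (algebraMap A B f))))) ≤ y.asIdeal → y = qf) → ((algebraMap (AdicCompletion ((I.map (algebraMap A B)).map (algebraMap B (Localization.Away (algebraMap A B f)))) (Localization.Away (algebraMap A B f))) (Localization.AtPrime qf.asIdeal)).comp ψf).Flat)) (C : Type u) [CommRing C] [Algebra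 A C] [IsNoetherianRing C] [IsAdicComplete (I.map (algebraMap A C)) C] (hftC : Algebra.FiniteType A (C ⧸ (I.map (algebraMap A C)))) : (∀ h : C, ∀ ψh : (AdicCompletion ((I.map (algebraMap A C)).map (algebraMap C (Localization.Away h))) (Localization.Away h)) →+* (AdicCompletion (((I.map (algebraMap A C)).map (algebraMap C (AdicCompletion ((I.map (algebraMap A C)).map (algebraMap C (TensorProduct A C B))) (TensorProduct A C B)))).map (algebraMap (AdicCompletion ((I.map (algebraMap A C)).map (algebraMap C (TensorProduct A C B))) (TensorProduct A C B)) (Localization.Away (algebraMap C (AdicCompletion ((I.map (algebraMap A C)).map (algebraMap C (TensorProduct A C B))) (TensorProduct A C B)) h)))) (Localization.Away (algebraMap C (AdicCompletion ((I.map (algebraMap A C)).map (algebraMap C (TensorProduct A C B))) (TensorProduct A C B)) h))), ψh.comp (algebraMap (Localization.Away h) (AdicCompletion ((I.map (algebraMap A C)).map (algebraMap C (Localization.Away h))) (Localization.Away h))) = (algebraMap (Localization.Away (algebraMap C (AdicCompletion ((I.map (algebraMap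 A C)).map (algebraMap C (TensorProduct A C B))) (TensorProduct A C B)) h)) (AdicCompletion (((I.map (algebraMap A C)).map (algebraMap C (AdicCompletion ((I.map (algebraMap A C)).map (algebraMap C (TensorProduct A C B))) (TensorProduct A C B)))).map (algebraMap (AdicCompletion ((I.map (algebraMap A C)).map (algebraMap C (TensorProduct A C B))) (TensorProduct A C B)) (Localization.Away (algebraMap C (AdicCompletion ((I.map (algebraMap A C)).map (algebraMap C (TensorProduct A C B))) (TensorProduct A C B)) h)))) (Localization.Away (algebraMap C (AdicCompletion ((I.map (algebraMap A C)).map (algebraMap C (TensorProduct A C B))) (TensorProduct A C B)) h)))).comp (Localization.awayMap (algebraMap C (AdicCompletion ((I.map (algebraMap A C)).map (algebraMap C (TensorProduct A C B))) (TensorProduct A C B))) h) → ∀ qh : PrimeSpectrum (AdicCompletion (((I.map (algebraMap A C)).map (algebraMap C (AdicCompletion ((I.map (algebraMap A C)).map (algebraMap C (TensorProduct A C B))) (TensorProduct A C B)))).map (algebraMap (AdicCompletion ((I.map (algebraMap A C)).map (algebraMap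 C (TensorProduct A C B))) (TensorProduct A C B)) (Localization.Away (algebraMap C (AdicCompletion ((I.map (algebraMap A C)).map (algebraMap C (TensorProduct A C B))) (TensorProduct A C B)) h)))) (Localization.Away (algebraMap C (AdicCompletion ((I.map (algebraMap A C)).map (algebraMap C (TensorProduct A C B))) (TensorProduct A C B)) h))), (¬ ((((I.map (algebraMap A C)).map (algebraMap C (AdicCompletion ((I.map (algebraMap A C)).map (algebraMap C (TensorProduct A C B))) (TensorProduct A C B)))).map (algebraMap (AdicCompletion ((I.map (algebraMap A C)).map (algebraMap C (TensorProduct A C B))) (TensorProduct A C B)) (Localization.Away (algebraMap C (AdicCompletion ((I.map (algebraMap A C)).map (algebraMap C (TensorProduct A C B))) (TensorProduct A C B)) h)))).map (algebraMap (Localization.Away (algebraMap C (AdicCompletion ((I.map (algebraMap A C)).map (algebraMap C (TensorProduct A C B))) (TensorProduct A C B)) h)) (AdicCompletion (((I.map (algebraMap A C)).map (algebraMap C (AdicCompletion ((I.map (algebraMap A C)).map (algebraMap C (TensorProduct A C B)))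 (TensorProduct A C B)))).map (algebraMap (AdicCompletion ((I.map (algebraMap A C)).map (algebraMap C (TensorProduct A C B))) (TensorProduct A C B)) (Localization.Away (algebraMap C (AdicCompletion ((I.map (algebraMap A C)).map (algebraMap C (TensorProduct A C B))) (TensorProduct A C B)) h)))) (Localization.Away (algebraMap C (AdicCompletion ((I.map (algebraMap A C)).map (algebraMap C (TensorProduct A C B))) (TensorProduct A C B)) h))))) ≤ qh.asIdeal ∧ ∀ y : PrimeSpectrum (AdicCompletion (((I.map (algebraMap A C)).map (algebraMap C (AdicCompletion ((I.map (algebraMap A C)).map (algebraMap C (TensorProduct A C B))) (TensorProduct A C B)))).map (algebraMap (AdicCompletion ((I.map (algebraMap A C)).map (algebraMap C (TensorProduct A C B))) (TensorProduct A C B)) (Localization.Away (algebraMap C (AdicCompletion ((I.map (algebraMap A C)).map (algebraMap C (TensorProduct A C B))) (TensorProduct A C B)) h)))) (Localization.Away (algebraMap C (AdicCompletion ((I.map (algebraMap A C)).map (algebraMap C (TensorProduct A C B))) (TensorProduct A C B)) h))), qh ≤ y →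 ¬ ((((I.map (algebraMap A C)).map (algebraMap C (AdicCompletion ((I.map (algebraMap A C)).map (algebraMap C (TensorProduct A C B))) (TensorProduct A C B)))).map (algebraMap (AdicCompletion ((I.map (algebraMap A C)).map (algebraMap C (TensorProduct A C B))) (TensorProduct A C B)) (Localization.Away (algebraMap C (AdicCompletion ((I.map (algebraMap A C)).map (algebraMap C (TensorProduct A C B))) (TensorProduct A C B)) h)))).map (algebraMap (Localization.Away (algebraMap C (AdicCompletion ((I.map (algebraMap A C)).map (algebraMap C (TensorProduct A C B))) (TensorProduct A C B)) h)) (AdicCompletion (((I.map (algebraMap A C)).map (algebraMap C (AdicCompletion ((I.map (algebraMap A C)).map (algebraMap C (TensorProduct A C B))) (TensorProduct A C B)))).map (algebraMap (AdicCompletion ((I.map (algebraMap A C)).map (algebraMap C (TensorProduct A C B))) (TensorProduct A C B)) (Localization.Away (algebraMap C (AdicCompletion ((I.map (algebraMap A C)).map (algebraMap C (TensorProduct A C B))) (TensorProduct A C B)) h)))) (Localization.Away (algebraMap C (AdicCompletion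 ((I.map (algebraMap A C)).map (algebraMap C (TensorProduct A C B))) (TensorProduct A C B)) h))))) ≤ y.asIdeal → y = qh) → ((algebraMap (AdicCompletion (((I.map (algebraMap A C)).map (algebraMap C (AdicCompletion ((I.map (algebraMap A C)).map (algebraMap C (TensorProduct A C B))) (TensorProduct A C B)))).map (algebraMap (AdicCompletion ((I.map (algebraMap A C)).map (algebraMap C (TensorProduct A C B))) (TensorProduct A C B)) (Localization.Away (algebraMap C (AdicCompletion ((I.map (algebraMap A C)).map (algebraMap C (TensorProduct A C B))) (TensorProduct A C B)) h)))) (Localization.Away (algebraMap C (AdicCompletion ((I.map (algebraMap A C)).map (algebraMap C (TensorProduct A C B))) (TensorProduct A C B)) h))) (Localization.AtPrime qh.asIdeal)).comp ψh).Flat) := by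
  intro h ψh hψh q hq
  have hD := ctensor_props I C B hftC hft
  have hDnoeth := hD.1
  have hDft := hD.2
  exact key A I B hAB C hftC (AdicCompletion ((I.map (algebraMap A C)).map (algebraMap C (TensorProduct A C B))) (TensorProduct A C B))
    ((IsScalarTower.toAlgHom A (TensorProduct A C B) (AdicCompletion ((I.map (algebraMap A C)).map (algebraMap C (TensorProduct A C B))) (TensorProduct A C B))).comp Algebra.TensorProduct.includeRight) hDft
    (fun v _ _ L _ f g h1 h2 h3 => ext_pushout I v _ rfl L f g h1 h2 h3)
    (fun v w hv _ _ _ L _ f₁ f₂ h1 h2 => exists_pushout I v _ rfl w hv L f₁ f₂ h1 h2)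
    h ψh hψh q hq

end Groth.Agent.S8846
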