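import Groth.Statements.S8849
import Mathlib.AlgebraicGeometry.Morphisms.Flat
import Mathlib.RingTheory.Flat.Equalizer
import Mathlib.RingTheory.Flat.Tensor
import Mathlib.RingTheory.Localization.BaseChange

set_option autoImplicit false
universe u
open CategoryTheory CategoryTheory.Limits AlgebraicGeometry TopologicalSpace
open SDiv

namespace Groth.Agent.S8849

open scoped TensorProduct

/-- Flatness from a regular element: flat quotient and flat localization. -/
theorem flat_of_regular {R S : Type u} [CommRing R] [CommRing S] [Algebra R S] (t : S)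
    (ht : t ∈ nonZeroDivisors S) {Q : Type u} [CommRing Q] [Algebra R Q] (π : S →ₐ[R] Q)
    (hπ : Function.Surjective π) (hker : RingHom.ker π.toRingHom = Ideal.span {t}) [Module.Flat R Q]
    (L : Type u) [CommRing L] [Algebra S L] [Algebra R L] [IsScalarTower R S L]
    [IsLocalization.Away t L] [Module.Flat R L] : Module.Flat R S := by
  rw [Module.Flat.iff_lTensor_injective]
  intro I hI
  let μ : S →ₗ[R] S := (LinearMap.mulLeft R t)
  have hμ : Function.Injective μ := fun a b h => (mul_cancel_left_mem_nonZeroDivisors ht).mp h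
  have hex : Function.Exact μ π.toLinearMap := fun y => by
    show π y = 0 ↔ _
    rw [show π y = 0 ↔ y ∈ RingHom.ker π.toRingHom from RingHom.mem_ker.symm, hker, Ideal.mem_span_singleton]
    exact ⟨fun ⟨c, hc⟩ => ⟨c, hc.symm⟩, fun ⟨c, hc⟩ => ⟨c, hc.symm⟩⟩
  have hinj := LinearMap.lTensor_injective_of_exact_of_flat π.toLinearMap hπ μ hμ hex I
  have htor : ∀ m : S ⊗[R] I, t • m = 0 → m = 0 := fun m hm => by
    have key : ∀ m : S ⊗[R] I, μ.lTensor I (TensorProduct.comm R S I m) = TensorProduct.comm R S I (t • m) := by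
      intro m
      induction m using TensorProduct.induction_on with
      | zero => simp
      | tmul a b => simp [μ, TensorProduct.smul_tmul']
      | add a b ha hb => simp [smul_add, ha, hb]
    refine (TensorProduct.comm R S I).injective (hinj ?_)
    rw [key, hm, map_zero, map_zero]
  let g := TensorProduct.AlgebraTensorModule.rTensor R I (IsScalarTower.toAlgHom S S L).toLinearMap
  haveI : IsLocalizedModule (Submonoid.powers t) g := inferInstance
  rw [injective_iff_map_eq_zero]
  intro m hm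
  have hg : g m = 0 := by
    refine Module.Flat.lTensor_preserves_injective_linearMap (M := L) I.subtype I.injective_subtype ?_
    rw [map_zero]
    have key : ∀ m : S ⊗[R] I, I.subtype.lTensor L (g m) =
        (IsScalarTower.toAlgHom R S L).toLinearMap.rTensor R (I.subtype.lTensor S m) := by
      intro m
      induction m using TensorProduct.induction_on with
      | zero => simp
      | tmul a b => simp [g]
      | add a b ha hb => simp [ha, hb]
    rw [key, hm, map_zero]
  rw [← map_zero g] at hg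
  obtain ⟨⟨_, n, rfl⟩, hc⟩ := IsLocalizedModule.exists_of_eq (S := Submonoid.powers t) hg
  simp only [Submonoid.smul_def, smul_zero] at hc
  clear hm hg
  induction n generalizing m with
  | zero => simpa using hc
  | succ n ih =>
    refine ih _ (htor _ ?_)
    rw [← mul_smul, ← pow_succ']
    exact hc

open AlgebraicGeometry in
/-- The section ring map to an affine open is flat when all stalk maps there are. -/
theorem flat_appLE_of_stalk {X S : Scheme.{u}} (f : X ⟶ S) {V : S.Opens} (hV : IsAffineOpen V)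
    {W : X.Opens} (hW : IsAffineOpen W) (e : W ≤ f ⁻¹ᵁ V) (h : ∀ x ∈ W, (f.stalkMap x).hom.Flat) :
    (f.appLE V W e).hom.Flat := by
  haveI : Flat (W.ι ≫ f) := Flat.of_stalkMap _ fun x => by
    rw [Scheme.Hom.stalkMap_comp]
    haveI : IsIso (W.ι.stalkMap x) := inferInstance
    exact RingHom.Flat.comp (h x.1 x.2)
      (RingHom.Flat.of_bijective (ConcreteCategory.bijective_of_isIso (W.ι.stalkMap x)))
  haveI : IsAffine W.toScheme := hW
  have h' := (W.ι ≫ f).flat_appLE hV (isAffineOpen_top W.toScheme) (fun x _ => e x.2)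
  have hc : W.ι ''ᵁ ⊤ = W := W.ι_image_top
  have key : f.appLE V W e = (W.ι ≫ f).appLE V ⊤ (fun x _ => e x.2) ≫ X.presheaf.map (eqToHom hc.symm).op := by
    rw [Scheme.Hom.comp_appLE, Scheme.Opens.ι_appLE, Category.assoc]
    refine congrArg (f.app V ≫ ·) ?_
    exact (X.presheaf.map_comp _ _)
  rw [key, CommRingCat.hom_comp]
  haveI : IsIso (X.presheaf.map (eqToHom hc.symm).op) := @Functor.map_isIso _ _ _ _ _ _ _ _ inferInstance
  exact h'.comp (RingHom.Flat.of_bijective (ConcreteCategory.bijective_of_isIso (X.presheaf.map (eqToHom hc.symm).op)))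

/-- Let f : X ⟶ S be a morphism of schemes and 𝓘 the ideal sheaf of an effective Cartier divisor D ⊆ X
with D flat over S (a relative effective Cartier divisor). If f is flat at every point of X not in
D, then f is flat. -/
theorem result {X S : Scheme.{u}} (f : X ⟶ S) (𝓘 : X.IdealSheafData)
    (hD : BlowUp.IsEffCartierIdeal 𝓘 ∧ Flat (𝓘.subschemeι ≫ f))
    (hflat : ∀ x : ↥X, x ∉ 𝓘.support → (f.stalkMap x).hom.Flat) : Flat f := by
  rw [HasRingHomProperty.iff_exists_appLE (P := @Flat) (fun R S T _ _ _ _ r _ f hf => RingHom.Flat.comp (RingHom.flat_algebraMap_iff.mpr (IsLocalization.flat S (Submonoid.powers r))) hf)]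
  intro x
  obtain ⟨U, hxU, t, ht, htI⟩ := hD.1 x
  obtain ⟨_, ⟨V, hV, rfl⟩, hxV, -⟩ := S.isBasis_affineOpens.exists_subset_of_mem_open (Set.mem_univ (f x)) isOpen_univ
  obtain ⟨g, hgle, hxg⟩ := U.2.exists_basicOpen_le (V := f ⁻¹ᵁ V) ⟨x, hxV⟩ hxU
  let U' := X.affineBasicOpen g
  let res := (X.presheaf.map (homOfLE <| X.basicOpen_le g).op).hom
  letI : Algebra Γ(X, U.1) Γ(X, U'.1) := res.toAlgebra
  haveI : IsLocalization.Away g Γ(X, U'.1) := U.2.isLocalization_basicOpen g
  have ht' : res t ∈ nonZeroDivisors Γ(X, U'.1) :=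
    IsLocalization.map_nonZeroDivisors_le (Submonoid.powers g) Γ(X, U'.1) (Submonoid.mem_map_of_mem _ ht)
  have htI' : 𝓘.ideal U' = Ideal.span {res t} := by
    rw [← 𝓘.map_ideal_basicOpen U g, htI, Ideal.map_span, Set.image_singleton]
  refine ⟨⟨V, hV⟩, U', hxg, hgle, ?_⟩
  haveI := hD.2
  let B := Γ(X, U'.1)
  let tB : B := res t
  let W := X.basicOpen tB
  have hW : IsAffineOpen W := U'.2.basicOpen tB
  have hWle : W ≤ f ⁻¹ᵁ V := (X.basicOpen_le tB).trans hgle
  have hL := flat_appLE_of_stalk f hV hW hWle fun y hy => hflat y fun hsupp => by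
    have hyU : y ∈ U'.1 := X.basicOpen_le tB hy
    have := (Scheme.IdealSheafData.mem_support_iff_of_mem hyU).mp hsupp
    rw [htI', Scheme.mem_zeroLocus_iff] at this
    exact this (res t) (Ideal.mem_span_singleton_self _) hy
  have eZ : 𝓘.subschemeι ⁻¹ᵁ U'.1 ≤ (𝓘.subschemeι ≫ f) ⁻¹ᵁ V := fun z hz => hgle hz
  have hQ := (𝓘.subschemeι ≫ f).flat_appLE hV (U'.2.preimage 𝓘.subschemeι) eZ
  rw [Scheme.Hom.comp_appLE] at hQ
  let φ := (f.appLE V U'.1 hgle).hom
  letI : Algebra Γ(S, V) B := φ.toAlgebra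
  let rW := (X.presheaf.map (homOfLE (X.basicOpen_le tB)).op).hom
  letI : Algebra B Γ(X, W) := rW.toAlgebra
  letI : Algebra Γ(S, V) Γ(X, W) := (f.appLE V W hWle).hom.toAlgebra
  haveI : IsScalarTower Γ(S, V) B Γ(X, W) := IsScalarTower.of_algebraMap_eq' (by
    show (f.appLE V W hWle).hom = rW.comp φ
    rw [← CommRingCat.hom_comp, Scheme.Hom.appLE_map])
  haveI : IsLocalization.Away tB Γ(X, W) := U'.2.isLocalization_basicOpen tB
  haveI : Module.Flat Γ(S, V) Γ(X, W) := hL
  let πr := (𝓘.subschemeι.app U'.1).hom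
  letI : Algebra Γ(S, V) Γ(𝓘.subscheme, 𝓘.subschemeι ⁻¹ᵁ U'.1) := (πr.comp φ).toAlgebra
  let π : B →ₐ[Γ(S, V)] Γ(𝓘.subscheme, 𝓘.subschemeι ⁻¹ᵁ U'.1) := { πr with commutes' := fun r => rfl }
  haveI : Module.Flat Γ(S, V) Γ(𝓘.subscheme, 𝓘.subschemeι ⁻¹ᵁ U'.1) := by
    have e : πr.comp φ = (f.app V ≫ 𝓘.subschemeι.appLE (f ⁻¹ᵁ V) (𝓘.subschemeι ⁻¹ᵁ U'.1) eZ).hom := by
      rw [← CommRingCat.hom_comp, Scheme.Hom.appLE, Category.assoc]
      refine congrArg CommRingCat.Hom.hom (congrArg (f.app V ≫ ·) ?_)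
      rw [Scheme.Hom.app_eq_appLE]
      exact Scheme.Hom.map_appLE _ _ _
    show RingHom.Flat (πr.comp φ)
    rw [e]
    exact hQ
  exact flat_of_regular (R := Γ(S, V)) tB ht' π (𝓘.subschemeι_app_surjective U')
    ((Scheme.IdealSheafData.ker_subschemeι_app 𝓘 U').trans htI') Γ(X, W)

end Groth.Agent.S8849
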