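import Groth.Statements.S8850
import Mathlib.AlgebraicGeometry.Morphisms.SchemeTheoreticallyDominant

set_option autoImplicit false
universe u
open CategoryTheory CategoryTheory.Limits AlgebraicGeometry TopologicalSpace
open SDiv

namespace Groth.Agent.S8850

theorem toImage_dominant {X Y : Scheme.{u}} (f : X ⟶ Y) [QuasiCompact f] :
    IsSchemeTheoreticallyDominant f.toImage := by
  rw [isSchemeTheoreticallyDominant_iff]
  have hcov : IsOpenCover fun U : Y.affineOpens => f.imageι ⁻¹ᵁ (U : Y.Opens) :=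
    (show IsOpenCover (fun U : Y.affineOpens => (U : Y.Opens)) from iSup_affineOpens_eq_top Y).comap
      f.imageι.base.hom
  refine Scheme.IdealSheafData.ext_of_iSup_eq_top
    (fun U : Y.affineOpens => ⟨f.imageι ⁻¹ᵁ (U : Y.Opens), U.2.preimage f.imageι⟩) hcov fun U => ?_
  rw [Scheme.Hom.ker_apply]
  exact ((RingHom.injective_iff_ker_eq_bot _).1 (f.toImage_app_injective U)).trans (by simp)

end Groth.Agent.S8850

namespace Groth.Agent.S8850

/-- Let S be a scheme, X a Noetherian S-scheme, Y a proper S-scheme, U ⊆ X an open subscheme and f : U ⟶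
Y a morphism compatible with the structure morphisms to S. Then there are a proper morphism p : X' ⟶
X restricting to an isomorphism over U and an S-morphism f' : X' ⟶ Y whose restriction to p⁻¹(U) is
f composed with p. The published statement takes U dense, so that f is an S-rational map; this row
allows any open U, which its proof does not need. -/
theorem result {X Y S : Scheme.{u}} [IsNoetherian X] (a : X ⟶ S) (b : Y ⟶ S)
    [IsProper b] (U : X.Opens) (f : (U : Scheme.{u}) ⟶ Y) (hf : f ≫ b = U.ι ≫ a) :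
    ∃ (X' : Scheme.{u}) (p : X' ⟶ X) (f' : X' ⟶ Y), IsProper p ∧ IsIso (p ∣_ U) ∧ f' ≫ b = p ≫ a ∧
      (p ⁻¹ᵁ U).ι ≫ f' = (p ∣_ U) ≫ f := by
  let g : (U : Scheme.{u}) ⟶ pullback a b := pullback.lift U.ι f hf.symm
  haveI : NoetherianSpace (U : Scheme.{u}) := U.ι.isOpenEmbedding.isInducing.noetherianSpace
  haveI : QuasiCompact g := quasiCompact_of_noetherianSpace_source g
  let t := g.toImage
  let p : g.image ⟶ X := g.imageι ≫ pullback.fst a b
  let f' : g.image ⟶ Y := g.imageι ≫ pullback.snd a b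
  have htp : t ≫ p = U.ι := by
    simp only [t, p, Scheme.Hom.toImage_imageι_assoc]
    exact pullback.lift_fst _ _ _
  have htf : t ≫ f' = f := by
    simp only [t, f', Scheme.Hom.toImage_imageι_assoc]
    exact pullback.lift_snd _ _ _
  haveI : IsProper p := inferInstance
  refine ⟨g.image, p, f', ‹_›, ?_⟩
  let W := p ⁻¹ᵁ U
  haveI : IsSchemeTheoreticallyDominant t := toImage_dominant g
  haveI : IsSchemeTheoreticallyDominant (t ∣_ W) :=
    IsSchemeTheoreticallyDominant.of_isPullback (isPullback_morphismRestrict t W).flip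
  have hUU : t ⁻¹ᵁ W = ⊤ := by
    rw [show t ⁻¹ᵁ W = (t ≫ p) ⁻¹ᵁ U from rfl, htp, Scheme.Opens.ι_preimage_self]
  haveI h1 : IsIso ((t ∣_ W) ≫ (p ∣_ U)) := by
    have hfac : ((t ∣_ W) ≫ (p ∣_ U)) = (t ⁻¹ᵁ W).ι := by
      rw [← cancel_mono U.ι, Category.assoc, morphismRestrict_ι, morphismRestrict_ι_assoc, htp]
    rw [hfac]
    rw [hUU]
    exact (Scheme.topIso (U : Scheme.{u})).isIso_hom
  haveI : IsClosedImmersion ((t ∣_ W) ≫ (p ∣_ U)) := inferInstance
  haveI : IsClosedImmersion (t ∣_ W) := IsClosedImmersion.of_comp _ (p ∣_ U)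
  haveI : IsIso (t ∣_ W) :=
    IsClosedImmersion.isIso_iff_ker_eq_bot.2 (Scheme.Hom.ker_eq_bot _)
  haveI hp : IsIso (p ∣_ U) := IsIso.of_isIso_comp_left (t ∣_ W) (p ∣_ U)
  refine ⟨hp, by simp [f', p, pullback.condition], ?_⟩
  rw [← cancel_epi (t ∣_ W), morphismRestrict_ι_assoc, htf, ← Category.assoc]
  congr 1
  rw [← cancel_mono U.ι, Category.assoc, morphismRestrict_ι, morphismRestrict_ι_assoc, htp]

end Groth.Agent.S8850
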