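import Groth.Statements.S8854
import Mathlib.RingTheory.Ideal.UFD
import Mathlib.RingTheory.Nakayama
import Mathlib.RingTheory.Ideal.AssociatedPrime.Basic
-- import your own Groth.Agent.* helpers here

set_option autoImplicit false
universe u
open SDiv

namespace Groth.Agent.S8854

/-- Let R be a Noetherian unique factorisation domain and I ⊆ R an ideal such that every associated
prime of R/I is minimal over I (R/I has no embedded primes) and every prime minimal over I has
height 1. Then I is principal: it is generated by one element. -/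
theorem result (R : Type u) [CommRing R] [IsDomain R] [IsNoetherianRing R]
    [UniqueFactorizationMonoid R] (I : Ideal R)
    (h1 : ∀ p : Ideal R, p ∈ associatedPrimes R (R ⧸ I) → p ∈ I.minimalPrimes)
    (h2 : ∀ p : Ideal R, p ∈ I.minimalPrimes → p.height = 1) :
    ∃ f : R, I = Ideal.span {f} := by
  let J : R → Ideal R := fun d ↦ Submodule.comap (LinearMap.mulLeft R d) I
  have hmemJ : ∀ d x, x ∈ J d ↔ d * x ∈ I := fun d x ↦ Iff.rfl
  by_cases hI : I = ⊤
  · exact ⟨1, by rw [hI, Ideal.span_singleton_one]⟩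
  have hI0 : I ≠ ⊥ := by
    rintro rfl
    have := h2 ⊥ (by
      refine ⟨⟨Ideal.isPrime_bot, le_rfl⟩, fun q hq _ ↦ bot_le⟩)
    rw [Ideal.height_bot] at this
    exact zero_ne_one this
  obtain ⟨_, ⟨d, hd, rfl⟩, hmax⟩ := set_has_maximal_iff_noetherian.mpr
    (inferInstance : IsNoetherian R R) {K | ∃ d, I ≤ Ideal.span {d} ∧ J d = K}
    ⟨J 1, 1, by rw [Ideal.span_singleton_one]; exact le_top, rfl⟩
  have hd0 : d ≠ 0 := by
    rintro rfl
    exact hI0 (le_bot_iff.mp (hd.trans_eq (by simp)))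
  refine ⟨d, le_antisymm hd ?_⟩
  suffices hJ : J d = ⊤ by
    rw [Ideal.span_singleton_le_iff_mem]
    simpa using (hmemJ d 1).mp (hJ ▸ Submodule.mem_top)
  by_contra hJ
  -- an associated prime of `R ⧸ J` is one of `R ⧸ I`
  let φ : (R ⧸ J d) →ₗ[R] (R ⧸ I) := Submodule.mapQ (J d) I (LinearMap.mulLeft R d) le_rfl
  have hφ : Function.Injective φ := by
    rw [← LinearMap.ker_eq_bot, Submodule.ker_mapQ]
    exact Submodule.mkQ_map_self _
  have : Nontrivial (R ⧸ J d) := Ideal.Quotient.nontrivial_iff.mpr hJ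
  obtain ⟨P, hP⟩ := associatedPrimes.nonempty R (R ⧸ J d)
  have hJP : J d ≤ P := by
    have := IsAssociatedPrime.annihilator_le hP
    rwa [Submodule.annihilator_top, Ideal.annihilator_quotient] at this
  have hPmin := h1 P (associatedPrimes.subset_of_injective hφ hP)
  have := hPmin.isPrime
  obtain ⟨p, hpP, hp⟩ := Ideal.IsPrime.exists_mem_prime_of_ne_bot this
    (P.ne_bot_of_height_eq_one (h2 P hPmin))
  have hPp : P = Ideal.span {p} := P.eq_span_singleton_of_height_eq_one (h2 P hPmin) hpP hp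
  -- factor out one more `p`
  have hle : I ≤ Ideal.span {d * p} := fun x hx ↦ by
    obtain ⟨y, rfl⟩ := Ideal.mem_span_singleton'.mp (hd hx)
    have hy : y ∈ P := hJP ((hmemJ d y).mpr (by rwa [mul_comm]))
    rw [hPp] at hy
    obtain ⟨z, rfl⟩ := Ideal.mem_span_singleton'.mp hy
    exact Ideal.mem_span_singleton'.mpr ⟨z, by ring⟩
  have hmono : J d ≤ J (d * p) := fun x hx ↦ by
    rw [hmemJ, mul_right_comm]
    exact I.mul_mem_right p hx
  have heq : J (d * p) = J d :=
    ((eq_or_lt_of_le hmono).resolve_right (hmax _ ⟨d * p, hle, rfl⟩)).symm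
  have hsmul : J d ≤ Ideal.span {p} • J d := fun x hx ↦ by
    obtain ⟨y, rfl⟩ := Ideal.mem_span_singleton'.mp (hPp ▸ hJP hx)
    rw [mul_comm]
    refine Submodule.smul_mem_smul (Ideal.mem_span_singleton_self p) ?_
    rw [← heq, hmemJ]
    have := (hmemJ d (y * p)).mp hx
    rwa [mul_assoc, mul_comm p y]
  obtain ⟨r, hr1, hr2⟩ := Submodule.exists_sub_one_mem_and_smul_eq_zero_of_fg_of_le_smul
    (Ideal.span {p}) (J d) (IsNoetherian.noetherian _) hsmul
  have hr0 : r ≠ 0 := by
    rintro rfl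
    rw [zero_sub, Ideal.neg_mem_iff, Ideal.mem_span_singleton] at hr1
    exact hp.not_dvd_one hr1
  apply hI0
  rw [eq_bot_iff]
  intro x hx
  have hxJ : x ∈ J d := (hmemJ d x).mpr (I.mul_mem_left d hx)
  exact (mul_eq_zero.mp (hr2 x hxJ)).resolve_left hr0

end Groth.Agent.S8854
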