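import Groth.Statements.S8855
import Groth.Agent.RegEmbed.Scheme
import Groth.Agent.S8893
import Groth.Agent.RegSeq.Imm
import Mathlib.AlgebraicGeometry.Morphisms.Immersion

set_option autoImplicit false
universe u
open CategoryTheory CategoryTheory.Limits AlgebraicGeometry TopologicalSpace
open SDiv

namespace Groth.Agent.S8855

/-- Let i : Z ⟶ X be an immersion of schemes with Z and X regular (locally Noetherian, all local rings
regular local rings). Then i is a regular immersion. -/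
theorem result {Z X : Scheme.{u}} (i : Z ⟶ X) [IsImmersion i]
    [IsLocallyNoetherian X] [IsLocallyNoetherian Z]
    (hX : ∀ x : ↥X, IsRegularLocalRing ↑(X.presheaf.stalk x)) (hZ : ∀ z : ↥Z, IsRegularLocalRing ↑(Z.presheaf.stalk z)) :
    RegImm.IsRegularImmersion RegImm.Kind.regular i := by
  refine ⟨inferInstance, fun z => ?_⟩
  haveI := hX (i z)
  haveI := hZ z
  obtain ⟨U, hU, hy, hUle⟩ := exists_isAffineOpen_mem_and_subset (U := i.coborderRange) (x := i z)
    (subset_coborder ⟨z, rfl⟩)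
  haveI hcl : IsClosedImmersion (i ∣_ U) := by
    haveI : IsClosedImmersion (i.liftCoborder ∣_ (i.coborderRange.ι ⁻¹ᵁ U)) :=
      IsZariskiLocalAtTarget.restrict (P := @IsClosedImmersion) (show IsClosedImmersion i.liftCoborder from inferInstance) _
    haveI : IsIso (i.coborderRange.ι ∣_ U) := by
      refine isIso_of_isOpenImmersion_of_opensRange_eq_top _ (top_le_iff.1 fun x _ => ?_)
      obtain ⟨y, hy'⟩ : x.1 ∈ Set.range i.coborderRange.ι := ⟨⟨x.1, hUle x.2⟩, rfl⟩
      exact ⟨⟨y, show i.coborderRange.ι y ∈ U from hy' ▸ x.2⟩, Subtype.ext ((morphismRestrict_base_coe _ _ _).trans hy')⟩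
    have h := morphismRestrict_comp i.liftCoborder i.coborderRange.ι U
    have h' : IsClosedImmersion ((i.liftCoborder ≫ i.coborderRange.ι) ∣_ U) := by
      rw [h]; exact MorphismProperty.comp_mem _ _ _ (by assumption) inferInstance
    rw [Scheme.Hom.liftCoborder_ι] at h'
    exact h'
  obtain ⟨hA, hs⟩ := Groth.Agent.PerfMor.surjective_app_of_restrict i hU
  obtain ⟨hk, hsurj⟩ := Groth.Agent.S8893.ker_stalkMap' i z U hU hy hA hs
  haveI : IsNoetherianRing Γ(X, U) := IsLocallyNoetherian.component_noetherian ⟨U, hU⟩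
  haveI : IsRegularLocalRing (X.presheaf.stalk (i z) ⧸ RingHom.ker (i.stalkMap z).hom) :=
    IsRegularLocalRing.of_ringEquiv (RingHom.quotientKerEquivOfSurjective hsurj).symm
  obtain ⟨l, hl, hlI⟩ :=
    Groth.Agent.RegEmbed.exists_weaklyRegular_of_regular_quotient (RingHom.ker (i.stalkMap z).hom) inferInstance
  letI : Algebra Γ(X, U) (X.presheaf.stalk (i z)) := (X.presheaf.germ U (i z) hy).hom.toAlgebra
  haveI : IsLocalization.AtPrime (X.presheaf.stalk (i z)) (hU.primeIdealOf ⟨i z, hy⟩).asIdeal :=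
    hU.isLocalization_stalk ⟨i z, hy⟩
  obtain ⟨g, hg, hT⟩ := Groth.Agent.RegEmbed.exists_spread (hU.primeIdealOf ⟨i z, hy⟩).asIdeal
    (RingHom.ker (i.app U).hom) (X.presheaf.stalk (i z)) l hl (hk.symm.trans hlI)
  have hyW : i z ∈ X.basicOpen g := by
    rw [X.mem_basicOpen g (i z) hy]
    exact IsLocalization.map_units (X.presheaf.stalk (i z)) (⟨g, hg⟩ : (hU.primeIdealOf ⟨i z, hy⟩).asIdeal.primeCompl)
  let e := X.basicOpen_le g
  letI : Algebra Γ(X, U) Γ(X, X.basicOpen g) := (X.presheaf.map (homOfLE e).op).hom.toAlgebra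
  haveI : IsLocalization.Away g Γ(X, X.basicOpen g) := hU.isLocalization_basicOpen g
  obtain ⟨rs, hrs, hI⟩ := hT Γ(X, X.basicOpen g)
  obtain ⟨hcl', hker'⟩ := Groth.Agent.RegSeq.restrict_baseChange (g := 𝟙 X) (g' := 𝟙 Z)
    (IsPullback.id_horiz i) hU (hU.basicOpen g) e
  have he : ((𝟙 X : X ⟶ X).appLE U (X.basicOpen g) e) = X.presheaf.map (homOfLE e).op := by
    simp [Scheme.Hom.appLE]; exact Category.id_comp _
  rw [he] at hker'
  have hk' : RingHom.ker (i.app (X.basicOpen g)).hom = Ideal.ofList rs := hker'.trans hI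
  refine ⟨⟨X.basicOpen g, hU.basicOpen g⟩, hyW, hcl', rs, ⟨hrs, fun htop => ?_⟩, hk'⟩
  rw [smul_eq_mul, Ideal.mul_top, ← hk'] at htop
  haveI : Nonempty (i ⁻¹ᵁ X.basicOpen g).toScheme := ⟨⟨z, hyW⟩⟩
  exact RingHom.ker_ne_top (i.app (X.basicOpen g)).hom htop.symm

end Groth.Agent.S8855
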