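import Groth.Statements.S8871
import Groth.Agent.AssPoints.Basic
import Groth.Agent.DepthLib.Sk
import Groth.Agent.QCohLib.Coherent

set_option autoImplicit false
universe u
open CategoryTheory CategoryTheory.Limits AlgebraicGeometry TopologicalSpace
open SDiv

namespace Groth.Agent.S8871

/-- Let X be a locally Noetherian scheme and F a coherent O_X-module. Then F has no embedded associated
points (every associated point of F is maximal among the associated points of F under
specialization) if and only if F has property (S_1): for every point x, depth F_x ≥ min(1, dim Supp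
F_x), where dim Supp F_x is the Krull dimension of the support of the O_{X,x}-module F_x (for F_x =
0 the depth is infinite and the support empty, so the condition holds). -/
theorem result (X : Scheme.{u}) [IsLocallyNoetherian X] (F : X.Modules) (hF : Coh.IsCoh F) :
    (∀ x : ↥X, Curv2.IsAssPoint F x → ∀ y : ↥X, Curv2.IsAssPoint F y → y ⤳ x → y = x) ↔
      ∀ x : ↥X, min (1 : WithBot ℕ∞) (Module.supportDim ↑(X.presheaf.stalk x) ↑(F.presheaf.stalk x)) ≤
        ((LocCoh.depth (X.presheaf.stalk x) (F.presheaf.stalk x) : ℕ∞) : WithBot ℕ∞) := by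
  classical
  have hqc := hF.1
  have hfin : ∀ x : X, Module.Finite (X.presheaf.stalk x) (F.presheaf.stalk x) := by
    intro x
    obtain ⟨_, ⟨U, hU, rfl⟩, hxU, -⟩ :=
      X.isBasis_affineOpens.exists_subset_of_mem_open (Set.mem_univ x) isOpen_univ
    have := (Groth.Agent.QCohLib.isCoh_iff.mp hF).2 ⟨U, hU⟩
    obtain ⟨t, ht⟩ := (Module.Finite.fg_top : (⊤ : Submodule Γ(X, U) Γ(F, U)).FG)
    refine ⟨⟨t.image (F.presheaf.germ U x hxU), eq_top_iff.mpr fun m _ => ?_⟩⟩
    obtain ⟨f, s, hxf, hfs⟩ := Groth.Agent.QCohLib.exists_smul_eq_germ hU x hxU m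
    have hs : F.presheaf.germ U x hxU s ∈ Submodule.span (X.presheaf.stalk x)
        (↑(t.image (F.presheaf.germ U x hxU)) : Set (F.presheaf.stalk x)) := by
      suffices ∀ k ∈ Submodule.span Γ(X, U) (t : Set Γ(F, U)), F.presheaf.germ U x hxU k ∈
          Submodule.span (X.presheaf.stalk x) (↑(t.image (F.presheaf.germ U x hxU)) : Set (F.presheaf.stalk x)) from
        this s (ht ▸ Submodule.mem_top)
      intro k hk
      induction hk using Submodule.span_induction with
      | mem k hk => exact Submodule.subset_span (Finset.mem_coe.mpr (Finset.mem_image_of_mem _ hk))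
      | zero => rw [map_zero]; exact zero_mem _
      | add _ _ _ _ h1 h2 => rw [map_add]; exact add_mem h1 h2
      | smul r _ _ h => rw [Groth.Agent.QCohLib.germ_smul]; exact Submodule.smul_mem _ _ h
    obtain ⟨v, hv⟩ := (X.mem_basicOpen f x hxU).mp hxf
    rw [← hfs, ← hv] at hs
    have := Submodule.smul_mem _ (↑v⁻¹ : X.presheaf.stalk x) hs
    rwa [smul_smul, Units.inv_mul, one_smul] at this
  -- generizations in the support
  have hgen : ∀ x : X, (∃ q ∈ Module.support (X.presheaf.stalk x) (F.presheaf.stalk x),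
      q.asIdeal ≠ IsLocalRing.maximalIdeal (X.presheaf.stalk x)) ↔
      ∃ y, y ⤳ x ∧ y ≠ x ∧ y ∈ CohB1.support F := by
    intro x
    obtain ⟨_, ⟨U, hU, rfl⟩, hxU, -⟩ :=
      X.isBasis_affineOpens.exists_subset_of_mem_open (Set.mem_univ x) isOpen_univ
    let P : Ideal Γ(X, U) := Groth.Agent.MeroBasic.pr hU x hxU
    constructor
    · rintro ⟨q, hq, hne⟩
      obtain ⟨m, hm⟩ := Module.mem_support_iff'.mp hq
      obtain ⟨f, a, hxf, hfa⟩ := Groth.Agent.QCohLib.exists_smul_eq_germ hU x hxU m
      have hf : X.presheaf.germ U x hxU f ∉ q.asIdeal := fun h =>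
        q.isPrime.ne_top (Ideal.eq_top_of_isUnit_mem _ h ((X.mem_basicOpen f x hxU).mp hxf))
      let Q : PrimeSpectrum Γ(X, U) := ⟨q.asIdeal.comap (X.presheaf.germ U x hxU).hom, inferInstance⟩
      have hQle : Q.asIdeal ≤ P := fun e he => by
        by_contra h
        exact q.isPrime.ne_top (Ideal.eq_top_of_isUnit_mem _ he ((Groth.Agent.MeroBasic.isUnit_germ_iff hU e).mpr h))
      have hmem := Groth.Agent.MeroBasic.fromSpec_mem hU Q
      have hpr : Groth.Agent.MeroBasic.pr hU _ hmem = Q.asIdeal :=
        congrArg PrimeSpectrum.asIdeal (Groth.Agent.MeroBasic.primeIdealOf_fromSpec hU Q)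
      refine ⟨hU.fromSpec Q, Groth.Agent.MeroBasic.specializes_of_le hU Q hQle, fun heq => hne ?_, fun hsub => ?_⟩
      · have hQP : Q.asIdeal = P := by
          rw [← hpr]
          simp only [P, heq]
        refine le_antisymm (IsLocalRing.le_maximalIdeal q.isPrime.ne_top) fun z hz => ?_
        obtain ⟨r, w, hw, hrw⟩ := Groth.Agent.MeroBasic.exists_germ_mul_eq hU (hx := hxU) z
        have hr : r ∈ Q.asIdeal := by
          rw [hQP]
          by_contra hr
          have := (Groth.Agent.MeroBasic.isUnit_germ_iff hU r).mpr hr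
          rw [← hrw, IsUnit.mul_iff] at this
          exact hz this.1
        have : z * X.presheaf.germ U x hxU w ∈ q.asIdeal := hrw ▸ hr
        exact (q.isPrime.mem_or_mem this).resolve_right fun h =>
          q.isPrime.ne_top (Ideal.eq_top_of_isUnit_mem _ h ((Groth.Agent.MeroBasic.isUnit_germ_iff hU w).mpr hw))
      · obtain ⟨e, hye, he⟩ := (Groth.Agent.QCohLib.germ_eq_zero_iff hU _ hmem a).mp (hsub.elim _ _)
        have he' : X.presheaf.germ U x hxU e ∉ q.asIdeal := by
          intro h
          exact (Groth.Agent.QCohLib.mem_basicOpen_iff_notMem_primeIdealOf hU hmem e).mp hye (hpr.ge h)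
        refine hm _ (fun h => (q.isPrime.mem_or_mem h).elim he' hf) ?_
        rw [mul_smul, hfa, ← Groth.Agent.QCohLib.germ_smul, he, map_zero]
    · rintro ⟨y, hyx, hne, hy⟩
      have hyU := hyx.mem_open U.isOpen hxU
      obtain ⟨a, ha⟩ : ∃ a : Γ(F, U), F.presheaf.germ U y hyU a ≠ 0 := by
        by_contra! h
        exact hy ((Groth.Agent.QCohLib.subsingleton_stalk_iff hU y hyU).mpr fun s =>
          (Groth.Agent.QCohLib.germ_eq_zero_iff hU y hyU s).mp (h s))
      let := X.presheaf.algebra_section_stalk ⟨x, hxU⟩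
      have hL := hU.isLocalization_stalk ⟨x, hxU⟩
      let py := Groth.Agent.MeroBasic.pr hU y hyU
      have hpy : py.IsPrime := (hU.primeIdealOf ⟨y, hyU⟩).isPrime
      have hle : py ≤ P := Groth.Agent.MeroBasic.pr_le_pr hU hyx
      have hdisj : Disjoint (P.primeCompl : Set Γ(X, U)) (py : Set Γ(X, U)) :=
        Set.disjoint_left.mpr fun e he he' => he (hle he')
      let q : PrimeSpectrum (X.presheaf.stalk x) := ⟨py.map (algebraMap Γ(X, U) (X.presheaf.stalk x)),
        IsLocalization.isPrime_of_isPrime_disjoint P.primeCompl _ py hpy hdisj⟩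
      have hcomap : q.asIdeal.comap (algebraMap Γ(X, U) (X.presheaf.stalk x)) = py :=
        IsLocalization.under_map_of_isPrime_disjoint P.primeCompl _ hpy hdisj
      refine ⟨q, Module.mem_support_iff'.mpr ⟨F.presheaf.germ U x hxU a, fun r hr hra => ?_⟩, fun heq => ?_⟩
      · obtain ⟨e, t, ht, het⟩ := Groth.Agent.MeroBasic.exists_germ_mul_eq hU (hx := hxU) r
        have he : e ∉ py := by
          intro h
          have : r * X.presheaf.germ U x hxU t ∈ q.asIdeal := het ▸ Ideal.mem_map_of_mem _ h
          exact (q.isPrime.mem_or_mem this).elim hr fun h =>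
            q.isPrime.ne_top (Ideal.eq_top_of_isUnit_mem _ h ((Groth.Agent.MeroBasic.isUnit_germ_iff hU t).mpr ht))
        obtain ⟨v, hxv, hv⟩ := (Groth.Agent.QCohLib.germ_eq_zero_iff hU x hxU (e • a)).mp (by
          rw [Groth.Agent.QCohLib.germ_smul, ← het, mul_comm, mul_smul, hra, smul_zero])
        refine ha ((Groth.Agent.QCohLib.germ_eq_zero_iff hU y hyU a).mpr ⟨v * e, ?_, by rw [mul_smul, hv]⟩)
        rw [Groth.Agent.QCohLib.mem_basicOpen_iff_notMem_primeIdealOf hU hyU]
        exact fun h => (hpy.mem_or_mem h).elim (fun h =>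
          (Groth.Agent.QCohLib.mem_basicOpen_iff_notMem_primeIdealOf hU hxU v).mp hxv (hle h)) he
      · refine hne ?_
        have h1 : py = P := by
          refine le_antisymm hle fun e he => ?_
          rw [← hcomap, Ideal.mem_comap, heq]
          exact fun hu => (Groth.Agent.MeroBasic.isUnit_germ_iff hU e).mp hu he
        exact ((hU.fromSpec_primeIdealOf ⟨y, hyU⟩).symm.trans
          ((congrArg hU.fromSpec (PrimeSpectrum.ext h1)).trans (hU.fromSpec_primeIdealOf ⟨x, hxU⟩)))
  have hass : ∀ x : X, LocCoh.depth (X.presheaf.stalk x) (F.presheaf.stalk x) = 0 ↔ Curv2.IsAssPoint F x :=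
    fun x => Groth.Agent.DepthLib.depth_eq_zero_iff
  constructor
  · intro h x
    by_cases hd : LocCoh.depth (X.presheaf.stalk x) (F.presheaf.stalk x) = 0
    · refine le_trans (min_le_right _ _) ?_
      rw [hd]
      refine not_lt.mp fun hpos => ?_
      obtain ⟨y, hyx, hne, hy⟩ := (hgen x).mp (Groth.Agent.DepthLib.supportDim_pos_iff.mp (by simpa using hpos))
      obtain ⟨m, m', hmm⟩ : ∃ m m' : F.presheaf.stalk y, m ≠ m' := by
        by_contra! hh
        exact hy ⟨hh⟩
      obtain ⟨W, hyW, a, ha⟩ := F.presheaf.exists_germ_eq (m - m')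
      obtain ⟨y', hsp, hw, -⟩ := Groth.Agent.AssPoints.exists_isWeakAssPoint_of_germ_ne_zero hqc hyW a
        (ha ▸ sub_ne_zero.mpr hmm)
      have := h x ((hass x).mp hd) y' (Groth.Agent.AssPoints.isWeakAssPoint_iff_isAssPoint.mp hw) (hsp.trans hyx)
      subst this
      exact hne (hyx.antisymm hsp).eq
    · refine le_trans (min_le_left _ _) ?_
      exact WithBot.coe_le_coe.mpr (by simpa using Order.one_le_iff_pos.mpr (pos_iff_ne_zero.mpr hd))
  · intro h x hx y hy hyx
    by_contra hne
    have hpos := Groth.Agent.DepthLib.supportDim_pos_iff.mpr ((hgen x).mpr ⟨y, hyx, hne, fun hsub => by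
      have := hsub
      exact Groth.Agent.AssPoints.not_isWeakAssPoint_of_subsingleton
        (Groth.Agent.AssPoints.isWeakAssPoint_iff_isAssPoint.mpr hy)⟩)
    have h1 := h x
    rw [(hass x).mpr hx] at h1
    rcases min_le_iff.mp h1 with h3 | h3
    · exact absurd h3 (by norm_num)
    · exact absurd h3 (not_le.mpr (by simpa using hpos))

end Groth.Agent.S8871
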