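import Groth.Statements.S8877
import Groth.Agent.FittRank.Basic
import Groth.Agent.FittMor.Basic
import Groth.Agent.QCohLib.FiniteType
-- import your own Groth.Agent.* helpers here

set_option autoImplicit false
universe u
open CategoryTheory CategoryTheory.Limits AlgebraicGeometry TopologicalSpace
open SDiv

namespace Groth.Agent.S8877

/-- Let S be a scheme and F a quasi-coherent O_S-module of finite type, and let Z_r ⊆ S be the closed
subset cut out by the r-th Fitting ideal of F. Then the intersection of all the Z_r is empty. -/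
theorem result (S : Scheme.{u}) (F : S.Modules) (hF : Coh.IsQCoh F) (hft : CohB1.IsFT F)
    (s : ↥S) : ∃ r : ℕ, s ∉ (Fitt.sheafIdeal F r).support := by
  haveI : F.IsQuasicoherent := hF
  have hfin : ∀ U : S.affineOpens, Module.Finite Γ(S, U.1) Γ(F, U.1) :=
    fun U => (Groth.Agent.QCohLib.isFiniteType_iff_affine F).1 hft U
  obtain ⟨U, hU, hsU, -⟩ := exists_isAffineOpen_mem_and_subset (x := s) (U := ⊤) (by trivial)
  haveI := hfin ⟨U, hU⟩
  obtain ⟨n, g, hg⟩ := Module.Finite.exists_fin (R := Γ(S, U)) (M := Γ(F, U))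
  refine ⟨n, ?_⟩
  let I : S.IdealSheafData :=
    { ideal := fun V => Fitt.ideal Γ(S, V.1) Γ(F, V.1) n
      map_ideal_basicOpen := fun V a => by
        letI := Groth.Agent.QCohLib.resModule F (S.basicOpen_le a)
        haveI := Groth.Agent.QCohLib.resModule_tower F (f := a)
        haveI := V.2.isLocalization_basicOpen a
        haveI := Groth.Agent.QCohLib.isLocalizedModule_res F V.2 a
        haveI := hfin V
        haveI := hfin (S.affineBasicOpen a)
        have hb := IsLocalizedModule.isBaseChange (Submonoid.powers a) Γ(S, S.basicOpen a)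
          (Groth.Agent.QCohLib.resLinearMap F (S.basicOpen_le a))
        show Ideal.map (algebraMap Γ(S, V.1) Γ(S, S.basicOpen a)) (Fitt.ideal Γ(S, V.1) Γ(F, V.1) n) =
          Fitt.ideal Γ(S, S.basicOpen a) Γ(F, S.basicOpen a) n
        rw [← Groth.Agent.S6890.result (R := Γ(S, V.1)) (R' := Γ(S, S.basicOpen a)) Γ(F, V.1) n]
        exact Groth.Agent.FittMor.ideal_congr hb.equiv n }
  have e : Fitt.sheafIdeal F n = I := Scheme.IdealSheafData.ofIdeals_ideal I
  rw [e, Scheme.IdealSheafData.mem_support_iff_of_mem (U := ⟨U, hU⟩) hsU]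
  have ht : I.ideal ⟨U, hU⟩ = ⊤ := Groth.Agent.FittRank.ideal_eq_top_of_span g hg
  rw [ht]
  intro h
  have := (Scheme.mem_zeroLocus_iff _ _ _).1 h 1 (by trivial)
  exact this (by rw [Scheme.basicOpen_of_isUnit _ isUnit_one]; exact hsU)

end Groth.Agent.S8877
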