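import Groth.Statements.S8886
import Mathlib
-- import your own Groth.Agent.* helpers here

set_option autoImplicit false
universe u
open CategoryTheory CategoryTheory.Limits AlgebraicGeometry TopologicalSpace
open SDiv

namespace Groth.Agent.S8886

/-- Let f : X ⟶ Y be a flat morphism of schemes with Y integral. If the scheme-theoretic fibre of f over
the generic point of Y is integral, then X is integral. -/
theorem result {X Y : Scheme.{u}} (f : X ⟶ Y) [Flat f] [IsIntegral Y]
    (h : IsIntegral (f.fiber (genericPoint ↥Y))) : IsIntegral X := by
  let g := Y.fromSpecResidueField (genericPoint Y)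
  let p := Limits.pullback.fst f g
  have : QuasiCompact g := ⟨fun _ _ _ => (Set.toFinite _).isCompact⟩
  have : IsSchemeTheoreticallyDominant g := by
    rw [isSchemeTheoreticallyDominant_iff_isDominant, isDominant_iff, denseRange_iff_closure_range,
      Y.range_fromSpecResidueField]
    exact genericPoint_spec Y
  have : IsIntegral (Limits.pullback f g) := h
  have : IsReduced X := IsSchemeTheoreticallyDominant.isReduced p
  let P : Scheme.{u} := Limits.pullback f g
  have : IsIntegral P := h
  let ξ : X := p (genericPoint P)
  have hξ : IsGenericPoint ξ Set.univ := by
    refine Set.eq_univ_of_forall fun x => ?_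
    obtain ⟨x', hx', hfx'⟩ := Flat.generalizingMap f (genericPoint_specializes (f x))
    obtain ⟨w, rfl⟩ : x' ∈ Set.range p := by
      show x' ∈ Set.range (f.fiberι (genericPoint Y))
      rw [Scheme.Hom.range_fiberι]; exact hfx'
    exact (((genericPoint_specializes w).map p.continuous).trans hx').mem_closure
  have : IrreducibleSpace X := (irreducibleSpace_def X).mpr
    (by rw [Set.top_eq_univ, ← hξ.def]; exact (isIrreducible_singleton (x := ξ)).closure)
  exact isIntegral_of_irreducibleSpace_of_isReduced X

end Groth.Agent.S8886
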