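import Groth.Statements.S8887
import Groth.Agent.QCohLib.FiniteType
import Groth.Agent.QCohLib.StalkLoc
import Groth.Agent.FinLocFree.Push
import Mathlib.AlgebraicGeometry.FunctionField
import Mathlib.LinearAlgebra.Dimension.Finrank
import Mathlib.RingTheory.Localization.Module

set_option autoImplicit false
universe u
open CategoryTheory CategoryTheory.Limits AlgebraicGeometry TopologicalSpace
open SDiv

namespace Groth.Agent.S8887

/-- Generic freeness of a finite module over a domain. -/
theorem exists_free_away {B M : Type u} [CommRing B] [IsDomain B] [AddCommGroup M] [Module B M] [Module.Finite B M]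
    (K : Type u) [CommRing K] [Algebra B K] (V : Type u) [AddCommGroup V] [Module B V] [Module K V]
    [IsScalarTower B K V] (p : Ideal B) [p.IsPrime] (hK : IsField K) [IsLocalization.AtPrime K p]
    (g : M →ₗ[B] V) [IsLocalizedModule p.primeCompl g] :
    ∃ b : Fin (Module.finrank K V) → M, ∃ f : B, f ∈ p.primeCompl ∧
      ∀ (Bf Mf : Type u) [CommRing Bf] [Algebra B Bf] [IsLocalization.Away f Bf] [AddCommGroup Mf] [Module B Mf]
        [Module Bf Mf] [IsScalarTower B Bf Mf] (h : M →ₗ[B] Mf) [IsLocalizedModule.Away f h],
        Function.Bijective fun c : Fin (Module.finrank K V) → Bf => ∑ i, c i • h (b i) := by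
  classical
  letI := hK.toField
  haveI : Module.Finite K V := Module.Finite.of_isLocalizedModule p.primeCompl g
  let v := Module.finBasis K V
  choose ms hms using fun i => IsLocalizedModule.surj p.primeCompl g (v i)
  let b : Fin (Module.finrank K V) → M := fun i => (ms i).1
  have hgb : ∀ i, g (b i) = algebraMap B K ((ms i).2 : B) • v i := fun i => by
    rw [algebraMap_smul]; exact (hms i).symm
  have hu : ∀ i, IsUnit (algebraMap B K ((ms i).2 : B)) := fun i => IsLocalization.map_units K (ms i).2
  let w := v.unitsSMul fun i => (hu i).unit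
  have hw : ∀ i, w i = g (b i) := fun i => by
    rw [Module.Basis.unitsSMul_apply, hgb i]; rfl
  have hinjBK : Function.Injective (algebraMap B K) :=
    IsLocalization.injective K (M := p.primeCompl) (fun x hx => mem_nonZeroDivisors_of_ne_zero fun h0 => hx (h0 ▸ p.zero_mem))
  -- torsion cokernel
  have hcok : ∀ m : M, ∃ s ∈ p.primeCompl, s • m ∈ Submodule.span B (Set.range b) := by
    intro m
    obtain ⟨t, ht⟩ := IsLocalization.exist_integer_multiples p.primeCompl Finset.univ (fun i => w.repr (g m) i)
    choose c hc using fun i => ht i (Finset.mem_univ i)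
    have h1 : g ((t : B) • m) = g (∑ i, c i • b i) := by
      rw [map_smul, map_sum]
      conv_lhs => rw [← w.sum_repr (g m), Finset.smul_sum]
      refine Finset.sum_congr rfl fun i _ => ?_
      rw [map_smul, hw, ← algebraMap_smul K (t : B), smul_smul, ← algebraMap_smul K (c i), hc i, Algebra.smul_def]
    obtain ⟨s, hs⟩ := IsLocalizedModule.exists_of_eq (S := p.primeCompl) (f := g) h1
    refine ⟨(s : B) * t, p.primeCompl.mul_mem s.2 t.2, ?_⟩
    rw [mul_smul]
    have hs' : (s : B) • ((t : B) • m) = (s : B) • ∑ i, c i • b i := hs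
    rw [hs']
    exact Submodule.smul_mem _ _ (Submodule.sum_mem _ fun i _ =>
      Submodule.smul_mem _ _ (Submodule.subset_span (Set.mem_range_self i)))
  obtain ⟨G, hG⟩ := Module.Finite.fg_top (R := B) (M := M)
  choose s hs hsm using hcok
  let f : B := ∏ m ∈ G, s m
  have hall : ∀ m : M, f • m ∈ Submodule.span B (Set.range b) := by
    intro m
    have hm : m ∈ Submodule.span B (G : Set M) := hG ▸ Submodule.mem_top
    induction hm using Submodule.span_induction with
    | mem x hx =>
      obtain ⟨c, hc⟩ := Finset.dvd_prod_of_mem s (Finset.mem_coe.mp hx)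
      rw [show f = s x * c from hc, mul_comm, mul_smul]
      exact Submodule.smul_mem _ _ (hsm x)
    | zero => rw [smul_zero]; exact zero_mem _
    | add x y _ _ hx hy => rw [smul_add]; exact add_mem hx hy
    | smul r x _ hx => rw [smul_comm]; exact Submodule.smul_mem _ _ hx
  refine ⟨b, f, prod_mem fun m _ => hs m, ?_⟩
  intro Bf Mf _ _ _ _ _ _ _ h _
  have hLI : LinearIndependent B b := by
    refine Fintype.linearIndependent_iff.mpr fun c hc i => ?_
    have h0 : ∑ i, algebraMap B K (c i) • w i = 0 := by
      simp only [hw, algebraMap_smul, ← map_smul, ← map_sum, hc, map_zero]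
    exact hinjBK ((Fintype.linearIndependent_iff.mp w.linearIndependent _ h0 i).trans (map_zero _).symm)
  constructor
  · intro c c' hcc
    obtain ⟨t, ht⟩ := IsLocalization.exist_integer_multiples (Submonoid.powers f) Finset.univ (fun i => c i - c' i)
    choose d hd using fun i => ht i (Finset.mem_univ i)
    have h1 : h (∑ i, d i • b i) = h 0 := by
      rw [map_zero, map_sum]
      calc ∑ i, h (d i • b i) = ∑ i, (algebraMap B Bf (d i)) • h (b i) := by
            simp only [map_smul, algebraMap_smul]
        _ = (t : B) • (∑ i, c i • h (b i) - ∑ i, c' i • h (b i)) := by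
            rw [← Finset.sum_sub_distrib, Finset.smul_sum]
            refine Finset.sum_congr rfl fun i _ => ?_
            rw [hd i, ← sub_smul, smul_assoc]
        _ = 0 := by rw [show (∑ i, c i • h (b i)) = ∑ i, c' i • h (b i) from hcc, sub_self, smul_zero]
    obtain ⟨r, hr⟩ := IsLocalizedModule.exists_of_eq (S := Submonoid.powers f) (f := h) h1
    have hr' : (r : B) • ∑ i, d i • b i = 0 := by rw [← smul_zero (r : B)]; exact hr
    rw [Finset.smul_sum] at hr'
    simp only [smul_smul] at hr'
    funext i
    have hr0 := Fintype.linearIndependent_iff.mp hLI _ hr' i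
    have hru : IsUnit (algebraMap B Bf (r : B)) := IsLocalization.map_units Bf r
    have htu : IsUnit (algebraMap B Bf (t : B)) := IsLocalization.map_units Bf t
    have h2 := congrArg (algebraMap B Bf) hr0
    rw [map_mul, map_zero, hru.mul_right_eq_zero, hd i, Algebra.smul_def, htu.mul_right_eq_zero, sub_eq_zero] at h2
    exact h2
  · intro y
    obtain ⟨⟨m, t⟩, hmt⟩ := IsLocalizedModule.surj (Submonoid.powers f) h y
    obtain ⟨d, hd⟩ := (Submodule.mem_span_range_iff_exists_fun B).mp (hall m)
    have hu' : IsUnit (algebraMap B Bf (f * t)) :=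
      IsLocalization.map_units Bf (⟨f * t, Submonoid.mul_mem _ (Submonoid.mem_powers f) t.2⟩ : Submonoid.powers f)
    refine ⟨fun i => (↑hu'.unit⁻¹ : Bf) * algebraMap B Bf (d i), ?_⟩
    have h3 : ∑ i, algebraMap B Bf (d i) • h (b i) = algebraMap B Bf (f * t) • y := by
      simp only [algebraMap_smul, ← map_smul, ← map_sum, hd]
      have hmt' : (t : B) • y = h m := hmt
      rw [map_smul, ← hmt', ← mul_smul]
    show ∑ i, ((↑hu'.unit⁻¹ : Bf) * algebraMap B Bf (d i)) • h (b i) = y
    simp only [mul_smul]
    rw [← Finset.smul_sum, h3, smul_smul, IsUnit.val_inv_mul, one_smul]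

/-- Let X be an integral scheme and F a quasi-coherent O_X-module of finite type, of rank r (r being the
finite dimension of the generic stalk of F as a vector space over the function field of X). Then one
can find an open subset U of X, not empty, on which the restriction of F is isomorphic to the free
module of rank r. -/
theorem result (X : Scheme.{u}) [IsIntegral X] (F : X.Modules) (hF : Coh.IsQCoh F)
    (hft : CohB1.IsFT F) :
    ∃ U : X.Opens, (U : Set ↥X).Nonempty ∧
      Nonempty (F.restrict U.ι ≅ FlatMod.freeMod (↑U)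
        (Module.finrank ↑(X.presheaf.stalk (genericPoint ↥X)) ↑(F.presheaf.stalk (genericPoint ↥X)))) := by

  haveI : F.IsQuasicoherent := hF
  obtain ⟨U, hU, hηU, -⟩ := exists_isAffineOpen_mem_and_subset (U := (⊤ : X.Opens)) (x := genericPoint X) trivial
  haveI : Nonempty U := ⟨⟨_, hηU⟩⟩
  let η := genericPoint X
  let B := Γ(X, U)
  let M := Γ(F, U)
  haveI : Module.Finite B M := Groth.Agent.QCohLib.finite_sections F hft hU
  letI := TopCat.Presheaf.algebra_section_stalk X.presheaf (⟨η, hηU⟩ : U)
  haveI : IsFractionRing B (X.presheaf.stalk η) := functionField_isFractionRing_of_isAffineOpen X U hU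
  haveI := hU.isLocalization_stalk ⟨η, hηU⟩
  letI : Module B (F.presheaf.stalk η) := Groth.Agent.QCohLib.germModule F η hηU
  haveI : IsScalarTower B (X.presheaf.stalk η) (F.presheaf.stalk η) := IsScalarTower.of_algebraMap_smul fun _ _ => rfl
  haveI := Groth.Agent.QCohLib.isLocalizedModule_germ (M := F) hU η hηU
  have hK : IsField (X.presheaf.stalk η) := Field.toIsField X.functionField
  obtain ⟨b, hb⟩ := exists_free_away (B := B) (M := M) (X.presheaf.stalk η) (F.presheaf.stalk η)
    (hU.primeIdealOf ⟨η, hηU⟩).asIdeal hK (Groth.Agent.QCohLib.germLinearMap F η hηU)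
  obtain ⟨f, hf, hfree⟩ := hb
  refine ⟨X.basicOpen f, ⟨η, (X.mem_basicOpen f η hηU).mpr ?_⟩, ?_⟩
  · exact IsLocalization.map_units (X.presheaf.stalk η) (⟨f, hf⟩ : (hU.primeIdealOf ⟨η, hηU⟩).asIdeal.primeCompl)
  letI := Groth.Agent.QCohLib.resModule F (X.basicOpen_le f)
  haveI := Groth.Agent.QCohLib.isLocalizedModule_res (M := F) hU f
  letI : Algebra B Γ(X, X.basicOpen f) := (X.presheaf.map (homOfLE (X.basicOpen_le f)).op).hom.toAlgebra
  haveI : IsLocalization.Away f Γ(X, X.basicOpen f) := hU.isLocalization_basicOpen f
  haveI := Groth.Agent.QCohLib.resModule_tower F (U := U) (f := f)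
  exact Groth.Agent.FinLocFree.nonempty_restrict_iso_free (hU.basicOpen f)
    (fun i => Groth.Agent.QCohLib.resLinearMap F (X.basicOpen_le f) (b i))
    (hfree Γ(X, X.basicOpen f) Γ(F, X.basicOpen f) _)

end Groth.Agent.S8887
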