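import Groth.Statements.S8888
import Groth.Agent.ModGroth.PullStalk
import Mathlib.AlgebraicGeometry.FunctionField

set_option autoImplicit false
universe u
open CategoryTheory CategoryTheory.Limits AlgebraicGeometry TopologicalSpace
open SDiv

namespace Groth.Agent.S8888

/-- Rank is preserved by extension of scalars from a field. -/
theorem rank_extendScalars {R S : Type u} [CommRing R] [CommRing S] [Nontrivial S] (hR : IsField R)
    (φ : R →+* S) (M : ModuleCat.{u} R) :
    Module.rank S ((ModuleCat.extendScalars φ).obj M) = Module.rank R M := by
  letI := hR.toField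
  letI : Algebra R S := φ.toAlgebra
  refine (Module.rank_baseChange (S := R) (R := S) (M' := M)).trans ?_
  exact Cardinal.lift_id _

/-- Let f : X ⟶ Y be a dominant morphism of integral schemes and G a quasi-coherent O_Y-module. Then the
rank of f^*G on X, the dimension of its stalk at the generic point of X over the function field of
X, equals the rank of G on Y. -/
theorem result {X Y : Scheme.{u}} [IsIntegral X] [IsIntegral Y] (f : X ⟶ Y) [IsDominant f]
    (G : Y.Modules) (hG : Coh.IsQCoh G) :
    Module.rank ↑(X.presheaf.stalk (genericPoint ↥X)) ↑(((Scheme.Modules.pullback f).obj G).presheaf.stalk (genericPoint ↥X)) =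
      Module.rank ↑(Y.presheaf.stalk (genericPoint ↥Y)) ↑(G.presheaf.stalk (genericPoint ↥Y)) := by
  have hη : f (genericPoint ↥X) = genericPoint ↥Y := by
    apply ((genericPoint_spec ↥X).image f.continuous).eq
    rw [Set.image_univ, f.denseRange.closure_range]
    exact genericPoint_spec ↥Y
  have hF : IsField (Y.presheaf.stalk (f (genericPoint ↥X))) := by
    rw [hη]; exact Field.toIsField Y.functionField
  let e := ((Groth.Agent.ModGroth.Stalk.pullStalkIso f (genericPoint ↥X)).app G).toLinearEquiv
  refine (e.rank_eq.trans (rank_extendScalars hF _ _)).trans ?_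
  exact congrArg (fun y => Module.rank (Y.presheaf.stalk y) (G.presheaf.stalk y)) hη

end Groth.Agent.S8888
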