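import Groth.Statements.S8891
import Groth.Agent.DepthSections.IsoCrit
import Mathlib
-- import your own Groth.Agent.* helpers here

set_option autoImplicit false
universe u
open CategoryTheory CategoryTheory.Limits AlgebraicGeometry TopologicalSpace
open SDiv

namespace Groth.Agent.S8891

/-- Let X be an integral locally Noetherian scheme and φ : F ⟶ G a morphism of quasi-coherent
O_X-modules with F coherent and G torsion free. Assume that for every point x either the stalk map
F_x → G_x is an isomorphism, or depth(F_x) ≥ 2 and x is not the generic point of X. Then φ is an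
isomorphism. (The published statement allows the second alternative at the generic point as well;
since the zero module has infinite depth, F = 0 and G = O_X then satisfy every hypothesis while 0 →
O_X is not an isomorphism. The general criterion this is a special case of requires x not to be
associated to G, which for torsion-free G ≠ 0 fails exactly at the generic point; so the generic
point is excluded from the second alternative here.) -/
theorem result (X : Scheme.{u}) [IsIntegral X] [IsLocallyNoetherian X] {F G : X.Modules}
    (φ : F ⟶ G) (hF : Coh.IsCoh F) (hG : Coh.IsQCoh G)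
    (htf : ∀ x : ↥X, NoZeroSMulDivisors ↑(X.presheaf.stalk x) ↑(G.presheaf.stalk x))
    (h : ∀ x : ↥X, Function.Bijective ((TopCat.Presheaf.stalkFunctor AddCommGrpCat.{u} x).map (Scheme.Modules.Hom.mapPresheaf φ)) ∨
      ((2 : ℕ∞) ≤ LocCoh.depth (X.presheaf.stalk x) (F.presheaf.stalk x) ∧ x ≠ genericPoint ↥X)) :
    IsIso φ := by
  refine Groth.Agent.DepthSections.isIso_of_bijective_or_depth φ hF hG fun x => (h x).imp id ?_
  refine fun h' => ⟨h'.1, fun hw => h'.2 (Groth.Agent.DepthSections.eq_genericPoint_of_maximalIdeal_eq_bot ?_)⟩
  obtain ⟨m, hm⟩ := hw
  obtain ⟨q, hq0, hq⟩ := Groth.Agent.DepthSections.exists_killed_of_radical_eq hm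
  haveI := htf x
  exact eq_bot_iff.mpr fun r hr => (eq_zero_or_eq_zero_of_smul_eq_zero (hq r hr)).resolve_right hq0

end Groth.Agent.S8891
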