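import Groth.Statements.S8895
import Groth.Agent.S8894
import Groth.Agent.H1Flat.Basic
import Groth.Agent.FlatDescent.Scheme
import Groth.Agent.Div38.Glue

set_option autoImplicit false
universe u
open CategoryTheory CategoryTheory.Limits AlgebraicGeometry TopologicalSpace
open SDiv

namespace Groth.Agent.S8895

open Groth.Agent Groth.Agent.RegSeq

theorem flat_stalkMap {Z X S : Scheme.{u}} (f : X ⟶ S) [LocallyOfFinitePresentation f] (i : Z ⟶ X)
    (hi : RegImm.IsRelRegularImmersion RegImm.Kind.h1 f i) (z : Z) : (f.stalkMap (i z)).hom.Flat := by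
  obtain ⟨⟨himm, hreg⟩, hflat⟩ := hi
  haveI := himm
  haveI := hflat
  obtain ⟨U, hzU, hcl, rs, hq, hker⟩ := hreg z
  haveI := hcl
  obtain ⟨hA, hs⟩ := Groth.Agent.PerfMor.surjective_app_of_restrict i U.2
  obtain ⟨hk, hsurj⟩ := S8893.ker_stalkMap' i z U.1 U.2 hzU hA hs
  let x := i z
  let T := X.presheaf.stalk x
  let R := S.presheaf.stalk (f x)
  letI : Algebra R T := (f.stalkMap x).hom.toAlgebra
  letI : Algebra R (Z.presheaf.stalk z) := ((i.stalkMap z).hom.comp (f.stalkMap x).hom).toAlgebra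
  haveI : Module.Flat R (Z.presheaf.stalk z) := by
    have h := Flat.stalkMap (i ≫ f) z
    rw [Scheme.Hom.stalkMap_comp] at h
    exact h
  letI : Algebra Γ(X, U.1) T := (X.presheaf.germ U.1 x hzU).hom.toAlgebra
  haveI : IsLocalization.AtPrime T (U.2.primeIdealOf ⟨x, hzU⟩).asIdeal :=
    U.2.isLocalization_stalk ⟨x, hzU⟩
  haveI : Module.Flat Γ(X, U.1) T :=
    IsLocalization.flat _ (U.2.primeIdealOf ⟨x, hzU⟩).asIdeal.primeCompl
  let t : Fin rs.length → T := algebraMap Γ(X, U.1) _ ∘ rs.get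
  have ht : CAlgX.IsH1Regular t := isH1Regular_of_flat hq
  have hgerm : List.ofFn t = rs.map (X.presheaf.germ U.1 x hzU) := by
    rw [← List.map_ofFn, List.ofFn_get]
    rfl
  let π : T →ₐ[R] Z.presheaf.stalk z := { (i.stalkMap z).hom with commutes' := fun r => rfl }
  have hk' : RingHom.ker π = Ideal.span (Set.range t) := by
    show RingHom.ker (i.stalkMap z).hom = _
    rw [hk, hker, Ideal.map_ofList, ← Groth.FlatDescent.Slicing.ofList_ofFn, hgerm]
  have hmem : ∀ n, t n ∈ IsLocalRing.maximalIdeal T := fun n h => by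
    have h0 : π (t n) = 0 := RingHom.mem_ker.mp (hk'.ge (Ideal.subset_span ⟨n, rfl⟩))
    exact not_isUnit_zero (h0 ▸ h.map π)
  haveI hfl : Module.Flat R (T ⧸ Ideal.span (Set.range t)) := by
    rw [← hk']
    exact Module.Flat.of_linearEquiv (Ideal.quotientKerAlgEquivOfSurjective (f := π) hsurj).toLinearEquiv
  obtain ⟨V, hV, hxV, -⟩ := exists_isAffineOpen_mem_and_subset (U := (⊤ : S.Opens)) (x := f x) trivial
  obtain ⟨W, hW, hxW, e⟩ := exists_isAffineOpen_mem_and_subset (U := f ⁻¹ᵁ V) (x := x) hxV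
  letI : Algebra Γ(S, V) Γ(X, W) := (f.appLE V W e).hom.toAlgebra
  haveI : Algebra.FinitePresentation Γ(S, V) Γ(X, W) :=
    HasRingHomProperty.appLE @LocallyOfFinitePresentation f inferInstance ⟨V, hV⟩ ⟨W, hW⟩ e
  letI : Algebra Γ(X, W) T := (X.presheaf.germ W x hxW).hom.toAlgebra
  haveI : IsLocalization.AtPrime T (hW.primeIdealOf ⟨x, hxW⟩).asIdeal := hW.isLocalization_stalk ⟨x, hxW⟩
  letI := TopCat.Presheaf.algebra_section_stalk S.presheaf (⟨f x, hxV⟩ : V)
  haveI := hV.isLocalization_stalk ⟨f x, hxV⟩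
  letI : Algebra Γ(S, V) T := ((X.presheaf.germ W x hxW).hom.comp (f.appLE V W e).hom).toAlgebra
  haveI : IsScalarTower Γ(S, V) Γ(X, W) T := IsScalarTower.of_algebraMap_eq fun _ => rfl
  haveI : IsScalarTower Γ(S, V) R T :=
    IsScalarTower.of_algebraMap_eq fun r => Groth.Agent.Div38.germ_appLE e hxW r
  haveI : Module.Flat Γ(S, V) R := IsLocalization.flat R (hV.primeIdealOf ⟨f x, hxV⟩).asIdeal.primeCompl
  haveI : Module.Flat Γ(S, V) (T ⧸ Ideal.span (Set.range t)) :=
    Module.Flat.trans Γ(S, V) R (T ⧸ Ideal.span (Set.range t))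
  haveI : Module.Flat Γ(S, V) T :=
    H1Flat.flat_atPrime (hW.primeIdealOf ⟨x, hxW⟩).asIdeal t hmem ht inferInstance
  show Module.Flat R T
  exact (Module.flat_iff_of_isLocalization R (hV.primeIdealOf ⟨f x, hxV⟩).asIdeal.primeCompl T).mpr inferInstance

theorem exists_flat_open {Z X S : Scheme.{u}} (f : X ⟶ S) [LocallyOfFinitePresentation f] (i : Z ⟶ X)
    (hi : RegImm.IsRelRegularImmersion RegImm.Kind.h1 f i) :
    ∃ U : X.Opens, Set.range (fun z : ↥Z => i z) ⊆ (U : Set ↥X) ∧ Flat (U.ι ≫ f) := by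
  let U : X.Opens := ⟨{x | (f.stalkMap x).hom.Flat}, Groth.FlatDescent.isOpen_flatLocus_hom f⟩
  refine ⟨U, ?_, ?_⟩
  · rintro _ ⟨z, rfl⟩
    exact flat_stalkMap f i hi z
  · refine Flat.of_stalkMap _ fun x => ?_
    rw [Scheme.Hom.stalkMap_comp]
    exact RingHom.Flat.comp x.2 (RingHom.Flat.of_bijective (ConcreteCategory.bijective_of_isIso (U.ι.stalkMap x)))

theorem relQuasi_of_h1 {Z X S : Scheme.{u}} {f : X ⟶ S} {i : Z ⟶ X}
    (hi : RegImm.IsRelRegularImmersion RegImm.Kind.h1 f i) : RegImm.IsRelRegularImmersion RegImm.Kind.quasi f i :=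
  ⟨isRegularImmersion_mono (fun h => seq_quasi_of_h1 h) hi.1, hi.2⟩

theorem regular_of_h1 {Z X S : Scheme.{u}} (f : X ⟶ S) [LocallyOfFinitePresentation f] (i : Z ⟶ X)
    (hi : RegImm.IsRelRegularImmersion RegImm.Kind.h1 f i) : RegImm.IsRegularImmersion RegImm.Kind.regular i :=
  S8894.regular_of_relQuasi f i (flat_stalkMap f i hi) (relQuasi_of_h1 hi)

/-- Let f : X ⟶ S be locally of finite presentation and i : Z ⟶ X a relative H_1-regular immersion. Then
(1) there is an open subscheme U ⊆ X containing the image of Z such that U ⟶ S is flat, and (2) i is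
a regular immersion and remains one after any base change S' ⟶ S. -/
theorem result {Z X S : Scheme.{u}} (f : X ⟶ S) [LocallyOfFinitePresentation f] (i : Z ⟶ X)
    (hi : RegImm.IsRelRegularImmersion RegImm.Kind.h1 f i) :
    (∃ U : X.Opens, Set.range (fun z : ↥Z => i z) ⊆ (U : Set ↥X) ∧ Flat (U.ι ≫ f)) ∧
      RegImm.IsRegularImmersion RegImm.Kind.regular i ∧
      ∀ (S' : Scheme.{u}) (g : S' ⟶ S), RegImm.IsRegularImmersion RegImm.Kind.regular (pullback.snd i (pullback.fst f g)) := by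
  exact ⟨exists_flat_open f i hi, regular_of_h1 f i hi, fun S' g =>
    regular_of_h1 (pullback.snd f g) _ (S8892.relBaseChange f i .h1 (Or.inl rfl) hi g)⟩

end Groth.Agent.S8895
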