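import Groth.Statements.S8896
import Groth.Agent.CIPres.FlatRegImm
import Groth.Agent.FibrewiseCrit.Basic
import Groth.Agent.RegSeq.NoethImm
import Groth.Agent.RegSeq.Imm
import Groth.Agent.S18944
import Groth.Agent.S9501
import Mathlib.AlgebraicGeometry.PullbackCarrier

set_option autoImplicit false
universe u
open CategoryTheory CategoryTheory.Limits AlgebraicGeometry TopologicalSpace
open SDiv

namespace Groth.Agent.S8896

open Groth.Agent Groth.Agent.RegSeq RingTheory.Sequence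

theorem flat_quot_germ {Z X S : Scheme.{u}} (g : X ⟶ S) (j : Z ⟶ X) [IsClosedImmersion j] [Flat (j ≫ g)]
    (z : Z) {U : X.Opens} (hU : IsAffineOpen U) : ∀ (x : X) (hx : x ∈ U), j z = x →
    ((Ideal.Quotient.mk ((RingHom.ker (j.app U).hom).map (X.presheaf.germ U x hx).hom)).comp
      (g.stalkMap x).hom).Flat ∧
    (RingHom.ker (j.app U).hom).map (X.presheaf.germ U x hx).hom ≤ IsLocalRing.maximalIdeal (X.presheaf.stalk x) := by
  rintro _ hx rfl
  rw [← RegEmbed.ker_stalkMap j z U hU hx]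
  refine ⟨?_, IsLocalRing.le_maximalIdeal (RingHom.ker_ne_top _)⟩
  have hB : ((j.stalkMap z).hom.comp (g.stalkMap (j z)).hom).Flat := by
    have h := Flat.stalkMap (j ≫ g) z
    rw [Scheme.Hom.stalkMap_comp] at h
    exact h
  have hs : Function.Surjective (j.stalkMap z).hom := j.stalkMap_surjective z
  have h := RingHom.Flat.comp hB (RingHom.Flat.of_bijective
    (f := (RingHom.quotientKerEquivOfSurjective hs).symm.toRingHom)
    (RingHom.quotientKerEquivOfSurjective hs).symm.bijective)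
  convert h using 1
  ext a
  exact ((RingHom.quotientKerEquivOfSurjective hs).symm_apply_apply _).symm

theorem regular_of_fibres {Z X S : Scheme.{u}} (g : X ⟶ S) [Flat g] [LocallyOfFinitePresentation g]
    (j : Z ⟶ X) [IsClosedImmersion j] [Flat (j ≫ g)] [LocallyOfFinitePresentation (j ≫ g)]
    (hfib : ∀ s : S, RegImm.IsRegularImmersion RegImm.Kind.quasi (pullback.snd j (g.fiberι s))) (z : Z) :
    RegImm.IsRegularImmersionAt RegImm.Kind.regular j z := by
  have hj : IsClosedImmersion j := inferInstance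
  let s := g (j z)
  haveI : LocallyOfFiniteType (g.fiberToSpecResidueField s) :=
    MorphismProperty.pullback_snd (P := @LocallyOfFiniteType) g (S.fromSpecResidueField s) inferInstance
  haveI : IsLocallyNoetherian (g.fiber s) := LocallyOfFiniteType.isLocallyNoetherian (g.fiberToSpecResidueField s)
  obtain ⟨z', hz1, hz2⟩ := Scheme.Pullback.exists_preimage_pullback (f := j) (g := g.fiberι s) z (g.asFiber (j z))
    (g.fiberι_asFiber (j z)).symm
  let p := g.fiberι s
  let i' := pullback.snd j p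
  let y := i' z'
  let x := p y
  have hjx : j z = x := by
    rw [← hz1]
    exact congr($(pullback.condition (f := j) (g := p)) z')
  obtain ⟨U₀, hU₀, hxU₀, -⟩ := exists_isAffineOpen_mem_and_subset (X := X) (U := ⊤) (x := x) trivial
  haveI : LocallyOfFinitePresentation j :=
    Groth.FibrewiseCrit.locallyOfFinitePresentation_of_comp j g inferInstance inferInstance
  have hKfg : ∀ (U : X.Opens), IsAffineOpen U → (RingHom.ker (j.app U).hom).FG := fun U hU => by
    haveI : IsClosedImmersion (j ∣_ U) := IsZariskiLocalAtTarget.restrict hj U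
    obtain ⟨hA, hs⟩ := Groth.Agent.PerfMor.surjective_app_of_restrict j hU
    letI := (j.app U).hom.toAlgebra
    haveI : Algebra.FinitePresentation Γ(X, U) Γ(Z, j ⁻¹ᵁ U) := by
      have h := HasRingHomProperty.appLE @LocallyOfFinitePresentation j inferInstance ⟨U, hU⟩
        ⟨j ⁻¹ᵁ U, hA⟩ le_rfl
      rwa [← Scheme.Hom.app_eq_appLE] at h
    exact Algebra.FinitePresentation.ker_fG_of_surjective (Algebra.ofId Γ(X, U) Γ(Z, j ⁻¹ᵁ U)) hs
  let A := S.presheaf.stalk (g x)
  let C := X.presheaf.stalk x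
  letI : Algebra A C := (g.stalkMap x).hom.toAlgebra
  haveI : IsLocalHom (algebraMap A C) := inferInstanceAs (IsLocalHom (g.stalkMap x).hom)
  let I : Ideal C := (IsLocalRing.maximalIdeal A).map (algebraMap A C)
  let J : Ideal C := (RingHom.ker (j.app U₀).hom).map (X.presheaf.germ U₀ x hxU₀).hom
  obtain ⟨hfl, hJm⟩ := flat_quot_germ g j z hU₀ x hxU₀ hjx
  haveI : Module.Flat A (C ⧸ J) := RingHom.flat_algebraMap_iff.1 hfl
  have hJfg : J.FG := (hKfg U₀ hU₀).map _
  -- the fibre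
  obtain ⟨rs₀, hrs₀, hk₀⟩ := S18944.result i' (regular_of_quasi i' (hfib s)) z'
  obtain ⟨V₀, hV₀, hyV₀, hV₀U⟩ := exists_isAffineOpen_mem_and_subset (U := p ⁻¹ᵁ U₀) (x := y) hxU₀
  haveI : IsClosedImmersion (j ∣_ U₀) := IsZariskiLocalAtTarget.restrict hj U₀
  haveI : IsClosedImmersion i' := MorphismProperty.of_isPullback (IsPullback.of_hasPullback j p) hj
  obtain ⟨-, hkV⟩ := restrict_baseChange (IsPullback.of_hasPullback j p) hU₀ hV₀ hV₀U
  obtain ⟨hσs, hσk⟩ := S9501.result g s y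
  let σ : C →+* (g.fiber s).presheaf.stalk y := (p.stalkMap y).hom
  have hσJ : Ideal.ofList rs₀ = J.map σ := by
    rw [← hk₀, RegEmbed.ker_stalkMap i' z' V₀ hV₀ hyV₀, hkV, Ideal.map_map]
    refine Eq.trans ?_ (Ideal.map_map _ _).symm
    congr 1
    ext r
    show (g.fiber s).presheaf.germ V₀ y hyV₀ (p.appLE U₀ V₀ hV₀U r) = p.stalkMap y (X.presheaf.germ U₀ x hxU₀ r)
    rw [Scheme.Hom.germ_stalkMap_apply, Scheme.Hom.appLE, CommRingCat.comp_apply, TopCat.Presheaf.germ_res_apply]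
  let eC : C ⧸ I ≃+* (g.fiber s).presheaf.stalk y :=
    (Ideal.quotEquivOfEq hσk.symm).trans (RingHom.quotientKerEquivOfSurjective hσs)
  have heC : σ = eC.toRingHom.comp (Ideal.Quotient.mk I) := RingHom.ext fun c => rfl
  have hrb : Ideal.ofList (rs₀.map eC.symm) = J.map (Ideal.Quotient.mk I) := by
    show Ideal.ofList (rs₀.map eC.symm.toRingHom) = _
    rw [← Ideal.map_ofList, hσJ, heC, Ideal.map_map]
    congr 1
    ext c
    exact eC.symm_apply_apply (Ideal.Quotient.mk I c)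
  obtain ⟨rs, hmap, hgen⟩ := CIPres.exists_lift_gens J hJfg (rs₀.map eC.symm) hrb
  obtain ⟨V, U, hV, hU, hUV, hxU, n, b, hb, hbm, hflb⟩ :=
    Groth.FlatDescent.Slicing.exists_slice g x (Flat.stalkMap g x) rs
      (fun a ha => hJm (hgen.le (Ideal.subset_span ha))) (by
        show IsWeaklyRegular (C ⧸ I) (rs.map (Ideal.Quotient.mk I))
        rw [hmap]
        exact Groth.FlatDescent.Slicing.isWeaklyRegular_ringEquiv eC.symm hrs₀.toIsWeaklyRegular)
  letI : Algebra Γ(X, U) C := (X.presheaf.germ U x hxU).hom.toAlgebra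
  haveI : IsLocalization.AtPrime C (hU.primeIdealOf ⟨x, hxU⟩).asIdeal :=
    hU.isLocalization_stalk ⟨x, hxU⟩
  have hind : ∀ (x' : X) (h₁ : x' ∈ U) (h₂ : x' ∈ U₀), j z = x' →
      (RingHom.ker (j.app U).hom).map (X.presheaf.germ U x' h₁).hom =
        (RingHom.ker (j.app U₀).hom).map (X.presheaf.germ U₀ x' h₂).hom := by
    rintro _ h₁ h₂ rfl
    rw [← RegEmbed.ker_stalkMap j z U hU h₁, ← RegEmbed.ker_stalkMap j z U₀ hU₀ h₂]
  have hK : (RingHom.ker (j.app U).hom).map (algebraMap Γ(X, U) C) = J := hind x hxU hxU₀ hjx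
  have hspanb : (Ideal.span (Set.range b)).map (algebraMap Γ(X, U) C) = J := by
    rw [← Groth.FlatDescent.Slicing.ofList_ofFn, Ideal.map_ofList, ← hgen]
    exact congrArg Ideal.ofList hb
  obtain ⟨s₁, hs₁, h₁⟩ := CIPres.exists_mul_mem (hU.primeIdealOf ⟨x, hxU⟩).asIdeal C
    (RingHom.ker (j.app U).hom) (Ideal.span (Set.range b)) (hKfg U hU) (by rw [hK, hspanb])
  obtain ⟨s₂, hs₂, h₂⟩ := CIPres.exists_mul_mem (hU.primeIdealOf ⟨x, hxU⟩).asIdeal C
    (Ideal.span (Set.range b)) (RingHom.ker (j.app U).hom)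
    (Submodule.fg_span (Set.finite_range b)) (by rw [hK, hspanb])
  have hs : s₁ * s₂ ∈ (hU.primeIdealOf ⟨x, hxU⟩).asIdeal.primeCompl := mul_mem hs₁ hs₂
  let W := X.basicOpen (s₁ * s₂)
  have hxW : j z ∈ W := by
    rw [hjx, X.mem_basicOpen _ x hxU]
    exact IsLocalization.map_units C (⟨s₁ * s₂, hs⟩ : (hU.primeIdealOf ⟨x, hxU⟩).asIdeal.primeCompl)
  letI : Algebra Γ(X, U) Γ(X, W) := (X.presheaf.map (homOfLE (X.basicOpen_le (s₁ * s₂))).op).hom.toAlgebra
  haveI : IsLocalization.Away (s₁ * s₂) Γ(X, W) := hU.isLocalization_basicOpen (s₁ * s₂)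
  have hle : ∀ (P Q : Ideal Γ(X, U)) (t : Γ(X, U)), t ∣ s₁ * s₂ → (∀ w ∈ P, t * w ∈ Q) →
      P.map (algebraMap _ Γ(X, W)) ≤ Q.map (algebraMap _ Γ(X, W)) := fun P Q t htd h => by
    refine Ideal.map_le_iff_le_comap.2 fun w hw => ?_
    have hu : IsUnit (algebraMap Γ(X, U) Γ(X, W) t) :=
      isUnit_of_dvd_unit (map_dvd _ htd) (IsLocalization.map_units Γ(X, W)
        (⟨_, Submonoid.mem_powers (s₁ * s₂)⟩ : Submonoid.powers (s₁ * s₂)))
    rw [Ideal.mem_comap, ← Ideal.unit_mul_mem_iff_mem _ hu, ← map_mul]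
    exact Ideal.mem_map_of_mem _ (h w hw)
  have hkerW : j.ker.ideal ⟨W, hU.basicOpen (s₁ * s₂)⟩ =
      (Ideal.span (Set.range b)).map (algebraMap _ Γ(X, W)) := by
    refine ((j.ker.map_ideal_basicOpen ⟨U, hU⟩ (s₁ * s₂)).symm.trans ?_)
    rw [Scheme.Hom.ker_apply]
    exact le_antisymm (hle _ _ s₁ (dvd_mul_right _ _) h₁) (hle _ _ s₂ (dvd_mul_left _ _) h₂)
  have hw := Groth.FlatDescent.Slicing.isWeaklyRegular_of_flat _
    (Groth.FlatDescent.Slicing.flat_eval₂Hom_basicOpen g hU hUV b hflb (s₁ * s₂))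
  simp only [MvPolynomial.eval₂Hom_X'] at hw
  have hk : RingHom.ker (j.app W).hom = Ideal.ofList (List.ofFn fun i =>
      X.presheaf.map (homOfLE (X.basicOpen_le (s₁ * s₂))).op (b i)) := by
    rw [Groth.FlatDescent.Slicing.ofList_ofFn]
    rw [Scheme.Hom.ker_apply, Ideal.map_span, ← Set.range_comp] at hkerW
    exact hkerW
  refine ⟨⟨W, hU.basicOpen _⟩, hxW, IsZariskiLocalAtTarget.restrict hj W, _, ⟨hw, fun htop => ?_⟩, hk⟩
  rw [smul_eq_mul, Ideal.mul_top, ← hk] at htop
  haveI : Nonempty (j ⁻¹ᵁ W).toScheme := ⟨⟨z, hxW⟩⟩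
  exact RingHom.ker_ne_top (j.app W).hom htop.symm

/-- Let φ : X ⟶ S be flat and locally of finite presentation and 𝓘 a quasi-coherent ideal sheaf on X
whose closed subscheme T is flat and locally of finite presentation over S. If for every point s of
S the fibre T_s ⟶ X_s (base change of T ⟶ X to the scheme-theoretic fibre) is a quasi-regular
immersion, then T ⟶ X is a relative quasi-regular immersion. -/
theorem result {X S : Scheme.{u}} (φ : X ⟶ S) [Flat φ] [LocallyOfFinitePresentation φ]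
    (𝓘 : X.IdealSheafData) [Flat (𝓘.subschemeι ≫ φ)] [LocallyOfFinitePresentation (𝓘.subschemeι ≫ φ)]
    (hfib : ∀ s : ↥S, RegImm.IsRegularImmersion RegImm.Kind.quasi (pullback.snd 𝓘.subschemeι (φ.fiberι s))) :
    RegImm.IsRelRegularImmersion RegImm.Kind.quasi φ 𝓘.subschemeι := by
  exact ⟨isRegularImmersion_mono (fun h => seq_quasi_of_h1 (seq_h1_of_koszul (seq_koszul_of_regular h)))
    ⟨inferInstance, regular_of_fibres φ 𝓘.subschemeι hfib⟩, inferInstance⟩

end Groth.Agent.S8896
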