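import Groth.Statements.S8899
import Groth.Agent.WeakAssFlat.Basic
import Groth.Agent.WeakAss.Basic
import Groth.Agent.ModGroth.PullStalk
-- import your own Groth.Agent.* helpers here

set_option autoImplicit false
universe u
open CategoryTheory CategoryTheory.Limits AlgebraicGeometry TopologicalSpace
open SDiv

namespace Groth.Agent.S8899

open IsLocalRing TensorProduct

theorem max_mem_weakAss_iff {X : Scheme.{u}} (F : X.Modules) (x : X) :
    Curv2.IsWeakAssPoint F x ↔
      maximalIdeal (X.presheaf.stalk x) ∈ FlatCA.weakAss (X.presheaf.stalk x) (F.presheaf.stalk x) := by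
  rw [Groth.Agent.WeakAss.maximalIdeal_mem_weakAss_iff]
  refine exists_congr fun m => ?_
  rw [show (Submodule.span (X.presheaf.stalk x) {m}).annihilator =
      LinearMap.ker (LinearMap.toSpanSingleton (X.presheaf.stalk x) (F.presheaf.stalk x) m) from
    Ideal.ext fun r => Submodule.mem_annihilator_span_singleton _ r]

theorem weakAss_congr {R : Type u} [CommRing R] {M N : Type u} [AddCommGroup M] [Module R M]
    [AddCommGroup N] [Module R N] (e : M ≃ₗ[R] N) {p : Ideal R} (h : p ∈ FlatCA.weakAss R N) :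
    p ∈ FlatCA.weakAss R M := by
  obtain ⟨hp, m, h1, h2⟩ := Groth.Agent.WeakAss.mem_weakAss_iff.1 h
  refine Groth.Agent.WeakAss.mem_weakAss_iff.2 ⟨hp, e.symm m, fun r hr => h1 r (e.symm.injective ?_),
    fun r hr => ?_⟩
  · rw [map_smul, hr, map_zero]
  · obtain ⟨s, hs, n, hn⟩ := h2 r hr
    exact ⟨s, hs, n, by rw [← map_smul, ← map_smul, hn, map_zero]⟩


/-- Let f : X ⟶ S be a morphism of schemes, G a quasi-coherent O_S-module and x a point of X over s = f
x such that f is flat at x, no point of f⁻¹(s) other than x specialises to x (x is the generic point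
of some irreducible component of the fibre X_s), and s is weakly associated to G. Then x is weakly
associated to f^*G. -/
theorem result {X S : Scheme.{u}} (f : X ⟶ S) (G : S.Modules) (hG : Coh.IsQCoh G)
    (x : ↥X) (hfl : (f.stalkMap x).hom.Flat) (hgen : ∀ y : ↥X, f y = f x → y ⤳ x → y = x)
    (hs : Curv2.IsWeakAssPoint G (f x)) : Curv2.IsWeakAssPoint ((Scheme.Modules.pullback f).obj G) x := by
  rw [max_mem_weakAss_iff] at hs ⊢
  let φ := (f.stalkMap x).hom
  letI := φ.toAlgebra
  haveI : IsLocalHom φ := inferInstanceAs (IsLocalHom (f.stalkMap x).hom)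
  haveI : Module.Flat (S.presheaf.stalk (f x)) (X.presheaf.stalk x) := hfl
  haveI : (maximalIdeal (X.presheaf.stalk x)).LiesOver (maximalIdeal (S.presheaf.stalk (f x))) :=
    ⟨(maximalIdeal.isMaximal _).eq_of_le
      (Ideal.comap_ne_top _ (maximalIdeal.isMaximal _).ne_top) fun r hr => map_nonunit φ r hr⟩
  refine weakAss_congr (N := X.presheaf.stalk x ⊗[S.presheaf.stalk (f x)] G.presheaf.stalk (f x))
    ((ModGroth.Stalk.pullStalkIso f x).app G).toLinearEquiv ?_
  refine Groth.Agent.WeakAssFlat.mem_weakAss_tensor_of_mem (maximalIdeal (S.presheaf.stalk (f x))) _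
    (fun q hq hle _ => ?_) hs
  let qq : ↥(Spec (X.presheaf.stalk x)) := ⟨q, hq⟩
  have hcl : Spec.map (f.stalkMap x) qq = IsLocalRing.closedPoint (S.presheaf.stalk (f x)) := by
    apply PrimeSpectrum.ext
    exact ((maximalIdeal.isMaximal _).eq_of_le (Ideal.comap_ne_top _ hq.ne_top)
      (Ideal.map_le_iff_le_comap.1 hle)).symm
  have h1 : f (X.fromSpecStalk x qq) = f x := by
    rw [← Scheme.Hom.comp_apply, ← Scheme.SpecMap_stalkMap_fromSpecStalk, Scheme.Hom.comp_apply, hcl,
      Scheme.fromSpecStalk_closedPoint]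
  have h2 : X.fromSpecStalk x qq ⤳ x := by
    have : X.fromSpecStalk x qq ∈ Set.range (X.fromSpecStalk x) := ⟨qq, rfl⟩
    rwa [Scheme.range_fromSpecStalk] at this
  have h3 : qq = IsLocalRing.closedPoint (X.presheaf.stalk x) :=
    (X.fromSpecStalk x).isEmbedding.injective ((hgen _ h1 h2).trans Scheme.fromSpecStalk_closedPoint.symm)
  exact (congrArg PrimeSpectrum.asIdeal h3).ge

end Groth.Agent.S8899
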