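import Groth.Statements.S8923
import Groth.Agent.Ref1.SecOrd
import Groth.Agent.InvBasic.Basic

set_option autoImplicit false
universe u
open CategoryTheory CategoryTheory.Limits AlgebraicGeometry TopologicalSpace
open SDiv

namespace Groth.Agent.S8923

open Groth.Agent in
/-- A rational function which is a unit at `y` has order zero there. -/
theorem ordAt_eq_zero {X : Scheme.{u}} [IsIntegral X] (y : X) (h : genericPoint ↥X ⤳ y)
    {w : X.presheaf.stalk y} (hw : IsUnit w) :
    Cyc.ordAt y (genericPoint ↥X) h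
      (X.residue (genericPoint ↥X) (algebraMap (X.presheaf.stalk y) X.functionField w)) = 0 := by
  rw [Cyc.ordAt, CycAlg.ordFrac]
  split_ifs with hh
  · have := hh.1; have := hh.2.1; have := hh.2.2.1; have := hh.2.2.2
    have : IsDomain (Cyc.LocQuot y (genericPoint ↥X) h) :=
      (IsFractionRing.injective _ (X.residueField (genericPoint ↥X))).isDomain
    have e : X.residue (genericPoint ↥X) (algebraMap (X.presheaf.stalk y) X.functionField w) =
        algebraMap (Cyc.LocQuot y (genericPoint ↥X) h) (X.residueField (genericPoint ↥X))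
          (Ideal.Quotient.mk _ w) := rfl
    rw [e, Ring.ordFrac_of_isUnit (hw.map _)]
    rfl
  · rfl

/-- Let X be an integral scheme that is locally Noetherian, L an invertible O_X-module and s a nonzero
rational (regular meromorphic) section of L, viewed as a nonzero element of the stalk of L at the
generic point. Then the collection of prime divisors Z ⊆ X with ord_{Z,L}(s) ≠ 0, i.e. the closures
of the codimension-1 points x (dim O_{X,x} = 1) along which s has nonzero order, is locally finite
in X. -/
theorem result (X : Scheme.{u}) [IsIntegral X] [IsLocallyNoetherian X] (L : X.Modules)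
    (hL : PicF.IsInvertible L) (s : Cyc.secFibre L (genericPoint ↥X)) (hs : s ≠ 0) :
    LocallyFinite (fun x : {x : ↥X // ringKrullDim ↑(X.presheaf.stalk x) = 1 ∧
        Cyc.secOrdAt L (genericPoint ↥X) x ((genericPoint_spec ↥X).specializes (Set.mem_univ x)) s ≠ 0} => closure ({x.1} : Set ↥X)) := by
  intro z
  obtain ⟨U₀, hz₀, ℓ₀, hℓ₀⟩ := Groth.Agent.InvBasic.exists_isBasis hL z
  obtain ⟨U, hU, hzU, hUU₀⟩ := exists_isAffineOpen_mem_and_subset (X := X) (x := z) (U := U₀) hz₀
  have hℓ := hℓ₀.restrict hUU₀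
  let ℓ : Γ(L, U) := L.presheaf.map (homOfLE hUU₀).op ℓ₀
  have hη : genericPoint ↥X ∈ U := Groth.Agent.Ref1.eta_mem hzU
  obtain ⟨sη, rfl⟩ := Submodule.Quotient.mk_surjective _ s
  obtain ⟨c, hc⟩ := (hℓ.stalk_bijective hη).2 sη
  have : Nonempty U := ⟨⟨z, hzU⟩⟩
  have := functionField_isFractionRing_of_isAffineOpen X U hU
  have : IsDomain Γ(X, U) := inferInstance
  have : IsNoetherianRing Γ(X, U) := IsLocallyNoetherian.component_noetherian ⟨U, hU⟩
  obtain ⟨a, b, hb, hab⟩ := IsFractionRing.div_surjective (A := Γ(X, U)) (show X.functionField from c)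
  have hb0 : b ≠ 0 := nonZeroDivisors.ne_zero hb
  have hc0 : (show X.functionField from c) ≠ 0 := by
    intro e
    apply hs
    rw [← hc, show c = 0 from e]
    simp only [zero_smul]
    rfl
  have ha0 : a ≠ 0 := fun e => hc0 (by rw [← hab, e, map_zero, zero_div])
  classical
  let key : ↥X → _root_.Ideal Γ(X, U) := fun y => if hy : y ∈ U then (hU.primeIdealOf ⟨y, hy⟩).asIdeal else ⊥
  refine ⟨U, U.2.mem_nhds hzU, ?_⟩
  refine Set.Finite.of_finite_image (f := fun x => key x.1)
    (((Groth.Agent.Ref1.finite_height_one_mem ha0).union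
      (Groth.Agent.Ref1.finite_height_one_mem hb0)).subset ?_) ?_
  · rintro _ ⟨⟨y, hy1, hy0⟩, ⟨w, hwc, hwU⟩, rfl⟩
    have hyU : y ∈ U := (specializes_iff_mem_closure.mpr hwc).mem_open U.2 hwU
    simp only [key, dif_pos hyU]
    have hh : (hU.primeIdealOf ⟨y, hyU⟩).asIdeal.height = 1 := by
      let _ : Algebra Γ(X, U) (X.presheaf.stalk y) := (X.presheaf.germ U y hyU).hom.toAlgebra
      have hl : IsLocalization.AtPrime (X.presheaf.stalk y) (hU.primeIdealOf ⟨y, hyU⟩).asIdeal :=
        hU.isLocalization_stalk ⟨y, hyU⟩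
      have e := IsLocalization.AtPrime.ringKrullDim_eq_height (hU.primeIdealOf ⟨y, hyU⟩).asIdeal
        (X.presheaf.stalk y)
      rw [hy1] at e
      exact_mod_cast e.symm
    by_contra hcon
    simp only [Set.mem_union, Set.mem_ofPred_eq, not_or, not_and] at hcon
    have hua : IsUnit (X.presheaf.germ U y hyU a) := (X.mem_basicOpen a y hyU).mp
      ((Groth.Agent.InvExtend.mem_basicOpen_iff hU hyU a).mpr (hcon.1 inferInstance hh))
    have hub : IsUnit (X.presheaf.germ U y hyU b) := (X.mem_basicOpen b y hyU).mp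
      ((Groth.Agent.InvExtend.mem_basicOpen_iff hU hyU b).mpr (hcon.2 inferInstance hh))
    apply hy0
    have hspec : genericPoint ↥X ⤳ y := (genericPoint_spec ↥X).specializes (Set.mem_univ y)
    obtain ⟨hinj, hsurj⟩ := hℓ.stalk_bijective hyU
    have ht : ∃ t : L.presheaf.stalk y, Submodule.span (X.presheaf.stalk y) {t} = ⊤ :=
      ⟨L.presheaf.germ U y hyU ℓ, eq_top_iff.mpr fun m _ =>
        Submodule.mem_span_singleton.mpr (hsurj m)⟩
    rw [Cyc.secOrdAt, dif_pos ht]
    split_ifs with hφ
    swap
    · rfl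
    obtain ⟨v, hv⟩ := hsurj (Classical.choose ht)
    obtain ⟨v', hv'⟩ := Submodule.mem_span_singleton.mp
      (eq_top_iff.mp (Classical.choose_spec ht) (x := L.presheaf.germ U y hyU ℓ) trivial)
    dsimp only at hv
    have hvu : IsUnit v := IsUnit.of_mul_eq_one v' (by
      rw [mul_comm]
      apply hinj
      simp only [one_smul, mul_smul]
      rw [hv]
      exact hv')
    have hsp : L.presheaf.stalkSpecializes hspec (Classical.choose ht) =
        algebraMap (X.presheaf.stalk y) X.functionField v •
          L.presheaf.germ U (genericPoint ↥X) hη ℓ := by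
      rw [← hv]
      exact (Groth.Agent.Ref1.sp_smul L y v _).trans
        (congrArg _ (Groth.Agent.Ref1.sp_germ L y hyU ℓ))
    have hφs := Classical.choose_spec hφ
    rw [← Submodule.Quotient.mk_smul] at hφs
    have h1 := (Groth.Agent.Ref1.secFibre_mk_bijective L).1 hφs
    have h2 := (h1.trans (congrArg (Classical.choose hφ • ·) hsp)).trans (mul_smul _ _ _).symm
    have h2 := hc.trans h2
    have h3 : (show X.functionField from c) = Classical.choose hφ *
        algebraMap (X.presheaf.stalk y) X.functionField v := (hℓ.stalk_bijective hη).1 h2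
    have hv0 : algebraMap (X.presheaf.stalk y) X.functionField v ≠ 0 := fun e =>
      hc0 (by rw [h3, e, mul_zero])
    obtain ⟨p, hp⟩ := (hub.mul hvu).exists_right_inv
    have hw : Classical.choose hφ = algebraMap (X.presheaf.stalk y) X.functionField
        (X.presheaf.germ U y hyU a * p) := by
      apply mul_right_cancel₀ hv0
      rw [← h3, ← hab]
      have e : ∀ r : Γ(X, U), algebraMap Γ(X, U) X.functionField r =
          algebraMap (X.presheaf.stalk y) X.functionField (X.presheaf.germ U y hyU r) :=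
        fun r => (Groth.Agent.Ref1.algebraMap_germ hyU r).symm
      rw [e a, e b, div_eq_iff ((map_ne_zero_iff _
        (Groth.Agent.Ref1.algebraMap_stalk_injective y)).mpr hub.ne_zero), ← map_mul, ← map_mul]
      congr 1
      linear_combination (-(X.presheaf.germ U y hyU a)) * hp
    rw [hw]
    exact ordAt_eq_zero y _ (hua.mul (IsUnit.of_mul_eq_one _ (by rw [mul_comm]; exact hp)))
  · rintro ⟨y₁, h₁, h₁'⟩ ⟨w₁, hw₁, hw₁U⟩ ⟨y₂, h₂, h₂'⟩ ⟨w₂, hw₂, hw₂U⟩ he
    have hy₁ : y₁ ∈ U := (specializes_iff_mem_closure.mpr hw₁).mem_open U.2 hw₁U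
    have hy₂ : y₂ ∈ U := (specializes_iff_mem_closure.mpr hw₂).mem_open U.2 hw₂U
    simp only [key, dif_pos hy₁, dif_pos hy₂] at he
    have hk := congrArg hU.fromSpec (PrimeSpectrum.ext he)
    rw [hU.fromSpec_primeIdealOf, hU.fromSpec_primeIdealOf] at hk
    exact Subtype.ext hk

end Groth.Agent.S8923
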