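import Groth.Statements.S8924


set_option autoImplicit false
universe u v
open InjHull

namespace Groth.Agent.S8924

/-- For a submodule M of an R-module N, the inclusion of M into N is an essential injection if and only
if every nonzero element x of N has a multiple f • x which is a nonzero element of M. -/
theorem result (R : Type u) [CommRing R] (N : Type v) [AddCommGroup N] [Module R N] (M : Submodule R N) : InjHull.IsEssentialInj M.subtype ↔ ∀ x : N, x ≠ 0 → ∃ f : R, f • x ∈ M ∧ f • x ≠ 0 := by
  constructor
  · intro h x hx
    have := h.essential (R ∙ x) (by simpa using hx)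
    obtain ⟨z, hz, hz0⟩ := Submodule.exists_mem_ne_zero_of_ne_bot this
    rw [Submodule.mem_inf, Submodule.range_subtype] at hz
    obtain ⟨c, rfl⟩ := Submodule.mem_span_singleton.mp hz.1
    exact ⟨c, hz.2, hz0⟩
  · intro h
    refine ⟨Subtype.val_injective, fun N' hN' hbot => ?_⟩
    obtain ⟨x, hx, hx0⟩ := Submodule.exists_mem_ne_zero_of_ne_bot hN'
    obtain ⟨c, hc, hc0⟩ := h x hx0
    apply hc0
    have : c • x ∈ N' ⊓ LinearMap.range M.subtype := by
      rw [Submodule.range_subtype]; exact ⟨N'.smul_mem c hx, hc⟩
    rwa [hbot, Submodule.mem_bot] at this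

end Groth.Agent.S8924
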