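import Groth.Statements.S8928
import Mathlib
-- import your own Groth.Agent.* helpers here

set_option autoImplicit false
universe u
open scoped TensorProduct
open Disc

namespace Groth.Agent.S8928

/-- Let A → B be a map of Noetherian rings such that nonzerodivisors of A map to nonzerodivisors of B
and Q(A) ⊗_A B is flat over the total ring of fractions Q(A). Then B_q is flat over A for every
associated prime q of B and for every prime q of B lying over an associated prime of A. -/
theorem result (A B : Type u) [CommRing A] [CommRing B] [IsNoetherianRing A] [IsNoetherianRing B] [Algebra A B] (h1 : nonZeroDivisors A ≤ (nonZeroDivisors B).comap (algebraMap A B)) (h2 : Module.Flat (FractionRing A) (FractionRing A ⊗[A] B)) : (∀ (q : Ideal B) [q.IsPrime], IsAssociatedPrime q B → Module.Flat A (Localization.AtPrime q)) ∧ (∀ (q : Ideal B) [q.IsPrime], IsAssociatedPrime (q.comap (algebraMap A B)) A → Module.Flat A (Localization.AtPrime q)) := by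
  classical
  letI := Algebra.TensorProduct.rightAlgebra (R := A) (A := FractionRing A) (B := B)
  haveI hflatT : Module.Flat A (FractionRing A ⊗[A] B) := Module.Flat.trans A (FractionRing A) _
  have key : ∀ (q : Ideal B) [q.IsPrime], (∀ a ∈ nonZeroDivisors A, algebraMap A B a ∉ q) →
      Module.Flat A (Localization.AtPrime q) := by
    intro q _ hq
    let M : Submonoid B := Algebra.algebraMapSubmonoid B (nonZeroDivisors A)
    have hle : M ≤ q.primeCompl := by
      rintro _ ⟨a, ha, rfl⟩
      exact hq a ha
    haveI : IsLocalization M (FractionRing A ⊗[A] B) := IsLocalization.tensorRight (FractionRing A) (nonZeroDivisors A)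
    letI := IsLocalization.localizationAlgebraOfSubmonoidLe (FractionRing A ⊗[A] B) (Localization.AtPrime q) M q.primeCompl hle
    haveI : IsScalarTower B (FractionRing A ⊗[A] B) (Localization.AtPrime q) :=
      IsLocalization.localization_isScalarTower_of_submonoid_le _ _ M q.primeCompl hle
    haveI := IsLocalization.isLocalization_of_submonoid_le (FractionRing A ⊗[A] B) (Localization.AtPrime q) M q.primeCompl hle
    haveI : Module.Flat (FractionRing A ⊗[A] B) (Localization.AtPrime q) :=
      IsLocalization.flat _ (q.primeCompl.map (algebraMap B (FractionRing A ⊗[A] B)))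
    haveI : IsScalarTower A (FractionRing A ⊗[A] B) (Localization.AtPrime q) := by
      suffices h : ∀ a, algebraMap A (Localization.AtPrime q) a =
          algebraMap (FractionRing A ⊗[A] B) (Localization.AtPrime q) (algebraMap A (FractionRing A ⊗[A] B) a) by
        refine ⟨fun a x z => ?_⟩
        rw [Algebra.smul_def (r := a • x), Algebra.smul_def a x, map_mul, ← h, mul_assoc,
          ← Algebra.smul_def (r := x), ← Algebra.smul_def]
      intro a
      rw [IsScalarTower.algebraMap_apply A B (Localization.AtPrime q),
        IsScalarTower.algebraMap_apply B (FractionRing A ⊗[A] B) (Localization.AtPrime q)]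
      congr 1
      show ((1 : FractionRing A) ⊗ₜ[A] algebraMap A B a) = algebraMap A (FractionRing A) a ⊗ₜ[A] (1 : B)
      rw [Algebra.algebraMap_eq_smul_one, Algebra.algebraMap_eq_smul_one, TensorProduct.smul_tmul]
    exact Module.Flat.trans A (FractionRing A ⊗[A] B) _
  refine ⟨fun q _ hass => key q fun a ha haq => ?_, fun q _ hass => key q fun a ha haq => ?_⟩
  · have h3 : algebraMap A B a ∈ ⋃ p ∈ associatedPrimes B B, (p : Set B) :=
      Set.mem_biUnion hass haq
    rw [biUnion_associatedPrimes_eq_compl_nonZeroDivisors B] at h3
    exact h3 (h1 ha)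
  · have h3 : a ∈ ⋃ p ∈ associatedPrimes A A, (p : Set A) :=
      Set.mem_biUnion hass (Ideal.mem_comap.2 haq)
    rw [biUnion_associatedPrimes_eq_compl_nonZeroDivisors A] at h3
    exact h3 ha

end Groth.Agent.S8928
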