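import Groth.Statements.S8929
import Mathlib
-- import your own Groth.Agent.* helpers here

set_option autoImplicit false
universe u
open scoped TensorProduct
open Disc

namespace Groth.Agent.S8929

/-- Let A → B be a map of Noetherian rings with the going-up property. If B_q is flat over A for every
associated prime q of B and for every prime q of B lying over an associated prime of A, then Q(A)
⊗_A B is flat over the total ring of fractions Q(A). -/
theorem result (A B : Type u) [CommRing A] [CommRing B] [IsNoetherianRing A] [IsNoetherianRing B] [Algebra A B] [Algebra.HasGoingUp A B] (h3 : ∀ (q : Ideal B) [q.IsPrime], IsAssociatedPrime q B → Module.Flat A (Localization.AtPrime q)) (h4 : ∀ (q : Ideal B) [q.IsPrime], IsAssociatedPrime (q.comap (algebraMap A B)) A → Module.Flat A (Localization.AtPrime q)) : Module.Flat (FractionRing A) (FractionRing A ⊗[A] B) := by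
  classical
  letI := Algebra.TensorProduct.rightAlgebra (R := A) (A := FractionRing A) (B := B)
  haveI htow : IsScalarTower A B (FractionRing A ⊗[A] B) := IsScalarTower.of_algebraMap_eq fun a => by
    show algebraMap A (FractionRing A) a ⊗ₜ[A] (1 : B) = (1 : FractionRing A) ⊗ₜ[A] algebraMap A B a
    rw [Algebra.algebraMap_eq_smul_one, Algebra.algebraMap_eq_smul_one, TensorProduct.smul_tmul]
  let M : Submonoid B := Algebra.algebraMapSubmonoid B (nonZeroDivisors A)
  haveI : IsLocalization M (FractionRing A ⊗[A] B) :=
    IsLocalization.tensorRight (FractionRing A) (nonZeroDivisors A)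
  refine (Module.flat_iff_of_isLocalization (FractionRing A) (nonZeroDivisors A) (FractionRing A ⊗[A] B)).2 ?_
  refine Module.flat_of_isLocalized_maximal (S := FractionRing A ⊗[A] B) (FractionRing A ⊗[A] B)
    (fun P _ => Localization.AtPrime P) (fun P _ => Algebra.linearMap _ (Localization.AtPrime P))
    fun P hP => ?_
  let q : Ideal B := P.comap (algebraMap B (FractionRing A ⊗[A] B))
  have hq : ∀ a ∈ nonZeroDivisors A, algebraMap A B a ∉ q := fun a ha h =>
    hP.ne_top (Ideal.eq_top_of_isUnit_mem _ h (IsLocalization.map_units _ (⟨_, a, ha, rfl⟩ : M)))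
  haveI hflat : Module.Flat A (Localization.AtPrime q) := by
    haveI : q.IsPrime := Ideal.IsPrime.comap _
    let p := q.comap (algebraMap A B)
    have hsub : (p : Set A) ⊆ ⋃ Q ∈ associatedPrimes A A, (Q : Set A) := by
      rw [biUnion_associatedPrimes_eq_compl_nonZeroDivisors]
      exact fun a ha hn => hq a hn ha
    have hfin := associatedPrimes.finite (A := A) (M := A)
    have hsub' : (p : Set A) ⊆ ⋃ Q ∈ (hfin.toFinset : Set (Ideal A)), (Q : Set A) := by simpa using hsub
    obtain ⟨Q, hQ, hpQ⟩ := (Ideal.subset_union_prime (f := fun Q => Q) ⊥ ⊥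
      (fun Q hQ _ _ => ((hfin.mem_toFinset).1 hQ).isPrime)).1 hsub'
    haveI : Q.IsPrime := ((hfin.mem_toFinset).1 hQ).isPrime
    haveI : q.LiesOver p := ⟨rfl⟩
    obtain ⟨q', hqq', hq', hlies⟩ := Ideal.exists_ideal_ge_liesOver_of_le (p := p) (q := Q) q hpQ
    haveI := hq'
    haveI := h4 q' (by
      rw [show q'.comap (algebraMap A B) = Q from hlies.over.symm]
      exact (hfin.mem_toFinset).1 hQ)
    have hle : q'.primeCompl ≤ q.primeCompl := fun x hx h => hx (hqq' h)
    letI := IsLocalization.localizationAlgebraOfSubmonoidLe (Localization.AtPrime q') (Localization.AtPrime q) q'.primeCompl q.primeCompl hle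
    haveI : IsScalarTower B (Localization.AtPrime q') (Localization.AtPrime q) :=
      IsLocalization.localization_isScalarTower_of_submonoid_le _ _ q'.primeCompl q.primeCompl hle
    haveI := IsLocalization.isLocalization_of_submonoid_le (Localization.AtPrime q') (Localization.AtPrime q) q'.primeCompl q.primeCompl hle
    haveI : Module.Flat (Localization.AtPrime q') (Localization.AtPrime q) :=
      IsLocalization.flat _ (q.primeCompl.map (algebraMap B (Localization.AtPrime q')))
    haveI : IsScalarTower A (Localization.AtPrime q') (Localization.AtPrime q) :=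
      IsScalarTower.to₁₃₄ A B (Localization.AtPrime q') (Localization.AtPrime q)
    exact Module.Flat.trans A (Localization.AtPrime q') _
  haveI : IsLocalization.AtPrime (Localization.AtPrime P) q :=
    IsLocalization.isLocalization_isLocalization_atPrime_isLocalization M (Localization.AtPrime P) P
  let e : Localization.AtPrime q ≃ₐ[B] Localization.AtPrime P := IsLocalization.algEquiv q.primeCompl _ _
  exact Module.Flat.of_linearEquiv ((e.toLinearEquiv.restrictScalars A).symm)

end Groth.Agent.S8929
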