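import Groth.Statements.S8935
import Groth.Agent.OmegaCI.Fibre
import Groth.Agent.RelGCILib.Syntomic

set_option autoImplicit false
universe u
open Disc

namespace Groth.Agent.S8935

/-- Let k be a field and B = k[x_1, …, x_n]/(f_1, …, f_n), a global complete intersection with as many
equations as variables, of Krull dimension 0. Then ω_{B/k} = Hom_k(B, k), with B acting through the
argument, is an invertible B-module; since B is Artinian this means it is free of rank one, which is
the form stated. -/
theorem result (k : Type u) [Field k] (n : ℕ) (f : Fin n → MvPolynomial (Fin n) k) (h0 : ringKrullDim (MvPolynomial (Fin n) k ⧸ Ideal.span (Set.range f)) = 0) : Nonempty (Disc.Omega k (MvPolynomial (Fin n) k ⧸ Ideal.span (Set.range f)) ≃ₗ[MvPolynomial (Fin n) k ⧸ Ideal.span (Set.range f)] (MvPolynomial (Fin n) k ⧸ Ideal.span (Set.range f))) := by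
  let I := Ideal.span (Set.range f)
  haveI : Nontrivial (MvPolynomial (Fin n) k ⧸ I) := by
    rcases subsingleton_or_nontrivial (MvPolynomial (Fin n) k ⧸ I) with h | h
    · rw [ringKrullDim_eq_bot_of_subsingleton] at h0; exact absurd h0 (by simp)
    · exact h
  have hci : Synt.IsGlobalCI k (MvPolynomial (Fin n) k ⧸ I) :=
    Or.inr ⟨n, n, le_rfl, Ideal.Quotient.mkₐ k I, f, Ideal.Quotient.mk_surjective, Ideal.Quotient.mkₐ_ker k I,
      by rw [h0, Nat.sub_self]; rfl⟩
  haveI := GorLib.isGorensteinRing_field k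
  haveI := GorLib.isGorensteinRing_of_isLCI (RelGCILib.isLCI_of_isGlobalCI hci)
  haveI : Ring.KrullDimLE 0 (MvPolynomial (Fin n) k ⧸ I) := Ring.krullDimLE_iff.2 (le_of_eq h0)
  haveI : IsArtinianRing (MvPolynomial (Fin n) k ⧸ I) := isArtinianRing_iff_krullDimLE_zero.2 inferInstance
  haveI : Module.Finite k (MvPolynomial (Fin n) k ⧸ I) := (Module.finite_iff_isArtinianRing k _).2 inferInstance
  have hn : ∀ (m : Ideal (MvPolynomial (Fin n) k ⧸ I)) [m.IsMaximal], OmegaCI.SocPrincipal m := fun m _ => by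
    haveI := LocCoh.IsGorensteinRing.isGorensteinLocalRing_localization m
    exact OmegaCI.socPrincipal_of_gorenstein m
  haveI : Module.Invertible (MvPolynomial (Fin n) k ⧸ I) (Disc.Omega k (MvPolynomial (Fin n) k ⧸ I)) := by
    refine OmegaCI.invertible_omega_of_socle fun m _ => ?_
    have hc : (m.comap (algebraMap k (MvPolynomial (Fin n) k ⧸ I))).map (algebraMap k (MvPolynomial (Fin n) k ⧸ I)) = ⊥ := by
      rw [(Ideal.eq_bot_or_top (m.comap (algebraMap k _))).resolve_right (Ideal.IsPrime.ne_top inferInstance), Ideal.map_bot]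
    obtain ⟨s, hs, hgen⟩ := hn m
    let q := Ideal.Quotient.mk ((m.comap (algebraMap k (MvPolynomial (Fin n) k ⧸ I))).map (algebraMap k (MvPolynomial (Fin n) k ⧸ I)))
    have hq : ∀ x, q x = 0 → x = 0 := fun x hx => by
      have := Ideal.Quotient.eq_zero_iff_mem.1 hx
      rwa [hc, Ideal.mem_bot] at this
    refine ⟨q s, fun x hx => ?_, fun b hb => ?_⟩
    · obtain ⟨x, hxm, rfl⟩ := (Ideal.mem_map_iff_of_surjective _ Ideal.Quotient.mk_surjective).1 hx
      rw [← map_mul, hs x hxm, map_zero]
    · obtain ⟨b, rfl⟩ := Ideal.Quotient.mk_surjective b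
      obtain ⟨c, hc'⟩ := hgen b fun x hx => hq _ (by rw [map_mul]; exact hb _ (Ideal.mem_map_of_mem _ hx))
      exact ⟨q c, by rw [hc', map_mul]⟩
  haveI : Module.Free (MvPolynomial (Fin n) k ⧸ I) (Disc.Omega k (MvPolynomial (Fin n) k ⧸ I)) :=
    inferInstance
  exact Module.Invertible.free_iff_linearEquiv.1 this

end Groth.Agent.S8935
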