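import Groth.Statements.S8936
import Groth.Agent.MatlisLib.Local

set_option autoImplicit false
universe u v
open InjHull

namespace Groth.Agent.S8936

/-- For a directed system (E_i) of R-modules over a nonempty directed preorder and a compatible family
of essential injections M → E_i, the induced map from M to the direct limit of the E_i is an
essential injection. -/
theorem result (R : Type u) [CommRing R] (ι : Type v) [Preorder ι] [IsDirectedOrder ι] [DecidableEq ι] (i₀ : ι) (E : ι → Type v) [∀ i, AddCommGroup (E i)] [∀ i, Module R (E i)] (f : ∀ i j, i ≤ j → E i →ₗ[R] E j) [DirectedSystem E fun i j h => f i j h] (M : Type v) [AddCommGroup M] [Module R M] (g : ∀ i, M →ₗ[R] E i) (hg : ∀ i j (h : i ≤ j), f i j h ∘ₗ g i = g j) (he : ∀ i, InjHull.IsEssentialInj (g i)) : InjHull.IsEssentialInj (Module.DirectLimit.of R ι E f i₀ ∘ₗ g i₀) := by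
  refine MatlisLib.essential_of_exists_smul ?_ fun z hz => ?_
  · refine (injective_iff_map_eq_zero _).2 fun y hy => ?_
    obtain ⟨j, hij, hj⟩ := Module.DirectLimit.of.zero_exact hy
    refine (he j).injective ?_
    rw [map_zero, ← hg i₀ j hij]
    exact hj
  · haveI : Nonempty ι := ⟨i₀⟩
    obtain ⟨i, x, rfl⟩ := Module.DirectLimit.exists_of z
    obtain ⟨r, hrx, y, hy⟩ := MatlisLib.exists_smul_mem_range (he i) (x := x)
      fun h => hz (by rw [h, map_zero])
    obtain ⟨j, hij, h0j⟩ := exists_ge_ge i i₀
    refine ⟨r, fun h => ?_, y, ?_⟩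
    · rw [← map_smul, ← hy] at h
      obtain ⟨k, hik, hk⟩ := Module.DirectLimit.of.zero_exact h
      have : y = 0 := (he k).injective (by rw [map_zero, ← hg i k hik]; exact hk)
      rw [this, map_zero] at hy
      exact hrx hy.symm
    · rw [← map_smul, ← hy, LinearMap.comp_apply,
        ← Module.DirectLimit.of_f (hij := hij), ← Module.DirectLimit.of_f (hij := h0j)]
      exact congrArg _ ((LinearMap.congr_fun (hg i₀ j h0j) y).trans (LinearMap.congr_fun (hg i j hij) y).symm)

end Groth.Agent.S8936
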