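import Groth.Statements.S8949
import Groth.Agent.GorLib.RingLevel
import Mathlib
-- import your own Groth.Agent.* helpers here

set_option autoImplicit false
universe u
open scoped TensorProduct
open Goren

namespace Groth.Agent.S8949

/-- Gorenstein fibres are preserved by composing with a regular map. For flat maps A → B → C of
Noetherian rings, if the fibres of A → B are Gorenstein rings and B → C is regular, then the fibres
of A → C are Gorenstein rings. -/
theorem result (A B C : Type u) [CommRing A] [CommRing B] [CommRing C] [IsNoetherianRing A] [IsNoetherianRing B] [IsNoetherianRing C] [Algebra A B] [Algebra B C] [Algebra A C] [IsScalarTower A B C] [Module.Flat A B] [Module.Flat B C] (hAB : ∀ (q : Ideal A) [q.IsPrime], LocCoh.IsGorensteinRing (q.Fiber B)) (hBC : CAlg.IsRegularHom B C) : ∀ (q : Ideal A) [q.IsPrime], LocCoh.IsGorensteinRing (q.Fiber C) := by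
  intro q _
  haveI : IsNoetherianRing (q.Fiber B) := FlatSerre.isNoetherianRing_fiber q
  haveI : IsNoetherianRing (q.Fiber C) := FlatSerre.isNoetherianRing_fiber q
  haveI : Module.Finite q.ResidueField q.ResidueField := inferInstance
  have h : LocCoh.IsGorensteinRing (q.ResidueField ⊗[q.ResidueField] q.Fiber C) :=
    FlatAscent.exists_base_change A B C q q.ResidueField FlatAscent.isNoetherianRing_fibre_tensor
      FlatAscent.isNoetherianRing_fibre_tensor (fun R _ => LocCoh.IsGorensteinRing R)
      (fun _ _ _ _ e h => haveI := h; SegreOne.isGorensteinRing_of_ringEquiv e)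
      (fun r _ L _ _ hL => haveI := (hBC.2 r).2 L hL; GorLib.isGorensteinRing_of_isRegularRing _)
      (haveI := hAB q; SegreOne.isGorensteinRing_of_ringEquiv (Algebra.TensorProduct.lid q.ResidueField (q.Fiber B)).symm.toRingEquiv)
      (fun R T _ _ _ _ _ _ hR hT => haveI := hR; GorLib.isGorensteinRing_of_fibres hT)
  haveI := h
  exact SegreOne.isGorensteinRing_of_ringEquiv (A := q.ResidueField ⊗[q.ResidueField] q.Fiber C)
    (Algebra.TensorProduct.lid q.ResidueField (q.Fiber C)).toRingEquiv

end Groth.Agent.S8949
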