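import Groth.Statements.S8954
import Groth.Agent.RelGCILib.Square

set_option autoImplicit false
universe u
open Synt

namespace Groth.Agent.S8954

/-- The equivalence of being finite syntomic with having a square presentation, stated over a local
base. For a local ring A and a finite A-algebra B, the map A → B is syntomic if and only if B ≅
A[x_1, …, x_n]/(f_1, …, f_n) as A-algebras for some n and f_1, …, f_n ∈ A[x_1, …, x_n]. (The
published statement is for a finite morphism of schemes and asserts such a presentation over some
affine open neighbourhood of each point of the base; over a local base that neighbourhood is the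
whole spectrum.) -/
theorem result (A B : Type u) [CommRing A] [IsLocalRing A] [CommRing B] [Algebra A B] [Module.Finite A B] : Synt.IsSyntomic A B ↔ ∃ (n : ℕ) (F : Fin n → MvPolynomial (Fin n) A), Nonempty (B ≃ₐ[A] Synt.RelGCIRing A n n F) := by
  constructor
  · intro h
    exact RelGCILib.exists_square_presentation h
  · rintro ⟨n, F, ⟨e⟩⟩
    haveI : Module.Finite A (Synt.RelGCIRing A n n F) := Module.Finite.equiv e.toLinearEquiv
    have hF : Synt.IsRelGCI A n n F := fun p hp => by
      haveI : Module.Finite p.asIdeal.ResidueField (p.asIdeal.Fiber (Synt.RelGCIRing A n n F)) := Module.Finite.base_change _ _ _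
      haveI : IsArtinianRing (p.asIdeal.Fiber (Synt.RelGCIRing A n n F)) := IsArtinianRing.of_finite p.asIdeal.ResidueField (p.asIdeal.Fiber (Synt.RelGCIRing A n n F))
      refine ⟨le_rfl, ?_⟩
      rw [Nat.sub_self, Nat.cast_zero]
      exact ringKrullDimZero_iff_ringKrullDim_eq_zero.1 ((isArtinianRing_iff_isNoetherianRing_krullDimLE_zero (R := p.asIdeal.Fiber (Synt.RelGCIRing A n n F))).1 (by assumption)).2
    obtain ⟨hfl, hfp, hlci⟩ := RelGCILib.isSyntomic_relGCIRing F hF
    haveI := hfl
    haveI : Module.Flat A B := Module.Flat.of_linearEquiv e.toLinearEquiv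
    exact RelGCILib.isSyntomic_of_flat_isLCI A B
      (KRIdeal.isLCI_algEquiv e.symm (RelGCILib.isLCI_relGCIRing F hF))

end Groth.Agent.S8954
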