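import Groth.Statements.S8957
import Groth.Agent.OmegaCI.Square
import Groth.Agent.OmegaCI.Fibre
import Groth.Agent.OmegaCI.Pairing
import Groth.Agent.OmegaCI.Localize
import Groth.Agent.RelGCILib.Syntomic

set_option autoImplicit false
universe u
open Disc

namespace Groth.Agent.S8957

/-- Affine case of a finite free syntomic morphism. Let A be a Noetherian ring and B a finite free
A-algebra with A → B syntomic. Then the different of B over A (the elements b with b · Hom_A(B, A) ⊆
B · Trace_{B/A}) coincides, as a subset of B, with the Kähler different Fit_0(Ω_{B/A}). (The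
published statement is for a flat quasi-finite local complete intersection morphism of Noetherian
schemes and the different as an ideal sheaf; this row is its affine finite free case, where the
relative dualizing module is Hom_A(B, A) and the trace element is the trace.) -/
theorem result (A B : Type u) [CommRing A] [CommRing B] [Algebra A B] [IsNoetherianRing A] [Module.Finite A B] [Module.Free A B] (h : Synt.IsSyntomic A B) : Disc.differentSet A B = (Fitt.ideal B (KaehlerDifferential A B) 0 : Set B) := by
  classical
  haveI : Module.Flat A B := h.1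
  haveI : Module.Invertible B (Disc.Omega A B) := OmegaCI.invertible_omega_of_isSyntomic h
  rw [OmegaCI.differentSet_eq_noetherDifferent]
  refine congrArg SetLike.coe (Ideal.eq_of_localization_maximal fun q hq => ?_)
  haveI : q.IsPrime := hq.isPrime
  obtain ⟨g, hg, m, d, G, hrel, ⟨e⟩⟩ := RelGCILib.exists_away_isRelGCI_of_isSyntomic A h q
  let p := q.comap (algebraMap A B)
  haveI : Algebra.QuasiFinite A (Synt.RelGCIRing A m d G) :=
    Algebra.QuasiFinite.of_surjective_algHom e.toAlgHom e.surjective
  have hdm : d = m := by
    have hu : IsUnit (algebraMap B q.ResidueField g) :=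
      isUnit_iff_ne_zero.2 fun h0 => hg (Ideal.algebraMap_residueField_eq_zero.1 h0)
    let toK : Localization.Away g →ₐ[A] q.ResidueField :=
      IsLocalization.liftAlgHom (M := Submonoid.powers g) (f := IsScalarTower.toAlgHom A B q.ResidueField)
        (fun y => by obtain ⟨_, k, rfl⟩ := y; rw [map_pow]; exact hu.pow k)
    let Ψ : p.Fiber (Synt.RelGCIRing A m d G) →+* q.ResidueField :=
      (Algebra.TensorProduct.productMap ((Ideal.ResidueField.mapₐ p q (Algebra.ofId A B) rfl : p.ResidueField →ₐ[A] q.ResidueField))
        (toK.comp e.symm.toAlgHom)).toRingHom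
    haveI : Nontrivial (p.Fiber (Synt.RelGCIRing A m d G)) := RingHom.domain_nontrivial Ψ
    haveI : Module.Finite p.ResidueField (p.Fiber (Synt.RelGCIRing A m d G)) :=
      Algebra.QuasiFinite.finite_fiber p
    haveI : IsArtinianRing (p.Fiber (Synt.RelGCIRing A m d G)) :=
      IsArtinianRing.of_finite p.ResidueField (p.Fiber (Synt.RelGCIRing A m d G))
    obtain ⟨hle, hdim⟩ := hrel ⟨p, inferInstance⟩ ‹_›
    haveI : Ring.KrullDimLE 0 (p.Fiber (Synt.RelGCIRing A m d G)) :=
      (isArtinianRing_iff_krullDimLE_zero (R := p.Fiber (Synt.RelGCIRing A m d G))).1 inferInstance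
    have h0 : ((m - d : ℕ) : WithBot ℕ∞) = ((0 : ℕ) : WithBot ℕ∞) :=
      hdim.symm.trans (ringKrullDimZero_iff_ringKrullDim_eq_zero.1 inferInstance)
    have : m - d = 0 := by exact_mod_cast h0
    omega
  subst hdm
  letI : Algebra B (Synt.RelGCIRing A d d G) :=
    (e.toAlgHom.toRingHom.comp (algebraMap B (Localization.Away g))).toAlgebra
  haveI : IsScalarTower A B (Synt.RelGCIRing A d d G) := IsScalarTower.of_algebraMap_eq fun a => by
    show algebraMap A (Synt.RelGCIRing A d d G) a = e (algebraMap B (Localization.Away g) (algebraMap A B a))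
    rw [← IsScalarTower.algebraMap_apply, AlgEquiv.commutes]
  let eB : Localization.Away g ≃ₐ[B] Synt.RelGCIRing A d d G :=
    AlgEquiv.ofRingEquiv (f := e.toRingEquiv) fun b => rfl
  haveI : IsLocalization.Away g (Synt.RelGCIRing A d d G) :=
    IsLocalization.isLocalization_of_algEquiv (Submonoid.powers g) eB
  have hN : (Disc.noetherDifferent A B).map (algebraMap B (Synt.RelGCIRing A d d G)) =
      (Fitt.ideal B (KaehlerDifferential A B) 0).map (algebraMap B (Synt.RelGCIRing A d d G)) := by
    rw [← OmegaCI.noetherDifferent_localization (Submonoid.powers g) (Synt.RelGCIRing A d d G),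
      ← OmegaCI.fitting_kaehler_localization (Submonoid.powers g) (Synt.RelGCIRing A d d G)]
    exact (OmegaCI.noetherDifferent_of_isRelGCI G hrel).trans (OmegaCI.fitting_eq G).symm
  have hu : IsUnit (algebraMap B (Localization.AtPrime q) g) :=
    IsLocalization.map_units (Localization.AtPrime q) (⟨g, hg⟩ : q.primeCompl)
  let ψ : Synt.RelGCIRing A d d G →+* Localization.AtPrime q := IsLocalization.Away.lift g hu
  have hψ : ψ.comp (algebraMap B (Synt.RelGCIRing A d d G)) = algebraMap B (Localization.AtPrime q) :=
    IsLocalization.Away.lift_comp g hu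
  rw [← hψ, ← Ideal.map_map, ← Ideal.map_map, hN]

end Groth.Agent.S8957
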