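import Groth.Statements.S8960
import Mathlib.LinearAlgebra.Trace
import Mathlib.RingTheory.Flat.EquationalCriterion
import Mathlib.RingTheory.Finiteness.ModuleFinitePresentation
-- import your own Groth.Agent.* helpers here

set_option autoImplicit false
universe u
open QFDual

namespace Groth.Agent.S8960

/-- Suppose the Dedekind different of A → B is defined: A is Noetherian, B is a finite A-algebra,
nonzerodivisors of A are nonzerodivisors on B, and with K = Q(A) the total ring of fractions and L =
B ⊗_A K the map K → L is étale (here with L finite free over K). If A → B is flat, then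
Trace_{L/K}(b) lies in A for every b ∈ B; equivalently 1 ∈ 𝓛_{B/A}, the Dedekind complementary
module. -/
theorem result (A K B L : Type u) [CommRing A] [CommRing K] [CommRing B] [CommRing L] [Algebra A K] [Algebra A B] [Algebra B L] [Algebra K L] [Algebra A L] [IsScalarTower A K L] [IsScalarTower A B L] (h : QFDual.IsDedekindDefined A K B L) [Module.Flat A B] : (1 : L) ∈ QFDual.complementary A K B L := by
  haveI := h.isFractionRing
  haveI := h.isLocalization
  haveI := h.finite
  haveI := h.free
  haveI := h.finiteKL
  haveI := h.isNoetherianRing
  haveI : Module.FinitePresentation A B := Module.finitePresentation_of_finite A B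
  haveI : Module.Projective A B := Module.Flat.projective_of_finitePresentation
  obtain ⟨n, π, hπ⟩ := Module.Finite.exists_fin' A B
  obtain ⟨i, hi⟩ := Module.projective_lifting_property π LinearMap.id hπ
  let f : B →ₗ[A] L := (IsScalarTower.toAlgHom A B L).toLinearMap
  haveI : IsLocalizedModule (nonZeroDivisors A) f := isLocalizedModule_iff_isLocalization.2 h.isLocalization
  have hbc : IsBaseChange K f := IsLocalizedModule.isBaseChange (nonZeroDivisors A) K f
  haveI : Module.Free K (TensorProduct A K B) := Module.Free.of_equiv hbc.equiv.symm
  haveI : Module.Finite K (TensorProduct A K B) := Module.Finite.equiv hbc.equiv.symm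
  intro b
  rw [one_mul]
  refine ⟨LinearMap.trace A _ (i ∘ₗ Algebra.lmul A B b ∘ₗ π), ?_⟩
  rw [← LinearMap.trace_baseChange, LinearMap.baseChange_comp, LinearMap.baseChange_comp,
    LinearMap.trace_comp_comm', LinearMap.comp_assoc, ← LinearMap.baseChange_comp, hi,
    LinearMap.baseChange_id, LinearMap.comp_id, Algebra.trace_apply,
    ← LinearMap.trace_conj' (LinearMap.baseChange K (Algebra.lmul A B b)) hbc.equiv]
  congr 1
  refine hbc.algHom_ext _ _ fun c => ?_
  show hbc.equiv ((Algebra.lmul A B b).baseChange K (hbc.equiv.symm (f c))) = algebraMap B L b * algebraMap B L c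
  rw [hbc.equiv_symm_apply, LinearMap.baseChange_tmul, hbc.equiv_tmul, one_smul]
  exact map_mul (algebraMap B L) b c

end Groth.Agent.S8960
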