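import Groth.Statements.S8961
import Mathlib.FieldTheory.IsAlgClosed.Spectrum
import Mathlib.LinearAlgebra.Matrix.Charpoly.Eigs
import Mathlib.RingTheory.LocalProperties.Reduced
import Mathlib.FieldTheory.IsAlgClosed.AlgebraicClosure
-- import your own Groth.Agent.* helpers here

set_option autoImplicit false
universe u
open QFDual

namespace Groth.Agent.S8961

open Polynomial in
theorem isIntegral_trace_of_aeval {A F : Type*} [CommRing A] [Field F] [IsAlgClosed F] [Algebra A F]
    {ι : Type*} [Fintype ι] [DecidableEq ι] (M : Matrix ι ι F) (p : A[X]) (hp : p.Monic)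
    (h : aeval M (p.map (algebraMap A F)) = 0) : IsIntegral A M.trace := by
  rw [Matrix.trace_eq_sum_roots_charpoly]
  refine IsIntegral.multiset_sum fun r hr => ⟨p, hp, ?_⟩
  have hr' : r ∈ spectrum F M :=
    Matrix.mem_spectrum_iff_isRoot_charpoly.2 (isRoot_of_mem_roots hr)
  have h1 := spectrum.subset_polynomial_aeval M (p.map (algebraMap A F)) ⟨r, hr', rfl⟩
  rw [h] at h1
  rcases isEmpty_or_nonempty ι with he | hne
  · exact absurd hr (by simp [Matrix.charpoly, Matrix.det_isEmpty])
  · rw [spectrum.zero_eq, Set.mem_singleton_iff] at h1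
    rw [← eval_map]
    exact h1

open Polynomial in
theorem isIntegral_trace_leftMul {A K B L : Type u} [CommRing A] [CommRing K] [CommRing B] [CommRing L]
    [Algebra A K] [Algebra A B] [Algebra B L] [Algebra K L] [Algebra A L] [IsScalarTower A K L]
    [IsScalarTower A B L] [Module.Free K L] [Module.Finite K L] (b : B) (hb : IsIntegral A b)
    (F : Type u) [Field F] [IsAlgClosed F] [Algebra K F] [Algebra A F] [IsScalarTower A K F] :
    IsIntegral A (algebraMap K F (Algebra.trace K L (algebraMap B L b))) := by
  classical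
  obtain ⟨p, hp, hpb⟩ := hb
  let bs := Module.Free.chooseBasis K L
  haveI : Fintype (Module.Free.ChooseBasisIndex K L) := inferInstance
  rw [Algebra.trace_eq_matrix_trace bs, AddMonoidHom.map_trace]
  refine isIntegral_trace_of_aeval _ p hp ?_
  let ψ : B →+* Matrix _ _ F :=
    ((algebraMap K F).mapMatrix).comp ((Algebra.leftMulMatrix bs).toRingHom.comp (algebraMap B L))
  show aeval (ψ b) (p.map (algebraMap A F)) = 0
  have hc : ψ.comp (algebraMap A B) = (algebraMap F _).comp (algebraMap A F) := by
    refine RingHom.ext fun a => ?_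
    show (algebraMap K F).mapMatrix (Algebra.leftMulMatrix bs (algebraMap B L (algebraMap A B a))) = _
    rw [← IsScalarTower.algebraMap_apply, IsScalarTower.algebraMap_apply A K L, AlgHom.commutes,
      RingHom.mapMatrix_apply, Matrix.algebraMap_eq_diagonal, Matrix.diagonal_map (map_zero _),
      RingHom.comp_apply, Matrix.algebraMap_eq_diagonal]
    congr 1
    funext i
    simp [← IsScalarTower.algebraMap_apply]
  rw [aeval_def, eval₂_map, ← hc, ← hom_eval₂, hpb, map_zero]

open Polynomial in
/-- An element of a reduced Noetherian ring integral modulo every minimal prime is integral. -/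
theorem isIntegral_of_minimalPrimes {A K : Type u} [CommRing A] [CommRing K] [Algebra A K] [IsNoetherianRing K]
    [IsReduced K] (c : K) (h : ∀ q ∈ minimalPrimes K, ∃ p : A[X], p.Monic ∧ aeval c p ∈ q) :
    IsIntegral A c := by
  classical
  choose p hp hq using h
  let S := (minimalPrimes.finite_of_isNoetherianRing K).toFinset
  refine ⟨∏ q ∈ S.attach, p q.1 ((Set.Finite.mem_toFinset _).1 q.2),
    monic_prod_of_monic _ _ fun q _ => hp _ _, ?_⟩
  have : ∀ q (hqm : q ∈ minimalPrimes K), aeval c (∏ q ∈ S.attach, p q.1 ((Set.Finite.mem_toFinset _).1 q.2)) ∈ q := by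
    intro q hqm
    rw [map_prod, ← Finset.mul_prod_erase _ _ (Finset.mem_attach S ⟨q, (Set.Finite.mem_toFinset _).2 hqm⟩)]
    exact q.mul_mem_right _ (hq q hqm)
  have h0 : aeval c (∏ q ∈ S.attach, p q.1 ((Set.Finite.mem_toFinset _).1 q.2)) ∈ (⊥ : Ideal K).radical := by
    rw [← Ideal.sInf_minimalPrimes]
    exact Ideal.mem_sInf.2 fun {q} hqm => this q hqm
  obtain ⟨n, hn⟩ := h0
  exact (IsReduced.eq_zero _ ⟨n, hn⟩ : _)

/-- A normal ring is integrally closed in its total ring of fractions. -/
theorem mem_range_of_isIntegral {A K : Type u} [CommRing A] [CommRing K] [Algebra A K] [IsFractionRing A K]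
    (hA : EGA4.IsNormalRing A) (c : K) (hc : IsIntegral A c) : c ∈ (algebraMap A K).range := by
  by_contra hne
  let I : Ideal A :=
    { carrier := {a : A | algebraMap A K a * c ∈ (algebraMap A K).range}
      zero_mem' := show algebraMap A K 0 * c ∈ (algebraMap A K).range by
        rw [map_zero, zero_mul]; exact Subring.zero_mem _
      add_mem' := fun {a b} ha hb => by
        show algebraMap A K (a + b) * c ∈ (algebraMap A K).range
        rw [map_add, add_mul]
        exact Subring.add_mem _ ha hb
      smul_mem' := fun a b hb => by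
        show algebraMap A K (a * b) * c ∈ (algebraMap A K).range
        rw [map_mul, mul_assoc]
        exact Subring.mul_mem _ ⟨a, rfl⟩ hb }
  obtain ⟨m, hm, hIm⟩ := Ideal.exists_le_maximal I fun hI => hne (by
    have h1 : (1 : A) ∈ I := hI ▸ Submodule.mem_top
    simpa [I] using h1)
  haveI := (hA m).1
  haveI := (hA m).2
  let Am := Localization.AtPrime m
  haveI : Module.Flat A Am := IsLocalization.flat Am m.primeCompl
  have hnz : ∀ t : nonZeroDivisors A, IsUnit (((algebraMap Am (FractionRing Am)).comp (algebraMap A Am)) t) := by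
    intro t
    refine isUnit_iff_ne_zero.2 fun h0 => ?_
    rw [RingHom.comp_apply, map_eq_zero_iff _ (IsFractionRing.injective Am (FractionRing Am)),
      IsLocalization.map_eq_zero_iff m.primeCompl] at h0
    obtain ⟨u, hu⟩ := h0
    have hu0 : (u : A) = 0 := (mem_nonZeroDivisors_iff.1 t.2).2 _ hu
    exact u.2 (hu0 ▸ m.zero_mem)
  let φ : K →+* FractionRing Am := IsLocalization.lift hnz
  let φ' : K →ₐ[A] FractionRing Am :=
    { φ with commutes' := fun a => (IsLocalization.lift_eq hnz a).trans (IsScalarTower.algebraMap_apply A Am _ a).symm }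
  obtain ⟨y, hy⟩ := IsIntegrallyClosed.isIntegral_iff.1 ((hc.map φ').tower_top (A := Am))
  obtain ⟨⟨x, t⟩, rfl⟩ := IsLocalization.mk'_surjective (nonZeroDivisors A) c
  obtain ⟨⟨a, s⟩, rfl⟩ := IsLocalization.mk'_surjective m.primeCompl y
  have h2 : algebraMap Am (FractionRing Am) (IsLocalization.mk' Am a s * algebraMap A Am t) =
      algebraMap Am (FractionRing Am) (algebraMap A Am x) := by
    rw [map_mul, hy, ← IsScalarTower.algebraMap_apply A Am, ← IsScalarTower.algebraMap_apply A Am,
      ← φ'.commutes, ← φ'.commutes, ← map_mul, IsLocalization.mk'_spec]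
  have h3 := congrArg (algebraMap A Am s * ·) (IsFractionRing.injective Am (FractionRing Am) h2)
  simp only [← mul_assoc, IsLocalization.mk'_spec'] at h3
  rw [← map_mul, ← map_mul] at h3
  obtain ⟨u, hu⟩ := (IsLocalization.eq_iff_exists m.primeCompl Am).1 h3
  have hmem : (u : A) * s ∈ I := ⟨(u : A) * a, by
    refine (IsLocalization.map_units K t).mul_left_injective ?_
    show algebraMap A K ((u : A) * a) * algebraMap A K t = algebraMap A K ((u : A) * s) * IsLocalization.mk' K x t * algebraMap A K t
    rw [mul_assoc _ (IsLocalization.mk' K x t), IsLocalization.mk'_spec, ← map_mul, ← map_mul, mul_assoc, mul_assoc, hu]⟩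
  exact (m.primeCompl.mul_mem u.2 s.2) (hIm hmem)

/-- Suppose the Dedekind different of A → B is defined: A is Noetherian, B is a finite A-algebra,
nonzerodivisors of A are nonzerodivisors on B, and with K = Q(A) and L = B ⊗_A K the map K → L is
étale (here with L finite free over K). If A is a normal ring, i.e. every localization A_p at a
prime is an integrally closed domain, then Trace_{L/K}(b) lies in A for every b ∈ B; equivalently 1
∈ 𝓛_{B/A}. -/
theorem result (A K B L : Type u) [CommRing A] [CommRing K] [CommRing B] [CommRing L] [Algebra A K] [Algebra A B] [Algebra B L] [Algebra K L] [Algebra A L] [IsScalarTower A K L] [IsScalarTower A B L] (h : QFDual.IsDedekindDefined A K B L) (hA : EGA4.IsNormalRing A) : (1 : L) ∈ QFDual.complementary A K B L := by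
  intro b
  haveI := h.isFractionRing
  haveI := h.finite
  haveI := h.free
  haveI := h.finiteKL
  haveI := h.isNoetherianRing
  rw [one_mul]
  haveI : IsNoetherianRing K := IsLocalization.isNoetherianRing (nonZeroDivisors A) K inferInstance
  haveI : IsReduced A := isReduced_ofLocalizationMaximal _ fun J _ => by
    haveI := (hA J).1
    infer_instance
  haveI : IsReduced K := isReduced_localizationPreserves (nonZeroDivisors A) K inferInstance
  refine mem_range_of_isIntegral hA _ (isIntegral_of_minimalPrimes _ fun q hq => ?_)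
  haveI : q.IsPrime := Ideal.minimalPrimes_isPrime hq
  let F := AlgebraicClosure (FractionRing (K ⧸ q))
  obtain ⟨p, hp, hpc⟩ := isIntegral_trace_leftMul (A := A) (K := K) (L := L) b (Algebra.IsIntegral.isIntegral b) F
  refine ⟨p, hp, ?_⟩
  rw [← Polynomial.aeval_def, Polynomial.aeval_algebraMap_apply] at hpc
  rw [IsScalarTower.algebraMap_apply K (K ⧸ q) F] at hpc
  rw [← Ideal.Quotient.eq_zero_iff_mem]
  refine (map_eq_zero_iff (algebraMap (K ⧸ q) F) ?_).1 hpc
  rw [IsScalarTower.algebraMap_eq (K ⧸ q) (FractionRing (K ⧸ q)) F]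
  exact (RingHom.injective (algebraMap (FractionRing (K ⧸ q)) F)).comp
    (IsFractionRing.injective (K ⧸ q) (FractionRing (K ⧸ q)))

end Groth.Agent.S8961
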