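import Groth.Statements.S8962
import Groth.Agent.TraceForm.Basic
-- import your own Groth.Agent.* helpers here

set_option autoImplicit false
universe u
open QFDual

namespace Groth.Agent.S8962

/-- If the Dedekind different of A → B is defined (A Noetherian, B a finite A-algebra, nonzerodivisors
of A nonzerodivisors on B, K = Q(A) → L = B ⊗_A K étale, here with L finite free over K), then x ↦
(b ↦ Trace_{L/K}(x b)) is a B-linear isomorphism from the Dedekind complementary module 𝓛_{B/A} onto
ω_{B/A} = Hom_A(B, A), the latter with B acting through the argument. Stated as the existence of a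
B-linear equivalence e with algebraMap (e(x)(b)) = Trace_{L/K}(x b) in K for all x and b, which
determines e since A → K is injective. -/
theorem result (A K B L : Type u) [CommRing A] [CommRing K] [CommRing B] [CommRing L] [Algebra A K] [Algebra A B] [Algebra B L] [Algebra K L] [Algebra A L] [IsScalarTower A K L] [IsScalarTower A B L] (h : QFDual.IsDedekindDefined A K B L) : ∃ e : QFDual.complementary A K B L ≃ₗ[B] Disc.Omega A B, ∀ (x : QFDual.complementary A K B L) (b : B), algebraMap A K ((e x).toLinearMap b) = Algebra.trace K L ((x : L) * algebraMap B L b) := by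
  haveI := h.isFractionRing
  haveI := h.free
  haveI := h.finiteKL
  haveI := h.etale
  haveI := h.isLocalization
  have hinjA : Function.Injective (algebraMap A K) := IsFractionRing.injective A K
  have hbij := (Groth.Agent.TraceForm.etale_iff_bijective (A := K) (B := L)).1 h.etale
  let f : B →ₗ[A] L := (IsScalarTower.toAlgHom A B L).toLinearMap
  haveI : IsLocalizedModule (nonZeroDivisors A) f := isLocalizedModule_iff_isLocalization.2 h.isLocalization
  have hbc : IsBaseChange K f := IsLocalizedModule.isBaseChange (nonZeroDivisors A) K f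
  choose φ hφ using fun (x : QFDual.complementary A K B L) (b : B) => x.2 b
  let Φ : QFDual.complementary A K B L → Disc.Omega A B := fun x => ⟨{
    toFun := φ x
    map_add' := fun b c => hinjA <| by rw [map_add, hφ, hφ, hφ, map_add, mul_add, map_add]
    map_smul' := fun r b => hinjA <| by
      rw [RingHom.id_apply, smul_eq_mul, map_mul (algebraMap A K), hφ, hφ, Algebra.smul_def, map_mul (algebraMap B L),
        ← IsScalarTower.algebraMap_apply A B L, mul_left_comm, IsScalarTower.algebraMap_apply A K L,
        ← Algebra.smul_def, map_smul, smul_eq_mul] }⟩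
  have hΦ : ∀ x b, algebraMap A K ((Φ x).toLinearMap b) =
      Algebra.trace K L ((x : L) * algebraMap B L b) := hφ
  let e : QFDual.complementary A K B L →ₗ[B] Disc.Omega A B :=
    { toFun := Φ
      map_add' := fun x y => Disc.Omega.ext <| LinearMap.ext fun b => hinjA <| by
        show _ = algebraMap A K ((Φ x).toLinearMap b + (Φ y).toLinearMap b)
        rw [map_add, hΦ, hΦ, hΦ, Submodule.coe_add, add_mul, map_add]
      map_smul' := fun c x => Disc.Omega.ext <| LinearMap.ext fun b => hinjA <| by
        show _ = algebraMap A K ((Φ x).toLinearMap (c * b))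
        rw [hΦ, hΦ, SetLike.val_smul, Algebra.smul_def, map_mul (algebraMap B L), mul_comm (algebraMap B L c) (x : L),
          mul_assoc] }
  have hker : ∀ x y : QFDual.complementary A K B L, Φ x = Φ y → x = y := fun x y hxy =>
    Subtype.ext <| hbij.1 <| hbc.algHom_ext _ _ fun b => by
      show Algebra.trace K L ((x : L) * algebraMap B L b) = Algebra.trace K L ((y : L) * algebraMap B L b)
      rw [← hΦ, ← hΦ, hxy]
  have hsurj : Function.Surjective e := fun ψ => by
    let Ψ := hbc.lift ((Algebra.linearMap A K) ∘ₗ ψ.toLinearMap)
    obtain ⟨x, hx⟩ := hbij.2 Ψ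
    have hxb : ∀ b, Algebra.trace K L (x * algebraMap B L b) = algebraMap A K (ψ.toLinearMap b) := fun b => by
      rw [← Algebra.traceForm_apply, hx]
      exact hbc.lift_eq ((Algebra.linearMap A K) ∘ₗ ψ.toLinearMap) b
    refine ⟨⟨x, fun b => ⟨_, (hxb b).symm⟩⟩, Disc.Omega.ext <| LinearMap.ext fun b => hinjA ?_⟩
    show algebraMap A K ((Φ _).toLinearMap b) = _
    rw [hΦ]
    exact hxb b
  exact ⟨LinearEquiv.ofBijective e ⟨fun x y hxy => hker x y hxy, hsurj⟩, fun x b => hΦ x b⟩

end Groth.Agent.S8962
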