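import Groth.Statements.S8965
import Groth.Agent.S8962
import Mathlib.RingTheory.Localization.NormTrace
-- import your own Groth.Agent.* helpers here

set_option autoImplicit false
universe u
open QFDual

namespace Groth.Agent.S8965

/-- Suppose the Dedekind different of A → B is defined (A Noetherian, B a finite A-algebra,
nonzerodivisors of A nonzerodivisors on B, K = Q(A) → L = B ⊗_A K étale, here with L finite free
over K) and that B is free as an A-module. Then the Dedekind different 𝔇_{B/A} ⊆ L is the image
under B → L of the ideal of b ∈ B with b · Hom_A(B, A) ⊆ B · Trace_{B/A}, where B acts on Hom_A(B,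
A) through the argument. (The published statement assumes only A → B flat, with the trace element
τ_{B/A} of the relative dualizing module ω_{B/A}; for B finite free these are Trace_{B/A} and
Hom_A(B, A), the case taken here.) -/
theorem result (A K B L : Type u) [CommRing A] [CommRing K] [CommRing B] [CommRing L] [Algebra A K] [Algebra A B] [Algebra B L] [Algebra K L] [Algebra A L] [IsScalarTower A K L] [IsScalarTower A B L] (h : QFDual.IsDedekindDefined A K B L) [Module.Finite A B] [Module.Free A B] : QFDual.dedekindDifferent A K B L = Submodule.map (Algebra.linearMap B L) (QFDual.different B (Disc.Omega.trace A B)) := by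
  haveI := h.isFractionRing
  haveI := h.isLocalization
  obtain ⟨e, he⟩ := Groth.Agent.S8962.result A K B L h
  have hinjA : Function.Injective (algebraMap A K) := IsFractionRing.injective A K
  have htr : ∀ b : B, Algebra.trace K L (algebraMap B L b) = algebraMap A K (Algebra.trace A B b) :=
    fun b => Algebra.trace_localization A (nonZeroDivisors A) b
  let one : QFDual.complementary A K B L := ⟨1, fun b => ⟨_, by rw [one_mul, htr]⟩⟩
  have h1 : e one = Disc.Omega.trace A B := Disc.Omega.ext <| LinearMap.ext fun b => hinjA <| by
    rw [he]
    show Algebra.trace K L (1 * algebraMap B L b) = algebraMap A K (Algebra.trace A B b)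
    rw [one_mul, htr]
  ext x
  constructor
  · intro hx
    obtain ⟨b, hb⟩ := hx 1 one.2
    rw [mul_one] at hb
    refine ⟨b, (QFDual.mem_different_iff B _ b).2 fun φ => ?_, hb⟩
    obtain ⟨c, hc⟩ := hx _ (e.symm φ).2
    refine ⟨c, ?_⟩
    rw [← h1, ← map_smul, ← e.apply_symm_apply φ, ← map_smul]
    refine congrArg e (Subtype.ext ?_)
    show c • (1 : L) = b • ((e.symm φ : QFDual.complementary A K B L) : L)
    rw [Algebra.smul_def, Algebra.smul_def, mul_one, hb, hc]
  · rintro ⟨b, hb, rfl⟩ y hy
    obtain ⟨c, hc⟩ := (QFDual.mem_different_iff B _ b).1 hb (e ⟨y, hy⟩)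
    refine ⟨c, ?_⟩
    rw [← h1, ← map_smul, ← map_smul] at hc
    have h2 := congrArg Subtype.val (e.injective hc)
    show algebraMap B L c = algebraMap B L b * y
    simpa [Algebra.smul_def, one] using h2

end Groth.Agent.S8965
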