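import Groth.Statements.S8969
import Groth.Agent.OmegaCI.Square
import Groth.Agent.OmegaCI.Fibre
import Groth.Agent.OmegaCI.Pairing

set_option autoImplicit false
universe u
open Disc

namespace Groth.Agent.S8969

/-- Case h = 1 with B finite free. Suppose A is a Noetherian ring, fix n ≥ 1 and polynomials f_1, …, f_n
∈ A[x_1, …, x_n], and assume that the quotient B = A[x_1, …, x_n]/(f_1, …, f_n) is finite free over
A. Then one can find a B-linear isomorphism B → ω_{B/A} = Hom_A(B, A), where B acts on Hom_A(B, A)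
via the argument, carrying the class of the Jacobian determinant det(∂f_i/∂x_j) to the trace element
Trace_{B/A}. (In the published version B is allowed to be A[x_1, …, x_n, 1/h]/(f_1, …, f_n)
quasi-finite over A, using the relative dualizing module together with its trace element; when h = 1
and B is finite free these reduce to Hom_A(B, A) and Trace_{B/A}, which is the situation treated
here.) -/
theorem result (A : Type u) [CommRing A] [IsNoetherianRing A] (n : ℕ) (hn : 1 ≤ n) (f : Fin n → MvPolynomial (Fin n) A) [Module.Finite A (MvPolynomial (Fin n) A ⧸ Ideal.span (Set.range f))] [Module.Free A (MvPolynomial (Fin n) A ⧸ Ideal.span (Set.range f))] : ∃ e : (MvPolynomial (Fin n) A ⧸ Ideal.span (Set.range f)) ≃ₗ[MvPolynomial (Fin n) A ⧸ Ideal.span (Set.range f)] Disc.Omega A (MvPolynomial (Fin n) A ⧸ Ideal.span (Set.range f)), e (Ideal.Quotient.mk (Ideal.span (Set.range f)) (Matrix.det (Matrix.of fun i j : Fin n => MvPolynomial.pderiv j (f i)))) = Disc.Omega.trace A (MvPolynomial (Fin n) A ⧸ Ideal.span (Set.range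 f)) := by
  haveI : Algebra.QuasiFinite A (Synt.RelGCIRing A n n f) := inferInstanceAs
    (Algebra.QuasiFinite A (MvPolynomial (Fin n) A ⧸ Ideal.span (Set.range f)))
  have hrel := OmegaCI.isRelGCI_of_quasiFinite f
  haveI : Module.Invertible (MvPolynomial (Fin n) A ⧸ Ideal.span (Set.range f))
      (Disc.Omega A (MvPolynomial (Fin n) A ⧸ Ideal.span (Set.range f))) :=
    OmegaCI.invertible_omega_of_isSyntomic (S9147.result A n n f hrel)
  obtain ⟨ξ, hann, hξ⟩ := OmegaCI.exists_diag_generator f hrel
  have hmem : ξ ∈ OmegaCI.diagAnn A (MvPolynomial (Fin n) A ⧸ Ideal.span (Set.range f)) := by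
    show ξ ∈ Submodule.annihilator _
    rw [hann]
    exact Ideal.mem_span_singleton_self ξ
  let Θ := OmegaCI.toHom ξ hmem
  have hgen : ∀ Φ : Disc.Omega A (MvPolynomial (Fin n) A ⧸ Ideal.span (Set.range f)) →ₗ[MvPolynomial (Fin n) A ⧸ Ideal.span (Set.range f)]
      (MvPolynomial (Fin n) A ⧸ Ideal.span (Set.range f)), ∀ l,
      Φ l ∈ LinearMap.range Θ := by
    intro Φ l
    have h1 := OmegaCI.tens_mem Φ
    rw [OmegaCI.diagAnn, hann, Ideal.mem_span_singleton'] at h1
    obtain ⟨z, hz⟩ := h1
    refine ⟨Algebra.TensorProduct.lmul' (S := MvPolynomial (Fin n) A ⧸ Ideal.span (Set.range f)) A z • l, ?_⟩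
    rw [map_smul, smul_eq_mul, ← OmegaCI.pair_tens Φ l, ← hz]
    show _ * OmegaCI.pair l ξ = _
    rw [← OmegaCI.pair_right]
    refine congrArg (OmegaCI.pair l) ?_
    rw [← sub_eq_zero, ← sub_mul, mul_comm]
    exact Submodule.mem_annihilator.1 hmem _ (by simp [RingHom.mem_ker])
  have hsurj : Function.Surjective Θ := by
    rw [← LinearMap.range_eq_top, eq_top_iff]
    intro b _
    obtain ⟨T, hT⟩ := TensorProduct.exists_finset ((Module.Invertible.linearEquiv
      (MvPolynomial (Fin n) A ⧸ Ideal.span (Set.range f))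
      (Disc.Omega A (MvPolynomial (Fin n) A ⧸ Ideal.span (Set.range f)))).symm b)
    have h1 := congrArg (Module.Invertible.linearEquiv (MvPolynomial (Fin n) A ⧸ Ideal.span (Set.range f))
      (Disc.Omega A (MvPolynomial (Fin n) A ⧸ Ideal.span (Set.range f)))) hT
    rw [LinearEquiv.apply_symm_apply, map_sum] at h1
    rw [h1]
    exact Submodule.sum_mem _ fun i _ => hgen i.1 i.2
  let E := LinearEquiv.ofBijective Θ (Module.Invertible.bijective_of_surjective hsurj)
  refine ⟨E.symm, E.symm_apply_eq.2 ?_⟩
  exact hξ.symm.trans (OmegaCI.lmul'_eq_pair ξ hmem)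

end Groth.Agent.S8969
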