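import Groth.Statements.S8974
import Mathlib
-- import your own Groth.Agent.* helpers here

set_option autoImplicit false
universe u
open Synt

namespace Groth.Agent.S8974

/-- Let R be a ring, n, d ≥ 1 and g_1, …, g_n ∈ R[y_1, …, y_n] of total degree at most d. Then there is
a ring map φ : A = ℤ[a_{i,E}] → R (E running over exponent vectors with |E| ≤ d) such that applying
φ to the coefficients of the universal polynomial f_i = Σ_E a_{i,E} x^E gives g_i for each i. (The
published statement is for a locally quasi-finite syntomic morphism of schemes and asserts, locally,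
a cartesian square with the universal family; this row is its affine core: the coefficient map.) -/
theorem result (R : Type u) [CommRing R] (n d : ℕ) (hn : 1 ≤ n) (hd : 1 ≤ d) (g : Fin n → MvPolynomial (Fin n) R) (hg : ∀ i, (g i).totalDegree ≤ d) : ∃ φ : Synt.UnivBase n d →+* R, ∀ i, MvPolynomial.map φ (Synt.univPoly n d i) = g i := by
  classical
  refine ⟨MvPolynomial.eval₂Hom (Int.castRingHom R) fun p => MvPolynomial.coeff p.2.exponent (g p.1), fun i => ?_⟩
  apply MvPolynomial.ext
  intro m
  simp only [Synt.univPoly, map_sum, MvPolynomial.map_monomial, MvPolynomial.eval₂Hom_X', MvPolynomial.coeff_sum,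
    MvPolynomial.coeff_monomial]
  by_cases hm : m.sum (fun _ e => e) ≤ d
  · have hs : ∑ j, m j ≤ d := by rwa [Finsupp.sum_fintype _ _ (fun _ => rfl)] at hm
    have hj : ∀ j, m j < d + 1 := fun j =>
      Nat.lt_succ_of_le ((Finset.single_le_sum (fun j _ => Nat.zero_le (m j)) (Finset.mem_univ j)).trans hs)
    let E0 : Synt.UnivIdx n d := ⟨fun j => ⟨m j, hj j⟩, hs⟩
    have hE : E0.exponent = m := Finsupp.ext fun j => rfl
    rw [Finset.sum_eq_single E0]
    · simp [hE]
    · intro E _ hne
      rw [if_neg]
      intro h
      exact hne (Subtype.ext (funext fun j => Fin.ext (congrArg (fun q : Fin n →₀ ℕ => q j) h)))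
    · simp
  · rw [Finset.sum_eq_zero]
    · exact (MvPolynomial.coeff_eq_zero_of_totalDegree_lt ((hg i).trans_lt (not_le.1 hm))).symm
    · intro E _
      rw [if_neg]
      intro h
      apply hm
      rw [Finsupp.sum_fintype _ _ (fun _ => rfl), ← h]
      exact E.2

end Groth.Agent.S8974
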