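import Groth.Statements.S8980
import Groth.Prelude.Def_HTop
import Mathlib.AlgebraicGeometry.Morphisms.ClosedImmersion
import Mathlib.AlgebraicGeometry.Limits

set_option linter.style.haveILetI false
set_option backward.isDefEq.respectTransparency false
set_option backward.isDefEq.respectTransparency.types false

set_option autoImplicit false
universe u
open HTop

namespace Groth.Agent.S8980

open CategoryTheory CategoryTheory.Limits AlgebraicGeometry in
/-- A family of morphisms T_i → T, indexed by a type in the universe of T and all locally of finite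
presentation, is an h covering if and only if the one-member family given by the induced morphism
from the coproduct of the T_i to T is an h covering. (The published statement also lists, as a
further equivalent condition, that some h covering refines the family; that equivalence is immediate
from the definitions and is not restated here.) -/
theorem result {T : Scheme.{u}} (E : PreZeroHypercover.{u} T) (hE : ∀ i, LocallyOfFinitePresentation (E.f i)) : HTop.IsHCover E ↔ HTop.IsHCover (PreZeroHypercover.singleton.{0} (Sigma.desc E.f)) := by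
  classical
  constructor
  · rintro ⟨-, hV⟩
    refine ⟨fun _ => ?_, fun U => ?_⟩
    · exact IsZariskiLocalAtSource.sigmaDesc (P := @LocallyOfFinitePresentation) hE
    · obtain ⟨F, hF, hr⟩ := hV U
      refine ⟨F, hF, fun j => ?_⟩
      obtain ⟨i, h, hh⟩ := hr j
      exact ⟨⟨⟩, h ≫ Sigma.ι E.X i, by
        show (h ≫ Sigma.ι E.X i) ≫ Sigma.desc E.f = _
        rw [Category.assoc, Sigma.ι_desc, hh]⟩
  · rintro ⟨-, hV⟩
    refine ⟨hE, fun U => ?_⟩
    obtain ⟨F, hF, hr⟩ := hV U
    haveI := hF.finite_index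
    choose i₀ h hh using hr
    let hd : ∀ j, F.X j ⟶ ∐ E.X := h
    let pc : ∀ j, E.I₀ → (F.X j).Opens := fun j i => hd j ⁻¹ᵁ (Sigma.ι E.X i).opensRange
    have hcov : ∀ j, ∃ t : Finset E.I₀, (Set.univ : Set (F.X j)) ⊆ ⋃ i ∈ t, (pc j i : Set (F.X j)) := by
      intro j
      haveI := hF.isAffine_obj j
      refine isCompact_univ.elim_finite_subcover _ (fun i => (pc j i).2) fun x _ => ?_
      obtain ⟨i, y, hy⟩ := (sigmaOpenCover E.X).exists_eq (hd j x)
      exact Set.mem_iUnion.2 ⟨i, y, hy⟩
    have hclosed : ∀ j i, IsClosed ((pc j i : (F.X j).Opens) : Set (F.X j)) := by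
      intro j i
      suffices hc : IsClosed ((Sigma.ι E.X i).opensRange : Set ↥(∐ E.X)) from hc.preimage (hd j).continuous
      have e : ((Sigma.ι E.X i).opensRange : Set ↥(∐ E.X)) = (⋃ k ∈ {k | k ≠ i}, Set.range (Sigma.ι E.X k))ᶜ := by
        ext x
        simp only [Scheme.Hom.coe_opensRange, Set.mem_compl_iff, Set.mem_iUnion, Set.mem_setOf_eq, not_exists]
        constructor
        · intro hx k hk hx'
          have hd' := disjoint_iff.mp (disjoint_opensRange_sigmaι E.X k i hk)
          have hm : x ∈ (Sigma.ι E.X k).opensRange ⊓ (Sigma.ι E.X i).opensRange := ⟨hx', hx⟩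
          rw [hd'] at hm
          exact hm
        · intro hx
          obtain ⟨k, y, hy⟩ := (sigmaOpenCover E.X).exists_eq x
          by_cases hki : k = i
          · subst hki; exact ⟨y, hy⟩
          · exact (hx k hki ⟨y, hy⟩).elim
      rw [e]
      exact (isOpen_biUnion fun k _ => (Sigma.ι E.X k).isOpenEmbedding.isOpen_range).isClosed_compl
    choose t ht using hcov
    obtain ⟨m, ⟨e⟩⟩ := Finite.exists_equiv_fin (Σ j, t j)
    let idx : Fin m → Σ j, t j := e.symm
    let F' : PreZeroHypercover.{0} (U.1 : T.Opens).toScheme :=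
      { I₀ := Fin m
        X := fun k => (pc (idx k).1 (idx k).2.1).toScheme
        f := fun k => (pc (idx k).1 (idx k).2.1).ι ≫ F.f (idx k).1 }
    refine ⟨F', ⟨hF.isAffine, inferInstanceAs (Finite (Fin m)), fun k => ?_, fun V _ _ g => ?_⟩, fun k => ?_⟩
    · haveI := hF.isAffine_obj (idx k).1
      haveI : IsClosedImmersion (pc (idx k).1 (idx k).2.1).ι :=
        .of_isPreimmersion _ (by rw [Scheme.Opens.range_ι]; exact hclosed _ _)
      exact isAffine_of_isAffineHom (pc (idx k).1 (idx k).2.1).ι
    · obtain ⟨W, _, _, φ, hφ, j, g', hg'⟩ := hF.lift V g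
      obtain ⟨i, hi, hx⟩ := Set.mem_iUnion₂.1 (ht j (Set.mem_univ (g' (IsLocalRing.closedPoint W))))
      have hrange : Set.range g' ⊆ Set.range (pc j i).ι := by
        rintro _ ⟨s, rfl⟩
        rw [Scheme.Opens.range_ι]
        exact ((IsLocalRing.specializes_closedPoint s).map g'.continuous).mem_open (pc j i).2 hx
      refine ⟨W, inferInstance, inferInstance, φ, hφ, e ⟨j, i, hi⟩, ?_⟩
      show ∃ g'' : Spec W ⟶ (pc (idx (e ⟨j, i, hi⟩)).1 (idx (e ⟨j, i, hi⟩)).2.1).toScheme,
        g'' ≫ (pc (idx (e ⟨j, i, hi⟩)).1 (idx (e ⟨j, i, hi⟩)).2.1).ι ≫ F.f (idx (e ⟨j, i, hi⟩)).1 = Spec.map φ ≫ g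
      rw [show idx (e ⟨j, i, hi⟩) = ⟨j, i, hi⟩ from e.symm_apply_apply _]
      exact ⟨IsOpenImmersion.lift _ g' hrange, by rw [IsOpenImmersion.lift_fac_assoc, hg']⟩
    · let j := (idx k).1
      let i := (idx k).2.1
      have hrange : Set.range ((pc j i).ι ≫ hd j) ⊆ Set.range (Sigma.ι E.X i) := by
        rintro _ ⟨s, rfl⟩
        exact s.2
      refine ⟨i, IsOpenImmersion.lift (Sigma.ι E.X i) ((pc j i).ι ≫ hd j) hrange, ?_⟩
      calc IsOpenImmersion.lift (Sigma.ι E.X i) ((pc j i).ι ≫ hd j) hrange ≫ E.f i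
          = IsOpenImmersion.lift (Sigma.ι E.X i) ((pc j i).ι ≫ hd j) hrange ≫ Sigma.ι E.X i ≫ Sigma.desc E.f := by
            rw [Sigma.ι_desc]
        _ = (pc j i).ι ≫ hd j ≫ Sigma.desc E.f := by rw [IsOpenImmersion.lift_fac_assoc, Category.assoc]
        _ = (pc j i).ι ≫ F.f j ≫ (U.1 : T.Opens).ι := congrArg ((pc j i).ι ≫ ·) (hh j)
        _ = F'.f k ≫ (U.1 : T.Opens).ι := (Category.assoc _ _ _).symm

end Groth.Agent.S8980
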