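import Groth.Statements.S8988
import Groth.Agent.SubtrVal.HCoverSingle
import Groth.Prelude.Def_MoreMor
import Mathlib.CategoryTheory.Sites.Over

set_option linter.style.haveILetI false
set_option backward.isDefEq.respectTransparency false
set_option backward.isDefEq.respectTransparency.types false
universe w

set_option autoImplicit false
universe u
open HTop

namespace Groth.Agent.S8988

open CategoryTheory CategoryTheory.Limits AlgebraicGeometry Opposite in
/-- A presheaf which is a sheaf for a covering monomorphism is bijective on it. -/
theorem bijective_of_mono {C : Type*} [Category C] {J : GrothendieckTopology C} {F : Cᵒᵖ ⥤ Type w}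
    (hF : Presieve.IsSheaf J F) {X Y : C} (f : X ⟶ Y) [Mono f]
    (h : Sieve.generate (Presieve.singleton f) ∈ J Y) : Function.Bijective (F.map f.op) := by
  have hs : Presieve.IsSheafFor F (Presieve.singleton f) :=
    (Presieve.isSheafFor_iff_generate _).2 (hF _ h)
  refine ⟨fun a b hab => hs.isSeparatedFor.ext ?_, fun x => ?_⟩
  · rintro Z g ⟨⟩; exact hab
  · let fam : Presieve.FamilyOfElements F (Presieve.singleton f) := fun Z g hg => by
      cases hg; exact x
    have hfam : fam.Compatible := by
      rintro Z₁ Z₂ W g₁ g₂ _ _ ⟨⟩ ⟨⟩ hw
      rw [(cancel_mono f).1 hw]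
    exact ⟨hs.amalgamate fam hfam, hs.valid_glue hfam f (Presieve.singleton_self f)⟩

open CategoryTheory CategoryTheory.Limits AlgebraicGeometry Opposite in
/-- An h sheaf on schemes over S takes the same sections on an S-scheme and on any thickening of it of
finite presentation. -/
theorem result (S : Scheme.{u}) (F : HTop.ShH S) {X X' : Over S} (f : X ⟶ X') (hf : MoreMor.IsThickening f.left) [LocallyOfFinitePresentation f.left] : Function.Bijective (F.obj.map f.op) := by
  obtain ⟨hci, hsur⟩ := hf
  haveI := hci
  haveI := hsur
  haveI : Mono f := by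
    haveI : Mono ((Over.forget S).map f) := inferInstanceAs (Mono f.left)
    exact (Over.forget S).mono_of_mono_map this
  refine bijective_of_mono ((isSheaf_iff_isSheaf_of_type _ _).1 F.property) f ?_
  rw [GrothendieckTopology.mem_over_iff, Sieve.overEquiv_generate]
  refine HTop.hTopology.superset_covering (S := Sieve.generate (Presieve.singleton f.left)) ?_
    (Precoverage.generate_mem_toGrothendieck ?_)
  · rw [Sieve.generate_le_iff]
    rintro Z g ⟨⟩
    exact ⟨_, 𝟙 _, f.left, ⟨X, f, 𝟙 _, Presieve.singleton_self f, (Category.id_comp _).symm⟩, Category.id_comp _⟩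
  show Presieve.singleton f.left ∈ HTop.hPrecoverage X'.left
  rw [← PreZeroHypercover.presieve₀_singleton.{_, _, 0} f.left, HTop.presieve₀_mem_hPrecoverage_iff]
  exact Groth.Agent.SubtrVal.isHCover_singleton f.left
    (Groth.Agent.SubtrVal.univSSubtrusive_of_universallyClosed_surjective f.left)

end Groth.Agent.S8988
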