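import Groth.Statements.S8991
import Groth.Agent.SubtrVal.HCoverSingle
import Groth.Prelude.Def_MoreMor
import Mathlib.CategoryTheory.Sites.Over

set_option linter.style.haveILetI false
set_option backward.isDefEq.respectTransparency false
set_option backward.isDefEq.respectTransparency.types false
universe w

set_option autoImplicit false
universe u
open HTop

namespace Groth.Agent.S8991

open CategoryTheory CategoryTheory.Limits AlgebraicGeometry Opposite in
/-- A presheaf which is a sheaf for a covering monomorphism is bijective on it. -/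
theorem bijective_of_mono {C : Type*} [Category C] {J : GrothendieckTopology C} {F : Cᵒᵖ ⥤ Type w}
    (hF : Presieve.IsSheaf J F) {X Y : C} (f : X ⟶ Y) [Mono f]
    (h : Sieve.generate (Presieve.singleton f) ∈ J Y) : Function.Bijective (F.map f.op) := by
  have hs : Presieve.IsSheafFor F (Presieve.singleton f) :=
    (Presieve.isSheafFor_iff_generate _).2 (hF _ h)
  refine ⟨fun a b hab => hs.isSeparatedFor.ext ?_, fun x => ?_⟩
  · rintro Z g ⟨⟩; exact hab
  · let fam : Presieve.FamilyOfElements F (Presieve.singleton f) := fun Z g hg => by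
      cases hg; exact x
    have hfam : fam.Compatible := by
      rintro Z₁ Z₂ W g₁ g₂ _ _ ⟨⟩ ⟨⟩ hw
      rw [(cancel_mono f).1 hw]
    exact ⟨hs.amalgamate fam hfam, hs.valid_glue hfam f (Presieve.singleton_self f)⟩

open CategoryTheory CategoryTheory.Limits AlgebraicGeometry Opposite in
/-- A ph sheaf on schemes over S takes the same sections on an S-scheme and on any thickening of it. -/
theorem result (S : Scheme.{u}) (F : HTop.ShPh S) {X X' : Over S} (f : X ⟶ X') (hf : MoreMor.IsThickening f.left) : Function.Bijective (F.obj.map f.op) := by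
  obtain ⟨hci, hsur⟩ := hf
  haveI := hci
  haveI := hsur
  haveI : Mono f := by
    haveI : Mono ((Over.forget S).map f) := inferInstanceAs (Mono f.left)
    exact (Over.forget S).mono_of_mono_map this
  refine bijective_of_mono ((isSheaf_iff_isSheaf_of_type _ _).1 F.property) f ?_
  rw [GrothendieckTopology.mem_over_iff, Sieve.overEquiv_generate]
  refine HTop.phTopology.superset_covering (S := Sieve.generate (Presieve.singleton f.left)) ?_
    (Precoverage.generate_mem_toGrothendieck ?_)
  · rw [Sieve.generate_le_iff]
    rintro Z g ⟨⟩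
    exact ⟨_, 𝟙 _, f.left, ⟨X, f, 𝟙 _, Presieve.singleton_self f, (Category.id_comp _).symm⟩, Category.id_comp _⟩
  show Presieve.singleton f.left ∈ HTop.phPrecoverage X'.left
  rw [← PreZeroHypercover.presieve₀_singleton.{_, _, 0} f.left, HTop.presieve₀_mem_phPrecoverage_iff]
  refine ⟨fun _ => inferInstanceAs (LocallyOfFiniteType f.left), fun U => ?_⟩
  haveI : IsAffine (U.1 : X'.left.Opens).toScheme := U.2
  let W : Scheme.{u} := (f.left ⁻¹ᵁ U.1).toScheme
  haveI : IsAffine W := U.2.preimage f.left
  let F : PreZeroHypercover.{0} (U.1 : X'.left.Opens).toScheme := PreZeroHypercover.singleton (f.left ∣_ U.1)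
  haveI : Surjective (f.left ∣_ U.1) := IsZariskiLocalAtTarget.restrict ‹Surjective f.left› U.1
  haveI : IsProper (f.left ∣_ U.1) := IsZariskiLocalAtTarget.restrict (inferInstance : IsProper f.left) U.1
  refine ⟨F, ⟨inferInstance, inferInstanceAs (Finite PUnit), fun _ => inferInstanceAs (IsAffine W),
    W, f.left ∣_ U.1, fun _ => 𝟙 W, inferInstance, inferInstance,
    fun _ => inferInstanceAs (IsOpenImmersion (𝟙 W)), fun _ => Category.id_comp _, fun x => ⟨⟨⟩, x, rfl⟩⟩,
    fun _ => ⟨⟨⟩, (f.left ⁻¹ᵁ U.1).ι, (morphismRestrict_ι f.left U.1).symm⟩⟩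

end Groth.Agent.S8991
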