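import Groth.Statements.S9001
import Groth.Agent.MLMod.HenselianAss

set_option autoImplicit false
universe u
open FlatMor

namespace Groth.Agent.S9001

open IsLocalRing TensorProduct in
/-- Over a henselian local ring R with maximal ideal m, for an R-algebra S and an S-module N which is
countably generated and Mittag-Leffler as an R-module, every associated prime q of the S-module N
⊗_R M (M any R-module) satisfies q + mS ≠ S. (Associated primes are taken here in the sense of
primes equal to the radical of the annihilator of some element, a larger set than the annihilators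
of elements used in the published statement; the published argument goes through once the chosen
element of q is replaced by a suitable power of it, so the row states this slightly stronger form.) -/
theorem result {R S : Type u} [CommRing R] [HenselianLocalRing R] [CommRing S] [Algebra R S] (N : Type u) [AddCommGroup N] [Module S N] [Module R N] [IsScalarTower R S N] (hcg : CAlg.IsCountablyGenerated R N) (hML : CAlg.IsMittagLeffler R N) (M : Type u) [AddCommGroup M] [Module R M] (q : Ideal S) [q.IsPrime] (hq : q ∈ associatedPrimes S (N ⊗[R] M)) : q ⊔ (maximalIdeal R).map (algebraMap R S) ≠ ⊤ := by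
  intro hsup
  obtain ⟨hprime, z, hz⟩ := hq
  obtain ⟨s, hs, t, ht, hst⟩ := Submodule.mem_sup.1 (hsup.symm.le (Submodule.mem_top : (1 : S) ∈ ⊤))
  have hs' : s ∈ (Submodule.colon (⊥ : Submodule S (N ⊗[R] M)) {z}).radical := hz ▸ hs
  obtain ⟨k, hk⟩ := hs'
  have hsk : s ^ k • z = 0 := by
    simpa [Submodule.mem_colon_singleton] using hk
  let I := (maximalIdeal R).map (algebraMap R S)
  have htI : ∀ j : ℕ, 1 - s ^ j ∈ I := fun j => by
    obtain ⟨c, hc⟩ := sub_one_dvd_pow_sub_one s j
    have hs1 : s - 1 = -t := by linear_combination hst
    rw [show 1 - s ^ j = t * c by rw [hs1] at hc; linear_combination -hc]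
    exact I.mul_mem_right c ht
  let T : N →ₗ[R] N :=
    { toFun := fun x => (1 - s ^ k) • x
      map_add' := fun a b => smul_add _ a b
      map_smul' := fun r a => smul_comm (1 - s ^ k) r a }
  have hT : ∀ x, T x ∈ (maximalIdeal R • ⊤ : Submodule R N) := by
    intro x
    show (1 - s ^ k) • x ∈ (maximalIdeal R • ⊤ : Submodule R N)
    have := Submodule.smul_mem_smul (htI k) (Submodule.mem_top : x ∈ (⊤ : Submodule S N))
    rw [← Submodule.restrictScalars_mem R, Ideal.smul_restrictScalars, Submodule.restrictScalars_top] at this
    exact this
  have hTz : ∀ w : N ⊗[R] M, T.rTensor M w = (1 - s ^ k) • w := by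
    intro w
    induction w with
    | zero => simp
    | tmul a b => simp [T, TensorProduct.smul_tmul']
    | add a b ha hb => rw [map_add, ha, hb, smul_add]
  have hz0 : z = 0 := Groth.MLMod.eq_zero_of_rTensor_fixed hcg hML T hT z (by
    rw [hTz, sub_smul, one_smul, hsk, sub_zero])
  apply hprime.ne_top
  rw [hz, hz0]
  simp

end Groth.Agent.S9001
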