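import Groth.Statements.S9007
import Mathlib
-- import your own Groth.Agent.* helpers here

set_option autoImplicit false
universe u
open FlatMor

namespace Groth.Agent.S9007

open CategoryTheory CategoryTheory.Limits AlgebraicGeometry in
/-- For a morphism f of compactifications of X over a quasi-compact quasi-separated S whose source
contains X as a dense open, the preimage under f of the image of X in the target is the image of X
in the source. -/
theorem result {X S : Scheme.{u}} [CompactSpace S] [QuasiSeparatedSpace S] (p : X ⟶ S) [IsSeparated p] [QuasiCompact p] [LocallyOfFiniteType p] {Y Y' : Scheme.{u}} (j : X ⟶ Y) (q : Y ⟶ S) [IsOpenImmersion j] [IsProper q] (h : j ≫ q = p) (j' : X ⟶ Y') (q' : Y' ⟶ S) [IsOpenImmersion j'] [IsProper q'] (h' : j' ≫ q' = p) (f : Y' ⟶ Y) (hf : f ≫ q = q') (hfj : j' ≫ f = j) (hd : Dense (Set.range j'.base)) : f ⁻¹ᵁ j.opensRange = j'.opensRange := by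
  haveI : IsSeparated (f ≫ q) := by rw [hf]; infer_instance
  haveI : IsSeparated f := IsSeparated.of_comp f q
  let g : X ⟶ pullback f j := pullback.lift j' (𝟙 X) (by rw [hfj, Category.id_comp])
  have hg1 : g ≫ pullback.fst f j = j' := pullback.lift_fst _ _ _
  haveI : IsClosedImmersion (g ≫ pullback.snd f j) := by rw [pullback.lift_snd]; infer_instance
  haveI : IsClosedImmersion g := IsClosedImmersion.of_comp g (pullback.snd f j)
  haveI : IsOpenImmersion (pullback.fst f j) := inferInstance
  have hr : Set.range g.base = pullback.fst f j ⁻¹' Set.range j'.base := by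
    ext p
    refine ⟨?_, ?_⟩
    · rintro ⟨x, rfl⟩
      exact ⟨x, by rw [← hg1]; rfl⟩
    · rintro ⟨x, hx⟩
      exact ⟨x, (pullback.fst f j).isOpenEmbedding.injective (by rw [← hx, ← hg1]; rfl)⟩
  have hd' : Dense (Set.range g.base) := hr ▸ hd.preimage (pullback.fst f j).isOpenEmbedding.isOpenMap
  have htop : Set.range g.base = Set.univ := g.isClosedMap.isClosed_range.closure_eq ▸ hd'.closure_eq
  ext x
  refine ⟨fun hx => ?_, ?_⟩
  · obtain ⟨y, hy⟩ := hx
    obtain ⟨p, hp, -⟩ := Scheme.Pullback.exists_preimage_pullback x y hy.symm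
    obtain ⟨q, rfl⟩ : p ∈ Set.range g.base := htop ▸ Set.mem_univ p
    exact ⟨q, by rw [← hp, ← hg1]; rfl⟩
  · rintro ⟨q, rfl⟩
    exact ⟨q, (congrArg (fun m : X ⟶ Y => m q) hfj).symm⟩

end Groth.Agent.S9007
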