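import Groth.Statements.S9011
import Groth.Agent.FlatDescent.UnivInjFib.Local
import Groth.Agent.FlatDescent.LocalFP.FiberMax

set_option autoImplicit false
universe u
open FlatMor

namespace Groth.Agent.S9011

open IsLocalRing in
/-- For a local ring R with maximal ideal m, an R-algebra S with S/mS Noetherian and an S-module N with
N/mN finite over S/mS which is projective as an R-module, every element of S that is a
nonzerodivisor on N/mN acts R-universally injectively on N, and the map from N to its localization
at all such elements is R-universally injective. -/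
theorem result {R S : Type u} [CommRing R] [IsLocalRing R] [CommRing S] [Algebra R S] (N : Type u) [AddCommGroup N] [Module S N] [Module R N] [IsScalarTower R S N] [IsNoetherianRing ((maximalIdeal R).Fiber S)] [Module.Finite ((maximalIdeal R).Fiber S) (FlatCA.fiberMod (maximalIdeal R) S N)] [Module.Projective R N] : (∀ s ∈ FlatCA.nzdFiber R S N, FlatCA.UnivInj R ((LinearMap.lsmul S N s).restrictScalars R)) ∧ FlatCA.UnivInj R ((LocalizedModule.mkLinearMap (FlatCA.nzdFiber R S N) N).restrictScalars R) := by
  letI : Algebra S ((maximalIdeal R).Fiber S) := Algebra.TensorProduct.rightAlgebra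
  have key : ∀ s ∈ FlatCA.nzdFiber R S N, ∀ (Q : Type _) [AddCommGroup Q] [Module R Q],
      Function.Injective (((LinearMap.lsmul S N s).restrictScalars R).rTensor Q) := by
    intro s hs Q _ _
    obtain ⟨F, _, _, _, σ, π, hπσ⟩ : ∃ (F : Type _) (_ : AddCommGroup F) (_ : Module R F) (_ : Module.Free R F)
        (σ : N →ₗ[R] F) (π : F →ₗ[R] N), π ∘ₗ σ = LinearMap.id :=
      ⟨N →₀ R, inferInstance, inferInstance, inferInstance, _, Finsupp.linearCombination R id,
        (Module.projective_def'.1 ‹Module.Projective R N›).choose_spec⟩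
    let sR := (LinearMap.lsmul S N s).restrictScalars R
    let v : F →ₗ[R] F := σ ∘ₗ sR ∘ₗ π + (LinearMap.id - σ ∘ₗ π)
    have hvσ : v ∘ₗ σ = σ ∘ₗ sR := by
      ext x
      have hx : π (σ x) = x := LinearMap.congr_fun hπσ x
      simp [v, hx]
    have hπv : π ∘ₗ v = sR ∘ₗ π := by
      ext x
      have hx : ∀ y, π (σ y) = y := LinearMap.congr_fun hπσ
      simp [v, hx]
    have hσ : ∀ (Q : Type _) [AddCommGroup Q] [Module R Q], Function.Injective (σ.rTensor Q) := fun Q _ _ =>
      Function.LeftInverse.injective (g := π.rTensor Q) fun x => by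
        rw [← LinearMap.comp_apply, ← LinearMap.rTensor_comp, hπσ, LinearMap.rTensor_id]; rfl
    have hk : Function.Injective (sR.rTensor (R ⧸ maximalIdeal R)) := by
      refine (injective_iff_map_eq_zero _).2 fun z hz => ?_
      let e := TensorProduct.tensorQuotEquivQuotSMul N (maximalIdeal R)
      obtain ⟨x, hx⟩ := Submodule.Quotient.mk_surjective _ (e z)
      have hzx : z = x ⊗ₜ[R] Ideal.Quotient.mk _ 1 := e.injective (by
        rw [TensorProduct.tensorQuotEquivQuotSMul_tmul_mk, one_smul, hx])
      subst hzx
      have h1 : s • x ∈ (maximalIdeal R • ⊤ : Submodule R N) := by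
        have := congrArg e hz
        rw [LinearMap.rTensor_tmul, map_zero, TensorProduct.tensorQuotEquivQuotSMul_tmul_mk, one_smul] at this
        exact (Submodule.Quotient.mk_eq_zero _).1 this
      rw [← Submodule.restrictScalars_top R S N, ← Ideal.smul_restrictScalars,
        Submodule.restrictScalars_mem, ← Groth.FlatDescent.LocalFP.fibre_one_tmul_eq_zero_iff, TensorProduct.tmul_smul] at h1
      have h2 : x ∈ (maximalIdeal R • ⊤ : Submodule R N) := by
        rw [← Submodule.restrictScalars_top R S N, ← Ideal.smul_restrictScalars,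
          Submodule.restrictScalars_mem, ← Groth.FlatDescent.LocalFP.fibre_one_tmul_eq_zero_iff]
        exact hs _ h1
      refine e.injective ?_
      rw [map_zero, TensorProduct.tensorQuotEquivQuotSMul_tmul_mk, one_smul]
      exact (Submodule.Quotient.mk_eq_zero _).2 h2
    have hv : Function.Injective (v.rTensor (R ⧸ maximalIdeal R)) := by
      refine (injective_iff_map_eq_zero _).2 fun z hz => ?_
      have h3 : π.rTensor _ z = 0 := hk (by
        rw [map_zero, ← LinearMap.comp_apply, ← LinearMap.rTensor_comp, ← hπv, LinearMap.rTensor_comp,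
          LinearMap.comp_apply, hz, map_zero])
      have h4 : v.rTensor _ z = z := by
        simp only [v, LinearMap.rTensor_add, LinearMap.rTensor_sub, LinearMap.rTensor_comp, LinearMap.rTensor_id,
          LinearMap.add_apply, LinearMap.sub_apply, LinearMap.comp_apply, LinearMap.id_coe, id_eq, h3, map_zero]
        abel
      rw [← h4, hz]
    have hQ : Function.Injective (v.rTensor Q) := Groth.FlatDescent.UnivInjFib.injective_rTensor_of_free_local v hv
    refine Function.Injective.of_comp (f := σ.rTensor Q) ?_
    rw [← LinearMap.coe_comp, ← LinearMap.rTensor_comp, ← hvσ, LinearMap.rTensor_comp]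
    exact hQ.comp (hσ Q)
  refine ⟨fun s hs Q _ _ => (LinearMap.lTensor_inj_iff_rTensor_inj _ _).2 (key s hs Q), fun Q _ _ => ?_⟩
  refine (LinearMap.lTensor_inj_iff_rTensor_inj _ _).2 ((injective_iff_map_eq_zero _).2 fun z hz => ?_)
  let f := TensorProduct.AlgebraTensorModule.rTensor R Q (LocalizedModule.mkLinearMap (FlatCA.nzdFiber R S N) N)
  haveI : IsLocalizedModule (FlatCA.nzdFiber R S N) f := inferInstance
  obtain ⟨⟨s, hs⟩, hsz⟩ := (IsLocalizedModule.eq_zero_iff (FlatCA.nzdFiber R S N) f).1 hz
  refine key s hs Q ?_
  rw [map_zero]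
  have h2 : ∀ z : TensorProduct R N Q, ((LinearMap.lsmul S N s).restrictScalars R).rTensor Q z = s • z := fun z => by
    induction z with
    | zero => simp
    | add a b ha hb => rw [map_add, smul_add, ha, hb]
    | tmul n q => rfl
  rw [h2]
  exact hsz

end Groth.Agent.S9011
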