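import Mathlib
import Groth.Statements.S9038
-- import your own Groth.Agent.* helpers here

set_option autoImplicit false
universe u
open Topology
open CohTop

namespace Groth.Agent.S9038

/-- In the category of Hausdorff locally quasi-compact spaces, call a family of continuous maps f_i :
X_i → X a qc covering when every point of X has a neighbourhood of the form ⋃_{i ∈ t} f_i(E_i) with
t a finite set of indices and E_i ⊆ X_i quasi-compact. If (f_i : X_i → X) is a qc covering and for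
each i the family (g_{ij} : X_{ij} → X_i)_j is a qc covering, then the family of composites X_{ij} →
X, indexed by the pairs (i, j), is a qc covering. -/
theorem result
    {B : Type u} [TopologicalSpace B] [T2Space B] [LocallyCompactSpace B]
    {ι : Type u} {X : ι → Type u} [∀ i, TopologicalSpace (X i)] [∀ i, T2Space (X i)]
    [∀ i, LocallyCompactSpace (X i)]
    (f : ∀ i, X i → B) (hf : ∀ i, Continuous (f i))
    (hcov : ∀ x : B, ∃ (t : Finset ι) (E : ∀ i, Set (X i)),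
      (∀ i ∈ t, IsCompact (E i)) ∧ (⋃ i ∈ t, f i '' E i) ∈ 𝓝 x)
    {κ : ι → Type u} {Y : ∀ i, κ i → Type u} [∀ i j, TopologicalSpace (Y i j)] [∀ i j, T2Space (Y i j)]
    [∀ i j, LocallyCompactSpace (Y i j)]
    (g : ∀ i j, Y i j → X i) (hg : ∀ i j, Continuous (g i j))
    (hcov' : ∀ (i : ι) (x : X i), ∃ (t : Finset (κ i)) (E : ∀ j, Set (Y i j)),
      (∀ j ∈ t, IsCompact (E j)) ∧ (⋃ j ∈ t, g i j '' E j) ∈ 𝓝 x) :
    ∀ x : B, ∃ (t : Finset (Σ i, κ i)) (E : ∀ p : (Σ i, κ i), Set (Y p.1 p.2)),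
      (∀ p ∈ t, IsCompact (E p)) ∧ (⋃ p ∈ t, f p.1 '' (g p.1 p.2 '' E p)) ∈ 𝓝 x := by
  classical
  intro x
  obtain ⟨t, E, hE, hx⟩ := hcov x
  choose t' E' hE' hx' using hcov'
  have hsub : ∀ i : t, ∃ s : Finset (X i), E i ⊆ ⋃ x' ∈ s, ⋃ j ∈ t' i x', g i j '' E' i x' j := by
    intro i
    obtain ⟨s, -, hs⟩ := (hE i i.2).elim_nhds_subcover (fun x' => ⋃ j ∈ t' i x', g i j '' E' i x' j) (fun x' _ => hx' i x')
    exact ⟨s, hs⟩
  choose s hs using hsub
  let ss : ∀ i, Finset (X i) := fun i => if h : i ∈ t then s ⟨i, h⟩ else ∅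
  refine ⟨t.sigma fun i => (ss i).biUnion (t' i),
    fun p => ⋃ x' ∈ (ss p.1).filter (fun x' => p.2 ∈ t' p.1 x'), E' p.1 x' p.2, fun p _ => ?_, ?_⟩
  · exact Finset.isCompact_biUnion _ fun x' hx'' => hE' p.1 x' p.2 (Finset.mem_filter.1 hx'').2
  · refine Filter.mem_of_superset hx ?_
    rintro z hz
    obtain ⟨i, hi, e, he, rfl⟩ := Set.mem_iUnion₂.1 hz
    obtain ⟨x', hx'', hje⟩ := Set.mem_iUnion₂.1 (hs ⟨i, hi⟩ he)
    obtain ⟨j, hj, y, hy, rfl⟩ := Set.mem_iUnion₂.1 hje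
    have hss : x' ∈ ss i := by simp [ss, hi, hx'']
    refine Set.mem_iUnion₂.2 ⟨⟨i, j⟩, Finset.mem_sigma.2 ⟨hi, Finset.mem_biUnion.2 ⟨x', hss, hj⟩⟩,
      g i j y, ⟨y, Set.mem_iUnion₂.2 ⟨x', Finset.mem_filter.2 ⟨hss, hj⟩, hy⟩, rfl⟩, rfl⟩

end Groth.Agent.S9038
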