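import Groth.Statements.S9043
import Groth.Agent.RlimLib.Loc
-- import your own Groth.Agent.* helpers here

set_option autoImplicit false
universe u
open CategoryTheory CategoryTheory.Limits Opposite
open ModSite

namespace Groth.Agent.S9043

/-- Let (C, O) be a ringed site, E an object of D(O) and B a class of objects such that every object has
a covering by members of B and every V in B admits an integer d_V ≥ 0 and a cofinal system of
coverings {V_i → V} with H^k(V_i, H^q(E)) = 0 for k > d_V and q < 0. Then E is the derived limit of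
its truncations τ_{≥ -n} E through the canonical maps. The derived category of O-modules and the
product of the truncations are instance hypotheses; H^k(V, -) of an O-module is the cohomology of
its underlying abelian sheaf; cofinality is expressed by asking every covering sieve of V to contain
such a covering family. -/
theorem result
    {C : Type u} [SmallCategory C] {J : GrothendieckTopology C} (O : Sheaf J CommRingCat.{u})
    [HasDerivedCategory.{u} (ModSite.Mod O)] (E : DerivedCategory (ModSite.Mod O))
    [HasProduct (CohCx.truncTower E)] (B : Set C)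
    (hB : ∀ U : C, ∃ (ι : Type u) (Y : ι → C) (f : ∀ i, Y i ⟶ U), Sieve.ofArrows Y f ∈ J U ∧ ∀ i, Y i ∈ B)
    (h : ∀ V ∈ B, ∃ d : ℕ, ∀ T ∈ J V, ∃ (ι : Type u) (Y : ι → C) (f : ∀ i, Y i ⟶ V),
      (∀ i, T.arrows (f i)) ∧ Sieve.ofArrows Y f ∈ J V ∧
      ∀ (i : ι) (q : ℤ) (k : ℕ), q < 0 → d < k →
        Subsingleton (ModSite.HU O ((DerivedCategory.homologyFunctor (ModSite.Mod O) q).obj E) k (Y i))) :
    CohCx.IsRlimVia (CohCx.truncTower E) (CohCx.truncTowerMap E) E (CohCx.toTruncTower E) := by
  haveI := Groth.Agent.ModGroth.sheaf_isGrothendieckAbelian (ModSite.ringSh O)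
  haveI : HasExt.{u + 1} (ModSite.Mod O) := HasExt.standard _
  refine (Groth.Agent.RlimLib.modGen O).isRlimVia_of_cofinal E (fun U => U ∈ B)
    (Groth.Agent.RlimLib.covers_of_families B hB) fun m V hV => ?_
  obtain ⟨d, hd⟩ := h V hV
  refine ⟨((d : ℤ) - m).toNat, fun T hT => ?_⟩
  obtain ⟨ι, Y, f, hf, hcov, hvan⟩ := hd T hT
  refine ⟨_, hcov, fun W k hk => ?_⟩
  obtain ⟨W', a, b, ⟨i⟩, rfl⟩ := hk
  exact ⟨_, a, _, rfl, hf i, fun n hn k hk =>
    Groth.Agent.RlimLib.subsingleton_ext_freeOn O _ k _ (hvan i _ k (by omega) (by omega))⟩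

end Groth.Agent.S9043
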