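import Groth.Statements.S9064
import Groth.Agent.RlimLib.Bounded
import Groth.Agent.RlimLib.SheafGen
-- import your own Groth.Agent.* helpers here

set_option autoImplicit false
universe u
open CategoryTheory CategoryTheory.Limits Opposite
attribute [local instance] HasDerivedCategory.standard
open ModSite

namespace Groth.Agent.S9064

/-- Let (C, O) be a ringed site, A ⊂ Mod(O) a weak Serre subcategory and B a set of objects such that
every object has a covering by members of B and every V ∈ B has an integer d_V and a cofinal system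
of coverings {V_i → V} with H^p(V_i, F) = 0 for all F ∈ A and p > d_V. Let (K_n) be an inverse
system in D^+_A(O) such that for every j the system (H^j(K_n))_n is eventually constant, with value
H^j say. Then H^j(R lim K_n) = H^j: for a derived limit L of (K_n) through maps a_n : L → K_n, each
H^j(a_n) is an isomorphism for n large. Cofinality is expressed by asking every covering sieve of V
to contain such a covering family; H^p(V, -) of a module is the cohomology of its underlying abelian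
sheaf; the product of the K_n is an instance hypothesis. -/
theorem result
    {C : Type u} [SmallCategory C] {J : GrothendieckTopology C} (O : Sheaf J CommRingCat.{u})
    (A : ObjectProperty (ModSite.Mod O)) [WSerre.IsWeakSerre A] (B : Set C)
    (hB : ∀ U : C, ∃ (ι : Type u) (Y : ι → C) (g : ∀ i, Y i ⟶ U), Sieve.ofArrows Y g ∈ J U ∧ ∀ i, Y i ∈ B)
    (hA : ∀ V ∈ B, ∃ d : ℕ, ∀ T ∈ J V, ∃ (ι : Type u) (Y : ι → C) (g : ∀ i, Y i ⟶ V),
      (∀ i, T.arrows (g i)) ∧ Sieve.ofArrows Y g ∈ J V ∧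
      ∀ (i : ι) (F : ModSite.Mod O), A F → ∀ k : ℕ, d < k → Subsingleton (ModSite.HU O F k (Y i)))
    (K : ℕ → DerivedCategory (ModSite.Mod O)) (t : ∀ n, K (n + 1) ⟶ K n) [HasProduct K]
    (hK : ∀ n, WSerre.cohInPlus A (K n))
    (hconst : ∀ j : ℤ, ∃ n₀ : ℕ, ∀ n, n₀ ≤ n →
      IsIso ((DerivedCategory.homologyFunctor (ModSite.Mod O) j).map (t n)))
    (L : DerivedCategory (ModSite.Mod O)) (a : ∀ n, L ⟶ K n) (hL : CohCx.IsRlimVia K t L a) (j : ℤ) :
    ∃ n₀ : ℕ, ∀ n, n₀ ≤ n → IsIso ((DerivedCategory.homologyFunctor (ModSite.Mod O) j).map (a n)) := by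
  haveI := Groth.Agent.ModGroth.sheaf_isGrothendieckAbelian (ModSite.ringSh O)
  haveI : HasExt.{u + 1} (ModSite.Mod O) := HasExt.standard _
  have hwin : ∀ (q₀ : ℤ) (l : ℕ), ∃ N : ℕ, ∀ n, N ≤ n → ∀ q, q₀ ≤ q → q < q₀ + l →
      IsIso ((DerivedCategory.homologyFunctor (ModSite.Mod O) q).map (t n)) := by
    intro q₀ l
    induction l with
    | zero => exact ⟨0, fun n _ q h1 h2 => absurd h2 (by omega)⟩
    | succ l ih =>
      obtain ⟨N, hN⟩ := ih
      obtain ⟨N', hN'⟩ := hconst (q₀ + l)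
      refine ⟨max N N', fun n hn q h1 h2 => ?_⟩
      by_cases hq : q < q₀ + l
      · exact hN n (le_of_max_le_left hn) q h1 hq
      · obtain rfl : q = q₀ + l := by omega
        exact hN' n (le_of_max_le_right hn)
  obtain ⟨n₀, hn₀⟩ := hconst j
  refine ⟨n₀, fun n hn => ?_⟩
  let G := Groth.Agent.RlimLib.modGen O
  refine (Groth.Agent.RlimLib.LRep.self G).isIso_of_stable hL j n₀ hn₀ (fun V => V ∈ B)
    (Groth.Agent.RlimLib.covers_of_families B hB) (fun V hV => ?_) n hn
  obtain ⟨d, hd⟩ := hA V hV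
  obtain ⟨N₁, hN₁⟩ := hwin (j - 1 - d) (d + 3)
  refine ⟨N₁, fun S hS => ?_⟩
  obtain ⟨ι, Y, g, hg, hcov, hvan⟩ := hd S hS
  suffices key : ∀ i, Groth.Agent.RlimLib.StableAt K t
      ((DerivedCategory.singleFunctor (ModSite.Mod O) 0).obj (G.P.obj (Y i))) j N₁ by
    refine ⟨_, hcov, fun W w hw => ?_⟩
    obtain ⟨W', p, i', ⟨i⟩, rfl⟩ := hw
    exact ⟨_, p, _, rfl, hg i, key i⟩
  intro i
  have hb : ∀ m : ℤ, j - 1 ≤ m → m ≤ j → ∀ k, N₁ ≤ k → Function.Bijective fun e :
      (DerivedCategory.singleFunctor (ModSite.Mod O) 0).obj (G.P.obj (Y i)) ⟶ (K (k + 1))⟦m⟧ => e ≫ (t k)⟦m⟧' := by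
    intro m hm1 hm2 k hk
    obtain ⟨hA1, c1, hc1⟩ := hK (k + 1)
    obtain ⟨hA2, c2, hc2⟩ := hK k
    haveI : (K (k + 1)).IsGE c1 := hc1
    haveI : (K k).IsGE c2 := hc2
    exact Groth.Agent.RlimLib.bijective_comp_of_window _ (t k) c1 c2 d
      (fun q e he => Groth.Agent.RlimLib.subsingleton_ext_freeOn O _ e _ (hvan i _ (hA1 q) e he))
      (fun q e he => Groth.Agent.RlimLib.subsingleton_ext_freeOn O _ e _ (hvan i _ (hA2 q) e he))
      m (fun q hq1 hq2 => hN₁ k hk q (by omega) (by push_cast; omega))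
  exact ⟨fun k hk y => (hb (j - 1) le_rfl (by omega) k hk).2 y, fun k hk y => (hb j (by omega) le_rfl k hk).2 y,
    fun k hk y y' h => (hb j (by omega) le_rfl k hk).1 h⟩

end Groth.Agent.S9064
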