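import Groth.Statements.S9076
import Groth.Agent.DerAdj.SiteFreeAcyclic
import Groth.Agent.TriH.KInjExist
-- import your own Groth.Agent.* helpers here

set_option autoImplicit false
universe u
open CategoryTheory CategoryTheory.Limits Opposite
attribute [local instance] HasDerivedCategory.standard
open SiteCmp

namespace Groth.Agent.S9076

/-- For a morphism f from the ringed site (C, O_C) to the ringed site (D, O_D), Rf_* commutes with
derived limits: if L = R lim K_n in D(O_C) through maps a_n : L → K_n, then Rf_*L = R lim Rf_*K_n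
through the maps Rf_*a_n. Rf_* is the unbounded total derived direct image under its existence
binder; the products of the two systems are instance hypotheses. Stated for ringed sites; the
published statement is for ringed topoi. -/
theorem result
    {C : Type u} [SmallCategory C] {J : GrothendieckTopology C} {O_C : Sheaf J CommRingCat.{u}}
    {D : Type u} [SmallCategory D] {K : GrothendieckTopology D} {O_D : Sheaf K CommRingCat.{u}}
    (f : ModSite.RMor O_C O_D) [SiteCmp.HasRpushD f]
    (E : ℕ → DerivedCategory (ModSite.Mod O_C)) (t : ∀ n, E (n + 1) ⟶ E n) [HasProduct E]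
    (L : DerivedCategory (ModSite.Mod O_C)) (a : ∀ n, L ⟶ E n) (hL : CohCx.IsRlimVia E t L a)
    [HasProduct fun n => (SiteCmp.RpushD f).obj (E n)] :
    CohCx.IsRlimVia (fun n => (SiteCmp.RpushD f).obj (E n)) (fun n => (SiteCmp.RpushD f).map (t n))
      ((SiteCmp.RpushD f).obj L) (fun n => (SiteCmp.RpushD f).map (a n)) := by
  haveI hA := Groth.Agent.ModGroth.sheaf_isGrothendieckAbelian (ModSite.ringSh O_C)
  haveI hB := Groth.Agent.ModGroth.sheaf_isGrothendieckAbelian (ModSite.ringSh O_D)
  haveI : HasExt.{u + 1} (ModSite.Mod O_D) := HasExt.standard _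
  have hcov : ∀ M : ModSite.Mod O_D, ∃ (Y : ModSite.Mod O_D) (π : Y ⟶ M),
      Groth.Agent.DerAdj.Products.LAcyclic.{u + 1} f.push Y ∧ Epi π := fun M => by
    obtain ⟨ι, V, p, hp⟩ := Groth.Agent.DerAdj.SiteFree.exists_epi_sigma_free M
    exact ⟨_, p, fun I hI n => Groth.Agent.DerAdj.SiteFree.subsingleton_ext_sigma_free V n _
      (haveI := hI; Groth.Agent.DerAdj.SiteFree.isTotallyAcyclic_push_injective f), hp⟩
  have hK : ∀ (S : CochainComplex (ModSite.Mod O_C) ℤ), ∃ (I : CochainComplex (ModSite.Mod O_C) ℤ) (φ : S ⟶ I),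
      I.IsKInjective ∧ QuasiIso φ := fun S => by
    obtain ⟨I, φ, h1, h2, -⟩ := Groth.Agent.TriH.exists_kInjective_resolution S
    exact ⟨I, φ, h1, h2⟩
  have hK' : ∀ (S : CochainComplex (ModSite.Mod O_D) ℤ), ∃ (I : CochainComplex (ModSite.Mod O_D) ℤ) (φ : S ⟶ I),
      I.IsKInjective ∧ QuasiIso φ := fun S => by
    obtain ⟨I, φ, h1, h2, -⟩ := Groth.Agent.TriH.exists_kInjective_resolution S
    exact ⟨I, φ, h1, h2⟩
  haveI : PreservesFiniteProducts (SiteCmp.RpushD f) :=
    ⟨fun n => ⟨fun {F} =>
      haveI : PreservesLimit (Discrete.functor (F.obj ∘ Discrete.mk)) (SiteCmp.RpushD f) :=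
        Groth.Agent.DerAdj.Products.preservesLimit (ModSite.RMor.adj f) hcov hK hK' (F.obj ∘ Discrete.mk)
      preservesLimit_of_iso_diagram _ (Discrete.natIsoFunctor (F := F)).symm⟩⟩
  haveI : (SiteCmp.RpushD f).Additive := Functor.additive_of_preserves_binary_products _
  haveI : PreservesLimit (Discrete.functor E) (SiteCmp.RpushD f) :=
    Groth.Agent.DerAdj.Products.preservesLimit (ModSite.RMor.adj f) hcov hK hK' E
  exact Groth.Agent.DerAdj.isRlimVia_map f.push hK E t L a hL

end Groth.Agent.S9076
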