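import Groth.Statements.S9065
import Groth.Agent.RlimLib.SitePushMem
import Groth.Agent.S9064
import Groth.Agent.S9076
-- import your own Groth.Agent.* helpers here

set_option autoImplicit false
universe u
open CategoryTheory CategoryTheory.Limits Opposite
attribute [local instance] HasDerivedCategory.standard
open SiteCmp

namespace Groth.Agent.S9065

/-- Let f be a morphism from the ringed site (C, O_C) to the ringed site (D, O_D), A ⊂ Mod(O_C) and A' ⊂
Mod(O_D) weak Serre subcategories and N an integer such that (1) C, O_C, A and (2) D, O_D, A' each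
admit a set of objects covering everything, every member V of which has an integer d_V and a cofinal
system of coverings {V_i → V} with H^p(V_i, F) = 0 for F in the subcategory and p > d_V; (3) R^p f_*
F ∈ A' for p ≥ 0 and F ∈ A; (4) R^p f_* F = 0 for p > N and F ∈ A. Then for K in D_A(O_C): (a) Rf_*K
lies in D_{A'}(O_D), and (b) H^j(Rf_*K) → H^j(Rf_*(τ_{≥ -n}K)) is an isomorphism for j ≥ N - n.
Stated for morphisms of ringed sites (the published statement is for ringed topoi); Rf_* is the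
unbounded total derived direct image, under its existence binder, and R^p f_* the right derived
functors of f_*. -/
theorem result
    {C : Type u} [SmallCategory C] {J : GrothendieckTopology C} {O_C : Sheaf J CommRingCat.{u}}
    {D : Type u} [SmallCategory D] {K : GrothendieckTopology D} {O_D : Sheaf K CommRingCat.{u}}
    (f : ModSite.RMor O_C O_D) [HasInjectiveResolutions (ModSite.Mod O_C)] [SiteCmp.HasRpushD f]
    (A : ObjectProperty (ModSite.Mod O_C)) [WSerre.IsWeakSerre A]
    (A' : ObjectProperty (ModSite.Mod O_D)) [WSerre.IsWeakSerre A']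
    (B : Set C) (B' : Set D)
    (hB : ∀ U : C, ∃ (ι : Type u) (Y : ι → C) (g : ∀ i, Y i ⟶ U), Sieve.ofArrows Y g ∈ J U ∧ ∀ i, Y i ∈ B)
    (hA : ∀ V ∈ B, ∃ d : ℕ, ∀ T ∈ J V, ∃ (ι : Type u) (Y : ι → C) (g : ∀ i, Y i ⟶ V),
      (∀ i, T.arrows (g i)) ∧ Sieve.ofArrows Y g ∈ J V ∧
      ∀ (i : ι) (F : ModSite.Mod O_C), A F → ∀ k : ℕ, d < k → Subsingleton (ModSite.HU O_C F k (Y i)))
    (hB' : ∀ U : D, ∃ (ι : Type u) (Y : ι → D) (g : ∀ i, Y i ⟶ U), Sieve.ofArrows Y g ∈ K U ∧ ∀ i, Y i ∈ B')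
    (hA' : ∀ V ∈ B', ∃ d : ℕ, ∀ T ∈ K V, ∃ (ι : Type u) (Y : ι → D) (g : ∀ i, Y i ⟶ V),
      (∀ i, T.arrows (g i)) ∧ Sieve.ofArrows Y g ∈ K V ∧
      ∀ (i : ι) (F : ModSite.Mod O_D), A' F → ∀ k : ℕ, d < k → Subsingleton (ModSite.HU O_D F k (Y i)))
    (N : ℤ)
    (h3 : ∀ F : ModSite.Mod O_C, A F → ∀ p : ℕ, A' ((f.Rpush p).obj F))
    (h4 : ∀ F : ModSite.Mod O_C, A F → ∀ p : ℕ, N < (p : ℤ) → IsZero ((f.Rpush p).obj F))
    (X : DerivedCategory (ModSite.Mod O_C)) (hX : WSerre.cohIn A X) :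
    WSerre.cohIn A' ((SiteCmp.RpushD f).obj X) ∧
      ∀ (n : ℕ) (j : ℤ), N - (n : ℤ) ≤ j →
        IsIso ((DerivedCategory.homologyFunctor (ModSite.Mod O_D) j).map
          ((SiteCmp.RpushD f).map ((DerivedCategory.TStructure.t.truncGEπ (-(n : ℤ))).app X))) := by
  haveI hGC := Groth.Agent.ModGroth.sheaf_isGrothendieckAbelian (ModSite.ringSh O_C)
  haveI hGD := Groth.Agent.ModGroth.sheaf_isGrothendieckAbelian (ModSite.ringSh O_D)
  haveI : HasExt.{u + 1} (ModSite.Mod O_C) := HasExt.standard _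
  haveI := Groth.Agent.RlimLib.hasProduct_nat' (CohCx.truncTower X)
  haveI := Groth.Agent.RlimLib.hasProduct_nat' (fun k => (SiteCmp.RpushD f).obj (CohCx.truncTower X k))
  have hR : CohCx.IsRlimVia (CohCx.truncTower X) (CohCx.truncTowerMap X) X (CohCx.toTruncTower X) := by
    refine (Groth.Agent.RlimLib.modGen O_C).isRlimVia_of_cofinal X (fun V => V ∈ B)
      (Groth.Agent.RlimLib.covers_of_families B hB) fun m V hV => ?_
    obtain ⟨d, hd⟩ := hA V hV
    refine ⟨((d : ℤ) - m).toNat, fun T hT => ?_⟩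
    obtain ⟨ι, Y, g, hg, hcov, hvan⟩ := hd T hT
    refine ⟨_, hcov, fun W w hw => ?_⟩
    obtain ⟨W', a, b, ⟨i⟩, rfl⟩ := hw
    exact ⟨_, a, _, rfl, hg i, fun k hk e he =>
      Groth.Agent.RlimLib.subsingleton_ext_freeOn O_C _ e _ (hvan i _ (hX _) e (by omega))⟩
  have hRf := Groth.Agent.S9076.result f _ _ X _ hR
  have hmem : ∀ (k : ℕ) (i : ℤ), A' ((DerivedCategory.homologyFunctor (ModSite.Mod O_D) i).obj
      ((SiteCmp.RpushD f).obj (CohCx.truncTower X k))) := fun k i =>
    Groth.Agent.RlimLib.homology_RpushD_tge_mem f A A' h3 X hX _ i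
  have hstep : ∀ (k : ℕ) (i : ℤ), N - (k : ℤ) ≤ i → IsIso ((DerivedCategory.homologyFunctor (ModSite.Mod O_D) i).map
      ((SiteCmp.RpushD f).map (CohCx.truncTowerMap X k))) := fun k i hk =>
    Groth.Agent.RlimLib.isIso_RpushD_step f A h4 X hX k i hk
  have hb : ∀ (n : ℕ) (j : ℤ), N - (n : ℤ) ≤ j → IsIso ((DerivedCategory.homologyFunctor (ModSite.Mod O_D) j).map
      ((SiteCmp.RpushD f).map (CohCx.toTruncTower X n))) := by
    intro n j hj
    obtain ⟨n₀, hn₀⟩ := Groth.Agent.S9064.result O_D A' B' hB' hA' _ _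
      (fun k => ⟨fun i => hmem k i, -(k : ℤ),
        haveI : DerivedCategory.IsGE (CohCx.truncTower X k) (-(k : ℤ)) :=
          inferInstanceAs (DerivedCategory.TStructure.t.IsGE
            ((DerivedCategory.TStructure.t.truncGE (-(k : ℤ))).obj X) (-(k : ℤ)))
        Groth.Agent.RlimLib.isGE_RFun f.push (Groth.Agent.RlimLib.exists_kInj O_C) _ _⟩)
      (fun i => ⟨(N - i).toNat, fun k hk => hstep k i (by omega)⟩) _ _ hRf j
    suffices h : ∀ l, IsIso ((DerivedCategory.homologyFunctor (ModSite.Mod O_D) j).map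
        ((SiteCmp.RpushD f).map (CohCx.toTruncTower X (n + l)))) →
        IsIso ((DerivedCategory.homologyFunctor (ModSite.Mod O_D) j).map
          ((SiteCmp.RpushD f).map (CohCx.toTruncTower X n))) from
      h n₀ (hn₀ _ (by omega))
    intro l
    induction l with
    | zero => exact id
    | succ l ih =>
      intro hl
      apply ih
      haveI := hstep (n + l) j (by omega)
      rw [← show CohCx.toTruncTower X (n + l + 1) ≫ CohCx.truncTowerMap X (n + l) = CohCx.toTruncTower X (n + l) from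
        Groth.Agent.RlimLib.π_tgeMap _ _ (by omega) X, Functor.map_comp, Functor.map_comp]
      exact @IsIso.comp_isIso _ _ _ _ _ _ _ hl inferInstance
  refine ⟨fun i => ?_, hb⟩
  haveI := hb (N - i).toNat i (by omega)
  exact A'.prop_of_iso (asIso ((DerivedCategory.homologyFunctor (ModSite.Mod O_D) i).map
    ((SiteCmp.RpushD f).map (CohCx.toTruncTower X (N - i).toNat)))).symm (hmem _ i)

end Groth.Agent.S9065
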