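import Groth.Statements.S9071
import Groth.Agent.RlimLib.TwoTopologies
import Groth.Agent.RlimLib.RlimSingle
import Groth.Agent.S9069
-- import your own Groth.Agent.* helpers here

set_option autoImplicit false
universe u
open CategoryTheory CategoryTheory.Limits Opposite
attribute [local instance] HasDerivedCategory.standard
open SiteCmp

namespace Groth.Agent.S9071

/-- Let τ' be a coarser topology than τ on a category C, O a τ-sheaf of rings and ε the comparison
morphism from (C_τ, O) to (C_τ', O). Let B be a set of objects and A a full subcategory of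
presheaves of O-modules such that (1) every object of A is a τ-sheaf, (2) A forms a weak Serre
subcategory inside Mod(O_τ), (3) each object of C admits a τ'-covering by members of B, and (4)
H^p_τ(U, F) = 0 for U ∈ B, F ∈ A, p > 0. Then the essential image of A under ε_* forms a weak Serre
subcategory inside Mod(O_τ') and ε^*, Rε_* are quasi-inverse equivalences between D_A(O_τ') and
D_A(O_τ): on objects with cohomology sheaves in the respective subcategory, ε^* and Rε_* preserve
that condition and the unit and counit are isomorphisms. In the order of topologies used here the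
finer topology τ is the larger one, J, and τ' is J' ≤ J; A is given as a property of τ-sheaves of
modules (condition (1) built in); flatness of ε, existence of the unbounded Rε_* and an adjunction
ε^* ⊣ Rε_* are hypotheses. -/
theorem result
    {C : Type u} [SmallCategory C] {J J' : GrothendieckTopology C} (h : J' ≤ J) (O : Sheaf J CommRingCat.{u})
    [PreservesFiniteLimits (SiteCmp.eps h O).pull] [SiteCmp.HasRpushD (SiteCmp.eps h O)]
    (adj : SiteCmp.pullD (SiteCmp.eps h O) ⊣ SiteCmp.RpushD (SiteCmp.eps h O))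
    (A : ObjectProperty (ModSite.Mod O)) [WSerre.IsWeakSerre A] (B : Set C)
    (h3 : ∀ U : C, ∃ (ι : Type u) (Y : ι → C) (g : ∀ i, Y i ⟶ U), Sieve.ofArrows Y g ∈ J' U ∧ ∀ i, Y i ∈ B)
    (h4 : ∀ U ∈ B, ∀ F : ModSite.Mod O, A F → ∀ p : ℕ, 0 < p → Subsingleton (ModSite.HU O F p U)) :
    WSerre.IsWeakSerre (A.map (SiteCmp.eps h O).push) ∧
    (∀ Y : DerivedCategory (ModSite.Mod (SiteCmp.epsRing h O)), WSerre.cohIn (A.map (SiteCmp.eps h O).push) Y →
      WSerre.cohIn A ((SiteCmp.pullD (SiteCmp.eps h O)).obj Y) ∧ IsIso (adj.unit.app Y)) ∧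
    (∀ X : DerivedCategory (ModSite.Mod O), WSerre.cohIn A X →
      WSerre.cohIn (A.map (SiteCmp.eps h O).push) ((SiteCmp.RpushD (SiteCmp.eps h O)).obj X) ∧
      IsIso (adj.counit.app X)) := by
  haveI := Groth.Agent.ModGroth.sheaf_isGrothendieckAbelian (ModSite.ringSh O)
  haveI : HasInjectiveResolutions (ModSite.Mod O) := inferInstance
  let f := SiteCmp.eps h O
  let A' := A.map f.push
  have hcov' : Groth.Agent.RlimLib.Covers J' (fun U => U ∈ B) := Groth.Agent.RlimLib.covers_of_families B h3
  have hcov : Groth.Agent.RlimLib.Covers J (fun U => U ∈ B) :=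
    Groth.Agent.RlimLib.TwoTopologies.covers_fine h _ hcov'
  haveI hW : WSerre.IsWeakSerre A' :=
    Groth.Agent.RlimLib.TwoTopologies.isWeakSerre_map h O A _ hcov' h4
  have hc : IsIso f.adj.counit := Groth.Agent.RlimLib.TwoTopologies.isIso_counit h O
  have hcF : ∀ F, IsIso (f.adj.counit.app F) := fun F => inferInstance
  have hunit : ∀ F', A' F' → IsIso (f.adj.unit.app F') := by
    rintro F' ⟨F, hF, ⟨e⟩⟩
    haveI := hcF F
    haveI : IsIso (f.adj.unit.app (f.push.obj F)) :=
      IsIso.of_isIso_fac_right (hh := IsIso.id _) (f.adj.right_triangle_components F)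
    exact (NatTrans.isIso_app_iff_of_iso f.adj.unit e).1 inferInstance
  have h2a : ∀ F', A' F' → A (f.pull.obj F') := by
    rintro F' ⟨F, hF, ⟨e⟩⟩
    haveI := hcF F
    exact A.prop_of_iso ((asIso (f.adj.counit.app F)).symm ≪≫ f.pull.mapIso e) hF
  have h2b : ∀ F' G', A' F' → A' G' → Function.Bijective (fun φ : F' ⟶ G' => f.pull.map φ) := by
    intro F' G' _ hG'
    haveI := hunit G' hG'
    have hfun : (fun φ : F' ⟶ G' => f.pull.map φ) =
        fun φ => (f.adj.homEquiv F' (f.pull.obj G')).symm (φ ≫ f.adj.unit.app G') := funext fun φ => by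
      simp [Adjunction.homEquiv_counit]
    rw [hfun]
    exact (Equiv.bijective _).comp ⟨fun φ φ' e => (cancel_mono _).1 e, fun y => ⟨y ≫ inv (f.adj.unit.app G'), by simp⟩⟩
  have h2c : ∀ F, A F → ∃ F', A' F' ∧ Nonempty (f.pull.obj F' ≅ F) := fun F hF => by
    haveI := hcF F
    exact ⟨f.push.obj F, A.prop_map_obj _ hF, ⟨asIso (f.adj.counit.app F)⟩⟩
  have hH := fun (F : ModSite.Mod O) (hF : A F) (q : ℤ) (hq : q ≠ 0) =>
    Groth.Agent.RlimLib.TwoTopologies.isZero_homology_RF h O A _ hcov' h4 hF q hq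
  have hcs : ∀ F, A F → IsIso (adj.counit.app (SiteCmp.inD O F)) ∧
      A' ((DerivedCategory.homologyFunctor (ModSite.Mod (SiteCmp.epsRing h O)) 0).obj
        ((SiteCmp.RpushD f).obj (SiteCmp.inD O F))) := by
    intro F hF
    haveI : DerivedCategory.IsGE ((SiteCmp.RpushD f).obj (SiteCmp.inD O F)) 0 :=
      (DerivedCategory.isGE_iff _ _).2 fun i hi => hH F hF i (by omega)
    haveI : DerivedCategory.IsLE ((SiteCmp.RpushD f).obj (SiteCmp.inD O F)) 0 :=
      (DerivedCategory.isLE_iff _ _).2 fun i hi => hH F hF i (by omega)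
    haveI := hcF F
    refine ⟨Groth.Agent.DerAdj.Unbounded.isIso_counit_single f.pull adj f.adj F, ?_⟩
    obtain ⟨-, hp⟩ := Groth.Agent.DerAdj.nonempty_homology_RF_single f.push (Groth.Agent.RlimLib.exists_kInj O) F 0 0
    haveI : PreservesFiniteLimits f.push :=
      haveI := (f.adj.rightAdjoint_preservesLimits : PreservesLimitsOfSize.{0, 0} f.push)
      inferInstance
    exact A'.prop_of_iso ((f.push.rightDerivedZeroIsoSelf.app F).symm ≪≫ (hp 0 rfl).some.symm) (A.prop_map_obj _ hF)
  have h3' : ∀ F', A' F' → IsIso (adj.unit.app (SiteCmp.inD (SiteCmp.epsRing h O) F')) := by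
    intro F' hF'
    let F := f.pull.obj F'
    let Y := SiteCmp.inD (SiteCmp.epsRing h O) F'
    let e : (SiteCmp.pullD f).obj Y ≅ SiteCmp.inD O F := (f.pull.mapDerivedCategorySingleFunctor 0).app F'
    obtain ⟨hci, hA0⟩ := hcs F (h2a F' hF')
    haveI : IsIso (adj.counit.app ((SiteCmp.pullD f).obj Y)) :=
      (NatTrans.isIso_app_iff_of_iso adj.counit e).2 hci
    haveI : IsIso ((SiteCmp.pullD f).map (adj.unit.app Y)) :=
      IsIso.of_isIso_fac_right (hh := IsIso.id _) (adj.left_triangle_components Y)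
    refine Groth.Agent.DerAdj.Unbounded.isIso_of_map f.pull A' h2b (adj.unit.app Y) (fun q => ?_) fun q => ?_
    · by_cases hq : q = 0
      · subst hq
        exact A'.prop_of_iso ((DerivedCategory.singleFunctorCompHomologyFunctorIso _ 0).app F').symm hF'
      · exact A'.prop_of_isZero (Groth.Agent.RlimLib.isZero_homology_single F' hq)
    · refine A'.prop_of_iso ((DerivedCategory.homologyFunctor _ q).mapIso ((SiteCmp.RpushD f).mapIso e)).symm ?_
      by_cases hq : q = 0
      · subst hq
        exact hA0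
      · exact A'.prop_of_isZero (hH F (h2a F' hF') q hq)
  refine ⟨hW, Groth.Agent.DerAdj.Unbounded.equivalence f.pull adj A A' h2a h2b (fun X n hn hX => ?_) fun X hX n j hj => ?_⟩
  · obtain ⟨hc1, hi⟩ := (Groth.Agent.S9069.main f.pull adj A A' h2a h2c h3').2 X ⟨hX, n, hn⟩
    exact ⟨hc1.1, hi⟩
  · refine Groth.Agent.RlimLib.isIso_RpushD_tge f A (fun U => U ∈ B) hcov (fun V _ => ⟨0, fun T hT => ?_⟩)
      (fun U => U ∈ B) hcov' (fun V _ => ⟨0, fun T hT => ?_⟩) (fun e he => A.prop_of_iso e he) 0
      (fun F hF p hp => ?_) X hX n j (by omega)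
    · obtain ⟨ι, Y, g, hg, hcv, hY⟩ := Groth.Agent.RlimLib.TwoTopologies.exists_family (fun U => U ∈ B) hcov T hT
      exact ⟨ι, Y, g, hg, hcv, fun i F hF k hk => h4 _ (hY i) F hF k hk⟩
    · obtain ⟨ι, Y, g, hg, hcv, hY⟩ := Groth.Agent.RlimLib.TwoTopologies.exists_family (fun U => U ∈ B) hcov' T hT
      exact ⟨ι, Y, g, hg, hcv, fun i F hF k hk => h4 _ (hY i) F hF k hk⟩
    · obtain ⟨-, hp'⟩ := Groth.Agent.DerAdj.nonempty_homology_RF_single f.push (Groth.Agent.RlimLib.exists_kInj O) F 0 (p : ℤ)
      exact IsZero.of_iso (hH F hF (p : ℤ) (by omega)) (hp' p (zero_add _)).some.symm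

end Groth.Agent.S9071
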