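import Groth.Statements.S9078
import Groth.Agent.CplxFactor.System
import Groth.Agent.EqFlat.Over
import Groth.Agent.ModGroth.Basic

set_option autoImplicit false
universe u
open CategoryTheory CategoryTheory.Limits Opposite
attribute [local instance] HasDerivedCategory.standard
open ModSite

namespace Groth.Agent.S9078

/-- Sums of the modules `j_{U!} O_U`. -/
def P {C : Type u} [SmallCategory C] {J : GrothendieckTopology C} (O : Sheaf J CommRingCat.{u})
    (X : ModSite.Mod O) : Prop :=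
  ∃ (ι : Type u) (U : ι → C), Nonempty (X ≅ ∐ fun j => ModSite.freeOn O (U j))

lemma exists_cover {C : Type u} [SmallCategory C] {J : GrothendieckTopology C} (O : Sheaf J CommRingCat.{u})
    (X : ModSite.Mod O) : ∃ (W : ModSite.Mod O) (π : W ⟶ X), P O W ∧ Epi π := by
  let ι := Σ U : C, ModSite.sect X U
  let a : ∀ j : ι, ModSite.freeOn O j.1 ⟶ X := fun j =>
    ((ModSite.extZeroAdj O j.1).homEquiv _ _).symm
      (Groth.Agent.EqFlat.mkHom (R := ModSite.ringSh O) (M := (ModSite.restr O j.1).obj X) j.2)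
  refine ⟨∐ fun j : ι => ModSite.freeOn O j.1, Sigma.desc a, ⟨ι, fun j => j.1, ⟨Iso.refl _⟩⟩,
    ⟨fun {Y} g h hgh => ?_⟩⟩
  refine SheafOfModules.hom_ext (PresheafOfModules.hom_ext fun U => ?_)
  ext s
  have hab : a ⟨U.unop, s⟩ ≫ g = a ⟨U.unop, s⟩ ≫ h := by
    have := congrArg (fun k => Sigma.ι (fun j : ι => ModSite.freeOn O j.1) ⟨U.unop, s⟩ ≫ k) hgh
    simpa only [Sigma.ι_desc_assoc] using this
  have h1 : Groth.Agent.EqFlat.mkHom (R := ModSite.ringSh O) (M := (ModSite.restr O U.unop).obj X) s ≫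
      (ModSite.restr O U.unop).map g =
      Groth.Agent.EqFlat.mkHom (R := ModSite.ringSh O) (M := (ModSite.restr O U.unop).obj X) s ≫
      (ModSite.restr O U.unop).map h :=
    ((ModSite.extZeroAdj O U.unop).homEquiv _ _).symm.injective
      (((ModSite.extZeroAdj O U.unop).homEquiv_naturality_right_symm _ g).trans (hab.trans
        ((ModSite.extZeroAdj O U.unop).homEquiv_naturality_right_symm _ h).symm))
  have h2 := congrArg (Groth.Agent.EqFlat.ev (R := ModSite.ringSh O)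
    (M := (ModSite.restr O U.unop).obj Y) (Groth.Agent.EqFlat.top' U.unop)) h1
  have e : ∀ k : X ⟶ Y,
      Groth.Agent.EqFlat.ev (Groth.Agent.EqFlat.top' U.unop)
        (Groth.Agent.EqFlat.mkHom (R := ModSite.ringSh O) (M := (ModSite.restr O U.unop).obj X) s ≫ (ModSite.restr O U.unop).map k) =
      k.val.app U s := fun k =>
    congrArg (k.val.app U) (Groth.Agent.EqFlat.ev_mkHom (R := ModSite.ringSh O) (M := (ModSite.restr O U.unop).obj X) s)
  exact (e g).symm.trans (h2.trans (e h))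

lemma P_biprod {C : Type u} [SmallCategory C] {J : GrothendieckTopology C} (O : Sheaf J CommRingCat.{u})
    (X Y : ModSite.Mod O) (hX : P O X) (hY : P O Y) : P O (X ⊞ Y) := by
  obtain ⟨ι₁, U₁, ⟨e₁⟩⟩ := hX
  obtain ⟨ι₂, U₂, ⟨e₂⟩⟩ := hY
  let F : ι₁ ⊕ ι₂ → ModSite.Mod O := fun j => ModSite.freeOn O (Sum.elim U₁ U₂ j)
  let A : ι₁ → ModSite.Mod O := fun j => ModSite.freeOn O (U₁ j)
  let B : ι₂ → ModSite.Mod O := fun j => ModSite.freeOn O (U₂ j)
  let f : (∐ A) ⟶ ∐ F := Sigma.desc fun j => Sigma.ι F (Sum.inl j)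
  let g : (∐ B) ⟶ ∐ F := Sigma.desc fun j => Sigma.ι F (Sum.inr j)
  let leg : ∀ j, F j ⟶ (∐ A) ⊞ (∐ B) := fun j => match j with
    | Sum.inl j => Sigma.ι A j ≫ biprod.inl
    | Sum.inr j => Sigma.ι B j ≫ biprod.inr
  let k : (∐ F) ⟶ (∐ A) ⊞ (∐ B) := Sigma.desc leg
  have hk : ∀ j, Sigma.ι F j ≫ k = leg j := fun j => Sigma.ι_desc _ _
  have hf : ∀ j, Sigma.ι A j ≫ f = Sigma.ι F (Sum.inl j) := fun j => Sigma.ι_desc _ _
  have hg : ∀ j, Sigma.ι B j ≫ g = Sigma.ι F (Sum.inr j) := fun j => Sigma.ι_desc _ _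
  refine ⟨ι₁ ⊕ ι₂, Sum.elim U₁ U₂, ⟨biprod.mapIso e₁ e₂ ≪≫
    { hom := biprod.desc f g
      inv := k
      hom_inv_id := ?_
      inv_hom_id := ?_ }⟩⟩
  · refine biprod.hom_ext' _ _ ?_ ?_
    · rw [biprod.inl_desc_assoc, Category.comp_id]
      exact Sigma.hom_ext (f := A) _ _ fun j =>
        ((Category.assoc _ _ _).symm.trans (congrArg (· ≫ k) (hf j))).trans (hk _)
    · rw [biprod.inr_desc_assoc, Category.comp_id]
      exact Sigma.hom_ext (f := B) _ _ fun j =>
        ((Category.assoc _ _ _).symm.trans (congrArg (· ≫ k) (hg j))).trans (hk _)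
  · refine Sigma.hom_ext (f := F) _ _ fun j => ?_
    refine ((Category.assoc _ _ _).symm.trans (congrArg (· ≫ biprod.desc f g) (hk j))).trans
      (Eq.trans ?_ (Category.comp_id _).symm)
    cases j with
    | inl j =>
      exact (Category.assoc _ _ _).trans ((congrArg (Sigma.ι A j ≫ ·) (biprod.inl_desc f g)).trans (hf j))
    | inr j =>
      exact (Category.assoc _ _ _).trans ((congrArg (Sigma.ι B j ≫ ·) (biprod.inr_desc f g)).trans (hg j))

/-- Let (C, O) be a ringed site and G a complex of O-modules. There is a commutative diagram of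
complexes K_1 → K_2 → … over τ_{≤1}G → τ_{≤2}G → … such that (1) the vertical maps K_n → τ_{≤n}G are
termwise surjective quasi-isomorphisms, (2) every K_n is bounded above with terms direct sums of
modules of the form j_{U!}O_U, (3) each K_n → K_{n+1} is split injective in every degree, with
cokernel in each degree a direct sum of modules j_{U!}O_U; moreover colim K_n → G is a
quasi-isomorphism. Here the system is indexed by n ≥ 0 with K_n mapping to τ_{≤ n+1}G, commutativity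
of the diagram is expressed after composing with the inclusions τ_{≤ m}G → G, 'direct sum of modules
j_{U!}O_U' means isomorphic to a coproduct of such modules, and the map colim K_n → G is the one
induced by the K_n → τ_{≤ n+1}G → G. -/
theorem result
    {C : Type u} [SmallCategory C] {J : GrothendieckTopology C} (O : Sheaf J CommRingCat.{u})
    (G : CochainComplex (ModSite.Mod O) ℤ) :
    ∃ (Kc : ℕ ⥤ CochainComplex (ModSite.Mod O) ℤ) (π : ∀ n : ℕ, Kc.obj n ⟶ G.truncLE ((n : ℤ) + 1)),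
      (∀ n : ℕ, Kc.map (homOfLE (Nat.le_succ n)) ≫ π (n + 1) ≫ G.ιTruncLE (((n + 1 : ℕ) : ℤ) + 1) =
        π n ≫ G.ιTruncLE ((n : ℤ) + 1)) ∧
      (∀ n : ℕ, QuasiIso (π n) ∧ ∀ i : ℤ, Epi ((π n).f i)) ∧
      (∀ n : ℕ, ∃ b : ℤ, (Kc.obj n).IsStrictlyLE b) ∧
      (∀ (n : ℕ) (i : ℤ), ∃ (ι : Type u) (U : ι → C),
        Nonempty ((Kc.obj n).X i ≅ ∐ fun j => ModSite.freeOn O (U j))) ∧
      (∀ (n : ℕ) (i : ℤ), ∃ r : (Kc.obj (n + 1)).X i ⟶ (Kc.obj n).X i,
        (Kc.map (homOfLE (Nat.le_succ n))).f i ≫ r = 𝟙 _ ∧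
        ∃ (ι : Type u) (U : ι → C),
          Nonempty (cokernel ((Kc.map (homOfLE (Nat.le_succ n))).f i) ≅ ∐ fun j => ModSite.freeOn O (U j))) ∧
      ∃ c : colimit Kc ⟶ G, (∀ n : ℕ, colimit.ι Kc n ≫ c = π n ≫ G.ιTruncLE ((n : ℤ) + 1)) ∧ QuasiIso c := by
  have : HasExactColimitsOfShape ℕ (ModSite.Mod O) :=
    have := Groth.Agent.ModGroth.sheaf_ab5 (ModSite.ringSh O)
    have := AB5OfSize_shrink.{0, 0, u, u} (ModSite.Mod O)
    AB5OfSize.ofShape ℕ
  exact Groth.Agent.CplxFactor.exists_system (P := P O) G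
    ⟨∐ fun j : PEmpty.{u + 1} => ModSite.freeOn O j.elim,
      (IsZero.iff_id_eq_zero _).2 (Sigma.hom_ext _ _ fun j => j.elim), PEmpty.{u + 1}, PEmpty.elim, ⟨Iso.refl _⟩⟩
    (exists_cover O) (fun e ⟨ι, U, ⟨h⟩⟩ => ⟨ι, U, ⟨e.symm ≪≫ h⟩⟩) (P_biprod O)

end Groth.Agent.S9078
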