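import Groth.Statements.S9086
import Groth.Agent.SiteMod.ExtKFlat
-- import your own Groth.Agent.* helpers here

set_option autoImplicit false
universe u
open CategoryTheory
open ModSite

namespace Groth.Agent.S9086

open CategoryTheory.Limits in
/-- On a small ringed site (C, O) with O commutative, localised at an object U of C: the extension by
zero functor j_{U!} from O_U-modules on C/U to O-modules, i.e. the left adjoint of restriction to
C/U, is exact. As a left adjoint it preserves all colimits; the statement here is that it also
preserves finite limits. -/
theorem result {C : Type u} [SmallCategory C] {J : GrothendieckTopology C}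
    (O : Sheaf J CommRingCat.{u}) (U : C) :
    PreservesFiniteLimits (ModSite.extZero O U) := by
  have : (ModSite.restr O U).Additive := ⟨rfl⟩
  have : (ModSite.extZero O U).Additive := (ModSite.extZeroAdj O U).left_adjoint_additive
  have : PreservesColimitsOfSize.{0, 0} (ModSite.extZero O U) :=
    (ModSite.extZeroAdj O U).leftAdjoint_preservesColimits
  have : PreservesFiniteColimits (ModSite.extZero O U) :=
    PreservesColimitsOfSize.preservesFiniteColimits _
  exact Groth.Agent.ModGroth.preservesFiniteLimits_of_mono _
    fun _ _ g _ => Groth.Agent.SiteMod.mono_extZero_map O U g

end Groth.Agent.S9086
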