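import Groth.Statements.S9087
import Groth.Agent.SiteMod.ExtKFlat
-- import your own Groth.Agent.* helpers here

set_option autoImplicit false
universe u
open CategoryTheory
open CategoryTheory.Limits
open ModSite

namespace Groth.Agent.S9087

/-- The reflection direction: on a small ringed site (C, O) with O commutative, localised at an object U
of C: if a complex G₁ → G₂ → G₃ of O_U-modules becomes exact in the middle after applying the
extension by zero functor j_{U!} (as a complex of O-modules), then it is exact in the middle. In
words, j_{U!} reflects exactness; that j_{U!} is exact is a separate statement and is not part of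
this one. -/
theorem result {C : Type u} [SmallCategory C] {J : GrothendieckTopology C}
    (O : Sheaf J CommRingCat.{u}) (U : C) (S : ShortComplex (ModSite.Mod (O.over U)))
    (h : (S.map (ModSite.extZero O U)).Exact) : S.Exact := by
  have : (ModSite.restr O U).Additive := ⟨rfl⟩
  have : (ModSite.extZero O U).Additive := (ModSite.extZeroAdj O U).left_adjoint_additive
  have : PreservesColimitsOfSize.{0, 0} (ModSite.extZero O U) :=
    (ModSite.extZeroAdj O U).leftAdjoint_preservesColimits
  have : PreservesFiniteColimits (ModSite.extZero O U) :=
    PreservesColimitsOfSize.preservesFiniteColimits _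
  have : PreservesFiniteLimits (ModSite.extZero O U) :=
    Groth.Agent.ModGroth.preservesFiniteLimits_of_mono _
      fun _ _ g _ => Groth.Agent.SiteMod.mono_extZero_map O U g
  rw [ShortComplex.exact_iff_isZero_homology] at h ⊢
  exact Groth.Agent.SiteMod.isZero_of_isZero_extZero O U
    (h.of_iso (S.mapHomologyIso (ModSite.extZero O U)).symm)

end Groth.Agent.S9087
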