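import Groth.Statements.S9089
import Mathlib
-- import your own Groth.Agent.* helpers here

set_option autoImplicit false
universe u
open CategoryTheory Opposite
open ModSite

namespace Groth.Agent.S9089

section Aux
theorem induction_step {C : Type u} [SmallCategory C] (J : GrothendieckTopology C)
    (O : Sheaf J CommRingCat.{u})
    (h : ∀ (U : C) (f : O.obj.obj (op U)), ∃ S ∈ J U, ∀ ⦃V : C⦄ (g : V ⟶ U), S g →
        IsUnit ((O.obj.map g.op).hom f) ∨ IsUnit ((O.obj.map g.op).hom (1 - f))) :
    ∀ (n : ℕ) (U : C) (f : Fin n → O.obj.obj (op U)) (a : Fin n → O.obj.obj (op U)), IsUnit (∑ i, a i * f i) → 1 ≤ n →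
        ∃ S ∈ J U, ∀ ⦃V : C⦄ (g : V ⟶ U), S g → ∃ i, IsUnit ((O.obj.map g.op).hom (f i)) := by
  classical
  intro n
  induction n with
  | zero => intro U f a _ h1; omega
  | succ n ih =>
    intro U f a ha _
    obtain ⟨w, hw⟩ := ha
    rcases Nat.eq_zero_or_pos n with rfl | hn
    · refine ⟨⊤, J.top_mem U, fun V g _ => ⟨0, ?_⟩⟩
      have h0 : IsUnit (a 0 * f 0) := ⟨w, by simpa using hw⟩
      exact (isUnit_of_mul_isUnit_right h0).map _
    · obtain ⟨S, hS, hS'⟩ := h U (↑w⁻¹ * (a 0 * f 0))
      have step : ∀ ⦃V : C⦄ (g : V ⟶ U), S g → ∃ T ∈ J V, ∀ ⦃W : C⦄ (q : W ⟶ V), T q →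
          ∃ i, IsUnit ((O.obj.map (q ≫ g).op).hom (f i)) := by
        intro V g hg
        rcases hS' g hg with hu | hu
        · refine ⟨⊤, J.top_mem V, fun W q _ => ⟨0, ?_⟩⟩
          simp only [op_comp, Functor.map_comp, CommRingCat.hom_comp, RingHom.coe_comp, Function.comp_apply]
          refine IsUnit.map _ ?_
          rw [map_mul, map_mul] at hu
          exact isUnit_of_mul_isUnit_right (isUnit_of_mul_isUnit_right hu)
        · obtain ⟨T, hT, hT'⟩ := ih V (fun i => (O.obj.map g.op).hom (f i.succ))
            (fun i => (O.obj.map g.op).hom (↑w⁻¹ * a i.succ)) (by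
              convert hu using 1
              simp only [← map_mul, ← map_sum]
              congr 1
              rw [eq_sub_iff_add_eq, ← Units.inv_mul w, hw, Fin.sum_univ_succ, mul_add, Finset.mul_sum, add_comm]
              congr 1
              exact Finset.sum_congr rfl fun i _ => mul_assoc _ _ _) hn
          refine ⟨T, hT, fun W q hq => ?_⟩
          obtain ⟨i, hi⟩ := hT' q hq
          exact ⟨i.succ, by
            simp only [op_comp, Functor.map_comp, CommRingCat.hom_comp, RingHom.coe_comp, Function.comp_apply]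
            exact hi⟩
      choose T hT hT' using step
      refine ⟨Sieve.bind S.arrows (fun V g hg => T g hg), J.bind_covering hS fun V g hg => hT g hg, ?_⟩
      rintro V g ⟨W, q, p, hp, hq, rfl⟩
      exact hT' p hp q hq

end Aux

/-- Part (1): ⇔ (2), for a ringed site (C, O) with C small and O a sheaf of commutative rings: the
following are equivalent. (1) For every object U and every section f of O over U there is a covering
sieve on U on each of whose arrows either f or 1 - f restricts to a unit. (2) For every object U,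
every n ≥ 1 and all sections f₁, …, fₙ of O over U generating the unit ideal of O(U), there is a
covering sieve on U on each of whose arrows some fᵢ restricts to a unit. -/
theorem result {C : Type u} [SmallCategory C] (J : GrothendieckTopology C)
    (O : Sheaf J CommRingCat.{u}) :
    (∀ (U : C) (f : O.obj.obj (op U)), ∃ S ∈ J U, ∀ ⦃V : C⦄ (g : V ⟶ U), S g →
        IsUnit ((O.obj.map g.op).hom f) ∨ IsUnit ((O.obj.map g.op).hom (1 - f))) ↔
    (∀ (U : C) (n : ℕ) (f : Fin n → O.obj.obj (op U)), 1 ≤ n → Ideal.span (Set.range f) = ⊤ →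
        ∃ S ∈ J U, ∀ ⦃V : C⦄ (g : V ⟶ U), S g → ∃ i, IsUnit ((O.obj.map g.op).hom (f i))) := by
  constructor
  · intro h U n f hn hf
    obtain ⟨a, ha⟩ := Ideal.mem_span_range_iff_exists_fun.mp (hf ▸ Submodule.mem_top (x := (1 : O.obj.obj (op U))))
    exact induction_step J O h n U f a (ha ▸ isUnit_one) hn
  · intro h U f
    obtain ⟨S, hS, hS'⟩ := h U 2 ![f, 1 - f] (by omega) (Ideal.eq_top_iff_one _ |>.mpr
      (Ideal.mem_span_range_iff_exists_fun.mpr ⟨fun _ => 1, by simp [Fin.sum_univ_two]⟩))
    refine ⟨S, hS, fun V g hg => ?_⟩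
    obtain ⟨i, hi⟩ := hS' g hg
    fin_cases i
    · exact Or.inl hi
    · exact Or.inr hi

end Groth.Agent.S9089
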