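import Groth.Statements.S9095
import Groth.Agent.SiteMod.FlatCrit
-- import your own Groth.Agent.* helpers here

set_option autoImplicit false
universe u
open CategoryTheory Opposite
open ModSite

namespace Groth.Agent.S9095

open Groth.Agent.ModGroth in
section
variable {C : Type u} [SmallCategory C] {J : GrothendieckTopology C} {O : Sheaf J CommRingCat.{u}}

/-- Equational criterion for finitely many relations. -/
theorem trivialisation_matrix_of_single {H : ModSite.Mod O}
    (hH : ∀ (U : C) (n : ℕ) (f : Fin n → O.obj.obj (op U)) (s : Fin n → ((fg O).obj H).obj (op U)),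
      ∑ j, f j • s j = 0 →
      ∃ S ∈ J U, ∀ ⦃V : C⦄ (g : V ⟶ U), S g →
        ∃ (t : ℕ) (b : Fin n → Fin t → O.obj.obj (op V)) (y : Fin t → ((fg O).obj H).obj (op V)),
          (∀ j, res ((fg O).obj H) g.op (s j) = ∑ k, b j k • y k) ∧
          ∀ k, ∑ j, (O.obj.map g.op).hom (f j) * b j k = 0) {U : C} {s : ℕ} (r : ℕ)
    (A : Fin r → Fin s → O.obj.obj (op U)) (h : Fin s → ((fg O).obj H).obj (op U))
    (hAh : ∀ i, ∑ j, A i j • h j = 0) :
    ∃ S ∈ J U, ∀ ⦃V : C⦄ (g : V ⟶ U), S g →
      ∃ (t : ℕ) (b : Fin s → Fin t → O.obj.obj (op V)) (y : Fin t → ((fg O).obj H).obj (op V)),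
        (∀ j, res ((fg O).obj H) g.op (h j) = ∑ k, b j k • y k) ∧
        ∀ i k, ∑ j, (O.obj.map g.op).hom (A i j) * b j k = 0 := by
  classical
  induction r with
  | zero =>
    refine ⟨⊤, J.top_mem U, fun V g _ => ⟨s, fun j k => if j = k then 1 else 0,
      fun k => res ((fg O).obj H) g.op (h k), fun j => ?_, fun i => i.elim0⟩⟩
    simp [ite_smul]
  | succ r ih =>
    obtain ⟨S, hS, hS'⟩ := ih (fun i => A i.castSucc) fun i => hAh _
    have key : ∀ ⦃V : C⦄ (g : V ⟶ U), S g → ∃ T ∈ J V, ∀ ⦃W : C⦄ (f : W ⟶ V), T f →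
        ∃ (t : ℕ) (b : Fin s → Fin t → O.obj.obj (op W)) (y : Fin t → ((fg O).obj H).obj (op W)),
          (∀ j, res ((fg O).obj H) (f ≫ g).op (h j) = ∑ k, b j k • y k) ∧
          ∀ i k, ∑ j, (O.obj.map (f ≫ g).op).hom (A i j) * b j k = 0 := by
      intro V g hg
      obtain ⟨t, b, y, h1, h2⟩ := hS' g hg
      have hlast : ∑ k, (∑ j, (O.obj.map g.op).hom (A (Fin.last r) j) * b j k) • y k = 0 := by
        have := congrArg (res ((fg O).obj H) g.op) (hAh (Fin.last r))
        rw [map_sum, map_zero] at this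
        refine Eq.trans ?_ this
        simp only [Finset.sum_smul, res_smul, h1, Finset.smul_sum, smul_smul]
        exact Finset.sum_comm
      obtain ⟨T, hT, hT'⟩ := hH _ _ _ y hlast
      refine ⟨T, hT, fun W f hf => ?_⟩
      obtain ⟨t', b', y', h1', h2'⟩ := hT' f hf
      have hmap : ∀ (x : O.obj.obj (op U)),
          (O.obj.map (f ≫ g).op).hom x = (O.obj.map f.op).hom ((O.obj.map g.op).hom x) := fun x => by
        rw [op_comp, Functor.map_comp]; rfl
      have hres : ∀ (x : ((fg O).obj H).obj (op U)), res ((fg O).obj H) (f ≫ g).op x =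
          res ((fg O).obj H) f.op (res ((fg O).obj H) g.op x) := fun x => by
        rw [op_comp, res_comp]
      refine ⟨t', fun j l => ∑ k, (O.obj.map f.op).hom (b j k) * b' k l, y', fun j => ?_, ?_⟩
      · rw [hres, h1, map_sum]
        simp only [res_smul, h1', Finset.smul_sum, smul_smul, Finset.sum_smul]
        exact Finset.sum_comm
      · intro i l
        have e : ∑ j, (O.obj.map (f ≫ g).op).hom (A i j) * ∑ k, (O.obj.map f.op).hom (b j k) * b' k l =
            ∑ k, (O.obj.map f.op).hom (∑ j, (O.obj.map g.op).hom (A i j) * b j k) * b' k l := by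
          simp only [Finset.mul_sum, Finset.sum_mul, map_sum, map_mul, hmap, mul_assoc]
          exact Finset.sum_comm
        rw [e]
        refine Fin.lastCases ?_ (fun i' => ?_) i
        · exact h2' l
        · simp only [h2 i', map_zero, zero_mul, Finset.sum_const_zero]
    choose T hT hT' using key
    refine ⟨Sieve.bind S.arrows T, J.bind_covering hS hT, fun V g hg => ?_⟩
    obtain ⟨W, f, g', hg', hf, rfl⟩ := hg
    exact hT' g' hg' f hf

end

/-- Part (1): ⇔ (2) (equational criterion of flatness), on a small ringed site (C, O) with O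
commutative: an O-module F is flat (tensoring with F is exact) if and only if for every object U,
every n, all sections f₁, …, fₙ of O over U and s₁, …, sₙ of F over U with Σ fⱼ sⱼ = 0, there is a
covering sieve on U such that for each of its arrows g : V → U there exist l, sections t₁, …, t_l of
F over V and coefficients a_{jk} in O(V) (j ≤ n, k ≤ l) with sⱼ|_V = Σ_k a_{jk} t_k for every j and
Σ_j a_{jk} fⱼ|_V = 0 for every k. -/
theorem result {C : Type u} [SmallCategory C] {J : GrothendieckTopology C}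
    (O : Sheaf J CommRingCat.{u}) (F : ModSite.Mod O) :
    ModSite.IsFlat F ↔
      ∀ (U : C) (n : ℕ) (f : Fin n → O.obj.obj (op U)) (s : Fin n → ModSite.sect F U),
        ∑ j, f j • s j = 0 →
        ∃ S ∈ J U, ∀ ⦃V : C⦄ (g : V ⟶ U), S g →
          ∃ (l : ℕ) (t : Fin l → ModSite.sect F V) (a : Fin n → Fin l → O.obj.obj (op V)),
            (∀ j, (F.val.map g.op).hom (s j) = ∑ k, a j k • t k) ∧
            (∀ k, ∑ j, a j k * (O.obj.map g.op).hom (f j) = 0) := by
  constructor
  · intro hF U n f s h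
    obtain ⟨S, hS, hS'⟩ := Groth.Agent.EqFlat.exists_local_trivialisation hF f s h
    refine ⟨S, hS, fun V g hg => ?_⟩
    obtain ⟨l, a, t, h1, h2⟩ := hS' g hg
    exact ⟨l, t, a, h1, fun k => (Finset.sum_congr rfl fun j _ => mul_comm _ _).trans (h2 k)⟩
  · intro h
    refine Groth.Agent.SiteMod.isFlat_of_crit fun U s r A x hA => ?_
    refine trivialisation_matrix_of_single (fun U n f s hs => ?_) r A x hA
    obtain ⟨S, hS, hS'⟩ := h U n f s hs
    refine ⟨S, hS, fun V g hg => ?_⟩
    obtain ⟨l, t, a, h1, h2⟩ := hS' g hg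
    exact ⟨l, a, t, h1, fun k => (Finset.sum_congr rfl fun j _ => mul_comm _ _).trans (h2 k)⟩

end Groth.Agent.S9095
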