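import Groth.Statements.S9097
import Mathlib

set_option autoImplicit false
universe u
open CategoryTheory Opposite
open CohSite

namespace Groth.Agent.S9097

open CategoryTheory Limits Opposite in
theorem sections_surjective {C : Type u} [SmallCategory C] (J : GrothendieckTopology C) {B Q : AddCommGrpCat.{u}}
    (q : B ⟶ Q) (hq : Function.Surjective q)
    (V : Cᵒᵖ) : Function.Surjective (((constantSheaf J AddCommGrpCat.{u}).map q).hom.app V) := by
  let U := forget AddCommGrpCat.{u}
  let e := constantCommuteCompose J U
  let σ : U.obj Q ⟶ U.obj B := TypeCat.ofHom (Function.surjInv hq)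
  have hσ : σ ≫ U.map q = 𝟙 _ := by ext x; exact Function.surjInv_eq hq x
  let τ := e.hom.app Q ≫ (constantSheaf J (Type u)).map σ ≫ e.inv.app B
  have hn : (sheafCompose J U).map ((constantSheaf J AddCommGrpCat.{u}).map q) =
      e.hom.app B ≫ (constantSheaf J (Type u)).map (U.map q) ≫ e.inv.app Q := by
    have h := e.hom.naturality q
    refine Eq.trans ?_ ((congrArg (· ≫ e.inv.app Q) h).trans (Category.assoc _ _ _))
    exact (by rw [Category.assoc, Iso.hom_inv_id_app, Category.comp_id]; rfl)
  have hτ : τ ≫ (sheafCompose J U).map ((constantSheaf J AddCommGrpCat.{u}).map q) = 𝟙 _ := by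
    rw [hn]
    simp only [τ, Category.assoc, Iso.inv_hom_id_app_assoc]
    rw [← Functor.map_comp_assoc, hσ, CategoryTheory.Functor.map_id]
    exact (congrArg (e.hom.app Q ≫ ·) (Category.id_comp _)).trans (e.hom_inv_id_app Q)
  intro s
  refine ⟨τ.hom.app V s, ?_⟩
  have h := congrArg (fun k => k.hom.app V) hτ
  exact ConcreteCategory.congr_hom h s

/-- If 0 → A → B → C → 0 is short exact in the category of abelian groups then, for every object U, the
sequence 0 → A̲(U) → B̲(U) → C̲(U) → 0 of sections of the constant abelian sheaves is short exact;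
in other words the sequence of constant sheaves is exact even as a sequence of abelian presheaves.
The instance binder on the sections-of-constant-sheaf functor (it preserves zero morphisms) always
holds and is only needed to form the complex. -/
theorem result {C : Type u} [SmallCategory C] (J : GrothendieckTopology C)
    (S : ShortComplex AddCommGrpCat.{u}) (hS : S.ShortExact) (U : C)
    [(constantSheaf J AddCommGrpCat.{u} ⋙ (sheafSections J AddCommGrpCat.{u}).obj (op U)).PreservesZeroMorphisms] :
    (S.map (constantSheaf J AddCommGrpCat.{u} ⋙ (sheafSections J AddCommGrpCat.{u}).obj (op U))).ShortExact := by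
  haveI : Limits.PreservesFiniteLimits (constantSheaf J AddCommGrpCat.{u}) := by
    unfold constantSheaf; exact Limits.comp_preservesFiniteLimits _ _
  haveI : Limits.PreservesFiniteLimits ((sheafSections J AddCommGrpCat.{u}).obj (Opposite.op U)) :=
    inferInstanceAs (Limits.PreservesFiniteLimits (sheafToPresheaf J AddCommGrpCat.{u} ⋙ (evaluation _ _).obj (Opposite.op U)))
  haveI : Limits.PreservesFiniteLimits (constantSheaf J AddCommGrpCat.{u} ⋙ (sheafSections J AddCommGrpCat.{u}).obj (Opposite.op U)) :=
    Limits.comp_preservesFiniteLimits _ _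
  haveI := hS.mono_f
  exact { exact := hS.exact.map_of_mono_of_preservesKernel _ hS.mono_f inferInstance
          mono_f := inferInstanceAs (Mono ((constantSheaf J AddCommGrpCat.{u} ⋙ (sheafSections J AddCommGrpCat.{u}).obj (Opposite.op U)).map S.f))
          epi_g := (AddCommGrpCat.epi_iff_surjective _).2
            (sections_surjective J S.g ((AddCommGrpCat.epi_iff_surjective _).1 hS.epi_g) (Opposite.op U)) }

end Groth.Agent.S9097
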