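import Groth.Statements.S9109
import Mathlib


set_option autoImplicit false
universe u
open CategoryTheory CategoryTheory.Limits
open CohSite

namespace Groth.Agent.S9109

/-- Part (1): on a small site (C, J) with a point p: the skyscraper functor p_* from abelian groups to
abelian sheaves on C (right adjoint to the stalk functor at p; its value on A is the sheaf U ↦ ∏_{x
∈ p⁻¹U} A) is exact. As a right adjoint it preserves limits; the statement here is that it also
preserves finite colimits. -/
theorem result {C : Type u} [SmallCategory C] {J : GrothendieckTopology C}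
    (p : GrothendieckTopology.Point.{u} J) :
    PreservesFiniteColimits (p.skyscraperSheafFunctor (A := AddCommGrpCat.{u})) := by
  haveI : (p.skyscraperSheafFunctor (A := AddCommGrpCat.{u})).IsRightAdjoint := p.skyscraperSheafAdjunction.isRightAdjoint
  haveI := Functor.additive_of_preserves_binary_products (p.skyscraperSheafFunctor (A := AddCommGrpCat.{u}))
  rw [Functor.preservesFiniteColimits_iff_forall_exact_map_and_epi]
  intro S hS
  refine ⟨hS.exact.map_of_mono_of_preservesKernel _ hS.mono_f inferInstance, ?_⟩
  haveI := hS.epi_g
  apply (sheafToPresheaf J AddCommGrpCat.{u}).epi_of_epi_map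
  haveI : ∀ U, Epi (((sheafToPresheaf J AddCommGrpCat.{u}).map ((p.skyscraperSheafFunctor (A := AddCommGrpCat.{u})).map S.g)).app U) := fun U => by
    show Epi (Limits.Pi.map fun _ : p.fiber.obj U.unop => S.g)
    haveI : ∀ i, Epi ((Discrete.natTrans fun _ : Discrete (p.fiber.obj U.unop) => S.g :
        Discrete.functor (fun _ : p.fiber.obj U.unop => S.X₂) ⟶ Discrete.functor fun _ : p.fiber.obj U.unop => S.X₃).app i) := fun _ => hS.epi_g
    haveI := NatTrans.epi_of_epi_app (Discrete.natTrans fun _ : Discrete (p.fiber.obj U.unop) => S.g :
        Discrete.functor (fun _ : p.fiber.obj U.unop => S.X₂) ⟶ Discrete.functor fun _ : p.fiber.obj U.unop => S.X₃)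
    exact (inferInstance : Epi (lim.map (Discrete.natTrans fun _ : Discrete (p.fiber.obj U.unop) => S.g :
        Discrete.functor (fun _ : p.fiber.obj U.unop => S.X₂) ⟶ Discrete.functor fun _ : p.fiber.obj U.unop => S.X₃)))
  exact NatTrans.epi_of_epi_app _

end Groth.Agent.S9109
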