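import Groth.Statements.S9128
import Groth.Agent.Catenary.Basic

set_option autoImplicit false
universe u
open CAlg

namespace Groth.Agent.S9128

/-- A Noetherian local ring A is catenary if and only if the assignment sending a prime p to the Krull
dimension of A/p is a dimension function on Spec A, i.e. it decreases strictly along strict
inclusions of primes and drops by exactly one along inclusions with no prime strictly in between. -/
theorem result (A : Type u) [CommRing A] [IsNoetherianRing A]
    [IsLocalRing A] :
    CAlg.IsCatenary A ↔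
      ∀ p q : PrimeSpectrum A, p < q →
        ringKrullDim (A ⧸ q.asIdeal) < ringKrullDim (A ⧸ p.asIdeal) ∧
          (p ⋖ q → ringKrullDim (A ⧸ p.asIdeal) = ringKrullDim (A ⧸ q.asIdeal) + 1) := by
  open Groth.Agent in
  simp only [← Hironaka.coheight_eq_ringKrullDim_quotient]
  constructor
  · intro h p q hpq
    refine ⟨WithBot.coe_lt_coe.mpr (Order.coheight_strictAnti hpq
      (lt_top_iff_ne_top.mpr (Hironaka.coheight_ne_top q))), fun hc => ?_⟩
    rw [Hironaka.coheight_of_covBy h hc, WithBot.coe_add, WithBot.coe_one]
  intro h
  have key : ∀ (n : ℕ) (s : LTSeries (PrimeSpectrum A)), s.length = n →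
      (∀ i : Fin s.length, s i.castSucc ⋖ s i.succ) → Order.coheight s.head = Order.coheight s.last + n := by
    intro n
    induction n with
    | zero =>
      intro s hs _
      rw [Nat.cast_zero, add_zero, show s.last = s.head from congrArg s (Fin.ext (by simp [hs]))]
    | succ n ih =>
      intro s hs hsat
      let t : LTSeries (PrimeSpectrum A) := s.eraseLast
      have h1 := ih t (by simp [t, hs]) fun i => hsat ⟨i.1, lt_of_lt_of_le i.2 (by simp [t])⟩
      have hc := hsat ⟨n, by omega⟩
      have h2 := (h _ _ hc.lt).2 hc
      rw [← WithBot.coe_one, ← WithBot.coe_add, WithBot.coe_inj] at h2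
      rw [show s.head = t.head from rfl, h1,
        show t.last = s (Fin.castSucc ⟨n, by omega⟩) from congrArg s (Fin.ext (by simp [t, hs])), h2,
        show s (Fin.succ ⟨n, by omega⟩) = s.last from congrArg s (Fin.ext (by simp [hs]))]
      push_cast
      rw [add_assoc, add_comm 1]
  refine ⟨fun p q _ => ?_, fun s t h1 h2 hs ht => ?_⟩
  · obtain ⟨n, hn⟩ := ENat.ne_top_iff_exists.mp (Hironaka.coheight_ne_top p)
    exact ⟨n, fun s hp _ => by exact_mod_cast (Order.length_le_coheight_head (p := s)).trans_eq (hp ▸ hn.symm)⟩
  · have e1 := key _ s rfl hs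
    rw [h2, h1, key _ t rfl ht] at e1
    obtain ⟨n, hn⟩ := ENat.ne_top_iff_exists.mp (Hironaka.coheight_ne_top t.last)
    rw [← hn] at e1
    have e2 : n + t.length = n + s.length := by exact_mod_cast e1
    omega

end Groth.Agent.S9128
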