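import Groth.Statements.S9129
import Groth.Agent.FlatDepthFormula.Apps
import Groth.Agent.DepthLib.CohenMacaulay
import Groth.Agent.DepthLib.FlatDepth
import Groth.Agent.J2Lib.Descent
-- import your own Groth.Agent.* helpers here

set_option autoImplicit false
universe u
open CAlg

namespace Groth.Agent.S9129
open Groth.Agent.FlatDepthFormula
open TensorProduct

/-- Suppose R → S is a flat local homomorphism between Noetherian local rings, with R Cohen–Macaulay.
Assume either that S is finite over R or that the Krull dimension of S is at most that of R. Then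
the two rings have equal dimension and S is itself Cohen–Macaulay. -/
theorem result (R S : Type u) [CommRing R] [CommRing S]
    [LocCoh.IsCohenMacaulayLocalRing R] [IsNoetherianRing S] [IsLocalRing S] [Algebra R S]
    [IsLocalHom (algebraMap R S)] [Module.Flat R S]
    (h : Module.Finite R S ∨ ringKrullDim S ≤ ringKrullDim R) :
    LocCoh.IsCohenMacaulayLocalRing S ∧ ringKrullDim R = ringKrullDim S := by
  haveI := (inferInstance : IsNoetherianRing R)
  have hdim : ringKrullDim R = ringKrullDim S := by
    refine le_antisymm (Groth.Agent.J2Lib.ringKrullDim_le_of_flat R S) (h.elim (fun hfin => ?_) id)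
    haveI := hfin
    refine Order.krullDim_le_of_strictMono (PrimeSpectrum.comap (algebraMap R S)) fun p q hpq => ?_
    obtain ⟨x, hxq, hxp⟩ := Set.exists_of_ssubset (show (p.asIdeal : Set S) ⊂ q.asIdeal from hpq)
    exact Ideal.comap_lt_comap_of_integral_mem_sdiff hpq.le ⟨hxq, hxp⟩ (Algebra.IsIntegral.isIntegral x)
  refine ⟨?_, hdim⟩
  rw [DepthLib.isCohenMacaulayLocalRing_iff, ← hdim, DepthLib.ringKrullDim_eq_depth (R := R), WithBot.coe_le_coe]
  refine le_trans (DepthLib.idealDepth_le_idealDepth_baseChange (A := R) (B := S) (M := R)) ?_
  rw [DepthLib.idealDepth_congr (TensorProduct.AlgebraTensorModule.rid R S S)]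
  exact DepthLib.idealDepth_mono map_maximalIdeal_le

end Groth.Agent.S9129
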