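import Groth.Statements.S9130
import Groth.Agent.DimInequality.Basic
set_option linter.style.haveILetI false

set_option autoImplicit false
universe u
open CAlg

namespace Groth.Agent.S9130

/-- Let A ⊆ B be domains with B of finite type over A and A Noetherian, and assume every element of B is
algebraic over A. For a height-one prime p of A, only finitely many primes of B lie over p and each
of them has height one. (The published statement assumes that Frac(B) is finite over Frac(A); this
row assumes B algebraic over A, which is equivalent for a finite type extension of domains.) -/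
theorem result (A B : Type u) [CommRing A] [IsDomain A]
    [IsNoetherianRing A] [CommRing B] [IsDomain B] [Algebra A B] [FaithfulSMul A B]
    [Algebra.FiniteType A B] [Algebra.IsAlgebraic A B] (p : Ideal A) [p.IsPrime]
    (hp : p.height = 1) :
    (p.primesOver B).Finite ∧ ∀ q ∈ p.primesOver B, q.height = 1 := by
  classical
  haveI : IsNoetherianRing B := Algebra.FiniteType.isNoetherianRing A B
  have hp0 : p ≠ ⊥ := Ideal.ne_bot_of_height_eq_one hp
  have hh : ∀ q ∈ p.primesOver B, q.height = 1 := by
    rintro q ⟨hqp, hlo⟩
    obtain ⟨hq, hp', b, e, h1, h2, -, h4, hle⟩ := Groth.Agent.DimInequality.height_inequality (R := A) q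
    rw [← hlo.over, hp] at h2
    have hp1 : hp' = 1 := by exact_mod_cast h2.symm
    have he : e = 0 := by
      rw [trdeg_eq_zero] at h4
      exact_mod_cast h4.symm
    have hq1 : hq ≤ 1 := by omega
    refine le_antisymm (h1 ▸ (by exact_mod_cast hq1)) ?_
    rw [Order.one_le_iff_pos, pos_iff_ne_zero, Ne, Ideal.height_eq_zero_iff_eq_bot]
    intro h0
    refine hp0 (le_bot_iff.1 fun x hx => ?_)
    rw [hlo.over, Ideal.mem_comap, h0, Ideal.mem_bot] at hx
    exact (Ideal.mem_bot).2 ((FaithfulSMul.algebraMap_eq_zero_iff A B).1 hx)
  refine ⟨(Ideal.finite_minimalPrimes_of_isNoetherianRing B (p.map (algebraMap A B))).subset fun q hq => ?_, hh⟩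
  haveI := hq.1
  refine Ideal.mem_minimalPrimes_of_height_le (Ideal.map_le_iff_le_comap.2 hq.2.over.le) ?_
  rw [hh q hq, Order.one_le_iff_pos, pos_iff_ne_zero, Ne, Ideal.height_eq_zero_iff_eq_bot]
  intro h0
  refine hp0 (le_bot_iff.1 fun x hx => ?_)
  have h := Ideal.mem_map_of_mem (algebraMap A B) hx
  rw [h0, Ideal.mem_bot] at h
  exact (Ideal.mem_bot).2 ((FaithfulSMul.algebraMap_eq_zero_iff A B).1 h)

end Groth.Agent.S9130
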