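import Groth.Statements.S9133
import Groth.Agent.KrullAkizuki.Basic

set_option autoImplicit false
universe u
open CAlg

namespace Groth.Agent.S9133

/-- Let R → S be a homomorphism of domains compatible with field maps K → L of their fraction fields (so
R → S is injective), where R is Noetherian local of dimension one and L is finite over K. Then each
prime n of S whose contraction to R is the maximal ideal of R is a maximal ideal of S, only finitely
many such n exist, and each quotient S/n is a finite R-module (its residue field is a finite
extension of that of R). -/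
theorem result (R S K L : Type u)
    [CommRing R] [IsDomain R] [IsNoetherianRing R] [IsLocalRing R] (hdim : ringKrullDim R = 1)
    [CommRing S] [IsDomain S] [Algebra R S] [Field K] [Field L] [Algebra R K] [IsFractionRing R K]
    [Algebra S L] [IsFractionRing S L] [Algebra K L] [Algebra R L] [IsScalarTower R K L]
    [IsScalarTower R S L] [FiniteDimensional K L] :
    (∀ n ∈ (IsLocalRing.maximalIdeal R).primesOver S, n.IsMaximal) ∧
      ((IsLocalRing.maximalIdeal R).primesOver S).Finite ∧
      ∀ n ∈ (IsLocalRing.maximalIdeal R).primesOver S, Module.Finite R (S ⧸ n) := by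
  haveI : Ring.KrullDimLE 1 R := Ring.krullDimLE_iff.mpr (by exact_mod_cast hdim.le)
  have hinj : Function.Injective (algebraMap S L) := IsFractionRing.injective S L
  obtain ⟨j, hj⟩ := Groth.Agent.KrullAkizuki.exists_embedding (R := R) (K := K) hinj
  have hRS : Function.Injective (algebraMap R S) := by
    have h := (algebraMap K L).injective.comp (IsFractionRing.injective R K)
    intro a b e
    apply h
    simp only [Function.comp_apply, ← IsScalarTower.algebraMap_apply]
    rw [IsScalarTower.algebraMap_apply R S L, e, ← IsScalarTower.algebraMap_apply]
  have hnf : ¬ IsField R := fun h => by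
    rw [ringKrullDim_eq_zero_of_isField h] at hdim
    exact absurd hdim (by simp)
  obtain ⟨x, hxm, hx⟩ := Submodule.exists_mem_ne_zero_of_ne_bot
    (fun h => hnf (IsLocalRing.isField_iff_maximalIdeal_eq.mpr h))
  have key : ∀ n ∈ (IsLocalRing.maximalIdeal R).primesOver S, algebraMap R S x ∈ n := by
    intro n hn
    have h := hn.2.over
    rw [h] at hxm
    exact hxm
  have hne : ∀ n ∈ (IsLocalRing.maximalIdeal R).primesOver S, n ≠ ⊥ := by
    intro n hn h
    have := key n hn
    rw [h, Ideal.mem_bot] at this
    exact hx (hRS (by rw [this, map_zero]))
  refine ⟨fun n hn => ?_, (Groth.Agent.KrullAkizuki.finite_primes_containing j hj x hx).subset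
    fun n hn => ⟨hn.1, key n hn⟩, fun n hn => Groth.Agent.KrullAkizuki.finite_quotient_of_injective j hj n (hne n hn)⟩
  haveI := hn.1
  exact Groth.Agent.KrullAkizuki.isMaximal_of_injective j hj n (hne n hn)

end Groth.Agent.S9133
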