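import Groth.Statements.S9135
import Mathlib.RingTheory.QuasiFinite.Basic
import Mathlib.RingTheory.IntegralClosure.IsIntegralClosure.Basic
import Mathlib.RingTheory.Localization.Integral
import Mathlib.RingTheory.RingHom.FiniteType

set_option autoImplicit false
universe u
open CAlg

namespace Groth.Agent.S9135

open scoped TensorProduct
open Polynomial

section
variable {R S : Type u} [CommRing R] [CommRing S] [Algebra R S] [Algebra.FiniteType R S]
  {p : Ideal R} [p.IsPrime]

lemma finite_fiber (hfin : (p.primesOver S).Finite) :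
    Module.Finite p.ResidueField (p.Fiber S) := by
  rw [Module.finite_iff_isArtinianRing, isArtinianRing_iff_isNoetherianRing_krullDimLE_zero]
  have : IsJacobsonRing (p.Fiber S) := isJacobsonRing_of_finiteType (A := p.ResidueField)
  have hfin' : (PrimeSpectrum.comap (algebraMap R S) ⁻¹' {⟨p, ‹_›⟩}).Finite := by
    refine Set.Finite.of_finite_image (hfin.subset ?_) (fun _ _ _ _ h => PrimeSpectrum.ext h)
    rintro _ ⟨x, hx, rfl⟩
    exact ⟨x.2, ⟨(congrArg PrimeSpectrum.asIdeal hx).symm⟩⟩
  have : Finite (PrimeSpectrum (p.Fiber S)) :=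
    (PrimeSpectrum.preimageEquivFiber R S ⟨p, ‹_›⟩).finite_iff.mp hfin'.to_subtype
  exact ⟨Algebra.FiniteType.isNoetherianRing p.ResidueField _,
    (PrimeSpectrum.discreteTopology_iff_finite_and_krullDimLE_zero.mp inferInstance).right⟩

lemma exists_poly (hp : p ∈ minimalPrimes R) (hfin : (p.primesOver S).Finite) (s : S) :
    ∃ P : R[X], P.leadingCoeff ∉ p ∧ aeval s P = 0 := by
  have := finite_fiber (R := R) (S := S) hfin
  obtain ⟨q, hq, hq0⟩ : IsIntegral p.ResidueField ((1 : p.ResidueField) ⊗ₜ[R] s : p.Fiber S) :=
    Algebra.IsIntegral.isIntegral _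
  set q' := IsLocalization.integerNormalization (nonZeroDivisors (R ⧸ p)) q with hq'
  have hq'0 : q' ≠ 0 := fun h => hq.ne_zero (IsFractionRing.integerNormalization_eq_zero_iff.mp h)
  have h1 := IsLocalization.integerNormalization_eval₂_eq_zero (nonZeroDivisors (R ⧸ p))
    (algebraMap p.ResidueField (p.Fiber S)) q (x := (1 : p.ResidueField) ⊗ₜ[R] s) hq0
  obtain ⟨P, hP, hPd⟩ := Polynomial.mem_lifts_and_degree_eq
    ((Polynomial.mem_lifts q').mpr (Polynomial.map_surjective _ Ideal.Quotient.mk_surjective q'))
  have hlead : P.leadingCoeff ∉ p := by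
    intro h
    apply hq'0
    rw [← Polynomial.leadingCoeff_eq_zero, ← hP]
    rw [leadingCoeff, natDegree_eq_natDegree (by rw [hP, hPd] : (P.map (Ideal.Quotient.mk p)).degree = P.degree),
      coeff_map, Ideal.Quotient.eq_zero_iff_mem]
    exact h
  -- `P(s)` lies in every prime over `p`
  have hmem : ∀ Q : Ideal S, Q.IsPrime → Q.comap (algebraMap R S) = p → aeval s P ∈ Q := by
    intro Q hQ hQp
    have : Q.LiesOver p := ⟨hQp.symm⟩
    rw [← Ideal.algebraMap_residueField_eq_zero]
    have hz : ((1 : p.ResidueField) ⊗ₜ[R] aeval s P : p.Fiber S) = 0 := by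
      rw [← hq', ← hP, eval₂_map] at h1
      rw [← Algebra.TensorProduct.includeRight_apply, ← Polynomial.aeval_algHom_apply,
        Algebra.TensorProduct.includeRight_apply, aeval_def]
      refine Eq.trans (congrArg (fun f : R →+* p.Fiber S => eval₂ f _ P) (RingHom.ext fun r => ?_)) h1
      exact IsScalarTower.algebraMap_apply R p.ResidueField (p.Fiber S) r
    have h3 := congrArg (Algebra.TensorProduct.lift (Ideal.ResidueField.mapₐ p Q (Algebra.ofId R S) (Ideal.over_def Q p))
      (IsScalarTower.toAlgHom R S Q.ResidueField) (fun _ _ => Commute.all _ _)) hz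
    simpa using h3
  -- hence it is killed up to nilpotence by an element outside `p`
  by_contra! hcon
  set x := aeval s P with hx
  let M : Submonoid S := (p.primeCompl.map (algebraMap R S : R →* S)) ⊔ Submonoid.powers x
  have hdisj : Disjoint ((⊥ : Ideal S) : Set S) (M : Set S) := by
    rw [Set.disjoint_left]
    rintro z hz hzM
    rw [SetLike.mem_coe, Ideal.mem_bot] at hz
    subst hz
    obtain ⟨_, ⟨g, hg, rfl⟩, _, ⟨n, rfl⟩, hgn⟩ := Submonoid.mem_sup.mp hzM
    refine hcon (C g * P ^ n) ?_ (by rw [map_mul, aeval_C, map_pow]; exact hgn)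
    have hne : g * P.leadingCoeff ^ n ∉ p :=
      p.primeCompl.mul_mem hg (pow_mem (show P.leadingCoeff ∈ p.primeCompl from hlead) n)
    have hne' : P.leadingCoeff ^ n ≠ 0 := fun h => hne (by rw [h, mul_zero]; exact p.zero_mem)
    rwa [leadingCoeff_mul' (by rw [leadingCoeff_C, leadingCoeff_pow' hne']; exact fun h => hne (h ▸ p.zero_mem)),
      leadingCoeff_C, leadingCoeff_pow' hne']
  obtain ⟨Q, hQ, -, hQM⟩ := Ideal.exists_le_prime_disjoint ⊥ M hdisj
  have hle : Q.comap (algebraMap R S) ≤ p := fun r hr => by
    by_contra hrp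
    exact Set.disjoint_left.mp hQM hr
      (Submonoid.mem_sup_left (Submonoid.mem_map_of_mem _ (show r ∈ p.primeCompl from hrp)))
  exact Set.disjoint_left.mp hQM
    (hmem Q hQ (le_antisymm hle (hp.2 ⟨inferInstance, bot_le⟩ hle)))
    (Submonoid.mem_sup_right (Submonoid.mem_powers x))

end

/-- Let R → S be of finite type and p a minimal prime of R over which only finitely many primes of S
lie. Then for some g ∈ R outside p the localized map R_g → S_g is finite. -/
theorem result (R S : Type u) [CommRing R] [CommRing S]
    [Algebra R S] [Algebra.FiniteType R S] (p : Ideal R) (hp : p ∈ minimalPrimes R)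
    (hfin : (p.primesOver S).Finite) :
    ∃ g : R, g ∉ p ∧ (Localization.awayMap (algebraMap R S) g).Finite := by
  have := hp.1.1
  classical
  obtain ⟨t, ht⟩ := (inferInstance : Algebra.FiniteType R S).out
  choose P hP1 hP2 using fun s : S => exists_poly hp hfin s
  set g := ∏ s ∈ t, (P s).leadingCoeff with hg
  refine ⟨g, ?_, ?_⟩
  · exact fun h => by
      obtain ⟨s, -, hs⟩ := Ideal.IsPrime.prod_mem_iff.mp h
      exact hP1 s hs
  set ψ := Localization.awayMap (algebraMap R S) g with hψ
  have hψc : ψ.comp (algebraMap R (Localization.Away g)) =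
      (algebraMap S (Localization.Away (algebraMap R S g))).comp (algebraMap R S) := by
    simp [hψ, Localization.awayMap, IsLocalization.Away.map]
  refine RingHom.IsIntegral.to_finite ?_ ?_
  · let B : Subalgebra R S :=
      { carrier := {y | ψ.IsIntegralElem (algebraMap S (Localization.Away (algebraMap R S g)) y)}
        mul_mem' := fun ha hb => by
          rw [Set.mem_setOf_eq, map_mul]; exact RingHom.IsIntegralElem.mul ψ ha hb
        one_mem' := by rw [Set.mem_setOf_eq, map_one]; exact RingHom.isIntegralElem_one ψ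
        add_mem' := fun ha hb => by
          rw [Set.mem_setOf_eq, map_add]; exact RingHom.IsIntegralElem.add ψ ha hb
        zero_mem' := by rw [Set.mem_setOf_eq, map_zero]; exact RingHom.isIntegralElem_zero ψ
        algebraMap_mem' := fun r => by
          rw [Set.mem_setOf_eq, ← RingHom.comp_apply, ← hψc]
          exact RingHom.isIntegralElem_map ψ }
    have hB : B = ⊤ := by
      rw [eq_top_iff, ← ht, Algebra.adjoin_le_iff]
      intro s hs
      have hu : IsUnit (algebraMap R (Localization.Away g) (P s).leadingCoeff) := by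
        refine isUnit_of_dvd_unit (map_dvd _ (Finset.dvd_prod_of_mem (fun s => (P s).leadingCoeff) hs)) ?_
        exact IsLocalization.Away.algebraMap_isUnit g
      have hlc : ((P s).map (algebraMap R (Localization.Away g))).leadingCoeff =
          algebraMap R (Localization.Away g) (P s).leadingCoeff := by
        rcases subsingleton_or_nontrivial (Localization.Away g) with h | h
        · exact Subsingleton.elim _ _
        · exact leadingCoeff_map_of_leadingCoeff_ne_zero _ hu.ne_zero
      refine ⟨C (↑hu.unit⁻¹ : Localization.Away g) * (P s).map (algebraMap R (Localization.Away g)), ?_, ?_⟩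
      · apply Monic.def.mpr
        rcases subsingleton_or_nontrivial (Localization.Away g) with h | h
        · exact Subsingleton.elim _ _
        rw [leadingCoeff_mul' (by rw [leadingCoeff_C, hlc]; simp), leadingCoeff_C, hlc]
        exact hu.val_inv_mul
      · rw [eval₂_mul, eval₂_map, hψc, ← hom_eval₂, ← aeval_def, hP2 s, map_zero, mul_zero]
    intro z
    obtain ⟨⟨y, ⟨_, n, rfl⟩⟩, hy⟩ := IsLocalization.surj (Submonoid.powers (algebraMap R S g)) z
    have hu : IsUnit (algebraMap R (Localization.Away g) g ^ n) := (IsLocalization.Away.algebraMap_isUnit g).pow n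
    have hz : z = algebraMap S _ y * ψ ↑hu.unit⁻¹ := by
      rw [← hy, mul_assoc, map_pow, ← RingHom.comp_apply, ← hψc, RingHom.comp_apply, ← map_pow, ← map_mul]
      simp
    rw [hz]
    exact RingHom.IsIntegralElem.mul ψ (hB ▸ Algebra.mem_top : y ∈ B) (RingHom.isIntegralElem_map ψ)
  · exact RingHom.localization_away_map_finiteType R S (Localization.Away g) (Localization.Away (algebraMap R S g)) (algebraMap R S) g (RingHom.finiteType_algebraMap.mpr inferInstance)

end Groth.Agent.S9135
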