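import Groth.Statements.S9136
import Groth.Agent.DegOrd.Basic
import Groth.Agent.S14503
-- import your own Groth.Agent.* helpers here

set_option autoImplicit false
universe u
open CAlg

namespace Groth.Agent.S9136

/-- Let A ⊆ B be a finite type extension of domains, A Noetherian local of dimension one, with
compatible fraction fields K ⊆ L and L finite over K. Then B has finitely many maximal ideals, and
for a nonzero x in the maximal ideal of A the sum over the maximal ideals m of B of (length of B/m
over A, i.e. the residue degree) times (length of B_m / x B_m over B_m) is at most the degree of L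
over K times the length of A/xA; equality holds exactly when B is a finite A-module. -/
theorem result (A B K L : Type u)
    [CommRing A] [IsDomain A] [IsNoetherianRing A] [IsLocalRing A] (hdim : ringKrullDim A = 1)
    [CommRing B] [IsDomain B] [Algebra A B] [FaithfulSMul A B] [Algebra.FiniteType A B]
    [Field K] [Field L] [Algebra A K] [IsFractionRing A K] [Algebra B L] [IsFractionRing B L]
    [Algebra K L] [Algebra A L] [IsScalarTower A K L] [IsScalarTower A B L] [FiniteDimensional K L]
    (x : A) (hx : x ∈ IsLocalRing.maximalIdeal A) (hx0 : x ≠ 0) :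
    Finite (MaximalSpectrum B) ∧
      (∑ᶠ m : MaximalSpectrum B,
          Module.length A (B ⧸ m.asIdeal) *
            Module.length (Localization.AtPrime m.asIdeal)
              (Localization.AtPrime m.asIdeal ⧸
                Ideal.span ({algebraMap A (Localization.AtPrime m.asIdeal) x} : Set _)) ≤
        (Module.finrank K L : ℕ∞) * Module.length A (A ⧸ Ideal.span ({x} : Set A))) ∧
      ((∑ᶠ m : MaximalSpectrum B,
          Module.length A (B ⧸ m.asIdeal) *
            Module.length (Localization.AtPrime m.asIdeal)
              (Localization.AtPrime m.asIdeal ⧸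
                Ideal.span ({algebraMap A (Localization.AtPrime m.asIdeal) x} : Set _)) =
        (Module.finrank K L : ℕ∞) * Module.length A (A ⧸ Ideal.span ({x} : Set A))) ↔ Module.Finite A B) := by
  classical
  haveI : Ring.KrullDimLE 1 A := Ring.krullDimLE_iff.mpr hdim.le
  have hinj : Function.Injective (algebraMap A B) := FaithfulSMul.algebraMap_injective A B
  obtain ⟨hle, hart⟩ := Groth.Agent.DegOrd.length_quot_le (B := B) (K := K) (L := L) x hx0
  haveI : FaithfulSMul A L := (faithfulSMul_iff_algebraMap_injective A L).mpr (by
    rw [IsScalarTower.algebraMap_eq A B L]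
    exact (IsFractionRing.injective B L).comp hinj)
  have halg : ∀ y : B, IsAlgebraic A y := fun y => by
    have h1 : IsAlgebraic A (algebraMap B L y) :=
      (IsFractionRing.isAlgebraic_iff A K L).mpr (Algebra.IsAlgebraic.isAlgebraic _)
    exact (isAlgebraic_algebraMap_iff (IsFractionRing.injective B L)).mp h1
  have hprime : ∀ p : Ideal A, p.IsPrime → p ≠ ⊥ → p = IsLocalRing.maximalIdeal A := fun p hp hne =>
    IsLocalRing.eq_maximalIdeal (Ring.krullDimLE_one_iff_of_isPrime_bot.mp ‹_› p hne hp)
  have hmax : ∀ m : Ideal B, m.IsMaximal → algebraMap A B x ∈ m → m.comap (algebraMap A B) = IsLocalRing.maximalIdeal A :=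
    fun m hm hxm => hprime _ (Ideal.comap_isPrime _ m) fun h => hx0 (by simpa [h] using (show x ∈ m.comap (algebraMap A B) from hxm))
  obtain ⟨hfinset, hsum⟩ := Groth.Agent.DegOrd.length_eq_sum (B := B) x hx hart hmax
  refine ⟨?_, ?_, ?_⟩
  · have hsub : (Set.univ : Set (MaximalSpectrum B)) ⊆
        {m : MaximalSpectrum B | algebraMap A B x ∈ m.asIdeal} ∪ {m | m.asIdeal = ⊥} := by
      intro m _
      by_cases hxm : algebraMap A B x ∈ m.asIdeal
      · exact Or.inl hxm
      · refine Or.inr (by_contra fun hne => hxm ?_)
        obtain ⟨y, hy, hy0⟩ := Submodule.exists_mem_ne_zero_of_ne_bot hne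
        haveI := m.isMaximal.isPrime
        have h2 := hprime _ (Ideal.comap_isPrime _ m.asIdeal) (Ideal.comap_ne_bot_of_algebraic_mem hy0 hy (halg y))
        exact (h2 ▸ hx : x ∈ m.asIdeal.comap (algebraMap A B))
    have hbot : {m : MaximalSpectrum B | m.asIdeal = ⊥}.Finite :=
      Set.Subsingleton.finite fun m hm m' hm' => MaximalSpectrum.ext (hm.trans hm'.symm)
    exact Set.finite_univ_iff.mp ((hfinset.union hbot).subset hsub)
  · rw [hsum]; exact hle
  · rw [hsum]
    refine ⟨fun h => Groth.Agent.DegOrd.finite_of_length_eq x hx hx0 h, fun hf => ?_⟩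
    have hr : algebraMap A B x ≠ 0 := (map_ne_zero_iff _ hinj).mpr hx0
    obtain ⟨hfl, hlen⟩ := Groth.Agent.S14503.result A hdim B hinj K L (algebraMap A B x) hr
    rw [← IsScalarTower.algebraMap_apply, IsScalarTower.algebraMap_apply A K L, Algebra.norm_algebraMap] at hlen
    have hxK : algebraMap A K x ≠ 0 := (map_ne_zero_iff _ (IsFractionRing.injective A K)).mpr hx0
    have hpow : ∀ n : ℕ, CycAlg.ordFrac A K (algebraMap A K x ^ n) = n * CycAlg.ordFrac A K (algebraMap A K x) := by
      intro n
      induction n with
      | zero => simp [Groth.Agent.LatticeDist.ord_one]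
      | succ n ih =>
        rw [pow_succ, Groth.Agent.LatticeDist.ord_mul (pow_ne_zero _ hxK) hxK, ih]
        push_cast; ring
    rw [hpow, Groth.Agent.LatticeDist.ord_algebraMap hx0] at hlen
    have hA : Module.length A (A ⧸ Ideal.span ({x} : Set A)) ≠ ⊤ :=
      Groth.Agent.KrullAkizuki.length_quotient_ne_top _ (by simpa using hx0)
    rw [← ENat.natCast_toNat hfl.ne, ← ENat.natCast_toNat hA]
    have h3 : (Module.length A (B ⧸ Ideal.span {algebraMap A B x})).toNat =
        Module.finrank K L * (Ring.ord A x).toNat := by exact_mod_cast hlen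
    rw [h3]
    push_cast
    rfl

end Groth.Agent.S9136
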