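import Groth.Statements.S9137
import Mathlib

set_option autoImplicit false
universe u
open CAlg

namespace Groth.Agent.S9137

/-- Let R → S be a local ring homomorphism between local rings, essentially of finite type, such that
the residue field of S is finite over that of R and S/m_R S has dimension zero. Then S is, as an
R-algebra, the localization of a finite R-algebra at a prime. -/
theorem result (R S : Type u) [CommRing R] [CommRing S]
    [IsLocalRing R] [IsLocalRing S] [Algebra R S] [IsLocalHom (algebraMap R S)]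
    [Algebra.EssFiniteType R S]
    (hres : Module.Finite (IsLocalRing.ResidueField R) (IsLocalRing.ResidueField S))
    (hdim : ringKrullDim (S ⧸ (IsLocalRing.maximalIdeal R).map (algebraMap R S)) = 0) :
    ∃ (S' : Type u) (_ : CommRing S') (_ : Algebra R S') (_ : Algebra S' S) (_ : IsScalarTower R S' S)
      (q : Ideal S') (_ : q.IsPrime), Module.Finite R S' ∧ IsLocalization.AtPrime S q := by

  classical
  let C := Algebra.EssFiniteType.subalgebra R S
  let M := Algebra.EssFiniteType.submonoid R S
  haveI : Algebra.FiniteType R C :=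
    ⟨(Subalgebra.fg_top _).2 (Subalgebra.fg_adjoin_finset (Algebra.EssFiniteType.finset R S))⟩
  haveI : IsLocalization M S := inferInstance
  let q : Ideal C := (IsLocalRing.maximalIdeal S).comap (algebraMap C S)
  haveI : q.IsPrime := Ideal.IsPrime.comap _
  have hMq : M ≤ q.primeCompl := fun u hu h =>
    (IsLocalRing.mem_maximalIdeal _).1 h (IsLocalization.map_units S (⟨u, hu⟩ : M))
  haveI hlocq : IsLocalization.AtPrime S q := by
    refine ⟨fun y => ?_, fun z => ?_, fun {x y} h => ?_⟩
    · by_contra hy
      exact y.2 ((IsLocalRing.mem_maximalIdeal _).2 hy)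
    · obtain ⟨⟨a, u⟩, h⟩ := IsLocalization.surj M z
      exact ⟨⟨a, u.1, hMq u.2⟩, h⟩
    · obtain ⟨u, hu⟩ := (IsLocalization.eq_iff_exists M S).1 h
      exact ⟨⟨u.1, hMq u.2⟩, hu⟩
  have hunder : q.under R = IsLocalRing.maximalIdeal R := by
    ext a
    change algebraMap C S (algebraMap R C a) ∈ IsLocalRing.maximalIdeal S ↔ _
    rw [← IsScalarTower.algebraMap_apply, IsLocalRing.mem_maximalIdeal, IsLocalRing.mem_maximalIdeal]
    exact not_congr (isUnit_map_iff (algebraMap R S) a)
  -- the closed fibre is finite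
  let m := IsLocalRing.maximalIdeal R
  let Sb := S ⧸ m.map (algebraMap R S)
  haveI : Nontrivial Sb := Ideal.Quotient.nontrivial_iff.2 (by
    intro h
    have hle : m.map (algebraMap R S) ≤ IsLocalRing.maximalIdeal S :=
      ((IsLocalRing.local_hom_TFAE (algebraMap R S)).out 0 2 rfl rfl).mp inferInstance
    exact (IsLocalRing.maximalIdeal.isMaximal S).ne_top (top_le_iff.1 (h ▸ hle)))
  haveI : Algebra.EssFiniteType R Sb :=
    Algebra.EssFiniteType.of_surjective (Ideal.Quotient.mkₐ R _) Ideal.Quotient.mk_surjective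
  haveI : IsLocalRing Sb := IsLocalRing.of_surjective' _ Ideal.Quotient.mk_surjective
  letI : Algebra (R ⧸ m) Sb := (Ideal.quotientMap _ (algebraMap R S) Ideal.le_comap_map).toAlgebra
  haveI : IsScalarTower R (R ⧸ m) Sb := IsScalarTower.of_algebraMap_eq fun _ => rfl
  letI : Field (R ⧸ m) := Ideal.Quotient.field m
  haveI : Algebra.EssFiniteType (R ⧸ m) Sb := Algebra.EssFiniteType.of_comp R (R ⧸ m) Sb
  haveI : IsNoetherianRing Sb := Algebra.EssFiniteType.isNoetherianRing (R ⧸ m) Sb
  haveI : Ring.KrullDimLE 0 Sb := Ring.krullDimLE_iff.2 hdim.le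
  have hk : Module.Finite R (IsLocalRing.ResidueField S) :=
    haveI : Module.Finite R (IsLocalRing.ResidueField R) :=
      Module.Finite.of_surjective (Algebra.linearMap R _) Ideal.Quotient.mk_surjective
    Module.Finite.trans (IsLocalRing.ResidueField R) (IsLocalRing.ResidueField S)
  let π : Sb →ₐ[R] IsLocalRing.ResidueField S := Ideal.Quotient.liftₐ _
    (IsScalarTower.toAlgHom R S (IsLocalRing.ResidueField S)) (fun a ha => by
      have hle : m.map (algebraMap R S) ≤ IsLocalRing.maximalIdeal S :=
        ((IsLocalRing.local_hom_TFAE (algebraMap R S)).out 0 2 rfl rfl).mp inferInstance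
      exact Ideal.Quotient.eq_zero_iff_mem.2 (hle ha))
  have hπ : Function.Surjective π := fun y => by
    obtain ⟨x, rfl⟩ := IsLocalRing.residue_surjective y
    exact ⟨Ideal.Quotient.mk _ x, rfl⟩
  haveI hSb : Module.Finite R Sb := by
    haveI := hk
    refine Module.finite_of_surjective_of_ker_le_nilradical π hπ ?_ (IsNoetherian.noetherian _)
    rw [Ring.KrullDimLE.nilradical_eq_maximalIdeal]
    exact IsLocalRing.le_maximalIdeal (RingHom.ker_ne_top _)
  haveI : Algebra.QuasiFinite R Sb := inferInstance
  haveI : Algebra.WeaklyQuasiFiniteAt R q := by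
    rw [Algebra.weaklyQuasiFiniteAt_iff, hunder]
    let e : Localization.AtPrime q ≃ₐ[R] S := (IsLocalization.algEquiv q.primeCompl _ S).restrictScalars R
    refine (Algebra.QuasiFinite.iff_of_algEquiv (Ideal.quotientEquivAlg
      (m.map (algebraMap R (Localization.AtPrime q))) (m.map (algebraMap R S)) e ?_)).2 inferInstance
    rw [Ideal.map_map]
    congr 1
    ext a
    exact (e.commutes a).symm
  obtain ⟨S', hS', r, hrq, hbij⟩ :=
    Algebra.QuasiFiniteAt.exists_fg_and_exists_notMem_and_awayMap_bijective (R := R) q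
  letI : Algebra S' S := ((algebraMap C S).comp S'.val.toRingHom).toAlgebra
  haveI : IsScalarTower R S' S := IsScalarTower.of_algebraMap_eq fun a =>
    IsScalarTower.algebraMap_apply R C S a
  haveI : Module.Finite R S' := ⟨(Submodule.fg_top _).mpr hS'⟩
  have key : ∀ c : C, ∃ (n : ℕ) (a : S'), (r : C) ^ n * c = (a : C) := by
    intro c
    obtain ⟨z, hz⟩ := hbij.2 (algebraMap C _ c)
    obtain ⟨a, ⟨_, n, rfl⟩, rfl⟩ := IsLocalization.exists_mk'_eq (Submonoid.powers r) z
    simp only [Localization.awayMap, IsLocalization.Away.map, IsLocalization.map_mk'] at hz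
    rw [IsLocalization.mk'_eq_iff_eq_mul, ← map_mul, IsLocalization.eq_iff_exists (Submonoid.powers (S'.val.toRingHom r))] at hz
    obtain ⟨⟨_, k, rfl⟩, hk⟩ := hz
    refine ⟨k + n, r ^ k * a, ?_⟩
    simp only [AlgHom.toRingHom_eq_coe, RingHom.coe_coe, Subalgebra.coe_val, SubmonoidClass.coe_pow] at hk
    push_cast
    rw [hk]; ring
  have hr : ∀ n : ℕ, (r : C) ^ n ∉ q := fun n h => hrq (Ideal.IsPrime.mem_of_pow_mem inferInstance n h)
  refine ⟨↥S', inferInstance, inferInstance, ((algebraMap C S).comp S'.val.toRingHom).toAlgebra,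
    IsScalarTower.of_algebraMap_eq fun a => IsScalarTower.algebraMap_apply R C S a,
    q.comap S'.val.toRingHom, Ideal.IsPrime.comap _, inferInstance, ?_⟩
  refine ⟨fun y => IsLocalization.map_units S (⟨S'.val y.1, y.2⟩ : q.primeCompl), fun z => ?_, fun {x y} h => ?_⟩
  · obtain ⟨⟨c, u, hu⟩, h⟩ := IsLocalization.surj q.primeCompl z
    obtain ⟨n₁, a, ha⟩ := key c
    obtain ⟨n₂, b, hb⟩ := key u
    refine ⟨⟨a * r ^ n₂, b * r ^ n₁, fun hm => ?_⟩, ?_⟩
    · change ((b * r ^ n₁ : S') : C) ∈ q at hm
      push_cast at hm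
      rw [← hb] at hm
      rcases Ideal.IsPrime.mem_or_mem inferInstance hm with hm | hm
      · rcases Ideal.IsPrime.mem_or_mem inferInstance hm with hm | hm
        · exact hr _ hm
        · exact hu hm
      · exact hr _ hm
    · change z * algebraMap C S ((b * r ^ n₁ : S') : C) = algebraMap C S ((a * r ^ n₂ : S') : C)
      have h' : z * algebraMap C S u = algebraMap C S c := h
      generalize algebraMap C S = φ at h' ⊢
      push_cast
      rw [← ha, ← hb, map_mul, map_mul, map_mul, map_mul, ← h']
      ring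
  · obtain ⟨⟨u, hu⟩, huxy⟩ := (IsLocalization.eq_iff_exists q.primeCompl S).1
      (show algebraMap C S (x : C) = algebraMap C S (y : C) from h)
    obtain ⟨n, b, hb⟩ := key u
    refine ⟨⟨b, fun hm => ?_⟩, Subtype.ext ?_⟩
    · change (b : C) ∈ q at hm
      rw [← hb] at hm
      exact (Ideal.IsPrime.mem_or_mem inferInstance hm).elim (hr _) hu
    · push_cast
      rw [← hb, mul_assoc, mul_assoc]
      exact congrArg _ huxy

end Groth.Agent.S9137
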