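import Mathlib
import Groth.Statements.S9139
-- import your own Groth.Agent.* helpers here

set_option autoImplicit false
universe u
open CAlg

namespace Groth.Agent.S9139

/-- Let I be a locally nilpotent ideal of a ring R (every element of I is nilpotent) and S → S' a map of
R-algebras with S' of finite type over R. If S → S'/IS' is surjective then so is S → S'. -/
theorem result (R S S' : Type u) [CommRing R] [CommRing S]
    [CommRing S'] [Algebra R S] [Algebra R S'] [Algebra.FiniteType R S'] (I : Ideal R)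
    (hI : ∀ x ∈ I, IsNilpotent x) (f : S →ₐ[R] S')
    (hf : Function.Surjective ((Ideal.Quotient.mk (I.map (algebraMap R S'))).comp f.toRingHom)) :
    Function.Surjective f := by
  classical
  obtain ⟨g, hg⟩ := (inferInstance : Algebra.FiniteType R S').out
  have h1 : ∀ x : S', ∃ T : Finset R, (↑T ⊆ (I : Set R)) ∧ ∃ s, x - f s ∈ Ideal.map (algebraMap R S') (Ideal.span ↑T) := fun x => by
    obtain ⟨s, hs⟩ := hf (Ideal.Quotient.mk _ x)
    have h2 : x - f s ∈ Submodule.span S' (algebraMap R S' '' (I : Set R)) := Ideal.Quotient.eq.mp hs.symm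
    obtain ⟨T₀, hT₀, h3⟩ := Submodule.mem_span_finite_of_mem_span h2
    obtain ⟨T, hT, rfl⟩ := Finset.subset_set_image_iff.mp hT₀
    refine ⟨T, hT, s, ?_⟩
    rw [Ideal.map_span]
    simpa using h3
  choose T hT s hs using h1
  let J : Ideal R := Ideal.span ↑(g.biUnion T)
  have hJ : IsNilpotent J := (Ideal.FG.isNilpotent_iff_le_nilradical ⟨_, rfl⟩).mpr (Ideal.span_le.mpr fun x hx => by
    obtain ⟨i, -, hi⟩ := Finset.mem_biUnion.mp hx
    exact hI x (hT i hi))
  let mkJ := Ideal.Quotient.mkₐ R (J.map (algebraMap R S'))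
  have htop : (⊤ : Subalgebra R S') ≤ (f.range.map mkJ).comap mkJ := by
    rw [← hg, Algebra.adjoin_le_iff]
    intro x hx
    refine ⟨f (s x), ⟨s x, rfl⟩, (Ideal.Quotient.eq.mpr ?_).symm⟩
    exact Ideal.map_mono (Ideal.span_mono (Finset.coe_subset.mpr (Finset.subset_biUnion_of_mem T hx))) (hs x)
  have h4 : (⊤ : Submodule R S') ≤ f.range.toSubmodule ⊔ J • ⊤ := fun x _ => by
    obtain ⟨c, hc, hcx⟩ := htop (Algebra.mem_top : x ∈ ⊤)
    refine Submodule.mem_sup.mpr ⟨c, hc, x - c, ?_, add_sub_cancel _ _⟩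
    rw [Ideal.smul_top_eq_map]
    exact Ideal.Quotient.eq.mp hcx.symm
  have h5 : ∀ k, (⊤ : Submodule R S') ≤ f.range.toSubmodule ⊔ J ^ k • ⊤ := by
    intro k
    induction k with
    | zero => rw [pow_zero, Ideal.one_eq_top, Submodule.top_smul]; exact le_sup_right
    | succ k ih =>
      refine ih.trans (sup_le le_sup_left ?_)
      calc J ^ k • (⊤ : Submodule R S') ≤ J ^ k • (f.range.toSubmodule ⊔ J • ⊤) := Submodule.smul_mono le_rfl h4
        _ ≤ _ := by
          rw [Submodule.smul_sup, ← Submodule.mul_smul, ← pow_succ]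
          exact sup_le_sup_right Submodule.smul_le_right _
  obtain ⟨k, hk⟩ := hJ
  intro x
  have h6 := h5 k (Submodule.mem_top : x ∈ _)
  rw [hk] at h6
  simpa using h6

end Groth.Agent.S9139
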