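import Groth.Statements.S9140
import Mathlib
-- import your own Groth.Agent.* helpers here

set_option autoImplicit false
universe u
open CAlg

namespace Groth.Agent.S9140

/-- Let I be a locally nilpotent ideal of a ring R and S → S' a map of R-algebras with S of finite type
over R and S' of finite presentation and flat over R. If the induced map S/IS → S'/IS' is bijective
(stated as: S → S'/IS' is surjective with kernel IS), then S → S' is bijective. -/
theorem result (R S S' : Type u)
    [CommRing R] [CommRing S] [CommRing S'] [Algebra R S] [Algebra R S'] [Algebra.FiniteType R S]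
    [Algebra.FinitePresentation R S'] [Module.Flat R S'] (I : Ideal R) (hI : ∀ x ∈ I, IsNilpotent x)
    (f : S →ₐ[R] S')
    (hsurj : Function.Surjective ((Ideal.Quotient.mk (I.map (algebraMap R S'))).comp f.toRingHom))
    (hker : ∀ s : S, f s ∈ I.map (algebraMap R S') → s ∈ I.map (algebraMap R S)) :
    Function.Bijective f := by
  classical
  let J : Ideal S := I.map (algebraMap R S)
  have hJ : J ≤ Ideal.jacobson ⊥ := by
    refine le_trans ?_ ((nilradical_le_jacobson S).trans_eq Ideal.jacobson_bot.symm)
    rw [Ideal.map_le_iff_le_comap]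
    intro x hx
    exact mem_nilradical.2 ((hI x hx).map _)
  have hJ' : J.map f.toRingHom = I.map (algebraMap R S') := by
    rw [Ideal.map_map]
    congr 1
    exact f.comp_algebraMap
  have hfs : Function.Surjective f := by
    letI : Algebra S S' := f.toRingHom.toAlgebra
    have : IsScalarTower R S S' := IsScalarTower.of_algebraMap_eq fun r => (f.commutes r).symm
    have : Algebra.FiniteType S S' := Algebra.FiniteType.of_restrictScalars_finiteType R S S'
    have : Algebra.IsIntegral S S' := ⟨fun y => by
      obtain ⟨s, hs⟩ := hsurj (Ideal.Quotient.mk _ y)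
      have hz : y - f s ∈ I.map (algebraMap R S') := by
        rw [← Ideal.Quotient.eq_zero_iff_mem, map_sub, sub_eq_zero]; exact hs.symm
      have hn : IsNilpotent (y - f s) := by
        refine mem_nilradical.1 (?_ : _ ∈ nilradical S')
        refine (Ideal.map_le_iff_le_comap.2 ?_) hz
        intro x hx
        exact mem_nilradical.2 ((hI x hx).map _)
      obtain ⟨n, hn⟩ := hn
      have h1 : IsIntegral S (y - f s) := ⟨Polynomial.X ^ n, Polynomial.monic_X_pow n, by simp [hn]⟩
      rw [← sub_add_cancel y (f s)]
      exact h1.add (isIntegral_algebraMap (R := S) (A := S') (x := s))⟩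
    have : Module.Finite S S' := Algebra.IsIntegral.finite
    have hle : (⊤ : Submodule S S') ≤ LinearMap.range (Algebra.linearMap S S') ⊔ J • ⊤ := by
      intro y _
      obtain ⟨s, hs⟩ := hsurj (Ideal.Quotient.mk _ y)
      have hz : y - f s ∈ I.map (algebraMap R S') := by
        rw [← Ideal.Quotient.eq_zero_iff_mem, map_sub, sub_eq_zero]; exact hs.symm
      refine Submodule.mem_sup.2 ⟨f s, ⟨s, rfl⟩, y - f s, ?_, by ring⟩
      rw [Ideal.smul_top_eq_map, Submodule.restrictScalars_mem]
      show y - f s ∈ J.map f.toRingHom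
      rwa [hJ']
    have := Submodule.le_of_le_smul_of_le_jacobson_bot (Module.Finite.fg_top) hJ hle
    intro y
    obtain ⟨s, hs⟩ := this (trivial : y ∈ ⊤)
    exact ⟨s, hs⟩
  refine ⟨?_, hfs⟩
  obtain ⟨n, g, hg⟩ := Algebra.FiniteType.iff_quotient_mvPolynomial''.1 (inferInstance : Algebra.FiniteType R S)
  have hfg : (RingHom.ker f.toRingHom).FG := by
    have h1 := Algebra.FinitePresentation.ker_fG_of_surjective (f.comp g) (hfs.comp hg)
    convert h1.map g.toRingHom
    simp_rw [RingHom.ker_eq_comap_bot, AlgHom.toRingHom_eq_coe, AlgHom.comp_toRingHom]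
    rw [← Ideal.comap_comap, Ideal.map_comap_of_surjective (g : MvPolynomial (Fin n) R →+* S) hg]
  have hK : RingHom.ker f.toRingHom ≤ J • RingHom.ker f.toRingHom := by
    intro x hx
    have hfx : f x = 0 := hx
    have hxJ : x ∈ J := hker x (by rw [hfx]; exact zero_mem _)
    have hxJ' : x ∈ I • (⊤ : Submodule R S) := by
      rw [Ideal.smul_top_eq_map]; exact hxJ
    obtain ⟨m, i, s, hi, hs⟩ : ∃ (m : ℕ) (i : Fin m → R) (s : Fin m → S), (∀ k, i k ∈ I) ∧ x = ∑ k, i k • s k := by
      refine Submodule.smul_induction_on hxJ' ?_ ?_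
      · intro r hr y _
        exact ⟨1, fun _ => r, fun _ => y, fun _ => hr, by simp⟩
      · rintro y z ⟨m, i, s, hi, rfl⟩ ⟨m', i', s', hi', rfl⟩
        exact ⟨m + m', Fin.append i i', Fin.append s s', fun k => Fin.addCases (by simpa using hi) (by simpa using hi') k, by simp [Fin.sum_univ_add]⟩
    have hrel : ∑ k, i k • f (s k) = 0 := by
      simp only [← map_smul, ← map_sum, ← hs, hfx]
    obtain ⟨l, a, y, hy, ha⟩ := Module.Flat.isTrivialRelation_of_sum_smul_eq_zero (R := R) (M := S') (f := i) (x := fun k => f (s k)) hrel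
    choose t ht using fun j => hfs (y j)
    have hx2 : x = ∑ k, algebraMap R S (i k) • (s k - ∑ j, a k j • t j) := by
      simp only [algebraMap_smul, smul_sub, Finset.sum_sub_distrib, Finset.smul_sum, ← hs]
      rw [Finset.sum_comm]
      simp [smul_smul, ← Finset.sum_smul, ha]
    rw [hx2]
    exact Submodule.sum_mem _ fun k _ => Submodule.smul_mem_smul (Ideal.mem_map_of_mem _ (hi k)) (show f (s k - ∑ j, a k j • t j) = 0 by simp [hy k, ht])
  have hbot := Submodule.eq_bot_of_le_smul_of_le_jacobson_bot J _ hfg hK hJ
  exact (RingHom.injective_iff_ker_eq_bot f.toRingHom).2 hbot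

end Groth.Agent.S9140
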