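import Groth.Statements.S9152
import Groth.Agent.OpenLoci.Regular
-- import your own Groth.Agent.* helpers here

set_option autoImplicit false
universe u
open CAlg

namespace Groth.Agent.S9152

/-- The Cohen–Macaulay locus of a finite type algebra over a field is open. -/
theorem result (k S : Type u) [Field k] [CommRing S] [Algebra k S]
    [Algebra.FiniteType k S] :
    IsOpen {q : PrimeSpectrum S | LocCoh.IsCohenMacaulayLocalRing (Localization.AtPrime q.asIdeal)} := by
  obtain ⟨m, f, hf⟩ := Algebra.FiniteType.iff_quotient_mvPolynomial''.mp (inferInstance : Algebra.FiniteType k S)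
  haveI : IsNoetherianRing S := Algebra.FiniteType.isNoetherianRing k S
  letI := f.toRingHom.toAlgebra
  rw [Groth.Agent.OpenLoci.cmLocus_eq S]
  exact Groth.Agent.OpenLoci.isOpen_codepthLocus S
    (Groth.Agent.OpenLoci.genCM_of_regular_quotient (MvPolynomial (Fin m) k) S hf) 0

end Groth.Agent.S9152
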