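import Groth.Statements.S9153
import Groth.Agent.S9154
import Mathlib


set_option autoImplicit false
universe u
open CAlg

namespace Groth.Agent.S9153

/-- In a polynomial ring in finitely many variables over a field, every saturated chain of primes
between two primes p ⊆ q has length equal to the difference of their heights (stated additively:
length + height p = height q). -/
theorem result (k : Type u) [Field k] (n : ℕ)
    (s : LTSeries (PrimeSpectrum (MvPolynomial (Fin n) k)))
    (hsat : ∀ i : Fin s.length, s (Fin.castSucc i) ⋖ s (Fin.succ i)) :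
    (s.length : ℕ∞) + s.head.asIdeal.height = s.last.asIdeal.height := by
  have hdimP : ringKrullDim (MvPolynomial (Fin n) k) = (n : ℕ) := by
    rw [MvPolynomial.ringKrullDim_of_isNoetherianRing, ringKrullDim_eq_zero_of_field]
    simp
  have heqd : ∀ (A : Type u) (_ : CommRing A) (_ : IsDomain A) (d : ℕ), ringKrullDim A = d →
      ∀ p ∈ minimalPrimes A, ringKrullDim (A ⧸ p) = d := by
    intro A _ _ d hd p hp
    rw [IsDomain.minimalPrimes_eq_singleton_bot, Set.mem_singleton_iff] at hp
    subst hp
    rw [ringKrullDim_eq_of_ringEquiv (RingEquiv.quotientBot A)]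
    exact hd
  have hspec : ∀ q : PrimeSpectrum (MvPolynomial (Fin n) k), ∃ h e : ℕ, q.asIdeal.height = h ∧
      ringKrullDim (MvPolynomial (Fin n) k ⧸ q.asIdeal) = e ∧ h + e = n := fun q =>
    Groth.Agent.S9154.height_add_dim k _ n (heqd _ inferInstance inferInstance n hdimP) q.asIdeal
  choose ht dq hht hdq hsum using hspec
  have step : ∀ p q : PrimeSpectrum (MvPolynomial (Fin n) k), p ⋖ q → ht q = ht p + 1 := by
    intro p q hpq
    let A := MvPolynomial (Fin n) k ⧸ p.asIdeal
    let qA : Ideal A := q.asIdeal.map (Ideal.Quotient.mk p.asIdeal)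
    have hle : p.asIdeal ≤ q.asIdeal := hpq.le
    haveI hqA : qA.IsPrime := Ideal.map_isPrime_of_surjective Ideal.Quotient.mk_surjective
      (by rw [Ideal.mk_ker]; exact hle)
    obtain ⟨h, e, hh, he, hs⟩ := Groth.Agent.S9154.height_add_dim k A (dq p)
      (heqd A inferInstance inferInstance _ (hdq p)) qA
    have he' : e = dq q := by
      have := ringKrullDim_eq_of_ringEquiv (DoubleQuot.quotQuotEquivQuotOfLE hle)
      rw [he, hdq q] at this
      exact_mod_cast this
    have hcom : qA.comap (Ideal.Quotient.mk p.asIdeal) = q.asIdeal := by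
      rw [Ideal.comap_map_of_surjective _ Ideal.Quotient.mk_surjective, ← RingHom.ker_eq_comap_bot, Ideal.mk_ker]
      exact sup_eq_left.2 hle
    have h1 : qA.height = 1 := by
      let x : PrimeSpectrum A := ⟨qA, hqA⟩
      show x.asIdeal.height = _
      rw [PrimeSpectrum.height_eq_orderHeight, ← Nat.cast_one, Order.height_eq_coe_iff]
      have hbot : ∀ y : PrimeSpectrum A, y < x → IsMin y := by
        intro y hy z hz
        have hyc : (⟨y.asIdeal.comap (Ideal.Quotient.mk p.asIdeal), inferInstance⟩ :
            PrimeSpectrum (MvPolynomial (Fin n) k)) < q := by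
          show y.asIdeal.comap _ < q.asIdeal
          refine lt_of_le_of_ne (hcom ▸ Ideal.comap_mono hy.le) fun hh => hy.ne ?_
          apply PrimeSpectrum.ext
          show y.asIdeal = qA
          rw [← Ideal.map_comap_of_surjective _ Ideal.Quotient.mk_surjective y.asIdeal, hh]
        have hp' : p ≤ (⟨y.asIdeal.comap (Ideal.Quotient.mk p.asIdeal), inferInstance⟩ :
            PrimeSpectrum (MvPolynomial (Fin n) k)) := by
          show p.asIdeal ≤ _
          refine le_trans (le_of_eq Ideal.mk_ker.symm) (Ideal.comap_mono bot_le)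
        have := (hpq.eq_or_eq hp' hyc.le).resolve_right hyc.ne
        show y.asIdeal ≤ z.asIdeal
        have e1 : y.asIdeal = ⊥ := by
          have := congrArg PrimeSpectrum.asIdeal this
          rw [← Ideal.map_comap_of_surjective _ Ideal.Quotient.mk_surjective y.asIdeal]
          rw [show y.asIdeal.comap (Ideal.Quotient.mk p.asIdeal) = p.asIdeal from this, Ideal.map_quotient_self]
        rw [e1]; exact bot_le
      refine ⟨?_, Or.inr ⟨⟨⊥, Ideal.isPrime_bot⟩, ?_, ?_⟩, fun y hy => ?_⟩
      · rw [← PrimeSpectrum.height_eq_orderHeight, show x.asIdeal.height = _ from hh]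
        exact ENat.natCast_lt_top h
      · show (⊥ : Ideal A) < qA
        refine lt_of_le_of_ne bot_le fun hb => ?_
        rw [← hb, ← RingHom.ker_eq_comap_bot, Ideal.mk_ker] at hcom
        exact hpq.ne (PrimeSpectrum.ext hcom)
      · rw [Order.height_eq_zero.2 fun y _ => show (⊥ : Ideal A) ≤ y.asIdeal from bot_le]
        simp
      · rw [Order.height_eq_zero.2 (hbot y hy)]
        simp
    rw [h1] at hh
    have hh' : h = 1 := by exact_mod_cast hh.symm
    have := hsum p
    have := hsum q
    omega
  have main : ∀ i (hi : i ≤ s.length), ht (s ⟨i, by omega⟩) = ht s.head + i := by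
    intro i
    induction i with
    | zero => intro _; rfl
    | succ i ih =>
      intro hi
      have := step _ _ (hsat ⟨i, by omega⟩)
      have hih := ih (by omega)
      simp only [Fin.castSucc_mk, Fin.succ_mk] at this
      omega
  have hm := main s.length le_rfl
  rw [hht, hht, show s.last = s ⟨s.length, by omega⟩ from rfl, hm]
  push_cast
  exact add_comm _ _

end Groth.Agent.S9153
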