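import Groth.Statements.S9157
import Mathlib
-- import your own Groth.Agent.* helpers here

set_option autoImplicit false
universe u
open CAlg

namespace Groth.Agent.S9157

section Aux
private lemma lmap_mk {R : Type u} [CommRing R] {S : Submonoid R} {M N : Type u} [AddCommGroup M]
    [Module R M] [AddCommGroup N] [Module R N] (h : M →ₗ[R] N) (m : M) (s : S) :
    LocalizedModule.map S h (LocalizedModule.mk m s) = LocalizedModule.mk (h m) s :=
  IsLocalizedModule.map_LocalizedModules S h m s

end Aux

/-- If the localization S⁻¹M of an R-module M is finitely presented over S⁻¹R, then some finitely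
presented R-module M' maps to M inducing an isomorphism S⁻¹M' → S⁻¹M. -/
theorem result (R : Type u) [CommRing R] (S : Submonoid R)
    (M : Type u) [AddCommGroup M] [Module R M]
    [Module.FinitePresentation (Localization S) (LocalizedModule S M)] :
    ∃ (M' : Type u) (_ : AddCommGroup M') (_ : Module R M') (φ : M' →ₗ[R] M),
      Module.FinitePresentation R M' ∧ Function.Bijective (LocalizedModule.map S φ) := by
  classical
  let A := Localization S
  let g : M →ₗ[R] LocalizedModule S M := LocalizedModule.mkLinearMap S M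
  obtain ⟨t, ht⟩ := (Module.Finite.fg_top : (⊤ : Submodule A (LocalizedModule S M)).FG)
  have hnum : ∀ x : LocalizedModule S M, ∃ m : M, x ∈ Submodule.span A {g m} := by
    intro x
    induction x using LocalizedModule.induction_on with
    | h m s =>
      refine ⟨m, Submodule.mem_span_singleton.mpr ⟨Localization.mk 1 s, ?_⟩⟩
      simp [A, g, LocalizedModule.mk_smul_mk]
  choose num hnum using hnum
  let ι := {x // x ∈ t}
  let φ₀ : (ι → R) →ₗ[R] M := Fintype.linearCombination R (fun i : ι => num i.1)
  let F : (ι → R) →ₗ[R] LocalizedModule S (ι → R) := LocalizedModule.mkLinearMap S _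
  let Φ : LocalizedModule S (ι → R) →ₗ[A] LocalizedModule S M := LocalizedModule.map S φ₀
  have hΦs : Function.Surjective Φ := by
    rw [← LinearMap.range_eq_top, eq_top_iff, ← ht, Submodule.span_le]
    intro x hx
    refine Submodule.span_le.mpr ?_ (hnum x)
    rintro _ rfl
    refine ⟨F (Pi.single ⟨x, hx⟩ 1), ?_⟩
    simp only [Φ, F, g, LocalizedModule.mkLinearMap_apply]
    rw [lmap_mk]
    simp [φ₀,
      Fintype.linearCombination_apply_single]
  haveI : Module.Finite A (LocalizedModule S (ι → R)) :=
    Module.Finite.of_isLocalizedModule S F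
  obtain ⟨u, hu⟩ := Module.FinitePresentation.fg_ker Φ hΦs
  have hker : ∀ x ∈ LinearMap.ker Φ, ∃ v : ι → R, φ₀ v = 0 ∧ x ∈ Submodule.span A {F v} := by
    intro x hx
    induction x using LocalizedModule.induction_on with
    | h v s =>
      rw [LinearMap.mem_ker] at hx
      simp only [Φ] at hx
      rw [lmap_mk] at hx
      rw [← LocalizedModule.zero_mk s, LocalizedModule.mk_eq] at hx
      obtain ⟨c, hc⟩ := hx
      refine ⟨(c * s : S) • v, ?_, Submodule.mem_span_singleton.mpr ⟨Localization.mk 1 (c * s * s), ?_⟩⟩
      · rw [Submonoid.smul_def, map_smul]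
        simpa [Submonoid.smul_def, mul_smul] using hc
      · simp only [F, LocalizedModule.mkLinearMap_apply, A, LocalizedModule.mk_smul_mk, one_smul,
          mul_one, LocalizedModule.mk_eq]
        exact ⟨1, by simp [Submonoid.smul_def, mul_smul]; rw [smul_comm]⟩
  choose kv hkv0 hkv using hker
  let K : Submodule R (ι → R) := Submodule.span R
    (Set.range fun y : {y // y ∈ u} => kv y.1 (hu ▸ Submodule.subset_span y.2))
  have hKle : K ≤ LinearMap.ker φ₀ := by
    rw [Submodule.span_le]
    rintro _ ⟨y, rfl⟩
    exact hkv0 _ _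
  have hKfg : K.FG := Submodule.fg_span (Set.finite_range _)
  refine ⟨(ι → R) ⧸ K, inferInstance, inferInstance, K.liftQ φ₀ hKle,
    Module.finitePresentation_of_surjective K.mkQ K.mkQ_surjective (by rwa [Submodule.ker_mkQ]), ?_⟩
  let Q : LocalizedModule S (ι → R) →ₗ[A] LocalizedModule S ((ι → R) ⧸ K) := LocalizedModule.map S K.mkQ
  have hQs : Function.Surjective Q := IsLocalizedModule.map_surjective S (LocalizedModule.mkLinearMap S _) (LocalizedModule.mkLinearMap S _) K.mkQ K.mkQ_surjective
  have hcomp : ∀ z, LocalizedModule.map S (K.liftQ φ₀ hKle) (Q z) = Φ z := by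
    intro z
    induction z using LocalizedModule.induction_on with
    | h v s =>
      simp only [Q, Φ]
      rw [lmap_mk, lmap_mk, lmap_mk]
      simp
  refine ⟨?_, fun y => ?_⟩
  · rw [← LinearMap.ker_eq_bot, LinearMap.ker_eq_bot']
    intro w hw
    obtain ⟨z, rfl⟩ := hQs w
    rw [hcomp] at hw
    have hz : z ∈ LinearMap.ker Φ := hw
    rw [← hu] at hz
    refine (Submodule.span_le (p := LinearMap.ker Q)).mpr ?_ hz
    intro y hy
    refine Submodule.span_le.mpr ?_ (hkv y (hu ▸ Submodule.subset_span hy))
    rintro _ rfl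
    have hmem : kv y (hu ▸ Submodule.subset_span hy) ∈ K := Submodule.subset_span ⟨⟨y, hy⟩, rfl⟩
    simp only [SetLike.mem_coe, LinearMap.mem_ker, Q, F, LocalizedModule.mkLinearMap_apply]
    rw [lmap_mk, Submodule.mkQ_apply, (Submodule.Quotient.mk_eq_zero K).mpr hmem,
      LocalizedModule.zero_mk]
  · obtain ⟨z, rfl⟩ := hΦs y
    exact ⟨Q z, hcomp z⟩

end Groth.Agent.S9157
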