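import Groth.Statements.S9159
import Groth.Agent.LocalDim.Affine
import Groth.Agent.S2082
import Groth.Agent.S9129
import Groth.Agent.DepthLib.RegularLocal
-- import your own Groth.Agent.* helpers here

set_option autoImplicit false
universe u
open CAlg

namespace Groth.Agent.S9159

theorem withBot_add_natCast_cancel {a b : WithBot ℕ∞} {n : ℕ} (h : a + n = b + n) : a = b := by
  cases a with
  | bot => cases b with
    | bot => rfl
    | coe b => exact absurd h.symm (by rw [WithBot.bot_add]; exact WithBot.coe_ne_bot)
  | coe a => cases b with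
    | bot => exact absurd h (by rw [WithBot.bot_add]; exact WithBot.coe_ne_bot)
    | coe b =>
      have h' : a + (n : ℕ∞) = b + (n : ℕ∞) := by exact_mod_cast h
      exact congrArg _ ((ENat.addLECancellable_of_ne_top (ENat.natCast_ne_top n)).inj_left.mp h')

/-- Fix a field k, a k-algebra S of finite type, and a quasi-finite map of k-algebras k[y_1, …, y_d] →
S. A prime q of S has S_q flat over k[y_1, …, y_d] exactly when S_q is Cohen–Macaulay and Spec S has
local dimension d at q. -/
theorem result (k S : Type u) [Field k] [CommRing S]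
    [Algebra k S] [Algebra.FiniteType k S] (d : ℕ) [Algebra (MvPolynomial (Fin d) k) S]
    [IsScalarTower k (MvPolynomial (Fin d) k) S] [Algebra.QuasiFinite (MvPolynomial (Fin d) k) S]
    (q : Ideal S) [q.IsPrime] :
    Module.Flat (MvPolynomial (Fin d) k) (Localization.AtPrime q) ↔
      (LocCoh.IsCohenMacaulayLocalRing (Localization.AtPrime q) ∧
        FlatMor.localDim (PrimeSpectrum S) ⟨q, inferInstance⟩ = (d : WithBot ℕ∞)) := by
  let P := MvPolynomial (Fin d) k
  haveI : IsNoetherianRing S := Algebra.FiniteType.isNoetherianRing k S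
  let p : Ideal P := q.under P
  haveI : q.LiesOver p := ⟨rfl⟩
  letI := Localization.AtPrime.algebraOfLiesOver p q
  let Pp := Localization.AtPrime p
  let Sq := Localization.AtPrime q
  haveI : IsLocalHom (algebraMap Pp Sq) := Localization.isLocalHom_localRingHom _ _ _ _
  haveI : IsScalarTower P Pp Sq := IsScalarTower.of_algebraMap_eq fun a => by
    rw [IsScalarTower.algebraMap_apply P S Sq, RingHom.algebraMap_toAlgebra]
    exact (Localization.localRingHom_to_map _ _ _ _ a).symm
  haveI := Groth.Agent.DepthLib.isCohenMacaulayLocalRing_of_isRegularLocalRing Pp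
  let J := (IsLocalRing.maximalIdeal Pp).map (algebraMap Pp Sq)
  have hJ : J ≤ IsLocalRing.maximalIdeal Sq := ((IsLocalRing.local_hom_TFAE _).out 0 2).mp ‹_›
  haveI : Nontrivial (Sq ⧸ J) :=
    Ideal.Quotient.nontrivial_iff.mpr (ne_top_of_le_ne_top (IsLocalRing.maximalIdeal.isMaximal Sq).ne_top hJ)
  have hfib : ringKrullDim (Sq ⧸ J) = 0 := by
    haveI : Ring.KrullDimLE 0 (Sq ⧸ J) := Ring.KrullDimLE.mk₀ fun R hR => by
      let R' : Ideal Sq := R.comap (Ideal.Quotient.mk J)
      have hJR : J ≤ R' := (Ideal.mk_ker (I := J)).symm.le.trans (Ideal.ker_le_comap _)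
      have hQ : R'.comap (algebraMap S Sq) = q := by
        haveI : (R'.comap (algebraMap S Sq)).IsPrime := inferInstance
        have hle : R'.comap (algebraMap S Sq) ≤ q := by
          exact (Ideal.comap_mono (IsLocalRing.le_maximalIdeal_of_isPrime R')).trans_eq
            (Localization.AtPrime.under_maximalIdeal (I := q))
        refine Algebra.QuasiFinite.eq_of_le_of_under_eq (R := P) _ q hle (le_antisymm (Ideal.comap_mono hle) fun a ha => ?_)
        show algebraMap S Sq (algebraMap P S a) ∈ R'
        rw [← IsScalarTower.algebraMap_apply P S Sq, IsScalarTower.algebraMap_apply P Pp Sq]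
        refine hJR (Ideal.mem_map_of_mem _ ?_)
        exact (IsLocalization.AtPrime.to_map_mem_maximal_iff Pp p a).mpr ha
      have hR' : R' = IsLocalRing.maximalIdeal Sq := by
        rw [← IsLocalization.map_comap q.primeCompl Sq R', ← IsLocalization.map_comap q.primeCompl Sq (IsLocalRing.maximalIdeal Sq)]
        exact congrArg _ (hQ.trans (Localization.AtPrime.under_maximalIdeal (I := q)).symm)
      rw [← Ideal.map_comap_of_surjective _ Ideal.Quotient.mk_surjective R]
      refine (Ideal.map_eq_top_or_isMaximal_of_surjective _ Ideal.Quotient.mk_surjective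
        (hR'.symm ▸ IsLocalRing.maximalIdeal.isMaximal Sq : R'.IsMaximal)).resolve_left fun h => ?_
      rw [Ideal.map_comap_of_surjective _ Ideal.Quotient.mk_surjective R] at h
      exact hR.ne_top h
    exact ringKrullDimZero_iff_ringKrullDim_eq_zero.mp inferInstance
  have hle : ringKrullDim Sq ≤ ringKrullDim Pp := by
    have h := Groth.Agent.Miracle.ringKrullDim_le_add (R := Pp) (S := Sq)
    rwa [hfib, add_zero] at h
  -- equal transcendence degrees
  obtain ⟨r, hr⟩ : ∃ r : ℕ, ringKrullDim (S ⧸ q) = r ∧ ringKrullDim (P ⧸ p) = r := by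
    obtain ⟨r, hr, hr'⟩ := Groth.Agent.DimTrdeg.exists_trdeg_eq_ringKrullDim k (P ⧸ p)
    have hκp : Algebra.trdeg k p.ResidueField = r :=
      (Groth.Agent.DimTrdeg.trdeg_fractionRing k (P ⧸ p) p.ResidueField).trans hr
    refine ⟨r, Groth.Agent.LocalDim.ringKrullDim_quotient_eq_trdeg k q r ?_, hr'⟩
    haveI : IsScalarTower k p.ResidueField q.ResidueField := IsScalarTower.of_algebraMap_eq fun c => by
      rw [IsScalarTower.algebraMap_apply k P p.ResidueField, IsScalarTower.algebraMap_apply k S q.ResidueField,
        ← IsScalarTower.algebraMap_apply P p.ResidueField q.ResidueField, IsScalarTower.algebraMap_apply k P S,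
        ← IsScalarTower.algebraMap_apply P S q.ResidueField]
    haveI : Algebra.IsAlgebraic p.ResidueField q.ResidueField := inferInstance
    rw [← hκp, ← trdeg_add_eq k p.ResidueField (A := q.ResidueField),
      trdeg_eq_zero (R := p.ResidueField) (A := q.ResidueField), add_zero]
  have hd : ringKrullDim Pp + r = d := by
    rw [IsLocalization.AtPrime.ringKrullDim_eq_height p Pp, ← hr.2, ← Groth.Agent.LocalDim.localDim_eq k p]
    obtain ⟨n, hn, ⟨Q, -, hQ, hQn⟩, -⟩ := Groth.Agent.LocalDim.exists_localDim_spec k (⟨p, inferInstance⟩ : PrimeSpectrum P)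
    rw [hn, ← hQn]
    have hQ0 : Q.asIdeal = ⊥ := by
      rw [IsDomain.minimalPrimes_eq_singleton_bot] at hQ
      exact hQ
    rw [ringKrullDim_eq_of_ringEquiv ((Ideal.quotEquivOfEq hQ0).trans (RingEquiv.quotientBot P)),
      MvPolynomial.ringKrullDim_of_isNoetherianRing, ringKrullDim_eq_zero_of_field, zero_add, Nat.card_fin]
  have hq : FlatMor.localDim (PrimeSpectrum S) ⟨q, inferInstance⟩ = ringKrullDim Sq + r := by
    rw [Groth.Agent.LocalDim.localDim_eq k q, hr.1, IsLocalization.AtPrime.ringKrullDim_eq_height q Sq]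
  constructor
  · intro hflat
    haveI : Module.Flat Pp Sq := (Module.flat_iff_of_isLocalization Pp p.primeCompl Sq).mpr hflat
    obtain ⟨hcm, hdim⟩ := Groth.Agent.S9129.result Pp Sq (Or.inr hle)
    exact ⟨hcm, by rw [hq, ← hdim, hd]⟩
  · rintro ⟨hcm, hloc⟩
    haveI := hcm
    have hdim : ringKrullDim Sq = ringKrullDim Pp :=
      withBot_add_natCast_cancel (n := r) (hq.symm.trans (hloc.trans hd.symm))
    haveI : Module.Flat Pp Sq := Groth.Agent.S2082.result (by rw [hfib, add_zero]; exact hdim)
    haveI : Module.Flat P Pp := IsLocalization.flat Pp p.primeCompl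
    exact Module.Flat.trans P Pp Sq

end Groth.Agent.S9159
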