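import Groth.Statements.S9160
import Mathlib
-- import your own Groth.Agent.* helpers here

set_option autoImplicit false
universe u
open CAlg

namespace Groth.Agent.S9160

theorem len_mul (R : Type u) [CommRing R] (a b : R) (hb : IsRegular b) :
    Module.length R (R ⧸ Ideal.span ({a * b} : Set R)) =
      Module.length R (R ⧸ Ideal.span ({a} : Set R)) + Module.length R (R ⧸ Ideal.span ({b} : Set R)) := by
  let f : (R ⧸ Ideal.span ({a} : Set R)) →ₗ[R] R ⧸ Ideal.span ({a * b} : Set R) :=
    Submodule.mapQ _ _ (LinearMap.mulRight R b) (fun x hx => by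
      obtain ⟨c, rfl⟩ := Ideal.mem_span_singleton'.1 hx
      exact Ideal.mem_span_singleton'.2 ⟨c, (mul_assoc c a b).symm⟩)
  let g : (R ⧸ Ideal.span ({a * b} : Set R)) →ₗ[R] R ⧸ Ideal.span ({b} : Set R) :=
    Submodule.mapQ _ _ LinearMap.id (fun x hx => by
      obtain ⟨c, rfl⟩ := Ideal.mem_span_singleton'.1 hx
      exact Ideal.mem_span_singleton'.2 ⟨c * a, mul_assoc c a b⟩)
  refine Module.length_eq_add_of_exact f g ?_ ?_ ?_
  · rw [← LinearMap.ker_eq_bot, eq_bot_iff]
    intro x hx
    obtain ⟨x, rfl⟩ := Submodule.mkQ_surjective _ x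
    obtain ⟨c, hc⟩ := Ideal.mem_span_singleton'.1 ((Submodule.Quotient.mk_eq_zero _).1 (LinearMap.mem_ker.1 hx))
    refine (Submodule.mem_bot R).2 ((Submodule.Quotient.mk_eq_zero _).2 (Ideal.mem_span_singleton'.2 ⟨c, hb.right ?_⟩))
    show c * a * b = x * b
    rw [mul_assoc]; exact hc
  · intro x
    obtain ⟨x, rfl⟩ := Submodule.mkQ_surjective _ x
    exact ⟨Submodule.Quotient.mk x, rfl⟩
  · intro y
    obtain ⟨y, rfl⟩ := Submodule.mkQ_surjective _ y
    constructor
    · intro hy
      obtain ⟨c, hc⟩ := Ideal.mem_span_singleton'.1 ((Submodule.Quotient.mk_eq_zero _).1 hy)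
      exact ⟨Submodule.Quotient.mk c, congrArg Submodule.Quotient.mk hc⟩
    · rintro ⟨x, hx⟩
      obtain ⟨x, rfl⟩ := Submodule.mkQ_surjective _ x
      obtain ⟨c, hc⟩ := Ideal.mem_span_singleton'.1 ((Submodule.Quotient.eq _).1 hx)
      refine (Submodule.Quotient.mk_eq_zero _).2 (Ideal.mem_span_singleton'.2 ⟨x - c * a, ?_⟩)
      have hc' : c * (a * b) = x * b - y := hc
      show (x - c * a) * b = y
      linear_combination -hc'

theorem len_ne_top (R : Type u) [CommRing R] [IsNoetherianRing R] (hdim : ringKrullDim R = 1) (a : R)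
    (ha : IsRegular a) : Module.length R (R ⧸ Ideal.span ({a} : Set R)) ≠ ⊤ := by
  have h1 : ringKrullDim (R ⧸ Ideal.span ({a} : Set R)) + 1 ≤ ringKrullDim R :=
    ringKrullDim_quotient_succ_le_of_nonZeroDivisor (isRegular_iff_mem_nonZeroDivisors.1 ha)
  have : Ring.KrullDimLE 0 (R ⧸ Ideal.span ({a} : Set R)) := by
    rw [Ring.krullDimLE_iff]
    rw [hdim] at h1
    generalize ringKrullDim (R ⧸ Ideal.span ({a} : Set R)) = d at h1 ⊢
    induction d with
    | bot => simp
    | coe d =>
      induction d with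
      | top =>
        replace h1 : ((⊤ + 1 : ℕ∞) : WithBot ℕ∞) ≤ ((1 : ℕ∞) : WithBot ℕ∞) := h1
        simp at h1
        exact absurd (WithBot.coe_injective (a₁ := (1 : ℕ∞)) (a₂ := ⊤) h1) ENat.one_ne_top
      | coe d =>
        norm_cast at h1 ⊢
        omega
  have : IsArtinianRing (R ⧸ Ideal.span ({a} : Set R)) := IsNoetherianRing.isArtinianRing_of_krullDimLE_zero
  have : IsArtinian R (R ⧸ Ideal.span ({a} : Set R)) :=
    isArtinian_of_surjective_algebraMap (R := R ⧸ Ideal.span ({a} : Set R)) Ideal.Quotient.mk_surjective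
  rw [Module.length_ne_top_iff, isFiniteLength_iff_isNoetherian_isArtinian]
  exact ⟨inferInstance, inferInstance⟩


/-- In a semi-local Noetherian ring of dimension one, for nonzerodivisors a and b the length of R/(ab)
is the sum of the lengths of R/(a) and R/(b), and these lengths are finite. -/
theorem result (R : Type u) [CommRing R] [IsNoetherianRing R]
    (hsemi : Finite (MaximalSpectrum R)) (hdim : ringKrullDim R = 1) (a b : R) (ha : IsRegular a)
    (hb : IsRegular b) :
    Module.length R (R ⧸ Ideal.span ({a * b} : Set R)) =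
        Module.length R (R ⧸ Ideal.span ({a} : Set R)) + Module.length R (R ⧸ Ideal.span ({b} : Set R)) ∧
      Module.length R (R ⧸ Ideal.span ({a} : Set R)) ≠ ⊤ ∧
      Module.length R (R ⧸ Ideal.span ({b} : Set R)) ≠ ⊤ := by
  exact ⟨len_mul R a b hb, len_ne_top R hdim a ha, len_ne_top R hdim b hb⟩

end Groth.Agent.S9160
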