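import Mathlib
import Groth.Statements.S9161
-- import your own Groth.Agent.* helpers here

set_option autoImplicit false
universe u
open CAlg

namespace Groth.Agent.S9161

/-- If two two-term complexes of R-modules A₁ → A₀ and B₁ → B₀ are homotopy equivalent (maps of
complexes both ways whose composites are homotopic to the identity maps), then A₁ ⊕ B₀ and B₁ ⊕ A₀
are isomorphic R-modules. -/
theorem result (R : Type u) [CommRing R]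
    (A₁ A₀ B₁ B₀ : Type u) [AddCommGroup A₁] [Module R A₁] [AddCommGroup A₀] [Module R A₀]
    [AddCommGroup B₁] [Module R B₁] [AddCommGroup B₀] [Module R B₀]
    (dA : A₁ →ₗ[R] A₀) (dB : B₁ →ₗ[R] B₀) (φ₁ : A₁ →ₗ[R] B₁) (φ₀ : A₀ →ₗ[R] B₀)
    (ψ₁ : B₁ →ₗ[R] A₁) (ψ₀ : B₀ →ₗ[R] A₀) (hφ : dB ∘ₗ φ₁ = φ₀ ∘ₗ dA) (hψ : dA ∘ₗ ψ₁ = ψ₀ ∘ₗ dB)
    (h : A₀ →ₗ[R] A₁) (hh₁ : LinearMap.id - ψ₁ ∘ₗ φ₁ = h ∘ₗ dA) (hh₀ : LinearMap.id - ψ₀ ∘ₗ φ₀ = dA ∘ₗ h)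
    (h' : B₀ →ₗ[R] B₁) (hh'₁ : LinearMap.id - φ₁ ∘ₗ ψ₁ = h' ∘ₗ dB)
    (hh'₀ : LinearMap.id - φ₀ ∘ₗ ψ₀ = dB ∘ₗ h') :
    Nonempty ((A₁ × B₀) ≃ₗ[R] (B₁ × A₀)) := by
  have p1 : ∀ x, dB (φ₁ x) = φ₀ (dA x) := fun x => LinearMap.congr_fun hφ x
  have p2 : ∀ x, dA (ψ₁ x) = ψ₀ (dB x) := fun x => LinearMap.congr_fun hψ x
  have q1 : ∀ x, x - ψ₁ (φ₁ x) = h (dA x) := fun x => LinearMap.congr_fun hh₁ x
  have q0 : ∀ x, x - ψ₀ (φ₀ x) = dA (h x) := fun x => LinearMap.congr_fun hh₀ x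
  have r1 : ∀ x, x - φ₁ (ψ₁ x) = h' (dB x) := fun x => LinearMap.congr_fun hh'₁ x
  have r0 : ∀ x, x - φ₀ (ψ₀ x) = dB (h' x) := fun x => LinearMap.congr_fun hh'₀ x
  let F : (A₁ × B₀) →ₗ[R] (B₁ × A₀) :=
    LinearMap.coprod (LinearMap.prod φ₁ dA) (LinearMap.prod (-h') ψ₀)
  have hF : ∀ a b, F (a, b) = (φ₁ a - h' b, dA a + ψ₀ b) := fun a b => by simp [F, sub_eq_add_neg]
  refine ⟨LinearEquiv.ofBijective F ⟨(injective_iff_map_eq_zero _).2 ?_, ?_⟩⟩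
  · rintro ⟨a, b⟩ e
    rw [hF, Prod.mk_eq_zero] at e
    obtain ⟨e1, e2⟩ := e
    have hb : b = 0 := by
      calc b = φ₀ (ψ₀ b) + dB (h' b) := by rw [← r0]; abel
        _ = φ₀ (dA a + ψ₀ b) - dB (φ₁ a - h' b) := by rw [map_add, map_sub, p1]; abel
        _ = 0 := by rw [e1, e2]; simp
    subst hb
    simp only [map_zero, sub_zero, add_zero] at e1 e2
    have := q1 a
    rw [e1, e2] at this
    simpa using this
  · rintro ⟨y, x⟩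
    let b := φ₀ x - dB y
    let x' := x - ψ₀ b
    let y' := y + h' b
    have hk : φ₀ x' = dB y' := by
      have e : φ₀ x = dB y + b := by simp [b]
      simp only [x', y', map_add, map_sub, ← r0, e]
      abel
    let k := φ₁ (h x') - h' (φ₀ x')
    have hdk : dB k = 0 := by
      simp only [k, map_sub, p1, ← r0, ← q0]
      abel
    have hk1 : φ₁ (ψ₁ k) = k := by
      have := r1 k
      rw [hdk, map_zero, sub_eq_zero] at this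
      exact this.symm
    refine ⟨(h x' + ψ₁ y' - ψ₁ k, b), ?_⟩
    rw [hF]
    have e1 : dA (h x' + ψ₁ y' - ψ₁ k) = x' := by
      rw [map_sub, map_add, p2, p2, hdk, map_zero, sub_zero, ← hk, ← q0]; abel
    have e2 : φ₁ (h x' + ψ₁ y' - ψ₁ k) = y' := by
      have e3 : φ₁ (ψ₁ y') = y' - h' (φ₀ x') := by rw [hk, ← r1]; abel
      rw [map_sub, map_add, hk1, e3]
      simp only [k]; abel
    rw [e1, e2]
    simp [x', y']

end Groth.Agent.S9161
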