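import Groth.Statements.S9162
import Mathlib.RingTheory.Extension.Cotangent.Basic
import Mathlib.RingTheory.Kaehler.Polynomial
-- import your own Groth.Agent.* helpers here

set_option autoImplicit false
universe u
open CAlg

namespace Groth.Agent.S9162

theorem schanuel {S C₁ C₂ V₁ V₂ : Type u} [CommRing S] [AddCommGroup C₁] [Module S C₁]
    [AddCommGroup C₂] [Module S C₂] [AddCommGroup V₁] [Module S V₁] [AddCommGroup V₂] [Module S V₂]
    (d₁ : C₁ →ₗ[S] V₁) (d₂ : C₂ →ₗ[S] V₂) (F : C₁ →ₗ[S] C₂) (G : C₂ →ₗ[S] C₁)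
    (F' : V₁ →ₗ[S] V₂) (G' : V₂ →ₗ[S] V₁) (h : V₁ →ₗ[S] C₁) (k : V₂ →ₗ[S] C₂)
    (h₁ : ∀ x, G (F x) = x + h (d₁ x)) (h₂ : ∀ y, F (G y) = y + k (d₂ y))
    (h₁' : ∀ v, G' (F' v) = v + d₁ (h v)) (h₂' : ∀ w, F' (G' w) = w + d₂ (k w))
    (hF : ∀ x, F' (d₁ x) = d₂ (F x)) (hG : ∀ y, G' (d₂ y) = d₁ (G y)) :
    Nonempty ((C₁ × V₂) ≃ₗ[S] (C₂ × V₁)) := by
  let Φ : (C₁ × V₂) →ₗ[S] (C₂ × V₁) :=
    (F.comp (LinearMap.fst S C₁ V₂) - k.comp (LinearMap.snd S C₁ V₂)).prod
      (d₁.comp (LinearMap.fst S C₁ V₂) - G'.comp (LinearMap.snd S C₁ V₂))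
  refine ⟨LinearEquiv.ofBijective Φ ⟨?_, ?_⟩⟩
  · rw [injective_iff_map_eq_zero]
    rintro ⟨x, w⟩ hxw
    simp [Φ, sub_eq_zero] at hxw
    obtain ⟨e₁, e₂⟩ := hxw
    have e3 := congrArg F' e₂
    rw [hF, e₁, h₂'] at e3
    have hw : w = 0 := by simpa using e3
    subst hw
    have e4 := h₁ x
    rw [e₁, e₂] at e4
    simpa using e4.symm
  · rintro ⟨y, v⟩
    have e : Φ (G y - h v, d₂ y - F' v) = (y + (k (F' v) - F (h v)), v) := by
      simp [Φ, h₂, hG, h₁']
      abel
    refine ⟨(G (y - (k (F' v) - F (h v))) - h v, d₂ (y - (k (F' v) - F (h v))) - F' v), ?_⟩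
    have e' : ∀ y', Φ (G y' - h v, d₂ y' - F' v) = (y' + (k (F' v) - F (h v)), v) := by
      intro y'
      simp [Φ, h₂, hG, h₁']
      abel
    rw [e', sub_add_cancel]

theorem ext_schanuel {R S : Type u} [CommRing R] [CommRing S] [Algebra R S]
    (P Q : Algebra.Extension.{u} R S) (f : P.Hom Q) (g : Q.Hom P) :
    Nonempty ((P.Cotangent × Q.CotangentSpace) ≃ₗ[S] (Q.Cotangent × P.CotangentSpace)) := by
  refine schanuel P.cotangentComplex Q.cotangentComplex (Algebra.Extension.Cotangent.map f)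
    (Algebra.Extension.Cotangent.map g) (Algebra.Extension.CotangentSpace.map f)
    (Algebra.Extension.CotangentSpace.map g) ((g.comp f).sub (.id P)) ((f.comp g).sub (.id Q)) ?_ ?_ ?_ ?_
    (fun x => Algebra.Extension.CotangentSpace.map_cotangentComplex f x)
    (fun y => Algebra.Extension.CotangentSpace.map_cotangentComplex g y)
  · intro x
    have := LinearMap.congr_fun (Algebra.Extension.Cotangent.map_sub_map (g.comp f) (.id P)) x
    rw [LinearMap.sub_apply, Algebra.Extension.Cotangent.map_id, Algebra.Extension.Cotangent.map_comp] at this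
    exact sub_eq_iff_eq_add'.1 this
  · intro x
    have := LinearMap.congr_fun (Algebra.Extension.Cotangent.map_sub_map (f.comp g) (.id Q)) x
    rw [LinearMap.sub_apply, Algebra.Extension.Cotangent.map_id, Algebra.Extension.Cotangent.map_comp] at this
    exact sub_eq_iff_eq_add'.1 this
  · intro x
    have := LinearMap.congr_fun (Algebra.Extension.CotangentSpace.map_sub_map (g.comp f) (.id P)) x
    rw [LinearMap.sub_apply, Algebra.Extension.CotangentSpace.map_id, Algebra.Extension.CotangentSpace.map_comp] at this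
    exact sub_eq_iff_eq_add'.1 this
  · intro x
    have := LinearMap.congr_fun (Algebra.Extension.CotangentSpace.map_sub_map (f.comp g) (.id Q)) x
    rw [LinearMap.sub_apply, Algebra.Extension.CotangentSpace.map_id, Algebra.Extension.CotangentSpace.map_comp] at this
    exact sub_eq_iff_eq_add'.1 this


/-- Let S be an R-algebra and α : R[x_1, …, x_n] → S, β : R[y_1, …, y_m] → S surjective R-algebra maps
(presentations by polynomial rings in finitely many variables; the kernels I and J need not be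
finitely generated). Then I/I² ⊕ S^m and J/J² ⊕ S^n are isomorphic S-modules. -/
theorem result (R S : Type u) [CommRing R] [CommRing S]
    [Algebra R S] (n m : ℕ) (α : MvPolynomial (Fin n) R →ₐ[R] S) (hα : Function.Surjective α)
    (β : MvPolynomial (Fin m) R →ₐ[R] S) (hβ : Function.Surjective β) :
    Nonempty (((Algebra.Extension.ofSurjective α hα).Cotangent × (Fin m → S)) ≃ₗ[S]
      ((Algebra.Extension.ofSurjective β hβ).Cotangent × (Fin n → S))) := by
  let P := Algebra.Extension.ofSurjective α hα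
  let Q := Algebra.Extension.ofSurjective β hβ
  let f : P.Hom Q := Algebra.Extension.Hom.ofAlgHom
    (MvPolynomial.aeval (fun i => Q.σ (α (MvPolynomial.X i))) : MvPolynomial (Fin n) R →ₐ[R] Q.Ring) (by
      apply MvPolynomial.algHom_ext
      intro i
      exact (congrArg (algebraMap Q.Ring S) (MvPolynomial.aeval_X _ i)).trans (Q.algebraMap_σ (α (MvPolynomial.X i))))
  let g : Q.Hom P := Algebra.Extension.Hom.ofAlgHom
    (MvPolynomial.aeval (fun i => P.σ (β (MvPolynomial.X i))) : MvPolynomial (Fin m) R →ₐ[R] P.Ring) (by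
      apply MvPolynomial.algHom_ext
      intro i
      exact (congrArg (algebraMap P.Ring S) (MvPolynomial.aeval_X _ i)).trans (P.algebraMap_σ (β (MvPolynomial.X i))))
  obtain ⟨e⟩ := ext_schanuel P Q f g
  let bP : Module.Basis (Fin n) S P.CotangentSpace :=
    letI : Algebra (MvPolynomial (Fin n) R) S := α.toAlgebra
    (KaehlerDifferential.mvPolynomialBasis R (Fin n)).baseChange S
  let bQ : Module.Basis (Fin m) S Q.CotangentSpace :=
    letI : Algebra (MvPolynomial (Fin m) R) S := β.toAlgebra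
    (KaehlerDifferential.mvPolynomialBasis R (Fin m)).baseChange S
  exact ⟨((LinearEquiv.refl S P.Cotangent).prodCongr bQ.equivFun.symm).trans
    (e.trans ((LinearEquiv.refl S Q.Cotangent).prodCongr bP.equivFun))⟩

end Groth.Agent.S9162
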