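import Mathlib
import Groth.Statements.S9163
-- import your own Groth.Agent.* helpers here

set_option autoImplicit false
universe u
open CAlg

namespace Groth.Agent.S9163

/-- If S is integral over R, then any finitely many elements of R and of S lie in a pair R₀ ⊆ R, S₀ ⊆ S
with R₀ a finite type ℤ-subalgebra, S₀ an R₀-subalgebra of S, and S₀ finite as an R₀-module; so R →
S is the directed colimit of finite maps between finite type ℤ-algebras. -/
theorem result (R S : Type u) [CommRing R] [CommRing S] [Algebra R S]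
    [Algebra.IsIntegral R S] (E : Finset R) (F : Finset S) :
    ∃ (R₀ : Subalgebra ℤ R) (S₀ : Subalgebra R₀ S), Algebra.FiniteType ℤ R₀ ∧ (E : Set R) ⊆ R₀ ∧
      (F : Set S) ⊆ S₀ ∧ Module.Finite R₀ S₀ := by
  classical
  have hint : ∀ x : S, ∃ q : Polynomial R, q.Monic ∧ Polynomial.aeval x q = 0 := fun x =>
    Algebra.IsIntegral.isIntegral x
  choose q hqm hq using hint
  let T : Finset R := E ∪ F.biUnion fun x => (q x).coeffs
  let R₀ : Subalgebra ℤ R := Algebra.adjoin ℤ (T : Set R)
  have hi : ∀ x ∈ F, IsIntegral R₀ x := fun x hx => by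
    have hp : ((q x).coeffs : Set R) ⊆ R₀.toSubring := fun c hc =>
      Algebra.subset_adjoin (Finset.mem_union_right _ (Finset.mem_biUnion.2 ⟨x, hx, hc⟩))
    refine ⟨(q x).toSubring R₀.toSubring hp, (Polynomial.monic_toSubring _ _ hp).2 (hqm x), ?_⟩
    have h := hq x
    rw [Polynomial.aeval_def, ← Polynomial.map_toSubring (q x) R₀.toSubring hp, Polynomial.eval₂_map] at h
    exact h
  refine ⟨R₀, Algebra.adjoin R₀ (F : Set S), ⟨Subalgebra.fg_top _ |>.2 ⟨T, rfl⟩⟩, fun e he => Algebra.subset_adjoin (Finset.mem_union_left _ he),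
    Algebra.subset_adjoin, Algebra.finite_adjoin_of_finite_of_isIntegral F.finite_toSet hi⟩

end Groth.Agent.S9163
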