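import Groth.Statements.S9164
import Mathlib
-- import your own Groth.Agent.* helpers here

set_option autoImplicit false
universe u
open CAlg

namespace Groth.Agent.S9164

section Aux
lemma fin_len {A : Type*} [CommRing A] [IsNoetherianRing A] [Ring.KrullDimLE 1 A] {X : Type*} [AddCommGroup X] [Module A X] [Module.Finite A X]
    (x : A) (hx : x ∈ nonZeroDivisors A) (h : ∀ m : X, x • m = 0) : Module.length A X < ⊤ := by
  have ht : Module.IsTorsionBySet A X (Ideal.span {x} : Set A) :=
    (Module.isTorsionBySet_span_singleton_iff x).2 (fun m => h m)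
  letI := ht.module
  haveI : IsScalarTower A (A ⧸ Ideal.span {x}) X := ht.isScalarTower
  haveI : IsArtinianRing (A ⧸ Ideal.span {x}) := by
    have := isFiniteLength_quotient_span_singleton A hx
    rw [isFiniteLength_iff_isNoetherian_isArtinian] at this
    exact @isArtinian_of_tower A _ _ _ _ _ _ _ _ _ this.2
  haveI : Module.Finite (A ⧸ Ideal.span {x}) X := Module.Finite.of_restrictScalars_finite A _ _
  haveI : IsArtinian A X := isArtinian_of_surjective_algebraMap (R := A ⧸ Ideal.span {x}) Ideal.Quotient.mk_surjective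
  exact Module.length_ne_top.lt_top

variable {R K V : Type u} [CommRing R] [IsDomain R] [Field K] [Algebra R K] [IsFractionRing R K]
  [AddCommGroup V] [Module K V] [Module R V] [IsScalarTower R K V]

lemma exists_smul_mem (M : Submodule R V) (hM : Submodule.span K (M : Set V) = ⊤) (v : V) :
    ∃ r : R, r ≠ 0 ∧ r • v ∈ M := by
  have hv : v ∈ Submodule.span K (M : Set V) := hM ▸ Submodule.mem_top
  induction hv using Submodule.span_induction with
  | mem x hx => exact ⟨1, one_ne_zero, by rwa [one_smul]⟩
  | zero => exact ⟨1, one_ne_zero, by rw [smul_zero]; exact M.zero_mem⟩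
  | add x y _ _ hx hy =>
    obtain ⟨r, hr, hrx⟩ := hx
    obtain ⟨s, hs, hsy⟩ := hy
    refine ⟨r * s, mul_ne_zero hr hs, ?_⟩
    rw [smul_add]
    exact M.add_mem (by rw [mul_comm, mul_smul]; exact M.smul_mem s hrx) (by rw [mul_smul]; exact M.smul_mem r hsy)
  | smul c x _ hx =>
    obtain ⟨r, hr, hrx⟩ := hx
    obtain ⟨⟨a, s⟩, hs⟩ := IsLocalization.surj (nonZeroDivisors R) c
    refine ⟨(s : R) * r, mul_ne_zero (nonZeroDivisors.ne_zero s.2) hr, ?_⟩
    have : ((s : R) * r) • c • x = a • (r • x) := by
      rw [← algebraMap_smul K ((s : R) * r), ← algebraMap_smul K a, ← algebraMap_smul K r x, smul_smul,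
        smul_smul, map_mul]
      dsimp only at hs
      congr 1
      linear_combination (algebraMap R K r) * hs
    rw [this]
    exact M.smul_mem a hrx

lemma span_eq_top_of_exists (M : Submodule R V) (h : ∀ v : V, ∃ r : R, r ≠ 0 ∧ r • v ∈ M) :
    Submodule.span K (M : Set V) = ⊤ := by
  rw [eq_top_iff]
  intro v _
  obtain ⟨r, hr, hv⟩ := h v
  have hr' : algebraMap R K r ≠ 0 := by
    simpa using (FaithfulSMul.algebraMap_injective R K).ne (show r ≠ 0 from hr)
  rw [← one_smul K v, ← inv_mul_cancel₀ hr', mul_smul, algebraMap_smul]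
  exact Submodule.smul_mem _ _ (Submodule.subset_span hv)

lemma length_quot [IsNoetherianRing R] [Ring.KrullDimLE 1 R] (M N : Submodule R V) (hN : N.FG)
    (h : ∀ v : V, ∃ r : R, r ≠ 0 ∧ r • v ∈ M) :
    Module.length R (N ⧸ Submodule.comap N.subtype M) ≠ ⊤ := by
  classical
  haveI : Module.Finite R N := Module.Finite.iff_fg.2 hN
  obtain ⟨g, hg⟩ := (Module.Finite.fg_top : (⊤ : Submodule R N).FG)
  choose r hr hrm using fun y : N => h (y : V)
  refine (fin_len (∏ y ∈ g, r y) (mem_nonZeroDivisors_of_ne_zero (Finset.prod_ne_zero_iff.2 fun y _ => hr y))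
    fun q => ?_).ne
  obtain ⟨z, rfl⟩ := Submodule.mkQ_surjective _ q
  rw [← map_smul, Submodule.mkQ_apply, Submodule.Quotient.mk_eq_zero]
  have : (⊤ : Submodule R N) ≤ (Submodule.comap N.subtype M).comap ((∏ y ∈ g, r y) • LinearMap.id) := by
    rw [← hg, Submodule.span_le]
    intro y hy
    show (∏ y ∈ g, r y) • y ∈ Submodule.comap N.subtype M
    rw [← Finset.mul_prod_erase g r hy, mul_comm, mul_smul]
    exact Submodule.smul_mem _ _ (hrm y)
  exact this Submodule.mem_top

lemma fg_of_length {M N : Submodule R V} (hMN : M ≤ N) (hM : M.FG)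
    (h : Module.length R (N ⧸ Submodule.comap N.subtype M) ≠ ⊤) : N.FG := by
  haveI : Module.Finite R M := Module.Finite.iff_fg.2 hM
  haveI : Module.Finite R (Submodule.comap N.subtype M) :=
    Module.Finite.equiv (Submodule.comapSubtypeEquivOfLe hMN).symm
  haveI : IsNoetherian R (N ⧸ Submodule.comap N.subtype M) :=
    (isFiniteLength_iff_isNoetherian_isArtinian.1 (Module.length_ne_top_iff.1 h)).1
  haveI : Module.Finite R N := Module.Finite.of_submodule_quotient (Submodule.comap N.subtype M)
  exact Module.Finite.iff_fg.1 inferInstance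

lemma torsion_of_length [IsNoetherianRing R] [IsLocalRing R] (hK : IsLocalRing.maximalIdeal R ≠ ⊥)
    {M' M : Submodule R V} (h : Module.length R (M ⧸ Submodule.comap M.subtype M') ≠ ⊤) (x : M) :
    ∃ r : R, r ≠ 0 ∧ r • (x : V) ∈ M' := by
  obtain ⟨hn, ha⟩ := isFiniteLength_iff_isNoetherian_isArtinian.1 (Module.length_ne_top_iff.1 h)
  obtain ⟨t, ht, ht0⟩ := Submodule.exists_mem_ne_zero_of_ne_bot hK
  haveI := ha
  haveI := hn
  let S : ℕ →o (Submodule R (M ⧸ Submodule.comap M.subtype M'))ᵒᵈ :=
    ⟨fun j => OrderDual.toDual (LinearMap.range ((t ^ j) • (LinearMap.id : _ →ₗ[R] M ⧸ Submodule.comap M.subtype M'))),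
      monotone_nat_of_le_succ fun j => by
        rintro _ ⟨w, rfl⟩
        exact ⟨t • w, by simp only [LinearMap.smul_apply, LinearMap.id_apply, smul_smul, pow_succ]⟩⟩
  obtain ⟨k, hk⟩ := IsArtinian.monotone_stabilizes S
  refine ⟨t ^ k, pow_ne_zero k ht0, ?_⟩
  have hbot : LinearMap.range ((t ^ k) • (LinearMap.id : _ →ₗ[R] M ⧸ Submodule.comap M.subtype M')) = ⊥ := by
    refine Submodule.eq_bot_of_le_smul_of_le_jacobson_bot (Ideal.span {t}) _ (IsNoetherian.noetherian _) ?_ ?_
    · intro w hw
      have hw' : w ∈ LinearMap.range ((t ^ (k + 1)) • (LinearMap.id : _ →ₗ[R] M ⧸ Submodule.comap M.subtype M')) := by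
        have e := congrArg OrderDual.ofDual (hk (k + 1) (Nat.le_succ k))
        exact e.le hw
      obtain ⟨y, rfl⟩ := hw'
      show (t ^ (k + 1)) • y ∈ _
      rw [pow_succ', mul_smul]
      exact Submodule.smul_mem_smul (Ideal.mem_span_singleton_self t) ⟨y, rfl⟩
    · rw [IsLocalRing.jacobson_eq_maximalIdeal _ bot_ne_top, Ideal.span_le, Set.singleton_subset_iff]
      exact ht
  have hz : t ^ k • (Submodule.Quotient.mk x : M ⧸ Submodule.comap M.subtype M') = 0 :=
    (Submodule.mem_bot R).1 (hbot ▸ ⟨Submodule.Quotient.mk x, rfl⟩)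
  rw [← Submodule.Quotient.mk_smul, Submodule.Quotient.mk_eq_zero] at hz
  exact hz

end Aux

/-- Let R be a one-dimensional Noetherian local domain with fraction field K and V a finite-dimensional
K-vector space; a lattice is a finitely generated R-submodule of V spanning V over K. (1) For a
lattice M and an R-submodule M' ⊇ M: M' is a lattice iff M'/M has finite length over R iff M' is
finitely generated. (2) For a lattice M and M' ⊆ M: M' is a lattice iff M/M' has finite length. (3)
The intersection of two lattices is a lattice. (The published statement also asserts that the sum M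
+ M' of two lattices is a lattice and two identities between lengths of quotients of nested
lattices; this row states (1), (2) and the intersection half of (3).) -/
theorem result (R K V : Type u) [CommRing R] [IsDomain R]
    [IsNoetherianRing R] [IsLocalRing R] (hdim : ringKrullDim R = 1) [Field K] [Algebra R K]
    [IsFractionRing R K] [AddCommGroup V] [Module K V] [Module R V] [IsScalarTower R K V]
    [FiniteDimensional K V] (M : Submodule R V) [Submodule.IsLattice K M] :
    (∀ M' : Submodule R V, M ≤ M' →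
        (Submodule.IsLattice K M' ↔ Module.length R (M' ⧸ Submodule.comap M'.subtype M) ≠ ⊤) ∧
          (Submodule.IsLattice K M' ↔ M'.FG)) ∧
      (∀ M' : Submodule R V, M' ≤ M →
        (Submodule.IsLattice K M' ↔ Module.length R (M ⧸ Submodule.comap M.subtype M') ≠ ⊤)) ∧
      ∀ M' : Submodule R V, Submodule.IsLattice K M' → Submodule.IsLattice K (M ⊓ M') := by
  haveI : Ring.KrullDimLE 1 R := Ring.krullDimLE_iff.2 (le_of_eq (by rw [hdim]; norm_num))
  have hm : IsLocalRing.maximalIdeal R ≠ ⊥ := by
    intro h0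
    have hf : IsField R := IsLocalRing.isField_iff_maximalIdeal_eq.2 h0
    have := ringKrullDim_eq_zero_of_isField hf
    rw [hdim] at this
    exact one_ne_zero this
  have hMfg : M.FG := Submodule.IsLattice.fg (A := K)
  have hMsp : Submodule.span K (M : Set V) = ⊤ := Submodule.IsLattice.span_eq_top
  refine ⟨fun M' hle => ?_, fun M' hle => ⟨fun hL => ?_, fun hlen => ?_⟩, fun M' hL => ?_⟩
  · have hsp : Submodule.span K (M' : Set V) = ⊤ := top_le_iff.1 (hMsp ▸ Submodule.span_mono hle)
    refine ⟨⟨fun hL => ?_, fun h => ⟨fg_of_length hle hMfg h, hsp⟩⟩, ⟨fun hL => hL.fg, fun h => ⟨h, hsp⟩⟩⟩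
    exact length_quot M M' hL.fg (exists_smul_mem M hMsp)
  · exact length_quot M' M hMfg (exists_smul_mem M' hL.span_eq_top)
  · refine ⟨?_, span_eq_top_of_exists M' fun v => ?_⟩
    · haveI : Module.Finite R M := Module.Finite.iff_fg.2 hMfg
      exact (isNoetherian_submodule.1 (inferInstance : IsNoetherian R M)) M' hle
    · obtain ⟨r, hr, hrv⟩ := exists_smul_mem M hMsp v
      obtain ⟨s, hs, hsv⟩ := torsion_of_length hm hlen ⟨r • v, hrv⟩
      exact ⟨s * r, mul_ne_zero hs hr, by rw [mul_smul]; exact hsv⟩
  · refine ⟨?_, span_eq_top_of_exists (M ⊓ M') fun v => ?_⟩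
    · haveI : Module.Finite R M := Module.Finite.iff_fg.2 hMfg
      exact (isNoetherian_submodule.1 (inferInstance : IsNoetherian R M)) _ inf_le_left
    · obtain ⟨r, hr, hrv⟩ := exists_smul_mem M hMsp v
      obtain ⟨s, hs, hsv⟩ := exists_smul_mem M' hL.span_eq_top v
      refine ⟨r * s, mul_ne_zero hr hs, ?_, ?_⟩
      · rw [mul_comm, mul_smul]
        exact M.smul_mem s hrv
      · rw [mul_smul]
        exact M'.smul_mem r hsv

end Groth.Agent.S9164
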