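import Groth.Statements.S9166
import Groth.Statements.S9166
import Groth.Statements.S9166
import Groth.Statements.S9166
import Groth.Statements.S9166
import Mathlib
-- import your own Groth.Agent.* helpers here

set_option autoImplicit false
universe u
open CAlg

namespace Groth.Agent.S9166

/-- Let I be an ideal of a ring R, S → S' a surjective homomorphism of R-algebras with S of finite type
and S' of finite presentation over R, and q a prime of S containing IS. Assume S'_q is flat over R
and that S_q/IS_q → S'_q/IS'_q is an isomorphism, which for a surjection says: every element of the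
kernel of S → S' maps into I·S_q. Then for some g ∉ q the localized map S_g → S'_g is bijective. -/
theorem result (R S S' : Type u) [CommRing R] [CommRing S]
    [CommRing S'] [Algebra R S] [Algebra R S'] [Algebra.FiniteType R S] [Algebra.FinitePresentation R S']
    (I : Ideal R) (f : S →ₐ[R] S') (hf : Function.Surjective f) (q : Ideal S) [q.IsPrime]
    (hq : I.map (algebraMap R S) ≤ q)
    (hker : ∀ j : S, f j = 0 →
      algebraMap S (Localization.AtPrime q) j ∈ I.map (algebraMap R (Localization.AtPrime q)))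
    (hflat : letI : Module S S' := f.toRingHom.toModule
      Module.Flat R (LocalizedModule q.primeCompl S')) :
    ∃ g : S, g ∉ q ∧ Function.Bijective (Localization.awayMap f.toRingHom g) := by
  classical
  letI : Module S S' := f.toRingHom.toModule
  haveI : IsScalarTower R S S' := ⟨fun r s x => by
    show f (r • s) * x = r • (f s * x)
    rw [map_smul, smul_mul_assoc]⟩
  let Sq := Localization.AtPrime q
  let M := LocalizedModule q.primeCompl S'
  let fl : S →ₗ[S] S' :=
    { toFun := f
      map_add' := map_add f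
      map_smul' := fun s x => by show f (s * x) = f s * f x; exact map_mul f s x }
  let π : Sq →ₗ[S] M := IsLocalizedModule.map q.primeCompl (Algebra.linearMap S Sq)
    (LocalizedModule.mkLinearMap q.primeCompl S') fl
  have hπ : ∀ s, π (algebraMap S Sq s) = LocalizedModule.mkLinearMap q.primeCompl S' (f s) := fun s =>
    IsLocalizedModule.map_apply _ _ _ fl s
  have hπs : Function.Surjective π := IsLocalizedModule.map_surjective _ _ _ fl hf
  let J : Ideal S := RingHom.ker f
  have hJfg : J.FG := by
    obtain ⟨n, p, hp⟩ := Algebra.FiniteType.iff_quotient_mvPolynomial''.1 (inferInstance : Algebra.FiniteType R S)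
    have h1 := Algebra.FinitePresentation.ker_fG_of_surjective (f.comp p) (hf.comp hp)
    have h2 : J = (RingHom.ker (f.comp p)).map p := by
      refine le_antisymm (fun x hx => ?_) (Ideal.map_le_iff_le_comap.2 fun x hx => hx)
      obtain ⟨y, rfl⟩ := hp x
      exact Ideal.mem_map_of_mem _ hx
    rw [h2]
    exact h1.map p.toRingHom
  let K : Ideal Sq := J.map (algebraMap S Sq)
  have hK : ∀ x, π x = 0 → x ∈ K := by
    intro x hx
    obtain ⟨s, u, rfl⟩ := IsLocalization.exists_mk'_eq q.primeCompl x
    have h1 : π (algebraMap S Sq s) = 0 := by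
      rw [← IsLocalization.mk'_spec' Sq s u, ← Algebra.smul_def, map_smul, hx, smul_zero]
    rw [hπ] at h1
    obtain ⟨c, hc⟩ := (IsLocalizedModule.eq_zero_iff q.primeCompl _).1 h1
    have h2 : (c : S) * s ∈ J := by
      show f (c * s) = 0
      rw [map_mul]
      exact hc
    rw [IsLocalization.mk'_mem_iff]
    exact (Ideal.unit_mul_mem_iff_mem _ (IsLocalization.map_units Sq c)).1 (by rw [← map_mul]; exact Ideal.mem_map_of_mem _ h2)
  have hK' : ∀ x ∈ K, π x = 0 := by
    intro x hx
    obtain ⟨⟨⟨j, hj⟩, u⟩, he⟩ := (IsLocalization.mem_map_algebraMap_iff q.primeCompl Sq).1 hx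
    have h1 := congrArg π he
    rw [hπ, show f j = 0 from hj, map_zero, mul_comm, ← Algebra.smul_def, map_smul] at h1
    exact ((Module.End.isUnit_iff _).1 (IsLocalizedModule.map_units (LocalizedModule.mkLinearMap q.primeCompl S') u)).1
      (h1.trans (map_zero _).symm)
  have hmem' : ∀ x ∈ (I • ⊤ : Submodule R Sq), ∃ (n : ℕ) (a : Fin n → I) (b : Fin n → Sq), x = ∑ k, (a k).1 • b k := by
    intro x hx
    refine Submodule.smul_induction_on hx (fun r hr m _ => ⟨1, fun _ => ⟨r, hr⟩, fun _ => m, by simp⟩) ?_
    rintro x y ⟨n, a, b, rfl⟩ ⟨n', a', b', rfl⟩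
    exact ⟨n + n', Fin.append a a', Fin.append b b', by rw [Fin.sum_univ_add]; simp⟩
  have hmem : ∀ x ∈ I.map (algebraMap R Sq), ∃ (n : ℕ) (a : Fin n → I) (b : Fin n → Sq), x = ∑ k, (a k).1 • b k :=
    fun x hx => hmem' x (by rw [Ideal.smul_top_eq_map]; exact hx)
  have hbot : K = ⊥ := by
    refine Submodule.eq_bot_of_le_smul_of_le_jacobson_bot (I.map (algebraMap R Sq)) K (hJfg.map _) (fun x hx => ?_) ?_
    · have hxI : x ∈ I.map (algebraMap R Sq) := by
        obtain ⟨⟨⟨j, hj⟩, u⟩, he⟩ := (IsLocalization.mem_map_algebraMap_iff q.primeCompl Sq).1 hx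
        exact (Ideal.mul_unit_mem_iff_mem _ (IsLocalization.map_units Sq u)).1 (he ▸ hker j hj)
      obtain ⟨n, a, b, rfl⟩ := hmem x hxI
      have h0 : ∑ k, (a k).1 • π (b k) = 0 := by
        have := hK' _ hx
        rw [map_sum] at this
        simpa [LinearMap.map_smul_of_tower] using this
      haveI : Module.Flat R M := hflat
      obtain ⟨m, c, y, hy1, hy2⟩ := Module.Flat.isTrivialRelation_of_sum_smul_eq_zero (R := R) (M := M) (f := fun k => (a k).1) (x := fun k => π (b k)) h0
      choose t ht using fun l => hπs (y l)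
      have hx' : ∑ k, (a k).1 • b k = ∑ k, (a k).1 • (b k - ∑ l, c k l • t l) := by
        simp only [smul_sub, Finset.sum_sub_distrib, Finset.smul_sum, smul_smul]
        rw [Finset.sum_comm (f := fun k l => ((a k).1 * c k l) • t l)]
        simp only [← Finset.sum_smul, hy2, zero_smul, Finset.sum_const_zero, sub_zero]
      rw [hx']
      refine Submodule.sum_mem _ fun k _ => ?_
      rw [← algebraMap_smul Sq (a k).1]
      refine Submodule.smul_mem_smul (Ideal.mem_map_of_mem _ (a k).2) (hK _ ?_)
      rw [map_sub, map_sum, show π (b k) = _ from hy1 k, sub_eq_zero]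
      exact Finset.sum_congr rfl fun l _ => by rw [LinearMap.map_smul_of_tower, ht]
    · refine le_trans ?_ (IsLocalRing.maximalIdeal_le_jacobson _)
      rw [IsScalarTower.algebraMap_eq R S Sq, ← Ideal.map_map, ← IsLocalization.AtPrime.map_eq_maximalIdeal q Sq]
      exact Ideal.map_mono hq
  obtain ⟨s, hs⟩ := hJfg
  have key : ∀ j ∈ s, ∃ c ∉ q, c * j = 0 := by
    intro j hj
    have h1 : algebraMap S Sq j = 0 := by
      rw [← Ideal.mem_bot, ← hbot]
      exact Ideal.mem_map_of_mem _ (hs ▸ Submodule.subset_span hj)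
    obtain ⟨c, hc⟩ := (IsLocalization.map_eq_zero_iff q.primeCompl Sq j).1 h1
    exact ⟨c, c.2, hc⟩
  choose! c hc hcj using key
  let g := ∏ j ∈ s, c j
  have hg : g ∉ q := fun h => by
    obtain ⟨j, hj, hjq⟩ := (Ideal.IsPrime.prod_mem_iff (p := q)).1 h
    exact hc j hj hjq
  have hgJ : ∀ x ∈ J, g * x = 0 := by
    intro x hx
    rw [← hs] at hx
    induction hx using Submodule.span_induction with
    | mem j hj =>
      obtain ⟨d, hd⟩ := Finset.dvd_prod_of_mem c hj
      show g * j = 0
      rw [show g = c j * d from hd, mul_right_comm, hcj j hj, zero_mul]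
    | zero => exact mul_zero g
    | add a b _ _ ha hb => rw [mul_add, ha, hb, add_zero]
    | smul r a _ ha => rw [smul_eq_mul, mul_left_comm, ha, mul_zero]
  refine ⟨g, hg, ?_, ?_⟩
  · rw [injective_iff_map_eq_zero]
    intro x hx
    obtain ⟨a, ⟨_, n, rfl⟩, rfl⟩ := IsLocalization.exists_mk'_eq (Submonoid.powers g) x
    rw [Localization.awayMap, IsLocalization.Away.map, IsLocalization.map_mk', IsLocalization.mk'_eq_zero_iff] at hx
    obtain ⟨⟨_, m, rfl⟩, hm⟩ := hx
    rw [IsLocalization.mk'_eq_zero_iff]
    refine ⟨⟨g ^ (m + 1), m + 1, rfl⟩, ?_⟩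
    show g ^ (m + 1) * a = 0
    rw [pow_succ', mul_assoc, hgJ]
    show f (g ^ m * a) = 0
    rw [map_mul, map_pow]
    exact hm
  · intro y
    obtain ⟨b, ⟨_, n, rfl⟩, rfl⟩ := IsLocalization.exists_mk'_eq (Submonoid.powers (f g)) y
    obtain ⟨a, rfl⟩ := hf b
    refine ⟨IsLocalization.mk' _ a (⟨g ^ n, n, rfl⟩ : Submonoid.powers g), ?_⟩
    rw [Localization.awayMap, IsLocalization.Away.map, IsLocalization.map_mk']
    simp

end Groth.Agent.S9166
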