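import Groth.Statements.S9167
import Mathlib
-- import your own Groth.Agent.* helpers here

set_option autoImplicit false
universe u
open CAlg

namespace Groth.Agent.S9167

section Aux
open scoped TensorProduct

theorem exists_baseChange_model (R : Type u) [CommRing R] (A : Type u) [CommRing A] [Algebra R A]
    (hfin : ∀ {n : ℕ} (v : Fin n → A), ∃ (s : Aˣ) (r : Fin n → R), ∀ i, algebraMap R A (r i) = (s : A) * v i)
    (M' : Type u) [AddCommGroup M'] [Module A M'] [Module.FinitePresentation A M'] :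
    ∃ (M : Type u) (_ : AddCommGroup M) (_ : Module R M), Module.FinitePresentation R M ∧
      Nonempty (TensorProduct R A M ≃ₗ[A] M') := by
  obtain ⟨n, K, e, hK⟩ := Module.FinitePresentation.exists_fin A M'
  obtain ⟨m, v, hv⟩ := Submodule.fg_iff_exists_fin_generating_family.mp hK
  choose s r hr using fun j => hfin (v j)
  let N : Submodule R (Fin n → R) := Submodule.span R (Set.range r)
  refine ⟨(Fin n → R) ⧸ N, inferInstance, inferInstance,
    Module.finitePresentation_of_free_of_surjective N.mkQ N.mkQ_surjective (by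
      rw [Submodule.ker_mkQ]; exact Submodule.fg_span (Set.finite_range r)), ?_⟩
  let ι₀ : (Fin n → R) →ₗ[R] (Fin n → A) := (Algebra.linearMap R A).compLeft (Fin n)
  let ψ : ((Fin n → R) ⧸ N) →ₗ[R] (Fin n → A) ⧸ K :=
    N.liftQ (((K.mkQ).restrictScalars R).comp ι₀) (Submodule.span_le.mpr (by
      rintro _ ⟨j, rfl⟩
      show K.mkQ (fun i => algebraMap R A (r j i)) = 0
      rw [Submodule.mkQ_apply, Submodule.Quotient.mk_eq_zero, show (fun i => algebraMap R A (r j i)) = (s j : A) • v j from funext (hr j)]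
      exact K.smul_mem _ (hv ▸ Submodule.subset_span ⟨j, rfl⟩)))
  let fwd : TensorProduct R A ((Fin n → R) ⧸ N) →ₗ[A] (Fin n → A) ⧸ K := ψ.liftBaseChange A
  let bwd0 : (Fin n → A) →ₗ[A] TensorProduct R A ((Fin n → R) ⧸ N) :=
    (Pi.basisFun A (Fin n)).constr A (fun i => (1 : A) ⊗ₜ[R] N.mkQ (Pi.single i 1))
  have hbwd0 : ∀ w : Fin n → R, bwd0 (ι₀ w) = (1 : A) ⊗ₜ[R] N.mkQ w := fun w => by
    conv_rhs => rw [pi_eq_sum_univ' w]
    simp only [map_sum, map_smul, TensorProduct.tmul_sum, TensorProduct.tmul_smul]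
    rw [show bwd0 (ι₀ w) = ∑ i, (algebraMap R A (w i)) • ((1 : A) ⊗ₜ[R] N.mkQ (Pi.single i 1)) by
      simp [bwd0, ι₀, Module.Basis.constr_apply_fintype]]
    simp only [algebraMap_smul]
  let bwd : ((Fin n → A) ⧸ K) →ₗ[A] TensorProduct R A ((Fin n → R) ⧸ N) :=
    K.liftQ bwd0 (by
      rw [← hv, Submodule.span_le]
      rintro _ ⟨j, rfl⟩
      rw [SetLike.mem_coe, LinearMap.mem_ker]
      have h : bwd0 ((s j : A) • v j) = 0 := by
        rw [← show ι₀ (r j) = (s j : A) • v j from funext (hr j), hbwd0,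
          show N.mkQ (r j) = 0 from (Submodule.Quotient.mk_eq_zero _).mpr (Submodule.subset_span ⟨j, rfl⟩),
          TensorProduct.tmul_zero]
      rw [map_smul] at h
      simpa using congrArg (fun t => ((s j)⁻¹ : Aˣ).1 • t) h)
  suffices h : fwd.comp bwd = LinearMap.id ∧ bwd.comp fwd = LinearMap.id from
    ⟨LinearEquiv.trans (LinearEquiv.ofLinearMap fwd bwd h.1 h.2 : _ ≃ₗ[A] _) e.symm⟩
  refine ⟨?_, ?_⟩
  · refine Submodule.linearMap_qext K ((Pi.basisFun A (Fin n)).ext fun i => ?_)
    show fwd (bwd0 _) = K.mkQ _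
    simp only [bwd0, Module.Basis.constr_basis, fwd, LinearMap.liftBaseChange_tmul, one_smul]
    show K.mkQ (ι₀ (Pi.single i 1)) = _
    congr 1
    ext k
    simp [ι₀, Pi.single_apply]
  · refine TensorProduct.AlgebraTensorModule.ext fun a x => ?_
    obtain ⟨w, rfl⟩ := N.mkQ_surjective x
    show bwd (fwd (a ⊗ₜ N.mkQ w)) = a ⊗ₜ N.mkQ w
    rw [show fwd (a ⊗ₜ N.mkQ w) = a • K.mkQ (ι₀ w) from LinearMap.liftBaseChange_tmul _ _ _ _, map_smul,
      show bwd (K.mkQ (ι₀ w)) = bwd0 (ι₀ w) from rfl, hbwd0, TensorProduct.smul_tmul', smul_eq_mul, mul_one]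

end Aux

/-- With R' = S⁻¹(R/I), every finitely presented R'-module is of the form S⁻¹(M/IM) for some finitely
presented R-module M. -/
theorem result (R : Type u) [CommRing R] (I : Ideal R)
    (S : Submonoid R) (M' : Type u) [AddCommGroup M']
    [Module (Localization (S.map (Ideal.Quotient.mk I))) M']
    [Module.FinitePresentation (Localization (S.map (Ideal.Quotient.mk I))) M'] :
    ∃ (M : Type u) (_ : AddCommGroup M) (_ : Module R M), Module.FinitePresentation R M ∧
      Nonempty (LocalizedModule (S.map (Ideal.Quotient.mk I)) (M ⧸ (I • ⊤ : Submodule R M))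
        ≃ₗ[Localization (S.map (Ideal.Quotient.mk I))] M') := by
  obtain ⟨M, i1, i2, hfp, ⟨e⟩⟩ := exists_baseChange_model R (Localization (S.map (Ideal.Quotient.mk I))) (fun {n} v => by
    obtain ⟨⟨b, hb⟩, hv⟩ := IsLocalization.exist_integer_multiples_of_finite (S.map (Ideal.Quotient.mk I)) v
    choose c hc using hv
    choose r hr using fun i => Ideal.Quotient.mk_surjective (c i)
    refine ⟨(IsLocalization.map_units (Localization (S.map (Ideal.Quotient.mk I))) (⟨b, hb⟩ : (S.map (Ideal.Quotient.mk I)))).unit, r, fun i => ?_⟩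
    rw [IsScalarTower.algebraMap_apply R (R ⧸ I) (Localization (S.map (Ideal.Quotient.mk I))), Ideal.Quotient.algebraMap_eq, hr, hc, IsUnit.unit_spec,
      Algebra.smul_def]) M'
  refine ⟨M, i1, i2, hfp, ⟨?_⟩⟩
  let e1 : LocalizedModule (S.map (Ideal.Quotient.mk I)) (M ⧸ (I • ⊤ : Submodule R M)) ≃ₗ[Localization (S.map (Ideal.Quotient.mk I))]
      TensorProduct (R ⧸ I) (Localization (S.map (Ideal.Quotient.mk I))) (M ⧸ (I • ⊤ : Submodule R M)) :=
    (IsLocalizedModule.isBaseChange (S.map (Ideal.Quotient.mk I)) (Localization (S.map (Ideal.Quotient.mk I))) (LocalizedModule.mkLinearMap (S.map (Ideal.Quotient.mk I)) _)).equiv.symm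
  let e2 : (M ⧸ (I • ⊤ : Submodule R M)) ≃ₗ[R ⧸ I] TensorProduct R (R ⧸ I) M :=
    LinearEquiv.extendScalarsOfSurjective Ideal.Quotient.mk_surjective (TensorProduct.quotTensorEquivQuotSMul M I).symm
  exact e1.trans ((TensorProduct.AlgebraTensorModule.congr (LinearEquiv.refl (Localization (S.map (Ideal.Quotient.mk I))) (Localization (S.map (Ideal.Quotient.mk I)))) e2).trans
    ((TensorProduct.AlgebraTensorModule.cancelBaseChange R (R ⧸ I) (Localization (S.map (Ideal.Quotient.mk I))) (Localization (S.map (Ideal.Quotient.mk I))) M).trans e))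

end Groth.Agent.S9167
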