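import Groth.Statements.S9168
import Mathlib

set_option autoImplicit false
universe u
open CAlg

namespace Groth.Agent.S9168

/-- elements that become elements of `T` after multiplying by an element of `T` invertible in `R` -/
def locSub {R : Type u} [CommRing R] (T : Subring R) : Subring R where
  carrier := {x | ∃ b ∈ T, IsUnit b ∧ x * b ∈ T}
  mul_mem' := by
    rintro x y ⟨b, hb, ub, hxb⟩ ⟨c, hc, uc, hyc⟩
    exact ⟨b * c, mul_mem hb hc, ub.mul uc, by rw [mul_mul_mul_comm]; exact mul_mem hxb hyc⟩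
  one_mem' := ⟨1, one_mem _, isUnit_one, by simp⟩
  add_mem' := by
    rintro x y ⟨b, hb, ub, hxb⟩ ⟨c, hc, uc, hyc⟩
    refine ⟨b * c, mul_mem hb hc, ub.mul uc, ?_⟩
    rw [show (x + y) * (b * c) = x * b * c + y * c * b by ring]
    exact add_mem (mul_mem hxb hc) (mul_mem hyc hb)
  zero_mem' := ⟨1, one_mem _, isUnit_one, by simp⟩
  neg_mem' := by
    rintro x ⟨b, hb, ub, hxb⟩
    exact ⟨b, hb, ub, by rw [neg_mul]; exact neg_mem hxb⟩

theorem le_locSub {R : Type u} [CommRing R] (T : Subring R) : T ≤ locSub T :=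
  fun x hx => ⟨1, one_mem _, isUnit_one, by rwa [mul_one]⟩

theorem isUnit_locSub {R : Type u} [CommRing R] (T : Subring R) (x : locSub T) (hx : IsUnit (x : R)) :
    IsUnit x := by
  obtain ⟨b, hb, ub, hxb⟩ := x.2
  obtain ⟨v, hv⟩ := hx.exists_right_inv
  refine IsUnit.of_mul_eq_one ⟨v, (x : R) * b, hxb, hx.mul ub, ?_⟩ (Subtype.ext hv)
  rw [show v * ((x : R) * b) = ((x : R) * v) * b by ring, hv, one_mul]
  exact hb


/-- For a local homomorphism of local rings R → S and finite subsets E ⊆ R, F ⊆ S there are local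
subrings R₀ ⊆ R and S₀ ⊆ S containing E and F, with R → S mapping R₀ into S₀, such that the
inclusions and the induced map R₀ → S₀ are local homomorphisms, R₀ is essentially of finite type
over ℤ and S₀ is essentially of finite type over R₀. (So R → S is the directed colimit of such R₀ →
S₀.) -/
theorem result (R S : Type u) [CommRing R] [CommRing S] [IsLocalRing R]
    [IsLocalRing S] [Algebra R S] [IsLocalHom (algebraMap R S)] (E : Finset R) (F : Finset S) :
    ∃ (R₀ : Subring R) (S₀ : Subring S) (h : ∀ x ∈ R₀, algebraMap R S x ∈ S₀),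
      (E : Set R) ⊆ R₀ ∧ (F : Set S) ⊆ S₀ ∧ ∃ (_ : IsLocalRing R₀) (_ : IsLocalRing S₀),
        IsLocalHom R₀.subtype ∧ IsLocalHom S₀.subtype ∧
          IsLocalHom ((algebraMap R S).restrict R₀ S₀ h) ∧
          (algebraMap ℤ R₀).EssFiniteType ∧ ((algebraMap R S).restrict R₀ S₀ h).EssFiniteType := by
  classical
  let T : Subring R := Subring.closure (E : Set R)
  let R₀ := locSub T
  let T' : Subring S := Subring.closure ((F : Set S) ∪ algebraMap R S '' (R₀ : Set R))
  let S₀ := locSub T'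
  have h : ∀ x ∈ R₀, algebraMap R S x ∈ S₀ := fun x hx => le_locSub T' (Subring.subset_closure (Or.inr ⟨x, hx, rfl⟩))
  have hR : IsLocalHom R₀.subtype := ⟨isUnit_locSub T⟩
  have hS : IsLocalHom S₀.subtype := ⟨isUnit_locSub T'⟩
  haveI hlR : IsLocalRing R₀ := RingHom.domain_isLocalRing R₀.subtype
  haveI hlS : IsLocalRing S₀ := RingHom.domain_isLocalRing S₀.subtype
  have hFmem : ∀ x ∈ F, x ∈ S₀ := fun x hx => le_locSub T' (Subring.subset_closure (Or.inl hx))
  have hEmem : ∀ x ∈ E, x ∈ R₀ := fun x hx => le_locSub T (Subring.subset_closure hx)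
  refine ⟨R₀, S₀, h, hEmem, hFmem, hlR, hlS, hR, hS, ⟨fun x hx => isUnit_locSub T x ?_⟩, ?_, ?_⟩
  · exact IsUnit.of_map (algebraMap R S) _ (hx.map S₀.subtype)
  · rw [RingHom.essFiniteType_algebraMap, Algebra.essFiniteType_iff]
    refine ⟨E.attach.image fun e => ⟨e.1, hEmem e.1 e.2⟩, fun s => ?_⟩
    obtain ⟨b, hb, ub, hsb⟩ := s.2
    have hle : T ≤ (Algebra.adjoin ℤ ((E.attach.image fun e => (⟨e.1, hEmem e.1 e.2⟩ : R₀) : Finset R₀) : Set R₀)).toSubring.map R₀.subtype := by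
      refine Subring.closure_le.2 fun e he => ⟨⟨e, hEmem e he⟩, Algebra.subset_adjoin ?_, rfl⟩
      exact Finset.mem_image.2 ⟨⟨e, he⟩, Finset.mem_attach _ _, rfl⟩
    obtain ⟨b', hb', hbe⟩ := hle hb
    obtain ⟨c', hc', hce⟩ := hle hsb
    refine ⟨b', hb', isUnit_locSub T b' (show IsUnit (R₀.subtype b') by rw [hbe]; exact ub), ?_⟩
    rw [show s * b' = c' from Subtype.ext (by change (s : R) * R₀.subtype b' = R₀.subtype c'; rw [hbe, hce])]
    exact hc'
  · letI := ((algebraMap R S).restrict R₀ S₀ h).toAlgebra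
    show Algebra.EssFiniteType R₀ S₀
    rw [Algebra.essFiniteType_iff]
    refine ⟨F.attach.image fun e => ⟨e.1, hFmem e.1 e.2⟩, fun s => ?_⟩
    obtain ⟨b, hb, ub, hsb⟩ := s.2
    have hle : T' ≤ (Algebra.adjoin R₀ ((F.attach.image fun e => (⟨e.1, hFmem e.1 e.2⟩ : S₀) : Finset S₀) : Set S₀)).toSubring.map S₀.subtype := by
      refine Subring.closure_le.2 ?_
      rintro e (he | ⟨r, hr, rfl⟩)
      · exact ⟨⟨e, hFmem e he⟩, Algebra.subset_adjoin (Finset.mem_image.2 ⟨⟨e, he⟩, Finset.mem_attach _ _, rfl⟩), rfl⟩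
      · exact ⟨algebraMap R₀ S₀ ⟨r, hr⟩, Subalgebra.algebraMap_mem _ _, rfl⟩
    obtain ⟨b', hb', hbe⟩ := hle hb
    obtain ⟨c', hc', hce⟩ := hle hsb
    refine ⟨b', hb', isUnit_locSub T' b' (show IsUnit (S₀.subtype b') by rw [hbe]; exact ub), ?_⟩
    rw [show s * b' = c' from Subtype.ext (by change (s : S) * S₀.subtype b' = S₀.subtype c'; rw [hbe, hce])]
    exact hc'

end Groth.Agent.S9168
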