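import Groth.Statements.S9170
import Groth.Agent.RelGCILib.Main

set_option autoImplicit false
universe u
open Synt

namespace Groth.Agent.S9170

/-- For a relative global complete intersection S = R[x_1, …, x_n]/(f_1, …, f_c) over a ring R and a
prime q' of the polynomial ring containing the ideal (f_1, …, f_c): (1) f_1, …, f_c is a regular
sequence in the localization R[x]_{q'} (a local ring); (2) every quotient R[x]_{q'}/(f_1, …, f_i) is
flat over R; (3) the conormal module (f)/(f)² is free over S with basis the classes of the f_i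
(stated as: these classes are linearly independent over S and span). -/
theorem result (R : Type u) [CommRing R] (n c : ℕ)
    (F : Fin c → MvPolynomial (Fin n) R) (h : Synt.IsRelGCI R n c F)
    (q' : Ideal (MvPolynomial (Fin n) R)) [q'.IsPrime] (hq' : Ideal.span (Set.range F) ≤ q') :
    RingTheory.Sequence.IsRegular (Localization.AtPrime q')
        ((List.ofFn F).map (algebraMap (MvPolynomial (Fin n) R) (Localization.AtPrime q'))) ∧
      (∀ i ≤ c, Module.Flat R (Localization.AtPrime q' ⧸ Ideal.ofList
        (((List.ofFn F).take i).map (algebraMap (MvPolynomial (Fin n) R) (Localization.AtPrime q'))))) ∧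
      LinearIndependent (Synt.RelGCIRing R n c F)
        (fun i : Fin c => (Ideal.span (Set.range F)).toCotangent ⟨F i, Ideal.subset_span (Set.mem_range_self i)⟩) ∧
      Submodule.span (Synt.RelGCIRing R n c F) (Set.range
        (fun i : Fin c => (Ideal.span (Set.range F)).toCotangent ⟨F i, Ideal.subset_span (Set.mem_range_self i)⟩)) = ⊤ := by
  set T := Localization.AtPrime q'
  have hFq : ∀ b ∈ List.ofFn F, b ∈ q' := fun b hb => by
    obtain ⟨i, rfl⟩ := List.mem_ofFn.1 hb
    exact hq' (Ideal.subset_span (Set.mem_range_self i))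
  let eT : LocalizedModule q'.primeCompl (MvPolynomial (Fin n) R) ≃ₗ[MvPolynomial (Fin n) R] T :=
    IsLocalizedModule.iso q'.primeCompl (Algebra.linearMap (MvPolynomial (Fin n) R) T)
  haveI : Module.Flat R T := Module.Flat.trans R (MvPolynomial (Fin n) R) T
  have hflat : Module.Flat R (LocalizedModule q'.primeCompl (MvPolynomial (Fin n) R)) :=
    Module.Flat.of_linearEquiv (eT.restrictScalars R)
  obtain ⟨hreg, hfl⟩ := FibreReg.regular_and_flat_list (A := R) q' (MvPolynomial (Fin n) R) (List.ofFn F) hFq hflat
    (RelGCILib.isRegular_fibre F h q' hq')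
  have hwT : RingTheory.Sequence.IsWeaklyRegular T ((List.ofFn F).map (algebraMap (MvPolynomial (Fin n) R) T)) :=
    (RingTheory.Sequence.isWeaklyRegular_map_algebraMap_iff T T (List.ofFn F)).2
      ((eT.isWeaklyRegular_congr _).1 hreg.toIsWeaklyRegular)
  refine ⟨(IsLocalRing.isRegular_iff_isWeaklyRegular_of_subset_maximalIdeal fun r hr => ?_).2 hwT,
    fun i hi => ?_, ?_, ?_⟩
  · obtain ⟨b, hb, rfl⟩ := List.mem_map.1 hr
    exact (IsLocalization.AtPrime.to_map_mem_maximal_iff T q' b).2 (hFq b hb)
  · have := hfl i (by simpa using hi)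
    exact Module.Flat.of_linearEquiv (RelGCILib.quotLocEquiv q' ((List.ofFn F).take i)).symm
  · exact RelGCILib.linearIndependent_cotangent F h
  · exact RelGCILib.span_cotangent F

end Groth.Agent.S9170
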