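import Groth.Statements.S9176
import Groth.Agent.FibreSpec.Basic
import Groth.Agent.FibreSemi.Basic
import Groth.Agent.S9355
-- import your own Groth.Agent.* helpers here

set_option autoImplicit false
universe u
open CAlg

namespace Groth.Agent.S9176

open AlgebraicGeometry CategoryTheory

/-- For a ring map R → S of finite presentation and n ≥ 0, the set of primes q of S whose fibre
Spec(κ(p) ⊗ S), p = q ∩ R, has local dimension at most n at the point over q is open and
quasi-compact in Spec S. -/
theorem result (R S : Type u) [CommRing R]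
    [CommRing S] [Algebra R S] [Algebra.FinitePresentation R S] (n : ℕ) :
    IsOpen {q : PrimeSpectrum S | ∀ Q : PrimeSpectrum ((q.asIdeal.under R).Fiber S),
        Q.asIdeal.comap (Algebra.TensorProduct.includeRight.toRingHom) = q.asIdeal →
          FlatMor.localDim (PrimeSpectrum ((q.asIdeal.under R).Fiber S)) Q ≤ (n : WithBot ℕ∞)} ∧
      IsCompact {q : PrimeSpectrum S | ∀ Q : PrimeSpectrum ((q.asIdeal.under R).Fiber S),
        Q.asIdeal.comap (Algebra.TensorProduct.includeRight.toRingHom) = q.asIdeal →
          FlatMor.localDim (PrimeSpectrum ((q.asIdeal.under R).Fiber S)) Q ≤ (n : WithBot ℕ∞)} := by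
  let f : Spec (CommRingCat.of S) ⟶ Spec (CommRingCat.of R) := Spec.map (CommRingCat.ofHom (algebraMap R S))
  haveI : LocallyOfFinitePresentation f := by
    rw [HasRingHomProperty.Spec_iff (P := @LocallyOfFinitePresentation)]
    exact RingHom.finitePresentation_algebraMap.2 inferInstance
  have hset : {q : PrimeSpectrum S | ∀ Q : PrimeSpectrum ((q.asIdeal.under R).Fiber S),
      Q.asIdeal.comap (Algebra.TensorProduct.includeRight.toRingHom) = q.asIdeal →
        FlatMor.localDim (PrimeSpectrum ((q.asIdeal.under R).Fiber S)) Q ≤ (n : WithBot ℕ∞)} =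
      {x : ↥(Spec (CommRingCat.of S)) | FlatMor.fibreDimAt f x ≤ (n : WithBot ℕ∞)} := by
    ext q
    refine ⟨fun h => ?_, fun h Q hQ => ?_⟩
    · let p : PrimeSpectrum R := PrimeSpectrum.comap (algebraMap R S) q
      let Q := PrimeSpectrum.preimageHomeomorphFiber R S p ⟨q, rfl⟩
      have hQ : Q.asIdeal.comap (Algebra.TensorProduct.includeRight.toRingHom) = q.asIdeal := by
        rw [← FibreSpec.comap_includeRight_symm p Q, Homeomorph.symm_apply_apply]
      show FlatMor.fibreDimAt f q ≤ _
      rw [← FibreSpec.localDim_eq_fibreDimAt (q.asIdeal.under R) q Q hQ]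
      exact h Q hQ
    · rw [FibreSpec.localDim_eq_fibreDimAt (q.asIdeal.under R) q Q hQ]
      exact h
  rw [hset]
  refine ⟨FibreSemi.isOpen_le f _, ?_⟩
  have := (S9355.result f n) (isCompact_univ (X := ↥(Spec (CommRingCat.of S)))) isOpen_univ
  rwa [Set.inter_univ] at this

end Groth.Agent.S9176
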