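import Groth.Statements.S9178
import Mathlib
-- import your own Groth.Agent.* helpers here

set_option autoImplicit false
universe u
open CAlg

namespace Groth.Agent.S9178

/-- For ring maps A → B → C with A → C surjective, writing I = ker(A → C) and J = ker(B → C), the
sequence I/I² → J/J² → C ⊗_B Ω_{B/A} → 0 is exact. Stated: the image of I/I² in J/J² is exactly the
kernel of J/J² → C ⊗_B Ω_{B/A} (surjectivity of the latter map is the standard conormal sequence for
the surjection B → C). -/
theorem result (A B C : Type u) [CommRing A] [CommRing B]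
    [CommRing C] [Algebra A B] [Algebra B C] [Algebra A C] [IsScalarTower A B C]
    (hAC : Function.Surjective (algebraMap A C))
    (h : RingHom.ker (algebraMap A C) ≤ (RingHom.ker (algebraMap B C)).comap (Algebra.ofId A B)) :
    Function.Exact
      (Ideal.mapCotangent (RingHom.ker (algebraMap A C)) (RingHom.ker (algebraMap B C)) (Algebra.ofId A B) h)
      (KaehlerDifferential.kerCotangentToTensor A B C) := by
  classical
  set I := RingHom.ker (algebraMap A C) with hI
  set J := RingHom.ker (algebraMap B C) with hJ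
  set g := Ideal.mapCotangent I J (Algebra.ofId A B) h with hg
  have hBC : Function.Surjective (algebraMap B C) := fun c => by
    obtain ⟨a, ha⟩ := hAC c
    exact ⟨algebraMap A B a, by rw [← IsScalarTower.algebraMap_apply, ha]⟩
  choose sec hsec using fun b : B => hAC (algebraMap B C b)
  have hδ : ∀ b, b - algebraMap A B (sec b) ∈ J := fun b => by
    rw [hJ, RingHom.mem_ker, map_sub, ← IsScalarTower.algebraMap_apply, hsec, sub_self]
  have hJkill : ∀ x ∈ J, ∀ z : J.Cotangent, x • z = 0 := fun x hx z => by
    obtain ⟨z, rfl⟩ := J.toCotangent_surjective z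
    rw [← map_smul, Ideal.toCotangent_eq_zero, pow_two]
    exact Ideal.mul_mem_mul hx z.2
  have hsecsmul : ∀ (b : B) (z : J.Cotangent), b • z = sec b • z := fun b z => by
    rw [← algebraMap_smul B (sec b) z, ← sub_eq_zero, ← sub_smul]
    exact hJkill _ (hδ b) z
  let N : Submodule B J.Cotangent :=
    { carrier := LinearMap.range g
      add_mem' := fun hx hy => add_mem hx hy
      zero_mem' := zero_mem _
      smul_mem' := fun b z hz => by rw [hsecsmul]; exact Submodule.smul_mem _ _ hz }
  let Q := J.Cotangent ⧸ N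
  let mk : ↥J →ₗ[A] Q := (N.mkQ ∘ₗ J.toCotangent).restrictScalars A
  have hI0 : ∀ a (haI : a ∈ I) (hm : algebraMap A B a ∈ J), mk ⟨algebraMap A B a, hm⟩ = 0 := fun a ha hm => by
    show N.mkQ (J.toCotangent ⟨algebraMap A B a, hm⟩) = 0
    rw [Submodule.mkQ_apply, Submodule.Quotient.mk_eq_zero]
    exact ⟨I.toCotangent ⟨a, ha⟩, rfl⟩
  have hsq : ∀ z : ↥J, (z : B) ∈ J ^ 2 → mk z = 0 := fun z hz => by
    show N.mkQ (J.toCotangent z) = 0
    rw [(J.toCotangent_eq_zero z).2 hz, map_zero]
  let D0 : B → Q := fun b => mk ⟨_, hδ b⟩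
  have huniq : ∀ (b : B) (a : A) (hb : b - algebraMap A B a ∈ J), D0 b = mk ⟨_, hb⟩ := by
    intro b a hb
    have haI : a - sec b ∈ I := by
      rw [hI, RingHom.mem_ker, map_sub, hsec, sub_eq_zero]
      have : algebraMap B C (b - algebraMap A B a) = 0 := hb
      rw [map_sub, ← IsScalarTower.algebraMap_apply, sub_eq_zero] at this
      exact this.symm
    have : (⟨_, hδ b⟩ : ↥J) = ⟨_, hb⟩ + ⟨algebraMap A B (a - sec b), h haI⟩ :=
      Subtype.ext (by show b - _ = (b - algebraMap A B a) + algebraMap A B (a - sec b); rw [map_sub]; ring)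
    show mk _ = _
    rw [this, map_add, hI0 _ haI (h haI), add_zero]
  have hadd : ∀ b b', D0 (b + b') = D0 b + D0 b' := fun b b' => by
    have hm : b + b' - algebraMap A B (sec b + sec b') ∈ J := by
      rw [map_add, add_sub_add_comm]; exact add_mem (hδ b) (hδ b')
    rw [huniq _ _ hm, ← map_add]
    congr 1
    exact Subtype.ext (by rw [Submodule.coe_add]; simp only [map_add, add_sub_add_comm])
  have hsmul : ∀ (a : A) b, D0 (a • b) = a • D0 b := fun a b => by
    have hm : a • b - algebraMap A B (a * sec b) ∈ J := by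
      rw [Algebra.smul_def, map_mul, ← mul_sub]; exact J.mul_mem_left _ (hδ b)
    rw [huniq _ _ hm, ← map_smul]
    congr 1
    exact Subtype.ext (by rw [Submodule.coe_smul_of_tower]; simp only [Algebra.smul_def, map_mul, mul_sub])
  have hmul : ∀ b b', D0 (b * b') = sec b • D0 b' + sec b' • D0 b := fun b b' => by
    have hm : b * b' - algebraMap A B (sec b * sec b') ∈ J := by
      have e : b * b' - algebraMap A B (sec b * sec b') =
          algebraMap A B (sec b) * (b' - algebraMap A B (sec b')) + b' * (b - algebraMap A B (sec b)) := by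
        rw [map_mul]; ring
      rw [e]; exact add_mem (J.mul_mem_left _ (hδ b')) (J.mul_mem_left _ (hδ b))
    rw [huniq _ _ hm, ← map_smul, ← map_smul, ← map_add, ← sub_eq_zero, ← map_sub]
    refine hsq _ ?_
    rw [pow_two]
    convert Ideal.mul_mem_mul (hδ b) (hδ b') using 1
    simp only [Submodule.coe_sub, Submodule.coe_add, Submodule.coe_smul_of_tower, Algebra.smul_def, map_mul]
    ring
  have hsQ : ∀ (b : B) (q : Q), b • q = sec b • q := fun b q => by
    obtain ⟨z, rfl⟩ := N.mkQ_surjective q
    rw [← map_smul, hsecsmul, LinearMap.map_smul_of_tower]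
  let D : Derivation A B Q := Derivation.mk' { toFun := D0, map_add' := hadd, map_smul' := hsmul }
    fun b b' => by
      show D0 (b * b') = b • D0 b' + b' • D0 b
      rw [hmul, hsQ, hsQ]
  let eC : C ≃ₗ[B] B ⧸ LinearMap.ker (Algebra.linearMap B C) :=
    ((Algebra.linearMap B C).quotKerEquivOfSurjective hBC).symm
  let φ : C →ₗ[B] Q →ₗ[B] Q :=
    ((LinearMap.ker (Algebra.linearMap B C)).liftQ (LinearMap.lsmul B Q) (fun x hx => LinearMap.mem_ker.2 (by
      ext z
      show x • N.mkQ z = 0
      rw [← map_smul, hJkill x hx, map_zero]))) ∘ₗ eC.toLinearMap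
  let Ψ : TensorProduct B C Ω[B⁄A] →ₗ[B] Q := TensorProduct.lift (φ.compl₂ D.liftKaehlerDifferential)
  have hΨ : ∀ b, Ψ (TensorProduct.tmul B (1 : C) (KaehlerDifferential.D A B b)) = D0 b := fun b => by
    have h1 : eC 1 = Submodule.Quotient.mk 1 := (LinearEquiv.symm_apply_eq _).2 (map_one (algebraMap B C)).symm
    simp only [Ψ, TensorProduct.lift.tmul, LinearMap.compl₂_apply, φ, LinearMap.comp_apply,
      LinearEquiv.coe_coe, h1, Submodule.liftQ_apply, LinearMap.lsmul_apply, one_smul,
      Derivation.liftKaehlerDifferential_comp_D]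
    rfl
  intro y
  constructor
  · intro hy
    obtain ⟨⟨j, hj⟩, rfl⟩ := J.toCotangent_surjective y
    rw [KaehlerDifferential.kerCotangentToTensor_toCotangent] at hy
    have h2 := congrArg Ψ hy
    rw [map_zero, hΨ] at h2
    rw [huniq j 0 (by rw [map_zero, sub_zero]; exact hj)] at h2
    have h3 : N.mkQ (J.toCotangent ⟨j - algebraMap A B 0, _⟩) = 0 := h2
    simp only [map_zero, sub_zero] at h3
    exact (Submodule.Quotient.mk_eq_zero N).1 h3
  · rintro ⟨x, rfl⟩
    obtain ⟨⟨a, ha⟩, rfl⟩ := I.toCotangent_surjective x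
    show KaehlerDifferential.kerCotangentToTensor A B C (J.toCotangent ⟨algebraMap A B a, h ha⟩) = 0
    rw [KaehlerDifferential.kerCotangentToTensor_toCotangent]
    simp

end Groth.Agent.S9178
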