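import Mathlib
import Mathlib.RingTheory.RingHom.FinitePresentation
import Mathlib.RingTheory.Ideal.Quotient.Operations
import Groth.Statements.S9179
-- import your own Groth.Agent.* helpers here

set_option autoImplicit false
universe u
open CategoryTheory CategoryTheory.Limits
open CAlg

namespace Groth.Agent.S9179

set_option backward.isDefEq.respectTransparency false
set_option backward.isDefEq.respectTransparency.types false

/-- An R-algebra of finite type is the colimit of a filtered system of finitely presented R-algebras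
whose transition maps are all surjective. -/
theorem result (R A : Type u) [CommRing R] [CommRing A]
    [Algebra R A] [Algebra.FiniteType R A] :
    ∃ (I : Type u) (_ : SmallCategory I) (_ : IsFiltered I) (D : I ⥤ Under (CommRingCat.of R))
      (c : Cocone D) (_ : IsColimit c),
      (∀ i, (D.obj i).hom.hom.FinitePresentation) ∧
      (∀ (i j : I) (φ : i ⟶ j), Function.Surjective (D.map φ).right.hom) ∧
      Nonempty (c.pt ≅ Under.mk (CommRingCat.ofHom (algebraMap R A))) := by
  classical
  obtain ⟨n, π, hπ⟩ := Algebra.FiniteType.iff_quotient_mvPolynomial''.mp (inferInstance : Algebra.FiniteType R A)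
  let P : Type u := MvPolynomial (Fin n) R
  let I : Type u := {J : Ideal (MvPolynomial (Fin n) R) // J.FG ∧ J ≤ RingHom.ker π}
  haveI : Nonempty I := ⟨⟨⊥, Submodule.fg_bot, bot_le⟩⟩
  haveI : IsDirectedOrder I := ⟨fun a b => ⟨⟨a.1 ⊔ b.1, Submodule.FG.sup a.2.1 b.2.1, sup_le a.2.2 b.2.2⟩, (le_sup_left : a.1 ≤ a.1 ⊔ b.1), (le_sup_right : b.1 ≤ a.1 ⊔ b.1)⟩⟩
  let D : I ⥤ Under (CommRingCat.of R) :=
    { obj := fun a => Under.mk (CommRingCat.ofHom (algebraMap R (MvPolynomial (Fin n) R ⧸ a.1)))
      map := fun {a b} f => Under.homMk (CommRingCat.ofHom (Ideal.Quotient.factor (show a.1 ≤ b.1 from leOfHom f)))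
        (CommRingCat.hom_ext (RingHom.ext fun r => rfl))
      map_id := fun a => Under.UnderMorphism.ext (CommRingCat.hom_ext (Ideal.Quotient.ringHom_ext rfl))
      map_comp := fun f g => Under.UnderMorphism.ext (CommRingCat.hom_ext (Ideal.Quotient.ringHom_ext rfl)) }
  let leg : ∀ a : I, (MvPolynomial (Fin n) R ⧸ a.1) →+* A := fun a => Ideal.Quotient.lift a.1 π.toRingHom (fun x hx => a.2.2 hx)
  let c : Cocone D :=
    { pt := Under.mk (CommRingCat.ofHom (algebraMap R A))
      ι :=
        { app := fun a => Under.homMk (CommRingCat.ofHom (leg a))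
            (CommRingCat.hom_ext (RingHom.ext fun r => π.commutes r))
          naturality := fun a b f => Under.UnderMorphism.ext (CommRingCat.hom_ext (Ideal.Quotient.ringHom_ext rfl)) } }
  let a₀ : I := ⟨⊥, Submodule.fg_bot, bot_le⟩
  let g : ∀ s : Cocone D, MvPolynomial (Fin n) R →+* s.pt.right := fun s => (s.ι.app a₀).right.hom.comp (Ideal.Quotient.mk (⊥ : Ideal (MvPolynomial (Fin n) R)))
  have hg : ∀ (s : Cocone D) (a : I) (x : MvPolynomial (Fin n) R), (s.ι.app a).right.hom (Ideal.Quotient.mk a.1 x) = g s x := by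
    intro s a x
    exact DFunLike.congr_fun (congrArg (fun f => f.right.hom) (s.w (homOfLE (show a₀ ≤ a from (bot_le : (⊥ : Ideal (MvPolynomial (Fin n) R)) ≤ a.1))))) (Ideal.Quotient.mk (⊥ : Ideal (MvPolynomial (Fin n) R)) x)
  have hk : ∀ s : Cocone D, RingHom.ker π.toRingHom ≤ RingHom.ker (g s) := by
    intro s x hx
    let a : I := ⟨Ideal.span {x}, Submodule.fg_span_singleton x, (Ideal.span_singleton_le_iff_mem _).mpr hx⟩
    rw [RingHom.mem_ker, ← hg s a x, Ideal.Quotient.eq_zero_iff_mem.mpr (Ideal.mem_span_singleton_self x)]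
    exact map_zero _
  let F : ∀ s : Cocone D, A →+* s.pt.right := fun s => RingHom.liftOfSurjective π.toRingHom hπ ⟨g s, hk s⟩
  have hF : ∀ s x, F s (π x) = g s x := fun s x => RingHom.liftOfRightInverse_comp_apply π.toRingHom _ _ _ x
  refine ⟨I, inferInstance, inferInstance, D, c,
    { desc := fun s => Under.homMk (CommRingCat.ofHom (F s)) (CommRingCat.hom_ext (RingHom.ext fun r => ?_))
      fac := fun s a => Under.UnderMorphism.ext (CommRingCat.hom_ext (Ideal.Quotient.ringHom_ext (RingHom.ext fun x => ?_)))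
      uniq := fun s m hm => Under.UnderMorphism.ext (CommRingCat.hom_ext (RingHom.ext fun y => ?_)) },
    fun a => ?_, fun a b f => ?_, ⟨Iso.refl _⟩⟩
  · show F s (algebraMap R A r) = s.pt.hom.hom r
    rw [← π.commutes r, hF]
    exact DFunLike.congr_fun (congrArg CommRingCat.Hom.hom (Under.w (s.ι.app a₀))) r
  · show F s (π x) = (s.ι.app a).right.hom (Ideal.Quotient.mk a.1 x)
    rw [hF, hg]
  · obtain ⟨x, rfl⟩ := hπ y
    show m.right.hom (π x) = F s (π x)
    rw [hF, ← hg s a₀ x]
    exact DFunLike.congr_fun (congrArg (fun f => f.right.hom) (hm a₀)) (Ideal.Quotient.mk _ x)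
  · show RingHom.FinitePresentation (algebraMap R (MvPolynomial (Fin n) R ⧸ a.1))
    haveI : Algebra.FinitePresentation R (MvPolynomial (Fin n) R ⧸ a.1) := Algebra.FinitePresentation.quotient a.2.1
    exact RingHom.finitePresentation_algebraMap.mpr inferInstance
  · exact Ideal.Quotient.factor_surjective (show a.1 ≤ b.1 from leOfHom f)

end Groth.Agent.S9179
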