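import Groth.Statements.S9180
import Groth.Agent.LocalDim.Affine
import Groth.Agent.S2142
import Groth.Agent.FlatSerre.Invariants
-- import your own Groth.Agent.* helpers here

set_option autoImplicit false
universe u
open CAlg

namespace Groth.Agent.S9180

open TensorProduct in
/-- Let S be of finite type over a field k, K an extension field of k, S_K = S ⊗_k K, q a prime of S
whose residue field has transcendence degree r over k, and q_K a prime of S_K lying over q whose
residue field has transcendence degree r_K over K. Then the local ring at q_K of the fibre of S →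
S_K over q has dimension dim (S_K)_{q_K} − dim S_q = r − r_K (stated additively), and there is a
prime of S_K over q for which this dimension is zero. -/
theorem result (k S K : Type u) [Field k] [CommRing S] [Algebra k S]
    [Algebra.FiniteType k S] [Field K] [Algebra k K] (q : Ideal S) [q.IsPrime] (r : ℕ)
    (hr : Algebra.trdeg k q.ResidueField = r) (qK : Ideal (S ⊗[k] K)) [qK.IsPrime] [qK.LiesOver q]
    (rK : ℕ)
    (hrK : letI : Algebra K (S ⊗[k] K) := Algebra.TensorProduct.rightAlgebra
      Algebra.trdeg K qK.ResidueField = rK) :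
    ringKrullDim (EGA4.FibLocRing S (S ⊗[k] K) qK) + ringKrullDim (Localization.AtPrime q) =
        ringKrullDim (Localization.AtPrime qK) ∧
      ringKrullDim (EGA4.FibLocRing S (S ⊗[k] K) qK) + (rK : WithBot ℕ∞) = (r : WithBot ℕ∞) ∧
      ∃ (q' : Ideal (S ⊗[k] K)) (_ : q'.IsPrime), q'.LiesOver q ∧
        ringKrullDim (EGA4.FibLocRing S (S ⊗[k] K) q') = 0 := by
  letI : Algebra K (S ⊗[k] K) := Algebra.TensorProduct.rightAlgebra
  let e : (K ⊗[k] S) ≃ₐ[K] (S ⊗[k] K) :=
    AlgEquiv.ofRingEquiv (f := (Algebra.TensorProduct.comm k K S).toRingEquiv) fun c => by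
      show Algebra.TensorProduct.comm k K S (c ⊗ₜ 1) = _
      rw [Algebra.TensorProduct.comm_tmul]; rfl
  haveI : Algebra.FiniteType K (S ⊗[k] K) := Algebra.FiniteType.of_surjective e.toAlgHom e.surjective
  haveI : IsNoetherianRing S := Algebra.FiniteType.isNoetherianRing k S
  haveI : IsNoetherianRing (S ⊗[k] K) := Algebra.FiniteType.isNoetherianRing K (S ⊗[k] K)
  have h1 := Groth.Agent.LocalDim.localDim_eq K qK
  rw [Groth.Agent.LocalDim.ringKrullDim_quotient_eq_trdeg K qK rK hrK] at h1
  have h2 := Groth.Agent.LocalDim.localDim_eq k q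
  rw [Groth.Agent.LocalDim.ringKrullDim_quotient_eq_trdeg k q r hr] at h2
  have hloc : FlatMor.localDim (PrimeSpectrum (S ⊗[k] K)) ⟨qK, inferInstance⟩ =
      FlatMor.localDim (PrimeSpectrum S) ⟨q, inferInstance⟩ := by
    rw [← Groth.Agent.S2142.result (k := k) (K := K) q (qK.comap e.toRingEquiv.toRingHom) ?_]
    · exact Groth.Agent.LocalDim.localDim_openEmbedding
        (PrimeSpectrum.homeomorphOfRingEquiv e.toRingEquiv.symm).isOpenEmbedding (⟨qK, inferInstance⟩ : PrimeSpectrum (S ⊗[k] K))
    · rw [Ideal.comap_comap]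
      conv_rhs => rw [Ideal.LiesOver.over (P := qK) (p := q)]
      congr 1
  rw [h1, h2] at hloc
  let T := Localization.AtPrime qK
  haveI : Module.Flat S T := Module.Flat.trans S (S ⊗[k] K) T
  haveI : (IsLocalRing.maximalIdeal T).LiesOver q :=
    Ideal.LiesOver.trans (IsLocalRing.maximalIdeal T) qK q
  have h3 := Ideal.height_eq_height_add_of_liesOver_of_hasGoingDown q (IsLocalRing.maximalIdeal T)
  have hFib : ringKrullDim (EGA4.FibLocRing S (S ⊗[k] K) qK) =
      ((IsLocalRing.maximalIdeal T).map (Ideal.Quotient.mk (q.map (algebraMap S T)))).height := by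
    have hne : q.map (algebraMap S T) ≠ ⊤ := ne_top_of_le_ne_top (IsLocalRing.maximalIdeal.isMaximal T).ne_top
      (Ideal.map_le_iff_le_comap.mpr (Ideal.LiesOver.over (P := IsLocalRing.maximalIdeal T) (p := q)).le)
    haveI : Nontrivial (T ⧸ q.map (algebraMap S T)) := Ideal.Quotient.nontrivial_iff.mpr hne
    haveI : IsLocalRing (T ⧸ q.map (algebraMap S T)) := .of_surjective' (Ideal.Quotient.mk _) Ideal.Quotient.mk_surjective
    rw [IsLocalRing.map_maximalIdeal_of_surjective _ Ideal.Quotient.mk_surjective,
      IsLocalRing.maximalIdeal_height_eq_ringKrullDim]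
    refine ringKrullDim_eq_of_ringEquiv (Ideal.quotEquivOfEq ?_)
    exact congrArg (Ideal.map (algebraMap S T)) (Ideal.LiesOver.over (P := qK) (p := q)).symm
  have hsum : ringKrullDim (EGA4.FibLocRing S (S ⊗[k] K) qK) + ringKrullDim (Localization.AtPrime q) =
        ringKrullDim (Localization.AtPrime qK) := by
    rw [← IsLocalRing.maximalIdeal_height_eq_ringKrullDim (R := Localization.AtPrime qK), h3, hFib,
      IsLocalization.AtPrime.ringKrullDim_eq_height q (Localization.AtPrime q)]
    push_cast
    exact add_comm _ _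
  refine ⟨hsum, ?_, ?_⟩
  · rw [IsLocalization.AtPrime.ringKrullDim_eq_height q (Localization.AtPrime q),
      IsLocalization.AtPrime.ringKrullDim_eq_height qK (Localization.AtPrime qK)] at hsum
    obtain ⟨a, ha⟩ : ∃ m : ℕ, q.height = m := ⟨_, (ENat.natCast_toNat Ideal.height_ne_top_of_isPrime).symm⟩
    obtain ⟨b, hb⟩ : ∃ m : ℕ, qK.height = m := ⟨_, (ENat.natCast_toNat Ideal.height_ne_top_of_isPrime).symm⟩
    rw [ha, hb] at hsum hloc
    rw [hFib] at hsum ⊢
    generalize ((IsLocalRing.maximalIdeal T).map (Ideal.Quotient.mk (q.map (algebraMap S T)))).height = c at hsum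
    induction c using ENat.recTopCoe with
    | top =>
      have : (⊤ : ℕ∞) + a = b := WithBot.coe_inj.mp (by push_cast; exact hsum)
      rw [top_add] at this
      exact absurd this.symm (ENat.natCast_ne_top b)
    | coe c =>
      have e1 : c + a = b := by exact_mod_cast hsum
      have e2 : b + rK = a + r := by exact_mod_cast hloc
      have : c + rK = r := by omega
      exact_mod_cast this
  · obtain ⟨r', hr', -, hq', h0, -⟩ :=
      Groth.Agent.FlatSerre.exists_fibLoc_dim_zero (B := S) (C := S ⊗[k] K) q qK (Ideal.LiesOver.over (P := qK) (p := q)).symm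
    exact ⟨r', hr', ⟨hq'.symm⟩, h0⟩

end Groth.Agent.S9180
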