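import Groth.Statements.S9181
import Groth.Agent.PrescQF.Basic
-- import your own Groth.Agent.* helpers here

set_option autoImplicit false
universe u
open CAlg

namespace Groth.Agent.S9181

/-- Let R → S be of finite type, q a prime of S over p, Q the prime of κ(p) ⊗ S over q, with the fibre
of local dimension n at Q and κ(q) of transcendence degree r over κ(p). Then for some f ∉ p and g ∉
q there is an R-algebra map φ : R_f[x_1, …, x_n] → S_g, of finite type and quasi-finite, such that
the inverse image of q S_g under φ is the ideal generated by p and the variables x_{r+1}, …, x_n. -/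
theorem result (R S : Type u) [CommRing R] [CommRing S]
    [Algebra R S] [Algebra.FiniteType R S] (p : Ideal R) [p.IsPrime] (q : Ideal S) [q.IsPrime] [q.LiesOver p]
    [Algebra (Localization.AtPrime p) (Localization.AtPrime q)]
    [Localization.AtPrime.IsLiesOverAlgebra p q] (Q : PrimeSpectrum (p.Fiber S))
    (hQ : Q.asIdeal.comap (Algebra.TensorProduct.includeRight.toRingHom) = q) (n r : ℕ)
    (hdim : FlatMor.localDim (PrimeSpectrum (p.Fiber S)) Q = (n : WithBot ℕ∞))
    (hr : Algebra.trdeg p.ResidueField q.ResidueField = r) :
    ∃ (f : R) (g : S), f ∉ p ∧ g ∉ q ∧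
      ∃ φ : MvPolynomial (Fin n) (Localization.Away f) →ₐ[R] Localization.Away g,
        φ.toRingHom.FiniteType ∧ φ.toRingHom.QuasiFinite ∧
        (q.map (algebraMap S (Localization.Away g))).comap φ =
          p.map (algebraMap R (MvPolynomial (Fin n) (Localization.Away f))) ⊔
            Ideal.span (Set.range fun i : {i : Fin n // r ≤ (i : ℕ)} =>
              (MvPolynomial.X (i : Fin n) : MvPolynomial (Fin n) (Localization.Away f))) := by
  obtain ⟨g, hg, φ, hft, hqf, hc⟩ := Groth.Agent.PrescQF.exists_prescribed p q Q hQ n r hdim hr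
  let e : Localization.Away (1 : R) ≃ₐ[R] R :=
    (IsLocalization.atOne R (Localization.Away (1 : R))).symm
  let E : MvPolynomial (Fin n) (Localization.Away (1 : R)) ≃ₐ[R] MvPolynomial (Fin n) R :=
    MvPolynomial.mapAlgEquiv (Fin n) e
  refine ⟨1, g, fun h => (inferInstance : p.IsPrime).ne_top ((Ideal.eq_top_iff_one p).mpr h), hg, φ.comp E.toAlgHom, ?_, ?_, ?_⟩
  · exact hft.comp (RingHom.FiniteType.of_surjective _ E.surjective)
  · exact hqf.comp (RingHom.QuasiFinite.of_finite (RingHom.Finite.of_surjective _ E.surjective))
  · have h2 : (q.map (algebraMap S (Localization.Away g))).comap (φ.comp E.toAlgHom) =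
        Ideal.comap E.toRingEquiv ((q.map (algebraMap S (Localization.Away g))).comap φ) := rfl
    rw [h2, hc, ← Ideal.map_symm, Ideal.map_sup, Ideal.map_span, ← Set.range_comp]
    congr 1
    · rw [← Ideal.map_coe E.toRingEquiv.symm, Ideal.map_map]
      congr 1
      exact RingHom.ext fun c => E.symm.commutes c
    · congr 1
      refine congrArg Set.range (funext fun i => ?_)
      show E.symm (MvPolynomial.X (i : Fin n)) = MvPolynomial.X (i : Fin n)
      rw [AlgEquiv.symm_apply_eq]
      simp [E]

end Groth.Agent.S9181
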