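import Groth.Statements.S9188
import Groth.Agent.FibConstr.Eventual
-- import your own Groth.Agent.* helpers here

set_option autoImplicit false
universe u
open CategoryTheory AlgebraicGeometry
open Lim

namespace Groth.Agent.S9188

/-- Let S = lim S_i be a cofiltered limit of schemes with affine transition morphisms, S_{i₀} a
quasi-compact quasi-separated stage, f₀ : X₀ → Y₀ a morphism of quasi-compact quasi-separated
schemes over S_{i₀}, and f : X → Y its base change along S → S_{i₀} (base changes expressed by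
pullback squares). If f₀ is locally of finite type and f is unramified (formally unramified; it is
locally of finite type as a base change of f₀), then for some index i over i₀ the base change f_i :
X_i → Y_i of f₀ along S_i → S_{i₀} is unramified, i.e. formally unramified (and locally of finite
type). -/
theorem result {I : Type u} [SmallCategory I] [IsCofiltered I]
    (D : I ⥤ Scheme.{u}) (c : Limits.Cone D) (hc : Limits.IsLimit c)
    [∀ (i j : I) (f : i ⟶ j), IsAffineHom (D.map f)] (i₀ : I) [CompactSpace (D.obj i₀)]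
    [QuasiSeparatedSpace (D.obj i₀)] {X₀ Y₀ : Scheme.{u}} (f₀ : X₀ ⟶ Y₀) (g₀ : Y₀ ⟶ D.obj i₀)
    [CompactSpace X₀] [QuasiSeparatedSpace X₀] [CompactSpace Y₀] [QuasiSeparatedSpace Y₀]
    [LocallyOfFiniteType f₀]
    {X Y : Scheme.{u}} (f : X ⟶ Y) (g : Y ⟶ c.pt) (qY : Y ⟶ Y₀) (qX : X ⟶ X₀)
    (hY : IsPullback qY g g₀ (c.π.app i₀)) (hX : IsPullback qX f f₀ qY) [FormallyUnramified f] :
    ∃ (i : I) (φ : i ⟶ i₀) (Xi Yi : Scheme.{u}) (fi : Xi ⟶ Yi) (gi : Yi ⟶ D.obj i) (pY : Yi ⟶ Y₀)
      (pX : Xi ⟶ X₀), IsPullback pY gi g₀ (D.map φ) ∧ IsPullback pX fi f₀ pY ∧ FormallyUnramified fi := by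
  obtain ⟨i, φ, hi⟩ := FibConstr.exists_stage_source hc hY hX
    (Groth.Agent.LimLib.lcClosed_of_isClosed (Groth.FibrewiseCrit.isOpen_fuLocus f₀).isClosed_compl)
    (fun x hx => hx ((Groth.FibrewiseCrit.mem_fuLocus_of_isPullback hX x).1
      ((Groth.FibrewiseCrit.formallyUnramified_iff_forall_mem_fuLocus f).1 inferInstance x)))
  refine ⟨i, φ, _, _, _, _, _, _, IsPullback.of_hasPullback g₀ (D.map φ), IsPullback.of_hasPullback f₀ _,
    (Groth.FibrewiseCrit.formallyUnramified_iff_forall_mem_fuLocus _).2 fun x => ?_⟩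
  exact (Groth.FibrewiseCrit.mem_fuLocus_of_isPullback (IsPullback.of_hasPullback f₀ _) x).2 (by_contra (hi x))

end Groth.Agent.S9188
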