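import Groth.Statements.S9201
import Groth.Agent.LimLib.EventualBase

set_option autoImplicit false
set_option backward.isDefEq.respectTransparency false
set_option backward.defeqAttrib.useBackward true
universe u
open CategoryTheory AlgebraicGeometry
open Lim

namespace Groth.Agent.S9201

/-- Let S be a quasi-separated scheme and X = lim X_i a cofiltered limit of S-schemes X_i (a diagram
with a compatible family of structure maps to S) whose transition morphisms are closed immersions,
every X_i quasi-compact, quasi-separated and locally of finite type over S; the structure map X → S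
is the composite X → X_{i₀} → S for any index i₀. If X → S is an immersion, then X_i → S is an
immersion for all i beyond some index i₁. -/
theorem result {I : Type u} [SmallCategory I] [IsCofiltered I] (S : Scheme.{u}) [QuasiSeparatedSpace S]
    (D : I ⥤ Scheme.{u}) (t : D ⟶ (Functor.const I).obj S) (c : Limits.Cone D) (hc : Limits.IsLimit c)
    [∀ (i j : I) (a : i ⟶ j), IsClosedImmersion (D.map a)]
    [∀ i, CompactSpace (D.obj i)] [∀ i, QuasiSeparatedSpace (D.obj i)]
    [∀ i, LocallyOfFiniteType (t.app i)] (i₀ : I)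
    [IsImmersion (c.π.app i₀ ≫ t.app i₀)] :
    ∃ i₁ : I, ∀ (i : I) (_ : i ⟶ i₁), IsImmersion (t.app i) := by
  classical
  let T : ∀ i, D.obj i ⟶ S := fun i => t.app i
  have ht : ∀ ⦃i j : I⦄ (φ : j ⟶ i), D.map φ ≫ T i = T j :=
    fun i j φ => (t.naturality φ).trans (Category.comp_id _)
  have hX : IsImmersion (c.π.app i₀ ≫ T i₀) := ‹_›
  haveI : ∀ i, LocallyOfFiniteType (T i) := fun i => (inferInstance : LocallyOfFiniteType (t.app i))
  haveI : ∀ {i j : I} (f : i ⟶ j), IsAffineHom (D.map f) := fun f => inferInstance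
  let f := c.π.app i₀ ≫ T i₀
  let O : S.Opens := f.coborderRange
  have htop : c.π.app i₀ ⁻¹ᵁ (T i₀ ⁻¹ᵁ O) = ⊤ := eq_top_iff.2 fun x _ => by
    show f x ∈ O
    exact subset_coborder ⟨x, rfl⟩
  obtain ⟨i, φ, hi⟩ := exists_map_eq_top D c hc (T i₀ ⁻¹ᵁ O) htop
  rw [Groth.Agent.LimLib.preimage_t T ht φ] at hi
  obtain ⟨s, hsO, hs⟩ := Groth.Agent.LimLib.exists_affine_image_cover (T i) O fun x =>
    (hi.ge (trivial : x ∈ (⊤ : (D.obj i).Opens)) :)
  have he : c.π.app i ≫ T i = f := Groth.Agent.LimLib.π_comp_t T ht i i₀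
  have hkey : ∀ U ∈ s, IsAffineOpen (f ⁻¹ᵁ U.1) ∧ Function.Surjective (f.app U.1) := by
    intro U hU
    have hle : U.1 ≤ O := hsO U hU
    have haff : IsAffineOpen (f.coborderRange.ι ⁻¹ᵁ U.1) :=
      U.2.preimage_of_isOpenImmersion _ (by rw [Scheme.Opens.opensRange_ι]; exact hle)
    have h1 : IsAffineOpen (f.liftCoborder ⁻¹ᵁ (f.coborderRange.ι ⁻¹ᵁ U.1)) := haff.preimage _
    rw [← Scheme.Hom.comp_preimage, f.liftCoborder_ι] at h1
    refine ⟨h1, Groth.Agent.LimLib.surjective_app_congr f.liftCoborder_ι U.1 ?_⟩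
    haveI := f.coborderRange.ι.isIso_app U.1 (by rw [Scheme.Opens.opensRange_ι]; exact hle)
    exact Groth.Agent.LimLib.surjective_app_comp _ _ _ (ConcreteCategory.bijective_of_isIso _).2
      (Scheme.Hom.app_surjective _ _ haff)
  obtain ⟨j, ψ, hj⟩ := Groth.Agent.LimLib.exists_isClosedImmersion_restrict T ht hc
    (fun f => inferInstance) s (i := i) (fun U hU => he ▸ (hkey U hU).1)
    (fun U hU => Groth.Agent.LimLib.surjective_app_congr he.symm U.1 (hkey U hU).2)
  refine ⟨j, fun k χ => ?_⟩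
  change IsImmersion (T k)
  refine Groth.Agent.LimLib.of_restrict (P := @IsImmersion) (fun f g _ _ => inferInstance) (T k)
    (fun a : s => (a.1.1 : S.Opens)) (fun x => ?_) fun a => ?_
  · obtain ⟨U, hU, hx⟩ := hs (D.map (χ ≫ ψ) x)
    refine ⟨⟨U, hU⟩, ?_⟩
    rw [← ht (χ ≫ ψ)]
    exact hx
  · have := hj a k χ
    infer_instance

end Groth.Agent.S9201
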