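import Groth.Statements.S9209
import Groth.Agent.DvrDense.Basic
-- import your own Groth.Agent.* helpers here

set_option autoImplicit false
universe u
open CategoryTheory CategoryTheory.Limits AlgebraicGeometry
open Lim

namespace Groth.Agent.S9209

/-- Let S be a locally Noetherian scheme, f : X → S a separated morphism of finite type and h : U → X a
morphism of finite type whose image is dense in X. Suppose that for every discrete valuation ring A
with fraction field K and every commutative square formed by a morphism Spec K → U → X and a
morphism Spec A → S, there is a morphism Spec A → X making the resulting diagram commute. Then f is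
proper. -/
theorem result {X S U : Scheme.{u}} [IsLocallyNoetherian S] (f : X ⟶ S)
    [IsSeparated f] [LocallyOfFiniteType f] [QuasiCompact f] (h : U ⟶ X) [LocallyOfFiniteType h] [QuasiCompact h]
    (hd : DenseRange h.base)
    (H : ∀ (A : Type u) [CommRing A] [IsDomain A] [IsDiscreteValuationRing A]
      (u : Spec (CommRingCat.of (FractionRing A)) ⟶ U) (y : Spec (CommRingCat.of A) ⟶ S),
      u ≫ h ≫ f = Spec.map (CommRingCat.ofHom (algebraMap A (FractionRing A))) ≫ y →
        ∃ l : Spec (CommRingCat.of A) ⟶ X, l ≫ f = y ∧ Spec.map (CommRingCat.ofHom (algebraMap A (FractionRing A))) ≫ l = u ≫ h) :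
    IsProper f := by
  have hg : Groth.Agent.UnivClosed.HasGenericDvrLift f := by
    intro η hη A hA y hy
    obtain ⟨v, rfl⟩ := Groth.Agent.DvrDense.exists_preimage_generic h hd η hη
    letI := (h.residueFieldMap v).hom.toAlgebra
    haveI : Algebra.EssFiniteType (X.residueField (h v)) (U.residueField v) :=
      Groth.Agent.DvrDense.residueFieldMap_essFiniteType h v
    obtain ⟨O, hO, hOA⟩ := Groth.Agent.DvrDense.exists_dvr_extension (L := U.residueField v) A hA
    obtain ⟨i, hi, hi'⟩ := Groth.Agent.DvrDense.exists_incl h v A O hOA
    haveI := hi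
    obtain ⟨e, he⟩ := Groth.Agent.DvrDense.exists_fractionRing_comparison v O
    have key : Spec.map (CommRingCat.ofHom O.subtype) ≫ Spec.map i ≫ y = U.fromSpecResidueField v ≫ h ≫ f := by
      rw [← Spec.map_comp_assoc, hi', Spec.map_comp, Category.assoc, hy,
        ← Category.assoc, Scheme.Hom.SpecMap_residueFieldMap_fromSpecResidueField, Category.assoc]
    haveI := hO
    obtain ⟨l, hl₁, hl₂⟩ := H O (Spec.map e.inv ≫ U.fromSpecResidueField v) (Spec.map i ≫ y) (by
      rw [Category.assoc, ← key, ← Spec.map_comp_assoc, ← he, Category.assoc, e.hom_inv_id,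
        Category.comp_id])
    exact Groth.Agent.DvrDense.exists_lift_of_extension h f v A O hOA y hy i hi' l hl₁ (by
      rw [← he, Spec.map_comp, Category.assoc, hl₂, Category.assoc, ← Spec.map_comp_assoc,
        e.inv_hom_id, Spec.map_id]
      exact Category.id_comp _)
  haveI := Groth.Agent.UnivClosed.universallyClosed_of_generic f hg
  exact { }

end Groth.Agent.S9209
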