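import Groth.Statements.S9210
import Groth.Agent.DvrDense.Basic
-- import your own Groth.Agent.* helpers here

set_option autoImplicit false
universe u
open CategoryTheory CategoryTheory.Limits AlgebraicGeometry
open Lim

namespace Groth.Agent.S9210

/-- Let S be a locally Noetherian scheme, f : X → S a morphism locally of finite type and h : U → X a
morphism of finite type whose image is dense in X. Suppose that for every discrete valuation ring A
with fraction field K and every commutative square formed by a morphism Spec K → U → X and a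
morphism Spec A → S, there is at most one morphism Spec A → X making the resulting diagram commute.
Then f is separated. -/
theorem result {X S U : Scheme.{u}} [IsLocallyNoetherian S] (f : X ⟶ S)
    [LocallyOfFiniteType f] (h : U ⟶ X) [LocallyOfFiniteType h] [QuasiCompact h] (hd : DenseRange h.base)
    (H : ∀ (A : Type u) [CommRing A] [IsDomain A] [IsDiscreteValuationRing A]
      (u : Spec (CommRingCat.of (FractionRing A)) ⟶ U) (y : Spec (CommRingCat.of A) ⟶ S),
      u ≫ h ≫ f = Spec.map (CommRingCat.ofHom (algebraMap A (FractionRing A))) ≫ y →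
        ∀ l₁ l₂ : Spec (CommRingCat.of A) ⟶ X, l₁ ≫ f = y → Spec.map (CommRingCat.ofHom (algebraMap A (FractionRing A))) ≫ l₁ = u ≫ h →
          l₂ ≫ f = y → Spec.map (CommRingCat.ofHom (algebraMap A (FractionRing A))) ≫ l₂ = u ≫ h → l₁ = l₂) :
    IsSeparated f := by
  refine Groth.Agent.UnivClosed.isSeparated_of_generic f fun η hη A hA l l' hll hl hl' => ?_
  obtain ⟨v, rfl⟩ := Groth.Agent.DvrDense.exists_preimage_generic h hd η hη
  letI := (h.residueFieldMap v).hom.toAlgebra
  haveI : Algebra.EssFiniteType (X.residueField (h v)) (U.residueField v) :=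
    Groth.Agent.DvrDense.residueFieldMap_essFiniteType h v
  obtain ⟨O, hO, hOA⟩ := Groth.Agent.DvrDense.exists_dvr_extension (L := U.residueField v) A hA
  obtain ⟨i, hi, hi'⟩ := Groth.Agent.DvrDense.exists_incl h v A O hOA
  haveI := hi
  obtain ⟨e, he⟩ := Groth.Agent.DvrDense.exists_fractionRing_comparison v O
  haveI := hO
  have hK : ∀ m : Spec (CommRingCat.of A) ⟶ X,
      Spec.map (CommRingCat.ofHom A.subtype) ≫ m = X.fromSpecResidueField (h v) →
      Spec.map (CommRingCat.ofHom (algebraMap O (FractionRing O))) ≫ Spec.map i ≫ m =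
        (Spec.map e.inv ≫ U.fromSpecResidueField v) ≫ h := by
    intro m hm
    rw [Category.assoc, ← Scheme.Hom.SpecMap_residueFieldMap_fromSpecResidueField, ← hm,
      ← Spec.map_comp_assoc, ← Spec.map_comp_assoc, ← Spec.map_comp_assoc]
    congr 2
    rw [← Category.assoc, ← hi', ← he]
    simp
  have h12 := H O (Spec.map e.inv ≫ U.fromSpecResidueField v) (Spec.map i ≫ l ≫ f) (by
      simpa only [Category.assoc] using (congrArg (· ≫ f) (hK l hl)).symm)
    (Spec.map i ≫ l) (Spec.map i ≫ l') (by rw [Category.assoc]) (hK l hl)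
    (by rw [Category.assoc, hll]) (hK l' hl')
  have hc : l (IsLocalRing.closedPoint A) = l' (IsLocalRing.closedPoint A) := by
    have hi0 : Spec.map i (IsLocalRing.closedPoint O) = IsLocalRing.closedPoint A :=
      IsLocalRing.comap_closedPoint i.hom
    rw [← hi0, ← Scheme.Hom.comp_apply, h12, Scheme.Hom.comp_apply]
  obtain ⟨W, hW, hzW, -⟩ := exists_isAffineOpen_mem_and_subset
    (U := (⊤ : X.Opens)) (x := l (IsLocalRing.closedPoint A)) trivial
  exact Groth.Agent.UnivClosed.ext_of_mem (O := CommRingCat.of A) hW l l' hzW (hc ▸ hzW)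
    (CommRingCat.ofHom A.subtype) Subtype.val_injective (hl.trans hl'.symm)

end Groth.Agent.S9210
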