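import Groth.Statements.S9212
import Groth.Agent.UnivClosed.Generic
-- import your own Groth.Agent.* helpers here

set_option autoImplicit false
universe u
open CategoryTheory CategoryTheory.Limits AlgebraicGeometry
open Lim

namespace Groth.Agent.S9212

/-- Let S be a locally Noetherian scheme and f : X → S a morphism of finite type. Then f is proper if
and only if: for every generic point η of an irreducible component of X, every discrete valuation
ring A contained in the residue field κ(η) with fraction field κ(η) (a valuation subring of κ(η)
which is a discrete valuation ring), and every morphism Spec A → S whose restriction to Spec κ(η) is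
the canonical morphism Spec κ(η) → X followed by f, there is exactly one morphism Spec A → X over S
restricting to the canonical morphism on Spec κ(η). -/
theorem result {X S : Scheme.{u}} [IsLocallyNoetherian S] (f : X ⟶ S)
    [LocallyOfFiniteType f] [QuasiCompact f] :
    IsProper f ↔ ∀ (η : X), closure {η} ∈ irreducibleComponents (X : Type u) →
      ∀ (A : ValuationSubring (X.residueField η)), IsDiscreteValuationRing A →
        ∀ y : Spec (CommRingCat.of A) ⟶ S,
          Spec.map (CommRingCat.ofHom A.subtype) ≫ y = X.fromSpecResidueField η ≫ f →
          ∃! l : Spec (CommRingCat.of A) ⟶ X,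
            l ≫ f = y ∧ Spec.map (CommRingCat.ofHom A.subtype) ≫ l = X.fromSpecResidueField η := by
  refine ⟨fun hf η _ A hA y hy => ?_, fun H => ?_⟩
  · have hv : ValuativeCriterion f := by
      rw [IsProper.eq_valuativeCriterion] at hf
      exact hf.1.1.1
    obtain ⟨hu⟩ := hv { R := A, K := X.residueField η, i₁ := X.fromSpecResidueField η, i₂ := y, commSq := ⟨hy.symm⟩ }
    refine ⟨hu.default.l, ⟨hu.default.fac_right, hu.default.fac_left⟩, fun l hl => ?_⟩
    exact congrArg CommSq.LiftStruct.l (hu.uniq ⟨l, hl.2, hl.1⟩)
  · haveI : IsSeparated f := UnivClosed.isSeparated_of_generic f fun η hη A hA l l' hll h h' => by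
      obtain ⟨_, -, huniq⟩ := H η hη A hA (l ≫ f) (by rw [← Category.assoc, h])
      exact (huniq l ⟨rfl, h⟩).trans (huniq l' ⟨hll.symm, h'⟩).symm
    haveI := UnivClosed.universallyClosed_of_generic f fun η hη A hA y hy => (H η hη A hA y hy).exists
    exact { }

end Groth.Agent.S9212
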