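import Groth.Statements.S9213
import Groth.Agent.UnivClosed.Dvr
-- import your own Groth.Agent.* helpers here

set_option autoImplicit false
universe u
open CategoryTheory CategoryTheory.Limits AlgebraicGeometry
open Lim

namespace Groth.Agent.S9213

/-- Let S be a locally Noetherian scheme and f : X → S a morphism of finite type. Then f is universally
closed if and only if for every discrete valuation ring A with fraction field K and every
commutative square formed by morphisms Spec K → X and Spec A → S there is some morphism Spec A → X
making the diagram commute (the existence part of the valuative criterion, tested on discrete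
valuation rings only). -/
theorem result {X S : Scheme.{u}} [IsLocallyNoetherian S] (f : X ⟶ S)
    [LocallyOfFiniteType f] [QuasiCompact f] :
    UniversallyClosed f ↔ ∀ (A : Type u) [CommRing A] [IsDomain A] [IsDiscreteValuationRing A]
      (x : Spec (CommRingCat.of (FractionRing A)) ⟶ X) (y : Spec (CommRingCat.of A) ⟶ S),
      x ≫ f = Spec.map (CommRingCat.ofHom (algebraMap A (FractionRing A))) ≫ y → ∃ l : Spec (CommRingCat.of A) ⟶ X, l ≫ f = y ∧ Spec.map (CommRingCat.ofHom (algebraMap A (FractionRing A))) ≫ l = x := by
  refine ⟨fun hf A _ _ _ x y h => ?_, fun H =>
    UnivClosed.universallyClosed_of_hasDvrLift f (UnivClosed.hasDvrLift_of_fractionRing f H)⟩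
  have he : ValuativeCriterion.Existence f := by
    rw [UniversallyClosed.eq_valuativeCriterion] at hf
    exact hf.1
  let sq : CommSq x (Spec.map (CommRingCat.ofHom (algebraMap A (FractionRing A)))) f y := ⟨h⟩
  haveI : sq.HasLift := he { R := A, K := FractionRing A, i₁ := x, i₂ := y, commSq := sq }
  exact ⟨sq.lift, sq.fac_right, sq.fac_left⟩

end Groth.Agent.S9213
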