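import Groth.Statements.S9217
import Groth.Agent.LimLib.StalkLimit

set_option autoImplicit false
set_option backward.isDefEq.respectTransparency false
set_option backward.defeqAttrib.useBackward true
universe u
open CategoryTheory CategoryTheory.Limits AlgebraicGeometry
open Lim

namespace Groth.Agent.S9217

/-- Let S be a scheme, X and Y schemes over S with Y locally of finite presentation over S, and x a
closed point of X such that the inclusion of U = X - {x} in X is quasi-compact; let V be the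
complement of the closed point in Spec O_{X,x}, i.e. the preimage of U under the canonical morphism
Spec O_{X,x} → X. Then restriction is a bijection from the S-morphisms X → Y to the pairs (a, b) of
S-morphisms a : U → Y, b : Spec O_{X,x} → Y which agree on V: two morphisms X → Y with the same
restrictions to U and to Spec O_{X,x} are equal, and every such compatible pair of S-morphisms is
the pair of restrictions of an S-morphism X → Y. -/
theorem result {X Y S : Scheme.{u}} (p : X ⟶ S) (q : Y ⟶ S) [LocallyOfFinitePresentation q]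
    (x : X) (U : X.Opens) (hU : (U : Set X) = {x}ᶜ) [QuasiCompact U.ι] :
    (∀ g₁ g₂ : X ⟶ Y, U.ι ≫ g₁ = U.ι ≫ g₂ → X.fromSpecStalk x ≫ g₁ = X.fromSpecStalk x ≫ g₂ → g₁ = g₂) ∧
    (∀ (a : (U : Scheme.{u}) ⟶ Y) (b : Spec (X.presheaf.stalk x) ⟶ Y), a ≫ q = U.ι ≫ p →
      b ≫ q = X.fromSpecStalk x ≫ p → ((X.fromSpecStalk x) ⁻¹ᵁ U).ι ≫ b = ((X.fromSpecStalk x) ∣_ U) ≫ a →
        ∃ g : X ⟶ Y, g ≫ q = p ∧ U.ι ≫ g = a ∧ X.fromSpecStalk x ≫ g = b) := by
  classical
  refine ⟨fun g₁ g₂ h₁ h₂ => ?_, fun a b ha hb hab => ?_⟩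
  · refine Groth.Agent.LimLib.hom_ext_of_fromSpecStalk _ _ fun z => ?_
    by_cases hz : z = x
    · subst hz; exact h₂
    · have hzU : z ∈ U := by
        show z ∈ (U : Set X)
        rw [hU]; exact hz
      rw [← U.fromSpecStalkOfMem_ι z hzU, Category.assoc, Category.assoc, h₁]
  -- spread `b` to an affine neighbourhood
  let D := Groth.Agent.LimLib.nhdDiagram X x
  let t : D ⟶ (Functor.const _).obj S :=
    { app := fun W => W.1.1.ι ≫ p
      naturality := fun V W f => by simp [D, Groth.Agent.LimLib.nhdDiagram] }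
  have hc := Groth.Agent.LimLib.isLimitNhdCone X x
  haveI : ∀ W, IsAffine (D.obj W) := fun W => W.1.2
  have hbt : (Groth.Agent.LimLib.nhdCone X x).π ≫ t = (Functor.const _).map (b ≫ q) := by
    ext W : 2
    show _ ≫ W.1.1.ι ≫ p = b ≫ q
    rw [← Category.assoc, Groth.Agent.LimLib.π_ι, hb]
  obtain ⟨W, gW, hgW, hgW'⟩ := Scheme.exists_π_app_comp_eq_of_locallyOfFinitePresentation
    D t q _ hc b hbt
  -- compare with `a` on the intersection
  let V₀ : (D.obj W).Opens := W.1.1.ι ⁻¹ᵁ U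
  have hV₀ : IsCompact (V₀ : Set (D.obj W)) := by
    rw [W.1.1.ι.isOpenEmbedding.isEmbedding.isCompact_iff]
    have h1 := (QuasiCompact.isCompact_preimage (f := U.ι) _ W.1.1.2 W.1.2.isCompact).image
      U.ι.continuous
    convert h1 using 1
    show (W.1.1.ι ''ᵁ (W.1.1.ι ⁻¹ᵁ U) : X.Opens).1 = (U.ι ''ᵁ (U.ι ⁻¹ᵁ W.1.1) : X.Opens).1
    rw [Scheme.Hom.image_preimage_eq_opensRange_inf, Scheme.Hom.image_preimage_eq_opensRange_inf,
      Scheme.Opens.opensRange_ι, Scheme.Opens.opensRange_ι, inf_comm]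
  haveI (j : Over W) : CompactSpace ((opensDiagram D W V₀).obj j) :=
    isCompact_iff_compactSpace.mp (QuasiCompact.isCompact_preimage _ V₀.2 hV₀)
  let t₀ : opensDiagram D W V₀ ⟶ (Functor.const (Over W)).obj S :=
    opensDiagramι D W V₀ ≫ (Over.forget W).whiskerLeft t
  let o : Over W := Over.mk (𝟙 W)
  let P := D.map o.hom ⁻¹ᵁ V₀
  have hle : ∀ z : D.obj W, z ∈ P → W.1.1.ι z ∈ U := fun z hz => by
    have h1 : W.1.1.ι (D.map o.hom z) ∈ U := hz
    rw [show D.map o.hom = 𝟙 _ from D.map_id W] at h1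
    exact h1
  let ia : P.toScheme ⟶ U.toScheme := IsOpenImmersion.lift U.ι (P.ι ≫ W.1.1.ι) (by
    rintro _ ⟨z, rfl⟩
    rw [Scheme.Opens.range_ι]
    exact hle z.1 z.2)
  have hia : ia ≫ U.ι = P.ι ≫ W.1.1.ι := IsOpenImmersion.lift_fac _ _ _
  let oc := (opensCone D (Groth.Agent.LimLib.nhdCone X x) W V₀).π.app o
  obtain ⟨W', φ, hφ⟩ := Scheme.exists_hom_comp_eq_comp_of_locallyOfFiniteType
    (opensDiagram D W V₀) t₀ q _ (isLimitOpensCone D _ hc W V₀) (i := o) (P.ι ≫ gW) (ia ≫ a)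
    (by simp [t₀, hgW', P, o])
    (by rw [Category.assoc, ha, reassoc_of% hia]; simp [t₀, t, P, o]) (by
      have hP : ((Groth.Agent.LimLib.nhdCone X x).π.app W) ⁻¹ᵁ V₀ = X.fromSpecStalk x ⁻¹ᵁ U := by
        rw [← Scheme.Hom.comp_preimage, Groth.Agent.LimLib.π_ι]
      have hoc : oc ≫ P.ι = ((Groth.Agent.LimLib.nhdCone X x).π.app W ⁻¹ᵁ V₀).ι ≫
          (Groth.Agent.LimLib.nhdCone X x).π.app W := by
        simp [oc, o, P]
      have h2 : oc ≫ ia = (Spec (X.presheaf.stalk x)).homOfLE hP.le ≫ (X.fromSpecStalk x ∣_ U) := by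
        rw [← cancel_mono U.ι, Category.assoc, hia, reassoc_of% hoc, Groth.Agent.LimLib.π_ι,
          Category.assoc, morphismRestrict_ι, Scheme.homOfLE_ι_assoc]
      show oc ≫ P.ι ≫ gW = oc ≫ ia ≫ a
      rw [reassoc_of% hoc, hgW, reassoc_of% h2, ← hab, Scheme.homOfLE_ι_assoc])
  -- glue
  let O : X.Opens := W'.left.1.1
  have hxO : x ∈ O := W'.left.2
  have hOW : O ≤ W.1.1 := leOfHom W'.hom
  let e := X.homOfLE hOW
  let gO : O.toScheme ⟶ Y := e ≫ gW
  have hagree : X.homOfLE (inf_le_left : U ⊓ O ≤ U) ≫ a =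
      X.homOfLE (inf_le_right : U ⊓ O ≤ O) ≫ gO := by
    let r : (U ⊓ O : X.Opens).toScheme ⟶ (D.map W'.hom ⁻¹ᵁ V₀ : (D.obj W'.left).Opens).toScheme :=
      IsOpenImmersion.lift (D.map W'.hom ⁻¹ᵁ V₀).ι (X.homOfLE (inf_le_right : U ⊓ O ≤ O)) (by
        rintro _ ⟨z, rfl⟩
        rw [Scheme.Opens.range_ι]
        show W.1.1.ι (D.map W'.hom (X.homOfLE _ z)) ∈ U
        have e2 : X.homOfLE (inf_le_right : U ⊓ O ≤ O) ≫ e ≫ W.1.1.ι = (U ⊓ O).ι := by simp [e]
        have e3 : (X.homOfLE (inf_le_right : U ⊓ O ≤ O) ≫ e ≫ W.1.1.ι) z ∈ U := by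
          rw [e2]; exact z.2.1
        exact e3)
    have hr : r ≫ (D.map W'.hom ⁻¹ᵁ V₀).ι = X.homOfLE (inf_le_right : U ⊓ O ≤ O) :=
      IsOpenImmersion.lift_fac _ _ _
    let m := (opensDiagram D W V₀).map φ
    have hm : m ≫ P.ι = (D.map W'.hom ⁻¹ᵁ V₀).ι ≫ D.map φ.left := by
      simp [m, P]
    have hm' : D.map φ.left = e := by
      simp [D, e, Groth.Agent.LimLib.nhdDiagram]
    have h2 : r ≫ m ≫ ia = X.homOfLE (inf_le_left : U ⊓ O ≤ U) := by
      rw [← cancel_mono U.ι, Category.assoc, Category.assoc, hia, reassoc_of% hm,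
        reassoc_of% hr, hm']
      simp [e]
    have h3 := r ≫= hφ
    rw [reassoc_of% hm, reassoc_of% hr, hm', reassoc_of% h2] at h3
    exact h3.symm
  let Us : Bool → X.Opens := fun i => cond i U O
  have hcov : TopologicalSpace.IsOpenCover Us := TopologicalSpace.IsOpenCover.mk (eq_top_iff.2 fun z _ => by
    by_cases hz : z = x
    · subst hz; exact TopologicalSpace.Opens.mem_iSup.2 ⟨false, hxO⟩
    · refine TopologicalSpace.Opens.mem_iSup.2 ⟨true, ?_⟩
      show z ∈ (U : Set X)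
      rw [hU]; exact hz)
  let cov := Scheme.openCoverOfIsOpenCover X Us hcov
  let mor : ∀ i : Bool, (Us i).toScheme ⟶ Y := fun i => match i with
    | true => a
    | false => gO
  have hmor : ∀ i j, pullback.fst (cov.f i) (cov.f j) ≫ mor i =
      pullback.snd (cov.f i) (cov.f j) ≫ mor j := by
    intro i j
    rw [← cancel_epi (isPullback_opens_inf (Us i) (Us j)).isoPullback.hom]
    simp only [cov, Scheme.openCoverOfIsOpenCover_f, IsPullback.isoPullback_hom_fst_assoc,
      IsPullback.isoPullback_hom_snd_assoc]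
    cases i <;> cases j
    · exact congrArg (· ≫ gO) (by rw [← cancel_mono O.ι])
    · have h := congrArg (X.homOfLE (le_of_eq (inf_comm O U)) ≫ ·) hagree
      simp only [Scheme.homOfLE_homOfLE_assoc] at h
      exact h.symm
    · exact hagree
    · exact congrArg (· ≫ a) (by rw [← cancel_mono U.ι])
  let g : X ⟶ Y := cov.glueMorphisms mor hmor
  have hg : ∀ i, (Us i).ι ≫ g = mor i := fun i => Scheme.Cover.ι_glueMorphisms cov mor hmor i
  refine ⟨g, ?_, hg true, ?_⟩
  · refine cov.hom_ext _ _ fun i => ?_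
    show (Us i).ι ≫ g ≫ q = (Us i).ι ≫ p
    rw [reassoc_of% (hg i)]
    cases i
    · show gO ≫ q = O.ι ≫ p
      simp only [gO, Category.assoc, hgW']
      simp [e, t]
    · exact ha
  · rw [← Groth.Agent.LimLib.π_ι X x W'.left, Category.assoc]
    refine (congrArg (_ ≫ ·) (hg false)).trans ?_
    show _ ≫ e ≫ gW = b
    rw [← hgW, ← Category.assoc]
    congr 1
    exact (Groth.Agent.LimLib.nhdCone X x).w W'.hom

end Groth.Agent.S9217
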