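import Groth.Statements.S9218
import Groth.Agent.LimLib.BaseChange

set_option autoImplicit false
set_option backward.isDefEq.respectTransparency false
set_option backward.defeqAttrib.useBackward true
universe u
open CategoryTheory CategoryTheory.Limits AlgebraicGeometry
open Lim

namespace Groth.Agent.S9218

/-- Let S = lim S_i be a cofiltered limit of schemes with affine transition morphisms (the S_i are not
assumed quasi-compact or quasi-separated), i an index, and X_i → S_i, Y_i → S_i morphisms locally of
finite presentation with X_i, Y_i quasi-compact and quasi-separated; let X, Y be their base changes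
to S (pullback squares). Then every S-morphism f : X → Y comes from some stage: for some index j
over i there is an S_j-morphism f_j : X_i ×_{S_i} S_j → Y_i ×_{S_i} S_j whose base change to S is f,
in the sense that the canonical morphisms X → X_i ×_{S_i} S_j and Y → Y_i ×_{S_i} S_j intertwine f
and f_j. This is the fullness part of the equivalence between the colimit of the categories of
quasi-compact quasi-separated schemes locally of finite presentation over the S_i and the
corresponding category over S. -/
theorem result {I : Type u} [SmallCategory I] [IsCofiltered I]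
    (D : I ⥤ Scheme.{u}) (c : Limits.Cone D) (hc : Limits.IsLimit c)
    [∀ (i j : I) (f : i ⟶ j), IsAffineHom (D.map f)] (i : I)
    {Xi Yi : Scheme.{u}} (xi : Xi ⟶ D.obj i) (yi : Yi ⟶ D.obj i)
    [CompactSpace Xi] [QuasiSeparatedSpace Xi] [LocallyOfFinitePresentation xi]
    [CompactSpace Yi] [QuasiSeparatedSpace Yi] [LocallyOfFinitePresentation yi]
    {X Y : Scheme.{u}} (qX : X ⟶ Xi) (pX : X ⟶ c.pt) (hX : IsPullback qX pX xi (c.π.app i))
    (qY : Y ⟶ Yi) (pY : Y ⟶ c.pt) (hY : IsPullback qY pY yi (c.π.app i))
    (f : X ⟶ Y) (hf : f ≫ pY = pX) :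
    ∃ (j : I) (φ : j ⟶ i) (fj : pullback xi (D.map φ) ⟶ pullback yi (D.map φ))
      (sX : X ⟶ pullback xi (D.map φ)) (sY : Y ⟶ pullback yi (D.map φ)),
      fj ≫ pullback.snd yi (D.map φ) = pullback.snd xi (D.map φ) ∧
      sX ≫ pullback.fst xi (D.map φ) = qX ∧ sX ≫ pullback.snd xi (D.map φ) = pX ≫ c.π.app j ∧
      sY ≫ pullback.fst yi (D.map φ) = qY ∧ sY ≫ pullback.snd yi (D.map φ) = pY ≫ c.π.app j ∧
      sX ≫ fj = f ≫ sY := by
  let B := Groth.Agent.LimLib.bcDiagram D xi
  haveI : ∀ (j : Over i), IsAffineHom (pullback.snd (D.map j.hom) xi) := fun j =>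
    MorphismProperty.pullback_snd _ _ inferInstance
  haveI : ∀ j : Over i, CompactSpace (B.obj j) := fun j =>
    QuasiCompact.compactSpace_of_compactSpace (pullback.snd (D.map j.hom) xi)
  haveI : ∀ j : Over i, QuasiSeparatedSpace (B.obj j) := fun j =>
    quasiSeparatedSpace_of_quasiSeparated (pullback.snd (D.map j.hom) xi)
  let tX : B ⟶ (Functor.const (Over i)).obj (D.obj i) :=
    { app := fun j => pullback.snd (D.map j.hom) xi ≫ xi
      naturality := fun j k φ => by simp [B] }
  let hcX := Groth.Agent.LimLib.isLimitBcCone xi hc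
  let e : X ≅ pullback (c.π.app i) xi := hX.flip.isoPullback
  have he₁ : e.hom ≫ pullback.fst (c.π.app i) xi = pX := hX.flip.isoPullback_hom_fst
  have he₂ : e.hom ≫ pullback.snd (c.π.app i) xi = qX := hX.flip.isoPullback_hom_snd
  let a : pullback (c.π.app i) xi ⟶ Yi := e.inv ≫ f ≫ qY
  have ha : (Groth.Agent.LimLib.bcCone c xi).π ≫ tX = (Functor.const _).map (a ≫ yi) := by
    ext j : 2
    have h1 : a ≫ yi = pullback.fst (c.π.app i) xi ≫ c.π.app i := by
      rw [Category.assoc, Category.assoc, hY.w, ← Category.assoc f, hf, Iso.inv_comp_eq, ← he₁]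
      simp
    have h2 := pullback.condition (f := c.π.app i) (g := xi)
    simp [tX, h1, h2]
  obtain ⟨j, g, hg, hg'⟩ := Scheme.exists_π_app_comp_eq_of_locallyOfFinitePresentation
    B tX yi _ hcX a ha
  let σ := pullbackSymmetry xi (D.map j.hom)
  have hg'' : g ≫ yi = pullback.fst (D.map j.hom) xi ≫ D.map j.hom := by
    rw [pullback.condition]; exact hg'
  refine ⟨j.left, j.hom, σ.hom ≫ pullback.lift g (pullback.fst (D.map j.hom) xi) hg'',
    pullback.lift qX (pX ≫ c.π.app j.left) (by rw [Category.assoc, c.w, hX.w]),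
    pullback.lift qY (pY ≫ c.π.app j.left) (by rw [Category.assoc, c.w, hY.w]),
    by simp [σ], by simp, by simp, by simp, by simp, ?_⟩
  have key : pullback.lift qX (pX ≫ c.π.app j.left) (by rw [Category.assoc, c.w, hX.w]) ≫ σ.hom =
      e.hom ≫ (Groth.Agent.LimLib.bcCone c xi).π.app j := by
    refine pullback.hom_ext ?_ ?_
    · simp [σ, ← he₁]
    · simp [σ, ← he₂]
  refine pullback.hom_ext ?_ ?_
  · simp only [Category.assoc, pullback.lift_fst]
    rw [reassoc_of% key, hg]
    simp [a]
  · simp only [Category.assoc, pullback.lift_snd]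
    rw [reassoc_of% key]
    simp
    rw [reassoc_of% he₁, reassoc_of% hf]

end Groth.Agent.S9218
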