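import Groth.Statements.S9219
import Groth.Agent.LimLib.BaseChange

set_option autoImplicit false
set_option backward.isDefEq.respectTransparency false
set_option backward.defeqAttrib.useBackward true
universe u
open CategoryTheory CategoryTheory.Limits AlgebraicGeometry
open Lim

namespace Groth.Agent.S9219

/-- Let S = lim S_i be a cofiltered limit of schemes with affine transition morphisms (the S_i are not
assumed quasi-compact or quasi-separated), i an index, and X_i → S_i, Y_i → S_i morphisms locally of
finite presentation with X_i, Y_i quasi-compact and quasi-separated; let X be the base change of X_i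
to S (a pullback square). If two S_i-morphisms f_i, g_i : X_i → Y_i have the same base change to S
(equivalently, the same composite with X → X_i), then for some index j over i their base changes to
S_j agree, i.e. they have the same composite with X_i ×_{S_i} S_j → X_i. This is the faithfulness
part of the equivalence between the colimit of the categories of quasi-compact quasi-separated
schemes locally of finite presentation over the S_i and the corresponding category over S. -/
theorem result {I : Type u} [SmallCategory I] [IsCofiltered I]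
    (D : I ⥤ Scheme.{u}) (c : Limits.Cone D) (hc : Limits.IsLimit c)
    [∀ (i j : I) (f : i ⟶ j), IsAffineHom (D.map f)] (i : I)
    {Xi Yi : Scheme.{u}} (xi : Xi ⟶ D.obj i) (yi : Yi ⟶ D.obj i)
    [CompactSpace Xi] [QuasiSeparatedSpace Xi] [LocallyOfFinitePresentation xi]
    [CompactSpace Yi] [QuasiSeparatedSpace Yi] [LocallyOfFinitePresentation yi]
    {X : Scheme.{u}} (qX : X ⟶ Xi) (pX : X ⟶ c.pt) (hX : IsPullback qX pX xi (c.π.app i))
    (fi gi : Xi ⟶ Yi) (hfi : fi ≫ yi = xi) (hgi : gi ≫ yi = xi) (h : qX ≫ fi = qX ≫ gi) :
    ∃ (j : I) (φ : j ⟶ i), pullback.fst xi (D.map φ) ≫ fi = pullback.fst xi (D.map φ) ≫ gi := by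
  let B := Groth.Agent.LimLib.bcDiagram D xi
  haveI : ∀ (j : Over i), IsAffineHom (pullback.snd (D.map j.hom) xi) := fun j =>
    MorphismProperty.pullback_snd _ _ inferInstance
  haveI : ∀ j : Over i, CompactSpace (B.obj j) := fun j =>
    QuasiCompact.compactSpace_of_compactSpace (pullback.snd (D.map j.hom) xi)
  haveI : ∀ j : Over i, QuasiSeparatedSpace (B.obj j) := fun j =>
    quasiSeparatedSpace_of_quasiSeparated (pullback.snd (D.map j.hom) xi)
  let tX : B ⟶ (Functor.const (Over i)).obj (D.obj i) :=
    { app := fun j => pullback.snd (D.map j.hom) xi ≫ xi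
      naturality := fun j k φ => by simp [B] }
  let hcX := Groth.Agent.LimLib.isLimitBcCone xi hc
  let e : X ≅ pullback (c.π.app i) xi := hX.flip.isoPullback
  have he₁ : e.hom ≫ pullback.fst (c.π.app i) xi = pX := hX.flip.isoPullback_hom_fst
  have he₂ : e.hom ≫ pullback.snd (c.π.app i) xi = qX := hX.flip.isoPullback_hom_snd
  obtain ⟨j, φ, hj⟩ := Scheme.exists_hom_comp_eq_comp_of_locallyOfFiniteType B tX yi _ hcX
    (i := Over.mk (𝟙 i)) (pullback.snd _ _ ≫ fi) (pullback.snd _ _ ≫ gi)
    (by simp [tX, hfi]) (by simp [tX, hgi]) (by
      have h' := e.inv ≫= h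
      simp only [← he₂, Category.assoc, Iso.inv_hom_id_assoc] at h'
      simpa using h')
  refine ⟨j.left, j.hom, ?_⟩
  have h1 : B.map φ ≫ pullback.snd (D.map (Over.mk (𝟙 i)).hom) xi = pullback.snd (D.map j.hom) xi := by
    simp [B]
  simp only [reassoc_of% h1] at hj
  rw [← pullbackSymmetry_hom_comp_snd xi (D.map j.hom), Category.assoc, Category.assoc, hj]

end Groth.Agent.S9219
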