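import Groth.Statements.S9225
import Groth.Agent.GRing17.RegularDual

set_option autoImplicit false
universe u
open CAlg

namespace Groth.Agent.S9225

/-- Let R be a regular ring, f an element of R and D a derivation of R such that the image of D(f) in
R/(f) is a unit. Then R/(f) is a regular ring. -/
theorem result (R : Type u) [CommRing R] [IsRegularRing R]
    (f : R) (D : Derivation ℤ R R)
    (hD : IsUnit (Ideal.Quotient.mk (Ideal.span {f}) (D f))) :
    IsRegularRing (R ⧸ Ideal.span ({f} : Set R)) := by
  have h := fun (Q : Ideal (R ⧸ Ideal.span (Set.range fun _ : Unit => f))) [Q.IsPrime] =>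
    GRing17.isRegularLocalRing_quotient_of_derivations (fun _ : Unit => f) (fun _ => D) (fun i j hij => absurd rfl hij) Q
  have hs : Ideal.span (Set.range fun _ : Unit => f) = Ideal.span {f} := by rw [Set.range_const]
  have : IsRegularRing (R ⧸ Ideal.span (Set.range fun _ : Unit => f)) :=
    isRegularRing_iff.mpr fun Q hQ => h Q fun _ hi => hQ.ne_top (Q.eq_top_of_isUnit_mem hi
      (hD.map (Ideal.quotEquivOfEq hs).symm :))
  exact IsRegularRing.of_ringEquiv (Ideal.quotEquivOfEq hs)

end Groth.Agent.S9225
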