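import Groth.Statements.S9227
import Groth.Agent.GRing17.RegularDual

set_option autoImplicit false
universe u
open CAlg

namespace Groth.Agent.S9227

/-- Let R be a regular ring, f an element of R and D a derivation of R with D(f) a unit of R. Then for
every polynomial p with integer coefficients the ring R[z]/(p(z) - f) is regular; in particular
R[z]/(z^n - f) is regular for every n ≥ 1. -/
theorem result (R : Type u) [CommRing R]
    [IsRegularRing R] (f : R) (D : Derivation ℤ R R) (hD : IsUnit (D f)) (p : Polynomial ℤ) :
    IsRegularRing (Polynomial R ⧸
      Ideal.span ({Polynomial.map (Int.castRingHom R) p - Polynomial.C f} : Set (Polynomial R))) := by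
  obtain ⟨D', hC, hX⟩ := GRing17.exists_derivation_polynomial D
  let g : Polynomial R := Polynomial.map (Int.castRingHom R) p - Polynomial.C f
  have hD' : D' g = - Polynomial.C (D f) := by
    have h0 : D' (Polynomial.map (Int.castRingHom R) p) = 0 := by
      induction p using Polynomial.induction_on' with
      | add p q hp hq => rw [Polynomial.map_add, map_add, hp, hq, add_zero]
      | monomial n a =>
        rw [Polynomial.map_monomial, ← Polynomial.C_mul_X_pow_eq_monomial, Derivation.leibniz, Derivation.leibniz_pow,
          hX, hC, eq_intCast, Derivation.map_intCast, map_zero, smul_zero, smul_zero, smul_zero, smul_zero, add_zero]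
    rw [map_sub, h0, hC, zero_sub]
  have h := fun (Q : Ideal (Polynomial R ⧸ Ideal.span (Set.range fun _ : Unit => g))) [Q.IsPrime] =>
    GRing17.isRegularLocalRing_quotient_of_derivations (fun _ : Unit => g) (fun _ => D')
      (fun i j hij => absurd rfl hij) Q
  have hs : Ideal.span (Set.range fun _ : Unit => g) = Ideal.span {g} := by rw [Set.range_const]
  have : IsRegularRing (Polynomial R ⧸ Ideal.span (Set.range fun _ : Unit => g)) :=
    isRegularRing_iff.mpr fun Q hQ => h Q fun _ hi => hQ.ne_top (Q.eq_top_of_isUnit_mem hi (by
      rw [hD']
      exact ((hD.map Polynomial.C).neg).map _))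
  exact IsRegularRing.of_ringEquiv (Ideal.quotEquivOfEq hs)

end Groth.Agent.S9227
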