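import Groth.Statements.S9229
import Groth.Agent.CplBranch.Basic
import Groth.Agent.S4754
import Groth.Agent.S2636
import Groth.Agent.S2632
import Groth.Agent.Catenary.Complete

set_option autoImplicit false
universe u
open EGA4

namespace Groth.Agent.S9229

/-- A Noetherian local ring A whose formal fibres are geometrically normal and which is unibranch (a
normal local ring, say) is universally catenary. -/
theorem result (A : Type u) [CommRing A]
    [IsLocalRing A] [IsNoetherianRing A] (hA : EGA4.HasGeomNormalFormalFibres A)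
    (hu : CAlg2.IsUnibranch A) : CAlg.IsUniversallyCatenary A := by
  obtain ⟨hmin, huniq⟩ := BiratUnib.eq_nilradical_of_isDomain_red hu.1
  haveI hη : (nilradical A).IsPrime := hmin.1.1
  haveI : IsLocalRing (A ⧸ nilradical A) := IsLocalRing.of_surjective' _ Ideal.Quotient.mk_surjective
  have hu' : CAlg2.IsUnibranch (A ⧸ nilradical A) := by
    have hk : RingHom.ker (Ideal.Quotient.mk (nilradical A)) ≤ nilradical A := by rw [Ideal.mk_ker]
    have hk' : RingHom.ker (RingHom.id (A ⧸ nilradical A)) ≤ nilradical _ := by
      rw [(RingHom.injective_iff_ker_eq_bot _).1 Function.injective_id]; exact bot_le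
    let K := FractionRing (A ⧸ nilradical A)
    let D := integralClosure (A ⧸ nilradical A) K
    obtain ⟨ψ₁, hψ₁, -⟩ := GeomUnib.exists_surjective_normRed (Ideal.Quotient.mk (nilradical A))
      Ideal.Quotient.mk_surjective hk D (K := K)
    obtain ⟨ψ₂, hψ₂, -⟩ := GeomUnib.exists_surjective_normRed (RingHom.id (A ⧸ nilradical A))
      Function.surjective_id hk' D (K := K)
    haveI := hu.2
    haveI : IsLocalRing D := (RingEquiv.ofBijective ψ₁ hψ₁).isLocalRing
    refine ⟨(Ideal.Quotient.isDomain_iff_prime _).2 ?_, (RingEquiv.ofBijective ψ₂ hψ₂).symm.isLocalRing⟩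
    rw [nilradical_eq_zero (A ⧸ nilradical A)]
    exact Ideal.isPrime_bot
  haveI := (CplBranch.isDomain_cpl_iff (A ⧸ nilradical A) (S4754.result A hA (nilradical A))).2 hu'
  obtain ⟨Φ⟩ := Catenary.exists_completion_quotient_equiv (nilradical A)
  let H := AdicCompletion (IsLocalRing.maximalIdeal A) A
  let P := (nilradical A).map (algebraMap A H)
  haveI hP : P.IsPrime := (Ideal.Quotient.isDomain_iff_prime _).1
    (MulEquiv.isDomain (EGA4.Cpl (A ⧸ nilradical A)) Φ.symm.toMulEquiv)
  have hPn : P ≤ nilradical H := Ideal.map_le_iff_le_comap.2 fun a ha => (mem_nilradical.1 ha).map _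
  have hformal : EGA4.IsFormallyEquidim A := by
    have hnil : P = nilradical H := le_antisymm hPn (nilradical_le_prime P)
    obtain ⟨-, hu2⟩ := BiratUnib.eq_nilradical_of_isDomain_red (R := H)
      ((Ideal.Quotient.isDomain_iff_prime _).2 (hnil ▸ hP))
    intro Q hQ
    rw [hu2 Q hQ]
    rw [ringKrullDim_quotient, PrimeSpectrum.zeroLocus_nilradical]
    exact Order.krullDim_eq_of_orderIso (OrderIso.Set.univ (α := PrimeSpectrum H))
  refine S2636.result A fun p _ => ((S2632.result A hformal).2 p).1 fun Q hQ => ?_
  rw [IsDomain.minimalPrimes_eq_singleton_bot, Set.mem_singleton_iff] at hQ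
  subst hQ
  exact ringKrullDim_eq_of_ringEquiv (RingEquiv.quotientBot _)

end Groth.Agent.S9229
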