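import Groth.Statements.S9231
import Groth.Agent.CplFlat.Local
import Groth.Agent.FlatDescent.Local

set_option autoImplicit false
universe u
open CAlg

namespace Groth.Agent.S9231

/-- For a local ring map A → B between Noetherian local rings, let ψ be the induced map from the
completion of A at its maximal ideal to that of B (here: a ring map of the completions whose
composite with A → A^ is the composite A → B → B^; since A is Noetherian such a map is unique, hence
is the canonical one). Then ψ is flat exactly when A → B is flat. -/
theorem result (A B : Type u) [CommRing A] [CommRing B] [IsLocalRing A]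
    [IsLocalRing B] [IsNoetherianRing A] [IsNoetherianRing B] [Algebra A B]
    [IsLocalHom (algebraMap A B)]
    (ψ : AdicCompletion (IsLocalRing.maximalIdeal A) A →+* AdicCompletion (IsLocalRing.maximalIdeal B) B)
    (hψ : ψ.comp (algebraMap A (AdicCompletion (IsLocalRing.maximalIdeal A) A)) =
      (algebraMap B (AdicCompletion (IsLocalRing.maximalIdeal B) B)).comp (algebraMap A B)) :
    ψ.Flat ↔ (algebraMap A B).Flat := by
  haveI : IsNoetherianRing (A ⧸ (IsLocalRing.maximalIdeal A)) := isNoetherianRing_of_surjective A _ (Ideal.Quotient.mk (IsLocalRing.maximalIdeal A)) Ideal.Quotient.mk_surjective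
  haveI : IsNoetherianRing (B ⧸ (IsLocalRing.maximalIdeal B)) := isNoetherianRing_of_surjective B _ (Ideal.Quotient.mk (IsLocalRing.maximalIdeal B)) Ideal.Quotient.mk_surjective
  haveI := Groth.Agent.CplFlat.isNoetherianRing_completion_of_fg (IsLocalRing.maximalIdeal A) (IsLocalRing.maximalIdeal A).fg_of_isNoetherianRing
  haveI := Groth.Agent.CplFlat.isNoetherianRing_completion_of_fg (IsLocalRing.maximalIdeal B) (IsLocalRing.maximalIdeal B).fg_of_isNoetherianRing
  haveI : Module.Flat A (AdicCompletion (IsLocalRing.maximalIdeal A) A) := AdicCompletion.flat_of_isNoetherian (IsLocalRing.maximalIdeal A)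
  haveI : Module.Flat B (AdicCompletion (IsLocalRing.maximalIdeal B) B) := AdicCompletion.flat_of_isNoetherian (IsLocalRing.maximalIdeal B)
  haveI : IsLocalHom (algebraMap B (AdicCompletion (IsLocalRing.maximalIdeal B) B)) := by
    refine ((IsLocalRing.local_hom_TFAE _).out 2 0).1 ?_
    rw [← AdicCompletion.maximalIdeal_eq_map]
  haveI : Module.FaithfullyFlat B (AdicCompletion (IsLocalRing.maximalIdeal B) B) := Module.FaithfullyFlat.of_flat_of_isLocalHom
  letI := ψ.toAlgebra
  haveI : IsScalarTower A (AdicCompletion (IsLocalRing.maximalIdeal A) A) (AdicCompletion (IsLocalRing.maximalIdeal B) B) := IsScalarTower.of_algebraMap_eq' (by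
    rw [IsScalarTower.algebraMap_eq A B (AdicCompletion (IsLocalRing.maximalIdeal B) B)]
    exact hψ.symm)
  constructor
  · intro h
    haveI : Module.Flat (AdicCompletion (IsLocalRing.maximalIdeal A) A) (AdicCompletion (IsLocalRing.maximalIdeal B) B) := h
    haveI : Module.Flat A (AdicCompletion (IsLocalRing.maximalIdeal B) B) := Module.Flat.trans A (AdicCompletion (IsLocalRing.maximalIdeal A) A) (AdicCompletion (IsLocalRing.maximalIdeal B) B)
    exact RingHom.flat_algebraMap_iff.2
      (Groth.FlatDescent.flat_of_faithfullyFlat_of_flat (R := A) (S := B) (M := AdicCompletion (IsLocalRing.maximalIdeal B) B))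
  · intro h
    haveI : Module.Flat A B := RingHom.flat_algebraMap_iff.1 h
    haveI : Module.Flat A (AdicCompletion (IsLocalRing.maximalIdeal B) B) := Module.Flat.trans A B (AdicCompletion (IsLocalRing.maximalIdeal B) B)
    set I := (IsLocalRing.maximalIdeal A).map (algebraMap A (AdicCompletion (IsLocalRing.maximalIdeal A) A)) with hI
    have hImax : I = IsLocalRing.maximalIdeal (AdicCompletion (IsLocalRing.maximalIdeal A) A) := (AdicCompletion.maximalIdeal_eq_map).symm
    haveI : I.IsMaximal := hImax ▸ inferInstance
    letI : Field (AdicCompletion (IsLocalRing.maximalIdeal A) A ⧸ I) := Ideal.Quotient.field I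
    have htor : Function.Injective (I.subtype.rTensor (AdicCompletion (IsLocalRing.maximalIdeal B) B)) := by
      let f0 : (IsLocalRing.maximalIdeal A) →ₗ[A] I :=
        { toFun := fun c => ⟨algebraMap A _ c.1, Ideal.mem_map_of_mem _ c.2⟩
          map_add' := fun a b => Subtype.ext (map_add _ a.1 b.1)
          map_smul' := fun a b => Subtype.ext ((map_mul (algebraMap A (AdicCompletion (IsLocalRing.maximalIdeal A) A)) a b.1).trans
            (Algebra.smul_def a (algebraMap A (AdicCompletion (IsLocalRing.maximalIdeal A) A) b.1)).symm) }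
      let π : TensorProduct A (IsLocalRing.maximalIdeal A) (AdicCompletion (IsLocalRing.maximalIdeal B) B) →ₗ[A] TensorProduct (AdicCompletion (IsLocalRing.maximalIdeal A) A) I (AdicCompletion (IsLocalRing.maximalIdeal B) B) :=
        TensorProduct.lift (((TensorProduct.mk (AdicCompletion (IsLocalRing.maximalIdeal A) A) I (AdicCompletion (IsLocalRing.maximalIdeal B) B)).restrictScalars₁₂ A A).comp f0)
      have hπ : ∀ c y, π (c ⊗ₜ y) = f0 c ⊗ₜ[AdicCompletion (IsLocalRing.maximalIdeal A) A] y := fun c y => rfl
      have hπs : Function.Surjective π := by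
        intro z
        induction z with
        | zero => exact ⟨0, map_zero _⟩
        | add a b ha hb =>
          obtain ⟨a, rfl⟩ := ha
          obtain ⟨b, rfl⟩ := hb
          exact ⟨a + b, map_add _ _ _⟩
        | tmul i y =>
          obtain ⟨i, hi⟩ := i
          induction hi using Submodule.span_induction generalizing y with
          | mem x hx =>
            obtain ⟨c, hc, rfl⟩ := hx
            exact ⟨(⟨c, hc⟩ : (IsLocalRing.maximalIdeal A)) ⊗ₜ y, hπ _ _⟩
          | zero => exact ⟨0, by rw [map_zero]; exact (TensorProduct.zero_tmul _ y).symm⟩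
          | add x z hx hz ihx ihz =>
            obtain ⟨a, ha⟩ := ihx y
            obtain ⟨b, hb⟩ := ihz y
            exact ⟨a + b, by rw [map_add, ha, hb, ← TensorProduct.add_tmul]; rfl⟩
          | smul t x hx ih =>
            obtain ⟨a, ha⟩ := ih (t • y)
            exact ⟨a, ha.trans (TensorProduct.smul_tmul t (⟨x, hx⟩ : I) y).symm⟩
      have hcomp : ∀ z, (TensorProduct.lid (AdicCompletion (IsLocalRing.maximalIdeal A) A) (AdicCompletion (IsLocalRing.maximalIdeal B) B)) (I.subtype.rTensor (AdicCompletion (IsLocalRing.maximalIdeal B) B) (π z)) =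
          (TensorProduct.lid A (AdicCompletion (IsLocalRing.maximalIdeal B) B)) ((IsLocalRing.maximalIdeal A).subtype.rTensor (AdicCompletion (IsLocalRing.maximalIdeal B) B) z) := by
        intro z
        induction z with
        | zero => simp
        | add a b ha hb => simp [ha, hb]
        | tmul c y =>
          rw [hπ]
          simp only [LinearMap.rTensor_tmul, TensorProduct.lid_tmul]
          exact algebraMap_smul (AdicCompletion (IsLocalRing.maximalIdeal A) A) (c : A) y
      intro z1 z2 hz
      obtain ⟨w1, rfl⟩ := hπs z1
      obtain ⟨w2, rfl⟩ := hπs z2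
      have h1 := congrArg (TensorProduct.lid (AdicCompletion (IsLocalRing.maximalIdeal A) A) (AdicCompletion (IsLocalRing.maximalIdeal B) B)) hz
      rw [hcomp, hcomp, EquivLike.apply_eq_iff_eq] at h1
      rw [Module.Flat.rTensor_preserves_injective_linearMap (IsLocalRing.maximalIdeal A).subtype (IsLocalRing.maximalIdeal A).injective_subtype h1]
    haveI : Module.Flat (AdicCompletion (IsLocalRing.maximalIdeal A) A ⧸ I)
        (TensorProduct (AdicCompletion (IsLocalRing.maximalIdeal A) A) (AdicCompletion (IsLocalRing.maximalIdeal A) A ⧸ I)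
          (AdicCompletion (IsLocalRing.maximalIdeal B) B)) := by
      haveI : Module.Free (AdicCompletion (IsLocalRing.maximalIdeal A) A ⧸ I)
          (TensorProduct (AdicCompletion (IsLocalRing.maximalIdeal A) A) (AdicCompletion (IsLocalRing.maximalIdeal A) A ⧸ I)
            (AdicCompletion (IsLocalRing.maximalIdeal B) B)) :=
        @Module.Free.of_divisionRing (AdicCompletion (IsLocalRing.maximalIdeal A) A ⧸ I) _ (Ideal.Quotient.field I).toDivisionRing _ _
      exact Module.Flat.of_free
    refine Groth.FlatDescent.flat_of_injective_of_flat_quotient (S := AdicCompletion (IsLocalRing.maximalIdeal B) B) I ?_ htor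
    rw [IsLocalRing.jacobson_eq_maximalIdeal _ bot_ne_top, hI, Ideal.map_map, ← IsScalarTower.algebraMap_eq,
      IsScalarTower.algebraMap_eq A B (AdicCompletion (IsLocalRing.maximalIdeal B) B), ← Ideal.map_map, AdicCompletion.maximalIdeal_eq_map]
    exact Ideal.map_mono (((IsLocalRing.local_hom_TFAE (algebraMap A B)).out 0 2).1 ‹IsLocalHom (algebraMap A B)›)

end Groth.Agent.S9231
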