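import Groth.Statements.S9232
import Groth.Agent.CplFlat.Local
import Mathlib.RingTheory.Flat.FaithfullyFlat.Algebra

set_option autoImplicit false
universe u
open CAlg

namespace Groth.Agent.S9232

/-- Suppose A → B is a flat local ring map between Noetherian local rings, the maximal ideal of A
generates that of B, and the residue field map is bijective. Then the induced map between the
completions of A and B (a ring map of the completions compatible with A → B; it is unique since A is
Noetherian) is an isomorphism. -/
theorem result (A B : Type u) [CommRing A]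
    [CommRing B] [IsLocalRing A] [IsLocalRing B] [IsNoetherianRing A] [IsNoetherianRing B]
    [Algebra A B] [IsLocalHom (algebraMap A B)] [Module.Flat A B]
    (hm : Ideal.map (algebraMap A B) (IsLocalRing.maximalIdeal A) = IsLocalRing.maximalIdeal B)
    (hk : Function.Bijective (IsLocalRing.ResidueField.map (algebraMap A B)))
    (ψ : AdicCompletion (IsLocalRing.maximalIdeal A) A →+* AdicCompletion (IsLocalRing.maximalIdeal B) B)
    (hψ : ψ.comp (algebraMap A (AdicCompletion (IsLocalRing.maximalIdeal A) A)) =
      (algebraMap B (AdicCompletion (IsLocalRing.maximalIdeal B) B)).comp (algebraMap A B)) :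
    Function.Bijective ψ := by
  haveI : Module.FaithfullyFlat A B := Module.FaithfullyFlat.of_flat_of_isLocalHom
  have hev := Groth.Agent.CplFlat.eval_psi ψ hψ
  -- the maps modulo powers are bijective
  have hinj : ∀ (n : ℕ) (a : A), algebraMap A B a ∈ ((IsLocalRing.maximalIdeal B) ^ n • ⊤ : Submodule B B) → a ∈ ((IsLocalRing.maximalIdeal A) ^ n • ⊤ : Submodule A A) := by
    intro n a ha
    rw [smul_eq_mul, Ideal.mul_top] at ha ⊢
    rw [← hm, ← Ideal.map_pow] at ha
    rwa [← Ideal.comap_map_eq_self_of_faithfullyFlat (B := B) ((IsLocalRing.maximalIdeal A) ^ n), Ideal.mem_comap]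
  have hres : ∀ b : B, ∃ a : A, b - algebraMap A B a ∈ (IsLocalRing.maximalIdeal B) := by
    intro b
    obtain ⟨a, ha⟩ := hk.2 (IsLocalRing.residue B b)
    obtain ⟨a, rfl⟩ := IsLocalRing.residue_surjective a
    exact ⟨a, Ideal.Quotient.eq.1 ha.symm⟩
  have hsurj : ∀ (n : ℕ) (b : B), ∃ a : A, b - algebraMap A B a ∈ ((IsLocalRing.maximalIdeal B) ^ n • ⊤ : Submodule B B) := by
    intro n
    simp only [smul_eq_mul, Ideal.mul_top]
    induction n with
    | zero => intro b; exact ⟨0, by simp⟩
    | succ n ih =>
      intro b
      obtain ⟨a, ha⟩ := ih b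
      have key : ∀ y ∈ (IsLocalRing.maximalIdeal B) ^ n, ∃ a : A, y - algebraMap A B a ∈ (IsLocalRing.maximalIdeal B) ^ (n + 1) := by
        intro y hy
        rw [← hm, ← Ideal.map_pow, Ideal.map] at hy
        induction hy using Submodule.span_induction with
        | mem y hy =>
          obtain ⟨c, -, rfl⟩ := hy
          exact ⟨c, by simp⟩
        | zero => exact ⟨0, by simp⟩
        | add y z _ _ ihy ihz =>
          obtain ⟨c, hc⟩ := ihy
          obtain ⟨d, hd⟩ := ihz
          refine ⟨c + d, ?_⟩
          rw [map_add, add_sub_add_comm]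
          exact add_mem hc hd
        | smul t y hy ihy =>
          obtain ⟨c, hc⟩ := ihy
          obtain ⟨d, hd⟩ := hres t
          refine ⟨d * c, ?_⟩
          have hyN : y ∈ (IsLocalRing.maximalIdeal B) ^ n := by rwa [← hm, ← Ideal.map_pow]
          have h1 : (t - algebraMap A B d) * y ∈ (IsLocalRing.maximalIdeal B) ^ (n + 1) := by
            rw [pow_succ']
            exact Ideal.mul_mem_mul hd hyN
          rw [map_mul, smul_eq_mul,
            show t * y - algebraMap A B d * algebraMap A B c =
              (t - algebraMap A B d) * y + algebraMap A B d * (y - algebraMap A B c) by ring]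
          exact add_mem h1 (Ideal.mul_mem_left _ _ hc)
      obtain ⟨c, hc⟩ := key _ ha
      exact ⟨a + c, by rwa [map_add, ← sub_sub]⟩
  constructor
  · rw [injective_iff_map_eq_zero]
    intro x hx
    refine AdicCompletion.ext fun n => ?_
    obtain ⟨r, hr⟩ := Submodule.Quotient.mk_surjective _ (x.val n)
    have h := hev n x r hr.symm
    rw [hx, map_zero, eq_comm, Submodule.Quotient.mk_eq_zero] at h
    rw [← hr, AdicCompletion.val_zero_apply, Submodule.Quotient.mk_eq_zero]
    exact hinj n r h
  · intro y
    choose b hb using fun n => Submodule.Quotient.mk_surjective _ (y.val n)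
    choose a ha using fun n => hsurj n (b n)
    have hcompat : ∀ {k n : ℕ} (h : k ≤ n),
        AdicCompletion.transitionMap (IsLocalRing.maximalIdeal A) A h (Submodule.Quotient.mk (a n)) = Submodule.Quotient.mk (a k) := by
      intro k n h
      show Submodule.Quotient.mk (a n) = Submodule.Quotient.mk (a k)
      rw [Submodule.Quotient.eq]
      refine hinj k _ ?_
      have h1 : b n - b k ∈ ((IsLocalRing.maximalIdeal B) ^ k • ⊤ : Submodule B B) := by
        rw [← Submodule.Quotient.eq]
        have := y.property h
        rw [← hb n, ← hb k] at this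
        exact this
      have h2 : b n - algebraMap A B (a n) ∈ ((IsLocalRing.maximalIdeal B) ^ k • ⊤ : Submodule B B) :=
        Submodule.smul_mono_left (Ideal.pow_le_pow_right h) (ha n)
      rw [map_sub, show algebraMap A B (a n) - algebraMap A B (a k) =
        (b n - b k) - (b n - algebraMap A B (a n)) + (b k - algebraMap A B (a k)) by abel]
      exact add_mem (sub_mem h1 h2) (ha k)
    refine ⟨⟨fun n => Submodule.Quotient.mk (a n), hcompat⟩, AdicCompletion.ext fun n => ?_⟩
    refine (hev n _ (a n) rfl).trans ?_
    rw [← hb n, eq_comm, Submodule.Quotient.eq]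
    exact ha n

end Groth.Agent.S9232
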