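import Groth.Statements.S9247
import Groth.Agent.AuslBuchs.Ufd
import Groth.Agent.UFDLib.Nagata

set_option autoImplicit false
universe u
open CAlg

namespace Groth.Agent.S9247

/-- For a regular local ring R and an element f of R, the Picard group of R_f is trivial. -/
theorem result (R : Type u) [CommRing R]
    [IsRegularLocalRing R] (f : R) : Subsingleton (CommRing.Pic (Localization.Away f)) := by
  rcases eq_or_ne f 0 with rfl | hf
  · haveI : Subsingleton (Localization.Away (0 : R)) :=
      IsLocalization.subsingleton (M := Submonoid.powers (0 : R)) (Submonoid.mem_powers _)
    exact CommRing.Pic.subsingleton_iff.mpr fun M _ _ _ => by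
      haveI : Subsingleton M := Module.subsingleton (Localization.Away (0 : R)) M
      infer_instance
  · haveI : IsDomain R := DepthLib.isDomain_of_isRegularLocalRing R
    haveI : UniqueFactorizationMonoid R := AuslBuchs.uniqueFactorizationMonoid_of_isRegularLocalRing R
    have hle : Submonoid.powers f ≤ nonZeroDivisors R := powers_le_nonZeroDivisors_of_noZeroDivisors hf
    haveI : IsDomain (Localization.Away f) := IsLocalization.isDomain_localization hle
    haveI : UniqueFactorizationMonoid (Localization.Away f) :=
      UFDLib.ufm_of_isLocalization (Submonoid.powers f) (Localization.Away f) (IsLocalization.injective _ hle)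
    haveI : IsGCDMonoid (Localization.Away f) := by infer_instance
    infer_instance

end Groth.Agent.S9247
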