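import Groth.Statements.S9255
import Groth.Agent.J2Lib.GenReg
import Groth.Agent.J2Lib.Descent
import Groth.Agent.FlatDescent.Generic
import Mathlib

set_option autoImplicit false
universe u
open EGA4

namespace Groth.Agent.S9255

/-- Let R be a Noetherian domain and R → S an injective ring map of finite type with S a domain. If the
regular locus of Spec S contains a nonempty open subset, then the regular locus of Spec R contains a
nonempty open subset. -/
theorem result (R S : Type u) [CommRing R]
    [IsDomain R] [IsNoetherianRing R] [CommRing S] [IsDomain S] [Algebra R S] [Algebra.FiniteType R S]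
    (hinj : Function.Injective (algebraMap R S))
    (hS : ∃ U : Set (PrimeSpectrum S), IsOpen U ∧ U.Nonempty ∧ U ⊆ EGA4.regLocus S) :
    ∃ U : Set (PrimeSpectrum R), IsOpen U ∧ U.Nonempty ∧ U ⊆ EGA4.regLocus R := by
  have : IsNoetherianRing S := Algebra.FiniteType.isNoetherianRing R S
  obtain ⟨U, hUo, ⟨x, hx⟩, hU⟩ := hS
  obtain ⟨_, ⟨c, rfl⟩, hxc, hcU⟩ :=
    PrimeSpectrum.isTopologicalBasis_basic_opens.exists_subset_of_mem_open hx hUo
  have hc0 : c ≠ 0 := fun h => hxc (h ▸ x.asIdeal.zero_mem)
  obtain ⟨a, ha, hflat⟩ := Groth.FlatDescent.exists_flatOn (D := R) (C := S) S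
  let T := Localization.Away (algebraMap R S a)
  have hT : Module.Flat R T := (Groth.FlatDescent.flatOn_iff_flat (A := R)
    (Submonoid.powers (algebraMap R S a)) (Algebra.linearMap S T)).mp hflat
  have : Algebra.FiniteType S T := IsLocalization.finiteType_of_monoid_fg (Submonoid.powers (algebraMap R S a)) T
  have : Algebra.FiniteType R T := Algebra.FiniteType.trans (S := S) ‹_› inferInstance
  have : Algebra.FinitePresentation R T := Algebra.FinitePresentation.of_finiteType.mp inferInstance
  have hopen : IsOpenMap (PrimeSpectrum.comap (algebraMap R T)) :=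
    PrimeSpectrum.isOpenMap_comap_of_hasGoingDown_of_finitePresentation
  let W : Set (PrimeSpectrum T) := PrimeSpectrum.basicOpen (algebraMap S T c)
  refine ⟨PrimeSpectrum.comap (algebraMap R T) '' W, hopen W (PrimeSpectrum.basicOpen _).2, ?_, ?_⟩
  · refine Set.Nonempty.image _ ?_
    have hdom : IsDomain T := IsLocalization.isDomain_of_le_nonZeroDivisors (S := T)
      (Submonoid.powers_le.mpr (mem_nonZeroDivisors_of_ne_zero
        ((map_ne_zero_iff _ hinj).mpr ha)))
    refine ⟨⟨⊥, Ideal.isPrime_bot⟩, fun h0 => hc0 ?_⟩
    refine IsLocalization.injective T (Submonoid.powers_le.mpr (mem_nonZeroDivisors_of_ne_zero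
      ((map_ne_zero_iff _ hinj).mpr ha))) ?_
    rw [map_zero]
    exact Ideal.mem_bot.mp h0
  · rintro _ ⟨Q, hQ, rfl⟩
    have h1 : Q ∈ EGA4.regLocus T :=
      (Groth.Agent.J2Lib.mem_regLocus_iff_of_isLocalization (Submonoid.powers (algebraMap R S a)) Q).mpr
        (hU (hcU hQ))
    let p : Ideal R := Q.asIdeal.comap (algebraMap R T)
    let Sq := Localization.AtPrime Q.asIdeal
    have : IsRegularLocalRing Sq := h1
    let : Algebra (Localization.AtPrime p) Sq :=
      (Localization.localRingHom p Q.asIdeal (algebraMap R T) rfl).toAlgebra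
    have : IsScalarTower R (Localization.AtPrime p) Sq := IsScalarTower.of_algebraMap_eq fun x => by
      rw [RingHom.algebraMap_toAlgebra, Localization.localRingHom_to_map,
        ← IsScalarTower.algebraMap_apply]
    have : IsLocalHom (algebraMap (Localization.AtPrime p) Sq) :=
      Localization.isLocalHom_localRingHom p Q.asIdeal (algebraMap R T) rfl
    have : Module.Flat R Sq := Module.Flat.trans R T Sq
    have : Module.Flat (Localization.AtPrime p) Sq :=
      (Module.flat_iff_of_isLocalization (Localization.AtPrime p) p.primeCompl Sq).2 inferInstance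
    exact Groth.Agent.J2Lib.isRegularLocalRing_of_flat (Localization.AtPrime p) Sq

end Groth.Agent.S9255
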