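import Groth.Statements.S9256
import Groth.Agent.FlatAscent.Descent
import Groth.Agent.EGA41Lib.Separable

set_option autoImplicit false
universe u
open CAlg

namespace Groth.Agent.S9256

open scoped TensorProduct

/-- For a field extension K of k, the ring map k → K is regular exactly when K is separable over k, that
is, geometrically reduced over k. -/
theorem result (k K : Type u) [Field k] [Field K]
    [Algebra k K] : CAlg.IsRegularHom k K ↔ Algebra.IsGeometricallyReduced k K := by
  have hfib : ∀ (p : Ideal k) [p.IsPrime], ∀ (L : Type u) [Field L] [Algebra k L] [Algebra p.ResidueField L]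
      [IsScalarTower k p.ResidueField L], Nonempty (L ⊗[p.ResidueField] p.Fiber K ≃+* L ⊗[k] K) :=
    fun p _ L _ _ _ _ => ⟨(Algebra.TensorProduct.cancelBaseChange k p.ResidueField L L K).toRingEquiv⟩
  have hreg : ∀ (R : Type u) [CommRing R] [IsArtinianRing R] [_root_.IsReduced R], IsRegularRing R :=
    fun R _ _ _ => isRegularRing_iff.mpr fun p hp => by
      have : p.IsMaximal := IsArtinianRing.isMaximal_of_isPrime p
      have hloc : IsArtinianRing (Localization.AtPrime p) := inferInstance
      have : IsReduced (Localization.AtPrime p) := inferInstance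
      let := (IsArtinianRing.isField_of_isReduced_of_isLocalRing (Localization.AtPrime p)).toField
      exact (inferInstance : IsRegularLocalRing (Localization.AtPrime p))
  constructor
  · intro h
    rw [Algebra.isGeometricallyReduced_field_iff]
    suffices hs : IsReduced (K ⊗[k] AlgebraicClosure k) from
      isReduced_of_injective _ (Algebra.TensorProduct.comm k (AlgebraicClosure k) K).injective
    refine IsReduced.tensorProduct_of_flat_of_forall_fg fun D hD => ?_
    have : Algebra.IsIntegral k D :=
      ⟨fun x => by
        rw [← isIntegral_algHom_iff D.val Subtype.val_injective]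
        exact Algebra.IsIntegral.isIntegral _⟩
    let := (isField_of_isIntegral_of_isField' (Field.toIsField k) : IsField D).toField
    have : Algebra.FiniteType k D := D.fg_iff_finiteType.mp hD
    have : Module.Finite k D := Algebra.IsIntegral.finite
    let p : Ideal k := ⊥
    have : p.IsPrime := Ideal.isPrime_bot
    let : Algebra p.ResidueField D :=
      (Ideal.ResidueField.lift p (algebraMap k D) bot_le fun x hx => isUnit_iff_ne_zero.mpr
        ((map_ne_zero_iff _ (algebraMap k D).injective).mpr fun h0 => hx (h0 ▸ zero_mem p))).toAlgebra
    have : IsScalarTower k p.ResidueField D :=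
      .of_algebraMap_eq fun x => (Ideal.ResidueField.lift_algebraMap ..).symm
    have hr := (h.2 p).2 D (Module.Finite.of_restrictScalars_finite k p.ResidueField D)
    obtain ⟨e⟩ := hfib p D
    haveI := hr
    have : IsRegularRing (D ⊗[k] K) := IsRegularRing.of_ringEquiv (R := D ⊗[p.ResidueField] p.Fiber K) e
    have hred : IsReduced (D ⊗[k] K) := isReduced_ofLocalizationMaximal _ fun J _ => by
      haveI := Groth.Agent.DepthLib.isDomain_of_isRegularLocalRing (Localization.AtPrime J)
      infer_instance
    exact isReduced_of_injective _ (Algebra.TensorProduct.comm k K D).injective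
  · intro h
    refine ⟨inferInstance, fun p _ => ⟨?_, fun k' _ _ hk => ?_⟩⟩
    · have : IsNoetherianRing (K ⊗[k] p.ResidueField) :=
        Algebra.EssFiniteType.isNoetherianRing K (K ⊗[k] p.ResidueField)
      exact isNoetherianRing_of_ringEquiv (K ⊗[k] p.ResidueField)
        (Algebra.TensorProduct.comm k K p.ResidueField).toRingEquiv
    let : Algebra k k' := ((algebraMap p.ResidueField k').comp (algebraMap k p.ResidueField)).toAlgebra
    have : IsScalarTower k p.ResidueField k' := .of_algebraMap_eq fun _ => rfl
    have : Module.Finite k p.ResidueField := by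
      have hp : p = ⊥ := (Ideal.eq_bot_or_top p).resolve_right (Ideal.IsPrime.ne_top ‹_›)
      have : p.IsMaximal := hp ▸ Ideal.bot_isMaximal
      infer_instance
    have : Module.Finite k k' := Module.Finite.trans p.ResidueField k'
    have hred : IsReduced (k' ⊗[k] K) := inferInstance
    have : IsArtinianRing (k' ⊗[k] K) := by
      have : IsArtinianRing (K ⊗[k] k') := IsArtinianRing.of_finite K (K ⊗[k] k')
      exact (Algebra.TensorProduct.comm k K k').toRingEquiv.surjective.isArtinianRing
    obtain ⟨e⟩ := hfib p k'
    haveI := hreg (k' ⊗[k] K)
    exact IsRegularRing.of_ringEquiv (R := k' ⊗[k] K) e.symm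

end Groth.Agent.S9256
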