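import Mathlib
import Groth.Statements.S9260
-- import your own Groth.Agent.* helpers here

set_option autoImplicit false
universe u
open CAlg

namespace Groth.Agent.S9260

/-- Suppose a finite group G with n elements acts on a ring R by ring automorphisms, A → R is a ring map
compatible with the action whose image contains the invariants (so that A maps onto R^G), J is an
ideal of A, and x lies in JR. Then ∏_σ (T - σ(x)) is the image of a monic polynomial over A of
degree at most n whose coefficients below degree n all lie in J. (The published statement takes A =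
R^G and a polynomial of degree n; this row allows any such A mapping onto R^G and asks degree at
most n, which is the same when A is nonzero.) -/
theorem result (A R G : Type u) [CommRing A]
    [CommRing R] [Algebra A R] [Group G] [Fintype G] [MulSemiringAction G R] [SMulCommClass G A R]
    [Algebra.IsInvariant A R G] (J : Ideal A) (x : R) (hx : x ∈ Ideal.map (algebraMap A R) J) :
    ∃ P : Polynomial A, P.Monic ∧ P.natDegree ≤ Fintype.card G ∧
      (∀ i : ℕ, i < Fintype.card G → P.coeff i ∈ J) ∧
      Polynomial.map (algebraMap A R) P = ∏ σ : G, (Polynomial.X - Polynomial.C (σ • x)) := by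
  classical
  obtain ⟨c, hc⟩ : ∃ c : J →₀ R, (c.sum fun j r => r * algebraMap A R j.1) = x := by
    rw [Ideal.map, Ideal.span, Submodule.mem_span_set'] at hx
    obtain ⟨m, r, g, hg⟩ := hx
    choose j hj hjg using fun i => (g i).2
    refine ⟨∑ i, Finsupp.single ⟨j i, hj i⟩ (r i), ?_⟩
    rw [← Finsupp.sum_finsetSum_index (by simp) (fun _ _ _ => add_mul _ _ _), ← hg]
    exact Finset.sum_congr rfl fun i _ => by rw [Finsupp.sum_single_index (by simp), hjg, smul_eq_mul]
  let y : G → MvPolynomial J R := fun σ => c.sum fun j r => MvPolynomial.C (σ • r) * MvPolynomial.X j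
  let Φ : Polynomial (MvPolynomial J R) := ∏ σ : G, (Polynomial.X - Polynomial.C (y σ))
  let τ : G → MvPolynomial J R →+* MvPolynomial J R := fun g => MvPolynomial.map (MulSemiringAction.toRingHom G R g)
  have hτy : ∀ g σ, τ g (y σ) = y (g * σ) := fun g σ => by
    simp [τ, y, map_finsuppSum, mul_smul]
  have hΦ : ∀ g, Φ.map (τ g) = Φ := fun g => by
    simp only [Φ, Polynomial.map_prod, Polynomial.map_sub, Polynomial.map_X, Polynomial.map_C, hτy]
    exact Equiv.prod_comp (Equiv.mulLeft g) (fun σ => Polynomial.X - Polynomial.C (y σ))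
  have hinv : ∀ i μ, ∃ a : A, algebraMap A R a = (Φ.coeff i).coeff μ := fun i μ =>
    Algebra.IsInvariant.isInvariant (G := G) _ fun g => by
      conv_rhs => rw [← hΦ g]
      rw [Polynomial.coeff_map, MvPolynomial.coeff_map]
      rfl
  choose a ha using hinv
  let ev : MvPolynomial J R →+* R := MvPolynomial.eval₂Hom (RingHom.id R) (fun j => algebraMap A R j.1)
  let b : ℕ → A := fun i => ∑ μ ∈ (Φ.coeff i).support.filter (fun μ => μ ≠ 0), a i μ * μ.prod fun j e => j.1 ^ e
  have hevy : ∀ σ, ev (y σ) = σ • x := fun σ => by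
    rw [← hc, Finsupp.smul_sum, map_finsuppSum]
    simp [ev, smul_mul']
  have hΦev : Φ.map ev = ∏ σ : G, (Polynomial.X - Polynomial.C (σ • x)) := by
    simp [Φ, Polynomial.map_prod, hevy]
  set n := Fintype.card G
  have hdeg : Φ.Monic := Polynomial.monic_prod_of_monic _ _ fun σ _ => Polynomial.monic_X_sub_C _
  rcases subsingleton_or_nontrivial R with hR | hR
  · refine ⟨Polynomial.X ^ n, Polynomial.monic_X_pow n, Polynomial.natDegree_X_pow_le n, fun i hi => ?_, Subsingleton.elim _ _⟩
    rw [Polynomial.coeff_X_pow, if_neg hi.ne]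
    exact zero_mem _
  have hn : Φ.natDegree = n := by
    rw [Polynomial.natDegree_prod_of_monic _ _ fun σ _ => Polynomial.monic_X_sub_C _]
    simp [n]
  have hconst : ∀ i, i < n → (Φ.coeff i).coeff 0 = 0 := by
    intro i hi
    have h1 : Φ.map (MvPolynomial.constantCoeff (σ := J) (R := R)) = Polynomial.X ^ n := by
      have hy0 : ∀ σ, MvPolynomial.constantCoeff (y σ) = 0 := fun σ => by
        simp [y, map_finsuppSum]
      simp [Φ, Polynomial.map_prod, hy0, n]
    have := congrArg (fun q => Polynomial.coeff q i) h1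
    simpa [Polynomial.coeff_map, Polynomial.coeff_X_pow, hi.ne, MvPolynomial.constantCoeff_eq] using this
  have hb : ∀ i, i < n → algebraMap A R (b i) = ev (Φ.coeff i) := by
    intro i hi
    conv_rhs => rw [MvPolynomial.as_sum (Φ.coeff i), map_sum]
    rw [map_sum, Finset.sum_filter]
    refine Finset.sum_congr rfl fun μ _ => ?_
    by_cases hμ : μ = 0
    · subst hμ
      simp [hconst i hi]
    · rw [if_pos hμ, map_mul, ha]
      simp [ev, MvPolynomial.eval₂_monomial, map_finsuppProd]
  refine ⟨Polynomial.X ^ n + ∑ i ∈ Finset.range n, Polynomial.monomial i (b i), ?_, ?_, ?_, ?_⟩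
  · refine Polynomial.monic_X_pow_add (lt_of_le_of_lt (Polynomial.degree_sum_le _ _) ?_)
    refine (Finset.sup_lt_iff (WithBot.bot_lt_coe n)).2 fun j hj => ?_
    exact lt_of_le_of_lt (Polynomial.degree_monomial_le _ _) (WithBot.coe_lt_coe.2 (Finset.mem_range.1 hj))
  · refine (Polynomial.natDegree_add_le _ _).trans (max_le (Polynomial.natDegree_X_pow_le n) ?_)
    exact Polynomial.natDegree_sum_le_of_forall_le _ _ fun i hi => (Polynomial.natDegree_monomial_le _).trans (Finset.mem_range.1 hi).le
  · intro i hi
    have e : (Polynomial.X ^ n + ∑ i ∈ Finset.range n, Polynomial.monomial i (b i) : Polynomial A).coeff i = b i := by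
      simp [Polynomial.coeff_X_pow, hi.ne, Polynomial.coeff_monomial, hi]
    rw [e]
    refine J.sum_mem fun μ hμ => J.mul_mem_left _ ?_
    obtain ⟨j, hj⟩ := Finsupp.support_nonempty_iff.2 (Finset.mem_filter.1 hμ).2
    refine Ideal.mem_of_dvd _ (Finset.dvd_prod_of_mem (fun j : J => (j : A) ^ (μ j)) hj) ?_
    exact Ideal.pow_mem_of_mem J j.2 _ (Nat.pos_of_ne_zero (Finsupp.mem_support_iff.1 hj))
  · rw [← hΦev]
    conv_rhs => rw [hdeg.as_sum, hn]
    simp only [Polynomial.map_add, Polynomial.map_pow, Polynomial.map_X, Polynomial.map_sum, Polynomial.map_monomial, Polynomial.map_mul, Polynomial.map_C]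
    congr 1
    refine Finset.sum_congr rfl fun i hi => ?_
    rw [hb i (Finset.mem_range.1 hi), Polynomial.C_mul_X_pow_eq_monomial]

end Groth.Agent.S9260
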