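import Groth.Statements.S9261
import Mathlib
-- import your own Groth.Agent.* helpers here

set_option autoImplicit false
universe u
open CAlg

namespace Groth.Agent.S9261

/-- Let G be a finite group acting on a ring R, S = R^G its ring of invariants (here: S → R injective
with image the invariants) and A a flat S-algebra. Then the map A → A ⊗_S R is injective with image
the invariants of G acting on A ⊗_S R through the second factor; that is, A → (A ⊗_S R)^G is an
isomorphism. -/
theorem result (S R A G : Type u) [CommRing S] [CommRing R] [Algebra S R]
    [FaithfulSMul S R] [Group G] [Finite G] [MulSemiringAction G R] [SMulCommClass G S R]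
    [Algebra.IsInvariant S R G] [CommRing A] [Algebra S A] [Module.Flat S A] :
    Function.Injective (algebraMap A (TensorProduct S A R)) ∧
      ∀ x : TensorProduct S A R,
        (∀ σ : G, Algebra.TensorProduct.map (AlgHom.id S A) (MulSemiringAction.toAlgHom S R σ) x = x) →
          x ∈ Set.range (algebraMap A (TensorProduct S A R)) := by
  classical
  have := Fintype.ofFinite G
  let j : S →ₗ[S] R := Algebra.linearMap S R
  let ψ : R →ₗ[S] (G → R) := LinearMap.pi fun g =>
    (MulSemiringAction.toAlgHom S R g).toLinearMap - LinearMap.id
  have hj : Function.Injective j := FaithfulSMul.algebraMap_injective S R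
  have hex : Function.Exact j ψ := by
    intro r
    constructor
    · intro h
      obtain ⟨s, hs⟩ := Algebra.IsInvariant.isInvariant (A := S) (G := G) r fun g => by
        have := congrFun h g
        simpa [ψ, sub_eq_zero] using this
      exact ⟨s, hs⟩
    · rintro ⟨s, rfl⟩
      funext g
      simp [ψ, j]
  have hinj' : Function.Injective (LinearMap.lTensor A j) := Module.Flat.lTensor_preserves_injective_linearMap j hj
  have hex' : Function.Exact (LinearMap.lTensor A j) (LinearMap.lTensor A ψ) := Module.Flat.lTensor_exact A hex
  have halg : ∀ a : A, algebraMap A (TensorProduct S A R) a = LinearMap.lTensor A j (a ⊗ₜ[S] (1 : S)) := by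
    intro a
    simp [j, Algebra.TensorProduct.algebraMap_apply]
  constructor
  · intro a b hab
    rw [halg, halg] at hab
    have := congrArg (TensorProduct.rid S A) (hinj' hab)
    simpa using this
  · intro x hx
    have hcomp : ∀ (y : TensorProduct S A R) (g : G),
        TensorProduct.piRight S S A (fun _ : G => R) (LinearMap.lTensor A ψ y) g =
          Algebra.TensorProduct.map (AlgHom.id S A) (MulSemiringAction.toAlgHom S R g) y - y := by
      intro y g
      induction y using TensorProduct.induction_on with
      | zero => simp
      | tmul a r => simp [ψ, TensorProduct.tmul_sub]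
      | add y z hy hz => simp only [map_add, Pi.add_apply, hy, hz]; abel
    have h0 : LinearMap.lTensor A ψ x = 0 := by
      apply (TensorProduct.piRight S S A (fun _ : G => R)).injective
      funext g
      rw [hcomp, hx g, sub_self, map_zero]
      rfl
    obtain ⟨w, hw⟩ := (hex' x).mp h0
    refine ⟨TensorProduct.rid S A w, ?_⟩
    rw [halg, ← hw]
    congr 1
    rw [← TensorProduct.rid_symm_apply, LinearEquiv.symm_apply_apply]

end Groth.Agent.S9261
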