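import Groth.Statements.S9271
import Groth.Agent.QRegBC.NilpLift
import Mathlib.RingTheory.Smooth.Fiber
import Mathlib.RingTheory.Smooth.Flat

set_option autoImplicit false
universe u
open CAlg

namespace Groth.Agent.S9271

open TensorProduct in
/-- Base change to a ring under which the kernel dies. -/
theorem exists_baseChange_equiv {A' A K C' C : Type u} [CommRing A'] [CommRing A] [CommRing K] [CommRing C']
    [CommRing C] [Algebra A' A] [Algebra A' K] [Algebra A K] [IsScalarTower A' A K] [Algebra A' C'] [Algebra A' C]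
    [Algebra A C] [IsScalarTower A' A C] (hA : Function.Surjective (algebraMap A' A)) (q : C' →ₐ[A'] C)
    (hq : Function.Surjective q) (hker : ∀ x, q x = 0 → (1 : K) ⊗ₜ[A'] x = 0) :
    Nonempty ((K ⊗[A] C) ≃ₐ[K] (K ⊗[A'] C')) := by
  let w' : C →ₐ[A'] K ⊗[A'] C' :=
    AlgHom.liftOfSurjective q hq Algebra.TensorProduct.includeRight fun x hx => hker x hx
  have hw' : ∀ x, w' (q x) = (1 : K) ⊗ₜ[A'] x := fun x => AlgHom.liftOfSurjective_apply q hq _ _ x
  let w : C →ₐ[A] K ⊗[A'] C' :=
    { w'.toRingHom with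
      commutes' := fun a => by
        obtain ⟨a, rfl⟩ := hA a
        show w' (algebraMap A C (algebraMap A' A a)) = _
        rw [← IsScalarTower.algebraMap_apply, AlgHom.commutes, Algebra.TensorProduct.algebraMap_apply,
          Algebra.TensorProduct.algebraMap_apply, ← IsScalarTower.algebraMap_apply] }
  let u : K ⊗[A'] C' →ₐ[K] K ⊗[A] C :=
    Algebra.TensorProduct.lift (Algebra.ofId K _)
      (((Algebra.TensorProduct.includeRight : C →ₐ[A] K ⊗[A] C).restrictScalars A').comp q)
      fun x y => Commute.all _ _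
  let v : K ⊗[A] C →ₐ[K] K ⊗[A'] C' :=
    Algebra.TensorProduct.lift (Algebra.ofId K _) w fun x y => Commute.all _ _
  have hu : ∀ a x, u (a ⊗ₜ x) = a ⊗ₜ q x := fun a x => by
    show (Algebra.ofId K (K ⊗[A] C) a) * ((1 : K) ⊗ₜ[A] q x) = _
    rw [Algebra.ofId_apply, Algebra.TensorProduct.algebraMap_apply, Algebra.TensorProduct.tmul_mul_tmul]
    simp
  have hv : ∀ a x, v (a ⊗ₜ q x) = a ⊗ₜ x := fun a x => by
    show (Algebra.ofId K (K ⊗[A'] C') a) * w' (q x) = _
    rw [hw', Algebra.ofId_apply, Algebra.TensorProduct.algebraMap_apply, Algebra.TensorProduct.tmul_mul_tmul]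
    simp
  refine ⟨AlgEquiv.ofAlgHom v u (AlgHom.ext fun x => ?_) (AlgHom.ext fun x => ?_)⟩
  · induction x using TensorProduct.induction_on with
    | zero => simp
    | add x y hx hy => rw [map_add, map_add, hx, hy]
    | tmul a c =>
      show v (u (a ⊗ₜ c)) = _
      rw [hu, hv]
      rfl
  · induction x using TensorProduct.induction_on with
    | zero => simp
    | add x y hx hy => rw [map_add, map_add, hx, hy]
    | tmul a c =>
      obtain ⟨c, rfl⟩ := hq c
      show u (v (a ⊗ₜ q c)) = _
      rw [hv, hu]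
      rfl

/-- Suppose A' → B' is a flat ring map of finite presentation (smooth maps being one example), and let I
be a locally nilpotent ideal of A', with A = A'/I and B = B'/IB'. Let f'_1, ..., f'_r be elements of
B' whose images f_1, ..., f_r in B form a quasi-regular sequence with B/(f_1, ..., f_r) smooth over
A. Then B'/(f'_1, ..., f'_r) is smooth over A'. -/
theorem result (A' B' : Type u) [CommRing A']
    [CommRing B'] [Algebra A' B'] [Module.Flat A' B'] [Algebra.FinitePresentation A' B']
    (I : Ideal A') (hI : ∀ x ∈ I, IsNilpotent x) (r : ℕ) (f' : Fin r → B')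
    (hq : CAlgX.IsQuasiRegular
      (fun i => Ideal.Quotient.mk (Ideal.map (algebraMap A' B') I) (f' i)))
    (hsm : Algebra.Smooth (A' ⧸ I)
      ((B' ⧸ Ideal.map (algebraMap A' B') I) ⧸
        Ideal.span (Set.range (fun i => Ideal.Quotient.mk (Ideal.map (algebraMap A' B') I) (f' i))))) :
    Algebra.Smooth A' (B' ⧸ Ideal.span (Set.range f')) := by
  have hflat : Module.Flat (A' ⧸ I)
      ((B' ⧸ Ideal.map (algebraMap A' B') I) ⧸
        Ideal.span (Set.range (fun i => Ideal.Quotient.mk (Ideal.map (algebraMap A' B') I) (f' i)))) :=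
    inferInstance
  have : Module.Flat A' (B' ⧸ Ideal.span (Set.range f')) := QRegBC.flat_quotient_of_nilp I f' hI hq hflat
  have : Algebra.FinitePresentation A' (B' ⧸ Ideal.span (Set.range f')) :=
    Algebra.FinitePresentation.quotient (Submodule.fg_span (Set.finite_range f'))
  refine Algebra.Smooth.of_formallySmooth_fiber fun p hp => ?_
  have hIp : ∀ a ∈ I, algebraMap A' p.ResidueField a = 0 := fun a ha => by
    obtain ⟨n, hn⟩ := hI a ha
    exact IsNilpotent.eq_zero ⟨n, by rw [← map_pow, hn, map_zero]⟩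
  let : Algebra (A' ⧸ I) p.ResidueField := (Ideal.Quotient.lift I (algebraMap A' p.ResidueField) hIp).toAlgebra
  have : IsScalarTower A' (A' ⧸ I) p.ResidueField := IsScalarTower.of_algebraMap_eq fun _ => rfl
  set J := Ideal.span (Set.range fun i => Ideal.Quotient.mk (Ideal.map (algebraMap A' B') I) (f' i))
  have hJmap : J = (Ideal.span (Set.range f')).map (Ideal.Quotient.mk (Ideal.map (algebraMap A' B') I)) := by
    rw [Ideal.map_span, ← Set.range_comp]; rfl
  let qB : B' →ₐ[A'] (B' ⧸ Ideal.map (algebraMap A' B') I) ⧸ J :=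
    (Ideal.Quotient.mkₐ A' _).comp (Ideal.Quotient.mkₐ A' _)
  have hqB : ∀ x ∈ Ideal.span (Set.range f'), qB x = 0 := fun x hx =>
    Ideal.Quotient.eq_zero_iff_mem.2 (hJmap ▸ Ideal.mem_map_of_mem _ hx)
  let q := Ideal.Quotient.liftₐ (Ideal.span (Set.range f')) qB hqB
  have hq' : Function.Surjective q := fun y => by
    obtain ⟨y, rfl⟩ := Ideal.Quotient.mk_surjective y
    obtain ⟨y, rfl⟩ := Ideal.Quotient.mk_surjective y
    exact ⟨Ideal.Quotient.mk _ y, rfl⟩
  obtain ⟨e⟩ := exists_baseChange_equiv (A := A' ⧸ I) (K := p.ResidueField) Ideal.Quotient.mk_surjective q hq' fun x hx => by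
    obtain ⟨x, rfl⟩ := Ideal.Quotient.mk_surjective x
    have h1 : Ideal.Quotient.mk (Ideal.map (algebraMap A' B') I) x ∈ J := Ideal.Quotient.eq_zero_iff_mem.1 hx
    rw [hJmap, ← Ideal.mem_comap, Ideal.comap_map_of_surjective _ Ideal.Quotient.mk_surjective,
      ← RingHom.ker_eq_comap_bot, Ideal.mk_ker, Submodule.mem_sup] at h1
    obtain ⟨j, hj, i, hi, rfl⟩ := h1
    let wB : B' →ₐ[A'] TensorProduct A' p.ResidueField (B' ⧸ Ideal.span (Set.range f')) :=
      Algebra.TensorProduct.includeRight.comp (Ideal.Quotient.mkₐ A' _)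
    have hwI : Ideal.map (algebraMap A' B') I ≤ RingHom.ker wB.toRingHom :=
      Ideal.map_le_iff_le_comap.2 fun a ha => by
        show wB (algebraMap A' B' a) = 0
        rw [AlgHom.commutes, Algebra.TensorProduct.algebraMap_apply, hIp a ha, TensorProduct.zero_tmul]
    show wB (j + i) = 0
    rw [map_add, show wB i = 0 from hwI hi, add_zero]
    show (1 : p.ResidueField) ⊗ₜ[A'] Ideal.Quotient.mk _ j = 0
    rw [Ideal.Quotient.eq_zero_iff_mem.2 hj, TensorProduct.tmul_zero]
  have : Algebra.FormallySmooth p.ResidueField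
      (TensorProduct (A' ⧸ I) p.ResidueField ((B' ⧸ Ideal.map (algebraMap A' B') I) ⧸ J)) := inferInstance
  exact Algebra.FormallySmooth.of_equiv e

end Groth.Agent.S9271
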