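import Groth.Statements.S9274
import Groth.Agent.GRing17.Semilocal
import Groth.Agent.S0599
import Mathlib.RingTheory.Localization.Integral
import Mathlib.RingTheory.IsAdjoinRoot

set_option autoImplicit false
universe u
open CAlg

namespace Groth.Agent.S9274

open IsLocalRing Groth.Agent
open scoped TensorProduct

/-- A base change along the completion is regular if the completions of the semilocal algebra are. -/
theorem regular_semilocal (P₀ C L : Type u) [CommRing P₀] [IsLocalRing P₀] [IsNoetherianRing P₀]
    [CommRing C] [Algebra P₀ C] [Module.Finite P₀ C] [CommRing L] [Algebra C L] [Algebra P₀ L]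
    [IsScalarTower P₀ C L] [IsNoetherianRing (L ⊗[P₀] EGA4.Cpl P₀)]
    (h : ∀ (m : Ideal C) [m.IsMaximal], IsRegularRing (L ⊗[C] EGA4.Cpl (Localization.AtPrime m))) :
    IsRegularRing (L ⊗[P₀] EGA4.Cpl P₀) := by
  classical
  have : IsNoetherianRing C := IsNoetherianRing.of_finite P₀ C
  let Ch := EGA4.Cpl P₀
  let J : Ideal C := Ideal.jacobson ⊥
  let Jh := AdicCompletion J C
  have hψ : ∀ c, FormalFibre.toJacobson P₀ C (c ⊗ₜ 1) = algebraMap C Jh c := fun c => by
    refine AdicCompletion.ext_evalₐ fun k => ?_
    rw [FormalFibre.evalₐ_toJacobson, AlgHom.commutes]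
    exact FormalFibre.jLevel_eq P₀ C k _ _
      ((FormalFibre.evalLevel_tmul P₀ C k _ 1 1 (by rw [map_one, map_one])).trans (by rw [map_one, mul_one]))
  let e : C ⊗[P₀] Ch ≃ₐ[C] Jh :=
    AlgEquiv.ofRingEquiv (f := RingEquiv.ofBijective _ (FormalFibre.toJacobson_bijective P₀ C)) fun c => hψ c
  have : IsNoetherianRing Ch := CohenStruct.isNoetherianRing_completion P₀
  let : Algebra Ch Jh := (e.toAlgHom.toRingHom.comp
    (Algebra.TensorProduct.includeRight : Ch →ₐ[P₀] C ⊗[P₀] Ch).toRingHom).toAlgebra
  have : Module.Finite Ch Jh := by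
    let ψ : Ch ⊗[P₀] C ≃ₐ[Ch] Jh :=
      AlgEquiv.ofRingEquiv (f := (Algebra.TensorProduct.comm P₀ Ch C).toRingEquiv.trans e.toRingEquiv)
        fun x => by simp [RingHom.algebraMap_toAlgebra]
    exact Module.Finite.equiv ψ.toLinearEquiv
  obtain ⟨-, -, hloc⟩ := CplFinite.main Ch Jh
  have hXJ : IsRegularRing (L ⊗[C] Jh) := by
    have : IsNoetherianRing (L ⊗[C] Jh) :=
      isNoetherianRing_of_ringEquiv (L ⊗[P₀] Ch)
        ((Algebra.TensorProduct.congr (AlgEquiv.refl (R := C) (A₁ := L)) e).symm.toRingEquiv.trans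
          (Algebra.TensorProduct.cancelBaseChange P₀ C C L Ch).toRingEquiv).symm
    refine isRegularRing_iff.mpr fun Q hQ => ?_
    obtain ⟨nh, hnh, hqn⟩ := Ideal.exists_le_maximal
      (Q.comap (Algebra.TensorProduct.includeRight : Jh →ₐ[C] L ⊗[C] Jh).toRingHom)
      (Ideal.IsPrime.ne_top inferInstance)
    let T := Localization.AtPrime nh
    obtain ⟨m, hm, -, ⟨ε⟩⟩ := FlatAscent.Iadic.exists_local_completion J nh
    obtain ⟨hTN, hTc⟩ := hloc ⟨nh, hnh⟩
    have := hTc
    let e₁ : T ≃ₐ[C] EGA4.Cpl T :=
      AlgEquiv.ofBijective (IsScalarTower.toAlgHom C T (EGA4.Cpl T))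
        (AdicCompletion.of_bijective (maximalIdeal T) T)
    have hT : IsRegularRing (L ⊗[C] T) := FlatAscent.isRegularRing_transport
      (Algebra.TensorProduct.congr (AlgEquiv.refl (R := C) (A₁ := L)) (e₁.trans ε.symm)).symm.toRingEquiv (h m)
    let : Algebra (L ⊗[C] Jh) (L ⊗[C] T) :=
      (Algebra.TensorProduct.map (AlgHom.id L L) (IsScalarTower.toAlgHom C Jh T)).toRingHom.toAlgebra
    have : IsScalarTower L (L ⊗[C] Jh) (L ⊗[C] T) :=
      .of_algebraMap_eq fun c => ((Algebra.TensorProduct.map (AlgHom.id L L)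
        (IsScalarTower.toAlgHom C Jh T)).commutes c).symm
    let M := nh.primeCompl.map (Algebra.TensorProduct.includeRight (R := C) (A := L) (B := Jh))
    have : IsLocalization M (L ⊗[C] T) :=
      IsLocalization.tensorProduct_tensorProduct_right (R := C) (S := L) nh.primeCompl T
        (RingHom.ext fun c => by simp [RingHom.algebraMap_toAlgebra])
    have hdis : Disjoint (M : Set (L ⊗[C] Jh)) Q := Set.disjoint_left.mpr fun x hx hxQ => by
      obtain ⟨s, hs, rfl⟩ := hx
      exact hs (hqn hxQ)
    have := IsLocalization.isPrime_of_isPrime_disjoint M (L ⊗[C] T) Q hQ hdis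
    have := hT
    have key : ∀ (P : Ideal (L ⊗[C] Jh)) [P.IsPrime], P = Q → IsRegularLocalRing (Localization.AtPrime P) →
        IsRegularLocalRing (Localization.AtPrime Q) := by
      rintro P _ rfl h; exact h
    exact key _ (IsLocalization.under_map_of_isPrime_disjoint M (L ⊗[C] T) hQ hdis)
      ((PP16Lib.isRegularLocalRing_atPrime_iff M
        (Q.map (algebraMap (L ⊗[C] Jh) (L ⊗[C] T)))).mpr inferInstance)
  exact FlatAscent.isRegularRing_transport
    ((Algebra.TensorProduct.congr (AlgEquiv.refl (R := C) (A₁ := L)) e).symm.toRingEquiv.trans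
      (Algebra.TensorProduct.cancelBaseChange P₀ C C L Ch).toRingEquiv) hXJ

/-- Regular formal fibres, read off at a field generated by the ring. -/
theorem regular_of_formalFibres {S L : Type u} [CommRing S] [IsNoetherianRing S] [Field L] [Algebra S L]
    (hgen : Subfield.closure (Set.range (algebraMap S L)) = ⊤) (n : Ideal S) [n.IsPrime]
    (h : ∀ (p : Ideal (Localization.AtPrime n)) [p.IsPrime],
      IsRegularRing (EGA4.formalFibre (Localization.AtPrime n) p)) :
    IsRegularRing (L ⊗[S] EGA4.Cpl (Localization.AtPrime n)) := by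
  let Sn := Localization.AtPrime n
  let X := EGA4.Cpl Sn
  by_cases hn : RingHom.ker (algebraMap S L) ≤ n
  · let f : Sn →ₐ[S] L := IsLocalization.liftAlgHom (M := n.primeCompl) (f := Algebra.ofId S L)
      fun s => isUnit_iff_ne_zero.mpr fun hs => s.2 (hn hs)
    let : Algebra Sn L := f.toRingHom.toAlgebra
    have : IsScalarTower S Sn L := .of_algebraMap_eq fun x => (f.commutes x).symm
    let p : Ideal Sn := RingHom.ker (algebraMap Sn L)
    have : p.IsPrime := RingHom.ker_isPrime _
    let g : p.ResidueField →+* L :=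
      Ideal.ResidueField.lift p (algebraMap Sn L) le_rfl fun x hx => isUnit_iff_ne_zero.mpr hx
    have hg : ∀ x, g (algebraMap Sn p.ResidueField x) = algebraMap Sn L x := fun x =>
      Ideal.ResidueField.lift_algebraMap ..
    have hgs : Function.Surjective g := by
      refine RingHom.range_eq_top.mp ?_
      have h2 : (⊤ : Subfield L) ≤ g.fieldRange := hgen ▸ Subfield.closure_le.mpr (by
        rintro _ ⟨x, rfl⟩
        exact ⟨algebraMap Sn p.ResidueField (algebraMap S Sn x), by
          rw [hg, ← IsScalarTower.algebraMap_apply]⟩)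
      exact eq_top_iff.mpr fun x _ => h2 (Subfield.mem_top x)
    let e : p.ResidueField ≃ₐ[Sn] L :=
      AlgEquiv.ofRingEquiv (f := RingEquiv.ofBijective g ⟨g.injective, hgs⟩) hg
    have := IsLocalization.tensorProduct_compatibleSMul n.primeCompl Sn L X
    exact FlatAscent.isRegularRing_transport
      ((Algebra.TensorProduct.congr e (AlgEquiv.refl (R := Sn) (A₁ := X))).toRingEquiv.trans
        (Algebra.TensorProduct.equivOfCompatibleSMul S Sn Sn L X).toRingEquiv) (h p)
  · obtain ⟨s, hs, hsn⟩ := SetLike.not_le_iff_exists.mp hn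
    have h0 : IsUnit (algebraMap S (L ⊗[S] X) s) := by
      rw [Algebra.TensorProduct.algebraMap_apply', IsScalarTower.algebraMap_apply S Sn X]
      exact ((IsLocalization.map_units Sn (⟨s, hsn⟩ : n.primeCompl)).map (algebraMap Sn X)).map
        (Algebra.TensorProduct.includeRight : X →ₐ[S] L ⊗[S] X)
    rw [Algebra.TensorProduct.algebraMap_apply, show algebraMap S L s = 0 from hs, TensorProduct.zero_tmul] at h0
    have : Subsingleton (L ⊗[S] X) := isUnit_zero_iff.mp h0 |> fun h => subsingleton_of_zero_eq_one h
    have : IsNoetherianRing (L ⊗[S] X) := isNoetherian_of_subsingleton _ _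
    exact isRegularRing_iff.mpr fun Q hQ => absurd (Subsingleton.elim Q ⊤) hQ.ne_top

/-- A finite field extension of a residue field is generated by a finite free algebra. -/
theorem exists_free_algebra {R K L : Type u} [CommRing R] [Field K] [Field L] [Algebra R K] [Algebra K L]
    [Algebra R L] [IsScalarTower R K L] [Module.Finite K L]
    (hK : ∀ z : K, ∃ x y : R, z = algebraMap R K x / algebraMap R K y) :
    ∃ (S : Type u) (_ : CommRing S) (_ : Algebra R S) (_ : Module.Finite R S) (_ : Module.Free R S)
      (φ : S →ₐ[R] L), Subfield.closure (Set.range φ) = ⊤ := by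
  classical
  let J := RingHom.ker (algebraMap R K)
  let : Algebra (R ⧸ J) K := (RingHom.kerLift (algebraMap R K)).toAlgebra
  have : IsScalarTower R (R ⧸ J) K := .of_algebraMap_eq fun _ => rfl
  have : FaithfulSMul (R ⧸ J) K :=
    (faithfulSMul_iff_algebraMap_injective _ _).mpr (RingHom.kerLift_injective _)
  have : IsFractionRing (R ⧸ J) K := IsFractionRing.of_field (R ⧸ J) K fun z => by
    obtain ⟨x, y, rfl⟩ := hK z
    exact ⟨Ideal.Quotient.mk J x, Ideal.Quotient.mk J y, rfl⟩
  have : Nontrivial (R ⧸ J) := (algebraMap (R ⧸ J) K).domain_nontrivial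
  let : Algebra (R ⧸ J) L := ((algebraMap K L).comp (algebraMap (R ⧸ J) K)).toAlgebra
  have : IsScalarTower (R ⧸ J) K L := .of_algebraMap_eq fun _ => rfl
  have : IsScalarTower R (R ⧸ J) L := .of_algebraMap_eq fun x => IsScalarTower.algebraMap_apply R K L x
  have hint : ∀ a : L, ∃ (y : R) (g : Polynomial R), algebraMap R L y ≠ 0 ∧ g.Monic ∧
      Polynomial.aeval (algebraMap R L y * a) g = 0 := fun a => by
    obtain ⟨⟨y, hy⟩, hya⟩ := IsIntegral.exists_multiple_integral_of_isLocalization
      (nonZeroDivisors (R ⧸ J)) (Rₘ := K) a (Algebra.IsIntegral.isIntegral a)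
    obtain ⟨y, rfl⟩ := Ideal.Quotient.mk_surjective y
    have : Algebra.IsIntegral R (R ⧸ J) := Algebra.IsIntegral.of_surjective (Algebra.ofId R (R ⧸ J))
      Ideal.Quotient.mk_surjective
    obtain ⟨g, hgm, hg⟩ : IsIntegral R (Ideal.Quotient.mk J y • a) := isIntegral_trans _ hya
    refine ⟨y, g, ?_, hgm, ?_⟩
    · rw [IsScalarTower.algebraMap_apply R (R ⧸ J) L, IsScalarTower.algebraMap_apply (R ⧸ J) K L, map_ne_zero]
      exact IsFractionRing.to_map_ne_zero_of_mem_nonZeroDivisors hy
    · rw [IsScalarTower.algebraMap_apply R (R ⧸ J) L]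
      rw [← Algebra.smul_def]
      exact hg
  have key : ∀ t : Finset L, ∃ (S : Type u) (_ : CommRing S) (_ : Algebra R S) (_ : Module.Finite R S)
      (_ : Module.Free R S) (φ : S →ₐ[R] L), (t : Set L) ⊆ Subfield.closure (Set.range φ) := by
    intro t
    induction t using Finset.induction_on with
    | empty => exact ⟨R, inferInstance, inferInstance, inferInstance, inferInstance, Algebra.ofId R L, by simp⟩
    | @insert a t _ ih =>
      obtain ⟨S, _, _, _, _, φ, hφ⟩ := ih
      obtain ⟨y, g, hy, hgm, hga⟩ := hint a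
      have := hgm.finite_adjoinRoot
      have := hgm.free_adjoinRoot
      let ψ : AdjoinRoot g →ₐ[R] L :=
        AdjoinRoot.liftAlgHom g (Algebra.ofId R L) (algebraMap R L y * a) hga
      let Φ : S ⊗[R] AdjoinRoot g →ₐ[R] L := Algebra.TensorProduct.productMap φ ψ
      refine ⟨S ⊗[R] AdjoinRoot g, inferInstance, inferInstance, inferInstance, inferInstance, Φ, ?_⟩
      intro x hx
      rw [Finset.coe_insert, Set.mem_insert_iff] at hx
      rcases hx with rfl | hx
      · have h1 : algebraMap R L y * x ∈ Subfield.closure (Set.range Φ) :=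
          Subfield.subset_closure ⟨1 ⊗ₜ AdjoinRoot.root g, by simp [Φ, ψ]⟩
        have h2 : algebraMap R L y ∈ Subfield.closure (Set.range Φ) :=
          Subfield.subset_closure ⟨algebraMap R _ y, Φ.commutes y⟩
        have := mul_mem (inv_mem h2) h1
        rwa [← mul_assoc, inv_mul_cancel₀ hy, one_mul] at this
      · refine Subfield.closure_mono ?_ (hφ hx)
        rintro _ ⟨s, rfl⟩
        exact ⟨s ⊗ₜ 1, by simp [Φ]⟩
  obtain ⟨t, ht⟩ := Module.Finite.fg_top (R := K) (M := L)
  obtain ⟨S, _, _, _, _, φ, hφ⟩ := key t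
  refine ⟨S, inferInstance, inferInstance, inferInstance, inferInstance, φ, eq_top_iff.mpr fun x _ => ?_⟩
  have hR : ∀ r : R, algebraMap R L r ∈ Subfield.closure (Set.range φ) := fun r =>
    Subfield.subset_closure ⟨algebraMap R S r, φ.commutes r⟩
  have hx : x ∈ Submodule.span K (t : Set L) := ht.ge Submodule.mem_top
  induction hx using Submodule.span_induction with
  | mem y hy => exact hφ hy
  | zero => exact zero_mem _
  | add a b _ _ ha hb => exact add_mem (ha (Subfield.mem_top _)) (hb (Subfield.mem_top _))
  | smul c y _ hy =>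
    obtain ⟨a, b, rfl⟩ := hK c
    rw [Algebra.smul_def, map_div₀, ← IsScalarTower.algebraMap_apply, ← IsScalarTower.algebraMap_apply]
    exact mul_mem (div_mem (hR a) (hR b)) (hy (Subfield.mem_top _))

/-- For a Noetherian ring R, being a G-ring is equivalent to the following: whenever S is an R-algebra
that is finite and free as an R-module, every formal fibre of every local ring of S is a regular
ring. -/
theorem result (R : Type u) [CommRing R] [IsNoetherianRing R] :
    CAlg.IsGRing R ↔
      ∀ (S : Type u) [CommRing S] [Algebra R S] [Module.Finite R S] [Module.Free R S]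
        (q : Ideal S) [q.IsPrime] (p : Ideal (Localization.AtPrime q)) [p.IsPrime],
        IsRegularRing (EGA4.formalFibre (Localization.AtPrime q) p) := by
  constructor
  · intro hR S _ _ _ _ q _ p _
    have hG := Groth.Agent.S0599.result R hR S
    exact FlatAscent.isRegularRing_transport (Algebra.TensorProduct.lid _ _).toRingEquiv
      (((hG.2 q).2 p).2 p.ResidueField inferInstance)
  intro h
  refine ⟨inferInstance, fun p _ => ⟨AdicCompletion.flat_of_isNoetherian _, fun q _ => ?_⟩⟩
  let Rp := Localization.AtPrime p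
  let Rh := EGA4.Cpl Rp
  have hg : CAlg.IsGeometricallyRegular q.ResidueField (q.Fiber Rh) := fun L _ _ hL => by
    let K := q.ResidueField
    let : Algebra Rp L := ((algebraMap K L).comp (algebraMap Rp K)).toAlgebra
    have : IsScalarTower Rp K L := .of_algebraMap_eq fun _ => rfl
    let : Algebra R L := ((algebraMap K L).comp (algebraMap R K)).toAlgebra
    have : IsScalarTower R K L := .of_algebraMap_eq fun _ => rfl
    have : IsScalarTower R Rp L := .of_algebraMap_eq fun x => by
      show algebraMap K L (algebraMap R K x) = algebraMap K L (algebraMap Rp K (algebraMap R Rp x))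
      rw [← IsScalarTower.algebraMap_apply R Rp K]
    have hK : ∀ z : K, ∃ x y : R, z = algebraMap R K x / algebraMap R K y := fun z => by
      obtain ⟨a, b, hb, rfl⟩ := IsFractionRing.div_surjective (Rp ⧸ q) z
      obtain ⟨a, rfl⟩ := Ideal.Quotient.mk_surjective a
      obtain ⟨b, rfl⟩ := Ideal.Quotient.mk_surjective b
      obtain ⟨a₁, s₁, rfl⟩ := IsLocalization.exists_mk'_eq p.primeCompl a
      obtain ⟨a₂, s₂, rfl⟩ := IsLocalization.exists_mk'_eq p.primeCompl b
      have hs : ∀ s : p.primeCompl, algebraMap R K s ≠ 0 := fun s => by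
        rw [IsScalarTower.algebraMap_apply R Rp K]
        exact ((IsLocalization.map_units Rp s).map (algebraMap Rp K)).ne_zero
      have hmk : ∀ (c : R) (s : p.primeCompl), algebraMap (Rp ⧸ q) K
          (Ideal.Quotient.mk q (IsLocalization.mk' Rp c s)) = algebraMap R K c / algebraMap R K s := by
        intro c s
        show algebraMap Rp K _ = _
        rw [eq_div_iff (hs s), IsScalarTower.algebraMap_apply R Rp K, IsScalarTower.algebraMap_apply R Rp K,
          ← map_mul, IsLocalization.mk'_spec]
      refine ⟨a₁ * s₂, a₂ * s₁, ?_⟩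
      rw [hmk, hmk, map_mul, map_mul, div_div_div_eq]
      ring
    obtain ⟨S, _, _, _, _, φ, hφ⟩ := exists_free_algebra (L := L) hK
    let : Algebra S L := φ.toRingHom.toAlgebra
    have : IsScalarTower R S L := .of_algebraMap_eq fun x => (φ.commutes x).symm
    have : IsNoetherianRing S := IsNoetherianRing.of_finite R S
    let C := Rp ⊗[R] S
    let θ : C →ₐ[Rp] L := Algebra.TensorProduct.lift (Algebra.ofId Rp L) φ fun _ _ => Commute.all _ _
    let : Algebra C L := θ.toRingHom.toAlgebra
    have : IsScalarTower Rp C L := .of_algebraMap_eq fun x => (θ.commutes x).symm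
    let : Algebra S C := Algebra.TensorProduct.rightAlgebra
    have : IsScalarTower S C L := .of_algebraMap_eq fun x => by
      show φ x = θ (1 ⊗ₜ x)
      exact ((Algebra.TensorProduct.lift_tmul _ _ _ (1 : Rp) x).trans (by rw [map_one, one_mul])).symm
    have : IsLocalization (Algebra.algebraMapSubmonoid S p.primeCompl) C := inferInstance
    have : IsNoetherianRing (L ⊗[Rp] Rh) := by
      have : IsNoetherianRing Rh := CohenStruct.isNoetherianRing_completion Rp
      have : Algebra.EssFiniteType Rp L := Algebra.EssFiniteType.comp Rp K L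
      have := Algebra.EssFiniteType.isNoetherianRing Rh (Rh ⊗[Rp] L)
      exact isNoetherianRing_of_ringEquiv (Rh ⊗[Rp] L) (Algebra.TensorProduct.comm Rp Rh L).toRingEquiv
    refine FlatAscent.isRegularRing_transport
      (Algebra.TensorProduct.cancelBaseChange Rp K K L Rh).symm.toRingEquiv
      (regular_semilocal Rp C L fun m _ => ?_)
    let n := m.comap (algebraMap S C)
    let Cm := Localization.AtPrime m
    have : IsLocalization.AtPrime Cm n :=
      IsLocalization.isLocalization_isLocalization_atPrime_isLocalization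
        (Algebra.algebraMapSubmonoid S p.primeCompl) Cm m
    obtain ⟨ε⟩ := GRing17.exists_cpl_congr (A := S) (R := Cm) (R' := Localization.AtPrime n)
      (IsLocalization.algEquiv n.primeCompl Cm (Localization.AtPrime n))
    have := IsLocalization.tensorProduct_compatibleSMul (Algebra.algebraMapSubmonoid S p.primeCompl) C L
      (EGA4.Cpl Cm)
    exact FlatAscent.isRegularRing_transport
      ((Algebra.TensorProduct.congr (AlgEquiv.refl (R := S) (A₁ := L)) ε).symm.toRingEquiv.trans
        (Algebra.TensorProduct.equivOfCompatibleSMul S C C L (EGA4.Cpl Cm)).symm.toRingEquiv)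
      (regular_of_formalFibres hφ n fun P _ => h S n P)
  exact ⟨FlatAscent.isNoetherianRing_of_geometricallyRegular hg, hg⟩

end Groth.Agent.S9274
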