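import Mathlib
import Groth.Statements.S9275
-- import your own Groth.Agent.* helpers here

set_option autoImplicit false
universe u
open EtAlg

namespace Groth.Agent.S9275

/-- Let A → B be a ring map and J an ideal of B such that A → B is étale at every prime of V(J), in the
sense that every prime q ⊇ J has some h ∉ q with A → B_h étale. Then there is g ∈ B mapping to a
unit of B/J such that A → B_g is étale. -/
theorem result (A B : Type u) [CommRing A] [CommRing B]
    [Algebra A B] (J : Ideal B)
    (h : ∀ (q : Ideal B) [q.IsPrime], J ≤ q → ∃ h : B, h ∉ q ∧ Algebra.Etale A (Localization.Away h)) :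
    ∃ g : B, IsUnit (Ideal.Quotient.mk J g) ∧ Algebra.Etale A (Localization.Away g) := by
  let H : Ideal B := Ideal.span {b : B | Algebra.Etale A (Localization.Away b)}
  have htop : H ⊔ J = ⊤ := by
    by_contra hne
    obtain ⟨m, hm, hle⟩ := Ideal.exists_le_maximal _ hne
    haveI := hm.isPrime
    obtain ⟨b, hb, hbe⟩ := h m (le_sup_right.trans hle)
    exact hb (hle (Submodule.mem_sup_left (Ideal.subset_span hbe)))
  obtain ⟨g, hg, j, hj, hgj⟩ := Submodule.mem_sup.1 ((Ideal.eq_top_iff_one _).1 htop)
  refine ⟨g, ?_, ?_⟩
  · have := congrArg (Ideal.Quotient.mk J) hgj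
    rw [map_add, Ideal.Quotient.eq_zero_iff_mem.2 hj, add_zero, map_one] at this
    rw [this]; exact isUnit_one
  · rw [← RingHom.etale_algebraMap]
    refine RingHom.Etale.ofLocalizationSpanTarget _
      (algebraMap B (Localization.Away g) '' {b : B | Algebra.Etale A (Localization.Away b)}) ?_ ?_
    · rw [← Ideal.map_span]
      exact Ideal.eq_top_of_isUnit_mem _ (Ideal.mem_map_of_mem _ hg) (IsLocalization.Away.algebraMap_isUnit g)
    · rintro ⟨_, b, hb, rfl⟩
      let T := Localization.Away (algebraMap B (Localization.Away g) b)
      have hu : IsUnit (algebraMap B T b) := by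
        rw [IsScalarTower.algebraMap_apply B (Localization.Away g) T]
        exact IsLocalization.Away.algebraMap_isUnit _
      letI : Algebra (Localization.Away b) T := (IsLocalization.Away.lift b hu).toAlgebra
      haveI : IsScalarTower B (Localization.Away b) T :=
        .of_algebraMap_eq fun z => (IsLocalization.Away.lift_eq b hu z).symm
      haveI : IsLocalization.Away (algebraMap B (Localization.Away b) g) T :=
        IsLocalization.Away.commutes (Localization.Away b) (Localization.Away g) T b g
      haveI : IsScalarTower A (Localization.Away b) T := .of_algebraMap_eq fun z => by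
        rw [IsScalarTower.algebraMap_apply A B (Localization.Away b), ← IsScalarTower.algebraMap_apply B (Localization.Away b) T,
          ← IsScalarTower.algebraMap_apply A B T]
      haveI : Algebra.Etale A (Localization.Away b) := hb
      haveI : Algebra.Etale (Localization.Away b) T :=
        Algebra.Etale.of_isLocalizationAway (algebraMap B (Localization.Away b) g)
      have h3 : Algebra.Etale A T := Algebra.Etale.comp A (Localization.Away b) T
      rw [← IsScalarTower.algebraMap_eq A (Localization.Away g) T, RingHom.etale_algebraMap]
      exact h3

end Groth.Agent.S9275
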