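import Groth.Statements.S9278
import Mathlib

set_option autoImplicit false
universe u
open CAlgX

namespace Groth.Agent.S9278

/-- Let R be a Noetherian local ring and φ : R^m → R^n a map of finite free modules with matrix M. Then
φ is injective if and only if the rank of M is m and the determinantal ideal I(M) is the unit ideal
or contains a nonzerodivisor. -/
theorem result (R : Type u) [CommRing R]
    [IsLocalRing R] [IsNoetherianRing R] (m n : ℕ) (M : Matrix (Fin n) (Fin m) R) :
    Function.Injective (Matrix.mulVecLin M) ↔
      CAlgX.matrixRank M = m ∧ (CAlgX.detIdeal M = ⊤ ∨ ∃ a ∈ CAlgX.detIdeal M, IsRegular a) := by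
  classical
  have hrep : ∀ r, m < r → CAlgX.minorIdeal M r = ⊥ := by
    intro r hr
    rw [CAlgX.minorIdeal, Ideal.span_eq_bot]
    rintro _ ⟨⟨f, g⟩, rfl⟩
    obtain ⟨a, b, hab, hne⟩ : ∃ a b, g a = g b ∧ a ≠ b := by
      by_contra hc
      push Not at hc
      have := Fintype.card_le_of_injective g hc
      simp at this
      omega
    exact Matrix.det_zero_of_column_eq hne fun i => by simp [hab]
  have hzero : CAlgX.minorIdeal M 0 ≠ ⊥ := by
    intro h
    have : (1 : R) ∈ CAlgX.minorIdeal M 0 :=
      Ideal.subset_span ⟨(Fin.elim0, Fin.elim0), Matrix.det_isEmpty⟩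
    rw [h] at this
    exact one_ne_zero ((Submodule.mem_bot R).1 this)
  have hbdd : BddAbove {r : ℕ | CAlgX.minorIdeal M r ≠ ⊥} :=
    ⟨m, fun r hr => not_lt.1 fun h => hr (hrep r h)⟩
  have hrank : CAlgX.minorIdeal M m ≠ ⊥ ↔ CAlgX.matrixRank M = m := by
    constructor
    · intro h
      refine le_antisymm (csSup_le ⟨0, hzero⟩ fun r hr => not_lt.1 fun hlt => hr (hrep r hlt)) ?_
      exact le_csSup hbdd h
    · intro h
      have := Nat.sSup_mem ⟨0, hzero⟩ hbdd
      rw [show sSup {r : ℕ | CAlgX.minorIdeal M r ≠ ⊥} = m from h] at this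
      exact this
  have kill : Function.Injective (Matrix.mulVecLin M) ↔
      ∀ a : R, (∀ b ∈ CAlgX.minorIdeal M m, a * b = 0) → a = 0 := by
    constructor
    · intro hinj a ha
      by_contra hne
      obtain ⟨r, hrm, ⟨f, g, hfg⟩, hmax⟩ : ∃ r < m,
          (∃ (f : Fin r → Fin n) (g : Fin r → Fin m), a * (M.submatrix f g).det ≠ 0) ∧
          ∀ (f : Fin (r + 1) → Fin n) (g : Fin (r + 1) → Fin m), a * (M.submatrix f g).det = 0 := by
        let P : ℕ → Prop := fun r => ∃ (f : Fin r → Fin n) (g : Fin r → Fin m),
          a * (M.submatrix f g).det ≠ 0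
        have hP0 : P 0 := ⟨Fin.elim0, Fin.elim0, by simpa using hne⟩
        have hPm : ¬ P m := fun ⟨f, g, h⟩ => h (ha _ (Ideal.subset_span ⟨(f, g), rfl⟩))
        have hex : ∃ r, ¬ P r := ⟨m, hPm⟩
        obtain ⟨s, hs⟩ : ∃ s, Nat.find hex = s + 1 := by
          refine ⟨Nat.find hex - 1, ?_⟩
          have : Nat.find hex ≠ 0 := fun h => (h ▸ Nat.find_spec hex) hP0
          omega
        have hle : Nat.find hex ≤ m := Nat.find_min' hex hPm
        refine ⟨s, by omega, not_not.1 (Nat.find_min hex (m := s) (by omega)), ?_⟩
        have hsp := Nat.find_spec hex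
        rw [hs] at hsp
        simpa [P] using hsp
      have hg : Function.Injective g := by
        intro i j hij
        by_contra hne'
        exact hfg (by rw [Matrix.det_zero_of_column_eq hne' fun i => by simp [hij], mul_zero])
      obtain ⟨c, hc⟩ : ∃ c, c ∉ Set.range g := by
        by_contra hcon
        push Not at hcon
        have := Fintype.card_le_of_surjective g hcon
        simp at this
        omega
      let g' : Fin (r + 1) → Fin m := Fin.cons c g
      have hg' : Function.Injective g' := Fin.cons_injective_iff.2 ⟨hc, hg⟩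
      let co : Fin (r + 1) → R := fun k =>
        a * (-1) ^ (k : ℕ) * (M.submatrix f (g' ∘ k.succAbove)).det
      let x : Fin m → R := ∑ k, Pi.single (g' k) (co k)
      have hMx : Matrix.mulVecLin M x = 0 := by
        ext i
        have := hmax (Fin.cons i f) g'
        rw [Matrix.det_succ_row_zero, Finset.mul_sum] at this
        simp only [x, Matrix.mulVecLin_apply, Matrix.mulVec_sum, Matrix.mulVec_single,
          Finset.sum_apply, Pi.smul_apply, MulOpposite.smul_eq_mul_unop, MulOpposite.unop_op,
          Matrix.col_apply, Pi.zero_apply]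
        rw [← this]
        refine Finset.sum_congr rfl fun k _ => ?_
        simp only [co, Matrix.submatrix_apply, Fin.cons_zero, Matrix.submatrix_submatrix]
        rw [show (Fin.cons i f : Fin (r + 1) → Fin n) ∘ Fin.succ = f from
          funext fun _ => Fin.cons_succ _ _ _]
        ring
      have hx : x = 0 := hinj (by rw [hMx, map_zero])
      have := congrFun hx c
      simp only [x, Finset.sum_apply, Pi.zero_apply] at this
      rw [Finset.sum_eq_single 0] at this
      · have e : g' ∘ (0 : Fin (r + 1)).succAbove = g :=
          funext fun k => by simp [g']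
        simp only [g', Fin.cons_zero, Pi.single_eq_same, co, Fin.val_zero, pow_zero, mul_one] at this
        exact hfg (e ▸ this)
      · intro k _ hk
        exact Pi.single_eq_of_ne (fun h => hk (hg' (by simpa [g'] using h.symm))) _
      · simp
    · intro h
      rw [injective_iff_map_eq_zero]
      intro x hx
      funext l
      apply h
      intro b hb
      induction hb using Submodule.span_induction with
      | mem b hb =>
        obtain ⟨⟨f, g⟩, rfl⟩ := hb
        by_cases hg : Function.Injective g
        · have hgs : Function.Surjective g := Finite.surjective_of_injective hg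
          obtain ⟨l, rfl⟩ := hgs l
          have hz : (M.submatrix f g).mulVec (x ∘ g) = 0 := by
            funext i
            have := congrFun hx (f i)
            simp only [Matrix.mulVecLin_apply, Matrix.mulVec, dotProduct, Pi.zero_apply] at this ⊢
            rw [← this]
            exact Fintype.sum_equiv (Equiv.ofBijective g ⟨hg, hgs⟩) _ _ fun _ => rfl
          have := congrArg (M.submatrix f g).adjugate.mulVec hz
          rw [Matrix.mulVec_mulVec, Matrix.adjugate_mul, Matrix.smul_mulVec, Matrix.one_mulVec,
            Matrix.mulVec_zero] at this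
          have := congrFun this l
          simpa [mul_comm] using this
        · obtain ⟨a, b, hab, hne⟩ := Function.not_injective_iff.1 hg
          dsimp only
          rw [Matrix.det_zero_of_column_eq hne fun i => by simp [hab], mul_zero]
      | zero => simp
      | add p q _ _ hp hq => rw [mul_add, hp, hq, add_zero]
      | smul r p _ hp => rw [smul_eq_mul, mul_left_comm, hp, mul_zero]
  rw [kill]
  constructor
  · intro h
    have hne : CAlgX.minorIdeal M m ≠ ⊥ := fun hb =>
      one_ne_zero (h 1 fun b hb' => by rw [hb, Submodule.mem_bot] at hb'; simp [hb'])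
    have hm := hrank.1 hne
    refine ⟨hm, Or.inr ?_⟩
    rw [CAlgX.detIdeal, hm]
    by_contra hcon
    push Not at hcon
    have hsub : (CAlgX.minorIdeal M m : Set R) ⊆ ⋃ p ∈ associatedPrimes R R, (p : Set R) := by
      rw [biUnion_associatedPrimes_eq_compl_nonZeroDivisors]
      intro b hb hbn
      exact hcon b hb (isRegular_iff_mem_nonZeroDivisors.2 hbn)
    have hfin := associatedPrimes.finite R R
    have hsub' : (CAlgX.minorIdeal M m : Set R) ⊆ ⋃ p ∈ (hfin.toFinset : Set (Ideal R)), (p : Set R) := by
      simpa using hsub
    obtain ⟨p, hp, hle⟩ := (Ideal.subset_union_prime (R := R) (f := fun p => p) ⊥ ⊥ fun p hp _ _ =>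
      ((hfin.mem_toFinset.1 hp).isPrime)).1 hsub'
    obtain ⟨hpp, z, hz⟩ := isAssociatedPrime_iff.1 (AssociatedPrimes.mem_iff.1 (hfin.mem_toFinset.1 hp))
    have hz0 : z = 0 := h z fun b hb => by
      have := hle hb
      rw [hz, Submodule.mem_colon_singleton, Submodule.mem_bot, smul_eq_mul] at this
      rw [mul_comm]; exact this
    apply hpp.ne_top
    rw [hz, eq_top_iff]
    intro t _
    rw [Submodule.mem_colon_singleton, hz0, smul_zero]
    exact Submodule.zero_mem _
  · rintro ⟨hm, hor⟩ a ha
    rw [CAlgX.detIdeal, hm] at hor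
    rcases hor with h | ⟨b, hb, hreg⟩
    · simpa using ha 1 (h ▸ Submodule.mem_top)
    · exact hreg.right (by simpa using ha b hb)

end Groth.Agent.S9278
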