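import Groth.Statements.S9280
import Groth.Agent.J2Lib.Main
import Groth.Agent.NagataUJ.Local
import Groth.Agent.CohenStruct.Local
import Groth.Agent.DepthLib.SerreNormal
import Groth.Agent.DimTrdeg.Basic
-- import your own Groth.Agent.* helpers here

set_option autoImplicit false
universe u
open EGA4

namespace Groth.Agent.S9280

/-- A Nagata ring of dimension 1 is J-2, that is, every finite type algebra over it has open regular
locus. -/
theorem result (R : Type u) [CommRing R] (hR : CAlg.IsNagata R)
    (hdim : ringKrullDim R = 1) : EGA4.IsJ2 R := by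
  classical
  have := hR.1
  refine Groth.Agent.J2Lib.isJ2_of_finite fun A' _ _ _ hfin => ?_
  have hA' : CAlg.IsNagata A' := Groth.Agent.NagataUJ.isNagata_of_finite hR
  have := hA'.1
  let K := FractionRing A'
  let N := integralClosure A' K
  have : Module.Finite A' N := (Groth.Agent.NagataLib.isN1_iff K).mp
    (Groth.Agent.NagataLib.isN1_of_isN2 (Groth.Agent.NagataUJ.isN2_of_isNagata hA'))
  obtain ⟨G, hG⟩ := (Module.Finite.fg_top : (⊤ : Submodule A' N).FG)
  obtain ⟨c, hc⟩ := IsLocalization.exist_integer_multiples_of_finset (nonZeroDivisors A')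
    (G.image (fun y : N => (y : K)))
  have hcN : ∀ y : N, (c : A') • (y : K) ∈ (1 : Submodule A' K) := by
    intro y
    have hy : y ∈ Submodule.span A' (G : Set N) := hG ▸ Submodule.mem_top
    induction hy using Submodule.span_induction with
    | mem y hy =>
      obtain ⟨b, hb⟩ := hc (y : K) (Finset.mem_image_of_mem _ hy)
      exact Submodule.mem_one.mpr ⟨b, hb⟩
    | zero => simp
    | add a b _ _ ha hb =>
      change (c : A') • ((a : K) + (b : K)) ∈ _
      rw [smul_add]; exact add_mem ha hb
    | smul r a _ ha =>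
      change (c : A') • (r • (a : K)) ∈ _
      rw [smul_comm]; exact Submodule.smul_mem _ r ha
  refine ⟨PrimeSpectrum.basicOpen (c : A'), (PrimeSpectrum.basicOpen (c : A')).2,
    ⟨⟨⊥, Ideal.isPrime_bot⟩, fun hmem => nonZeroDivisors.coe_ne_zero c
      ((Submodule.mem_bot A').1 hmem)⟩, fun q hq => ?_⟩
  change IsRegularLocalRing (Localization.AtPrime q.asIdeal)
  have : IsIntegrallyClosed (Localization.AtPrime q.asIdeal) :=
    (Groth.Agent.CohenStruct.isIntegrallyClosed_localization_iff q.asIdeal.primeCompl
      q.asIdeal.primeCompl_le_nonZeroDivisors (Localization.AtPrime q.asIdeal) K).mpr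
      fun z hz => ⟨c, hq, hcN ⟨z, hz⟩⟩
  refine Groth.Agent.DepthLib.isRegularLocalRing_of_isIntegrallyClosed ?_
  rw [IsLocalization.AtPrime.ringKrullDim_eq_height q.asIdeal]
  refine le_trans q.asIdeal.height_le_ringKrullDim_of_isPrime ?_
  let φ := algebraMap R A'
  let : Algebra (R ⧸ RingHom.ker φ) A' := (RingHom.kerLift φ).toAlgebra
  have : IsScalarTower R (R ⧸ RingHom.ker φ) A' := .of_algebraMap_eq fun _ => rfl
  have : Module.Finite (R ⧸ RingHom.ker φ) A' := Module.Finite.of_restrictScalars_finite R _ _
  rw [Groth.Agent.DimTrdeg.ringKrullDim_eq_of_isIntegral (R ⧸ RingHom.ker φ) A'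
    (RingHom.kerLift_injective φ), ← hdim]
  exact ringKrullDim_le_of_surjective (Ideal.Quotient.mk _) Ideal.Quotient.mk_surjective

end Groth.Agent.S9280
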