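import Groth.Statements.S9282
import Groth.Agent.PP16Lib.ConormalKer
import Mathlib.RingTheory.Extension.Cotangent.Basic

set_option autoImplicit false
universe u
open CAlg

namespace Groth.Agent.S9282

/-- Let A → B be a local ring map between Noetherian local rings that is formally smooth for the adic
topology of the maximal ideal of B, and write K for the residue field of B. In the Jacobi–Zariski
sequence attached to A → B → K, the map from H_1(NL_{K/A}) to H_1(NL_{K/B}), which is m_B/m_B^2, is
injective; the remaining terms are exact in general, so that sequence starts with a zero. -/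
theorem result (A B : Type u) [CommRing A]
    [CommRing B] [IsLocalRing A] [IsLocalRing B] [IsNoetherianRing A] [IsNoetherianRing B]
    [Algebra A B] [IsLocalHom (algebraMap A B)]
    (hfs : CAlgX.IsAdicFormallySmooth A B (IsLocalRing.maximalIdeal B)) :
    Function.Injective
      (Algebra.H1Cotangent.map A B (IsLocalRing.ResidueField B) (IsLocalRing.ResidueField B)) := by
  classical
  let K := IsLocalRing.ResidueField B
  rw [injective_iff_map_eq_zero]
  intro z hz
  let PA := (Algebra.Generators.self A K).toExtension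
  let PB := (Algebra.Generators.self B K).toExtension
  let fhom := (Algebra.Generators.defaultHom (Algebra.Generators.self A K) (Algebra.Generators.self B K)).toExtensionHom
  obtain ⟨⟨f, hf⟩, hz'⟩ := Algebra.Extension.Cotangent.mk_surjective z.1
  have hdf : (1 : K) ⊗ₜ[PA.Ring] KaehlerDifferential.D A PA.Ring f = 0 := by
    have h := LinearMap.mem_ker.mp z.2
    rw [← hz', Algebra.Extension.cotangentComplex_mk] at h
    exact h
  have hfB : fhom.toAlgHom f ∈ PB.ker ^ 2 := by
    have h : Algebra.Extension.Cotangent.map fhom z.1 = 0 := congrArg Subtype.val hz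
    rw [← hz', Algebra.Extension.Cotangent.map_mk] at h
    exact (Ideal.toCotangent_eq_zero _ _).mp (congrArg Algebra.Extension.Cotangent.val h)
  let h0 : PB.Ring →ₐ[B] B := (MvPolynomial.aeval (Function.surjInv IsLocalRing.residue_surjective) : MvPolynomial K B →ₐ[B] B)
  have hh0 : ∀ y : MvPolynomial K B, IsLocalRing.residue B (h0 y) = MvPolynomial.aeval (id : K → K) y := fun y => by
    show IsLocalRing.residue B (MvPolynomial.aeval _ y) = _
    rw [MvPolynomial.aeval_def, MvPolynomial.aeval_def, MvPolynomial.eval₂_comp_left]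
    congr 1
    funext x
    exact Function.surjInv_eq IsLocalRing.residue_surjective x
  have hh0ker : PB.ker.map h0.toRingHom ≤ IsLocalRing.maximalIdeal B := Ideal.map_le_iff_le_comap.mpr fun y hy => by
    rw [Ideal.mem_comap, ← IsLocalRing.residue_eq_zero_iff]
    exact (hh0 y).trans hy
  let g : PA.Ring →ₐ[A] B := (h0.restrictScalars A).comp fhom.toAlgHom
  have hg : g f ∈ IsLocalRing.maximalIdeal B ^ 2 := by
    have h := Ideal.mem_map_of_mem h0.toRingHom hfB
    rw [Ideal.map_pow] at h
    exact Ideal.pow_right_mono hh0ker 2 h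
  have hgK : ∀ y, IsLocalRing.residue B (g y) = algebraMap PA.Ring K y := fun y => by
    refine (hh0 _).trans ?_
    exact fhom.algebraMap_toRingHom y
  let E := PA.Ring ⧸ PA.ker ^ 2
  let πK : E →ₐ[A] K := Ideal.Quotient.liftₐ _ (IsScalarTower.toAlgHom A PA.Ring K) fun y hy =>
    Ideal.pow_le_self two_ne_zero hy
  have hπK : Function.Surjective πK := fun k => by
    obtain ⟨y, hy⟩ := PA.algebraMap_surjective k
    exact ⟨Ideal.Quotient.mk _ y, hy⟩
  have hNmem : ∀ e ∈ RingHom.ker πK, ∃ j ∈ PA.ker, Ideal.Quotient.mk (PA.ker ^ 2) j = e := fun e he => by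
    obtain ⟨y, rfl⟩ := Ideal.Quotient.mk_surjective e
    exact ⟨y, he, rfl⟩
  have hN2 : ∀ a ∈ PA.ker, ∀ e ∈ RingHom.ker πK, Ideal.Quotient.mk (PA.ker ^ 2) a * e = 0 := fun a ha e he => by
    obtain ⟨j, hj, rfl⟩ := hNmem e he
    rw [← map_mul, Ideal.Quotient.eq_zero_iff_mem, pow_two]
    exact Ideal.mul_mem_mul ha hj
  have hN : ∀ a ∈ RingHom.ker πK, ∀ b ∈ RingHom.ker πK, a * b = 0 := fun a ha b hb => by
    obtain ⟨j, hj, rfl⟩ := hNmem a ha
    exact hN2 j hj b hb
  have hN' : RingHom.ker πK ^ 2 = ⊥ := by
    rw [eq_bot_iff, pow_two (RingHom.ker πK), Ideal.mul_le]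
    exact fun a ha b hb => hN a ha b hb
  let ε := Ideal.quotientKerAlgEquivOfSurjective hπK
  obtain ⟨τ, hτ⟩ := hfs E (RingHom.ker πK) hN' (ε.symm.toAlgHom.comp (IsScalarTower.toAlgHom A B K))
    ⟨1, fun x hx => by
      rw [pow_one] at hx
      show ε.symm (IsLocalRing.residue B x) = 0
      rw [(IsLocalRing.residue_eq_zero_iff x).mpr hx, map_zero]⟩
  have hτ' : ∀ b, πK (τ b) = IsLocalRing.residue B b := fun b => by
    have h : Ideal.Quotient.mk (RingHom.ker πK) (τ b) = ε.symm (IsLocalRing.residue B b) := DFunLike.congr_fun hτ b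
    have h2 := congrArg ε h
    rw [AlgEquiv.apply_symm_apply] at h2
    exact h2
  have key : Ideal.Quotient.mk (PA.ker ^ 2) f = τ (g f) :=
    PP16Lib.eq_of_conormal_eq_zero PA.algebraMap_surjective (Ideal.Quotient.mkₐ A _) (τ.comp g) (RingHom.ker πK) hN
      (fun x => by
        rw [RingHom.mem_ker, map_sub, sub_eq_zero]
        exact ((hτ' (g x)).trans (hgK x)).symm)
      hN2 f hdf
  have hzero : τ (g f) = 0 := by
    refine Submodule.mul_induction_on (C := fun b => τ b = 0) (pow_two (IsLocalRing.maximalIdeal B) ▸ hg)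
      (fun a ha b hb => ?_) fun a b ha hb => by rw [map_add, ha, hb, add_zero]
    rw [map_mul]
    exact hN _ (by rw [RingHom.mem_ker, hτ']; exact (IsLocalRing.residue_eq_zero_iff a).mpr ha) _
      (by rw [RingHom.mem_ker, hτ']; exact (IsLocalRing.residue_eq_zero_iff b).mpr hb)
  refine Subtype.ext ?_
  rw [← hz']
  refine Algebra.Extension.Cotangent.ext ?_
  exact (Ideal.toCotangent_eq_zero _ _).mpr (Ideal.Quotient.eq_zero_iff_mem.mp (key.trans hzero))

end Groth.Agent.S9282
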