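import Mathlib
import Groth.Statements.S9283
-- import your own Groth.Agent.* helpers here

set_option autoImplicit false
universe u
open CAlg

namespace Groth.Agent.S9283

/-- Let R be an auto-associated ring, that is, a local ring whose maximal ideal is weakly associated to
R: some nonzero x ∈ R is killed by a power of every element of the maximal ideal. Then every proper
finitely generated ideal of R has a nonzero annihilator. -/
theorem result (R : Type u) [CommRing R] [IsLocalRing R]
    (h : ∃ x : R, x ≠ 0 ∧ ∀ f ∈ IsLocalRing.maximalIdeal R, ∃ n : ℕ, f ^ n * x = 0)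
    (I : Ideal R) (hI : I.FG) (hI' : I ≠ ⊤) : I.annihilator ≠ ⊥ := by
  classical
  obtain ⟨x, hx0, hx⟩ := h
  obtain ⟨s, rfl⟩ := hI
  have hs : ∀ f ∈ s, f ∈ IsLocalRing.maximalIdeal R := fun f hf =>
    IsLocalRing.le_maximalIdeal hI' (Ideal.subset_span hf)
  suffices ∀ t : Finset R, t ⊆ s → ∃ a : R, a * x ≠ 0 ∧ ∀ f ∈ t, f * (a * x) = 0 by
    obtain ⟨a, ha, ha'⟩ := this s subset_rfl
    refine fun hb => ha ?_
    rw [← Submodule.mem_bot R, ← hb, Submodule.mem_annihilator_span]
    exact fun f => by simpa [mul_comm] using ha' f f.2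
  intro t
  induction t using Finset.induction with
  | empty => exact fun _ => ⟨1, by simpa using hx0, by simp⟩
  | insert f t hf ih =>
    intro hts
    obtain ⟨a, ha, ha'⟩ := ih ((Finset.subset_insert f t).trans hts)
    have hex : ∃ n, f ^ n * (a * x) = 0 := by
      obtain ⟨n, hn⟩ := hx f (hs f (hts (Finset.mem_insert_self f t)))
      exact ⟨n, by rw [← mul_assoc, mul_comm (f ^ n), mul_assoc, hn, mul_zero]⟩
    have h0 : Nat.find hex ≠ 0 := fun h0 => ha (by simpa [h0] using Nat.find_spec hex)
    refine ⟨f ^ (Nat.find hex - 1) * a, by rw [mul_assoc]; exact Nat.find_min hex (by omega), fun g hg => ?_⟩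
    rcases Finset.mem_insert.mp hg with rfl | hg
    · rw [mul_assoc, ← mul_assoc g, ← pow_succ', Nat.sub_add_cancel (Nat.one_le_iff_ne_zero.mpr h0)]
      exact Nat.find_spec hex
    · rw [mul_assoc, mul_left_comm g, ha' g hg, mul_zero]

end Groth.Agent.S9283
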