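import Groth.Statements.S9284
import Groth.Agent.MLMod.Basic
import Mathlib.Algebra.Module.Projective
import Mathlib.LinearAlgebra.Finsupp.Pi
import Mathlib.RingTheory.Ideal.Maps

set_option autoImplicit false
universe u
open CAlgX

namespace Groth.Agent.S9284

/-- Let R be a ring such that every proper finitely generated ideal of R has a nonzero annihilator, and
let u : N → M be an R-linear map between projective R-modules. Then u stays injective after
tensoring with every R-module exactly when u is injective. -/
theorem result (R : Type u) [CommRing R]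
    (hP : (∀ I : Ideal R, I.FG → I ≠ ⊤ → I.annihilator ≠ ⊥))
    (N M : Type u) [AddCommGroup N] [Module R N] [Module.Projective R N] [AddCommGroup M]
    [Module R M] [Module.Projective R M] (u : N →ₗ[R] M) :
    CAlgX.UniversallyInjective R u ↔ Function.Injective u := by
  classical
  refine ⟨Groth.MLMod.ui_injective, fun hu => ?_⟩
  -- injective maps from finite free modules to projective modules split
  have split : ∀ (n : ℕ) (X : Type u) (_ : AddCommGroup X) (_ : Module R X) (_ : Module.Projective R X)
      (v : (Fin n → R) →ₗ[R] X), Function.Injective v → ∃ φ : X →ₗ[R] (Fin n → R), φ ∘ₗ v = LinearMap.id := by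
    intro n
    induction n with
    | zero => exact fun X _ _ _ v _ => ⟨0, LinearMap.ext fun z => funext fun i => i.elim0⟩
    | succ n ih =>
      intro X _ _ hX v hv
      obtain ⟨s, hs⟩ := Module.Projective.out (R := R) (P := X)
      let x0 := v (Pi.single 0 1)
      let I : Ideal R := Ideal.span ((s x0).support.image (fun a => s x0 a) : Finset R)
      have hI : I = ⊤ := by
        by_contra hne
        apply hP I (Submodule.fg_span (Finset.finite_toSet _)) hne
        rw [eq_bot_iff]
        intro r hr
        have h1 : r • s x0 = 0 := by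
          ext a
          rw [Finsupp.smul_apply, Finsupp.zero_apply, smul_eq_mul]
          by_cases ha : a ∈ (s x0).support
          · exact Submodule.mem_annihilator.1 hr _
              (Ideal.subset_span (Finset.mem_image_of_mem _ ha))
          · rw [Finsupp.notMem_support_iff.1 ha, mul_zero]
        have h2 : r • x0 = 0 := by
          rw [← hs x0, ← map_smul, h1, map_zero]
        have h3 := hv (show v (r • Pi.single 0 1) = v 0 by rw [map_smul, map_zero]; exact h2)
        simpa using congrFun h3 0
      obtain ⟨c, hc⟩ : ∃ c : X → R, ∑ a ∈ (s x0).support, c a * s x0 a = 1 := by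
        have h1 : (1 : R) ∈ Submodule.span R ((fun a => s x0 a) '' ((s x0).support : Set X)) := by
          rw [← Finset.coe_image]
          show (1 : R) ∈ I
          rw [hI]
          exact Submodule.mem_top
        obtain ⟨l, hl, hl'⟩ := (Finsupp.mem_span_image_iff_linearCombination R).1 h1
        refine ⟨l, ?_⟩
        rw [Finsupp.linearCombination_apply, Finsupp.sum_of_support_subset l hl _ (by simp)] at hl'
        simpa using hl'
      let φ0 : X →ₗ[R] R := ∑ a ∈ (s x0).support, c a • (Finsupp.lapply a ∘ₗ s)
      have hφ0 : φ0 x0 = 1 := by simpa [φ0] using hc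
      let π : X →ₗ[R] X := LinearMap.id - φ0.smulRight x0
      let tail : (Fin n → R) →ₗ[R] (Fin (n + 1) → R) :=
        LinearMap.pi (Fin.cons 0 fun i => LinearMap.proj i)
      have htail0 : ∀ z, tail z 0 = 0 := fun z => by simp [tail]
      have htails : ∀ z i, tail z i.succ = z i := fun z i => by simp [tail]
      have hv' : Function.Injective (π ∘ₗ v ∘ₗ tail) := by
        rw [injective_iff_map_eq_zero]
        intro z hz
        have : v (tail z - φ0 (v (tail z)) • Pi.single 0 1) = v 0 := by
          rw [map_sub, map_smul, map_zero]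
          simpa [π] using hz
        funext i
        simpa [htails] using congrFun (hv this) i.succ
      obtain ⟨ψ, hψ⟩ := ih X inferInstance inferInstance hX _ hv'
      let ψ' := ψ ∘ₗ π
      have hψ0 : ψ' x0 = 0 := by simp [ψ', π, hφ0]
      refine ⟨LinearMap.pi (Fin.cons (φ0 - (φ0 ∘ₗ v ∘ₗ tail) ∘ₗ ψ') fun i => LinearMap.proj i ∘ₗ ψ'),
        LinearMap.ext fun z => ?_⟩
      have hz : z = z 0 • Pi.single 0 1 + tail (fun i => z i.succ) := by
        funext i
        refine Fin.cases ?_ (fun j => ?_) i
        · simp [htail0]
        · simp [htails]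
      have e1 : ψ' (v z) = fun i => z i.succ := by
        conv_lhs => rw [hz, map_add, map_smul, map_add, map_smul]
        rw [show ψ' (v (Pi.single 0 1)) = 0 from hψ0, smul_zero, zero_add]
        exact LinearMap.congr_fun hψ (fun i => z i.succ)
      have e2 : φ0 (v z) = z 0 + φ0 (v (tail fun i => z i.succ)) := by
        conv_lhs => rw [hz, map_add, map_smul, map_add, map_smul]
        rw [show φ0 (v (Pi.single 0 1)) = 1 from hφ0, smul_eq_mul, mul_one]
      funext i
      refine Fin.cases ?_ (fun j => ?_) i <;> simp [e1, e2]
  obtain ⟨σ, hσ⟩ := Module.Projective.out (R := R) (P := N)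
  let p : (N →₀ R) →ₗ[R] N := Finsupp.linearCombination R id
  -- an injective map out of a free module
  let κ : (N →₀ R) →ₗ[R] LinearMap.ker p :=
    (LinearMap.id - σ ∘ₗ p).codRestrict _ fun z => by simp [p, hσ (Finsupp.linearCombination R id z)]
  let U : (N →₀ R) →ₗ[R] M × LinearMap.ker p := (u ∘ₗ p).prod κ
  haveI : Module.Projective R (LinearMap.ker p) := by
    refine Module.Projective.of_split (LinearMap.ker p).subtype κ (LinearMap.ext fun z => ?_)
    apply Subtype.ext
    simp [κ, LinearMap.mem_ker.1 z.2]
  have hU : Function.Injective U := by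
    rw [injective_iff_map_eq_zero]
    intro z hz
    have h1 : p z = 0 := hu (by rw [map_zero]; exact congrArg Prod.fst hz)
    have h2 : z - σ (p z) = 0 := congrArg Subtype.val (congrArg Prod.snd hz)
    simpa [h1] using h2
  have hUI : @CAlgX.UniversallyInjective R _ (N →₀ R) (M × LinearMap.ker p) _ _ _ _ U := by
    rw [Groth.MLMod.ui_iff]
    intro Q _ _ x hx
    obtain ⟨k, a, q, rfl⟩ := TensorProduct.exists_sum_tmul_eq x
    let t : Finset N := Finset.univ.biUnion fun i => (a i).support
    let e := t.equivFin
    let j : (Fin t.card → R) →ₗ[R] (N →₀ R) :=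
      Fintype.linearCombination R fun i => Finsupp.single (e.symm i).1 1
    let r : (N →₀ R) →ₗ[R] (Fin t.card → R) := LinearMap.pi fun i => Finsupp.lapply (e.symm i).1
    have hrj : r ∘ₗ j = LinearMap.id := by
      refine LinearMap.pi_ext' fun i => LinearMap.ext_ring (funext fun l => ?_)
      simp [r, j, Fintype.linearCombination_apply_single, Finsupp.single_apply, Pi.single_apply,
        e.symm.injective.eq_iff, Subtype.val_injective.eq_iff, eq_comm]
    have hjr : ∀ i, j (r (a i)) = a i := by
      intro i
      have hsub : (a i).support ⊆ t := fun z hz => Finset.mem_biUnion.2 ⟨i, Finset.mem_univ _, hz⟩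
      simp only [j, r, Fintype.linearCombination_apply, LinearMap.pi_apply]
      rw [e.symm.sum_comp (fun z : t => (Finsupp.lapply z.1 : (N →₀ R) →ₗ[R] R) (a i) • Finsupp.single z.1 (1 : R)),
        Finset.sum_coe_sort t (fun z => (Finsupp.lapply z : (N →₀ R) →ₗ[R] R) (a i) • Finsupp.single z (1 : R))]
      conv_rhs => rw [← Finsupp.sum_single (a i),
        Finsupp.sum_of_support_subset _ hsub _ (by simp)]
      simp [Finsupp.smul_single']
    have hinj : Function.Injective (U ∘ₗ j) :=
      hU.comp (Function.LeftInverse.injective (g := ⇑r) fun z => LinearMap.congr_fun hrj z)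
    obtain ⟨φ, hφ⟩ := split _ (M × LinearMap.ker p) inferInstance inferInstance inferInstance (U ∘ₗ j) hinj
    have hx' : (U ∘ₗ j).rTensor Q (∑ i, TensorProduct.tmul R (r (a i)) (q i)) = 0 := by
      rw [← hx]
      simp [map_sum, hjr]
    have h0 := (Groth.MLMod.ui_iff.1 (Groth.MLMod.ui_of_leftInverse φ hφ)) Q _ hx'
    have := congrArg (j.rTensor Q) h0
    simpa [map_sum, hjr] using this
  have hcomp : (LinearMap.inl R M (LinearMap.ker p)) ∘ₗ u = U ∘ₗ σ := by
    refine LinearMap.ext fun n => Prod.ext ?_ ?_
    · simp [U, p, hσ n]
    · apply Subtype.ext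
      simp [U, κ, p, hσ n]
  exact Groth.MLMod.ui_of_comp (hcomp ▸ Groth.MLMod.ui_comp hUI
    (Groth.MLMod.ui_of_leftInverse p (LinearMap.ext hσ)))

end Groth.Agent.S9284
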