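import Groth.Statements.S9285
import Mathlib
-- import your own Groth.Agent.* helpers here

set_option autoImplicit false
universe u
open CAlg

namespace Groth.Agent.S9285

/-- A ring R has the property that every proper finitely generated ideal has a nonzero annihilator if
and only if every injective linear map R → R^n admits a retraction. -/
theorem result (R : Type u) [CommRing R] :
    (∀ I : Ideal R, I.FG → I ≠ ⊤ → I.annihilator ≠ ⊥) ↔
      ∀ (n : ℕ) (u : R →ₗ[R] (Fin n → R)), Function.Injective u →
        ∃ v : (Fin n → R) →ₗ[R] R, v.comp u = LinearMap.id := by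
  classical
  constructor
  · intro hP n u hu
    let I : Ideal R := Ideal.span (Set.range (u 1))
    have hI : I = ⊤ := by
      by_contra hne
      obtain ⟨a, ha, ha0⟩ := Submodule.exists_mem_ne_zero_of_ne_bot (hP I (Submodule.fg_span (Set.finite_range _)) hne)
      refine ha0 (hu ?_)
      rw [map_zero, ← mul_one a, ← smul_eq_mul, map_smul]
      funext i
      exact Submodule.mem_annihilator.1 ha _ (Ideal.subset_span ⟨i, rfl⟩)
    obtain ⟨c, hc⟩ := Ideal.mem_span_range_iff_exists_fun.1 ((Ideal.eq_top_iff_one I).1 hI)
    refine ⟨∑ i, c i • LinearMap.proj i, LinearMap.ext_ring ?_⟩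
    simp [hc]
  · intro h I hfg hne hann
    obtain ⟨n, g, hg⟩ := Submodule.fg_iff_exists_fin_generating_family.1 hfg
    have hinj : Function.Injective (LinearMap.toSpanSingleton R (Fin n → R) g) := by
      rw [← LinearMap.ker_eq_bot, eq_bot_iff]
      intro a ha
      rw [← hann, Submodule.mem_annihilator]
      intro x hx
      rw [← hg] at hx
      induction hx using Submodule.span_induction with
      | mem y hy => obtain ⟨i, rfl⟩ := hy; exact congrFun (LinearMap.mem_ker.1 ha) i
      | zero => simp
      | add y z _ _ hy hz => rw [smul_add, hy, hz, add_zero]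
      | smul r y _ hy => rw [smul_comm, hy, smul_zero]
    obtain ⟨v, hv⟩ := h n _ hinj
    refine hne ((Ideal.eq_top_iff_one I).2 ?_)
    have h1 : v g = 1 := by simpa using LinearMap.congr_fun hv 1
    rw [← h1, pi_eq_sum_univ' g, map_sum]
    refine Ideal.sum_mem _ fun i _ => ?_
    rw [map_smul, smul_eq_mul]
    exact Ideal.mul_mem_right _ _ (hg ▸ Submodule.subset_span ⟨i, rfl⟩)

end Groth.Agent.S9285
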