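import Groth.Statements.S9286
import Mathlib.RingTheory.Ideal.Maps
import Mathlib.Algebra.Module.Projective
import Mathlib.RingTheory.Finiteness.Projective
import Mathlib.RingTheory.Finiteness.Basic
import Mathlib.RingTheory.Finiteness.Prod

set_option autoImplicit false
universe u
open CAlg

namespace Groth.Agent.S9286

/-- Let R be a ring in which every proper finitely generated ideal has a nonzero annihilator. Given an
injective R-linear map u : N → M, where both N and M are finite and projective over R, the quotient
Coker(u) = M/u(N) is again projective as an R-module. -/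
theorem result (R : Type u) [CommRing R]
    (hP : (∀ I : Ideal R, I.FG → I ≠ ⊤ → I.annihilator ≠ ⊥))
    (N M : Type u) [AddCommGroup N] [Module R N] [Module.Finite R N] [Module.Projective R N]
    [AddCommGroup M] [Module R M] [Module.Finite R M] [Module.Projective R M]
    (u : N →ₗ[R] M) (hu : Function.Injective u) :
    Module.Projective R (M ⧸ LinearMap.range u) := by
  classical
  have key : ∀ (n : ℕ) (Q : Type u) [AddCommGroup Q] [Module R Q] [Module.Finite R Q] [Module.Projective R Q]
      (f : (Fin n → R) →ₗ[R] Q), Function.Injective f → ∃ L : Q →ₗ[R] (Fin n → R), L ∘ₗ f = LinearMap.id := by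
    intro n
    induction n with
    | zero => exact fun Q _ _ _ _ f _ => ⟨0, LinearMap.ext fun x => Subsingleton.elim _ _⟩
    | succ n ih =>
      intro Q _ _ _ _ f hf
      obtain ⟨m, g, i, hg, -, hgi⟩ := Module.Finite.exists_comp_eq_id_of_projective R Q
      let v := f (Pi.single 0 1)
      let I : Ideal R := Ideal.span (Set.range fun j => i v j)
      have hI : I = ⊤ := by
        by_contra hne
        obtain ⟨a, ha, ha0⟩ := Submodule.exists_mem_ne_zero_of_ne_bot (hP I (Submodule.fg_span (Set.finite_range _)) hne)
        refine ha0 ?_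
        have h1 : f (a • Pi.single 0 1) = 0 := by
          rw [map_smul, ← show g (i v) = f (Pi.single 0 1) from LinearMap.congr_fun hgi v, ← map_smul, show a • i v = 0 from
            funext fun j => Submodule.mem_annihilator.mp ha _ (Ideal.subset_span ⟨j, rfl⟩), map_zero]
        have h2 := congrFun (hf (h1.trans (map_zero f).symm)) 0
        simpa using h2
      obtain ⟨c, hc⟩ := (Submodule.mem_span_range_iff_exists_fun R).mp (hI ▸ Submodule.mem_top : (1 : R) ∈ I)
      let φ : Q →ₗ[R] R := (∑ j, c j • LinearMap.proj j).comp i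
      have hφ : φ v = 1 := by
        rw [← hc]
        simp [φ, LinearMap.sum_apply]
      let pr : Q →ₗ[R] LinearMap.ker φ :=
        (LinearMap.id - φ.smulRight v).codRestrict _ fun q => by simp [hφ]
      have hpr : ∀ q, (pr q : Q) = q - φ q • v := fun q => rfl
      haveI : Module.Projective R (LinearMap.ker φ) :=
        Module.Projective.of_split (LinearMap.ker φ).subtype pr (LinearMap.ext fun q => Subtype.ext (by
          rw [LinearMap.comp_apply, hpr, Submodule.subtype_apply, LinearMap.mem_ker.mp q.2, zero_smul, sub_zero]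
          rfl))
      haveI : Module.Finite R (LinearMap.ker φ) := Module.Finite.of_surjective pr fun q =>
        ⟨q, Subtype.ext (by rw [hpr, LinearMap.mem_ker.mp q.2, zero_smul, sub_zero])⟩
      let T : (Fin n → R) →ₗ[R] (Fin (n + 1) → R) :=
        LinearMap.pi (Fin.cases 0 fun j => LinearMap.proj j)
      have hT0 : ∀ z, T z 0 = 0 := fun z => rfl
      have hTs : ∀ z j, T z (Fin.succ j) = z j := fun z j => by simp [T]
      obtain ⟨L, hL⟩ := ih (LinearMap.ker φ) (pr ∘ₗ f ∘ₗ T) (by
        rw [injective_iff_map_eq_zero]
        intro z hz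
        have h1 : f (T z - φ (f (T z)) • Pi.single 0 1) = 0 := by
          rw [map_sub, map_smul]
          exact (hpr _).symm.trans (congrArg Subtype.val hz)
        have h2 := hf (h1.trans (map_zero f).symm)
        funext j
        have h3 := congrFun h2 j.succ
        simpa [hTs, Pi.single_eq_of_ne (Fin.succ_ne_zero j)] using h3)
      let L' : Q →ₗ[R] (Fin (n + 1) → R) := T ∘ₗ L ∘ₗ pr +
        (φ - φ ∘ₗ f ∘ₗ T ∘ₗ L ∘ₗ pr).smulRight (Pi.single 0 1)
      refine ⟨L', LinearMap.ext fun z => ?_⟩
      have hz : z = T (fun j => z j.succ) + z 0 • Pi.single 0 1 := by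
        funext j
        refine Fin.cases ?_ (fun j => ?_) j
        · simp [hT0]
        · simp [hTs, Pi.single_eq_of_ne (Fin.succ_ne_zero j)]
      have hprv : pr v = 0 := Subtype.ext (by rw [hpr, hφ, one_smul, sub_self]; rfl)
      have hLT : ∀ w, L (pr (f (T w))) = w := fun w => LinearMap.congr_fun hL w
      show L' (f z) = z
      conv_lhs => rw [hz]
      simp only [map_add, map_smul]
      rw [show f (Pi.single 0 1) = v from rfl]
      simp only [L', LinearMap.add_apply, LinearMap.comp_apply, LinearMap.smulRight_apply, LinearMap.sub_apply,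
        hprv, hφ, hLT, map_zero, sub_self, zero_smul, add_zero, zero_add, sub_zero, one_smul]
      exact hz.symm
  obtain ⟨n, g, i, hg, -, hgi⟩ := Module.Finite.exists_comp_eq_id_of_projective R N
  have hgi' : ∀ x, g (i x) = x := fun x => LinearMap.congr_fun hgi x
  obtain ⟨L, hL⟩ := key n (M × (Fin n → R)) ((u ∘ₗ g).prod (LinearMap.id - i ∘ₗ g)) (by
    rw [injective_iff_map_eq_zero]
    intro z hz
    obtain ⟨h1, h2⟩ := Prod.ext_iff.mp hz
    have hgz : g z = 0 := hu (h1.trans (map_zero u).symm)
    simpa [hgz] using h2)
  let w : M →ₗ[R] N := g ∘ₗ L ∘ₗ LinearMap.inl R M (Fin n → R)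
  have hw : ∀ x, w (u x) = x := fun x => by
    have h := LinearMap.congr_fun hL (i x)
    simp only [LinearMap.comp_apply, LinearMap.prod_apply, LinearMap.sub_apply, LinearMap.id_apply, hgi',
      Function.prod_apply, sub_self] at h
    show g (L (u x, 0)) = x
    exact (congrArg g h).trans (hgi' x)
  let sec : (M ⧸ LinearMap.range u) →ₗ[R] M := Submodule.liftQ _ (LinearMap.id - u ∘ₗ w) (by
    rintro _ ⟨x, rfl⟩
    simp [hw])
  exact Module.Projective.of_split sec (LinearMap.range u).mkQ (LinearMap.ext fun q => by
    obtain ⟨x, rfl⟩ := Submodule.mkQ_surjective _ q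
    show (LinearMap.range u).mkQ (x - u (w x)) = _
    rw [map_sub, (Submodule.Quotient.mk_eq_zero _).mpr (LinearMap.mem_range_self u (w x)) |> (Submodule.mkQ_apply _ _).trans, sub_zero]
    rfl)

end Groth.Agent.S9286
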