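import Groth.Statements.S9289
import Groth.Agent.GRing17.FiniteType
import Groth.Agent.S2047
import Groth.Agent.S4704

set_option autoImplicit false
universe u
open CAlg

namespace Groth.Agent.S9289

open scoped TensorProduct
open Groth.Agent

/-- Regularity of the completion map transported to another localization at the same prime. -/
theorem regular_cpl_congr {S C D : Type u} [CommRing S] [CommRing C] [CommRing D] [Algebra S C] [Algebra S D]
    [IsLocalRing C] [IsLocalRing D] [IsNoetherianRing C] [IsNoetherianRing D] (e : D ≃ₐ[S] C)
    (h : CAlg.IsRegularHom C (EGA4.Cpl C)) : CAlg.IsRegularHom D (EGA4.Cpl D) := by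
  let : Algebra D C := e.toRingEquiv.toRingHom.toAlgebra
  have : IsLocalHom (algebraMap D C) := ⟨fun x hx => by
    have h1 : IsUnit (e.symm (e x)) := hx.map e.symm
    rwa [e.symm_apply_apply] at h1⟩
  let e' : D ≃ₐ[D] C := AlgEquiv.ofRingEquiv (f := e.toRingEquiv) fun _ => rfl
  have : IsLocalization (⊥ : Submonoid D) D :=
    IsLocalization.of_le_isUnit fun x hx => by rw [Submonoid.mem_bot] at hx; exact hx ▸ isUnit_one
  have : IsLocalization (⊥ : Submonoid D) C := IsLocalization.isLocalization_of_algEquiv ⊥ e'
  exact S4704.result D C (GRing17.isRegularHom_of_isLocalization ⊥) h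

/-- Let R and R' be Noetherian rings with R' of finite type over R and quasi-finite at the prime p' of
R', lying over p. If R_p has geometrically regular formal fibres, so does R'_{p'}; stated as: if the
completion map of R_p is regular, so is that of R'_{p'}. -/
theorem result (R R' : Type u) [CommRing R]
    [CommRing R'] [IsNoetherianRing R] [IsNoetherianRing R'] [Algebra R R'] [Algebra.FiniteType R R']
    (p' : Ideal R') [p'.IsPrime] [Algebra.QuasiFiniteAt R p']
    (h : CAlg.IsRegularHom (Localization.AtPrime (Ideal.comap (algebraMap R R') p'))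
      (AdicCompletion (IsLocalRing.maximalIdeal (Localization.AtPrime (Ideal.comap (algebraMap R R') p')))
        (Localization.AtPrime (Ideal.comap (algebraMap R R') p')))) :
    CAlg.IsRegularHom (Localization.AtPrime p')
      (AdicCompletion (IsLocalRing.maximalIdeal (Localization.AtPrime p')) (Localization.AtPrime p')) := by
  let p := p'.comap (algebraMap R R')
  let Rp := Localization.AtPrime p
  have hG : CAlg.IsGRing Rp := ⟨inferInstance, fun P _ => by
    let P₀ := P.comap (algebraMap R Rp)
    have : IsLocalization.AtPrime (Localization.AtPrime P) P₀ :=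
      IsLocalization.isLocalization_isLocalization_atPrime_isLocalization p.primeCompl (Localization.AtPrime P) P
    have hP₀ : P₀ ≤ p := fun x hx => by
      by_contra hxp
      exact Ideal.IsPrime.ne_top ‹P.IsPrime› (P.eq_top_of_isUnit_mem hx
        (IsLocalization.map_units Rp (⟨x, hxp⟩ : p.primeCompl)))
    exact regular_cpl_congr (IsLocalization.algEquiv P₀.primeCompl _ _)
      (Groth.Agent.GRing17.isRegularHom_cpl_of_le p h P₀ hP₀)⟩
  let S := Rp ⊗[R] R'
  let : Algebra R' S := Algebra.TensorProduct.rightAlgebra
  have : IsLocalization (Algebra.algebraMapSubmonoid R' p.primeCompl) S := inferInstance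
  have hS : CAlg.IsGRing S := Groth.Agent.GRing17.isGRing_of_finiteType hG S
  have hdisj : Disjoint (Algebra.algebraMapSubmonoid R' p.primeCompl : Set R') p' := by
    refine Set.disjoint_left.mpr ?_
    rintro _ ⟨x, hx, rfl⟩ h
    exact hx h
  let Q := p'.map (algebraMap R' S)
  have : Q.IsPrime :=
    IsLocalization.isPrime_of_isPrime_disjoint (Algebra.algebraMapSubmonoid R' p.primeCompl) S p' ‹_› hdisj
  have hQ : Q.comap (algebraMap R' S) = p' :=
    IsLocalization.under_map_of_isPrime_disjoint (Algebra.algebraMapSubmonoid R' p.primeCompl) S ‹_› hdisj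
  have := hS.1
  have : IsLocalization.AtPrime (Localization.AtPrime Q) p' := by
    have := IsLocalization.isLocalization_isLocalization_atPrime_isLocalization
      (Algebra.algebraMapSubmonoid R' p.primeCompl) (Localization.AtPrime Q) Q
    convert! this using 1
    exact hQ.symm
  exact regular_cpl_congr (IsLocalization.algEquiv p'.primeCompl _ _) (hS.2 Q)

end Groth.Agent.S9289
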