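import Mathlib
import Groth.Statements.S9291
-- import your own Groth.Agent.* helpers here

set_option autoImplicit false
universe u
open EtAlg

namespace Groth.Agent.S9291

/-- Let A be a ring, I an ideal and u a unit of A/I. Then there is an étale ring map A → A' such that
A/I → A'/IA' is an isomorphism, together with a unit of A' mapping to the image of u. -/
theorem result (A : Type u) [CommRing A] (I : Ideal A) (u : (A ⧸ I)ˣ) :
    ∃ (A' : Type u) (_ : CommRing A') (_ : Algebra A A'), Algebra.Etale A A' ∧
      Function.Bijective (Ideal.quotientMap (Ideal.map (algebraMap A A') I) (algebraMap A A')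
        Ideal.le_comap_map) ∧
      ∃ u' : A'ˣ, Ideal.Quotient.mk (Ideal.map (algebraMap A A') I) (u' : A') =
        Ideal.quotientMap (Ideal.map (algebraMap A A') I) (algebraMap A A') Ideal.le_comap_map
          (u : A ⧸ I) := by
  obtain ⟨a, ha⟩ := Ideal.Quotient.mk_surjective (u : A ⧸ I)
  let A' := Localization.Away a
  have hau : IsUnit (algebraMap A A' a) := IsLocalization.Away.algebraMap_isUnit a
  refine ⟨A', inferInstance, inferInstance, Algebra.Etale.of_isLocalizationAway a, ?_, hau.unit, ?_⟩
  · have hu : IsUnit ((Ideal.Quotient.mk I) a) := ha ▸ u.isUnit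
    let g : A' →+* A ⧸ I := IsLocalization.Away.lift a hu
    have hg : ∀ x, g (algebraMap A A' x) = Ideal.Quotient.mk I x := IsLocalization.Away.lift_eq a hu
    have hker : Ideal.map (algebraMap A A') I ≤ RingHom.ker g := Ideal.map_le_iff_le_comap.2 fun x hx => by
      rw [Ideal.mem_comap, RingHom.mem_ker, hg, Ideal.Quotient.eq_zero_iff_mem.2 hx]
    refine ⟨fun x y hxy => ?_, fun z => ?_⟩
    · obtain ⟨x, rfl⟩ := Ideal.Quotient.mk_surjective x
      obtain ⟨y, rfl⟩ := Ideal.Quotient.mk_surjective y
      rw [Ideal.quotientMap_mk, Ideal.quotientMap_mk] at hxy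
      have := congrArg (Ideal.Quotient.lift _ g hker) hxy
      exact (hg x).symm.trans ((show g (algebraMap A A' x) = g (algebraMap A A' y) from this).trans (hg y))
    · obtain ⟨z, rfl⟩ := Ideal.Quotient.mk_surjective z
      obtain ⟨n, b, hb⟩ := IsLocalization.Away.surj a z
      refine ⟨Ideal.Quotient.mk I b * ↑((u⁻¹) ^ n), ?_⟩
      set q := Ideal.quotientMap (Ideal.map (algebraMap A A') I) (algebraMap A A') Ideal.le_comap_map
      have hqa : q (u : A ⧸ I) = Ideal.Quotient.mk _ (algebraMap A A' a) := by rw [← ha]; exact Ideal.quotientMap_mk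
      rw [map_mul, show q (Ideal.Quotient.mk I b) = _ from Ideal.quotientMap_mk, ← hb, map_mul, map_pow, ← hqa,
        ← map_pow q, mul_assoc, ← map_mul q, ← Units.val_pow_eq_pow_val, ← Units.val_mul, inv_pow,
        mul_inv_cancel, Units.val_one, map_one, mul_one]
  · rw [IsUnit.unit_spec, ← ha]
    exact Ideal.quotientMap_mk.symm

end Groth.Agent.S9291
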