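import Groth.Statements.S9292
import Mathlib
-- import your own Groth.Agent.* helpers here

set_option autoImplicit false
universe u
open EtAlg

namespace Groth.Agent.S9292

section Aux
theorem single_mem {A : Type u} [CommRing A] {ι : Type} [Fintype ι] (B : ι → Type u)
    [∀ j, CommRing (B j)] [∀ j, Algebra A (B j)] (I : Ideal A) (z : ∀ j, B j)
    (h : ∀ j, z j ∈ I.map (algebraMap A (B j))) :
    z ∈ I.map (algebraMap A (∀ j, B j)) := by
  classical
  rw [← Finset.univ_sum_single z]
  refine sum_mem fun j _ => ?_
  have hj := h j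
  generalize z j = w at hj
  rw [Ideal.map] at hj
  induction hj using Submodule.span_induction with
  | mem x hx =>
    obtain ⟨i, hi, rfl⟩ := hx
    have : (Pi.single j (algebraMap A (B j) i) : ∀ j, B j) =
        Pi.single j 1 * algebraMap A (∀ j, B j) i := by
      ext k
      by_cases hk : k = j
      · subst hk; simp
      · simp [Pi.single_eq_of_ne hk]
    rw [this]
    exact Ideal.mul_mem_left _ _ (Ideal.mem_map_of_mem _ hi)
  | zero => simp
  | add x y _ _ hx hy => rw [Pi.single_add]; exact add_mem hx hy
  | smul r x _ hx => rw [smul_eq_mul, Pi.single_mul]; exact Ideal.mul_mem_left _ _ hx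

end Aux

/-- Let A be a ring, I an ideal, and e_1, ..., e_n a complete system of orthogonal idempotents of A/I
(equivalently a finite disjoint open covering of Spec(A/I)). Then one can find an A-algebra A' that
is étale over A, such that the induced map A/I → A'/IA' is bijective, together with a complete
system of orthogonal idempotents of A' lifting the e_j. -/
theorem result (A : Type u) [CommRing A] (I : Ideal A)
    (n : ℕ) (e : Fin n → A ⧸ I) (he : CompleteOrthogonalIdempotents e) :
    ∃ (A' : Type u) (_ : CommRing A') (_ : Algebra A A'), Algebra.Etale A A' ∧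
      Function.Bijective (Ideal.quotientMap (Ideal.map (algebraMap A A') I) (algebraMap A A')
        Ideal.le_comap_map) ∧
      ∃ e' : Fin n → A', CompleteOrthogonalIdempotents e' ∧
        ∀ j, Ideal.Quotient.mk (Ideal.map (algebraMap A A') I) (e' j) =
          Ideal.quotientMap (Ideal.map (algebraMap A A') I) (algebraMap A A') Ideal.le_comap_map
            (e j) := by
  classical
  choose a ha using fun j => Ideal.Quotient.mk_surjective (e j)
  -- the `j`-th factor is `A_{a j}`
  let B : Fin n → Type u := fun j => Localization.Away (a j)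
  have key : ∀ (j : Fin n) (c : A), c * a j ∈ I →
      algebraMap A (B j) c ∈ I.map (algebraMap A (B j)) := fun j c hc => by
    have h := Ideal.mem_map_of_mem (algebraMap A (B j)) hc
    rw [map_mul] at h
    exact (Ideal.mul_unit_mem_iff_mem _ (IsLocalization.Away.algebraMap_isUnit (a j))).1 h
  have hq : ∀ (j : Fin n) (c d : A), (Ideal.Quotient.mk I c - Ideal.Quotient.mk I d) * e j = 0 →
      algebraMap A (B j) c - algebraMap A (B j) d ∈ I.map (algebraMap A (B j)) := fun j c d h => by
    rw [← map_sub]
    refine key j _ (Ideal.Quotient.eq_zero_iff_mem.1 ?_)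
    rwa [map_mul, map_sub, ha]
  refine ⟨∀ j, B j, inferInstance, inferInstance, inferInstance, ⟨?_, ?_⟩,
    fun j => Pi.single j 1, CompleteOrthogonalIdempotents.single _, fun j => ?_⟩
  · rw [injective_iff_map_eq_zero]
    intro x hx
    obtain ⟨x, rfl⟩ := Ideal.Quotient.mk_surjective x
    rw [Ideal.quotientMap_mk, Ideal.Quotient.eq_zero_iff_mem] at hx
    have hxj : ∀ j, e j * Ideal.Quotient.mk I x = 0 := fun j => by
      have h : algebraMap A (B j) x ∈ I.map (algebraMap A (B j)) := by
        have h' := Ideal.mem_map_of_mem (Pi.evalRingHom B j) hx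
        rwa [Ideal.map_map, Pi.evalRingHom_apply] at h'
      rw [IsLocalization.algebraMap_mem_map_algebraMap_iff (Submonoid.powers (a j))] at h
      obtain ⟨_, ⟨N, rfl⟩, hN⟩ := h
      have := Ideal.Quotient.eq_zero_iff_mem.2 hN
      rw [map_mul, map_pow, ha] at this
      calc e j * Ideal.Quotient.mk I x = e j * (e j ^ N * Ideal.Quotient.mk I x) := by
            rw [← mul_assoc, ← pow_succ', (he.idem j).pow_succ_eq N]
        _ = 0 := by rw [this, mul_zero]
    rw [← one_mul (Ideal.Quotient.mk I x), ← he.complete, Finset.sum_mul]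
    exact Finset.sum_eq_zero fun j _ => hxj j
  · intro y
    obtain ⟨y, rfl⟩ := Ideal.Quotient.mk_surjective y
    choose x hx using fun j => IsLocalization.surj (Submonoid.powers (a j)) (y j)
    refine ⟨Ideal.Quotient.mk I (∑ i, a i * (x i).1), ?_⟩
    rw [Ideal.quotientMap_mk, Ideal.Quotient.eq]
    refine single_mem B I _ fun j => ?_
    rw [Pi.sub_apply, Pi.algebraMap_apply]
    obtain ⟨N, hN⟩ := (x j).2.2
    have hx' : y j * algebraMap A (B j) (a j ^ N) = algebraMap A (B j) (x j).1 := by
      rw [show a j ^ N = ((x j).2 : A) from hN]; exact hx j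
    refine (Ideal.mul_unit_mem_iff_mem _
      ((IsLocalization.Away.algebraMap_isUnit (S := B j) (a j)).pow N)).1 ?_
    rw [sub_mul, ← map_pow, hx', ← map_mul]
    refine hq j _ _ ?_
    simp only [map_sum, map_mul, map_pow, ha]
    rw [sub_mul, Finset.sum_mul, Finset.sum_mul, Finset.sum_eq_single j]
    · linear_combination Ideal.Quotient.mk I (x j).1 * (he.idem j).pow_succ_eq (N + 1)
    · intro i _ hij
      linear_combination Ideal.Quotient.mk I (x i).1 * e j ^ N * he.ortho hij
    · simp
  · rw [← ha j, Ideal.quotientMap_mk, Ideal.Quotient.eq]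
    refine single_mem B I _ fun i => ?_
    rw [Pi.sub_apply, Pi.algebraMap_apply]
    beta_reduce
    by_cases hij : i = j
    · subst hij
      rw [Pi.single_eq_same, ← map_one (algebraMap A (B i))]
      exact hq i _ _ (by rw [map_one, ha, sub_mul, one_mul, (he.idem i).eq, sub_self])
    · rw [Pi.single_eq_of_ne hij, ← map_zero (algebraMap A (B i))]
      exact hq i _ _ (by rw [map_zero, ha, zero_sub, neg_mul, he.ortho (Ne.symm hij), neg_zero])

end Groth.Agent.S9292
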