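import Groth.Statements.S9297
import Groth.Agent.Catenary.Equidim
import Groth.Agent.DepthLib.FlatDepth
import Groth.Agent.BertiniAff.Coords

set_option autoImplicit false
universe u
open EGA4

namespace Groth.Agent.S9297

/-- Let A → B be a flat local homomorphism of Noetherian local rings with B catenary and Spec(B)
equidimensional. Then Spec(B/pB) is equidimensional for every prime p of A. -/
theorem result (A B : Type u) [CommRing A] [CommRing B]
    [IsNoetherianRing A] [IsNoetherianRing B] [IsLocalRing A] [IsLocalRing B] [Algebra A B]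
    [IsLocalHom (algebraMap A B)] [Module.Flat A B] (hcat : CAlg.IsCatenary B) (heq : EGA4.IsEquidim B)
    (p : Ideal A) [p.IsPrime] : EGA4.IsEquidim (B ⧸ Ideal.map (algebraMap A B) p) := by
  let ι := algebraMap A B
  have hB : Catenary.HeightCat B := Catenary.heightCat_of_equidim hcat heq
  obtain ⟨k, hk⟩ := Catenary.exists_height_eq (⟨p, ‹_›⟩ : PrimeSpectrum A)
  have key : ∀ P ∈ (p.map ι).minimalPrimes, (k : WithBot ℕ∞) + ringKrullDim (B ⧸ P) = ringKrullDim B := by
    intro P hP
    have := hP.isPrime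
    have hpP : p ≤ P.comap ι := Ideal.map_le_iff_le_comap.mp hP.le
    have : P.LiesOver p := ⟨le_antisymm hpP (by
      have : P.LiesOver (P.comap ι) := ⟨rfl⟩
      obtain ⟨Q, hQP, hQ, hQp⟩ := Ideal.exists_ideal_le_liesOver_of_le (p := p) (q := P.comap ι) P hpP
      have hQc : p = Q.comap ι := hQp.over
      exact (Ideal.comap_mono (hP.2 ⟨hQ, Ideal.map_le_iff_le_comap.mpr hQc.le⟩ hQP)).trans hQc.ge)⟩
    have e : P.height = p.height := DepthLib.height_eq_of_mem_minimalPrimes_map p P hP
    have h1 := hB.height_add_dim P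
    rw [e, show p.height = k from hk] at h1
    exact h1
  rw [Catenary.isEquidim_iff_of_surjective (Ideal.Quotient.mk _) Ideal.Quotient.mk_surjective, Ideal.mk_ker]
  intro P hP
  refine le_antisymm (ringKrullDim_le_of_surjective (Ideal.Quotient.factor hP.le)
    (Ideal.Quotient.factor_surjective hP.le)) (BertiniAff.ringKrullDim_le_of_forall_minimalPrimes _ ?_)
  intro Q hQ
  have hQ' : Q.comap (Ideal.Quotient.mk _) ∈ (p.map ι).minimalPrimes := by
    have h0 : (⊥ : Ideal (B ⧸ p.map ι)).comap (Ideal.Quotient.mk _) = p.map ι := by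
      rw [← RingHom.ker_eq_comap_bot, Ideal.mk_ker]
    have h1 := Ideal.comap_minimalPrimes_eq_of_surjective (f := Ideal.Quotient.mk (p.map ι))
      Ideal.Quotient.mk_surjective (⊥ : Ideal (B ⧸ p.map ι))
    exact (h0 ▸ h1).symm ▸ ⟨Q, hQ, rfl⟩
  have e := (key _ hQ').trans (key P hP).symm
  have := hP.isPrime
  rw [add_comm (k : WithBot ℕ∞), add_comm (k : WithBot ℕ∞)] at e
  have hd : ringKrullDim (B ⧸ Q.comap (Ideal.Quotient.mk (p.map ι))) = ringKrullDim ((B ⧸ p.map ι) ⧸ Q) :=
    ringKrullDim_eq_of_ringEquiv ((Ideal.quotEquivOfEq (by rw [← RingHom.comap_ker, Ideal.mk_ker])).trans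
      (RingHom.quotientKerEquivOfSurjective (f := (Ideal.Quotient.mk Q).comp (Ideal.Quotient.mk (p.map ι)))
        (Ideal.Quotient.mk_surjective.comp Ideal.Quotient.mk_surjective)))
  rw [← hd]
  have := hQ'.isPrime
  revert e
  generalize ringKrullDim (B ⧸ Q.comap (Ideal.Quotient.mk (p.map ι))) = x
  generalize ringKrullDim (B ⧸ P) = y
  intro e
  cases x with
  | bot => exact bot_le
  | coe x => cases y with
    | bot => simp at e
    | coe y =>
      rw [← WithBot.coe_natCast, ← WithBot.coe_add, ← WithBot.coe_add, WithBot.coe_inj,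
        ENat.add_left_injective_of_ne_top (ENat.natCast_ne_top k) |>.eq_iff] at e
      rw [e]

end Groth.Agent.S9297
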