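import Groth.Statements.S9300
import Mathlib

set_option autoImplicit false
universe u
open CAlg

namespace Groth.Agent.S9300

/-- Let A and B be domains and A → B a ring map for which the generic point of Spec(A) has a unique
preimage in Spec(B). Then every nonzero ideal of B has nonzero preimage in A. -/
theorem result (A B : Type u) [CommRing A] [IsDomain A]
    [CommRing B] [IsDomain B] (φ : A →+* B)
    (h : ∃! q : PrimeSpectrum B, Ideal.comap φ q.asIdeal = ⊥) (J : Ideal B) (hJ : J ≠ ⊥) :
    Ideal.comap φ J ≠ ⊥ := by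
  intro hcomap
  obtain ⟨q, hq, huniq⟩ := h
  have hinj : Ideal.comap φ (⊥ : Ideal B) = ⊥ :=
    le_antisymm ((Ideal.comap_mono bot_le).trans_eq hq) bot_le
  have hd : Disjoint (J : Set B) ((nonZeroDivisors A).map φ : Set B) := by
    rw [Set.disjoint_left]
    rintro _ hj ⟨a, ha, rfl⟩
    have : a ∈ Ideal.comap φ J := hj
    rw [hcomap, Ideal.mem_bot] at this
    exact nonZeroDivisors.ne_zero ha this
  obtain ⟨P, hP, hle, hdis⟩ := Ideal.exists_le_prime_disjoint _ _ hd
  have hP' : Ideal.comap φ P = ⊥ := by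
    rw [eq_bot_iff]
    intro a ha
    by_contra ha0
    exact Set.disjoint_left.1 hdis ha ⟨a, mem_nonZeroDivisors_of_ne_zero ha0, rfl⟩
  haveI : (⊥ : Ideal B).IsPrime := Ideal.isPrime_bot
  have h1 := huniq ⟨P, hP⟩ hP'
  have h2 := huniq ⟨⊥, inferInstance⟩ hinj
  refine hJ (eq_bot_iff.2 ?_)
  have : P = (⊥ : Ideal B) := congrArg PrimeSpectrum.asIdeal (h1.trans h2.symm)
  exact this ▸ hle

end Groth.Agent.S9300
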