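import Groth.Statements.S9301
import Mathlib

set_option autoImplicit false
universe u
open CAlg

namespace Groth.Agent.S9301

/-- Let A and B be domains and A → B a flat ring map which is the localization of a quasi-finite ring
map A → B₀ (of finite type with finite fibres). Then every nonzero ideal of B has nonzero preimage
in A. -/
theorem result (A B₀ B : Type u) [CommRing A] [IsDomain A]
    [CommRing B₀] [CommRing B] [IsDomain B] [Algebra A B₀] [Algebra.FiniteType A B₀]
    [Algebra.QuasiFinite A B₀] (S : Submonoid B₀) [Algebra B₀ B] [IsLocalization S B] [Algebra A B]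
    [IsScalarTower A B₀ B] [Module.Flat A B] (J : Ideal B) (hJ : J ≠ ⊥) :
    Ideal.comap (algebraMap A B) J ≠ ⊥ := by
  classical
  obtain ⟨b, hbJ, hb0⟩ := Submodule.exists_mem_ne_zero_of_ne_bot hJ
  obtain ⟨⟨x₀, s⟩, hxs⟩ := IsLocalization.surj S b
  haveI : FaithfulSMul A B := by
    rw [faithfulSMul_iff_algebraMap_injective]
    refine (injective_iff_map_eq_zero _).2 fun a ha => by_contra fun hne => ?_
    have hreg : IsSMulRegular B a := Module.Flat.isSMulRegular_of_nonZeroDivisors (mem_nonZeroDivisors_of_ne_zero hne)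
    exact one_ne_zero (hreg (show a • (1 : B) = a • 0 by rw [smul_zero, Algebra.smul_def, ha, mul_one]))
  let L := FractionRing B
  let K := FractionRing A
  haveI : FaithfulSMul A L := by
    rw [faithfulSMul_iff_algebraMap_injective, IsScalarTower.algebraMap_eq A B L, RingHom.coe_comp]
    exact (IsFractionRing.injective B L).comp (FaithfulSMul.algebraMap_injective A B)
  letI : Algebra K L := FractionRing.liftAlgebra A L
  haveI : Module.Finite K (TensorProduct A K B₀) := .of_quasiFinite
  let φ : B₀ →ₐ[A] L := (IsScalarTower.toAlgHom A B L).comp (IsScalarTower.toAlgHom A B₀ B)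
  let Φ : TensorProduct A K B₀ →ₐ[K] L :=
    Algebra.TensorProduct.lift (Algebra.ofId K L) φ fun _ _ => Commute.all _ _
  have hint : IsIntegral K (Φ (1 ⊗ₜ[A] x₀)) := (IsIntegral.of_finite K _).map Φ
  have hΦ : Φ (1 ⊗ₜ[A] x₀) = algebraMap B L (algebraMap B₀ B x₀) := by simp [Φ, φ]
  rw [hΦ] at hint
  have halgL : IsAlgebraic A (algebraMap B L (algebraMap B₀ B x₀)) :=
    (IsFractionRing.isAlgebraic_iff A K L).2 hint.isAlgebraic
  have halg : IsAlgebraic A (algebraMap B₀ B x₀) :=
    (isAlgebraic_algebraMap_iff (IsFractionRing.injective B L)).1 halgL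
  refine Ideal.comap_ne_bot_of_algebraic_mem ?_ ?_ halg
  · rw [← hxs]
    exact mul_ne_zero hb0 (IsLocalization.map_units B s).ne_zero
  · rw [← hxs]
    exact J.mul_mem_right _ hbJ

end Groth.Agent.S9301
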