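import Groth.Statements.S9302
import Mathlib.Tactic
import Mathlib.Algebra.Category.Ring.Limits
-- import your own Groth.Agent.* helpers here

set_option autoImplicit false
universe u
open CategoryTheory
open EtAlg

namespace Groth.Agent.S9302

open Polynomial in
lemma unique_root {R : Type*} [CommRing R] {I : Ideal R} (hjac : I ≤ Ideal.jacobson ⊥) (f : R[X])
    {a b : R} (ha : f.IsRoot a) (hb : f.IsRoot b) (hab : b - a ∈ I)
    (hd : IsUnit (Ideal.Quotient.mk I (f.derivative.eval a))) : a = b := by
  obtain ⟨k, hk⟩ := Polynomial.binomExpansion f a (b - a)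
  rw [add_sub_cancel, ha.eq_zero, hb.eq_zero, zero_add] at hk
  obtain ⟨w, hw⟩ := hd.exists_right_inv
  obtain ⟨w, rfl⟩ := Ideal.Quotient.mk_surjective w
  have h1 : (f.derivative.eval a + k * (b - a)) * w - 1 ∈ I := by
    rw [← Ideal.Quotient.mk_eq_mk_iff_sub_mem]
    simp only [map_mul, map_add, map_one, Ideal.Quotient.eq_zero_iff_mem.mpr hab, mul_zero, add_zero]
    exact hw
  have h2 : IsUnit ((f.derivative.eval a + k * (b - a)) * w) :=
    Ideal.isUnit_of_sub_one_mem_jacobson_bot _ (hjac h1)
  have h3 := isUnit_of_mul_isUnit_left h2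
  have h4 : (f.derivative.eval a + k * (b - a)) * (b - a) = 0 := by linear_combination -hk
  exact (sub_eq_zero.mp (h3.mul_right_eq_zero.mp h4)).symm

/-- Henselian pairs are preserved under limits: for an inverse system (A_j, I_j) of henselian pairs over
a preordered set J, the limit A = lim A_j with the ideal I = lim I_j (elements all of whose
projections lie in the I_j) is a henselian pair. -/
theorem result (J : Type u) [Preorder J] (F : J ⥤ CommRingCat.{u})
    (I : ∀ j : J, Ideal (F.obj j))
    (hI : ∀ (i j : J) (φ : i ⟶ j), Ideal.map (F.map φ).hom (I i) ≤ I j)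
    (h : ∀ j : J, HenselianRing (F.obj j) (I j)) :
    HenselianRing ((Limits.limit F : CommRingCat.{u}) : Type u)
      (⨅ j : J, Ideal.comap (Limits.limit.π F j).hom (I j)) := by
  set A := (Limits.limit F : CommRingCat.{u}) with hA
  let π : ∀ j, A →+* F.obj j := fun j => (Limits.limit.π F j).hom
  have hπ : ∀ (i j : J) (φ : i ⟶ j) (x : A), (F.map φ).hom (π i x) = π j x := by
    intro i j φ x
    show (Limits.limit.π F i ≫ F.map φ).hom x = _
    rw [Limits.limit.w]
  have hext : ∀ x y : A, (∀ j, π j x = π j y) → x = y := fun x y hxy =>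
    Limits.Concrete.limit_ext F x y hxy
  have hlift : ∀ a : ∀ j, F.obj j, (∀ (i j : J) (φ : i ⟶ j), (F.map φ).hom (a i) = a j) →
      ∃ x : A, ∀ j, π j x = a j := by
    intro a ha
    let e := Limits.Types.isLimitEquivSections
      (Limits.isLimitOfPreserves (CategoryTheory.forget CommRingCat.{u}) (Limits.limit.isLimit F))
    refine ⟨e.symm ⟨a, fun {i j} φ => ha i j φ⟩, fun j => ?_⟩
    exact Limits.Types.isLimitEquivSections_symm_apply
      (Limits.isLimitOfPreserves (CategoryTheory.forget CommRingCat.{u}) (Limits.limit.isLimit F))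
      ⟨a, fun {i j} φ => ha i j φ⟩ j
  have hunit : ∀ x : A, (∀ j, IsUnit (π j x)) → IsUnit x := by
    intro x hx
    choose b hb using fun j => (hx j).exists_right_inv
    obtain ⟨y, hy⟩ := hlift b (fun i j φ => by
      have h1 : (F.map φ).hom (π i x) * (F.map φ).hom (b i) = 1 := by rw [← map_mul, hb, map_one]
      rw [hπ] at h1
      exact (hx j).mul_left_cancel (h1.trans (hb j).symm))
    exact IsUnit.of_mul_eq_one y (hext _ _ (fun j => by rw [map_mul, hy, hb, map_one]))
  refine ⟨?_, ?_⟩
  · intro x hx
    rw [Ideal.mem_jacobson_bot]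
    intro y
    apply hunit
    intro j
    rw [map_add, map_mul, map_one]
    exact Ideal.mem_jacobson_bot.mp ((h j).jac (Ideal.mem_iInf.mp hx j)) _
  · intro f hf a₀ ha₀ hd
    have hroot : ∀ j, ∃ a : F.obj j, (f.map (π j)).IsRoot a ∧ a - π j a₀ ∈ I j := by
      intro j
      refine (h j).is_henselian _ (hf.map _) _ ?_ ?_
      · rw [Polynomial.eval_map_apply]
        exact Ideal.mem_iInf.mp ha₀ j
      · obtain ⟨w, hw⟩ := hd.exists_right_inv
        obtain ⟨w, rfl⟩ := Ideal.Quotient.mk_surjective w
        rw [← map_mul, ← map_one (Ideal.Quotient.mk _), Ideal.Quotient.mk_eq_mk_iff_sub_mem] at hw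
        have h1 := Ideal.mem_iInf.mp hw j
        rw [Ideal.mem_comap, map_sub, map_mul, map_one] at h1
        refine IsUnit.of_mul_eq_one (Ideal.Quotient.mk _ (π j w)) ?_
        rw [Polynomial.derivative_map, Polynomial.eval_map_apply, ← map_mul,
          ← map_one (Ideal.Quotient.mk _), Ideal.Quotient.mk_eq_mk_iff_sub_mem]
        exact h1
    choose a ha ha' using hroot
    have hda : ∀ j, IsUnit (Ideal.Quotient.mk (I j) ((f.map (π j)).derivative.eval (a j))) := by
      intro j
      obtain ⟨w, hw⟩ := hd.exists_right_inv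
      obtain ⟨w, rfl⟩ := Ideal.Quotient.mk_surjective w
      rw [← map_mul, ← map_one (Ideal.Quotient.mk _), Ideal.Quotient.mk_eq_mk_iff_sub_mem] at hw
      have h1 := Ideal.mem_iInf.mp hw j
      rw [Ideal.mem_comap, map_sub, map_mul, map_one] at h1
      refine IsUnit.of_mul_eq_one (Ideal.Quotient.mk _ (π j w)) ?_
      have e : Ideal.Quotient.mk (I j) (a j) = Ideal.Quotient.mk (I j) (π j a₀) :=
        Ideal.Quotient.mk_eq_mk_iff_sub_mem _ _ |>.mpr (ha' j)
      rw [← Polynomial.eval_map_apply, e, Polynomial.eval_map_apply, ← map_mul,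
          ← map_one (Ideal.Quotient.mk _), Ideal.Quotient.mk_eq_mk_iff_sub_mem,
          Polynomial.derivative_map, Polynomial.eval_map_apply]
      exact h1
    obtain ⟨x, hx⟩ := hlift a (fun i j φ => by
      symm
      have e : f.map (π j) = (f.map (π i)).map (F.map φ).hom := by
        rw [Polynomial.map_map]
        congr 1
        ext z
        exact (hπ i j φ z).symm
      refine unique_root (h j).jac (f.map (π j)) (ha j) ?_ ?_ (hda j)
      · rw [e]
        exact (ha i).map
      · have h1 : (F.map φ).hom (a i - π i a₀) ∈ I j :=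
          hI i j φ (Ideal.mem_map_of_mem _ (ha' i))
        rw [map_sub, hπ] at h1
        have := Ideal.sub_mem _ h1 (ha' j)
        simpa using this)
    refine ⟨x, hext _ _ fun j => ?_, Ideal.mem_iInf.mpr fun j => ?_⟩
    · rw [map_zero, ← Polynomial.eval_map_apply, hx]
      exact ha j
    · rw [Ideal.mem_comap, map_sub]
      show π j x - π j a₀ ∈ I j
      rw [hx]
      exact ha' j

end Groth.Agent.S9302
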