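import Groth.Statements.S9308
import Groth.Agent.FlatAscent.LimitRegular
import Groth.Agent.FlatAscent.TensorColimit
import Groth.Agent.FlatAscent.Smooth
-- import your own Groth.Agent.* helpers here

set_option autoImplicit false
universe u
open CAlg

namespace Groth.Agent.S9308

/-- Let R be a ring and (A_i, φ_ii') a directed system of smooth R-algebras with colimit Λ (the index
type is taken in the universe of the rings). Suppose that for every prime p of R the ring Λ ⊗_R κ(p)
is Noetherian. Then R → Λ is a regular ring map. -/
theorem result (R : Type u) [CommRing R] {ι : Type u} [Preorder ι]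
    [IsDirectedOrder ι] [Nonempty ι] (G : ι → Type u) [∀ i, CommRing (G i)] [∀ i, Algebra R (G i)]
    (f : ∀ i j : ι, i ≤ j → (G i →ₐ[R] G j)) [DirectedSystem G (fun i j h => f i j h)]
    (hs : ∀ i, Algebra.Smooth R (G i))
    (hN : ∀ (p : Ideal R) [p.IsPrime], IsNoetherianRing (p.Fiber (DirectLimit G f))) :
    CAlg.IsRegularHom R (DirectLimit G f) := by
  classical
  let g : ∀ i, G i →ₐ[R] DirectLimit G f := DirectLimit.Algebra.of G f
  have hg : ∀ i j (h : i ≤ j) x, g j (f i j h x) = g i x := fun i j h x => DirectLimit.Algebra.of_f h x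
  have hsurj : ∀ a : DirectLimit G f, ∃ i x, g i x = a := fun a => by
    induction a using DirectLimit.induction with | _ i x => exact ⟨i, x, rfl⟩
  have hker : ∀ i x, g i x = 0 → ∃ j, ∃ h : i ≤ j, f i j h x = 0 := fun i x hx =>
    (DirectLimit.exists_eq_zero (f := f) ⟨i, x⟩).mp hx
  have : Module.Flat R (DirectLimit G f) := Groth.Agent.FlatAscent.flat_of_colimit
    (fun i j h => (f i j h).toLinearMap) (fun i => (g i).toLinearMap) hg hsurj hker
    fun i => Algebra.Smooth.flat R (G i)
  refine ⟨this, fun p _ => ⟨hN p, fun k' _ _ hk' => ?_⟩⟩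
  have := hN p
  let : Algebra R k' := ((algebraMap p.ResidueField k').comp (algebraMap R p.ResidueField)).toAlgebra
  have : IsScalarTower R p.ResidueField k' := .of_algebraMap_eq fun _ => rfl
  let e := (Algebra.TensorProduct.cancelBaseChange R p.ResidueField k' k' (DirectLimit G f)).toRingEquiv
  have : IsNoetherianRing (TensorProduct R k' (DirectLimit G f)) := by
    have h1 : IsNoetherianRing (TensorProduct p.ResidueField k' (p.Fiber (DirectLimit G f))) :=
      Groth.Agent.FlatAscent.isNoetherianRing_fibre_tensor
    exact isNoetherianRing_of_ringEquiv _ e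
  refine Groth.Agent.FlatAscent.isRegularRing_transport e.symm ?_
  have : DirectedSystem G fun i j h => (f i j h).toLinearMap :=
    inferInstanceAs (DirectedSystem G fun i j h => f i j h)
  refine Groth.Agent.FlatAscent.isRegularRing_of_colimit
    (G := fun i => TensorProduct R k' (G i))
    (fun i j h => (Algebra.TensorProduct.map (AlgHom.id R k') (f i j h)).toRingHom)
    (fun i => (Algebra.TensorProduct.map (AlgHom.id R k') (g i)).toRingHom)
    (fun i j h x => ?_) (fun a => Groth.Agent.FlatAscent.exists_tensor_lift
      (fun i j h => (f i j h).toLinearMap) (fun i => (g i).toLinearMap) hg hsurj k' a)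
    (fun i x hx => Groth.Agent.FlatAscent.exists_tensor_eq_zero
      (fun i j h => (f i j h).toLinearMap) (fun i => (g i).toLinearMap) hg hsurj hker k' i x hx)
    fun i => ?_
  · change ((Algebra.TensorProduct.map (AlgHom.id R k') (g j)).comp
      (Algebra.TensorProduct.map (AlgHom.id R k') (f i j h))) x = _
    rw [← Algebra.TensorProduct.map_comp, AlgHom.id_comp,
      show (g j).comp (f i j h) = g i from AlgHom.ext (hg i j h)]
    rfl
  · have := hs i
    have h1 := Groth.Agent.FlatAscent.isGeometricallyRegular_of_smooth
      (k := k') (S := TensorProduct R k' (G i))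
    exact Groth.Agent.FlatAscent.isRegularRing_transport
      (Algebra.TensorProduct.lid k' (TensorProduct R k' (G i))).toRingEquiv
      (h1 k' inferInstance)

end Groth.Agent.S9308
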