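import Groth.Statements.S9310
import Groth.Agent.CohenStruct.PowerSeries
-- import your own Groth.Agent.* helpers here

set_option autoImplicit false
universe u
open CAlg

namespace Groth.Agent.S9310

/-- Let K be a field, A = K[[x_1, ..., x_n]], and y_1, ..., y_n ∈ A a regular system of parameters (n
elements generating the maximal ideal). Then the substitution map K[[y_1, ..., y_n]] → A is an
isomorphism: f ↦ f(y_1, ..., y_n) is a bijection of K[[x_1, ..., x_n]] onto itself. -/
theorem result (K : Type u) [Field K] (n : ℕ)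
    (y : Fin n → MvPowerSeries (Fin n) K)
    (hy : Ideal.span (Set.range y) = IsLocalRing.maximalIdeal (MvPowerSeries (Fin n) K)) :
    Function.Bijective (MvPowerSeries.subst y : MvPowerSeries (Fin n) K → MvPowerSeries (Fin n) K) := by
  have hy0 : ∀ i, MvPowerSeries.constantCoeff (y i) = 0 := fun i => by
    have h : y i ∈ IsLocalRing.maximalIdeal (MvPowerSeries (Fin n) K) := hy ▸ Ideal.subset_span ⟨i, rfl⟩
    rw [IsLocalRing.mem_maximalIdeal, mem_nonunits_iff, MvPowerSeries.isUnit_iff_constantCoeff] at h
    exact by_contra fun h0 => h (isUnit_iff_ne_zero.2 h0)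
  have ha := MvPowerSeries.hasSubst_of_constantCoeff_zero hy0
  let f : MvPowerSeries (Fin n) K →+* MvPowerSeries (Fin n) K := (MvPowerSeries.substAlgHom ha).toRingHom
  have hf : (MvPowerSeries.subst y : MvPowerSeries (Fin n) K → MvPowerSeries (Fin n) K) = f :=
    (MvPowerSeries.coe_substAlgHom (R := K) ha).symm
  have hmap : (Ideal.span (Set.range MvPowerSeries.X) : Ideal (MvPowerSeries (Fin n) K)).map f =
      IsLocalRing.maximalIdeal (MvPowerSeries (Fin n) K) := by
    rw [Ideal.map_span, ← Set.range_comp,
      show (f : _ → _) ∘ MvPowerSeries.X = y from funext fun i => MvPowerSeries.substAlgHom_X ha i, hy]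
  have hsurj : Function.Surjective f := by
    have : IsHausdorff ((Ideal.span (Set.range MvPowerSeries.X) :
        Ideal (MvPowerSeries (Fin n) K)).map f) (MvPowerSeries (Fin n) K) := by rw [hmap]; infer_instance
    refine surjective_of_mk_map_comp_surjective f (I := Ideal.span (Set.range MvPowerSeries.X)) fun z => ?_
    obtain ⟨z, rfl⟩ := Ideal.Quotient.mk_surjective z
    refine ⟨MvPowerSeries.C (MvPowerSeries.constantCoeff z), ?_⟩
    rw [RingHom.comp_apply, Ideal.Quotient.mk_eq_mk_iff_sub_mem, hmap, IsLocalRing.mem_maximalIdeal,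
      mem_nonunits_iff, MvPowerSeries.isUnit_iff_constantCoeff, map_sub]
    have hC : f (MvPowerSeries.C (MvPowerSeries.constantCoeff z)) =
        MvPowerSeries.C (MvPowerSeries.constantCoeff z) := (MvPowerSeries.substAlgHom ha).commutes _
    rw [hC, MvPowerSeries.constantCoeff_C, sub_self]
    exact not_isUnit_zero
  rw [hf]
  refine ⟨?_, hsurj⟩
  rw [injective_iff_map_eq_zero]
  intro x hx
  let J : ℕ →o Ideal (MvPowerSeries (Fin n) K) :=
    { toFun := fun k => RingHom.ker (f ^ k)
      monotone' := monotone_nat_of_le_succ fun k z hz => by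
        rw [RingHom.mem_ker] at hz ⊢
        rw [pow_succ', RingHom.coe_mul, Function.comp_apply, hz, map_zero] }
  obtain ⟨k, hk⟩ := monotone_stabilizes_iff_noetherian.2 inferInstance J
  obtain ⟨z, rfl⟩ := (show Function.Surjective (f ^ k) by
    rw [RingHom.coe_pow]; exact hsurj.iterate k) x
  have : z ∈ J (k + 1) := by
    show (f ^ (k + 1)) z = 0
    rw [pow_succ', RingHom.coe_mul, Function.comp_apply, hx]
  rw [← hk (k + 1) (Nat.le_succ k)] at this
  exact this

end Groth.Agent.S9310
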