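import Groth.Statements.S9311
import Groth.Agent.GRing17.AdicSmoothFlat

set_option autoImplicit false
universe u
open CAlg

namespace Groth.Agent.S9311

/-- Let Λ be a Cohen ring (a complete discrete valuation ring whose maximal ideal is generated by a
prime number p), B = Λ[[x_1, ..., x_n]], and y_1, ..., y_n ∈ B with zero constant terms such that p,
y_1, ..., y_n is a regular system of parameters of B (these n + 1 elements generate the maximal
ideal). Then the substitution map Λ[[y_1, ..., y_n]] → B is an isomorphism: f ↦ f(y_1, ..., y_n) is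
a bijection of Λ[[x_1, ..., x_n]] onto itself. (The published statement allows the y_i to have
constant terms in pΛ, the substitution being defined through the (p, x)-adic topology of B; this row
asks the constant terms to vanish, the case in which substitution is defined coefficientwise with no
topology on Λ.) -/
theorem result (Λ : Type u) [CommRing Λ] [IsDomain Λ]
    [IsDiscreteValuationRing Λ] [IsAdicComplete (IsLocalRing.maximalIdeal Λ) Λ] (p : ℕ) (hp : p.Prime)
    (hm : IsLocalRing.maximalIdeal Λ = Ideal.span {(p : Λ)}) (n : ℕ)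
    (y : Fin n → MvPowerSeries (Fin n) Λ) (hy0 : ∀ i, MvPowerSeries.constantCoeff (y i) = 0)
    (hy : Ideal.span (insert (p : MvPowerSeries (Fin n) Λ) (Set.range y)) =
      IsLocalRing.maximalIdeal (MvPowerSeries (Fin n) Λ)) :
    Function.Bijective (MvPowerSeries.subst y : MvPowerSeries (Fin n) Λ → MvPowerSeries (Fin n) Λ) := by
  let B := MvPowerSeries (Fin n) Λ
  have hs : MvPowerSeries.HasSubst y := MvPowerSeries.hasSubst_of_constantCoeff_zero hy0
  let f : B →+* B := (MvPowerSeries.substAlgHom (R := Λ) hs).toRingHom
  have hf : ⇑f = MvPowerSeries.subst y := MvPowerSeries.coe_substAlgHom hs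
  rw [← hf]
  let m := IsLocalRing.maximalIdeal B
  have hC : ∀ c, f (MvPowerSeries.C c) = MvPowerSeries.C c := fun c =>
    (MvPowerSeries.substAlgHom (R := Λ) hs).commutes c
  have hX : ∀ i, f (MvPowerSeries.X i) = y i := fun i => by
    rw [hf, ← MvPolynomial.coe_X, MvPowerSeries.subst_coe, MvPolynomial.aeval_X]
  have hres : Function.Surjective ((Ideal.Quotient.mk m).comp f) := by
    intro z
    obtain ⟨x, rfl⟩ := Ideal.Quotient.mk_surjective z
    refine ⟨MvPowerSeries.C (MvPowerSeries.constantCoeff x), ?_⟩
    rw [RingHom.comp_apply, hC, Ideal.Quotient.eq, ← neg_sub, neg_mem_iff,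
      IsLocalRing.mem_maximalIdeal, mem_nonunits_iff, MvPowerSeries.isUnit_iff_constantCoeff]
    simp
  have hm : m.map f = m := by
    refine le_antisymm (Ideal.map_le_iff_le_comap.mpr ?_) ?_
    · have h1 : RingHom.ker ((Ideal.Quotient.mk m).comp f) = m :=
        let := Ideal.Quotient.field m
        IsLocalRing.eq_maximalIdeal (RingHom.ker_isMaximal_of_surjective _ hres)
      intro x hx
      exact Ideal.mem_comap.mpr ((Ideal.Quotient.eq_zero_iff_mem (I := m)).mp (RingHom.mem_ker.mp (h1.ge hx)))
    · refine hy.ge.trans (Ideal.span_le.mpr (Set.insert_subset ?_ ?_))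
      · rw [SetLike.mem_coe, ← map_natCast f]
        refine Ideal.mem_map_of_mem f ?_
        rw [IsLocalRing.mem_maximalIdeal, mem_nonunits_iff, MvPowerSeries.isUnit_iff_constantCoeff, map_natCast]
        exact fun hu => (IsLocalRing.maximalIdeal.isMaximal Λ).ne_top
          (Ideal.eq_top_of_isUnit_mem _ (hm ▸ Ideal.mem_span_singleton_self _) hu)
      · rintro _ ⟨i, rfl⟩
        rw [SetLike.mem_coe, ← hX]
        refine Ideal.mem_map_of_mem f ?_
        rw [IsLocalRing.mem_maximalIdeal, mem_nonunits_iff, MvPowerSeries.isUnit_iff_constantCoeff]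
        simp
  have : IsAdicComplete m B := CTensorRed.isAdicComplete_maximalIdeal
  have : IsHausdorff (m.map f) B := by rw [hm]; infer_instance
  have hsurj : Function.Surjective f := by
    refine surjective_of_mk_map_comp_surjective f (I := m) fun z => ?_
    obtain ⟨x, rfl⟩ := Ideal.Quotient.mk_surjective z
    obtain ⟨w, hw⟩ := hres (Ideal.Quotient.mk m x)
    refine ⟨w, ?_⟩
    rw [RingHom.comp_apply, Ideal.Quotient.eq, hm]
    exact Ideal.Quotient.eq.mp hw
  exact ⟨GRing17.injective_of_surjective_end f hsurj, hsurj⟩

end Groth.Agent.S9311
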