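import Groth.Statements.S9312
import Mathlib
-- import your own Groth.Agent.* helpers here

set_option autoImplicit false
universe u
open CAlg

namespace Groth.Agent.S9312

/-- The generic invariant characteristic polynomial. -/
theorem gen {G : Type u} [Group G] [Fintype G] {R' S' : Type u} [CommRing R'] [CommRing S'] {ι : Type u}
    [Fintype ι] (ρ : G → R' →+* R') (j : S' →+* R')
    (hmul : ∀ σ τ x, ρ σ (ρ τ x) = ρ (σ * τ) x)
    (hfix : ∀ x, (∀ σ, ρ σ x = x) → x ∈ Set.range j) (r : ι → R') :
    ∃ Q : Polynomial (MvPolynomial ι S'), Q.Monic ∧ Q.map (MvPolynomial.map j) =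
      ∏ σ : G, (Polynomial.X - Polynomial.C (∑ i, MvPolynomial.C (ρ σ (r i)) * MvPolynomial.X i)) := by
  classical
  let q : Polynomial (MvPolynomial ι R') :=
    ∏ σ : G, (Polynomial.X - Polynomial.C (∑ i, MvPolynomial.C (ρ σ (r i)) * MvPolynomial.X i))
  have hq : q.Monic := Polynomial.monic_prod_of_monic _ _ fun σ _ => Polynomial.monic_X_sub_C _
  have hinv : ∀ τ, q.map (MvPolynomial.map (ρ τ)) = q := fun τ => by
    show Polynomial.map _ (∏ σ : G, _) = ∏ σ : G, _
    rw [Polynomial.map_prod]
    refine Fintype.prod_equiv (Equiv.mulLeft τ) _ _ fun σ => ?_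
    rw [Polynomial.map_sub, Polynomial.map_X, Polynomial.map_C]
    refine congrArg (fun t : MvPolynomial ι R' => Polynomial.X - Polynomial.C t) ?_
    simp only [map_sum, map_mul, MvPolynomial.map_C, MvPolynomial.map_X, hmul, Equiv.coe_mulLeft]
  have hlift : q ∈ Polynomial.lifts (MvPolynomial.map j) := by
    rw [Polynomial.lifts_iff_coeff_lifts]
    intro n
    refine MvPolynomial.mem_range_map_iff_coeffs_subset.2 fun x hx => ?_
    obtain ⟨m, -, rfl⟩ := MvPolynomial.mem_coeffs_iff.1 hx
    refine hfix _ fun σ => ?_
    conv_rhs => rw [← hinv σ, Polynomial.coeff_map, MvPolynomial.coeff_map]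
  rcases subsingleton_or_nontrivial (MvPolynomial ι R') with hR | hR
  · exact ⟨1, Polynomial.monic_one, Subsingleton.elim _ _⟩
  obtain ⟨Q, hQ, -, hQm⟩ := Polynomial.lifts_and_degree_eq_and_monic hlift hq
  exact ⟨Q, hQm, hQ⟩

/-- Let a finite group G with n elements act on a ring R by ring automorphisms, with invariant ring R^G,
and let A be an algebra over R^G; G acts on A ⊗ R through the factor R. (1) For every G-invariant b
∈ A ⊗ R there is a monic polynomial over A whose image in (A ⊗ R)[T] is (T - b)^n. (2) For every a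
in the kernel of A → A ⊗ R, all coefficients of (T - a)^n below degree n vanish, that is (T - a)^n =
T^n in A[T]. -/
theorem result (R G A : Type u) [CommRing R] [Group G] [Fintype G]
    [MulSemiringAction G R] [CommRing A] [Algebra (FixedPoints.subring R G) A] :
    (∀ b : TensorProduct (FixedPoints.subring R G) A R,
      (∀ σ : G, Algebra.TensorProduct.map (AlgHom.id (FixedPoints.subring R G) A)
        (MulSemiringAction.toAlgHom (FixedPoints.subring R G) R σ) b = b) →
      ∃ P : Polynomial A, P.Monic ∧
        Polynomial.map (algebraMap A (TensorProduct (FixedPoints.subring R G) A R)) P =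
          (Polynomial.X - Polynomial.C b) ^ Fintype.card G) ∧
    (∀ a : A, algebraMap A (TensorProduct (FixedPoints.subring R G) A R) a = 0 →
      ∀ i : ℕ, i < Fintype.card G → ((Polynomial.X - Polynomial.C a) ^ Fintype.card G).coeff i = 0) := by
  classical
  constructor
  · intro b hb
    obtain ⟨F, hF⟩ := TensorProduct.exists_finset (R := FixedPoints.subring R G) b
    let ρ : G → R →+* R := fun σ => MulSemiringAction.toRingHom G R σ
    obtain ⟨Q, hQm, hQ⟩ := gen (G := G) ρ (FixedPoints.subring R G).subtype
      (fun σ τ x => (mul_smul σ τ x).symm) (fun x hx => ⟨⟨x, hx⟩, rfl⟩) (fun i : F => (i : A × R).2)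
    let ψ : MvPolynomial F R →+* TensorProduct (FixedPoints.subring R G) A R :=
      MvPolynomial.eval₂Hom Algebra.TensorProduct.includeRight.toRingHom (fun i : F => (i : A × R).1 ⊗ₜ 1)
    refine ⟨Q.map (MvPolynomial.aeval fun i : F => (i : A × R).1).toRingHom, hQm.map _, ?_⟩
    have hcomp : (algebraMap A (TensorProduct (FixedPoints.subring R G) A R)).comp
        (MvPolynomial.aeval fun i : F => (i : A × R).1).toRingHom =
        ψ.comp (MvPolynomial.map (FixedPoints.subring R G).subtype) := by
      refine MvPolynomial.ringHom_ext (fun s => ?_) (fun i => ?_)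
      · simp only [RingHom.comp_apply, AlgHom.toRingHom_eq_coe, RingHom.coe_coe, MvPolynomial.aeval_C,
          MvPolynomial.map_C, ψ, MvPolynomial.eval₂Hom_C]
        show (algebraMap (FixedPoints.subring R G) A s) ⊗ₜ 1 = 1 ⊗ₜ (s : R)
        rw [Algebra.algebraMap_eq_smul_one, TensorProduct.smul_tmul]
        congr 1
        exact mul_one _
      · simp [ψ]
    rw [Polynomial.map_map, hcomp, ← Polynomial.map_map, hQ, Polynomial.map_prod]
    refine (Finset.prod_congr rfl fun σ _ => ?_).trans (Finset.prod_const _)
    rw [Polynomial.map_sub, Polynomial.map_X, Polynomial.map_C]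
    refine congrArg (fun t : TensorProduct (FixedPoints.subring R G) A R => Polynomial.X - Polynomial.C t) ?_
    conv_rhs => rw [← hb σ, hF]
    simp only [map_sum, map_mul, ψ, MvPolynomial.eval₂Hom_C, MvPolynomial.eval₂Hom_X',
      Algebra.TensorProduct.map_tmul]
    rw [← Finset.sum_coe_sort F]
    refine Finset.sum_congr rfl fun i _ => ?_
    show ((1 : A) ⊗ₜ (σ • (i : A × R).2)) * ((i : A × R).1 ⊗ₜ (1 : R)) = _
    rw [Algebra.TensorProduct.tmul_mul_tmul, one_mul, mul_one]
    rfl
  · intro a ha i hi
    let S := FixedPoints.subring R G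
    let j : MvPolynomial A S →+* MvPolynomial A R := MvPolynomial.map S.subtype
    let π : MvPolynomial A S →ₐ[S] A := MvPolynomial.aeval id
    have hπ : Function.Surjective π := fun x => ⟨MvPolynomial.X x, MvPolynomial.aeval_X _ _⟩
    let I : Ideal (MvPolynomial A R) := (RingHom.ker π).map j
    -- the relation witnessing that `a` dies
    obtain ⟨p, rfl⟩ := hπ a
    have hpI : j p ∈ I := by
      let jA : MvPolynomial A S →ₐ[S] MvPolynomial A R ⧸ I :=
        ⟨(Ideal.Quotient.mk I).comp j, fun s => by
          show Ideal.Quotient.mk I (MvPolynomial.map S.subtype (MvPolynomial.C s)) = _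
          rw [MvPolynomial.map_C]
          rfl⟩
      let L : (MvPolynomial A S ⧸ RingHom.ker π) →ₐ[S] MvPolynomial A R ⧸ I :=
        Ideal.Quotient.liftₐ (RingHom.ker π) jA fun x hx =>
          (Ideal.Quotient.eq_zero_iff_mem (I := I)).2 (Ideal.mem_map_of_mem j hx)
      let lA : A →ₐ[S] MvPolynomial A R ⧸ I := L.comp
          (Ideal.quotientKerAlgEquivOfSurjective hπ).symm.toAlgHom
      let Φ : TensorProduct S A R →ₐ[S] MvPolynomial A R ⧸ I :=
        Algebra.TensorProduct.lift lA (IsScalarTower.toAlgHom S R _) fun _ _ => Commute.all _ _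
      have h := congrArg Φ ha
      rw [map_zero, Algebra.TensorProduct.algebraMap_apply] at h
      have hh : lA (π p) * 1 = 0 :=
        (congrArg (lA (π p) * ·) (map_one (IsScalarTower.toAlgHom S R (MvPolynomial A R ⧸ I))).symm).trans
          ((Algebra.TensorProduct.lift_tmul _ _ _ _ _).symm.trans h)
      rw [mul_one] at hh
      have hl : lA (π p) = Ideal.Quotient.mk I (j p) := by
        show L ((Ideal.quotientKerAlgEquivOfSurjective hπ).symm (π p)) = _
        rw [show (Ideal.quotientKerAlgEquivOfSurjective hπ).symm (π p) = Ideal.Quotient.mk _ p from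
          (AlgEquiv.symm_apply_eq _).2 rfl]
        rfl
      rwa [hl, Ideal.Quotient.eq_zero_iff_mem] at hh
    obtain ⟨t, ht, c, hc⟩ := Submodule.mem_span_image_iff_exists_fun (MvPolynomial A R) |>.1 hpI
    let k : t → MvPolynomial A S := fun i => i.1
    have hk : ∀ i : t, π (k i) = 0 := fun i => ht i.2
    let ρ : G → MvPolynomial A R →+* MvPolynomial A R := fun σ => MvPolynomial.map (MulSemiringAction.toRingHom G R σ)
    have hρj : ∀ σ x, ρ σ (j x) = j x := fun σ x => by
      show MvPolynomial.map _ (MvPolynomial.map _ x) = MvPolynomial.map _ x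
      rw [MvPolynomial.map_map]
      congr 1
      exact congrArg _ (RingHom.ext fun s => s.2 σ)
    have hjinj : Function.Injective j := MvPolynomial.map_injective _ Subtype.val_injective
    obtain ⟨Q, hQm, hQ⟩ := gen (G := G) ρ j
      (fun σ τ x => by
        show MvPolynomial.map _ (MvPolynomial.map _ x) = MvPolynomial.map _ x
        rw [MvPolynomial.map_map]
        congr 1
        exact congrArg _ (RingHom.ext fun r => (mul_smul σ τ r).symm))
      (fun x hx => by
        refine MvPolynomial.mem_range_map_iff_coeffs_subset.2 ?_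
        intro r hr
        obtain ⟨n, -, rfl⟩ := MvPolynomial.mem_coeffs_iff.1 hr
        refine ⟨⟨x.coeff n, fun σ => ?_⟩, rfl⟩
        conv_rhs => rw [← hx σ]
        exact (MvPolynomial.coeff_map (MulSemiringAction.toRingHom G R σ) x n).symm) c
    have hev : ∀ z : t → MvPolynomial A S, (Q.map (MvPolynomial.eval z)).map j =
        ∏ σ : G, (Polynomial.X - Polynomial.C (∑ i, ρ σ (c i) * j (z i))) := fun z => by
      have hcomp : j.comp (MvPolynomial.eval z) = (MvPolynomial.eval (j ∘ z)).comp (MvPolynomial.map j) := by
        refine MvPolynomial.ringHom_ext (fun s => ?_) (fun i => ?_)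
        · simp
        · simp
      rw [Polynomial.map_map, hcomp, ← Polynomial.map_map, hQ, Polynomial.map_prod]
      refine Finset.prod_congr rfl fun σ _ => ?_
      simp [Polynomial.map_sum]
    have h0 : Q.map (MvPolynomial.eval (0 : t → MvPolynomial A S)) = Polynomial.X ^ Fintype.card G := by
      refine Polynomial.map_injective j hjinj ?_
      rw [hev]
      simp
    have h1 : Q.map (MvPolynomial.eval k) = (Polynomial.X - Polynomial.C p) ^ Fintype.card G := by
      refine Polynomial.map_injective j hjinj ?_
      rw [hev, Polynomial.map_pow, Polynomial.map_sub, Polynomial.map_X, Polynomial.map_C]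
      refine (Finset.prod_congr rfl fun σ _ => ?_).trans (Finset.prod_const _)
      refine congrArg (fun t : MvPolynomial A R => Polynomial.X - Polynomial.C t) ?_
      rw [← hρj σ p, ← hc, map_sum]
      refine Finset.sum_congr rfl fun i _ => ?_
      rw [smul_eq_mul, map_mul, hρj]
    have h2 : π.toRingHom.comp (MvPolynomial.eval k) = π.toRingHom.comp (MvPolynomial.eval (0 : t → MvPolynomial A S)) := by
      refine MvPolynomial.ringHom_ext (fun s => ?_) (fun i => ?_)
      · simp
      · simp [hk]
    have h3 := congrArg (Polynomial.map π.toRingHom) h1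
    rw [Polynomial.map_map, h2, ← Polynomial.map_map, h0] at h3
    simp only [Polynomial.map_pow, Polynomial.map_sub, Polynomial.map_X, Polynomial.map_C] at h3
    erw [← h3]
    rw [Polynomial.coeff_X_pow, if_neg (Nat.ne_of_lt hi)]

end Groth.Agent.S9312
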