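import Groth.Statements.S9313
import Groth.Agent.ZmtIdem.Basic
-- import your own Groth.Agent.* helpers here

set_option autoImplicit false
universe u
open CAlg

namespace Groth.Agent.S9313

/-- Let A be a ring with an ideal I and A → B a ring map of finite type, and suppose B/IB = C_1 × C_2
(given by an idempotent e of B/IB with C_1 = (B/IB)/(1 - e)) where C_1 is finite over A/I. Writing
B' for the integral closure of A in B, some g ∈ B' has idempotent image in B'/IB' lifting e (so
B'/IB' = C_1' × C_2' compatibly with the decomposition of B/IB), and the map B'_g → B_g is an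
isomorphism (whence C_1' = C_1). -/
theorem result (A B : Type u) [CommRing A] [CommRing B]
    [Algebra A B] [Algebra.FiniteType A B] (I : Ideal A) (e : B ⧸ Ideal.map (algebraMap A B) I)
    (he : IsIdempotentElem e)
    (hfin : Module.Finite (A ⧸ I) ((B ⧸ Ideal.map (algebraMap A B) I) ⧸ Ideal.span {1 - e})) :
    ∃ g : integralClosure A B,
      IsIdempotentElem (Ideal.Quotient.mk (Ideal.map (algebraMap A (integralClosure A B)) I) g) ∧
      Ideal.Quotient.mk (Ideal.map (algebraMap A B) I) (g : B) = e ∧
      Function.Bijective (algebraMap (Localization.Away g)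
        (Localization (Algebra.algebraMapSubmonoid B (Submonoid.powers g)))) := by
  obtain ⟨g, hg1, hg2, hg3⟩ := Groth.Agent.ZmtIdem.exists_lift I e he (hfin := hfin)
  refine ⟨g, hg1, hg2, ?_⟩
  let M := Submonoid.powers g
  let N := Algebra.algebraMapSubmonoid B M
  haveI : IsScalarTower (integralClosure A B) (Localization.Away g) (Localization N) :=
    IsScalarTower.of_algebraMap_eq fun x => by
      rw [IsScalarTower.algebraMap_apply (integralClosure A B) B (Localization N)]
      exact (IsLocalization.map_eq (M := M) (S := Localization M) (T := Algebra.algebraMapSubmonoid B M)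
        (show M ≤ (Algebra.algebraMapSubmonoid B M).comap (algebraMap (integralClosure A B) B) from M.le_comap_map) x).symm
  constructor
  · refine (injective_iff_map_eq_zero _).mpr fun z hz => ?_
    obtain ⟨x, ⟨s, hs⟩, rfl⟩ := IsLocalization.exists_mk'_eq M z
    have h1 := congrArg (fun w => w * algebraMap B (Localization N) (s : B)) hz
    rw [zero_mul, show algebraMap B (Localization N) (s : B) =
      algebraMap (Localization.Away g) (Localization N) (algebraMap _ (Localization.Away g) s) by
      rw [← IsScalarTower.algebraMap_apply, IsScalarTower.algebraMap_apply _ B (Localization N)]; rfl] at h1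
    rw [← map_mul, IsLocalization.mk'_spec_mk, ← IsScalarTower.algebraMap_apply,
      IsScalarTower.algebraMap_apply _ B (Localization N), IsLocalization.map_eq_zero_iff N] at h1
    obtain ⟨⟨_, t, ht, rfl⟩, htx⟩ := h1
    rw [IsLocalization.mk'_eq_zero_iff]
    exact ⟨⟨t, ht⟩, Subtype.ext htx⟩
  · intro w
    obtain ⟨b, ⟨_, t, ⟨k, hk⟩, rfl⟩, rfl⟩ := IsLocalization.exists_mk'_eq N w
    obtain ⟨m, hm⟩ := hg3 b
    refine ⟨IsLocalization.mk' _ (⟨(g : B) ^ m * b, (mem_integralClosure_iff A B).mpr hm⟩ : integralClosure A B) (⟨g ^ m * t, ⟨m + k, by
      change g ^ (m + k) = g ^ m * t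
      rw [pow_add]; exact congrArg _ hk⟩⟩ : M), ?_⟩
    rw [IsLocalization.eq_mk'_iff_mul_eq]
    have h2 : algebraMap B (Localization N) (algebraMap (integralClosure A B) B t) =
        algebraMap (Localization.Away g) (Localization N) (algebraMap _ (Localization.Away g) t) := by
      rw [← IsScalarTower.algebraMap_apply, ← IsScalarTower.algebraMap_apply]
    have hu : IsUnit (algebraMap B (Localization N) ((g : B) ^ m)) :=
      IsLocalization.map_units (Localization N) (⟨(g : B) ^ m, g ^ m, ⟨m, rfl⟩, by push_cast; rfl⟩ : N)
    apply hu.mul_right_cancel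
    rw [mul_assoc, ← map_mul, ← map_mul]
    have h3 : algebraMap B (Localization N) (algebraMap (integralClosure A B) B t * (g : B) ^ m) =
        algebraMap (Localization.Away g) (Localization N) (algebraMap _ (Localization.Away g) (g ^ m * t)) := by
      rw [← IsScalarTower.algebraMap_apply, IsScalarTower.algebraMap_apply _ B (Localization N)]
      refine congrArg (algebraMap B (Localization N)) ?_
      rw [map_mul, map_pow, mul_comm]
      rfl
    rw [h3, ← map_mul, IsLocalization.mk'_spec_mk, ← IsScalarTower.algebraMap_apply,
      IsScalarTower.algebraMap_apply _ B (Localization N)]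
    refine congrArg (algebraMap B (Localization N)) ?_
    exact mul_comm _ _

end Groth.Agent.S9313
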