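import Groth.Statements.S9315
import Groth.Agent.PP16Lib.AdicLift

set_option autoImplicit false
universe u
open CAlg

namespace Groth.Agent.S9315

open IsLocalRing in
/-- Let `R → S` be a local homomorphism of local rings (no Noetherian hypothesis). Then `R → S` is
formally smooth for the adic topology of the maximal ideal of `S` if and only if the following
lifting property holds: for every local ring `A` with a local structure map `R → A`, every ideal `J`
of `A` of square zero such that some power of the maximal ideal of `A` is zero, and every local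
`R`-algebra homomorphism `ψ : S → A/J` inducing a bijection on residue fields, there is an
`R`-algebra homomorphism `S → A` lifting `ψ`. -/
theorem result {R S : Type u} [CommRing R] [CommRing S]
    [IsLocalRing R] [IsLocalRing S] [Algebra R S] [IsLocalHom (algebraMap R S)] :
    CAlgX.IsAdicFormallySmooth R S (maximalIdeal S) ↔
      ∀ (A : Type u) [CommRing A] [IsLocalRing A] [Algebra R A] [IsLocalHom (algebraMap R A)]
        (J : Ideal A), J ^ 2 = ⊥ → (∃ n : ℕ, maximalIdeal A ^ n = ⊥) →
        ∀ [IsLocalRing (A ⧸ J)] (ψ : S →ₐ[R] A ⧸ J) [IsLocalHom ψ.toRingHom],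
          Function.Bijective (ResidueField.map ψ.toRingHom) →
          ∃ χ : S →ₐ[R] A, (Ideal.Quotient.mkₐ R J).comp χ = ψ := by
  constructor
  · intro h A _ _ _ _ J hJ ⟨n, hn⟩ _ ψ hψl _
    refine h A J hJ ψ ⟨n, fun x hx => ?_⟩
    have h1 : ψ.toRingHom x ∈ maximalIdeal (A ⧸ J) ^ n :=
      Ideal.pow_right_mono ((Ideal.map_le_iff_le_comap (f := ψ.toRingHom) (I := maximalIdeal S) (K := maximalIdeal (A ⧸ J))).mpr fun a ha => map_nonunit ψ.toRingHom a ha) n
        (Ideal.map_pow ψ.toRingHom _ n ▸ Ideal.mem_map_of_mem _ hx)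
    rw [← map_maximalIdeal_of_surjective (Ideal.Quotient.mk J) Ideal.Quotient.mk_surjective, ← Ideal.map_pow, hn,
      Ideal.map_bot] at h1
    exact (Submodule.mem_bot _).mp h1
  intro h E _ _ J hJ ψ hψ
  obtain ⟨k, hk⟩ := hψ
  rcases subsingleton_or_nontrivial (E ⧸ J) with hs | hs
  · have hE : Subsingleton E := by
      have h1 : J = ⊤ := Ideal.Quotient.subsingleton_iff.mp hs
      have h2 : (⊤ : Ideal E) = ⊥ := by rw [← hJ, h1, Ideal.top_pow]
      exact Submodule.subsingleton_iff _ |>.mp (subsingleton_of_bot_eq_top h2.symm)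
    exact ⟨{ toFun := fun _ => 0
             map_one' := Subsingleton.elim _ _
             map_mul' := fun _ _ => Subsingleton.elim _ _
             map_zero' := rfl
             map_add' := fun _ _ => Subsingleton.elim _ _
             commutes' := fun _ => Subsingleton.elim _ _ }, AlgHom.ext fun _ => Subsingleton.elim _ _⟩
  let E' : Subalgebra R E := ψ.range.comap (Ideal.Quotient.mkₐ R J)
  let J' : Ideal E' := J.comap E'.val.toRingHom
  have hJ' : J' ^ 2 = ⊥ := by
    rw [pow_two, eq_bot_iff]
    refine Ideal.mul_le.mpr fun x hx y hy => (Submodule.mem_bot E').mpr (Subtype.ext ?_)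
    have h1 : (x : E) * y ∈ J ^ 2 := by rw [pow_two]; exact Ideal.mul_mem_mul hx hy
    rw [hJ] at h1
    exact (Submodule.mem_bot E).mp h1
  let g : E' →+* ψ.range := ((Ideal.Quotient.mkₐ R J).comp E'.val).toRingHom.codRestrict ψ.range fun x => x.2
  have hgs : Function.Surjective g := fun ⟨y, hy⟩ => by
    obtain ⟨e, rfl⟩ := Ideal.Quotient.mk_surjective y
    exact ⟨⟨e, hy⟩, Subtype.ext rfl⟩
  have hgk : RingHom.ker g = J' := Ideal.ext fun x => by
    rw [RingHom.mem_ker, Subtype.ext_iff]
    exact Ideal.Quotient.eq_zero_iff_mem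
  have : Nontrivial ψ.range := inferInstance
  have hr : Function.Surjective ψ.rangeRestrict := ψ.rangeRestrict_surjective
  have hrl : IsLocalRing ψ.range := IsLocalRing.of_surjective' ψ.rangeRestrict.toRingHom hr
  have hnilJ : ∀ x ∈ J', IsNilpotent x := fun x hx => ⟨2, (Submodule.mem_bot E').mp (hJ' ▸ Ideal.pow_mem_pow hx 2)⟩
  have : IsLocalHom g := ⟨fun x hx => by
    obtain ⟨y, hy⟩ := hgs (hx.unit⁻¹ : ψ.rangeˣ)
    have h2 : x * y - 1 ∈ J' := hgk ▸ RingHom.mem_ker.mpr (by
      rw [map_sub, map_mul, hy, IsUnit.mul_val_inv, map_one, sub_self])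
    have h3 : IsUnit (x * y) := by simpa using (hnilJ _ h2).isUnit_add_one
    exact isUnit_of_mul_isUnit_left h3⟩
  have hl' : IsLocalRing E' := (g.domain_isLocalRing)
  let e : (E' ⧸ J') ≃+* ψ.range :=
    (Ideal.quotEquivOfEq hgk.symm).trans (RingHom.quotientKerEquivOfSurjective hgs)
  have he : ∀ x, e (Ideal.Quotient.mk J' x) = g x := fun x => rfl
  have hlq : IsLocalRing (E' ⧸ J') := e.symm.isLocalRing
  have hrloc : IsLocalHom ψ.rangeRestrict.toRingHom := .of_surjective _ hr
  have hRE : IsLocalHom (algebraMap R E') := ⟨fun x hx => by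
    have h1 : g (algebraMap R E' x) = ψ.rangeRestrict.toRingHom (algebraMap R S x) :=
      Subtype.ext (ψ.commutes x).symm
    exact isUnit_of_map_unit (algebraMap R S) x (isUnit_of_map_unit ψ.rangeRestrict.toRingHom _ (h1 ▸ hx.map g))⟩
  have hm : ∃ n : ℕ, maximalIdeal E' ^ n = ⊥ := by
    refine ⟨k * 2, ?_⟩
    have h1 : (maximalIdeal E').map g ≤ (maximalIdeal S).map ψ.rangeRestrict.toRingHom := by
      rw [map_maximalIdeal_of_surjective _ hgs, map_maximalIdeal_of_surjective _ hr]
    have h2 : maximalIdeal E' ^ k ≤ J' := by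
      rw [← hgk, ← Ideal.map_eq_bot_iff_le_ker, Ideal.map_pow, eq_bot_iff]
      refine (Ideal.pow_right_mono h1 k).trans ?_
      rw [← Ideal.map_pow, Ideal.map_le_iff_le_comap]
      intro x hx
      rw [Ideal.mem_comap, Ideal.mem_bot]
      exact Subtype.ext (hk x hx)
    rw [pow_mul, eq_bot_iff, ← hJ']
    exact Ideal.pow_right_mono h2 2
  let ψ' : S →ₐ[R] E' ⧸ J' :=
    { e.symm.toRingHom.comp ψ.rangeRestrict.toRingHom with
      commutes' := fun r => e.injective (by
        show e (e.symm (ψ.rangeRestrict (algebraMap R S r))) = e (Ideal.Quotient.mk J' (algebraMap R E' r))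
        rw [e.apply_symm_apply, he]
        exact Subtype.ext (ψ.commutes r)) }
  have hψ' : Function.Surjective ψ'.toRingHom := e.symm.surjective.comp hr
  have : IsLocalHom ψ'.toRingHom := .of_surjective _ hψ'
  have hbij : Function.Bijective (ResidueField.map ψ'.toRingHom) := by
    refine ⟨RingHom.injective _, fun y => ?_⟩
    obtain ⟨y, rfl⟩ := residue_surjective y
    obtain ⟨x, rfl⟩ := hψ' y
    exact ⟨residue S x, rfl⟩
  obtain ⟨χ, hχ⟩ := h E' J' hJ' hm ψ' hbij
  refine ⟨E'.val.comp χ, AlgHom.ext fun s => ?_⟩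
  have h1 : e (Ideal.Quotient.mk J' (χ s)) = ψ.rangeRestrict s :=
    (congrArg e (AlgHom.congr_fun hχ s)).trans (e.apply_symm_apply _)
  rw [he] at h1
  exact congrArg Subtype.val h1

end Groth.Agent.S9315
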