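import Groth.Statements.S9319
import Groth.Agent.EGA41Lib.Separable
import Groth.Agent.PurelyInsepRed.Basic
-- import your own Groth.Agent.* helpers here

set_option autoImplicit false
universe u
open CAlg

namespace Groth.Agent.S9319


section
open TensorProduct KaehlerDifferential Algebra MvPolynomial
variable {F K L M : Type u} [CommRing F] [CommRing K] [CommRing L] [CommRing M]
  [Algebra F K] [Algebra K L] [Algebra L M] [Algebra K M] [IsScalarTower K L M]
  [Algebra F L] [IsScalarTower F K L] [Algebra F M] [IsScalarTower F K M]

theorem deltaAux_natural (x : (Generators.self K L).Ring) :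
    Generators.H1Cotangent.δAux F (Generators.self K M)
      ((Generators.defaultHom (Generators.self K L) (Generators.self K M)).toAlgHom x) =
    LinearMap.rTensor (Ω[K⁄F]) (IsScalarTower.toAlgHom K L M).toLinearMap
      (Generators.H1Cotangent.δAux F (Generators.self K L) x) := by
  induction x using MvPolynomial.induction_on with
  | C r => simp [Generators.H1Cotangent.δAux_C, MvPolynomial.algebraMap_eq]
  | add p q hp hq => simp [map_add, hp, hq]
  | mul_X p n ih =>
    simp only [map_mul, Generators.Hom.toAlgHom_X, Generators.H1Cotangent.δAux_mul,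
      Generators.H1Cotangent.δAux_X, smul_zero, zero_add, map_add, map_zero]
    have h1 : (Generators.defaultHom (Generators.self K L) (Generators.self K M)).val n =
        (X (algebraMap L M n) : MvPolynomial M K) := rfl
    rw [h1, Generators.H1Cotangent.δAux_X, smul_zero, zero_add, ih]
    have e1 : ∀ (q : (Generators.self K M).Ring) (z : M ⊗[K] Ω[K⁄F]),
        q • z = algebraMap (Generators.self K M).Ring M q • z :=
      fun q z => (IsScalarTower.algebraMap_smul M q z).symm
    have e2 : ∀ (q : (Generators.self K L).Ring) (z : L ⊗[K] Ω[K⁄F]),
        q • z = algebraMap (Generators.self K L).Ring L q • z :=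
      fun q z => (IsScalarTower.algebraMap_smul L q z).symm
    rw [e1, e2]
    simp only [Generators.algebraMap_apply, aeval_X, Generators.self_val, id_eq]
    generalize Generators.H1Cotangent.δAux F (Generators.self K L) p = y
    induction y using TensorProduct.induction_on with
    | zero => simp
    | add a b ha hb => simp only [smul_add, map_add, ha, hb]
    | tmul a b => simp [smul_tmul', Algebra.smul_def]

theorem delta_natural (x : Algebra.H1Cotangent K L) :
    Algebra.H1Cotangent.δ F K M (Algebra.H1Cotangent.map K K L M x) =
      LinearMap.rTensor (Ω[K⁄F]) (IsScalarTower.toAlgHom K L M).toLinearMap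
        (Algebra.H1Cotangent.δ F K L x) := by
  obtain ⟨x, hx⟩ := x
  obtain ⟨y, rfl⟩ := Extension.Cotangent.mk_surjective x
  unfold Algebra.H1Cotangent.δ
  rw [Generators.H1Cotangent.δ_eq_δAux, ← deltaAux_natural]
  exact Generators.H1Cotangent.δ_eq_δAux _ _ _ _

end

theorem injective_of_delta {F K L M : Type u} [CommRing F] [Field K] [Field L] [Field M]
    [Algebra F K] [Algebra K L] [Algebra L M] [Algebra K M] [IsScalarTower K L M]
    [Algebra F L] [IsScalarTower F K L] [Algebra F M] [IsScalarTower F K M]
    (h : Function.Injective (Algebra.H1Cotangent.δ F K L)) :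
    Function.Injective ((Algebra.H1Cotangent.map K K L M).liftBaseChange M) := by
  have hc : (TensorProduct.AlgebraTensorModule.cancelBaseChange K L M M (Ω[K⁄F])).toLinearMap ∘ₗ
      (Algebra.H1Cotangent.δ F K L).baseChange M =
      Algebra.H1Cotangent.δ F K M ∘ₗ (Algebra.H1Cotangent.map K K L M).liftBaseChange M := by
    refine TensorProduct.AlgebraTensorModule.curry_injective (LinearMap.ext_ring (LinearMap.ext fun x => ?_))
    simp only [TensorProduct.AlgebraTensorModule.curry_apply, LinearMap.restrictScalars_self,
      TensorProduct.curry_apply, LinearMap.coe_restrictScalars, LinearMap.comp_apply,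
      LinearMap.baseChange_tmul, LinearMap.liftBaseChange_tmul, one_smul, LinearEquiv.coe_coe]
    rw [delta_natural]
    generalize Algebra.H1Cotangent.δ F K L x = y
    induction y using TensorProduct.induction_on with
    | zero => simp
    | add a b ha hb => simp [map_add, TensorProduct.tmul_add, ha, hb]
    | tmul a b => simp [Algebra.smul_def]
  have hi : Function.Injective ((TensorProduct.AlgebraTensorModule.cancelBaseChange K L M M (Ω[K⁄F])).toLinearMap ∘ₗ
      (Algebra.H1Cotangent.δ F K L).baseChange M) := by
    rw [LinearMap.coe_comp]
    exact (TensorProduct.AlgebraTensorModule.cancelBaseChange K L M M (Ω[K⁄F])).injective.comp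
      (Module.Flat.lTensor_preserves_injective_linearMap (M := M) _ h)
  rw [hc, LinearMap.coe_comp] at hi
  exact hi.of_comp


open TensorProduct in
/-- For a tower of fields `K ⊆ L ⊆ M`, the first map of the Jacobi–Zariski sequence, from `H_1(L_{L/K})
⊗_L M` to `H_1(L_{M/K})`, is injective; here `H_1(L)` denotes the first homology of the naive
cotangent complex and the map is the `M`-linear extension of the functoriality map. (The rest of the
six-term sequence is exact for any three rings, so for fields it is exact with a zero on the left.) -/
theorem result {K L M : Type u} [Field K] [Field L]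
    [Field M] [Algebra K L] [Algebra L M] [Algebra K M] [IsScalarTower K L M] :
    Function.Injective ((Algebra.H1Cotangent.map K K L M).liftBaseChange M) := by
  obtain ⟨p, hchar⟩ := CharP.exists K
  rcases CharP.char_is_prime_or_zero K p with hp | rfl
  · haveI : Fact p.Prime := ⟨hp⟩
    letI : Algebra (ULift.{u} (ZMod p)) K :=
      ((ZMod.castHom (dvd_refl p) K).comp ULift.ringEquiv.toRingHom).toAlgebra
    letI : Algebra (ULift.{u} (ZMod p)) L :=
      ((algebraMap K L).comp (algebraMap (ULift.{u} (ZMod p)) K)).toAlgebra
    haveI : IsScalarTower (ULift.{u} (ZMod p)) K L := IsScalarTower.of_algebraMap_eq' rfl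
    haveI : PerfectField (ULift.{u} (ZMod p)) := PerfectField.ofFinite
    haveI : Algebra.FormallySmooth (ULift.{u} (ZMod p)) L := by
      rw [EGA41Lib.formallySmooth_iff_isGeometricallyReduced, Algebra.isGeometricallyReduced_field_iff]
      exact PurelyInsepRed.isReduced_tensor_of_perfectField (AlgebraicClosure _)
    have : Subsingleton (Algebra.H1Cotangent (ULift.{u} (ZMod p)) L) :=
      Algebra.FormallySmooth.subsingleton_h1Cotangent
    letI : Algebra (ULift.{u} (ZMod p)) M :=
      ((algebraMap K M).comp (algebraMap (ULift.{u} (ZMod p)) K)).toAlgebra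
    haveI : IsScalarTower (ULift.{u} (ZMod p)) K M := IsScalarTower.of_algebraMap_eq' rfl
    refine injective_of_delta (F := ULift.{u} (ZMod p)) ((injective_iff_map_eq_zero _).2 fun y hy => ?_)
    obtain ⟨z, rfl⟩ := (Algebra.H1Cotangent.exact_map_δ (ULift.{u} (ZMod p)) K L y).1 hy
    rw [Subsingleton.elim z 0, map_zero]
  · haveI : CharZero K := CharP.charP_to_charZero K
    haveI := EGA41Lib.formallySmooth_of_charZero (k := K) (K := L)
    have : Subsingleton (Algebra.H1Cotangent K L) := Algebra.FormallySmooth.subsingleton_h1Cotangent
    have : Subsingleton (M ⊗[L] Algebra.H1Cotangent K L) := inferInstance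
    exact Function.injective_of_subsingleton _

end Groth.Agent.S9319
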