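import Groth.Statements.S9320
import Groth.Agent.S9319
import Groth.Agent.EGA41Lib.Cartier

set_option autoImplicit false
universe u
open CAlg

namespace Groth.Agent.S9320

open TensorProduct
open Groth.Agent.EGA41Lib (HasIndex)
open KaehlerDifferential (mapBaseChange)

theorem map_eq_zero_of_intBase (K L : Type u) [Field K] [Field L] [Algebra K L] (x : Algebra.H1Cotangent ℤ L) :
    Algebra.H1Cotangent.map ℤ K L L x = 0 := by
  obtain ⟨p, hchar⟩ := CharP.exists K
  rcases CharP.char_is_prime_or_zero K p with hp | rfl
  · haveI : Fact p.Prime := ⟨hp⟩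
    letI : Algebra (ULift.{u} (ZMod p)) K :=
      ((ZMod.castHom (dvd_refl p) K).comp ULift.ringEquiv.toRingHom).toAlgebra
    letI : Algebra (ULift.{u} (ZMod p)) L :=
      ((algebraMap K L).comp (algebraMap (ULift.{u} (ZMod p)) K)).toAlgebra
    haveI : IsScalarTower (ULift.{u} (ZMod p)) K L := IsScalarTower.of_algebraMap_eq' rfl
    haveI : PerfectField (ULift.{u} (ZMod p)) := PerfectField.ofFinite
    haveI : Algebra.FormallySmooth (ULift.{u} (ZMod p)) L := by
      rw [EGA41Lib.formallySmooth_iff_isGeometricallyReduced, Algebra.isGeometricallyReduced_field_iff]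
      exact PurelyInsepRed.isReduced_tensor_of_perfectField (AlgebraicClosure _)
    have : Subsingleton (Algebra.H1Cotangent (ULift.{u} (ZMod p)) L) :=
      Algebra.FormallySmooth.subsingleton_h1Cotangent
    have h : Algebra.H1Cotangent.map ℤ K L L x = Algebra.H1Cotangent.map (ULift.{u} (ZMod p)) K L L
        (Algebra.H1Cotangent.map ℤ (ULift.{u} (ZMod p)) L L x) := by
      show Algebra.Extension.H1Cotangent.map _ x =
        Algebra.Extension.H1Cotangent.map _ (Algebra.Extension.H1Cotangent.map _ x)
      rw [← Algebra.Extension.H1Cotangent.map_comp_apply, Algebra.Extension.H1Cotangent.map_eq]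
    rw [h, Subsingleton.elim (Algebra.H1Cotangent.map ℤ (ULift.{u} (ZMod p)) L L x) 0, map_zero]
  · haveI : CharZero K := CharP.charP_to_charZero K
    haveI := EGA41Lib.formallySmooth_of_charZero (k := K) (K := L)
    have : Subsingleton (Algebra.H1Cotangent K L) := Algebra.FormallySmooth.subsingleton_h1Cotangent
    exact Subsingleton.elim _ _

/-- Cartier's equality in terms of `H1Cotangent`. -/
theorem finrank_kaehler_h1 (K L : Type u) [Field K] [Field L] [Algebra K L] [Algebra.EssFiniteType K L] :
    Module.Finite L (Ω[L⁄K]) ∧ Module.Finite L (Algebra.H1Cotangent K L) ∧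
      (Module.finrank L (Ω[L⁄K]) : ℤ) - Module.finrank L (Algebra.H1Cotangent K L) =
        Cardinal.toNat (Algebra.trdeg K L) := by
  obtain ⟨h1, h2, h3⟩ := EGA41Lib.fieldIdx_trdeg (K := K) (L := L)
  have hinj : Function.Injective (Algebra.H1Cotangent.δ ℤ K L) := (injective_iff_map_eq_zero _).2 fun y hy => by
    obtain ⟨z, rfl⟩ := (Algebra.H1Cotangent.exact_map_δ ℤ K L y).1 hy
    exact map_eq_zero_of_intBase K L z
  let e := (LinearEquiv.ofInjective _ hinj).trans
    (LinearEquiv.ofEq _ _ (LinearMap.exact_iff.1 (Algebra.H1Cotangent.exact_δ_mapBaseChange ℤ K L)).symm)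
  haveI := h1
  exact ⟨h2, Module.Finite.equiv e.symm, by rw [e.finrank_eq]; exact h3⟩

section Index

variable {F X Y Z : Type u} [Field F] [AddCommGroup X] [Module F X] [AddCommGroup Y] [Module F Y]
  [AddCommGroup Z] [Module F Z]

/-- The quotient by the image of the first map of an exact pair is the image of the second. -/
noncomputable def quotRangeEquiv {f : X →ₗ[F] Y} {g : Y →ₗ[F] Z} (h : Function.Exact f g) :
    (Y ⧸ LinearMap.range f) ≃ₗ[F] LinearMap.range g :=
  (Submodule.quotEquivOfEq _ _ (LinearMap.exact_iff.1 h).symm).trans g.quotKerEquivRange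

theorem finrank_range_add [Module.Finite F Y] (f : X →ₗ[F] Y) {g : Y →ₗ[F] Z} (h : Function.Exact f g) :
    Module.finrank F (LinearMap.range f) + Module.finrank F (LinearMap.range g) = Module.finrank F Y := by
  rw [← (quotRangeEquiv h).finrank_eq, add_comm]
  exact Submodule.finrank_quotient_add_finrank _

end Index

variable (k : Type u) [Field k]

theorem index_left (K L : Type u) [Field K] [Field L] [Algebra k K] [Algebra k L] [Algebra K L]
    [IsScalarTower k K L] [Algebra.EssFiniteType K L] :
    ∃ m n : ℤ, HasIndex (mapBaseChange k K L) m ∧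
      HasIndex ((Algebra.H1Cotangent.map k k K L).liftBaseChange L) n ∧
      m - n = Cardinal.toNat (Algebra.trdeg K L) := by
  obtain ⟨hΩ, hH, h3⟩ := finrank_kaehler_h1 K L
  haveI := hΩ
  haveI := hH
  let δ := Algebra.H1Cotangent.δ k K L
  have e1 := KaehlerDifferential.exact_mapBaseChange_map k K L
  let q := (quotRangeEquiv e1).trans (LinearEquiv.ofTop _
    (LinearMap.range_eq_top.2 (KaehlerDifferential.map_surjective k K L)))
  have hker := LinearMap.exact_iff.1 (Algebra.H1Cotangent.exact_δ_mapBaseChange k K L)
  have hk1 := LinearMap.ker_eq_bot.2 (S9319.result (K := k) (L := K) (M := L))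
  let q' := quotRangeEquiv (Algebra.H1Cotangent.exact_liftBaseChange_map_of_flat k K L)
  have hs := finrank_range_add (Algebra.H1Cotangent.map k K L L) (Algebra.H1Cotangent.exact_map_δ k K L)
  refine ⟨(Module.finrank L (Ω[L⁄K]) : ℤ) - Module.finrank L (LinearMap.range δ),
    Module.finrank L (LinearMap.range (Algebra.H1Cotangent.map k K L L)),
    ⟨hker ▸ inferInstance, Module.Finite.equiv q.symm, by rw [hker, q.finrank_eq]⟩,
    ⟨hk1 ▸ inferInstance, Module.Finite.equiv q'.symm, by rw [hk1, q'.finrank_eq, finrank_bot]; simp⟩, ?_⟩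
  simp only [δ] at *
  omega

theorem index_right (k' L : Type u) [Field k'] [Field L] [Algebra k k'] [Algebra k L] [Algebra k' L]
    [IsScalarTower k k' L] [Algebra.EssFiniteType k k'] :
    ∃ m n : ℤ, HasIndex (KaehlerDifferential.map k k' L L) m ∧
      HasIndex (Algebra.H1Cotangent.map k k' L L) n ∧
      m - n = - (Cardinal.toNat (Algebra.trdeg k k') : ℤ) := by
  obtain ⟨hΩ, hH, h3⟩ := finrank_kaehler_h1 k k'
  haveI := hΩ
  haveI := hH
  let a := mapBaseChange k k' L
  let δ := Algebra.H1Cotangent.δ k k' L
  let c := (Algebra.H1Cotangent.map k k k' L).liftBaseChange L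
  have hker := LinearMap.exact_iff.1 (KaehlerDifferential.exact_mapBaseChange_map k k' L)
  have hk1 := LinearMap.exact_iff.1 (Algebra.H1Cotangent.exact_liftBaseChange_map_of_flat k k' L)
  have hc : Function.Injective c := S9319.result (K := k) (L := k') (M := L)
  have hcr : Module.finrank L (LinearMap.range c) = Module.finrank k' (Algebra.H1Cotangent k k') := by
    rw [LinearMap.finrank_range_of_inj hc, Module.finrank_baseChange]
  have hs := finrank_range_add δ (Algebra.H1Cotangent.exact_δ_mapBaseChange k k' L)
  rw [Module.finrank_baseChange] at hs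
  let q' := quotRangeEquiv (Algebra.H1Cotangent.exact_map_δ k k' L)
  have htop := LinearMap.range_eq_top.2 (KaehlerDifferential.map_surjective k k' L)
  refine ⟨- (Module.finrank L (LinearMap.range a) : ℤ),
    (Module.finrank L (LinearMap.range δ) : ℤ) - Module.finrank L (LinearMap.range c),
    ⟨hker ▸ inferInstance, htop ▸ inferInstance, ?_⟩,
    ⟨hk1 ▸ inferInstance, Module.Finite.equiv q'.symm, by rw [hk1, q'.finrank_eq]⟩, ?_⟩
  · rw [hker, htop, Module.finrank_zero_of_subsingleton (M := _ ⧸ ⊤)]
    simp [a]
  · simp only [a, δ] at *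
    omega


open TensorProduct in
/-- Consider a commutative square of fields with maps `k → K`, `k → k'`, `k' → K'` and `K → K'`, where
`k'` is a finitely generated field extension of `k` and `K'` is a finitely generated field extension
of `K`. Let `α : Ω_{K/k} ⊗_K K' → Ω_{K'/k'}` and `β : H_1(L_{K/k}) ⊗_K K' → H_1(L_{K'/k'})` be the
comparison maps (`H_1(L)` the first homology of the naive cotangent complex). Then the kernels and
cokernels of `α` and `β` are finite-dimensional `K'`-vector spaces, and the difference of
transcendence degrees trdeg_k(k') − trdeg_K(K') equals (dim Ker α + dim Coker β) − (dim Coker α +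
dim Ker β). -/
theorem result {k k' K K' : Type u} [Field k] [Field k']
    [Field K] [Field K'] [Algebra k k'] [Algebra k K] [Algebra k K'] [Algebra k' K'] [Algebra K K']
    [IsScalarTower k k' K'] [IsScalarTower k K K']
    [Algebra.EssFiniteType k k'] [Algebra.EssFiniteType K K'] :
    Module.Finite K' (LinearMap.ker ((KaehlerDifferential.map k k' K K').liftBaseChange K')) ∧
      Module.Finite K' (Ω[K'⁄k'] ⧸ LinearMap.range ((KaehlerDifferential.map k k' K K').liftBaseChange K')) ∧
      Module.Finite K' (LinearMap.ker ((Algebra.H1Cotangent.map k k' K K').liftBaseChange K')) ∧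
      Module.Finite K' (Algebra.H1Cotangent k' K' ⧸ LinearMap.range ((Algebra.H1Cotangent.map k k' K K').liftBaseChange K')) ∧
      ((Module.finrank K' (LinearMap.ker ((KaehlerDifferential.map k k' K K').liftBaseChange K')) : ℤ)
          - Module.finrank K' (Ω[K'⁄k'] ⧸ LinearMap.range ((KaehlerDifferential.map k k' K K').liftBaseChange K'))
          - Module.finrank K' (LinearMap.ker ((Algebra.H1Cotangent.map k k' K K').liftBaseChange K'))
          + Module.finrank K' (Algebra.H1Cotangent k' K' ⧸ LinearMap.range ((Algebra.H1Cotangent.map k k' K K').liftBaseChange K'))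
        = (Cardinal.toNat (Algebra.trdeg k k') : ℤ) - Cardinal.toNat (Algebra.trdeg K K')) := by
  obtain ⟨m₁, n₁, ha, ha', h₁⟩ := index_left k K K'
  obtain ⟨m₂, n₂, hb, hb', h₂⟩ := index_right k k' K'
  have hα : (KaehlerDifferential.map k k' K K').liftBaseChange K' =
      KaehlerDifferential.map k k' K' K' ∘ₗ mapBaseChange k K K' := by
    refine AlgebraTensorModule.curry_injective
      (LinearMap.ext_ring (LinearMap.ext_on (KaehlerDifferential.span_range_derivation k K) ?_))
    rintro _ ⟨a, rfl⟩
    simp
  have hβ : (Algebra.H1Cotangent.map k k' K K').liftBaseChange K' =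
      Algebra.H1Cotangent.map k k' K' K' ∘ₗ (Algebra.H1Cotangent.map k k K K').liftBaseChange K' := by
    refine AlgebraTensorModule.curry_injective (LinearMap.ext_ring (LinearMap.ext fun x => ?_))
    simp only [AlgebraTensorModule.curry_apply, LinearMap.restrictScalars_self,
      TensorProduct.curry_apply, LinearMap.coe_restrictScalars, LinearMap.comp_apply,
      LinearMap.liftBaseChange_tmul, one_smul]
    show Algebra.Extension.H1Cotangent.map _ x =
      Algebra.Extension.H1Cotangent.map _ (Algebra.Extension.H1Cotangent.map _ x)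
    rw [← Algebra.Extension.H1Cotangent.map_comp_apply, Algebra.Extension.H1Cotangent.map_eq]
  obtain ⟨f1, f2, f3⟩ := ha.comp hb
  obtain ⟨g1, g2, g3⟩ := ha'.comp hb'
  rw [hα, hβ]
  exact ⟨f1, f2, g1, g2, by omega⟩

end Groth.Agent.S9320
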