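import Groth.Statements.S9324
import Groth.Agent.HenselLib.PairHenselization
import Groth.Agent.HenselLib.Ops
import Groth.Agent.S1971

set_option autoImplicit false
universe u
open Hensel

namespace Groth.Agent.S9324

open TensorProduct in
/-- Let `(A, I) → (B, J)` be a map of pairs, i.e. `I B ⊆ J`, such that `J` and `I B` have the same
radical, and suppose `A → B` is integral. Let `A^h` be a henselization of the pair `(A, I)`, `B^h` a
henselization of the pair `(B, J)`, and `φ : A^h → B^h` an `A`-algebra homomorphism (there is
exactly one, by the universal property of `A^h`). Then the induced map `A^h ⊗_A B → B^h` is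
bijective: henselization commutes with integral base change. -/
theorem result {A B Ah Bh : Type u} [CommRing A]
    [CommRing B] [CommRing Ah] [CommRing Bh] [Algebra A B] (I : Ideal A) (J : Ideal B)
    (hIJ : I.map (algebraMap A B) ≤ J) (hrad : J.radical = (I.map (algebraMap A B)).radical)
    [Algebra.IsIntegral A B] [Algebra A Ah] (hA : Hens2.IsPairHenselization A I Ah)
    [Algebra B Bh] [Algebra A Bh] [IsScalarTower A B Bh] (hB : Hens2.IsPairHenselization B J Bh)
    (φ : Ah →ₐ[A] Bh) :
    Function.Bijective (Algebra.TensorProduct.productMap φ (IsScalarTower.toAlgHom A B Bh)) := by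
  classical
  let _ : Algebra B (TensorProduct A Ah B) :=
    (Algebra.TensorProduct.includeRight : B →ₐ[A] TensorProduct A Ah B).toRingHom.toAlgebra
  let K := I.map (algebraMap A B)
  have hB' : Hens2.IsPairHenselization B K Bh :=
    (Groth.Agent.S1971.result B J K (by
      rw [← PrimeSpectrum.zeroLocus_radical J, hrad, PrimeSpectrum.zeroLocus_radical]) Bh).mp hB
  have hK : K.map (algebraMap B (TensorProduct A Ah B)) = I.map (algebraMap A (TensorProduct A Ah B)) := by
    rw [Ideal.map_map]
    exact congrArg (fun f => I.map f)
      (Algebra.TensorProduct.includeRight : B →ₐ[A] TensorProduct A Ah B).comp_algebraMap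
  have hT : Hens2.IsPairHenselization B K (TensorProduct A Ah B) := by
    refine ⟨?_, fun C _ K' f hK' hle => ?_⟩
    · rw [hK, IsScalarTower.algebraMap_eq A Ah (TensorProduct A Ah B), ← Ideal.map_map]
      have := hA.1
      exact Groth.Agent.HenselLib.henselianRing_of_isIntegral _ _
    · let _ : Algebra A C := (f.comp (algebraMap A B)).toAlgebra
      let fB : B →ₐ[A] C := { f with commutes' := fun _ => rfl }
      obtain ⟨g, hg, hgu⟩ := hA.2 C K' (algebraMap A C) hK'
        (le_trans (le_of_eq (by rw [Ideal.map_map]; rfl)) hle)
      let gA : Ah →ₐ[A] C := { g with commutes' := RingHom.congr_fun hg }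
      refine ⟨(Algebra.TensorProduct.productMap gA fB).toRingHom, RingHom.ext fun b =>
        Algebra.TensorProduct.productMap_right_apply gA fB b, fun g' hg' => ?_⟩
      let g'' : TensorProduct A Ah B →ₐ[A] C :=
        { g' with
          commutes' := fun a => by
            show g' (algebraMap A (TensorProduct A Ah B) a) = _
            rw [← (Algebra.TensorProduct.includeRight : B →ₐ[A] TensorProduct A Ah B).commutes a]
            exact RingHom.congr_fun hg' _ }
      have e : g'' = Algebra.TensorProduct.productMap gA fB := Algebra.TensorProduct.ext'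
        fun x b => by
          have h1 : g''.comp Algebra.TensorProduct.includeLeft = gA := AlgHom.ext fun y =>
            RingHom.congr_fun (hgu (g''.comp (Algebra.TensorProduct.includeLeft :
              Ah →ₐ[A] TensorProduct A Ah B)).toRingHom (AlgHom.comp_algebraMap _)) y
          rw [Algebra.TensorProduct.productMap_apply_tmul, ← h1,
            show x ⊗ₜ[A] b = (x ⊗ₜ 1) * ((1 : Ah) ⊗ₜ[A] b) by
              rw [Algebra.TensorProduct.tmul_mul_tmul, mul_one, one_mul], map_mul]
          exact congrArg (_ * ·) (RingHom.congr_fun hg' b)
      exact congrArg AlgHom.toRingHom e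
  obtain ⟨e⟩ := Groth.Agent.HenselLib.exists_algEquiv_of_isPairHenselization hB' hT
  let Φ := Algebra.TensorProduct.productMap φ (IsScalarTower.toAlgHom A B Bh)
  have := hB'.1
  have hid : Φ.toRingHom.comp e.toAlgHom.toRingHom = RingHom.id Bh := by
    refine Groth.Agent.HenselLib.pairHenselization_hom_ext hB' (K.map (algebraMap B Bh))
      (g := RingHom.id Bh) le_rfl (RingHom.ext fun b => ?_)
    show Φ (e (algebraMap B Bh b)) = algebraMap B Bh b
    rw [e.commutes]
    exact Algebra.TensorProduct.productMap_right_apply φ (IsScalarTower.toAlgHom A B Bh) b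
  have hΦ : (Φ : TensorProduct A Ah B → Bh) = e.symm := funext fun t => by
    conv_lhs => rw [← e.apply_symm_apply t]
    exact RingHom.congr_fun hid (e.symm t)
  show Function.Bijective Φ
  rw [hΦ]
  exact e.symm.bijective

end Groth.Agent.S9324
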