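import Groth.Statements.S9325
import Groth.Agent.RegSeq.Basic
-- import your own Groth.Agent.* helpers here

set_option autoImplicit false
universe u
open CAlg

namespace Groth.Agent.S9325

/-- The global form on a ring with an `H₁`-regular generating sequence of the image. -/
theorem local_form {R S : Type u} [CommRing R] [CommRing S] (φ : R →+* S) (hφ : Function.Surjective φ)
    (I J : Ideal R) (hker : RingHom.ker φ = I) (hIJ : I ≤ J) {c : ℕ} (f : Fin c → S)
    (hf : CAlgX.IsH1Regular f) (hspan : Ideal.span (Set.range f) = J.map φ) : I ⊓ J ^ 2 ≤ I * J := by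
  have hJ : (J.map φ).comap φ = J := by
    rw [Ideal.comap_map_of_surjective _ hφ, ← RingHom.ker_eq_comap_bot, hker, sup_eq_left.2 hIJ]
  have hF : ∀ a, ∃ F ∈ J, φ F = f a := fun a => by
    obtain ⟨F, hF⟩ := hφ (f a)
    refine ⟨F, ?_, hF⟩
    rw [← hJ, Ideal.mem_comap, hF, ← hspan]
    exact Ideal.subset_span ⟨a, rfl⟩
  choose F hFJ hFφ using hF
  have hfF : f = φ ∘ F := funext fun a => (hFφ a).symm
  have hJ' : J = I ⊔ Ideal.span (Set.range F) := by
    conv_lhs => rw [← hJ, ← hspan, hfF, Set.range_comp, ← Ideal.map_span, Ideal.comap_map_of_surjective _ hφ,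
      ← RingHom.ker_eq_comap_bot, hker, sup_comm]
  have hlift : ∀ v ∈ Groth.Agent.RegSeq.triv f, ∃ t : Fin c → R, φ ∘ t = v ∧ ∑ a, t a * F a = 0 := by
    intro v hv
    induction hv using Submodule.span_induction with
    | mem v hv =>
      obtain ⟨i, j, rfl⟩ := hv
      refine ⟨Pi.single i (F j) - Pi.single j (F i), funext fun k => ?_, ?_⟩
      · simp [Pi.single_apply, apply_ite φ, hFφ]
      · simp [sub_mul, Finset.sum_sub_distrib, Pi.single_apply, ite_mul, mul_comm (F i) (F j)]
    | zero => exact ⟨0, funext fun k => by simp, by simp⟩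
    | add a b _ _ ha hb =>
      obtain ⟨s, rfl, hs⟩ := ha
      obtain ⟨t, rfl, ht⟩ := hb
      exact ⟨s + t, funext fun k => by simp, by simp [add_mul, Finset.sum_add_distrib, hs, ht]⟩
    | smul r a _ ha =>
      obtain ⟨s, rfl, hs⟩ := ha
      obtain ⟨r', rfl⟩ := hφ r
      exact ⟨r' • s, funext fun k => by simp, by simp [mul_assoc, ← Finset.mul_sum, hs]⟩
  rintro x ⟨hxI, hxJ⟩
  have h2 : J ^ 2 ≤ I * J ⊔ Ideal.span (Set.range F) := by
    rw [pow_two]
    calc J * J = (I ⊔ Ideal.span (Set.range F)) * J := by rw [← hJ']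
      _ = I * J ⊔ Ideal.span (Set.range F) * J := Ideal.sup_mul _ _ _
      _ ≤ I * J ⊔ Ideal.span (Set.range F) :=
        sup_le_sup_left (Ideal.mul_le_left : Ideal.span (Set.range F) * J ≤ Ideal.span (Set.range F)) (I * J)
  obtain ⟨y, hy, z, hz, rfl⟩ := Submodule.mem_sup.1 (h2 hxJ)
  obtain ⟨s, rfl⟩ := Ideal.mem_span_range_iff_exists_fun.1 hz
  have hzI : ∑ a, s a * F a ∈ I := by
    simpa using I.sub_mem hxI (Ideal.mul_le_left hy)
  rw [← hker, RingHom.mem_ker, map_sum] at hzI
  obtain ⟨t, ht, ht0⟩ := hlift (φ ∘ s) (hf _ (by simpa [hFφ, mul_comm] using hzI))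
  refine add_mem hy ?_
  rw [show ∑ a, s a * F a = ∑ a, (s a - t a) * F a by
    simp [sub_mul, Finset.sum_sub_distrib, ht0]]
  refine Ideal.sum_mem _ fun a _ => Ideal.mul_mem_mul ?_ (hFJ a)
  rw [← hker, RingHom.mem_ker, map_sub, sub_eq_zero]
  exact (congrFun ht a).symm

theorem main {A : Type u} [CommRing A] (I J : Ideal A) (hIJ : I ≤ J)
    (h : ∀ (q : Ideal (A ⧸ I)) [q.IsPrime], J.map (Ideal.Quotient.mk I) ≤ q →
      ∃ g : A ⧸ I, g ∉ q ∧ ∃ (c : ℕ) (f : Fin c → Localization.Away g),
        CAlgX.IsH1Regular f ∧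
          Ideal.span (Set.range f) =
            (J.map (Ideal.Quotient.mk I)).map (algebraMap (A ⧸ I) (Localization.Away g))) :
    I ⊓ J ^ 2 = I * J := by
  refine le_antisymm ?_ (le_inf Ideal.mul_le_left (by rw [pow_two]; exact Ideal.mul_mono_left hIJ))
  intro x hx
  by_contra hne
  have hcol : (I * J).colon {x} ≠ ⊤ := fun htop => by
    have := Submodule.mem_colon_singleton.1 ((htop ▸ trivial) : (1 : A) ∈ (I * J).colon {x})
    rw [one_smul] at this
    exact hne this
  obtain ⟨p, hp, hle⟩ := Ideal.exists_le_maximal _ hcol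
  haveI := hp.isPrime
  have hkey : ∀ u : A, u * x ∈ I * J → u ∈ p := fun u hu =>
    hle (Submodule.mem_colon_singleton.2 hu)
  have hJp : J ≤ p := fun u hu => hkey u (mul_comm x u ▸ Ideal.mul_mem_mul hx.1 hu)
  have hIp : RingHom.ker (Ideal.Quotient.mk I) ≤ p := by rw [Ideal.mk_ker]; exact hIJ.trans hJp
  haveI : (p.map (Ideal.Quotient.mk I)).IsPrime :=
    Ideal.map_isPrime_of_surjective Ideal.Quotient.mk_surjective hIp
  obtain ⟨g, hg, c, f, hf, hspan⟩ := h _ (Ideal.map_mono hJp)
  obtain ⟨G, rfl⟩ := Ideal.Quotient.mk_surjective g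
  have hG : G ∉ p := fun hG => hg (Ideal.mem_map_of_mem _ hG)
  let q := Ideal.Quotient.mk I
  haveI hT : IsLocalization ((Submonoid.powers G).map q) (Localization.Away (q G)) := by
    rw [Submonoid.map_powers]; exact Localization.isLocalization
  let φ : Localization.Away G →+* Localization.Away (q G) :=
    IsLocalization.map (M := Submonoid.powers G) (Localization.Away (q G)) q (Submonoid.powers G).le_comap_map
  have hφ : Function.Surjective φ :=
    IsLocalization.map_surjective_of_surjective (M := Submonoid.powers G) (S := Localization.Away G)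
      (Q := Localization.Away (q G)) (g := q) Ideal.Quotient.mk_surjective
  have hker : RingHom.ker φ = I.map (algebraMap A _) := by
    refine le_antisymm (fun y hy => ?_) (Ideal.map_le_iff_le_comap.2 fun a ha => ?_)
    · obtain ⟨⟨r, s⟩, hs⟩ := IsLocalization.surj (Submonoid.powers G) y
      have h0 : algebraMap (A ⧸ I) (Localization.Away (q G)) (q r) = 0 := by
        rw [← IsLocalization.map_eq (M := Submonoid.powers G) (S := Localization.Away G) (Q := Localization.Away (q G)) (Submonoid.powers G).le_comap_map r]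
        show φ (algebraMap A _ r) = 0
        rw [← hs, map_mul, RingHom.mem_ker.1 hy, zero_mul]
      obtain ⟨⟨_, t, ⟨n, rfl⟩, rfl⟩, ht⟩ :=
        (IsLocalization.map_eq_zero_iff ((Submonoid.powers G).map q) _ _).1 h0
      rw [← map_mul, Ideal.Quotient.eq_zero_iff_mem] at ht
      refine (Ideal.mul_unit_mem_iff_mem _ (IsLocalization.map_units _ s)).1 ?_
      rw [hs, IsLocalization.algebraMap_mem_map_algebraMap_iff (Submonoid.powers G)]
      exact ⟨_, ⟨n, rfl⟩, ht⟩
    · rw [Ideal.mem_comap, RingHom.mem_ker]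
      show IsLocalization.map _ q _ (algebraMap A _ a) = 0
      rw [IsLocalization.map_eq, Ideal.Quotient.eq_zero_iff_mem.2 ha, map_zero]
  have hcomp : φ.comp (algebraMap A _) = (algebraMap (A ⧸ I) _).comp q := IsLocalization.map_comp _
  have hloc := local_form φ hφ (I.map (algebraMap A _)) (J.map (algebraMap A _)) hker (Ideal.map_mono hIJ) f hf
    (by rw [hspan, Ideal.map_map, Ideal.map_map, hcomp])
  have hxL : algebraMap A (Localization.Away G) x ∈ (I * J).map (algebraMap A _) := by
    rw [Ideal.map_mul]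
    exact hloc ⟨Ideal.mem_map_of_mem _ hx.1, by rw [← Ideal.map_pow]; exact Ideal.mem_map_of_mem _ hx.2⟩
  rw [IsLocalization.algebraMap_mem_map_algebraMap_iff (Submonoid.powers G)] at hxL
  obtain ⟨m, ⟨n, rfl⟩, hm⟩ := hxL
  exact hG (hp.isPrime.mem_of_pow_mem n (hkey _ hm))

/-- Let `A` be a ring and `I ⊆ J` ideals of `A` such that the ideal `J/I` of `A/I` is `H_1`-regular: for
every prime `𝔮` of `A/I` containing `J/I` there is `g ∉ 𝔮` such that the extension of `J/I` to
`(A/I)_g` is generated by an `H_1`-regular sequence (a finite sequence all of whose linear relations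
are combinations of the trivial ones). Then `I ∩ J² = I J`. -/
theorem result {A : Type u} [CommRing A] (I J : Ideal A)
    (hIJ : I ≤ J)
    (h : ∀ (𝔮 : Ideal (A ⧸ I)) [𝔮.IsPrime], J.map (Ideal.Quotient.mk I) ≤ 𝔮 →
      ∃ g : A ⧸ I, g ∉ 𝔮 ∧ ∃ (c : ℕ) (f : Fin c → Localization.Away g),
        CAlgX.IsH1Regular f ∧
          Ideal.span (Set.range f) =
            (J.map (Ideal.Quotient.mk I)).map (algebraMap (A ⧸ I) (Localization.Away g))) :
    I ⊓ J ^ 2 = I * J := by
  exact main I J hIJ h

end Groth.Agent.S9325
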