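import Groth.Statements.S9326
import Mathlib
-- import your own Groth.Agent.* helpers here

set_option autoImplicit false
universe u
open CAlg

namespace Groth.Agent.S9326

/-- Let `u : N → M` be a continuous homomorphism of topological abelian groups. Assume `M` is Hausdorff
and `N` is Hausdorff and complete, linearly topologized (every neighbourhood of zero contains an
open subgroup) and first countable (zero has a countable basis of neighbourhoods). Then exactly one
of two things holds: `u` is an open map; or there is an open subgroup of `N` whose image is nowhere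
dense in `M`. -/
theorem result {N M : Type u} [AddCommGroup N]
    [AddCommGroup M] [UniformSpace N] [IsUniformAddGroup N] [TopologicalSpace M]
    [IsTopologicalAddGroup M] [T2Space M] [T2Space N] [CompleteSpace N] [NonarchimedeanAddGroup N]
    [FirstCountableTopology N] (u : N →+ M) (hu : Continuous u) :
    Xor (IsOpenMap u) (∃ V : OpenAddSubgroup N, IsNowhereDense (u '' (V : Set N))) := by
  classical
  have himg : ∀ V : OpenAddSubgroup N, (u '' (V : Set N)) = ((V : AddSubgroup N).map u : Set M) :=
    fun V => rfl
  have hexcl : IsOpenMap u → ¬ ∃ V : OpenAddSubgroup N, IsNowhereDense (u '' (V : Set N)) := by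
    rintro hop ⟨V, hV⟩
    have h0 : (0 : M) ∈ interior (closure (u '' (V : Set N))) := by
      refine interior_mono subset_closure ?_
      rw [(hop _ V.isOpen).interior_eq]
      exact ⟨0, V.zero_mem, map_zero u⟩
    exact Set.notMem_empty _ (hV ▸ h0)
  have hor : IsOpenMap u ∨ ∃ V : OpenAddSubgroup N, IsNowhereDense (u '' (V : Set N)) := by
    refine or_iff_not_imp_right.2 fun hnd => ?_
    push Not at hnd
    -- the closures of the images of open subgroups are open subgroups
    have hclopen : ∀ V : OpenAddSubgroup N, IsOpen (((V : AddSubgroup N).map u).topologicalClosure : Set M) := by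
      intro V
      obtain ⟨y, hy⟩ := Set.nonempty_iff_ne_empty.2 (hnd V)
      exact AddSubgroup.isOpen_of_mem_nhds _ (g := y) (mem_interior_iff_mem_nhds.1 hy)
    obtain ⟨b, hb⟩ := (nhds (0 : N)).exists_antitone_basis
    have hsmall : ∀ V : OpenAddSubgroup N, (u '' (V : Set N)) =
        (((V : AddSubgroup N).map u).topologicalClosure : Set M) := by
      intro V
      refine subset_antisymm subset_closure fun m hm => ?_
      -- a decreasing basis of open subgroups starting at `V`
      have hch : ∀ k : ℕ, ∃ W : OpenAddSubgroup N, (W : Set N) ⊆ b k := fun k =>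
        NonarchimedeanAddGroup.is_nonarchimedean _ (hb.1.mem_of_mem trivial)
      choose W hW using hch
      let Vs : ℕ → OpenAddSubgroup N := fun k => Nat.rec V (fun j U => U ⊓ W j) k
      have hVs_succ : ∀ k, Vs (k + 1) = Vs k ⊓ W k := fun k => rfl
      have hmono : ∀ k l, k ≤ l → Vs l ≤ Vs k := by
        intro k l hkl
        induction hkl with
        | refl => exact le_rfl
        | step _ ih => exact (hVs_succ _ ▸ inf_le_left : _ ≤ _).trans ih
      have hbasis : ∀ U ∈ nhds (0 : N), ∃ k, SetLike.coe (Vs k) ⊆ U := by
        intro U hU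
        obtain ⟨k, -, hk⟩ := hb.1.mem_iff.1 hU
        exact ⟨k + 1, fun z hz => hk (hW k (SetLike.mem_coe.1 hz).2)⟩
      let C : ℕ → AddSubgroup M := fun k => ((Vs k).toAddSubgroup.map u).topologicalClosure
      have step : ∀ k r, r ∈ C k → ∃ v ∈ Vs k, r - u v ∈ C (k + 1) := by
        intro k r hr
        have hnb : {z | r - z ∈ C (k + 1)} ∈ nhds r := by
          refine IsOpen.mem_nhds ((hclopen (Vs (k + 1))).preimage (continuous_const.sub continuous_id)) ?_
          show r - r ∈ C (k + 1)
          rw [sub_self]
          exact zero_mem _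
        obtain ⟨z, hz, hz'⟩ := mem_closure_iff_nhds.1 hr _ hnb
        obtain ⟨v, hv, rfl⟩ := hz'
        exact ⟨v, hv, hz⟩
      choose v hv hv' using step
      let r : (k : ℕ) → {r : M // r ∈ C k} := fun k =>
        Nat.rec (⟨m, hm⟩ : {r : M // r ∈ C 0}) (fun j q => ⟨q.1 - u (v j q.1 q.2), hv' j q.1 q.2⟩) k
      let vs : ℕ → N := fun k => v k (r k).1 (r k).2
      have hvs : ∀ k, vs k ∈ Vs k := fun k => hv k _ _
      have hr : ∀ k, (r (k + 1)).1 = (r k).1 - u (vs k) := fun k => rfl
      let S : ℕ → N := fun k => ∑ j ∈ Finset.range k, vs j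
      have hSmem : ∀ k l, k ≤ l → S l - S k ∈ Vs k := by
        intro k l hkl
        simp only [S]
        rw [← Finset.sum_Ico_eq_sub _ hkl]
        exact sum_mem fun j hj => hmono _ _ (Finset.mem_Ico.1 hj).1 (hvs j)
      have hcauchy : CauchySeq S := by
        rw [cauchySeq_iff]
        intro U hU
        rw [uniformity_eq_comap_nhds_zero] at hU
        obtain ⟨U', hU', hsub⟩ := hU
        obtain ⟨k, hk⟩ := hbasis U' hU'
        refine ⟨k, fun a ha c hc => hsub (hk ?_)⟩
        have h1 := sub_mem (hSmem k c hc) (hSmem k a ha)
        simpa using h1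
      obtain ⟨s, hs⟩ := cauchySeq_tendsto_of_complete hcauchy
      have hsV : s ∈ V := by
        refine V.isClosed.mem_of_tendsto hs (Filter.Eventually.of_forall fun k => ?_)
        show S k ∈ V
        have hk0 := hSmem 0 k (Nat.zero_le k)
        rw [show S 0 = 0 from rfl, sub_zero] at hk0
        exact hk0
      refine ⟨s, hsV, ?_⟩
      have hrk : ∀ k, (r k).1 = m - u (S k) := by
        intro k
        induction k with
        | zero => simp [r, S]
        | succ k ih =>
          rw [hr, ih]
          simp only [S, Finset.sum_range_succ, map_add]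
          abel
      have hr0 : Filter.Tendsto (fun k => (r k).1) Filter.atTop (nhds 0) := by
        rw [(closed_nhds_basis (0 : M)).tendsto_right_iff]
        rintro U ⟨hU, hUc⟩
        obtain ⟨k, hk⟩ := hbasis (u ⁻¹' U) (hu.continuousAt.preimage_mem_nhds (by rwa [map_zero]))
        refine Filter.eventually_atTop.2 ⟨k, fun l hl => ?_⟩
        refine closure_minimal ?_ hUc (r l).2
        rintro _ ⟨z, hz, rfl⟩
        exact hk (hmono k l hl hz)
      have hlim : Filter.Tendsto (fun k => (r k).1) Filter.atTop (nhds (m - u s)) := by
        simp only [hrk]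
        exact tendsto_const_nhds.sub ((hu.tendsto s).comp hs)
      exact (sub_eq_zero.1 (tendsto_nhds_unique hlim hr0)).symm
    refine IsOpenMap.of_nhds_le fun x U hU => ?_
    rw [Filter.mem_map] at hU
    have h0 : (fun z => x + z) ⁻¹' (u ⁻¹' U) ∈ nhds (0 : N) := by
      refine (continuous_const.add continuous_id).continuousAt.preimage_mem_nhds ?_
      simpa using hU
    obtain ⟨V, hV⟩ := NonarchimedeanAddGroup.is_nonarchimedean _ h0
    have hopen : IsOpen (u '' (V : Set N)) := hsmall V ▸ hclopen V
    refine Filter.mem_of_superset ((hopen.preimage (continuous_id.sub continuous_const : Continuous fun z => z - u x)).mem_nhds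
      (⟨0, V.zero_mem, by simp⟩)) ?_
    rintro z ⟨w, hw, hwz⟩
    have h1 := hV hw
    simp only [Set.mem_preimage, map_add, hwz] at h1
    simpa using h1
  rcases hor with h | h
  · exact Or.inl ⟨h, hexcl h⟩
  · exact Or.inr ⟨h, fun h' => hexcl h' h⟩

end Groth.Agent.S9326
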