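import Groth.Statements.S9331
import Groth.Agent.FibreClosedPt.Basic
-- import your own Groth.Agent.* helpers here

set_option autoImplicit false
universe u
open QFin

namespace Groth.Agent.S9331

open AlgebraicGeometry CategoryTheory in
/-- Let f : X → S be a morphism of schemes, x ∈ X, s = f x. If κ(x) is algebraic over κ(s) (through the
residue field map of f at x), then x is a closed point of the fibre X_s, and if in addition s is
closed in S then x is closed in X. -/
theorem result {X S : Scheme.{u}} (f : X ⟶ S) (x : X)
    (halg : @Algebra.IsAlgebraic (S.residueField (f.base x)) (X.residueField x) _ _ (f.residueFieldMap x).hom.toAlgebra) :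
    IsClosed ({f.asFiber x} : Set ↑(f.fiber (f.base x))) ∧
      (IsClosed ({f.base x} : Set ↑S) → IsClosed ({x} : Set ↑X)) := by
  letI := (f.residueFieldMap x).hom.toAlgebra
  have hc := FibreClosedPt.isClosed_asFiber_of_isIntegral f x halg.isIntegral.1
  exact ⟨hc, FibreClosedPt.isClosed_singleton_of_isClosed_asFiber f x hc⟩

end Groth.Agent.S9331
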