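import Groth.Statements.S9332
import Groth.Agent.FibreClosedPt.Basic
-- import your own Groth.Agent.* helpers here

set_option autoImplicit false
universe u
open QFin

namespace Groth.Agent.S9332

open AlgebraicGeometry CategoryTheory in
/-- Let f : X → S be locally of finite type and x ∈ X. Then x is closed in its fibre X_{f x} if and only
if κ(x) is a finite extension of κ(f x) (via the residue field map of f at x). -/
theorem result {X S : Scheme.{u}} (f : X ⟶ S) [LocallyOfFiniteType f] (x : X) :
    IsClosed ({f.asFiber x} : Set ↑(f.fiber (f.base x))) ↔ (f.residueFieldMap x).hom.Finite := by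
  exact ⟨FibreClosedPt.finite_of_isClosed_asFiber f x,
    fun h => FibreClosedPt.isClosed_asFiber_of_isIntegral f x h.to_isIntegral⟩

end Groth.Agent.S9332
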