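import Groth.Statements.S9333
import Mathlib
-- import your own Groth.Agent.* helpers here

set_option autoImplicit false
universe u
open QFin

namespace Groth.Agent.S9333

open AlgebraicGeometry CategoryTheory CategoryTheory.Limits in
/-- Let f : X → S be locally of finite type, g : S' → S any morphism and X' = X ×_S S' with projections
g' : X' → X and f' : X' → S'. If x' ∈ X' maps to x ∈ X and x is closed in the fibre X_{f x}, then x'
is closed in the fibre X'_{f' x'}. -/
theorem result {X S X' S' : Scheme.{u}} (f : X ⟶ S) [LocallyOfFiniteType f] (g : S' ⟶ S)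
    (g' : X' ⟶ X) (f' : X' ⟶ S') (hsq : IsPullback g' f' f g) (x' : X')
    (hx : IsClosed ({f.asFiber (g'.base x')} : Set ↑(f.fiber (f.base (g'.base x'))))) :
    IsClosed ({f'.asFiber x'} : Set ↑(f'.fiber (f'.base x'))) := by
  haveI : LocallyOfFiniteType f' := MorphismProperty.of_isPullback hsq inferInstance
  have hpb := isPullback_fiberToSpecResidueField_of_isPullback hsq (f'.base x')
  let φ : f'.fiber (f'.base x') ⟶ f.fiber (g.base (f'.base x')) := pullback.map f' (S'.fromSpecResidueField (f'.base x')) f (S.fromSpecResidueField (g.base (f'.base x'))) g' (Spec.map (g.residueFieldMap (f'.base x'))) g hsq.w.symm (by simp)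
  have e : φ ≫ f.fiberι (g.base (f'.base x')) = f'.fiberι (f'.base x') ≫ g' := pullback.lift_fst _ _ _
  have e' : f.fiberι (g.base (f'.base x')) (φ.base (f'.asFiber x')) = g'.base x' := by
    have := congrArg (fun ψ : f'.fiber (f'.base x') ⟶ X => ψ.base (f'.asFiber x')) e
    simpa using this
  set a := φ.base (f'.asFiber x') with hadef
  have hy : f.base (g'.base x') = g.base (f'.base x') := by
    rw [← Scheme.Hom.comp_apply, hsq.w, Scheme.Hom.comp_apply]
  have key : ∀ (y : S) (_ : f.base (g'.base x') = y) (b : f.fiber y), f.fiberι y b = g'.base x' → IsClosed ({b} : Set ↑(f.fiber y)) := by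
    rintro y rfl b hb
    rwa [show b = f.asFiber (g'.base x') from (f.fiberι _).isEmbedding.injective (by rw [Scheme.Hom.fiberι_asFiber, hb])]
  have ha : IsClosed ({a} : Set ↑(f.fiber (g.base (f'.base x')))) := key _ hy a e'
  let i := (f.fiber (g.base (f'.base x'))).fromSpecResidueField a
  haveI : IsClosedImmersion i := isClosed_singleton_iff_isClosedImmersion.mp ha
  haveI : LocallyOfFiniteType (f.fiberToSpecResidueField (g.base (f'.base x'))) := MorphismProperty.pullback_snd _ _ inferInstance
  haveI : IsFinite (i ≫ f.fiberToSpecResidueField (g.base (f'.base x'))) :=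
    (isFinite_iff_locallyOfFiniteType_of_jacobsonSpace).mpr inferInstance
  have hT : IsPullback (pullback.fst i φ) (pullback.snd i φ ≫ f'.fiberToSpecResidueField (f'.base x'))
      (i ≫ f.fiberToSpecResidueField (g.base (f'.base x'))) (Spec.map (g.residueFieldMap (f'.base x'))) :=
    (IsPullback.of_hasPullback i φ).paste_vert hpb
  haveI : IsFinite (pullback.snd i φ ≫ f'.fiberToSpecResidueField (f'.base x')) := MorphismProperty.of_isPullback hT inferInstance
  have hdisc : _root_.IsDiscrete (Set.univ : Set ↑(pullback i φ)) := by
    convert (pullback.snd i φ ≫ f'.fiberToSpecResidueField (f'.base x')).isDiscrete_preimage_singleton (IsLocalRing.closedPoint _)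
    ext t
    simp only [Set.mem_univ, Set.mem_preimage, Set.mem_singleton_iff, true_iff]
    exact Subsingleton.elim (α := PrimeSpectrum _) _ _
  haveI : DiscreteTopology ↑(pullback i φ) := isDiscrete_univ_iff.1 hdisc
  have hmem : f'.asFiber x' ∈ Set.range (pullback.snd i φ) := by
    rw [Scheme.Pullback.range_snd]
    show φ.base (f'.asFiber x') ∈ Set.range i
    rw [Scheme.range_fromSpecResidueField]
    exact hadef.symm
  obtain ⟨t, ht⟩ := hmem
  rw [← ht, ← Set.image_singleton]
  exact (pullback.snd i φ).isClosedEmbedding.isClosedMap _ (isClosed_discrete _)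

end Groth.Agent.S9333
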