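import Groth.Statements.S9334
import Mathlib
-- import your own Groth.Agent.* helpers here

set_option autoImplicit false
universe u
open QFin

namespace Groth.Agent.S9334

open AlgebraicGeometry CategoryTheory in
/-- Let f : X → S be locally of finite type, x ∈ X, and write s = f x. The morphism f is quasi-finite at
x exactly when x is a closed point of the fibre X_s and no point x' ≠ x of X_s specializes to x. -/
theorem result {X S : Scheme.{u}} (f : X ⟶ S) [LocallyOfFiniteType f] (x : X) :
    f.QuasiFiniteAt x ↔
      (IsClosed ({f.asFiber x} : Set ↑(f.fiber (f.base x))) ∧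
        ∀ x' : ↑(f.fiber (f.base x)), x' ⤳ f.asFiber x → x' = f.asFiber x) := by
  rw [Scheme.Hom.quasiFiniteAt_iff_isOpen_singleton_asFiber]
  constructor
  · intro h
    exact ⟨isClosed_singleton_of_isLocallyClosed_singleton h.isLocallyClosed, fun x' hx' => hx'.mem_open h rfl⟩
  · rintro ⟨hc, hg⟩
    haveI : LocallyOfFiniteType (f.fiberToSpecResidueField (f x)) :=
      inferInstanceAs (LocallyOfFiniteType (CategoryTheory.Limits.pullback.snd f (S.fromSpecResidueField (f x))))
    haveI : IsLocallyNoetherian (f.fiber (f x)) :=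
      LocallyOfFiniteType.isLocallyNoetherian (f.fiberToSpecResidueField (f x))
    obtain ⟨_, ⟨(W : (f.fiber (f x)).Opens), hW, rfl⟩, hxW, -⟩ :=
      (f.fiber (f x)).isBasis_affineOpens.exists_subset_of_mem_open (Set.mem_univ (f.asFiber x)) isOpen_univ
    haveI : IsNoetherianRing Γ(f.fiber (f x), W) := IsLocallyNoetherian.component_noetherian ⟨W, hW⟩
    have ho : IsOpen (hW.fromSpec ⁻¹' {f.asFiber x}) := by
      refine PrimeSpectrum.isOpen_of_stableUnderGeneralization_of_isConstructible ?_ ?_
      · intro a b hba ha
        exact hg _ ((ha : hW.fromSpec a = f.asFiber x) ▸ hba.map hW.fromSpec.continuous)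
      · have hcl : IsClosed (X := PrimeSpectrum Γ(f.fiber (f x), W)) (hW.fromSpec ⁻¹' {f.asFiber x}) :=
          hc.preimage hW.fromSpec.continuous
        have hret : Topology.IsConstructible (X := PrimeSpectrum Γ(f.fiber (f x), W)) ((hW.fromSpec ⁻¹' {f.asFiber x})ᶜ) :=
          IsRetrocompact.isConstructible hcl.isOpen_compl (fun U _ _ => TopologicalSpace.NoetherianSpace.isCompact _)
        exact compl_compl (hW.fromSpec ⁻¹' {f.asFiber x}) ▸ hret.compl
    haveI : IsOpenImmersion hW.fromSpec := hW.isOpenImmersion_fromSpec
    have := hW.fromSpec.isOpenEmbedding.isOpenMap _ ho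
    rw [Set.image_preimage_eq_of_subset] at this
    · exact this
    · rw [hW.range_fromSpec]
      exact Set.singleton_subset_iff.mpr hxW

end Groth.Agent.S9334
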