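import Groth.Statements.S9335
import Mathlib
-- import your own Groth.Agent.* helpers here

set_option autoImplicit false
universe u
open QFin

namespace Groth.Agent.S9335

open AlgebraicGeometry CategoryTheory in
/-- If f : X → S is of finite type and s ∈ S, then f is quasi-finite at only finitely many points of the
fibre over s. -/
theorem result {X S : Scheme.{u}} (f : X ⟶ S) [LocallyOfFiniteType f] [QuasiCompact f] (s : S) :
    {x : ↑X | f.base x = s ∧ f.QuasiFiniteAt x}.Finite := by
  let F := f.fiber s
  haveI : LocallyOfFiniteType (f.fiberToSpecResidueField s) :=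
    inferInstanceAs (LocallyOfFiniteType (CategoryTheory.Limits.pullback.snd f (S.fromSpecResidueField s)))
  haveI : IsLocallyNoetherian F := LocallyOfFiniteType.isLocallyNoetherian (f.fiberToSpecResidueField s)
  haveI : IsNoetherian F := ⟨⟩
  let D : Set F := {p | IsOpen ({p} : Set F)}
  haveI : DiscreteTopology D := by
    rw [discreteTopology_iff_isOpen_singleton]
    intro p
    convert (p.2 : IsOpen ({p.1} : Set F)).preimage continuous_subtype_val using 1
    ext q; simp [Subtype.ext_iff]
  haveI : Finite D := TopologicalSpace.NoetherianSpace.finite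
  refine ((Set.toFinite D).image (f.fiberι s)).subset ?_
  rintro x ⟨rfl, hx⟩
  exact ⟨f.asFiber x, (Scheme.Hom.quasiFiniteAt_iff_isOpen_singleton_asFiber.mp hx), f.fiberι_asFiber x⟩

end Groth.Agent.S9335
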