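import Mathlib
import Groth.Statements.S9336
-- import your own Groth.Agent.* helpers here

set_option autoImplicit false
universe u
open QFin

namespace Groth.Agent.S9336

open CategoryTheory

open AlgebraicGeometry CategoryTheory in
/-- Let f : X → Y be surjective and g : Y → S locally of finite type. If g ∘ f is locally quasi-finite
(and locally of finite type), then g is locally quasi-finite. -/
theorem result {X Y S : Scheme.{u}} (f : X ⟶ Y) (g : Y ⟶ S) [Surjective f]
    [LocallyQuasiFinite (f ≫ g)] [LocallyOfFiniteType (f ≫ g)] [LocallyOfFiniteType g] :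
    LocallyQuasiFinite g := by
  haveI : LocallyOfFiniteType f := locallyOfFiniteType_of_comp f g
  rw [locallyQuasiFinite_iff_isDiscrete_preimage_singleton]
  intro s
  haveI : LocallyOfFiniteType (g.fiberToSpecResidueField s) := MorphismProperty.pullback_snd _ _ inferInstance
  haveI : JacobsonSpace (g.fiber s) := LocallyOfFiniteType.jacobsonSpace (g.fiberToSpecResidueField s)
  let f' : (f ≫ g).fiber s ⟶ g.fiber s :=
    Limits.pullback.lift ((f ≫ g).fiberι s ≫ f) ((f ≫ g).fiberToSpecResidueField s)
      (by rw [Category.assoc]; exact Limits.pullback.condition)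
  have hf' : f' ≫ g.fiberι s = (f ≫ g).fiberι s ≫ f := Limits.pullback.lift_fst _ _ _
  haveI : LocallyOfFiniteType (f' ≫ g.fiberToSpecResidueField s) := by
    rw [show f' ≫ g.fiberToSpecResidueField s = (f ≫ g).fiberToSpecResidueField s from Limits.pullback.lift_snd _ _ _]
    exact MorphismProperty.pullback_snd _ _ inferInstance
  haveI : LocallyOfFiniteType f' := locallyOfFiniteType_of_comp f' (g.fiberToSpecResidueField s)
  haveI : DiscreteTopology ((f ≫ g).fiber s) :=
    haveI := isDiscrete_iff_discreteTopology.mp ((f ≫ g).isDiscrete_preimage_singleton s)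
    ((f ≫ g).fiberHomeo s).symm.discreteTopology
  haveI : T1Space (g.fiber s) := ⟨fun y => by
    obtain ⟨x, hx⟩ := f.surjective (g.fiberι s y)
    have hxs : x ∈ (f ≫ g) ⁻¹' {s} := by
      have h1 : g.fiberι s y ∈ g ⁻¹' {s} := g.range_fiberι s ▸ ⟨y, rfl⟩
      rw [Set.mem_preimage, Scheme.Hom.comp_apply, hx]
      exact h1
    rw [← (f ≫ g).range_fiberι s] at hxs
    obtain ⟨x', rfl⟩ := hxs
    have hy : f' x' = y := by
      apply (g.fiberι s).isEmbedding.injective
      rw [← Scheme.Hom.comp_apply, hf', Scheme.Hom.comp_apply, hx]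
    rw [← hy]
    exact Scheme.Hom.closePoints_subset_preimage_closedPoints f' (show x' ∈ closedPoints _ from isClosed_discrete _)⟩
  haveI : IsLocallyNoetherian (g.fiber s) := LocallyOfFiniteType.isLocallyNoetherian (g.fiberToSpecResidueField s)
  haveI : DiscreteTopology (g.fiber s) := by
    refine discreteTopology_iff_isOpen_singleton.mpr fun y => ?_
    obtain ⟨_, ⟨V, hV, rfl⟩, hyV, -⟩ := (g.fiber s).isBasis_affineOpens.exists_subset_of_mem_open (Set.mem_univ y) isOpen_univ
    obtain ⟨W, rfl⟩ : ∃ W : (g.fiber s).Opens, W = V := ⟨V, rfl⟩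
    haveI : IsAffine W.toScheme := hV
    haveI : IsNoetherian W.toScheme := {}
    haveI : T1Space W.toScheme := inferInstanceAs (T1Space {x // x ∈ W})
    haveI : Finite W.toScheme := by
      have hfin := TopologicalSpace.NoetherianSpace.finite_irreducibleComponents (α := W.toScheme)
      rw [← Set.finite_univ_iff]
      rw [← sUnion_irreducibleComponents]
      refine hfin.sUnion fun C hC => ?_
      obtain ⟨z, hz⟩ := QuasiSober.sober hC.1 (isClosed_of_mem_irreducibleComponents C hC)
      rw [← hz.def, closure_singleton]
      exact Set.finite_singleton _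
    have h := (isOpen_discrete ({⟨y, hyV⟩} : Set W.toScheme))
    have h2 := W.ι.isOpenEmbedding.isOpenMap _ h
    rw [Set.image_singleton] at h2
    exact h2
  exact isDiscrete_iff_discreteTopology.mpr (g.fiberHomeo s).discreteTopology

end Groth.Agent.S9336
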