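import Groth.Statements.S9337
import Groth.Agent.FtPoint.Basic
-- import your own Groth.Agent.* helpers here

set_option autoImplicit false
universe u
open FtPts

namespace Groth.Agent.S9337

open AlgebraicGeometry CategoryTheory in
/-- Let k be a field and f : Spec k → S a morphism of schemes with image point u. Then f is locally of
finite type if and only if some affine open U ∋ u of S has u as a closed point and the residue field
of Spec k (that is, k) is finite over κ(u). -/
theorem result (S : Scheme.{u}) (k : Type u) [Field k] (f : Spec (CommRingCat.of k) ⟶ S) :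
    LocallyOfFiniteType f ↔
      ∃ U : S.Opens, IsAffineOpen U ∧ ∃ hu : f.base (IsLocalRing.closedPoint k) ∈ U,
        IsClosed ({⟨f.base (IsLocalRing.closedPoint k), hu⟩} : Set ↥U) ∧
          (f.residueFieldMap (IsLocalRing.closedPoint k)).hom.Finite := by
  set x : ↑(Spec (CommRingCat.of k)) := IsLocalRing.closedPoint k
  haveI : IsClosedImmersion ((Spec (CommRingCat.of k)).fromSpecResidueField x) :=
    isClosed_singleton_iff_isClosedImmersion.1 (IsLocalRing.isClosed_singleton_closedPoint k)
  haveI : Surjective ((Spec (CommRingCat.of k)).fromSpecResidueField x) :=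
    ⟨fun y => ⟨IsLocalRing.closedPoint _, (Scheme.fromSpecResidueField_apply _ _).trans
      (@Subsingleton.elim _ (inferInstanceAs (Subsingleton (PrimeSpectrum k))) _ _)⟩⟩
  haveI := isIso_of_isClosedImmersion_of_surjective ((Spec (CommRingCat.of k)).fromSpecResidueField x)
  have hkey : LocallyOfFiniteType f ↔
      LocallyOfFiniteType (Spec.map (f.residueFieldMap x) ≫ S.fromSpecResidueField (f.base x)) := by
    rw [Scheme.Hom.SpecMap_residueFieldMap_fromSpecResidueField,
      MorphismProperty.cancel_left_of_respectsIso (P := @LocallyOfFiniteType)]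
  constructor
  · intro hf
    obtain ⟨U, hU, hu, hc⟩ := Groth.Agent.FtPoint.exists_affine_isClosed f
    refine ⟨U, hU, hu, hc, ?_⟩
    haveI := hkey.1 hf
    have h1 : LocallyOfFiniteType (Spec.map (f.residueFieldMap x)) := locallyOfFiniteType_of_comp _ (S.fromSpecResidueField (f.base x))
    rw [HasRingHomProperty.Spec_iff (P := @LocallyOfFiniteType)] at h1
    letI := (f.residueFieldMap x).hom.toAlgebra
    haveI : Algebra.FiniteType (S.residueField (f.base x)) ((Spec (CommRingCat.of k)).residueField x) := h1
    exact finite_of_finite_type_of_isJacobsonRing _ _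
  · rintro ⟨U, hU, hu, hc, hfin⟩
    refine hkey.2 ?_
    haveI := Groth.Agent.FtPoint.lft_of_isClosed hu hc
    haveI : LocallyOfFiniteType (Spec.map (f.residueFieldMap x)) :=
      (HasRingHomProperty.Spec_iff (P := @LocallyOfFiniteType)).2 (RingHom.FiniteType.of_finite hfin)
    infer_instance

end Groth.Agent.S9337
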