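import Groth.Statements.S9338
import Groth.Agent.FtPoint.Basic
import Mathlib.RingTheory.HopkinsLevitzki
-- import your own Groth.Agent.* helpers here

set_option autoImplicit false
universe u
open FtPts

namespace Groth.Agent.S9338

open AlgebraicGeometry CategoryTheory in
/-- For an Artinian local ring A with residue field κ, a morphism f : Spec A → S is (locally) of finite
type exactly when the composite Spec κ → Spec A → S is. -/
theorem result (S : Scheme.{u}) (A : Type u) [CommRing A] [IsArtinianRing A] [IsLocalRing A]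
    (f : Spec (CommRingCat.of A) ⟶ S) :
    LocallyOfFiniteType f ↔
      LocallyOfFiniteType (Spec.map (CommRingCat.ofHom (IsLocalRing.residue A)) ≫ f) := by
  haveI : IsClosedImmersion (Spec.map (CommRingCat.ofHom (IsLocalRing.residue A))) :=
    IsClosedImmersion.spec_of_surjective _ IsLocalRing.residue_surjective
  refine ⟨fun _ => inferInstance, fun h => ?_⟩
  obtain ⟨_, ⟨V, hV, rfl⟩, hfV, -⟩ := S.isBasis_affineOpens.exists_subset_of_mem_open
    (Set.mem_univ (f.base (IsLocalRing.closedPoint A))) isOpen_univ
  obtain ⟨ψ, hψ⟩ := Groth.Agent.FtPoint.exists_factor f hV hfV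
  refine (Groth.Agent.FtPoint.lft_iff_finiteType hψ).2 ?_
  have h' := (Groth.Agent.FtPoint.lft_iff_finiteType (ψ := ψ ≫ CommRingCat.ofHom (IsLocalRing.residue A))
    (by rw [hψ, Spec.map_comp, Category.assoc])).1 h
  refine Groth.Agent.FtPoint.finiteType_of_quotient ψ.hom (IsLocalRing.maximalIdeal A) ?_
    ((isNoetherianRing_iff_ideal_fg A).1 inferInstance _) h'
  rw [← IsLocalRing.jacobson_eq_maximalIdeal ⊥ bot_ne_top]
  exact IsArtinianRing.isNilpotent_jacobson_bot

end Groth.Agent.S9338
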