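import Groth.Statements.S9340
import Groth.Agent.FtPoint.Basic
import Groth.Agent.S9339
-- import your own Groth.Agent.* helpers here

set_option autoImplicit false
universe u
open FtPts

namespace Groth.Agent.S9340

open AlgebraicGeometry CategoryTheory in
/-- A surjective morphism locally of finite type maps the set of finite type points of the source onto
the set of finite type points of the target. -/
theorem result {T S : Scheme.{u}} (f : T ⟶ S) [LocallyOfFiniteType f] [Surjective f] :
    f.base '' {t : ↑T | LocallyOfFiniteType (T.fromSpecResidueField t)} =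
      {s : ↑S | LocallyOfFiniteType (S.fromSpecResidueField s)} := by
  refine (Groth.Agent.S9339.result f).antisymm fun s hs => ?_
  obtain ⟨U, -, hsU, hc⟩ := Groth.Agent.FtPoint.lft_iff_exists_isClosed.1 hs
  have hset : IsLocallyClosed (f.base ⁻¹' {s}) := by
    refine IsLocallyClosed.preimage ?_ f.base.hom.continuous
    obtain ⟨C, hC, hCs⟩ := isClosed_induced_iff.1 hc
    refine ⟨U, C, U.isOpen, hC, Set.ext fun x => ⟨?_, fun ⟨hxU, hxC⟩ => ?_⟩⟩
    · rintro rfl
      exact ⟨hsU, (Set.ext_iff.1 hCs ⟨x, hsU⟩).2 rfl⟩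
    · exact congrArg Subtype.val (show (⟨x, hxU⟩ : ↥U) = ⟨s, hsU⟩ from (Set.ext_iff.1 hCs ⟨x, hxU⟩).1 hxC)
  obtain ⟨t, hts, ht⟩ := Groth.Agent.FtPoint.exists_mem_of_isLocallyClosed hset (f.surjective s)
  exact ⟨t, ht, hts⟩

end Groth.Agent.S9340
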