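import Groth.Statements.S9344
import Mathlib


set_option autoImplicit false
universe u
open Dom

namespace Groth.Agent.S9344

open AlgebraicGeometry CategoryTheory in
/-- The base change of a dominant morphism f : X → S along an open morphism g : S' → S is dominant. -/
theorem result {X S X' S' : Scheme.{u}} (f : X ⟶ S) [IsDominant f]
    (g : S' ⟶ S) (g' : X' ⟶ X) (f' : X' ⟶ S') (hsq : IsPullback g' f' f g) (hg : IsOpenMap g.base) :
    IsDominant f' := by
  have hr : Set.range f' = g ⁻¹' Set.range f := by
    rw [show f' = hsq.isoPullback.hom ≫ Limits.pullback.snd f g from hsq.isoPullback_hom_snd.symm]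
    simp only [Scheme.Hom.comp_base, TopCat.coe_comp, Set.range_comp,
      hsq.isoPullback.hom.surjective.range_eq, Set.image_univ, Scheme.Pullback.range_snd]
  rw [isDominant_iff, DenseRange, hr]
  exact f.denseRange.preimage hg

end Groth.Agent.S9344
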