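import Mathlib
import Groth.Statements.S9345
-- import your own Groth.Agent.* helpers here

set_option autoImplicit false
universe u
open Dom

namespace Groth.Agent.S9345

open AlgebraicGeometry CategoryTheory in
/-- For a morphism f : X → S whose source has only finitely many irreducible components, the image of f
is dense exactly when it contains the generic point of each irreducible component of S, and then S
too has finitely many. -/
theorem result {X S : Scheme.{u}} (f : X ⟶ S)
    (hX : (irreducibleComponents (↑X : Type u)).Finite) :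
    (IsDominant f ↔ ∀ s : ↑S, closure {s} ∈ irreducibleComponents (↑S : Type u) → s ∈ Set.range f.base) ∧
      (IsDominant f → (irreducibleComponents (↑S : Type u)).Finite) := by
  classical
  have hgen : ∀ Z ∈ irreducibleComponents (X : Type u), ∃ z : X, IsGenericPoint z Z := fun Z hZ =>
    QuasiSober.sober hZ.1 (isClosed_of_mem_irreducibleComponents Z hZ)
  set G := irreducibleComponents (X : Type u)
  choose g hg using fun Z : G => hgen Z.1 Z.2
  haveI : Finite G := hX
  have hcl : closure (Set.range f.base) ⊆ ⋃ Z : G, closure {f.base (g Z)} := by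
    refine closure_minimal ?_ (isClosed_iUnion_of_finite fun _ => isClosed_closure)
    rintro _ ⟨x, rfl⟩
    refine Set.mem_iUnion.2 ⟨⟨_, irreducibleComponent_mem_irreducibleComponents x⟩, ?_⟩
    exact ((hg _).specializes mem_irreducibleComponent).map f.continuous |>.mem_closure
  have key : ∀ [AlgebraicGeometry.IsDominant f], ∀ s : ↑S, closure {s} ∈ irreducibleComponents (↑S : Type u) → ∃ Z : G, f.base (g Z) = s := by
    intro _ s hs
    obtain ⟨Z, hZs⟩ := Set.mem_iUnion.1 (hcl ((AlgebraicGeometry.Scheme.Hom.denseRange f).closure_range ▸ trivial : s ∈ _))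
    refine ⟨Z, ?_⟩
    have h1 : closure {s} ⊆ closure {f.base (g Z)} := closure_minimal (Set.singleton_subset_iff.2 hZs) isClosed_closure
    exact ((show IsGenericPoint (f.base (g Z)) (closure {s}) from (subset_antisymm (hs.2 isIrreducible_singleton.closure h1) h1)).eq isGenericPoint_closure)
  refine ⟨⟨fun hd s hs => ?_, fun h => ⟨fun t => ?_⟩⟩, fun hd => ?_⟩
  · obtain ⟨Z, hZ⟩ := key s hs
    exact ⟨_, hZ⟩
  · obtain ⟨η, hη⟩ := QuasiSober.sober (isIrreducible_irreducibleComponent (x := t)) isClosed_irreducibleComponent
    obtain ⟨x, hx⟩ := h η (hη.def ▸ irreducibleComponent_mem_irreducibleComponents t)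
    exact (hη.specializes mem_irreducibleComponent).mem_closed isClosed_closure (subset_closure ⟨x, hx⟩)
  · refine (Set.finite_range fun Z : G => closure {f.base (g Z)}).subset fun W hW => ?_
    obtain ⟨η, hη⟩ := QuasiSober.sober hW.1 (isClosed_of_mem_irreducibleComponents W hW)
    obtain ⟨Z, hZe⟩ := key η (hη.def ▸ hW)
    exact ⟨Z, by simp only [hZe]; exact hη.def⟩

end Groth.Agent.S9345
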