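import Groth.Statements.S9346
import Mathlib

set_option autoImplicit false
universe u
open Dom

namespace Groth.Agent.S9346

open AlgebraicGeometry CategoryTheory in
/-- For a morphism f : X → Y between integral schemes, these six conditions coincide: (1) f is dominant;
(2) f sends the generic point of X to that of Y; (3) there exist affine opens U ⊆ X, V ⊆ Y with U
nonempty and U ⊆ f⁻¹V such that the induced ring map on sections is injective; (4) the same for all
such pairs; (5) for some x ∈ X the map of local rings O_{Y,f x} → O_{X,x} is injective; (6) the same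
for all x. -/
theorem result {X Y : Scheme.{u}} [AlgebraicGeometry.IsIntegral X] [AlgebraicGeometry.IsIntegral Y] (f : X ⟶ Y) :
    [IsDominant f,
      f.base (genericPoint ↑X) = genericPoint ↑Y,
      ∃ (U : X.Opens) (V : Y.Opens) (hUV : U ≤ f ⁻¹ᵁ V), IsAffineOpen U ∧ IsAffineOpen V ∧ (U : Set ↑X).Nonempty ∧
        Function.Injective (f.appLE V U hUV),
      ∀ (U : X.Opens) (V : Y.Opens) (hUV : U ≤ f ⁻¹ᵁ V), IsAffineOpen U → IsAffineOpen V → (U : Set ↑X).Nonempty →
        Function.Injective (f.appLE V U hUV),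
      ∃ x : ↑X, Function.Injective (f.stalkMap x),
      ∀ x : ↑X, Function.Injective (f.stalkMap x)].TFAE := by
  have hgen : ∀ (U : X.Opens), (U : Set X).Nonempty → genericPoint X ∈ U := fun U hU =>
    ((genericPoint_spec X).mem_open_set_iff U.isOpen).2 (by simpa using hU)
  have h26 : f.base (genericPoint X) = genericPoint Y → ∀ x, Function.Injective (f.stalkMap x) := by
    intro h2 x
    have hF : IsField (Y.presheaf.stalk (f.base (genericPoint X))) := by
      rw [h2]; exact Field.toIsField Y.functionField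
    rw [injective_iff_map_eq_zero]
    intro a ha
    obtain ⟨V, hxV, s, rfl⟩ := Y.presheaf.germ_exist a
    rw [Scheme.Hom.germ_stalkMap_apply] at ha
    have h0 : f.app V s = 0 := (injective_iff_map_eq_zero _).1 (germ_injective_of_isIntegral _ x hxV) _ ha
    have hη : f.base (genericPoint X) ∈ V := hgen (f ⁻¹ᵁ V) ⟨x, hxV⟩
    have h1 : f.stalkMap (genericPoint X) (Y.presheaf.germ V _ hη s) = 0 := by
      rw [Scheme.Hom.germ_stalkMap_apply, h0, map_zero]
    have h3 : Y.presheaf.germ V _ hη s = 0 := by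
      by_contra hne
      obtain ⟨b, hb⟩ := hF.mul_inv_cancel hne
      have h4 := congrArg (f.stalkMap (genericPoint X)) hb
      rw [map_mul, h1, zero_mul, map_one] at h4
      exact zero_ne_one h4
    rw [(injective_iff_map_eq_zero _).1 (germ_injective_of_isIntegral _ _ hη) _ h3, map_zero]
  have h32 : ∀ (U : X.Opens) (V : Y.Opens) (hUV : U ≤ f ⁻¹ᵁ V), IsAffineOpen V → (U : Set X).Nonempty →
      Function.Injective (f.appLE V U hUV) → f.base (genericPoint X) = genericPoint Y := by
    intro U V hUV hV hU hinj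
    refine ((genericPoint_spec Y).eq ?_).symm
    refine isGenericPoint_iff_forall_closed isClosed_univ (Set.mem_univ _) |>.2 fun Z hZ hmem => ?_
    by_contra hne
    have hnonempty : ((V : Set Y) ∩ Zᶜ).Nonempty := by
      refine nonempty_preirreducible_inter V.isOpen hZ.isOpen_compl ?_ ?_
      · exact ⟨_, hUV (hgen U hU)⟩
      · exact Set.nonempty_compl.2 fun h => hne (h ▸ Set.Subset.rfl)
    obtain ⟨y, hyV, hyZ⟩ := hnonempty
    obtain ⟨s, hsle, hys⟩ := hV.exists_basicOpen_le (V := ⟨Zᶜ, hZ.isOpen_compl⟩) ⟨y, hyZ⟩ hyV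
    have hs0 : f.appLE V U hUV s = 0 := by
      rw [← basicOpen_eq_bot_iff, eq_bot_iff]
      intro z hz
      exfalso
      have hη := hgen _ ⟨z, hz⟩
      rw [Scheme.basicOpen_appLE] at hη
      exact hsle hη.2 hmem
    have : s = 0 := (injective_iff_map_eq_zero _).1 hinj _ hs0
    rw [this, Scheme.basicOpen_zero] at hys
    exact hys
  tfae_have 1 → 2 := by
    intro h
    refine ((genericPoint_spec Y).eq ?_).symm
    have := (genericPoint_spec X).image f.continuous
    rwa [Set.image_univ, f.denseRange.closure_range] at this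
  tfae_have 2 → 1 := by
    intro h
    refine ⟨dense_iff_closure_eq.2 (Set.eq_univ_of_univ_subset ?_)⟩
    rw [← (genericPoint_spec Y).def, ← h]
    exact closure_mono (Set.singleton_subset_iff.2 ⟨_, rfl⟩)
  tfae_have 2 → 6 := h26
  tfae_have 6 → 5 := fun h => ⟨genericPoint X, h _⟩
  tfae_have 5 → 3 := by
    rintro ⟨x, hx⟩
    obtain ⟨V, hV, hxV, -⟩ := exists_isAffineOpen_mem_and_subset (X := Y) (x := f.base x) (U := ⊤) trivial
    obtain ⟨U, hU, hxU, hUV⟩ := exists_isAffineOpen_mem_and_subset (X := X) (x := x) (U := f ⁻¹ᵁ V) hxV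
    refine ⟨U, V, hUV, hU, hV, ⟨x, hxU⟩, ?_⟩
    rw [injective_iff_map_eq_zero]
    intro s hs
    refine (injective_iff_map_eq_zero _).1 (germ_injective_of_isIntegral _ _ hxV) _ (hx ?_)
    rw [Scheme.Hom.germ_stalkMap_apply, map_zero]
    have := congrArg (X.presheaf.germ U x hxU) hs
    rw [map_zero, Scheme.Hom.appLE, CommRingCat.comp_apply, TopCat.Presheaf.germ_res_apply] at this
    exact this
  tfae_have 3 → 2 := fun ⟨U, V, hUV, _, hV, hU, hinj⟩ => h32 U V hUV hV hU hinj
  tfae_have 2 → 4 := by
    intro h2 U V hUV hU hV hne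
    rw [injective_iff_map_eq_zero]
    intro s hs
    have hxU := hgen U hne
    refine (injective_iff_map_eq_zero _).1 (germ_injective_of_isIntegral Y (f.base (genericPoint X)) (hUV hxU)) _ (h26 h2 _ ?_)
    rw [Scheme.Hom.germ_stalkMap_apply, map_zero]
    have := congrArg (X.presheaf.germ U _ hxU) hs
    rw [map_zero, Scheme.Hom.appLE, CommRingCat.comp_apply, TopCat.Presheaf.germ_res_apply] at this
    exact this
  tfae_have 4 → 3 := by
    intro h
    obtain ⟨V, hV, hxV, -⟩ := exists_isAffineOpen_mem_and_subset (X := Y) (x := f.base (genericPoint X)) (U := ⊤) trivial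
    obtain ⟨U, hU, hxU, hUV⟩ := exists_isAffineOpen_mem_and_subset (X := X) (x := genericPoint X) (U := f ⁻¹ᵁ V) hxV
    exact ⟨U, V, hUV, hU, hV, ⟨_, hxU⟩, h U V hUV hU hV ⟨_, hxU⟩⟩
  tfae_finish

end Groth.Agent.S9346
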