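import Groth.Statements.S9348
import Mathlib


set_option autoImplicit false
universe u
open Dom

namespace Groth.Agent.S9348

open AlgebraicGeometry CategoryTheory in
/-- Let f : X → Y be a morphism and g : Y' → Y open and surjective. If the base change f' : X ×_Y Y' →
Y' of f is quasi-compact, then so is f. -/
theorem result {X Y X' Y' : Scheme.{u}} (f : X ⟶ Y) (g : Y' ⟶ Y) [Surjective g]
    (hg : IsOpenMap g.base) (g' : X' ⟶ X) (f' : X' ⟶ Y') (hsq : IsPullback g' f' f g) [QuasiCompact f'] :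
    QuasiCompact f := by
  refine ⟨fun U hU hUc => ?_⟩
  -- a quasi-compact open of `Y'` mapping onto `U`
  obtain ⟨K, hKo, hKc, hKU⟩ : ∃ K : Set Y', IsOpen K ∧ IsCompact K ∧ g '' K = U := by
    have hcov : U ⊆ ⋃ W : {W : Y'.affineOpens // (W.1 : Set Y') ⊆ g ⁻¹' U}, g '' (W.1.1 : Set Y') := by
      intro y hy
      obtain ⟨y', rfl⟩ := g.surjective y
      obtain ⟨W, hW, hyW, hWU⟩ := exists_isAffineOpen_mem_and_subset
        (X := Y') (x := y') (U := ⟨g ⁻¹' U, hU.preimage g.continuous⟩) hy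
      exact Set.mem_iUnion.mpr ⟨⟨⟨W, hW⟩, hWU⟩, y', hyW, rfl⟩
    obtain ⟨s, hs⟩ := hUc.elim_finite_subcover _ (fun W => hg _ W.1.1.isOpen) hcov
    refine ⟨⋃ W ∈ s, (W.1.1 : Set Y'), isOpen_biUnion fun W _ => W.1.1.isOpen,
      s.isCompact_biUnion fun W _ => W.1.2.isCompact, ?_⟩
    rw [Set.image_iUnion₂]
    exact (Set.iUnion₂_subset fun W _ => Set.image_subset_iff.mpr W.2).antisymm hs
  have hc : IsCompact (g' '' (f' ⁻¹' K)) :=
    (f'.isCompact_preimage (U := ⟨K, hKo⟩) hKc).image g'.continuous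
  have he : g' '' (f' ⁻¹' K) = f ⁻¹' U := by
    ext x
    constructor
    · rintro ⟨x', hx', rfl⟩
      change f (g' x') ∈ U
      rw [← Scheme.Hom.comp_apply, hsq.w, Scheme.Hom.comp_apply, ← hKU]
      exact ⟨_, hx', rfl⟩
    · intro hx
      obtain ⟨k, hk, hkx⟩ : f x ∈ g '' K := hKU ▸ hx
      obtain ⟨z, hz₁, hz₂⟩ := Scheme.Pullback.exists_preimage_pullback (f := f) (g := g) x k hkx.symm
      refine ⟨hsq.isoPullback.inv z, ?_, ?_⟩
      · change f' (hsq.isoPullback.inv z) ∈ K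
        rw [← Scheme.Hom.comp_apply, hsq.isoPullback_inv_snd, hz₂]
        exact hk
      · rw [← Scheme.Hom.comp_apply, hsq.isoPullback_inv_fst, hz₁]
  exact he ▸ hc

end Groth.Agent.S9348
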