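import Groth.Statements.S9349
import Groth.Agent.FlatDescent.LocalFP.Sheaf
import Groth.Agent.QCohLib.TildeFlat
import Groth.Agent.QCohLib.Criterion
-- import your own Groth.Agent.* helpers here

set_option autoImplicit false
universe u
open FlatMod

namespace Groth.Agent.S9349

open AlgebraicGeometry CategoryTheory in
/-- Let f : X → Y be an affine morphism of S-schemes, with q : Y → S, and F a quasi-coherent O_X-module.
Flatness of F over S (along f ≫ q) is equivalent to flatness of f_*F over S (along q). -/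
theorem result {X Y S : Scheme.{u}} (f : X ⟶ Y) [IsAffineHom f] (q : Y ⟶ S)
    (F : X.Modules) (hF : Coh.IsQCoh F) :
    FlatMod.IsFlatOver (f ≫ q) F ↔ FlatMod.IsFlatOver q ((Coh.push f).obj F) := by
  haveI : F.IsQuasicoherent := hF
  haveI : ((Scheme.Modules.pushforward f).obj F).IsQuasicoherent :=
    Groth.Agent.QCohLib.isQuasicoherent_pushforward (M := F) f
  have key : ∀ (W : Y.Opens) (V : S.Opens) (e : W ≤ q ⁻¹ᵁ V),
      (@Module.Flat Γ(S, V) Γ((Scheme.Modules.pushforward f).obj F, W) _ _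
        (Groth.FlatDescent.appLEModule q ((Scheme.Modules.pushforward f).obj F) V W e) ↔
      @Module.Flat Γ(S, V) Γ(F, f ⁻¹ᵁ W) _ _
        (Groth.FlatDescent.appLEModule (f ≫ q) F V (f ⁻¹ᵁ W) (fun x hx => e hx))) := by
    intro W V e
    letI M1 := Groth.FlatDescent.appLEModule q ((Scheme.Modules.pushforward f).obj F) V W e
    letI M2 := Groth.FlatDescent.appLEModule (f ≫ q) F V (f ⁻¹ᵁ W) (fun x hx => e hx)
    let eq : Γ((Scheme.Modules.pushforward f).obj F, W) ≃ₗ[Γ(S, V)] Γ(F, f ⁻¹ᵁ W) :=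
      { toFun := fun x => x
        map_add' := fun _ _ => rfl
        map_smul' := fun r x => by
          have h : q.appLE V W e ≫ f.app W = (f ≫ q).appLE V (f ⁻¹ᵁ W) (fun x hx => e hx) := by
            rw [Scheme.Hom.app_eq_appLE, Scheme.Hom.appLE_comp_appLE]
          exact congrArg (fun g => HSMul.hSMul (α := Γ(X, f ⁻¹ᵁ W)) (β := Γ(F, f ⁻¹ᵁ W)) (g.hom r) x) h
        invFun := fun x => x
        left_inv := fun _ => rfl
        right_inv := fun _ => rfl }
    exact Module.Flat.equiv_iff eq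
  constructor
  · intro h y
    obtain ⟨_, ⟨V, hV, rfl⟩, hyV, -⟩ :=
      S.isBasis_affineOpens.exists_subset_of_mem_open (Set.mem_univ (q y)) isOpen_univ
    obtain ⟨_, ⟨W, hW, rfl⟩, hyW, e⟩ := Y.isBasis_affineOpens.exists_subset_of_mem_open hyV (q ⁻¹ᵁ V).2
    refine (Groth.FlatDescent.isFlatOverAt_iff q ((Scheme.Modules.pushforward f).obj F) hV hW e hyW).2 ?_
    letI := (q.appLE V W e).hom.toAlgebra
    letI := Groth.FlatDescent.appLEModule q ((Scheme.Modules.pushforward f).obj F) V W e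
    haveI : IsScalarTower Γ(S, V) Γ(Y, W) Γ((Scheme.Modules.pushforward f).obj F, W) :=
      IsScalarTower.of_algebraMap_smul fun _ _ => rfl
    haveI : Module.Flat Γ(S, V) Γ((Scheme.Modules.pushforward f).obj F, W) :=
      (key W V e).2 (Groth.FlatDescent.LocalFP.flat_sections (f ≫ q) F hV (hW.preimage f) _ fun x _ => h x)
    exact Groth.Agent.QCohLib.flat_of_isLocalizedModule_tower (R := Γ(S, V)) (S := Γ(Y, W))
      (hW.primeIdealOf ⟨y, hyW⟩).asIdeal.primeCompl
      (LocalizedModule.mkLinearMap _ Γ((Scheme.Modules.pushforward f).obj F, W))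
  · intro h x
    obtain ⟨_, ⟨V, hV, rfl⟩, hxV, -⟩ :=
      S.isBasis_affineOpens.exists_subset_of_mem_open (Set.mem_univ (q (f x))) isOpen_univ
    obtain ⟨_, ⟨W, hW, rfl⟩, hxW, e⟩ := Y.isBasis_affineOpens.exists_subset_of_mem_open hxV (q ⁻¹ᵁ V).2
    have e' : f ⁻¹ᵁ W ≤ (f ≫ q) ⁻¹ᵁ V := fun z hz => e hz
    refine (Groth.FlatDescent.isFlatOverAt_iff (f ≫ q) F hV (hW.preimage f) e' hxW).2 ?_
    letI := ((f ≫ q).appLE V (f ⁻¹ᵁ W) e').hom.toAlgebra
    letI := Groth.FlatDescent.appLEModule (f ≫ q) F V (f ⁻¹ᵁ W) e'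
    haveI : IsScalarTower Γ(S, V) Γ(X, f ⁻¹ᵁ W) Γ(F, f ⁻¹ᵁ W) :=
      IsScalarTower.of_algebraMap_smul fun _ _ => rfl
    haveI : Module.Flat Γ(S, V) Γ(F, f ⁻¹ᵁ W) :=
      (key W V e).1 (Groth.FlatDescent.LocalFP.flat_sections q ((Scheme.Modules.pushforward f).obj F) hV hW e
        fun y _ => h y)
    exact Groth.Agent.QCohLib.flat_of_isLocalizedModule_tower (R := Γ(S, V)) (S := Γ(X, f ⁻¹ᵁ W))
      ((hW.preimage f).primeIdealOf ⟨x, hxW⟩).asIdeal.primeCompl (LocalizedModule.mkLinearMap _ Γ(F, f ⁻¹ᵁ W))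

end Groth.Agent.S9349
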