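import Groth.Statements.S9356
import Groth.Agent.LocalDim.Basic
-- import your own Groth.Agent.* helpers here

set_option autoImplicit false
universe u
open FibDim

namespace Groth.Agent.S9356

open AlgebraicGeometry CategoryTheory in
/-- Let f : X → S be locally of finite type and x ⤳ x' a nontrivial specialization of points of the
fibre X_s. Then dim_x(X_s) ≤ dim_{x'}(X_s) and dim O_{X_s,x} < dim O_{X_s,x'}. (The assertion on
transcendence degrees of residue fields is a separate statement.) -/
theorem result {X S : Scheme.{u}} (f : X ⟶ S) [LocallyOfFiniteType f] (s : S)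
    (x x' : ↑(f.fiber s)) (hsp : x ⤳ x') (hne : x ≠ x') :
    FlatMor.localDim ↑(f.fiber s) x ≤ FlatMor.localDim ↑(f.fiber s) x' ∧
      ringKrullDim ((f.fiber s).presheaf.stalk x) < ringKrullDim ((f.fiber s).presheaf.stalk x') := by
  let F := f.fiber s
  let q : F ⟶ Spec (CommRingCat.of (S.residueField s)) := f.fiberToSpecResidueField s
  haveI : LocallyOfFiniteType q := MorphismProperty.of_isPullback (P := @LocallyOfFiniteType) (IsPullback.of_hasPullback f (S.fromSpecResidueField s)) inferInstance
  refine ⟨?_, ?_⟩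
  · obtain ⟨n, hn, ⟨η, hη, -, hηn⟩, -⟩ := Groth.Agent.LocalDim.exists_localDim q x
    obtain ⟨n', hn', -, hall⟩ := Groth.Agent.LocalDim.exists_localDim q x'
    rw [hn, hn', ← hηn]
    exact hall η (hη.trans hsp)
  · haveI : IsLocallyNoetherian F := LocallyOfFiniteType.isLocallyNoetherian q
    obtain ⟨U, hU, hx', -⟩ := exists_isAffineOpen_mem_and_subset (X := F) (x := x') (U := ⊤) trivial
    have hx : x ∈ U := hsp.mem_open U.isOpen hx'
    haveI : IsNoetherianRing Γ(F, U) := IsLocallyNoetherian.component_noetherian ⟨U, hU⟩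
    let p := hU.primeIdealOf ⟨x, hx⟩
    let p' := hU.primeIdealOf ⟨x', hx'⟩
    have h1 : ringKrullDim (F.presheaf.stalk x) = p.asIdeal.height := by
      letI := (F.presheaf.germ U x hx).hom.toAlgebra
      haveI := hU.isLocalization_stalk ⟨x, hx⟩
      exact IsLocalization.AtPrime.ringKrullDim_eq_height p.asIdeal (F.presheaf.stalk x)
    have h2 : ringKrullDim (F.presheaf.stalk x') = p'.asIdeal.height := by
      letI := (F.presheaf.germ U x' hx').hom.toAlgebra
      haveI := hU.isLocalization_stalk ⟨x', hx'⟩
      exact IsLocalization.AtPrime.ringKrullDim_eq_height p'.asIdeal (F.presheaf.stalk x')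
    rw [h1, h2]
    refine WithBot.coe_lt_coe.mpr (Ideal.height_strict_mono_of_isPrime (?_ : p < p'))
    refine lt_of_le_of_ne ((PrimeSpectrum.le_iff_specializes p p').mpr
      (hU.fromSpec.isOpenEmbedding.isInducing.specializes_iff.mp ?_)) fun h => hne ?_
    · show hU.fromSpec p ⤳ hU.fromSpec p'
      rw [hU.fromSpec_primeIdealOf, hU.fromSpec_primeIdealOf]; exact hsp
    · rw [show x = hU.fromSpec p from (hU.fromSpec_primeIdealOf ⟨x, hx⟩).symm, h]
      exact hU.fromSpec_primeIdealOf ⟨x', hx'⟩

end Groth.Agent.S9356
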