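import Groth.Statements.S9360
import Mathlib.AlgebraicGeometry.Morphisms.SchemeTheoreticallyDominant
import Mathlib.AlgebraicGeometry.IdealSheaf.Functorial


set_option autoImplicit false
universe u
open SchDense

namespace Groth.Agent.S9360

open AlgebraicGeometry CategoryTheory in
/-- Let U ⊆ X be a reduced open subscheme. Then the scheme-theoretic closure of U in X is X if and only
if U is scheme-theoretically dense in X (for every open W the scheme-theoretic closure of U ∩ W in W
is W); and in that case X is reduced. -/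
theorem result (X : Scheme.{u}) (U : X.Opens) [IsReduced (↑U : Scheme.{u})] :
    (IsSchemeTheoreticallyDominant U.ι ↔
        ∀ W : X.Opens, IsSchemeTheoreticallyDominant (X.homOfLE (inf_le_right : U ⊓ W ≤ W))) ∧
      (IsSchemeTheoreticallyDominant U.ι → IsReduced X) := by
  have key : ∀ Z : TopologicalSpace.Closeds X, (U : Set X) ⊆ Z →
      Scheme.IdealSheafData.vanishingIdeal Z ≤ U.ι.ker := fun Z hZ => by
    rw [← Scheme.IdealSheafData.map_bot, Scheme.IdealSheafData.le_map_iff_comap_le, le_bot_iff,
      ← Scheme.IdealSheafData.support_eq_top_iff, Scheme.IdealSheafData.support_comap]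
    refine SetLike.coe_injective (Set.eq_univ_iff_forall.2 fun a => ?_)
    show U.ι a ∈ (Scheme.IdealSheafData.vanishingIdeal Z).support
    rw [← SetLike.mem_coe, Scheme.IdealSheafData.coe_support_vanishingIdeal]
    exact hZ a.2
  have main : IsSchemeTheoreticallyDominant U.ι → IsReduced X ∧ Dense (U : Set X) := fun h => by
    have h0 := h.ker_eq_bot
    have hn : X.nilradical = ⊥ := le_bot_iff.1 (by
      rw [← Scheme.IdealSheafData.vanishingIdeal_top, ← h0]
      exact key ⊤ (by simp))
    have hZ : Scheme.IdealSheafData.vanishingIdeal ⟨closure (U : Set X), isClosed_closure⟩ = ⊥ :=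
      le_bot_iff.1 (h0 ▸ key _ subset_closure)
    refine ⟨?_, ?_⟩
    · haveI hred : ∀ V : X.affineOpens, _root_.IsReduced Γ(X, V.1) := fun V => ⟨fun a ha => by
        have : a ∈ X.nilradical.ideal V := by
          rw [Scheme.nilradical, Scheme.IdealSheafData.radical_ideal, Scheme.IdealSheafData.ideal_bot]
          obtain ⟨k, hk⟩ := ha
          exact ⟨k, by simp [hk]⟩
        rw [hn, Scheme.IdealSheafData.ideal_bot] at this
        exact this⟩
      haveI : ∀ i, IsReduced ((X.openCoverOfIsOpenCover (fun V : X.affineOpens => V.1) (iSup_affineOpens_eq_top X)).X i) :=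
        fun V => by
          haveI : IsAffine V.1.toScheme := V.2
          haveI : _root_.IsReduced Γ(X, V.1) := hred V
          haveI : _root_.IsReduced Γ(V.1.toScheme, ⊤) := isReduced_of_injective V.1.topIso.hom.hom
            (ConcreteCategory.bijective_of_isIso V.1.topIso.hom).1
          exact @isReduced_of_isAffine_isReduced V.1.toScheme _ _
      exact IsReduced.of_openCover X (X.openCoverOfIsOpenCover (fun V : X.affineOpens => V.1) (iSup_affineOpens_eq_top X))
    · have := congrArg Scheme.IdealSheafData.support hZ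
      rw [Scheme.IdealSheafData.support_bot] at this
      have e := congrArg (fun C : TopologicalSpace.Closeds X => (C : Set X)) this
      simp only [Scheme.IdealSheafData.coe_support_vanishingIdeal, TopologicalSpace.Closeds.coe_mk, TopologicalSpace.Closeds.coe_top] at e
      exact dense_iff_closure_eq.2 e
  refine ⟨⟨fun h W => ?_, fun h => ?_⟩, fun h => (main h).1⟩
  · obtain ⟨hr, hd⟩ := main h
    haveI := hr
    haveI : IsReduced W.toScheme := isReduced_of_isOpenImmersion W.ι
    haveI : IsDominant (X.homOfLE (inf_le_right : U ⊓ W ≤ W)) := by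
      rw [isDominant_iff, DenseRange]
      have : Set.range (X.homOfLE (inf_le_right : U ⊓ W ≤ W)) = W.ι ⁻¹' (U : Set X) := by
        ext a
        constructor
        · rintro ⟨b, rfl⟩
          show W.ι (X.homOfLE _ b) ∈ (U : Set X)
          rw [← Scheme.Hom.comp_apply, Scheme.homOfLE_ι]
          exact b.2.1
        · intro ha
          refine ⟨⟨W.ι a, ha, a.2⟩, W.ι.isOpenEmbedding.injective ?_⟩
          show (X.homOfLE (inf_le_right : U ⊓ W ≤ W) ≫ W.ι) ⟨W.ι a, ha, a.2⟩ = W.ι a
          rw [Scheme.homOfLE_ι]
          rfl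
      rw [this]
      exact hd.preimage W.ι.isOpenEmbedding.isOpenMap
    exact IsSchemeTheoreticallyDominant.of_isDominant _
  · haveI := h ⊤
    haveI : IsIso (X.homOfLE (inf_le_left : U ⊓ ⊤ ≤ U)) := by
      have : U ≤ U ⊓ ⊤ := le_inf le_rfl le_top
      exact ⟨X.homOfLE this, by simp, by simp⟩
    have e : U.ι = inv (X.homOfLE (inf_le_left : U ⊓ ⊤ ≤ U)) ≫ X.homOfLE (inf_le_right : U ⊓ ⊤ ≤ ⊤) ≫ (⊤ : X.Opens).ι := by
      rw [IsIso.eq_inv_comp]; simp
    rw [e]
    haveI : IsIso (⊤ : X.Opens).ι := by rw [← X.topIso_hom]; infer_instance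
    infer_instance

end Groth.Agent.S9360
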