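import Groth.Statements.S9361
-- import your own Groth.Agent.* helpers here

set_option autoImplicit false
universe u
open SchImage

namespace Groth.Agent.S9361

open AlgebraicGeometry CategoryTheory in
/-- Let f : X → Y be separated, V ⊆ Y a retrocompact open and s : V → X a section of f over V. If Y' ⊆ X
is the scheme-theoretic image of s, then Y' → Y is an isomorphism over V. -/
theorem result {X Y : Scheme.{u}} (f : X ⟶ Y) [IsSeparated f] (V : Y.Opens) [QuasiCompact V.ι]
    (s : (↑V : Scheme.{u}) ⟶ X) (hs : s ≫ f = V.ι) :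
    IsIso ((s.imageι ≫ f) ∣_ V) := by
  haveI : QuasiCompact (s ≫ f) := by rw [hs]; infer_instance
  haveI : QuasiCompact s := QuasiCompact.of_comp s f
  let g := s.imageι ≫ f
  let t := s.toImage ∣_ (g ⁻¹ᵁ V)
  haveI : IsSeparated g := inferInstanceAs (IsSeparated (s.imageι ≫ f))
  haveI : IsSeparated (g ∣_ V) := inferInstance
  have hgs : s.toImage ≫ g = V.ι := by simp [g, hs]
  have hcomp : IsIso ((s.toImage ≫ g) ∣_ V) := by rw [hgs, show V.ι ∣_ V = (V.ι ⁻¹ᵁ V).ι from (cancel_mono V.ι).1 (morphismRestrict_ι _ _), show V.ι ⁻¹ᵁ V = ⊤ by simp]; exact inferInstanceAs (IsIso (Scheme.topIso _).hom)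
  rw [morphismRestrict_comp] at hcomp
  haveI : IsIso (t ≫ (g ∣_ V)) := hcomp
  haveI : IsClosedImmersion t := IsClosedImmersion.of_comp t (g ∣_ V)
  have hker : s.toImage.ker = ⊥ := by
    refine Scheme.IdealSheafData.ext_of_iSup_eq_top (ι := X.affineOpens)
      (fun U => ⟨s.imageι ⁻¹ᵁ U.1, U.2.preimage s.imageι⟩) ?_ (fun U => ?_)
    · rw [← Scheme.Hom.preimage_iSup, iSup_affineOpens_eq_top, Scheme.Hom.preimage_top]
    · rw [Scheme.Hom.ker_apply, Scheme.IdealSheafData.ideal_bot]
      exact (RingHom.injective_iff_ker_eq_bot _).1 (s.toImage_app_injective (U := U))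
  haveI : IsIso t := IsClosedImmersion.isIso_iff_ker_eq_bot.2 <|
    Scheme.IdealSheafData.ext <| funext fun W => by
      rw [show t.ker.ideal W = _ from Scheme.ker_morphismRestrict_ideal s.toImage (g ⁻¹ᵁ V) W, hker]
      rfl
  exact IsIso.of_isIso_comp_left t (g ∣_ V)

end Groth.Agent.S9361
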