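import Groth.Statements.S9367
import Groth.Agent.CIPres.SyntomicLocal
import Groth.Agent.S9374
-- import your own Groth.Agent.* helpers here

set_option autoImplicit false
universe u
open Synt

namespace Groth.Agent.S9367

open AlgebraicGeometry CategoryTheory in
/-- If f : X → S is syntomic, then x ↦ dim_x(X_{f x}) is locally constant on X. -/
theorem result {X S : Scheme.{u}} (f : X ⟶ S) (hf : Synt.IsSyntomicMor f) :
    IsLocallyConstant (fun x : ↑X => FlatMor.fibreDimAt f x) := by
  obtain ⟨hfl, hfp, -⟩ := (Groth.Agent.CIPres.isSyntomicMor_iff_isCIMorphism f).1 hf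
  haveI := hfl
  haveI := hfp
  exact Groth.Agent.S9374.result f fun x =>
    (Groth.FlatDescent.CM.isCMAt_iff f x).2 (Groth.Agent.CIPres.flat_and_cm_fibre f hf x)

end Groth.Agent.S9367
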