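import Groth.Statements.S9370
import Groth.Agent.OmegaUniv.Deriv

set_option autoImplicit false
universe u
open OmegaSh

namespace Groth.Agent.S9370

open AlgebraicGeometry CategoryTheory in
/-- For a commutative square h : X' → X over S' → S, with d : O_X → Ω the universal derivation of X/S
and d' : O_{X'} → Ω' the universal derivation of X'/S', there is a unique O_{X'}-linear c : h^*Ω →
Ω' with c(h^* d s) = d'(h♯ s) for all local functions s on X. -/
theorem result {X S X' S' : Scheme.{u}} (f : X ⟶ S) (f' : X' ⟶ S') (h : X' ⟶ X) (b : S' ⟶ S)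
    (hsq : f' ≫ b = h ≫ f) (Ω : X.Modules) (d : OmegaSh.Der f Ω) (hd : OmegaSh.IsUniversal d)
    (Ω' : X'.Modules) (d' : OmegaSh.Der f' Ω') (hd' : OmegaSh.IsUniversal d') :
    ∃! c : (Scheme.Modules.pullback h).obj Ω ⟶ Ω', OmegaSh.IsDiffCompat h d d' c := by
  let D : OmegaSh.Der f ((Scheme.Modules.pushforward h).obj Ω') :=
    OmegaUniv.mkDer (fun U s => (d'.app (h ⁻¹ᵁ U) (h.app U s) : Γ(Ω', h ⁻¹ᵁ U)))
      (fun U a b => by rw [map_add, map_add]; rfl)
      (fun U a b => by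
        rw [map_mul]
        exact OmegaUniv.app_mul d' _ _ _)
      (fun U V e s => by
        have := congrArg (fun t : Γ(X, U) ⟶ Γ(X', h ⁻¹ᵁ V) => t s) (h.naturality (homOfLE e).op)
        simp only [CommRingCat.comp_apply] at this
        refine (congrArg (d'.app (h ⁻¹ᵁ V)) this).trans ?_
        exact OmegaUniv.app_map d' _ _)
      (fun W c => by
        have e : h ⁻¹ᵁ (f ⁻¹ᵁ W) ≤ f' ⁻¹ᵁ (b ⁻¹ᵁ W) := by
          rw [← Scheme.Hom.comp_preimage, ← Scheme.Hom.comp_preimage, hsq]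
        have := congrArg (fun t : Γ(S, W) ⟶ Γ(X', h ⁻¹ᵁ (f ⁻¹ᵁ W)) => t c)
          (show f.app W ≫ h.app (f ⁻¹ᵁ W) = b.app W ≫ f'.appLE (b ⁻¹ᵁ W) (h ⁻¹ᵁ (f ⁻¹ᵁ W)) e by
            rw [Scheme.Hom.app_eq_appLE, Scheme.Hom.app_eq_appLE, Scheme.Hom.app_eq_appLE,
              Scheme.Hom.appLE_comp_appLE, Scheme.Hom.appLE_comp_appLE]
            simp only [hsq])
        simp only [CommRingCat.comp_apply] at this
        exact (congrArg (d'.app _) this).trans (OmegaUniv.app_appLE d' _ _ e _))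
  obtain ⟨c, hc⟩ := OmegaUniv.exists_pull_lift h hd D
  exact ⟨c, fun U s => hc U s, fun c' hc' => OmegaUniv.pull_univ_ext h hd fun U s => (hc' U s).trans (hc U s).symm⟩

end Groth.Agent.S9370
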