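import Groth.Statements.S9373
import Groth.Agent.QCohLib.StalkLoc
-- import your own Groth.Agent.* helpers here

set_option autoImplicit false
universe u
open QCohSub

namespace Groth.Agent.S9373

open AlgebraicGeometry CategoryTheory in
/-- The support of a quasi-coherent O_X-module is closed under specialization. -/
theorem result (X : Scheme.{u}) (F : X.Modules) (hF : Coh.IsQCoh F) :
    StableUnderSpecialization (CohB1.support F) := by
  intro x y hxy hx hy
  haveI := hF
  refine hx (subsingleton_of_forall_eq 0 fun m => ?_)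
  obtain ⟨U, hU, hyU, -⟩ := exists_isAffineOpen_mem_and_subset (X := X) (U := ⊤) (x := y) trivial
  have hxU : x ∈ U := hxy.mem_open U.2 hyU
  obtain ⟨c, s, hxc, hcs⟩ := Groth.Agent.QCohLib.exists_smul_eq_germ hU x hxU m
  haveI : Subsingleton (F.presheaf.stalk y) := hy
  have h0 : F.presheaf.germ U x hxU s = 0 := by
    rw [← TopCat.Presheaf.germ_stalkSpecializes F.presheaf hyU hxy, CategoryTheory.ConcreteCategory.comp_apply,
      Subsingleton.elim (F.presheaf.germ U y hyU s) 0, map_zero]
  rw [h0] at hcs
  obtain ⟨v, hv⟩ := (X.mem_basicOpen c x hxU).1 hxc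
  rw [← hv] at hcs
  have h2 := congrArg (((↑v⁻¹ : X.presheaf.stalk x)) • ·) hcs
  rwa [smul_smul, Units.inv_mul, one_smul, smul_zero] at h2

end Groth.Agent.S9373
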