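import Groth.Statements.S9375
import Groth.Agent.OmegaUniv.LocalLift
import Mathlib.AlgebraicGeometry.Morphisms.Immersion
-- import your own Groth.Agent.* helpers here

set_option autoImplicit false
universe u
open OmegaSh

namespace Groth.Agent.S9375
open AlgebraicGeometry CategoryTheory Limits Groth.Agent.OmegaUniv
open Groth.Agent.ConormalSection (pullRes pullRes_add pullRes_smul idealSect_injective idealSect_smul)


variable {Z X Y : Scheme.{u}} {p : X ⟶ Y} {i : Z ⟶ X} {j : Z ⟶ Y}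

/-- the conormal map as a map out of the conormal sheaf itself -/
noncomputable def psi' (ψ : (Scheme.Modules.pullback (𝟙 Z)).obj (Omega.conormal j) ⟶ Omega.conormal i) :
    (Scheme.Modules.pullback j).obj (ClSub.idealMod j.ker) ⟶ (Scheme.Modules.pullback i).obj (ClSub.idealMod i.ker) :=
  (Scheme.Modules.pullbackId Z).inv.app (Omega.conormal j) ≫ ψ

theorem psi'_res [QuasiCompact i] (hij : i ≫ p = j)
    {ψ : (Scheme.Modules.pullback (𝟙 Z)).obj (Omega.conormal j) ⟶ Omega.conormal i}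
    (hψ : OmegaSh.IsConormalMap i j p (𝟙 Z) ψ) {W : Y.Opens} (n : Γ(ClSub.idealMod j.ker, W))
    {U : X.Opens} (hU : U ≤ p ⁻¹ᵁ W) {V : Z.Opens} (e : V ≤ i ⁻¹ᵁ U) (eW : V ≤ j ⁻¹ᵁ W)
    (m : Γ(ClSub.idealMod i.ker, U)) (hm : idealSect i.ker U m = p.appLE W U hU (idealSect j.ker W n)) :
    (psi' ψ).app V (pullRes j (ClSub.idealMod j.ker) eW n) = pullRes i (ClSub.idealMod i.ker) e m := by
  obtain ⟨s, hs⟩ := exists_idealSect i (p.app W (idealSect j.ker W n)) (by
    rw [← CommRingCat.comp_apply, ← Scheme.Hom.comp_app]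
    subst hij; exact app_eq_zero_of_idealSect _ W n)
  have h1 := hψ.2 W n s hs V eW (e.trans (i.preimage_mono hU))
  rw [show m = (ClSub.idealMod i.ker).presheaf.map (homOfLE hU).op s from
    ConormalSection.idealSect_injective i.ker _ (by rw [idealSect_map, hs, hm, Scheme.Hom.appLE]; rfl),
    pullRes_res]
  refine Eq.trans ?_ h1
  show ψ.app V (((Scheme.Modules.pullbackId Z).inv.app _).app V _) = _
  refine Eq.trans (congrArg (ψ.app V) ((pullId_app _ _ _).trans (res_pullSect _).symm)) ?_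
  show ψ.app V (pullRes (𝟙 Z) (Omega.conormal j) (le_refl V) ((Omega.conormal j).presheaf.map (homOfLE eW).op
    (OmegaSh.conormalSect j W n))) = _
  rw [pullRes_res (h := 𝟙 Z) (M := Omega.conormal j) (W := j ⁻¹ᵁ W) eW]
  exact app_res ψ _ _

open AlgebraicGeometry CategoryTheory Limits in
/-- For quasi-compact immersions i : Z → X and j : Z → Y with j = i ≫ p for p : X → Y, there is an exact
sequence C_{Z/Y} → C_{Z/X} → i^*Ω_{X/Y} → 0 with the canonical maps; Ω_{X/Y} is any receptacle of a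
universal derivation. (The published statement allows arbitrary immersions; this row assumes i and j
quasi-compact.) -/
theorem result {Z X Y : Scheme.{u}} (p : X ⟶ Y) (i : Z ⟶ X) (j : Z ⟶ Y) [IsImmersion i] [IsImmersion j]
    [QuasiCompact i] [QuasiCompact j] (hij : i ≫ p = j)
    (Ω : X.Modules) (d : OmegaSh.Der p Ω) (hd : OmegaSh.IsUniversal d)
    (ψ : (Scheme.Modules.pullback (𝟙 Z)).obj (Omega.conormal j) ⟶ Omega.conormal i) (hψ : OmegaSh.IsConormalMap i j p (𝟙 Z) ψ)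
    (φ : Omega.conormal i ⟶ (Scheme.Modules.pullback i).obj Ω) (hφ : OmegaSh.IsConormalDiff i d φ) :
    ∃ w : ψ ≫ φ = 0, (ShortComplex.mk ψ φ w).Exact ∧ Epi φ := by
  classical
  have hi : ∀ W : Y.Opens, j ⁻¹ᵁ W = i ⁻¹ᵁ (p ⁻¹ᵁ W) := fun W => by rw [← hij]; rfl
  -- ideal sections measuring the failure of a lift
  have data : ∀ {W : X.Opens} (a : Γ(X, W)) (L : Lift j (i.app W a)),
      ∃ (U : X.Opens) (hUW : U ≤ W) (hU : U ≤ p ⁻¹ᵁ L.W) (_ : L.V ≤ i ⁻¹ᵁ U) (m : Γ(ClSub.idealMod i.ker, U)),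
        idealSect i.ker U m = X.presheaf.map (homOfLE hUW).op a - p.appLE L.W U hU L.s := fun {W} a L => by
    have e : L.V ≤ i ⁻¹ᵁ (W ⊓ p ⁻¹ᵁ L.W) := fun z hz => ⟨L.eU hz, (hi L.W).le (L.eW hz)⟩
    obtain ⟨U, hU, eU, m, hm⟩ := exists_idealSect_of_appLE i e
      (X.presheaf.map (homOfLE inf_le_left).op a - p.appLE L.W (W ⊓ p ⁻¹ᵁ L.W) inf_le_right L.s) (by
        rw [map_sub, map_appLE_apply, appLE_appLE_eq hij _ _ L.eW, L.hs, Scheme.Hom.appLE, sub_eq_zero]
        rfl)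
    refine ⟨U, hU.trans inf_le_left, hU.trans inf_le_right, eU, m, ?_⟩
    rw [hm, map_sub, fn_res_res, appLE_map_apply]
  have w' : ψ ≫ φ = 0 := by
    refine (cancel_epi ((Scheme.Modules.pullbackId Z).inv.app (Omega.conormal j))).1 ?_
    rw [comp_zero, ← Category.assoc]
    refine pull_hom_ext j fun W n => ?_
    obtain ⟨m, hm⟩ := exists_idealSect i (p.app W (OmegaSh.idealSect j.ker W n)) (by
      rw [← CommRingCat.comp_apply, ← Scheme.Hom.comp_app]; subst hij; exact app_eq_zero_of_idealSect _ W n)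
    show φ.app (j ⁻¹ᵁ W) ((psi' ψ).app (j ⁻¹ᵁ W) (OmegaSh.pullSect j (ClSub.idealMod j.ker) W n)) = 0
    rw [← res_pullSect (h := j) (M := ClSub.idealMod j.ker) n,
      psi'_res hij hψ n le_rfl (hi W).le le_rfl m (by rw [hm, Scheme.Hom.app_eq_appLE]),
      conormalDiff_res hφ (hi W).le, hm, app_app, pullRes_zero]
  have hepi : Epi φ := ⟨fun {G} α β h => pull_univ_ext i hd fun W a => section_ext_local fun x hx => by
    obtain ⟨L, hL⟩ := exists_lift_at j (i.app W a) x hx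
    obtain ⟨U, hUW, hU, eU, m, hm⟩ := data a L
    refine ⟨L.V, L.eU, hL, ?_⟩
    have hd' : pullRes i Ω L.eU (d.app W a) = φ.app L.V (pullRes i (ClSub.idealMod i.ker) eU m) := by
      rw [conormalDiff_res hφ eU, hm, map_sub, app_appLE, sub_zero, app_map, pullRes_res]
    rw [← QCohLib.app_map, ← QCohLib.app_map]
    show α.app L.V (pullRes i Ω L.eU (d.app W a)) = β.app L.V (pullRes i Ω L.eU (d.app W a))
    rw [hd']
    exact congr(($h).app L.V (pullRes i (ClSub.idealMod i.ker) eU m))⟩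
  refine ⟨w', exact_of_factors ψ φ w' fun G γ hγ => ?_, hepi⟩
  let γ' : (Scheme.Modules.pullback i).obj (ClSub.idealMod i.ker) ⟶ G := γ
  have hγ' : psi' ψ ≫ γ' = 0 := by
    show ((Scheme.Modules.pullbackId Z).inv.app (Omega.conormal j) ≫ ψ) ≫ γ = 0
    rw [Category.assoc, hγ, comp_zero]
  have indep : ∀ {W : X.Opens} (a : Γ(X, W)) (L L' : Lift j (i.app W a)) (U : X.Opens) (hUW : U ≤ W)
      (hU : U ≤ p ⁻¹ᵁ L.W) (eU : L.V ≤ i ⁻¹ᵁ U) (m : Γ(ClSub.idealMod i.ker, U))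
      (_ : OmegaSh.idealSect i.ker U m = X.presheaf.map (homOfLE hUW).op a - p.appLE L.W U hU L.s)
      (U' : X.Opens) (hUW' : U' ≤ W) (hU' : U' ≤ p ⁻¹ᵁ L'.W) (eU' : L'.V ≤ i ⁻¹ᵁ U') (m' : Γ(ClSub.idealMod i.ker, U'))
      (_ : OmegaSh.idealSect i.ker U' m' = X.presheaf.map (homOfLE hUW').op a - p.appLE L'.W U' hU' L'.s)
      (V : Z.Opens) (h : V ≤ L.V) (h' : V ≤ L'.V),
      G.presheaf.map (homOfLE h).op (γ'.app L.V (pullRes i (ClSub.idealMod i.ker) eU m)) =
        G.presheaf.map (homOfLE h').op (γ'.app L'.V (pullRes i (ClSub.idealMod i.ker) eU' m')) :=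
    fun {W} a L L' U hUW hU eU m hm U' hUW' hU' eU' m' hm' V h h' => by
    have e : V ≤ j ⁻¹ᵁ (L.W ⊓ L'.W) := fun z hz => ⟨L.eW (h hz), L'.eW (h' hz)⟩
    obtain ⟨W', hW', e', n, hn⟩ := exists_idealSect_of_appLE j e
      (Y.presheaf.map (homOfLE (inf_le_right : L.W ⊓ L'.W ≤ L'.W)).op L'.s -
        Y.presheaf.map (homOfLE (inf_le_left : L.W ⊓ L'.W ≤ L.W)).op L.s) (by
        rw [map_sub, map_appLE_apply, map_appLE_apply, ← appLE_map_apply j h L.eW, L.hs,
          ← appLE_map_apply j h' L'.eW, L'.hs, fn_res_res, fn_res_res, sub_self])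
    have e'' : V ≤ i ⁻¹ᵁ (U ⊓ U' ⊓ p ⁻¹ᵁ W') := fun z hz =>
      ⟨⟨eU (h hz), eU' (h' hz)⟩, (hi W').le (e' hz)⟩
    rw [← QCohLib.app_map, ← QCohLib.app_map, res_pullRes, res_pullRes,
      ← pullRes_res i _ (inf_le_left.trans inf_le_left : U ⊓ U' ⊓ p ⁻¹ᵁ W' ≤ U) e'' m,
      ← pullRes_res i _ (inf_le_left.trans inf_le_right : U ⊓ U' ⊓ p ⁻¹ᵁ W' ≤ U') e'' m',
      ← sub_eq_zero, ← map_sub, ← pullRes_sub]
    rw [← psi'_res hij hψ n (inf_le_right : U ⊓ U' ⊓ p ⁻¹ᵁ W' ≤ _) e'' e' _ (by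
      rw [map_sub, idealSect_map, idealSect_map, hm, hm', hn]
      simp only [map_sub, fn_res_res, appLE_map_apply, map_appLE_apply]
      abel)]
    exact congr(($hγ').app V (pullRes j (ClSub.idealMod j.ker) e' n))
  choose U₀ hUW₀ hU₀ eU₀ m₀ hm₀ using fun (W : X.Opens) (a : Γ(X, W)) (L : Lift j (i.app W a)) => data a L
  choose D hD₀ using fun (W : X.Opens) (a : Γ(X, W)) => exists_glue_lift (G := G) j (i.app W a)
    (fun L => γ'.app L.V (pullRes i (ClSub.idealMod i.ker) (eU₀ W a L) (m₀ W a L)))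
    (fun L L' => indep a L L' _ _ _ _ _ (hm₀ W a L) _ _ _ _ _ (hm₀ W a L'))
  have hD : ∀ (W : X.Opens) (a : Γ(X, W)) (L : Lift j (i.app W a)) (U : X.Opens) (hUW : U ≤ W)
      (hU : U ≤ p ⁻¹ᵁ L.W) (eU : L.V ≤ i ⁻¹ᵁ U) (m : Γ(ClSub.idealMod i.ker, U)),
      OmegaSh.idealSect i.ker U m = X.presheaf.map (homOfLE hUW).op a - p.appLE L.W U hU L.s →
      G.presheaf.map (homOfLE L.eU).op (D W a) = γ'.app L.V (pullRes i (ClSub.idealMod i.ker) eU m) :=
    fun W a L U hUW hU eU m hm => by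
    have h1 := indep a L L (U₀ W a L) (hUW₀ W a L) (hU₀ W a L) (eU₀ W a L) (m₀ W a L) (hm₀ W a L) U hUW hU eU m hm L.V le_rfl le_rfl
    exact (hD₀ W a L).trans ((res_self _ _).symm.trans (h1.trans (res_self _ _)))
  let Dd : OmegaSh.Der p ((Scheme.Modules.pushforward i).obj G) := mkDer (fun W a => (D W a : Γ(G, i ⁻¹ᵁ W)))
    (fun W a b => section_ext_local (G := G) (U := i ⁻¹ᵁ W) fun x hx => by
      obtain ⟨L, hL⟩ := exists_lift_at j (i.app W a) x hx
      obtain ⟨L', hL'⟩ := exists_lift_at j (i.app W b) x hx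
      obtain ⟨U, hUW, hU, eU, m, hm⟩ := data a L
      obtain ⟨U', hUW', hU', eU', m', hm'⟩ := data b L'
      have e : L.V ⊓ L'.V ≤ j ⁻¹ᵁ (L.W ⊓ L'.W) := fun y hy => ⟨L.eW hy.1, L'.eW hy.2⟩
      let L'' : Lift j (i.app W (a + b)) := ⟨L.W ⊓ L'.W, L.V ⊓ L'.V, e, inf_le_left.trans L.eU,
        Y.presheaf.map (homOfLE inf_le_left).op L.s + Y.presheaf.map (homOfLE inf_le_right).op L'.s, by
          rw [map_add, map_add, map_add, map_appLE_apply, map_appLE_apply, ← appLE_map_apply j inf_le_left L.eW,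
            L.hs, ← appLE_map_apply j inf_le_right L'.eW, L'.hs, fn_res_res, fn_res_res]⟩
      have eU'' : L''.V ≤ i ⁻¹ᵁ (U ⊓ U') := fun y hy => ⟨eU hy.1, eU' hy.2⟩
      refine ⟨L''.V, L''.eU, ⟨hL, hL'⟩, ?_⟩
      refine (hD W (a + b) L'' (U ⊓ U') (inf_le_left.trans hUW) (le_inf (inf_le_left.trans hU) (inf_le_right.trans hU'))
        eU'' ((ClSub.idealMod i.ker).presheaf.map (homOfLE inf_le_left).op m +
          (ClSub.idealMod i.ker).presheaf.map (homOfLE inf_le_right).op m') (by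
        simp only [map_add, idealSect_map, hm, hm', map_sub, fn_res_res, appLE_map_apply, map_appLE_apply, L'']
        abel)).trans ?_
      refine Eq.trans ?_ (map_add (G.presheaf.map (homOfLE L''.eU).op).hom (D W a) (D W b)).symm
      rw [pullRes_add]
      refine (map_add (γ'.app L''.V).hom _ _).trans (congrArg₂ (· + ·) ?_ ?_)
      · refine Eq.trans ?_ (OmegaUniv.res_res L.eU (inf_le_left : L.V ⊓ L'.V ≤ L.V) (D W a))
        rw [hD W a L U hUW hU eU m hm, ← QCohLib.app_map, res_pullRes, pullRes_res]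
      · refine Eq.trans ?_ (OmegaUniv.res_res L'.eU (inf_le_right : L.V ⊓ L'.V ≤ L'.V) (D W b))
        rw [hD W b L' U' hUW' hU' eU' m' hm', ← QCohLib.app_map, res_pullRes, pullRes_res])
    (fun W a b => section_ext_local (G := G) (U := i ⁻¹ᵁ W) fun x hx => by
      obtain ⟨L, hL⟩ := exists_lift_at j (i.app W a) x hx
      obtain ⟨L', hL'⟩ := exists_lift_at j (i.app W b) x hx
      obtain ⟨U, hUW, hU, eU, m, hm⟩ := data a L
      obtain ⟨U', hUW', hU', eU', m', hm'⟩ := data b L'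
      have e : L.V ⊓ L'.V ≤ j ⁻¹ᵁ (L.W ⊓ L'.W) := fun y hy => ⟨L.eW hy.1, L'.eW hy.2⟩
      have ea : j.appLE _ _ e (Y.presheaf.map (homOfLE inf_le_left).op L.s) =
          Z.presheaf.map (homOfLE (inf_le_left.trans L.eU)).op (i.app W a) := by
        rw [map_appLE_apply, ← appLE_map_apply j inf_le_left L.eW, L.hs, fn_res_res]
      have eb : j.appLE _ _ e (Y.presheaf.map (homOfLE inf_le_right).op L'.s) =
          Z.presheaf.map (homOfLE (inf_le_left.trans L.eU)).op (i.app W b) := by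
        rw [map_appLE_apply, ← appLE_map_apply j inf_le_right L'.eW, L'.hs, fn_res_res]
      let L'' : Lift j (i.app W (a * b)) := ⟨L.W ⊓ L'.W, L.V ⊓ L'.V, e, inf_le_left.trans L.eU,
        Y.presheaf.map (homOfLE inf_le_left).op L.s * Y.presheaf.map (homOfLE inf_le_right).op L'.s, by
          rw [map_mul, map_mul, map_mul, ea, eb]⟩
      have eU'' : L''.V ≤ i ⁻¹ᵁ (U ⊓ U') := fun y hy => ⟨eU hy.1, eU' hy.2⟩
      refine ⟨L''.V, L''.eU, ⟨hL, hL'⟩, ?_⟩
      rw [hD W (a * b) L'' (U ⊓ U') (inf_le_left.trans hUW) (le_inf (inf_le_left.trans hU) (inf_le_right.trans hU'))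
        eU'' (X.presheaf.map (homOfLE (inf_le_left.trans hUW)).op a •
            (ClSub.idealMod i.ker).presheaf.map (homOfLE inf_le_right).op m' +
          p.appLE L'.W (U ⊓ U') (inf_le_right.trans hU') L'.s •
            (ClSub.idealMod i.ker).presheaf.map (homOfLE inf_le_left).op m) (by
        rw [map_add, idealSect_smul, idealSect_smul, idealSect_map, idealSect_map, hm, hm']
        simp only [map_mul, map_sub, fn_res_res, appLE_map_apply, map_appLE_apply, L'']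
        ring),
        pullRes_add, pullRes_smul, pullRes_smul, map_add, Scheme.Modules.Hom.app_smul, Scheme.Modules.Hom.app_smul]
      show _ = G.presheaf.map (homOfLE L''.eU).op (i.app W a • D W b + i.app W b • D W a)
      rw [map_add, Scheme.Modules.map_smul, Scheme.Modules.map_smul,
        ← OmegaUniv.res_res L.eU (inf_le_left : L.V ⊓ L'.V ≤ L.V) (D W a), hD W a L U hUW hU eU m hm,
        ← OmegaUniv.res_res L'.eU (inf_le_right : L.V ⊓ L'.V ≤ L'.V) (D W b), hD W b L' U' hUW' hU' eU' m' hm',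
        ← QCohLib.app_map, ← QCohLib.app_map, res_pullRes, res_pullRes, pullRes_res, pullRes_res]
      congr 2
      · rw [map_appLE_apply, Scheme.Hom.appLE]; rfl
      · rw [← eb, map_appLE_apply, appLE_appLE_eq hij])
    (fun W W' e a => section_ext_local (G := G) (U := i ⁻¹ᵁ W') fun x hx => by
      obtain ⟨L, hL⟩ := exists_lift_at j (i.app W a) x (i.preimage_mono e hx)
      obtain ⟨U, hUW, hU, eU, m, hm⟩ := data a L
      let L'' : Lift j (i.app W' (X.presheaf.map (homOfLE e).op a)) := ⟨L.W, L.V ⊓ i ⁻¹ᵁ W',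
        inf_le_left.trans L.eW, inf_le_right, L.s, by
          rw [← appLE_map_apply j inf_le_left L.eW, L.hs, fn_res_res,
            show i.app W' (X.presheaf.map (homOfLE e).op a) =
              Z.presheaf.map (homOfLE (i.preimage_mono e)).op (i.app W a) from
                congr(($(i.naturality (homOfLE e).op)) a), fn_res_res]⟩
      refine ⟨L''.V, L''.eU, ⟨hL, hx⟩, ?_⟩
      rw [hD W' _ L'' (U ⊓ W') inf_le_right (inf_le_left.trans hU) (fun y hy => ⟨eU hy.1, hy.2⟩)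
        ((ClSub.idealMod i.ker).presheaf.map (homOfLE inf_le_left).op m) (by
          rw [idealSect_map, hm, map_sub, fn_res_res, fn_res_res, appLE_map_apply]), pullRes_res]
      show _ = G.presheaf.map (homOfLE L''.eU).op (G.presheaf.map (homOfLE (i.preimage_mono e)).op (D W a))
      rw [OmegaUniv.res_res]
      refine Eq.trans ?_ (OmegaUniv.res_res L.eU (inf_le_left : L.V ⊓ i ⁻¹ᵁ W' ≤ L.V) (D W a))
      rw [hD W a L U hUW hU eU m hm, ← QCohLib.app_map, res_pullRes])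
    (fun O a => by
      let L : Lift j (i.app (p ⁻¹ᵁ O) (p.app O a)) := ⟨O, i ⁻¹ᵁ (p ⁻¹ᵁ O), (hi O).ge, le_rfl, a, by
        subst hij
        rw [Scheme.Hom.appLE, Scheme.Hom.comp_app]
        rfl⟩
      refine (res_self (N := G) (le_refl (i ⁻¹ᵁ (p ⁻¹ᵁ O))) _).symm.trans
        ((hD _ _ L (p ⁻¹ᵁ O) le_rfl le_rfl le_rfl 0 ?_).trans ?_)
      · rw [map_zero, eq_comm, sub_eq_zero, ← Scheme.Hom.app_eq_appLE]
        exact ConcreteCategory.congr_hom (X.presheaf.map_id _) _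
      · rw [pullRes_zero, map_zero]; rfl)
  obtain ⟨α, hα⟩ := exists_pull_lift i hd Dd
  refine ⟨α, pull_hom_ext i fun W x => ?_⟩
  show α.app (i ⁻¹ᵁ W) (φ.app (i ⁻¹ᵁ W) (OmegaSh.conormalSect i W x)) = _
  rw [hφ, hα]
  let L : Lift j (i.app W (OmegaSh.idealSect i.ker W x)) := ⟨⊤, i ⁻¹ᵁ W, le_top, le_rfl, 0, by
    rw [map_zero, app_eq_zero_of_idealSect, map_zero]⟩
  refine (res_self (N := G) (le_refl (i ⁻¹ᵁ W)) _).symm.trans ((hD W _ L W le_rfl le_top le_rfl x ?_).trans ?_)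
  · rw [map_zero, sub_zero]
    exact (ConcreteCategory.congr_hom (X.presheaf.map_id _) _).symm
  · rw [res_pullSect]


end Groth.Agent.S9375
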