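import Groth.Statements.S9378
import Groth.Agent.FittSheaf.Omega
import Groth.Agent.CohFinite.AnnIdeal
import Groth.Agent.S6283
-- import your own Groth.Agent.* helpers here

set_option autoImplicit false
universe u
open QCohSub

open CategoryTheory AlgebraicGeometry

namespace Groth.Agent.S9378

open AlgebraicGeometry CategoryTheory Opposite in
/-- Let f : Y → X be flat and F a quasi-coherent O_X-module of finite type, where the ideal sheaf J
(given by annihilators on affine opens) defines the scheme-theoretic support of F. Then the inverse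
image ideal sheaf of J along f cuts out the scheme-theoretic support of f^*F. -/
theorem result {Y X : Scheme.{u}} (f : Y ⟶ X) [Flat f] (F : X.Modules)
    (hq : Coh.IsQCoh F) (hft : CohB1.IsFT F) (J : X.IdealSheafData)
    (hJ : ∀ U : X.affineOpens, J.ideal U = Module.annihilator Γ(X, U.1) Γ(F, U.1)) :
    ∀ V : Y.affineOpens, (J.comap f).ideal V =
      Module.annihilator Γ(Y, V.1) Γ((Scheme.Modules.pullback f).obj F, V.1) := by
  haveI : F.IsQuasicoherent := hq
  haveI hqc : ((Scheme.Modules.pullback f).obj F).IsQuasicoherent := Groth.Agent.QCohLib.isQuasicoherent_pullback _ _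
  have hft' : CohB1.IsFT ((Scheme.Modules.pullback f).obj F) := Groth.Agent.QCohLib.isFiniteType_pullback _ _ hft
  suffices h : J.comap f = Groth.Agent.CohFinite.annIdeal _ hft' by
    intro V
    rw [h]
    rfl
  choose V U hxU hle using fun x : Y => Groth.Agent.FittSheaf.exists_affine_pair f x
  refine Scheme.IdealSheafData.ext_of_iSup_eq_top U (eq_top_iff.2 fun x _ => TopologicalSpace.Opens.mem_iSup.2 ⟨x, hxU x⟩) fun x => ?_
  show _ = Module.annihilator Γ(Y, (U x).1) Γ((Scheme.Modules.pullback f).obj F, (U x).1)
  rw [Groth.Agent.IdealComap.ideal_comap J f (U x) (V x) (hle x), hJ]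
  letI := (f.appLE (V x).1 (U x).1 (hle x)).hom.toAlgebra
  haveI := Groth.Agent.FittSheaf.finite_sections F hft (V x)
  obtain ⟨e, -⟩ := Groth.Agent.RelFPLib.exists_pullTensorEquiv f F (V x).2 (U x).2 (hle x)
  haveI : Module.Flat Γ(X, (V x).1) Γ(Y, (U x).1) :=
    HasRingHomProperty.appLE @Flat f ‹_› (V x) (U x) (hle x)
  rw [← e.annihilator_eq, ← (Groth.Agent.S6283.result (R := Γ(X, (V x).1)) (S := Γ(Y, (U x).1)) Γ(F, (V x).1)).2 inferInstance]
  rfl

end Groth.Agent.S9378
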