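import Groth.Statements.S9381
import Groth.Agent.DimFormulaIrr.Basic
import Groth.Agent.BMCoh.Topology
-- import your own Groth.Agent.* helpers here

set_option autoImplicit false
universe u
open FibDim

namespace Groth.Agent.S9381

open AlgebraicGeometry CategoryTheory in
/-- Let f : X → S be locally of finite type and x ⤳ x' a nontrivial specialization of points of X in the
same fibre (f x = f x'). Then trdeg_{κ(f x)} κ(x) > trdeg_{κ(f x')} κ(x'). -/
theorem result {X S : Scheme.{u}} (f : X ⟶ S) [LocallyOfFiniteType f] (x x' : X)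
    (hsp : x ⤳ x') (hne : x ≠ x') (hfx : f.base x = f.base x') :
    @Algebra.trdeg (S.residueField (f.base x')) (X.residueField x') _ _ (f.residueFieldMap x').hom.toAlgebra <
      @Algebra.trdeg (S.residueField (f.base x)) (X.residueField x) _ _ (f.residueFieldMap x).hom.toAlgebra := by
  let z' := f.asFiber x'
  obtain ⟨z, hz⟩ : x ∈ Set.range (f.fiberι (f x')) := by rw [f.range_fiberι]; exact hfx
  obtain ⟨n, hn, hn'⟩ := Groth.Agent.DimFormulaIrr.exists_trdeg_fibre f (f x') z x hz
  obtain ⟨m, hm, hm'⟩ := Groth.Agent.DimFormulaIrr.exists_trdeg_fibre f (f x') z' x' (f.fiberι_asFiber x')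
  rw [hn, hm]
  have hzz : z ⤳ z' := (f.fiberι (f x')).isEmbedding.isInducing.specializes_iff.mp
    (by rw [hz, f.fiberι_asFiber]; exact hsp)
  have hle : closure ({z'} : Set ↑(f.fiber (f x'))) ⊆ closure {z} :=
    closure_minimal (Set.singleton_subset_iff.2 hzz.mem_closure) isClosed_closure
  haveI : IrreducibleSpace ↥(closure ({z} : Set ↑(f.fiber (f x')))) :=
    { toPreirreducibleSpace := Subtype.preirreducibleSpace isIrreducible_singleton.closure.2
      toNonempty := ⟨⟨z, subset_closure rfl⟩⟩ }
  have hlt := Groth.Agent.BMCoh.topologicalKrullDim_add_one_le (Topology.IsEmbedding.inclusion hle).isInducing (fun hd => by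
    have hc : IsClosed (Set.range (Set.inclusion hle)) := by
      rw [Set.range_inclusion]
      exact isClosed_closure.preimage continuous_subtype_val
    have h := hc.closure_eq.symm.trans hd.closure_eq
    have hmem : (⟨z, subset_closure rfl⟩ : closure ({z} : Set ↑(f.fiber (f x')))) ∈ Set.range (Set.inclusion hle) := by
      rw [h]; trivial
    rw [Set.range_inclusion] at hmem
    refine hne ?_
    have : z' ⤳ z := specializes_iff_mem_closure.mpr hmem
    rw [← hz, (hzz.antisymm this).eq]; exact f.fiberι_asFiber x')
  rw [hn', hm'] at hlt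
  exact Nat.cast_lt.mpr (Nat.lt_of_succ_le (by exact_mod_cast hlt))

end Groth.Agent.S9381
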