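import Groth.Statements.S9382
import Mathlib
-- import your own Groth.Agent.* helpers here

set_option autoImplicit false
universe u
open QCohSub

namespace Groth.Agent.S9382

open AlgebraicGeometry CategoryTheory in
/-- For closed subschemes Z, Y ⊆ X with ideal sheaves I, J, the scheme-theoretic intersection (ideal
sheaf I ⊔ J) together with its inclusions into Z and Y forms a cartesian square over X. -/
theorem result (X : Scheme.{u}) (I J : X.IdealSheafData) :
    IsPullback (Scheme.IdealSheafData.inclusion (le_sup_left : I ≤ I ⊔ J))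
      (Scheme.IdealSheafData.inclusion (le_sup_right : J ≤ I ⊔ J)) I.subschemeι J.subschemeι := by
  refine IsPullback.of_isLimit (c := Limits.PullbackCone.mk (Scheme.IdealSheafData.inclusion (le_sup_left : I ≤ I ⊔ J))
    (Scheme.IdealSheafData.inclusion (le_sup_right : J ≤ I ⊔ J)) (by simp)) ?_
  refine Limits.PullbackCone.IsLimit.mk _ (fun s => IsClosedImmersion.lift (I ⊔ J).subschemeι
      (s.fst ≫ I.subschemeι) ?_) ?_ ?_ ?_
  · rw [Scheme.IdealSheafData.ker_subschemeι]
    refine sup_le ?_ ?_
    · refine le_trans ?_ (Scheme.Hom.le_ker_comp _ _)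
      rw [Scheme.IdealSheafData.ker_subschemeι]
    · rw [s.condition]
      refine le_trans ?_ (Scheme.Hom.le_ker_comp _ _)
      rw [Scheme.IdealSheafData.ker_subschemeι]
  · intro s
    rw [← cancel_mono I.subschemeι]
    simp
  · intro s
    rw [← cancel_mono J.subschemeι]
    simp [s.condition]
  · intro s m h1 h2
    rw [← cancel_mono (I ⊔ J).subschemeι]
    simp only [IsClosedImmersion.lift_fac]
    rw [← h1]
    simp

end Groth.Agent.S9382
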