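import Groth.Statements.S9384
import Groth.Agent.OmegaUniv.Res

set_option autoImplicit false
universe u
open OmegaSh

namespace Groth.Agent.S9384

open OmegaSh TopologicalSpace Opposite CategoryTheory Limits AlgebraicGeometry
open Groth.Agent.OmegaUniv
open Groth.Agent.ConormalSection (pullRes pullRes_add pullRes_smul idealSect_injective idealSect_smul)

variable {Z X : Scheme.{u}} {i : Z ⟶ X} {g : X ⟶ Z}

theorem sec_eq (hgi : i ≫ g = 𝟙 Z) {V V' : Z.Opens} {U : X.Opens} (e₁ : U ≤ g ⁻¹ᵁ V)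
    (e₂ : V' ≤ i ⁻¹ᵁ U) (e₃ : V' ≤ V) (x : Γ(Z, V)) :
    i.appLE U V' e₂ (g.appLE V U e₁ x) = Z.presheaf.map (homOfLE e₃).op x :=
  (appLE_appLE_eq hgi e₁ e₂ (show V' ≤ (𝟙 Z : Z ⟶ Z) ⁻¹ᵁ V from e₃) x).trans (appLE_id rfl _ e₃ x)

open AlgebraicGeometry CategoryTheory Limits in
/-- Let i : Z → X be a quasi-compact immersion of schemes over S admitting a left inverse g : X → Z over
S. Then the canonical sequence 0 → C_{Z/X} → i^*Ω_{X/S} → Ω_{Z/S} → 0 is split exact (receptacle
form; the maps are pinned by their values on sections). (The published statement also covers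
immersions with only a local left inverse, where the sequence is locally split, and arbitrary
immersions; this row assumes a global left inverse over S and i quasi-compact. The case of a section
s of a morphism p : X → S, where Ω_{S/S} = 0 and the map C_{S/X} → s^*Ω_{X/S} is an isomorphism, is
the instance Z = S, i = s, g = p.) -/
theorem result {Z X S : Scheme.{u}} (f : X ⟶ S) (i : Z ⟶ X) [IsImmersion i] [QuasiCompact i]
    (g : X ⟶ Z) (hgi : i ≫ g = 𝟙 Z) (hgS : g ≫ i ≫ f = f)
    (ΩX : X.Modules) (dX : OmegaSh.Der f ΩX) (hX : OmegaSh.IsUniversal dX)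
    (ΩZ : Z.Modules) (dZ : OmegaSh.Der (i ≫ f) ΩZ) (hZ : OmegaSh.IsUniversal dZ)
    (φ : Omega.conormal i ⟶ (Scheme.Modules.pullback i).obj ΩX) (hφ : OmegaSh.IsConormalDiff i dX φ)
    (c : (Scheme.Modules.pullback i).obj ΩX ⟶ ΩZ) (hc : OmegaSh.IsDiffCompat i dX dZ c) :
    ∃ w : φ ≫ c = 0, (ShortComplex.mk φ c w).Exact ∧ (∃ r : (Scheme.Modules.pullback i).obj ΩX ⟶ Omega.conormal i, φ ≫ r = 𝟙 _) ∧
      ∃ σ : ΩZ ⟶ (Scheme.Modules.pullback i).obj ΩX, σ ≫ c = 𝟙 _ := by
  classical
  have hgi' : ∀ O : Z.Opens, O ≤ i ⁻¹ᵁ (g ⁻¹ᵁ O) := fun O => by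
    rw [← Scheme.Hom.comp_preimage, hgi]; exact le_rfl
  -- the section of c
  let Dσ : Der (i ≫ f) ((Scheme.Modules.pullback i).obj ΩX) := mkDer
    (fun O t => pullRes i ΩX (hgi' O) (dX.app (g ⁻¹ᵁ O) (g.app O t)))
    (fun O a b => by simp only [map_add, pullRes_add])
    (fun O a b => by
      simp only [map_mul, app_mul, pullRes_add, pullRes_smul]
      congr 1 <;> congr 1 <;> rw [Scheme.Hom.app_eq_appLE, sec_eq hgi _ _ le_rfl] <;>
        exact ConcreteCategory.congr_hom (Z.presheaf.map_id _) _)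
    (fun O O' e t => by
      rw [res_pullRes, show g.app O' (Z.presheaf.map (homOfLE e).op t) =
        X.presheaf.map (homOfLE (g.preimage_mono e)).op (g.app O t) from
          congr(($(g.naturality (homOfLE e).op)) t), app_map, pullRes_res])
    (fun V a => by
      have : g.app ((i ≫ f) ⁻¹ᵁ V) ((i ≫ f).app V a) = f.appLE V _ (le_of_eq (by
          rw [← Scheme.Hom.comp_preimage, hgS])) a := by
        rw [Scheme.Hom.app_eq_appLE, Scheme.Hom.app_eq_appLE]
        exact appLE_appLE_eq hgS _ _ _ a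
      rw [this, app_appLE, pullRes_zero])
  obtain ⟨σ, hσ⟩ := exists_lift hZ Dσ
  -- the retraction of φ
  let W : X.Opens → X.Opens := fun U => U ⊓ g ⁻¹ᵁ (i ⁻¹ᵁ U)
  have hW : ∀ U, i ⁻¹ᵁ U ≤ i ⁻¹ᵁ W U := fun U z hz => ⟨hz, hgi' (i ⁻¹ᵁ U) hz⟩
  let e : ∀ (U : X.Opens), Γ(X, U) → Γ(X, W U) := fun U s =>
    X.presheaf.map (homOfLE (inf_le_left : W U ≤ U)).op s -
      g.appLE (i ⁻¹ᵁ U) (W U) inf_le_right (i.app U s)
  have he0 : ∀ U s, i.app (W U) (e U s) = 0 := fun U s => by
    rw [map_sub, sub_eq_zero, Scheme.Hom.app_eq_appLE, sec_eq hgi _ _ (i.preimage_mono inf_le_left)]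
    rw [← Scheme.Hom.app_eq_appLE]
    exact congr(($(i.naturality (homOfLE (inf_le_left : W U ≤ U)).op)) s)
  choose m hm using fun U s => exists_idealSect i (e U s) (he0 U s)
  let Dr : Der f ((Scheme.Modules.pushforward i).obj (Omega.conormal i)) := mkDer
    (fun U s => (pullRes i (ClSub.idealMod i.ker) (hW U) (m U s) : Γ(Omega.conormal i, i ⁻¹ᵁ U)))
    (fun U a b => by
      refine (congrArg (pullRes i (ClSub.idealMod i.ker) (hW U)) ?_).trans (pullRes_add _ _ _ _ _)
      refine idealSect_injective i.ker _ ?_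
      simp only [map_add, hm, e]
      abel)
    (fun U a b => by
      refine Eq.trans (congrArg (pullRes i (ClSub.idealMod i.ker) (hW U))
        (?_ : m U (a * b) = X.presheaf.map (homOfLE (inf_le_left : W U ≤ U)).op a • m U b +
          g.appLE (i ⁻¹ᵁ U) (W U) inf_le_right (i.app U b) • m U a)) ?_
      · refine idealSect_injective i.ker _ ?_
        simp only [map_add, idealSect_smul, hm, e, map_mul]
        ring
      · show pullRes i (ClSub.idealMod i.ker) (hW U) (_ + _) = _
        rw [pullRes_add, pullRes_smul, pullRes_smul, sec_eq hgi _ _ le_rfl,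
          ← CommRingCat.comp_apply, Scheme.Hom.map_appLE, ← Scheme.Hom.app_eq_appLE]
        refine congrArg₂ (· + ·) rfl ?_
        refine congrArg (· • _) ?_
        exact ConcreteCategory.congr_hom (Z.presheaf.map_id _) _)
    (fun U U' le s => by
      show pullRes i (ClSub.idealMod i.ker) (hW U') _ =
        (Omega.conormal i).presheaf.map (homOfLE (i.preimage_mono le)).op (pullRes i (ClSub.idealMod i.ker) (hW U) (m U s))
      have hle : W U' ≤ W U := inf_le_inf le (g.preimage_mono (i.preimage_mono le))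
      refine (?_ : _ = pullRes i (ClSub.idealMod i.ker) (hW U') ((ClSub.idealMod i.ker).presheaf.map (homOfLE hle).op (m U s))).trans ?_
      · refine congrArg (pullRes i (ClSub.idealMod i.ker) (hW U')) (idealSect_injective i.ker _ ?_)
        rw [idealSect_map, hm, hm]
        simp only [e, map_sub]
        congr 1
        · simp only [← CommRingCat.comp_apply, ← Functor.map_comp]; rfl
        · rw [show i.app U' (X.presheaf.map (homOfLE le).op s) =
            Z.presheaf.map (homOfLE (i.preimage_mono le)).op (i.app U s) from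
              congr(($(i.naturality (homOfLE le).op)) s)]
          simp only [← CommRingCat.comp_apply, Category.assoc, Scheme.Hom.map_appLE, Scheme.Hom.appLE_map]
      · rw [pullRes_res]
        exact (res_pullRes _ _ _ _ _).symm)
    (fun V a => by
      refine (congrArg (pullRes i (ClSub.idealMod i.ker) (hW _)) (?_ : _ = (0 : Γ(ClSub.idealMod i.ker, _)))).trans
        (pullRes_zero _ _ _)
      refine idealSect_injective i.ker _ ?_
      rw [hm, map_zero]
      show _ - _ = 0
      rw [sub_eq_zero, Scheme.Hom.app_eq_appLE, ← CommRingCat.comp_apply, ← CommRingCat.comp_apply,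
        ← CommRingCat.comp_apply]
      simp only [Category.assoc, Scheme.Hom.appLE_map, Scheme.Hom.appLE_comp_appLE, hgS,
        Scheme.Hom.app_eq_appLE]
      rfl)
  obtain ⟨r, hr⟩ := exists_pull_lift i hX Dr
  have w : φ ≫ c = 0 := pull_hom_ext i fun U x => by
    show c.app (i ⁻¹ᵁ U) (φ.app (i ⁻¹ᵁ U) (pullSect i (ClSub.idealMod i.ker) U x)) = 0
    rw [show φ.app (i ⁻¹ᵁ U) (pullSect i (ClSub.idealMod i.ker) U x) = _ from hφ U x, hc,
      app_eq_zero_of_idealSect, map_zero]
  have hφr : φ ≫ r = 𝟙 _ := pull_hom_ext i fun U x => by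
    show r.app (i ⁻¹ᵁ U) (φ.app (i ⁻¹ᵁ U) (pullSect i (ClSub.idealMod i.ker) U x)) =
      pullSect i (ClSub.idealMod i.ker) U x
    rw [show φ.app (i ⁻¹ᵁ U) (pullSect i (ClSub.idealMod i.ker) U x) = _ from hφ U x, hr]
    show pullRes i (ClSub.idealMod i.ker) (hW U) _ = _
    rw [show m U (idealSect i.ker U x) =
      (ClSub.idealMod i.ker).presheaf.map (homOfLE (inf_le_left : W U ≤ U)).op x from
        idealSect_injective i.ker _ (by
          rw [hm, idealSect_map]
          show _ - _ = _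
          rw [app_eq_zero_of_idealSect, map_zero, sub_zero]), pullRes_res]
    exact res_pullSect x
  have hσc : σ ≫ c = 𝟙 _ := hom_ext hZ fun O t => by
    show c.app O (σ.app O (dZ.app O t)) = dZ.app O t
    rw [hσ]
    show c.app O (pullRes i ΩX _ _) = _
    rw [diffCompat_res hc, Scheme.Hom.app_eq_appLE, sec_eq hgi _ _ le_rfl]
    exact congrArg _ (ConcreteCategory.congr_hom (Z.presheaf.map_id _) t)
  have hid : r ≫ φ + c ≫ σ = 𝟙 _ := pull_univ_ext i hX fun U s => by
    show φ.app (i ⁻¹ᵁ U) (r.app (i ⁻¹ᵁ U) _) + σ.app (i ⁻¹ᵁ U) (c.app (i ⁻¹ᵁ U) _) = _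
    rw [hr, hc, hσ]
    show φ.app (i ⁻¹ᵁ U) (pullRes i (ClSub.idealMod i.ker) (hW U) (m U s)) + pullRes i ΩX _ _ =
      pullSect i ΩX U (dX.app U s)
    rw [conormalDiff_res hφ, hm]
    simp only [e, map_sub, pullRes_sub]
    rw [sub_add_eq_add_sub, sub_eq_iff_eq_add, app_map, pullRes_res, res_pullSect]
    congr 1
    have key : g.appLE (i ⁻¹ᵁ U) (W U) inf_le_right (i.app U s) =
        X.presheaf.map (homOfLE (inf_le_right : W U ≤ g ⁻¹ᵁ (i ⁻¹ᵁ U))).op (g.app (i ⁻¹ᵁ U) (i.app U s)) := rfl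
    rw [key, app_map, pullRes_res]
  have hepi : Epi c := ⟨fun {G} α β h => by
    rw [← Category.id_comp α, ← hσc, Category.assoc, h, ← Category.assoc, hσc, Category.id_comp]⟩
  refine ⟨w, exact_of_factors φ c w fun G γ hγ => ⟨σ ≫ γ, ?_⟩, ⟨r, hφr⟩, σ, hσc⟩
  conv_rhs => rw [← Category.id_comp γ, ← hid, Preadditive.add_comp, Category.assoc, hγ, comp_zero, zero_add]
  rw [Category.assoc]

end Groth.Agent.S9384
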