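import Groth.Statements.S9385
import Groth.Agent.ModPairBasic.Image
import Groth.Agent.BMCoh.Basic
import Mathlib.AlgebraicGeometry.Morphisms.SchemeTheoreticallyDominant


set_option autoImplicit false
universe u
open SchDense

namespace Groth.Agent.S9385

open AlgebraicGeometry CategoryTheory in
/-- Let h : Z → X be an immersion, and suppose that either Z is reduced or h is quasi-compact. Write Z̄
⊆ X for the scheme-theoretic image of h. Then Z → Z̄ is an open immersion identifying Z with a
scheme-theoretically dense (in the for-every-open sense) and topologically dense open subscheme of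
Z̄. -/
theorem result {Z X : Scheme.{u}} (h : Z ⟶ X) [IsImmersion h]
    (hyp : QuasiCompact h ∨ IsReduced Z) :
    ∃ hI : IsOpenImmersion h.toImage,
      (∀ W : h.image.Opens, IsSchemeTheoreticallyDominant
          (h.image.homOfLE (inf_le_right : @Scheme.Hom.opensRange _ _ h.toImage hI ⊓ W ≤ W))) ∧
        DenseRange h.toImage.base := by
  have restr : ∀ (_ : IsOpenImmersion h.toImage) (W : h.image.Opens),
      (Scheme.Hom.opensRange h.toImage ⊓ W : h.image.Opens) ≤ W := fun _ W => inf_le_right
  by_cases hq : QuasiCompact h
  · haveI := hq
    refine ⟨inferInstance, fun W => ?_, h.toImage.denseRange⟩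
    haveI : IsSchemeTheoreticallyDominant h.toImage := ⟨Groth.Agent.ModPairBasic.ker_toImage h⟩
    haveI : IsSchemeTheoreticallyDominant h.toImage.opensRange.ι := by
      have e : h.toImage.opensRange.ι = inv h.toImage.isoOpensRange.hom ≫ h.toImage := by
        rw [IsIso.eq_inv_comp, Scheme.Hom.isoOpensRange_hom_ι]
      rw [e]; infer_instance
    haveI : QuasiCompact h.toImage.opensRange.ι := by
      have e : h.toImage.opensRange.ι = inv h.toImage.isoOpensRange.hom ≫ h.toImage := by
        rw [IsIso.eq_inv_comp, Scheme.Hom.isoOpensRange_hom_ι]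
      rw [e]; infer_instance
    exact IsSchemeTheoreticallyDominant.of_isPullback (isPullback_opens_inf h.toImage.opensRange W)
  · haveI : IsReduced Z := hyp.resolve_left hq
    let C : TopologicalSpace.Closeds X := ⟨closure (Set.range h), isClosed_closure⟩
    have hk : h.ker = Scheme.IdealSheafData.vanishingIdeal C := by
      refine le_antisymm (Scheme.IdealSheafData.le_support_iff_le_vanishingIdeal.1 ?_) ?_
      · exact (h.ker.support.isClosed.closure_subset_iff).2 h.range_subset_ker_support
      · rw [← Scheme.IdealSheafData.map_bot, Scheme.IdealSheafData.le_map_iff_comap_le, le_bot_iff,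
          ← Scheme.IdealSheafData.support_eq_top_iff, Scheme.IdealSheafData.support_comap]
        refine SetLike.coe_injective (Set.eq_univ_iff_forall.2 fun a => ?_)
        show h a ∈ (Scheme.IdealSheafData.vanishingIdeal C).support
        rw [← SetLike.mem_coe, Scheme.IdealSheafData.coe_support_vanishingIdeal]
        exact subset_closure ⟨a, rfl⟩
    haveI hred : IsReduced h.image := by
      show IsReduced h.ker.subscheme
      rw [hk]
      exact Groth.Agent.BMCoh.isReduced_vanishingIdeal_subscheme C
    have hι : ∀ z, h.imageι (h.toImage z) = h z := fun z => by rw [← Scheme.Hom.comp_apply, h.toImage_imageι]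
    have hrι : ∀ y, h.imageι y ∈ closure (Set.range h) := fun y => by
      have : h.imageι y ∈ Set.range h.imageι := ⟨y, rfl⟩
      rw [Scheme.Hom.imageι, Scheme.IdealSheafData.range_subschemeι] at this
      have e : (h.ker.support : Set X) = closure (Set.range h) := by
        rw [hk, Scheme.IdealSheafData.coe_support_vanishingIdeal]; rfl
      exact e ▸ this
    have hrange : Set.range h.toImage = h.imageι ⁻¹' (coborder (Set.range h)) := by
      ext y
      constructor
      · rintro ⟨z, rfl⟩
        exact subset_coborder (by rw [hι]; exact ⟨z, rfl⟩)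
      · intro hy
        obtain ⟨z, hz⟩ : h.imageι y ∈ Set.range h := by
          by_contra hn
          exact hy ⟨hrι y, hn⟩
        exact ⟨z, h.imageι.isClosedEmbedding.injective ((hι z).trans hz)⟩
    let V : h.image.Opens := h.imageι ⁻¹ᵁ h.coborderRange
    have hV : Set.range h.toImage = (V : Set h.image) := hrange
    let l : Z ⟶ V := IsOpenImmersion.lift V.ι h.toImage (by rw [Scheme.Opens.range_ι, hV])
    have hl : l ≫ V.ι = h.toImage := IsOpenImmersion.lift_fac _ _ _
    haveI : Surjective l := ⟨fun v => by
      obtain ⟨z, hz⟩ := hV.ge v.2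
      exact ⟨z, V.ι.isOpenEmbedding.injective (by rw [← Scheme.Hom.comp_apply, hl]; exact hz)⟩⟩
    haveI : IsImmersion (l ≫ V.ι) := by rw [hl]; infer_instance
    haveI : IsPreimmersion l := (IsImmersion.of_comp l V.ι).toIsPreimmersion
    haveI : IsClosedImmersion l := IsClosedImmersion.of_isPreimmersion _ (by rw [Set.range_eq_univ.2 l.surjective]; exact isClosed_univ)
    haveI : IsReduced V.toScheme := isReduced_of_isOpenImmersion V.ι
    haveI : IsIso l := isIso_of_isClosedImmersion_of_surjective l
    haveI hoi : IsOpenImmersion h.toImage := by rw [← hl]; infer_instance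
    have hd : DenseRange h.toImage := fun y => by
      rw [h.imageι.isClosedEmbedding.isInducing.closure_eq_preimage_closure_image]
      show h.imageι y ∈ closure (h.imageι '' Set.range h.toImage)
      have e : h.imageι '' Set.range h.toImage = Set.range h := by
        rw [← Set.range_comp]; exact congrArg Set.range (funext hι)
      rw [e]
      exact hrι y
    refine ⟨hoi, fun W => ?_, hd⟩
    haveI : IsReduced W.toScheme := isReduced_of_isOpenImmersion W.ι
    haveI : IsDominant (h.image.homOfLE (restr hoi W)) := by
      rw [isDominant_iff, DenseRange]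
      have e : Set.range (h.image.homOfLE (restr hoi W)) = W.ι ⁻¹' Set.range h.toImage := by
        ext a
        constructor
        · rintro ⟨b, rfl⟩
          show W.ι (h.image.homOfLE _ b) ∈ Set.range h.toImage
          rw [← Scheme.Hom.comp_apply, Scheme.homOfLE_ι]
          exact b.2.1
        · intro ha
          refine ⟨⟨W.ι a, ha, a.2⟩, W.ι.isOpenEmbedding.injective ?_⟩
          show (h.image.homOfLE (restr hoi W) ≫ W.ι) ⟨W.ι a, ha, a.2⟩ = W.ι a
          rw [Scheme.homOfLE_ι]
          rfl
      rw [e]
      exact Dense.preimage hd W.ι.isOpenEmbedding.isOpenMap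
    exact IsSchemeTheoreticallyDominant.of_isDominant _

end Groth.Agent.S9385
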