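import Groth.Statements.S9386
import Groth.Agent.OmegaUniv.Affine
import Groth.Agent.RelFPLib.PullTensor
import Groth.Agent.QCohLib.Pullback
import Groth.Agent.QCohLib.Cover

set_option autoImplicit false
universe u
open OmegaSh
open scoped TensorProduct
open TensorProduct

namespace Groth.Agent.S9386

open AlgebraicGeometry CategoryTheory in
/-- For a cartesian square X' = X ×_S S' with projection g' : X' → X, the canonical map g'^*Ω_{X/S} →
Ω_{X'/S'} is an isomorphism (receptacle form: Ω_{X/S}, Ω_{X'/S'} are any modules carrying universal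
derivations and the map is pinned by its values on pulled-back differentials). -/
theorem result {X S X' S' : Scheme.{u}} (f : X ⟶ S) (g : S' ⟶ S) (g' : X' ⟶ X) (f' : X' ⟶ S')
    (hsq : IsPullback g' f' f g) (Ω : X.Modules) (d : OmegaSh.Der f Ω) (hd : OmegaSh.IsUniversal d)
    (Ω' : X'.Modules) (d' : OmegaSh.Der f' Ω') (hd' : OmegaSh.IsUniversal d')
    (c : (Scheme.Modules.pullback g').obj Ω ⟶ Ω') (hc : OmegaSh.IsDiffCompat g' d d' c) : IsIso c := by
  haveI := OmegaUniv.isQuasicoherent hd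
  haveI := OmegaUniv.isQuasicoherent hd'
  haveI : ((Scheme.Modules.pullback g').obj Ω).IsQuasicoherent := QCohLib.isQuasicoherent_pullback _ _
  have key : ∀ z : X', ∃ (U'' : X'.affineOpens) (U : X.affineOpens) (V : S'.affineOpens)
      (W : S.affineOpens) (hUW : U.1 ≤ f ⁻¹ᵁ W.1) (hVW : V.1 ≤ g ⁻¹ᵁ W.1),
      z ∈ U''.1 ∧ U''.1 = g' ⁻¹ᵁ U.1 ⊓ f' ⁻¹ᵁ V.1 := by
    intro z
    obtain ⟨W, hW, hzW, -⟩ := exists_isAffineOpen_mem_and_subset (x := f (g' z)) (U := (⊤ : S.Opens)) trivial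
    obtain ⟨U, hU, hzU, hUW⟩ := exists_isAffineOpen_mem_and_subset (x := g' z) (U := f ⁻¹ᵁ W) hzW
    have hzW' : g (f' z) ∈ W := by
      have := congrArg (fun t : X' ⟶ S => t z) hsq.w
      exact this ▸ hzW
    obtain ⟨V, hV, hzV, hVW⟩ := exists_isAffineOpen_mem_and_subset (x := f' z) (U := g ⁻¹ᵁ W) hzW'
    have hA : IsAffineOpen (g' ⁻¹ᵁ U ⊓ f' ⁻¹ᵁ V) := by
      have : IsAffine U := hU
      have : IsAffine V := hV
      have : IsAffine W := hW
      exact .of_isIso (Scheme.Hom.isPullback_resLE hsq hVW hUW rfl).isoPullback.hom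
    exact ⟨⟨_, hA⟩, ⟨U, hU⟩, ⟨V, hV⟩, ⟨W, hW⟩, hUW, hVW, ⟨hzU, hzV⟩, rfl⟩
  choose U'' U V W hUW hVW hz heq using key
  refine QCohLib.isIso_of_cover_bijective (fun z => (U'' z).1) (fun z => (U'' z).2) (fun z => ⟨z, hz z⟩) c fun z => ?_
  have hp : (U'' z).1 ≤ g' ⁻¹ᵁ (U z).1 := (heq z).le.trans inf_le_left
  have hq : (U'' z).1 ≤ f' ⁻¹ᵁ (V z).1 := (heq z).le.trans inf_le_right
  have hpush : CategoryTheory.IsPushout (g.appLE (W z).1 (V z).1 (hVW z)) (f.appLE (W z).1 (U z).1 (hUW z))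
      (f'.appLE (V z).1 (U'' z).1 hq) (g'.appLE (U z).1 (U'' z).1 hp) :=
    ((isIso_pushoutSection_iff hsq (hVW z) (hUW z) (heq z)).1
      (isIso_pushoutSection_of_isAffineOpen hsq (hVW z) (hUW z) (heq z) (W z).2 (V z).2 (U z).2)).flip
  letI : Algebra Γ(S, (W z).1) Γ(X, (U z).1) := (f.appLE (W z).1 (U z).1 (hUW z)).hom.toAlgebra
  letI : Algebra Γ(S, (W z).1) Γ(S', (V z).1) := (g.appLE (W z).1 (V z).1 (hVW z)).hom.toAlgebra
  letI : Algebra Γ(X, (U z).1) Γ(X', (U'' z).1) := (g'.appLE (U z).1 (U'' z).1 hp).hom.toAlgebra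
  letI : Algebra Γ(S', (V z).1) Γ(X', (U'' z).1) := (f'.appLE (V z).1 (U'' z).1 hq).hom.toAlgebra
  letI : Algebra Γ(S, (W z).1) Γ(X', (U'' z).1) :=
    (f.appLE (W z).1 (U z).1 (hUW z) ≫ g'.appLE (U z).1 (U'' z).1 hp).hom.toAlgebra
  haveI : IsScalarTower Γ(S, (W z).1) Γ(X, (U z).1) Γ(X', (U'' z).1) := IsScalarTower.of_algebraMap_eq' rfl
  haveI : IsScalarTower Γ(S, (W z).1) Γ(S', (V z).1) Γ(X', (U'' z).1) :=
    IsScalarTower.of_algebraMap_eq' (congrArg CommRingCat.Hom.hom hpush.w).symm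
  haveI : Algebra.IsPushout Γ(S, (W z).1) Γ(S', (V z).1) Γ(X, (U z).1) Γ(X', (U'' z).1) :=
    CommRingCat.isPushout_iff_isPushout.1 hpush
  obtain ⟨e, he⟩ := RelFPLib.exists_pullTensorEquiv g' Ω (U z).2 (U'' z).2 hp
  let e₁ : (Ω[Γ(X, (U z).1)⁄Γ(S, (W z).1)]) ≃ₗ[Γ(X, (U z).1)] Γ(Ω, (U z).1) :=
    LinearEquiv.ofBijective (OmegaUniv.toMod d (W z).1 (U z).1 (hUW z)).hom
      (OmegaUniv.bijective_toMod hd (U z).2 (W z).2 (hUW z))
  let e₂ : (Ω[Γ(X', (U'' z).1)⁄Γ(S', (V z).1)]) ≃ₗ[Γ(X', (U'' z).1)] Γ(Ω', (U'' z).1) :=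
    LinearEquiv.ofBijective (OmegaUniv.toMod d' (V z).1 (U'' z).1 hq).hom
      (OmegaUniv.bijective_toMod hd' (U'' z).2 (V z).2 hq)
  let r := TensorProduct.AlgebraTensorModule.congr (LinearEquiv.refl Γ(X', (U'' z).1) Γ(X', (U'' z).1)) e₁
  let k := KaehlerDifferential.tensorKaehlerEquiv Γ(S, (W z).1) Γ(S', (V z).1) Γ(X, (U z).1) Γ(X', (U'' z).1)
  have hval : ∀ t, c.app (U'' z).1 (e (r t)) = e₂ (k t) := by
    intro t
    induction t using TensorProduct.induction_on with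
    | zero => simp only [map_zero]
    | add a b ha hb => simp only [map_add, ha, hb]
    | tmul a w =>
      have hw : w ∈ Submodule.span Γ(X, (U z).1) (Set.range (KaehlerDifferential.D Γ(S, (W z).1) Γ(X, (U z).1))) := by
        rw [KaehlerDifferential.span_range_derivation]; trivial
      induction hw using Submodule.span_induction generalizing a with
      | zero => simp only [tmul_zero, map_zero]
      | add x y _ _ hx hy => simp only [tmul_add, map_add, hx, hy]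
      | smul b x _ hx => rw [← TensorProduct.smul_tmul]; exact hx _
      | mem x hx =>
        obtain ⟨b, rfl⟩ := hx
        rw [show r (a ⊗ₜ KaehlerDifferential.D _ _ b) = a ⊗ₜ e₁ (KaehlerDifferential.D _ _ b) from rfl, he,
          show e₁ (KaehlerDifferential.D _ _ b) = d.app (U z).1 b from OmegaUniv.toMod_d d _ _ (hUW z) b,
          Scheme.Modules.Hom.app_smul, OmegaUniv.diffCompat_res (h := g') hc hp,
          show k (a ⊗ₜ KaehlerDifferential.D _ _ b) = _ from KaehlerDifferential.tensorKaehlerEquiv_tmul_D _ _ _ _ a b,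
          map_smul]
        exact congrArg _ (OmegaUniv.toMod_d d' _ _ hq _).symm
  constructor
  · intro x y hxy
    obtain ⟨x, rfl⟩ := (r.trans e).surjective x
    obtain ⟨y, rfl⟩ := (r.trans e).surjective y
    exact congrArg _ ((k.trans e₂).injective ((hval x).symm.trans (hxy.trans (hval y))))
  · intro w
    obtain ⟨t, rfl⟩ := (k.trans e₂).surjective w
    exact ⟨e (r t), hval t⟩

end Groth.Agent.S9386
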