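import Groth.Statements.S9387
import Groth.Agent.OmegaUniv.Affine
import Groth.Agent.FittSheaf.Omega

set_option autoImplicit false
universe u
open OmegaSh

namespace Groth.Agent.S9387

open AlgebraicGeometry CategoryTheory in
/-- If f : X → S is locally of finite type then Ω_{X/S} is an O_X-module of finite type (for any
receptacle Ω of a universal S-derivation). -/
theorem result {X S : Scheme.{u}} (f : X ⟶ S) [LocallyOfFiniteType f]
    (Ω : X.Modules) (d : OmegaSh.Der f Ω) (hd : OmegaSh.IsUniversal d) : CohB1.IsFT Ω := by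
  haveI := OmegaUniv.isQuasicoherent hd
  choose V U hxU hle using fun x : X => FittSheaf.exists_affine_pair f x
  refine QCohLib.isFiniteType_of_affine_cover Ω U (fun x => ⟨x, hxU x⟩) fun x => ?_
  letI := (f.appLE (V x).1 (U x).1 (hle x)).hom.toAlgebra
  haveI : Algebra.FiniteType Γ(S, (V x).1) Γ(X, (U x).1) := f.finiteType_appLE (V x).2 (U x).2 (hle x)
  have h0 : Module.Finite Γ(X, (U x).1) (Ω[Γ(X, (U x).1)⁄Γ(S, (V x).1)]) := inferInstance
  let e : (Ω[Γ(X, (U x).1)⁄Γ(S, (V x).1)]) ≃ₗ[Γ(X, (U x).1)] Γ(Ω, (U x).1) :=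
    LinearEquiv.ofBijective (OmegaUniv.toMod d (V x).1 (U x).1 (hle x)).hom
      (OmegaUniv.bijective_toMod hd (U x).2 (V x).2 (hle x))
  haveI := h0
  exact Module.Finite.equiv e

end Groth.Agent.S9387
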