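import Groth.Statements.S9389
import Mathlib
-- import your own Groth.Agent.* helpers here

set_option autoImplicit false
universe u
open QFin

namespace Groth.Agent.S9389

open AlgebraicGeometry CategoryTheory CategoryTheory.Limits in
/-- For f : X → S locally of finite type and a cartesian square with base change f' : X' → S', g' : X' →
X, the quasi-finite locus of f' is the inverse image under g' of the quasi-finite locus of f. -/
theorem result {X S X' S' : Scheme.{u}} (f : X ⟶ S) [LocallyOfFiniteType f] (g : S' ⟶ S)
    (g' : X' ⟶ X) (f' : X' ⟶ S') (hsq : IsPullback g' f' f g) :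
    {x' : ↑X' | f'.QuasiFiniteAt x'} = g'.base ⁻¹' {x : ↑X | f.QuasiFiniteAt x} := by
  haveI : LocallyOfFiniteType f' := MorphismProperty.of_isPullback hsq inferInstance
  ext x'
  simp only [Set.mem_setOf_eq, Set.mem_preimage]
  constructor
  · intro hx'
    have hpb := isPullback_fiberToSpecResidueField_of_isPullback hsq (f'.base x')
    let φ : f'.fiber (f'.base x') ⟶ f.fiber (g.base (f'.base x')) := pullback.map f' (S'.fromSpecResidueField (f'.base x')) f (S.fromSpecResidueField (g.base (f'.base x'))) g' (Spec.map (g.residueFieldMap (f'.base x'))) g hsq.w.symm (by simp)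
    haveI : UniversallyOpen (Spec.map (g.residueFieldMap (f'.base x'))) := inferInstance
    haveI : UniversallyOpen φ := MorphismProperty.of_isPullback hpb.flip inferInstance
    have h1 : IsOpen ({f'.asFiber x'} : Set ↑(f'.fiber (f'.base x'))) :=
      Scheme.Hom.quasiFiniteAt_iff_isOpen_singleton_asFiber.1 hx'
    have h2 := φ.isOpenMap _ h1
    erw [Set.image_singleton] at h2
    have h3 : f.fiberι _ (φ.base (f'.asFiber x')) = g'.base x' := by
      have e : φ ≫ f.fiberι (g.base (f'.base x')) = f'.fiberι (f'.base x') ≫ g' := pullback.lift_fst _ _ _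
      have e' := congrArg (fun ψ : f'.fiber (f'.base x') ⟶ X => ψ.base (f'.asFiber x')) e
      simpa using e'
    have key : ∀ (y : S) (a : f.fiber y), f.fiberι y a = g'.base x' → IsOpen ({a} : Set ↑(f.fiber y)) → f.QuasiFiniteAt (g'.base x') := by
      intro y a ha ho
      have hy : f.base (g'.base x') = y := by
        rw [← ha]
        have : f.fiberι y a ∈ Set.range (f.fiberι y) := ⟨a, rfl⟩
        rw [f.range_fiberι] at this
        exact this
      subst hy
      rw [Scheme.Hom.quasiFiniteAt_iff_isOpen_singleton_asFiber]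
      rwa [show f.asFiber (g'.base x') = a from (f.fiberι _).isEmbedding.injective (by rw [Scheme.Hom.fiberι_asFiber, ha])]
    exact key _ _ h3 h2
  · intro hx
    let U := f.quasiFiniteLocus
    haveI : LocallyQuasiFinite (U.ι ≫ f) := inferInstance
    have hc : IsPullback ((g' ⁻¹ᵁ U).ι) (g' ∣_ U) g' U.ι := (isPullback_morphismRestrict g' U).flip
    have hcomp : IsPullback (g' ∣_ U) ((g' ⁻¹ᵁ U).ι ≫ f') (U.ι ≫ f) g := hc.flip.paste_vert hsq
    haveI : LocallyQuasiFinite ((g' ⁻¹ᵁ U).ι ≫ f') := MorphismProperty.of_isPullback hcomp inferInstance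
    have := ((g' ⁻¹ᵁ U).ι ≫ f').quasiFiniteAt ⟨x', hx⟩
    exact Scheme.Hom.quasiFiniteAt_comp_iff_of_isOpenImmersion.1 this

end Groth.Agent.S9389
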