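import Groth.Statements.S9395
import Groth.Agent.NagataLib.Localization

set_option autoImplicit false
universe u
open CAlg

attribute [local instance] Polynomial.algebra

namespace Groth.Agent.S9395

/-- For a Noetherian domain R, if the Laurent polynomial ring R[X, 1/X] (the localization of R[X] away
from X) is N-1, then R is N-1. -/
theorem result (R : Type u) [CommRing R] [IsDomain R] [IsNoetherianRing R]
    (S : Type u) [CommRing S] [IsDomain S] [Algebra (Polynomial R) S]
    [IsLocalization.Away (Polynomial.X : Polynomial R) S] (h : CAlg.IsN1 S) : CAlg.IsN1 R := by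
  let K := FractionRing R
  have hlocK : IsLocalization ((nonZeroDivisors R).map (Polynomial.C : R →+* Polynomial R))
      (Polynomial K) := Polynomial.isLocalization (nonZeroDivisors R) K
  let F := FractionRing (Polynomial K)
  have hFR : IsFractionRing (Polynomial R) F :=
    Groth.Agent.NagataLib.isFractionRing_of_localization
      ((nonZeroDivisors R).map (Polynomial.C : R →+* Polynomial R)) (Polynomial K) F
  let T := Localization.Away (Polynomial.X : Polynomial K)
  have hX : (algebraMap (Polynomial R) T) Polynomial.X = algebraMap (Polynomial K) T Polynomial.X := by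
    rw [IsScalarTower.algebraMap_apply (Polynomial R) (Polynomial K) T]
    simp
  let ψ : S →+* T := IsLocalization.Away.lift (Polynomial.X : Polynomial R)
    (show IsUnit (algebraMap (Polynomial R) T Polynomial.X) from hX ▸
      IsLocalization.Away.algebraMap_isUnit (Polynomial.X : Polynomial K))
  have hTF : ∀ y : Submonoid.powers (Polynomial.X : Polynomial K),
      IsUnit (algebraMap (Polynomial K) F y) := fun ⟨_, n, rfl⟩ => by
    change IsUnit (algebraMap (Polynomial K) F (Polynomial.X ^ n))
    rw [isUnit_iff_ne_zero, map_pow]
    exact pow_ne_zero _ fun h0 => Polynomial.X_ne_zero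
      (IsFractionRing.injective (Polynomial K) F (h0.trans (map_zero _).symm))
  let ι : T →+* F := IsLocalization.lift hTF
  let : Algebra S T := ψ.toAlgebra
  let : Algebra T F := ι.toAlgebra
  let : Algebra S F := (ι.comp ψ).toAlgebra
  have : IsScalarTower S T F := IsScalarTower.of_algebraMap_eq fun x => rfl
  have hRST : IsScalarTower (Polynomial R) S T := IsScalarTower.of_algebraMap_eq fun x =>
    (IsLocalization.Away.lift_eq _ _ x).symm
  have : IsScalarTower (Polynomial R) S F := IsScalarTower.of_algebraMap_eq fun x => by
    change _ = ι (ψ (algebraMap (Polynomial R) S x))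
    rw [IsLocalization.Away.lift_eq, IsScalarTower.algebraMap_apply (Polynomial R) (Polynomial K) T,
      IsLocalization.lift_eq, ← IsScalarTower.algebraMap_apply]
  have : IsFractionRing S F :=
    IsFractionRing.isFractionRing_of_isDomain_of_isLocalization
      (Submonoid.powers (Polynomial.X : Polynomial R)) S F
  have hSnoeth : IsNoetherianRing S :=
    IsLocalization.isNoetherianRing (Submonoid.powers (Polynomial.X : Polynomial R)) S inferInstance
  have hι : Function.Injective ι := by
    refine (IsLocalization.lift_injective_iff hTF).2 fun x y => ⟨fun e => ?_, fun e => ?_⟩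
    · have := congrArg ι e
      rwa [IsLocalization.lift_eq, IsLocalization.lift_eq] at this
    · rw [IsFractionRing.injective (Polynomial K) F e]
  have hfin : Module.Finite S (integralClosure S T) :=
    Groth.Agent.NagataLib.finite_integralClosure_of_algHom (IsScalarTower.toAlgHom S T F) hι
      ((Groth.Agent.NagataLib.isN1_iff F).1 h)
  obtain ⟨G, hG⟩ := hfin.fg_top
  let ev : T →+* K := IsLocalization.Away.lift (Polynomial.X : Polynomial K)
    (g := Polynomial.evalRingHom (1 : K)) (by simp)
  have hev : ∀ s : S, ∃ a : R, ev (algebraMap S T s) = algebraMap R K a := by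
    intro s
    obtain ⟨n, g, hs⟩ := IsLocalization.Away.surj (Polynomial.X : Polynomial R) s
    refine ⟨g.eval 1, ?_⟩
    have hs' := congrArg (fun t => ev (algebraMap S T t)) hs
    simp only [map_mul, map_pow, ← IsScalarTower.algebraMap_apply (Polynomial R) S T] at hs'
    rw [IsScalarTower.algebraMap_apply (Polynomial R) (Polynomial K) T,
      IsScalarTower.algebraMap_apply (Polynomial R) (Polynomial K) T g, IsLocalization.Away.lift_eq,
      IsLocalization.Away.lift_eq] at hs'
    simpa [Polynomial.eval_map, Polynomial.eval₂_at_one] using hs'
  classical
  let N := Submodule.span R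
    ((fun c : integralClosure S T => ev (c : T)) '' (G : Set (integralClosure S T)))
  have : Module.Finite R N := Module.Finite.span_of_finite R (G.finite_toSet.image _)
  have hle : (integralClosure R K).toSubmodule ≤ N := by
    intro r hr
    let j : K →ₐ[R] T :=
      { (algebraMap (Polynomial K) T).comp Polynomial.C with
        commutes' := fun a => by
          change algebraMap (Polynomial K) T (Polynomial.C (algebraMap R K a)) = _
          rw [IsScalarTower.algebraMap_apply R (Polynomial K) T]
          rfl }
    let : Algebra R S := ((algebraMap (Polynomial R) S).comp Polynomial.C).toAlgebra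
    have : IsScalarTower R S T := IsScalarTower.of_algebraMap_eq fun a => by
      change _ = algebraMap S T (algebraMap (Polynomial R) S (Polynomial.C a))
      rw [← IsScalarTower.algebraMap_apply (Polynomial R) S T]
      exact IsScalarTower.algebraMap_apply R (Polynomial R) T a
    let c : integralClosure S T := ⟨j r, IsIntegral.tower_top (IsIntegral.map j hr)⟩
    have hr' : ev (c : T) = r := by
      change ev (algebraMap (Polynomial K) T (Polynomial.C r)) = r
      rw [IsLocalization.Away.lift_eq]
      simp
    rw [← hr']
    have hc : c ∈ Submodule.span S (G : Set (integralClosure S T)) := by rw [hG]; trivial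
    clear_value c
    clear hr'
    induction hc using Submodule.span_induction with
    | mem x hx => exact Submodule.subset_span ⟨x, hx, rfl⟩
    | zero => simp
    | add x y _ _ hx hy => rw [Subalgebra.coe_add, map_add]; exact N.add_mem hx hy
    | smul s x _ hx =>
      obtain ⟨a, ha⟩ := hev s
      rw [Subalgebra.coe_smul, Algebra.smul_def, map_mul, ha, ← Algebra.smul_def]
      exact N.smul_mem a hx
  exact Groth.Agent.NagataLib.finite_of_injective_linearMap (N := N)
    (Submodule.inclusion hle) (Submodule.inclusion_injective hle)

end Groth.Agent.S9395
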