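import Groth.Statements.S9396
import Groth.Agent.CohenStruct.N2
import Groth.Agent.NagataLib.Basic
import Mathlib

set_option autoImplicit false
universe u
open CAlg

namespace Groth.Agent.S9396

open scoped TensorProduct

/-- A Noetherian domain with an N-2 finite domain extension is N-2. -/
theorem isN2_of_finite_extension {A B : Type u} [CommRing A] [IsDomain A] [IsNoetherianRing A]
    [CommRing B] [IsDomain B] [Algebra A B] (hAB : Function.Injective (algebraMap A B))
    [Module.Finite A B] (hB : CAlg.IsN2 B) : CAlg.IsN2 A := by
  have : FaithfulSMul A B := (faithfulSMul_iff_algebraMap_injective A B).mpr hAB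
  intro L _ _ _ _ hL
  let K := FractionRing A
  let M := FractionRing B
  let : Algebra K M := FractionRing.liftAlgebra A M
  have : IsScalarTower A K M := FractionRing.isScalarTower_liftAlgebra A M
  have : FiniteDimensional K M := by
    have : Algebra.IsAlgebraic A B := Algebra.IsIntegral.isAlgebraic
    exact Module.Finite.of_isLocalization A B (nonZeroDivisors A)
  let P := M ⊗[K] L
  have : Nontrivial P := (Algebra.TensorProduct.includeRight_injective (R := K) (A := M)
    (B := L) (algebraMap K M).injective).nontrivial
  obtain ⟨m, hm⟩ := Ideal.exists_maximal P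
  let := Ideal.Quotient.field m
  have : IsScalarTower A K (P ⧸ m) := inferInstance
  have : IsScalarTower B M (P ⧸ m) := inferInstance
  have : IsScalarTower A B (P ⧸ m) := .of_algebraMap_eq fun x => by
    rw [IsScalarTower.algebraMap_apply A K (P ⧸ m), IsScalarTower.algebraMap_apply B M (P ⧸ m),
      IsScalarTower.algebraMap_apply K M (P ⧸ m), ← IsScalarTower.algebraMap_apply A K M,
      ← IsScalarTower.algebraMap_apply A B M]
  have : Module.Finite M (P ⧸ m) := Module.Finite.of_surjective
    (Ideal.Quotient.mkₐ M m).toLinearMap Ideal.Quotient.mk_surjective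
  have h1 := Groth.Agent.NagataLib.finite_integralClosure_of_isN2 hB M (P ⧸ m)
  let j : L →ₐ[K] P ⧸ m := (Ideal.Quotient.mkₐ K m).comp Algebra.TensorProduct.includeRight
  exact Groth.Agent.NagataLib.finite_integralClosure_of_algHom (j.restrictScalars A)
    j.toRingHom.injective (Groth.Agent.NagataLib.finite_integralClosure_of_tower h1)

/-- Power series over a finite algebra are finite over power series. -/
theorem finite_powerSeries_map {R R' : Type u} [CommRing R] [CommRing R'] [Algebra R R']
    [Module.Finite R R'] : (PowerSeries.map (algebraMap R R')).Finite := by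
  classical
  obtain ⟨n, g, hg⟩ := Module.Finite.exists_fin (R := R) (M := R')
  let := (PowerSeries.map (algebraMap R R')).toAlgebra
  refine ⟨⟨Finset.univ.image fun i => PowerSeries.C (g i), ?_⟩⟩
  rw [eq_top_iff]
  rintro F -
  have hc : ∀ k, ∃ c : Fin n → R, ∑ i, c i • g i = PowerSeries.coeff k F := fun k =>
    (Submodule.mem_span_range_iff_exists_fun R).mp (hg ▸ Submodule.mem_top)
  choose c hc using hc
  have hF : F = ∑ i, (PowerSeries.mk fun k => c k i) • PowerSeries.C (g i) := by
    ext k
    rw [← hc k, map_sum]
    refine Finset.sum_congr rfl fun i _ => ?_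
    rw [Algebra.smul_def]
    change _ = PowerSeries.coeff k
      (PowerSeries.map (algebraMap R R') (PowerSeries.mk fun k => c k i) * PowerSeries.C (g i))
    rw [PowerSeries.coeff_mul_C, PowerSeries.coeff_map, PowerSeries.coeff_mk]
  rw [hF]
  exact Submodule.sum_mem _ fun i _ => Submodule.smul_mem _ _
    (Submodule.subset_span (Finset.mem_coe.mpr (Finset.mem_image_of_mem _ (Finset.mem_univ i))))

/-- If R is a Noetherian N-2 (Japanese) domain, then the power series ring R[[X]] is an N-2 domain. (R
is not assumed integrally closed.) -/
theorem result (R : Type u) [CommRing R] [IsDomain R] [IsNoetherianRing R]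
    (h : CAlg.IsN2 R) : CAlg.IsN2 (PowerSeries R) := by
  let R' := integralClosure R (FractionRing R)
  have hfin : Module.Finite R R' := Groth.Agent.NagataLib.isN1_of_isN2 h
  have hinj : Function.Injective (algebraMap R R') := fun a b hab =>
    IsFractionRing.injective R (FractionRing R) (congrArg Subtype.val hab)
  have : IsNoetherianRing R' := IsNoetherianRing.of_finite R R'
  have h' : CAlg.IsN2 R' := Groth.Agent.NagataLib.isN2_of_finite hinj h
  have : IsFractionRing R' (FractionRing R) :=
    integralClosure.isFractionRing_of_finite_extension (FractionRing R) (FractionRing R)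
  have : IsIntegrallyClosed R' :=
    integralClosure.isIntegrallyClosedOfFiniteExtension (FractionRing R)
  have : IsDomain (PowerSeries R') := NoZeroDivisors.to_isDomain _
  obtain ⟨-, h2⟩ := Groth.Agent.CohenStruct.powerSeries_normal_and_isN2 R' h'
  let := (PowerSeries.map (algebraMap R R')).toAlgebra
  have : Module.Finite (PowerSeries R) (PowerSeries R') := finite_powerSeries_map
  exact isN2_of_finite_extension (PowerSeries.map_injective _ hinj) h2

end Groth.Agent.S9396
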