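import Groth.Statements.S9401
import Groth.Agent.UnitProd.SmoothReduced
import Groth.Agent.HenselLib.FaithfulDescent
import Groth.Agent.NagataLib.FiniteClosure
-- import your own Groth.Agent.* helpers here

set_option autoImplicit false
universe u
open CAlg
open scoped TensorProduct

namespace Groth.Agent.S9401

/-- The Nagata property descends along smooth ring maps that are surjective on spectra. -/
theorem result (R : Type u) [CommRing R] (S : Type u)
    [CommRing S] [Algebra R S] [Algebra.Smooth R S]
    (hs : Function.Surjective (PrimeSpectrum.comap (algebraMap R S))) (hS : CAlg.IsNagata S) :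
    CAlg.IsNagata R := by
  classical
  have : Module.FaithfullyFlat R S := Module.FaithfullyFlat.of_comap_surjective hs
  have := hS.1
  have : IsNoetherianRing R := Groth.Agent.HenselLib.isNoetherianRing_of_faithfullyFlat R S
  refine ⟨inferInstance, fun p _ => ?_⟩
  intro L _ _ _ _ hL
  let : Algebra R L := ((algebraMap (R ⧸ p) L).comp (algebraMap R (R ⧸ p))).toAlgebra
  have : IsScalarTower R (R ⧸ p) L := .of_algebraMap_eq fun _ => rfl
  let K := FractionRing (R ⧸ p)
  have : Algebra.EssFiniteType (R ⧸ p) K :=
    Algebra.EssFiniteType.of_isLocalization K (nonZeroDivisors (R ⧸ p))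
  have : Algebra.EssFiniteType (R ⧸ p) L := Algebra.EssFiniteType.comp (R ⧸ p) K L
  have : Algebra.EssFiniteType R L := Algebra.EssFiniteType.comp R (R ⧸ p) L
  have : IsNoetherianRing (S ⊗[R] L) := Algebra.EssFiniteType.isNoetherianRing S (S ⊗[R] L)
  have hred : _root_.IsReduced (S ⊗[R] L) := by
    have : _root_.IsReduced (L ⊗[R] S) := Groth.Agent.UnitProd.isReduced_of_smooth L _
    exact isReduced_of_injective _ (Algebra.TensorProduct.comm R S L).injective
  have hfinS : Module.Finite S (integralClosure S (S ⊗[R] L)) := by
    let T := S ⊗[R] L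
    have : Finite (minimalPrimes T) := (minimalPrimes.finite_of_isNoetherianRing T).to_subtype
    have hP : ∀ P : minimalPrimes T, Module.Finite S (integralClosure S (T ⧸ P.1)) := fun P => by
      have : P.1.IsPrime := P.2.1.1
      exact Groth.Agent.NagataLib.finite_integralClosure_domain hS (T ⧸ P.1)
    let f : integralClosure S T →ₗ[S] ((P : minimalPrimes T) → integralClosure S (T ⧸ P.1)) :=
      LinearMap.pi fun P =>
        { toFun := fun x => ⟨Ideal.Quotient.mkₐ S P.1 x.1, x.2.map _⟩
          map_add' := fun x y => Subtype.ext (map_add _ x.1 y.1)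
          map_smul' := fun a x => Subtype.ext (map_smul (Ideal.Quotient.mkₐ S P.1) a x.1) }
    refine Groth.Agent.NagataLib.finite_of_injective_linearMap f fun x y e => Subtype.ext (sub_eq_zero.1 ?_)
    have h : (x.1 - y.1) ∈ sInf (minimalPrimes T) := by
      rw [Ideal.mem_sInf]
      intro P hP
      exact Ideal.Quotient.eq.1 (congrArg Subtype.val (congrFun e ⟨P, hP⟩))
    rw [minimalPrimes, Ideal.sInf_minimalPrimes] at h
    obtain ⟨n, hn⟩ := h
    exact hred.eq_zero _ ⟨n, Ideal.mem_bot.mp hn⟩
  let e := AlgEquiv.ofBijective (TensorProduct.toIntegralClosure R S L)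
    TensorProduct.toIntegralClosure_bijective_of_smooth
  have : Module.Finite S (S ⊗[R] integralClosure R L) := Module.Finite.equiv e.symm.toLinearEquiv
  have : Module.Finite R (integralClosure R L) :=
    Module.Finite.of_finite_tensorProduct_of_faithfullyFlat S
  let j : integralClosure (R ⧸ p) L →ₗ[R] integralClosure R L :=
    { toFun := fun y => ⟨y.1, isIntegral_trans y.1 y.2⟩
      map_add' := fun _ _ => rfl
      map_smul' := fun a y => Subtype.ext rfl }
  have : Module.Finite R (integralClosure (R ⧸ p) L) :=
    Module.Finite.of_injective j fun y y' h => Subtype.ext (congrArg Subtype.val h :)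
  exact Module.Finite.of_restrictScalars_finite R _ _

end Groth.Agent.S9401
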