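import Mathlib
import Groth.Statements.S9402
-- import your own Groth.Agent.* helpers here

set_option autoImplicit false
universe u
open CAlg

namespace Groth.Agent.S9402

/-- Let R → S be a ring map with S a nonzero algebra over the rationals and f ∈ S such that some
S-linear form on the module of differentials of S over R sends df to 1 (that is, df spans a free
direct summand of rank one). Then f is not nilpotent. (The published statement asks only that S·df
be a direct summand of the module of differentials, which also holds for the rationals with a
square-zero element adjoined and for the zero ring, where f is nilpotent; this row asks for an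
S-linear form on the differentials sending df to 1, as the published proof uses, and S nonzero.) -/
theorem result (R : Type u) [CommRing R] (S : Type u)
    [CommRing S] [Nontrivial S] [Algebra R S] [Algebra ℚ S] (f : S)
    (θ : Ω[S⁄R] →ₗ[S] S) (hθ : θ (KaehlerDifferential.D R S f) = 1) : ¬ IsNilpotent f := by
  intro hn
  classical
  have h0 : Nat.find hn ≠ 0 := fun h => one_ne_zero (α := S) (by simpa [h] using Nat.find_spec hn)
  obtain ⟨m, hm⟩ := Nat.exists_eq_succ_of_ne_zero h0
  have h1 : f ^ (m + 1) = 0 := by simpa [hm] using Nat.find_spec hn
  have h2 : f ^ m ≠ 0 := Nat.find_min hn (by omega)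
  have h3 := congrArg θ ((Derivation.leibniz_pow (KaehlerDifferential.D R S) f (m + 1)).symm.trans (by rw [h1, map_zero]))
  simp only [map_zero, map_nsmul, map_smul, hθ, Nat.add_sub_cancel, smul_eq_mul, mul_one, nsmul_eq_mul] at h3
  have hu : IsUnit ((m + 1 : ℕ) : S) := by
    have : IsUnit (algebraMap ℚ S ((m + 1 : ℕ) : ℚ)) := (IsUnit.mk0 _ (Nat.cast_ne_zero.mpr (by omega))).map _
    rwa [map_natCast] at this
  exact h2 (hu.mul_right_eq_zero.mp h3)

end Groth.Agent.S9402
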