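import Groth.Statements.S9403
import Mathlib
-- import your own Groth.Agent.* helpers here

set_option autoImplicit false
universe u
open CAlg

namespace Groth.Agent.S9403

/-- Let R → S be a ring map with S a Noetherian local ring which is an algebra over the rationals, and f
∈ S such that some S-linear form on the module of differentials of S over R sends df to 1 (df spans
a free direct summand of rank one). Then f is a nonzerodivisor of S. (The published statement asks
only that S·df be a direct summand of the module of differentials, which also holds for the
rationals with a square-zero element adjoined, where f is a zero divisor; this row asks for an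
S-linear form on the differentials sending df to 1, as the published proof uses.) -/
theorem result (R : Type u) [CommRing R]
    (S : Type u) [CommRing S] [IsLocalRing S] [IsNoetherianRing S] [Algebra R S] [Algebra ℚ S]
    (f : S) (θ : Ω[S⁄R] →ₗ[S] S) (hθ : θ (KaehlerDifferential.D R S f) = 1) : f ∈ nonZeroDivisors S := by
  rw [mem_nonZeroDivisors_iff_right]
  intro g hg
  by_cases hu : IsUnit f
  · exact hu.mul_left_eq_zero.mp hg
  let d : S → S := fun s => θ (KaehlerDifferential.D R S s)
  have dmul : ∀ a b, d (a * b) = a * d b + b * d a := fun a b => by
    simp [d, Derivation.leibniz]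
  have hmem : ∀ m : ℕ, g ∈ Ideal.span {f} ^ m := by
    intro m
    induction m with
    | zero => simp
    | succ m ih =>
      rw [Ideal.span_singleton_pow, Ideal.mem_span_singleton] at ih ⊢
      obtain ⟨h, rfl⟩ := ih
      have hpow : ∀ j : ℕ, d (f ^ (j + 1)) = ((j + 1 : ℕ) : S) * f ^ j := by
        intro j
        induction j with
        | zero => simpa [d] using hθ
        | succ j ihj =>
          rw [pow_succ f (j + 1), dmul, ihj, show d f = 1 from hθ]
          push_cast
          ring
      have h1 : f ^ (m + 1) * h = 0 := by rw [← hg]; ring
      have h2 : d (f ^ (m + 1) * h) = 0 := by rw [h1]; simp [d]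
      rw [dmul, hpow] at h2
      set v : S := algebraMap ℚ S ((m + 1 : ℕ) : ℚ)⁻¹ with hv
      have hv1 : ((m + 1 : ℕ) : S) * v = 1 := by
        rw [hv, ← map_natCast (algebraMap ℚ S), ← map_mul, mul_inv_cancel₀, map_one]
        exact Nat.cast_ne_zero.mpr (by omega)
      exact ⟨-(d h * v), by linear_combination v * h2 - (f ^ m * h) * hv1⟩
  have hne : Ideal.span {f} ≠ (⊤ : Ideal S) := fun h => hu (Ideal.span_singleton_eq_top.mp h)
  have := Submodule.mem_iInf _ |>.mpr hmem
  rwa [Ideal.iInf_pow_eq_bot_of_isLocalRing _ hne, Submodule.mem_bot] at this

end Groth.Agent.S9403
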