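import Groth.Statements.S9409
import Groth.Agent.FlatAscent.Smooth
-- import your own Groth.Agent.* helpers here

set_option autoImplicit false
universe u
open CAlg

namespace Groth.Agent.S9409

open scoped TensorProduct

/-- A finite extension of a directed union of subfields is defined over one of them. -/
theorem exists_model (k : Type u) [Field k] {ι : Type u}
    (K : ι → Type u) [∀ i, Field (K i)] [∀ i, Algebra (K i) k]
    (hdir : ∀ i j, ∃ l, Set.range (algebraMap (K i) k) ⊆ Set.range (algebraMap (K l) k) ∧
      Set.range (algebraMap (K j) k) ⊆ Set.range (algebraMap (K l) k))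
    (hcov : ∀ x : k, ∃ i, x ∈ Set.range (algebraMap (K i) k))
    (k' : Type u) [Field k'] [Algebra k k'] [Module.Finite k k'] :
    ∃ (i : ι) (S : Type u) (_ : Field S) (_ : Algebra (K i) S), Module.Finite (K i) S ∧
      Nonempty (k ⊗[K i] S ≃ₐ[k] k') := by
  classical
  have hfin : ∀ s : Finset k, ∃ i, ∀ x ∈ s, x ∈ Set.range (algebraMap (K i) k) := by
    intro s
    induction s using Finset.induction with
    | empty => exact ⟨(hcov 0).choose, fun x hx => absurd hx (Finset.notMem_empty x)⟩
    | insert a s _ ih =>
      obtain ⟨i, hi⟩ := ih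
      obtain ⟨j, hj⟩ := hcov a
      obtain ⟨l, h1, h2⟩ := hdir i j
      exact ⟨l, fun x hx => (Finset.mem_insert.mp hx).elim (fun h => h ▸ h2 hj) fun h => h1 (hi x h)⟩
  let n := Module.finrank k k'
  let b := Module.finBasis k k'
  obtain ⟨i, hi⟩ := hfin
    ((Finset.univ.image fun x : Fin n × Fin n × Fin n => b.repr (b x.1 * b x.2.1) x.2.2) ∪
      Finset.univ.image fun x : Fin n => b.repr 1 x)
  let : Algebra (K i) k' := ((algebraMap k k').comp (algebraMap (K i) k)).toAlgebra
  have : IsScalarTower (K i) k k' := .of_algebraMap_eq fun _ => rfl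
  let V : Submodule (K i) k' := Submodule.span (K i) (Set.range b)
  have hV : ∀ z : k', (∀ x, b.repr z x ∈ Set.range (algebraMap (K i) k)) → z ∈ V := fun z hz => by
    rw [← b.sum_repr z]
    refine sum_mem fun x _ => ?_
    obtain ⟨c, hc⟩ := hz x
    rw [← hc, algebraMap_smul]
    exact V.smul_mem c (Submodule.subset_span ⟨x, rfl⟩)
  have hone : (1 : k') ∈ V := hV 1 fun x => hi _ (Finset.mem_union_right _
    (Finset.mem_image.mpr ⟨x, Finset.mem_univ _, rfl⟩))
  have hmul : ∀ a ∈ V, ∀ c ∈ V, a * c ∈ V := by
    intro a ha c hc
    refine (Submodule.mul_le.mpr ?_ : V * V ≤ V) (Submodule.mul_mem_mul ha hc)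
    intro a ha c hc
    induction ha using Submodule.span_induction with
    | mem a ha =>
      induction hc using Submodule.span_induction with
      | mem c hc =>
        obtain ⟨x, rfl⟩ := ha; obtain ⟨y, rfl⟩ := hc
        exact hV _ fun z => hi _ (Finset.mem_union_left _
          (Finset.mem_image.mpr ⟨(x, y, z), Finset.mem_univ _, rfl⟩))
      | zero => rw [mul_zero]; exact V.zero_mem
      | add _ _ _ _ h1 h2 => rw [mul_add]; exact V.add_mem h1 h2
      | smul r _ _ h => rw [Algebra.mul_smul_comm]; exact V.smul_mem r h
    | zero => rw [zero_mul]; exact V.zero_mem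
    | add _ _ _ _ h1 h2 => rw [add_mul]; exact V.add_mem h1 h2
    | smul r _ _ h => rw [Algebra.smul_mul_assoc]; exact V.smul_mem r h
  let S : Subalgebra (K i) k' := V.toSubalgebra hone fun a c ha hc => hmul a ha c hc
  have hli : LinearIndependent (K i) b :=
    b.linearIndependent.restrict_scalars' (K i)
  let BS : Module.Basis (Fin n) (K i) S := Module.Basis.span hli
  have : Module.Finite (K i) S := Module.Finite.of_basis BS
  let := (Algebra.IsIntegral.isField_iff_isField (R := K i) (S := S)
    (FaithfulSMul.algebraMap_injective (K i) S)).mp (Field.toIsField (K i)) |>.toField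
  let φ : k ⊗[K i] S →ₐ[k] k' := Algebra.TensorProduct.lift (Algebra.ofId k k') S.val fun _ _ => .all ..
  let e := (Algebra.TensorProduct.basis k BS).equiv b (Equiv.refl _)
  have he : φ.toLinearMap = e.toLinearMap := by
    refine (Algebra.TensorProduct.basis k BS).ext fun x => ?_
    rw [LinearEquiv.coe_coe, Module.Basis.equiv_apply, Algebra.TensorProduct.basis_apply]
    change φ (1 ⊗ₜ BS x) = _
    simp only [φ, Algebra.TensorProduct.lift_tmul, map_one, one_mul]
    exact congrArg Subtype.val (Module.Basis.span_apply hli x)
  have hbij : Function.Bijective φ := by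
    rw [show (φ : k ⊗[K i] S → k') = e from congrArg DFunLike.coe he]
    exact e.bijective
  exact ⟨i, S, inferInstance, inferInstance, inferInstance, ⟨AlgEquiv.ofBijective φ hbij⟩⟩

/-- Let k be a field written as a directed union of subfields k_i (given as fields mapping to k whose
images form a directed family covering k) and A a Noetherian k-algebra. Geometric regularity of A
over every one of the k_i implies that A is also geometrically regular as a k-algebra. -/
theorem result (k : Type u) [Field k] {ι : Type u}
    (K : ι → Type u) [∀ i, Field (K i)] [∀ i, Algebra (K i) k]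
    (hdir : ∀ i j, ∃ l, Set.range (algebraMap (K i) k) ⊆ Set.range (algebraMap (K l) k) ∧
      Set.range (algebraMap (K j) k) ⊆ Set.range (algebraMap (K l) k))
    (hcov : ∀ x : k, ∃ i, x ∈ Set.range (algebraMap (K i) k))
    (A : Type u) [CommRing A] [Algebra k A] [IsNoetherianRing A] [∀ i, Algebra (K i) A]
    [∀ i, IsScalarTower (K i) k A] (h : ∀ i, CAlg.IsGeometricallyRegular (K i) A) :
    CAlg.IsGeometricallyRegular k A := by
  intro k' _ _ hk'
  obtain ⟨i, S, _, _, hS, ⟨e⟩⟩ := exists_model k K hdir hcov k'
  exact Groth.Agent.FlatAscent.isRegularRing_transport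
    ((Algebra.TensorProduct.comm (K i) S A).toRingEquiv.trans
      ((((Algebra.TensorProduct.cancelBaseChange (K i) k A A S).symm.toRingEquiv).trans
        (Algebra.TensorProduct.comm k A (k ⊗[K i] S)).toRingEquiv).trans
        (Algebra.TensorProduct.congr e (AlgEquiv.refl (R := k) (A₁ := A))).toRingEquiv))
    (h i S hS)

end Groth.Agent.S9409
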