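import Groth.Statements.S9416
import Mathlib
-- import your own Groth.Agent.* helpers here

set_option autoImplicit false
universe u
open CAlg

namespace Groth.Agent.S9416

variable {R : Type u} [CommRing R] {K : Type u} [Field K] [Algebra R K]

theorem iterate_sum (E : Derivation ℤ K K) (a : K) (hEa : E a = 1) (e : ℕ → K) (he : ∀ i, E (e i) = 0) (s : Finset ℕ) :
    ∀ j, (⇑E)^[j] (∑ i ∈ s, e i * a ^ i) = ∑ i ∈ s, (i.descFactorial j : K) * e i * a ^ (i - j) := by
  intro j
  induction j with
  | zero => simp
  | succ j ih =>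
    rw [Function.iterate_succ_apply', ih, map_sum]
    refine Finset.sum_congr rfl fun i _ => ?_
    rw [Derivation.leibniz, Derivation.leibniz, Derivation.map_natCast, he, Derivation.leibniz_pow, hEa,
      Nat.descFactorial_succ, Nat.sub_add_eq]
    simp only [smul_eq_mul, nsmul_eq_mul, mul_zero, add_zero, Nat.cast_mul, mul_one]
    ring

variable [IsDomain R] [IsNoetherianRing R] [IsIntegrallyClosed R] [IsFractionRing R K]

theorem den_bound (p : ℕ) [Fact p.Prime] [CharP K p] (D : Derivation ℤ K K)
    (hD : ∀ r : R, ∃ s : R, D (algebraMap R K r) = algebraMap R K s) (a₀ δ : R) (hδ0 : δ ≠ 0)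
    (hδ : D (algebraMap R K a₀) = algebraMap R K δ) (c : ℕ → K)
    (hy : ∃ r : R, algebraMap R K r = ∑ i ∈ Finset.range p, c i ^ p * algebraMap R K a₀ ^ i) :
    ∀ i < p, ∃ s : R, algebraMap R K s = algebraMap R K δ ^ (2 * p) * c i := by
  have hδK : algebraMap R K δ ≠ 0 := fun e => hδ0 (IsFractionRing.injective R K (by rw [e, map_zero]))
  have hp : p.Prime := Fact.out
  set δ' := algebraMap R K δ
  set a := algebraMap R K a₀
  let S : Subring K := (algebraMap R K).range
  let E : Derivation ℤ K K := δ'⁻¹ • D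
  have hEapp : ∀ z, E z = δ'⁻¹ * D z := fun z => rfl
  have hE : ∀ N : ℕ, ∀ z : K, δ' ^ N * z ∈ S → δ' ^ (N + 2) * E z ∈ S := by
    rintro N z ⟨r, hr⟩
    obtain ⟨s, hs⟩ := hD r
    obtain ⟨t, ht⟩ := hD δ
    rcases N with _ | N
    · refine ⟨δ * s, ?_⟩
      rw [pow_zero, one_mul] at hr
      rw [map_mul, ← hs, hr, hEapp, zero_add]
      change δ' * D z = _
      field_simp
    · refine ⟨δ * s - ((N + 1 : ℕ) : R) * t * r, ?_⟩
      have hz := congrArg D hr
      rw [Derivation.leibniz, Derivation.leibniz_pow] at hz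
      simp only [smul_eq_mul, nsmul_eq_mul, Nat.add_sub_cancel] at hz
      rw [map_sub, map_mul, map_mul, map_mul, map_natCast, ← hs, hz, hr, hEapp, ht]
      change δ' * _ - _ = _
      field_simp
      ring
  have hEit : ∀ z, z ∈ S → ∀ j, δ' ^ (2 * j) * (⇑E)^[j] z ∈ S := by
    intro z hz j
    induction j with
    | zero => simpa using hz
    | succ j ih => rw [Function.iterate_succ_apply']; exact hE _ _ ih
  have hEa : E a = 1 := by rw [hEapp, hδ]; exact inv_mul_cancel₀ hδK
  have he : ∀ i, E (c i ^ p) = 0 := fun i => by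
    rw [Derivation.leibniz_pow, ← Nat.cast_smul_eq_nsmul K, CharP.cast_eq_zero K p, zero_smul]
  have key : ∀ d, ∀ i, p ≤ i + d → i < p → δ' ^ (2 * p) * c i ^ p ∈ S := by
    intro d
    induction d with
    | zero => intros; omega
    | succ d ih =>
      intro i hle hi
      have h1 := hEit _ hy i
      rw [iterate_sum E a hEa _ he, Finset.mul_sum] at h1
      have h2 : ∀ k ∈ Finset.range p, k ≠ i → δ' ^ (2 * p) * ((k.descFactorial i : K) * c k ^ p * a ^ (k - i)) ∈ S := by
        intro k hk hne
        rw [Finset.mem_range] at hk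
        rcases lt_or_gt_of_ne hne with h | h
        · rw [Nat.descFactorial_eq_zero_iff_lt.2 h]; simp
        · rw [show δ' ^ (2 * p) * ((k.descFactorial i : K) * c k ^ p * a ^ (k - i)) =
            (k.descFactorial i : K) * a ^ (k - i) * (δ' ^ (2 * p) * c k ^ p) by ring]
          exact S.mul_mem (S.mul_mem (natCast_mem S _) (S.pow_mem ⟨a₀, rfl⟩ _)) (ih k (by omega) hk)
      have h3 : δ' ^ (2 * p) * ((i.descFactorial i : K) * c i ^ p * a ^ (i - i)) ∈ S := by
        have h4 := S.mul_mem (S.pow_mem (show δ' ∈ S from ⟨δ, rfl⟩) (2 * p - 2 * i)) h1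
        rw [Finset.mul_sum, Finset.sum_congr rfl fun k _ => by
          rw [← mul_assoc, ← pow_add, Nat.sub_add_cancel (by omega : 2 * i ≤ 2 * p)],
          ← Finset.add_sum_erase _ _ (Finset.mem_range.2 hi)] at h4
        have h5 := S.sum_mem fun k hk => h2 k (Finset.mem_of_mem_erase hk) (Finset.ne_of_mem_erase hk)
        simpa using S.sub_mem h4 h5
      rw [Nat.sub_self, pow_zero, mul_one, Nat.descFactorial_self] at h3
      have hnd : (i.factorial : ZMod p) ≠ 0 := by
        rw [Ne, ZMod.natCast_eq_zero_iff]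
        exact fun h => absurd (hp.dvd_factorial.1 h) (by omega)
      set m := ((i.factorial : ZMod p)⁻¹).val
      have hm : ((m * i.factorial : ℕ) : K) = 1 := by
        rw [← Nat.cast_one, CharP.natCast_eq_natCast K p, ← ZMod.natCast_eq_natCast_iff]
        simp [m, hnd]
      have := S.mul_mem (natCast_mem S m) h3
      rw [show (m : K) * (δ' ^ (2 * p) * ((i.factorial : K) * c i ^ p)) =
        ((m * i.factorial : ℕ) : K) * (δ' ^ (2 * p) * c i ^ p) by push_cast; ring, hm, one_mul] at this
      exact this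
  intro i hi
  obtain ⟨r, hr⟩ := key p i (by omega) hi
  refine IsIntegrallyClosed.isIntegral_iff.1 ?_
  refine IsIntegral.of_pow hp.pos ?_
  rw [mul_pow, show (δ' ^ (2 * p)) ^ p = δ' ^ (2 * p) * δ' ^ (2 * p * (p - 1)) by
    rw [← pow_mul, ← pow_add]; congr 1; nlinarith [Nat.sub_add_cancel hp.pos],
    mul_comm (δ' ^ (2 * p)), mul_assoc, ← hr, ← map_pow, ← map_mul]
  exact isIntegral_algebraMap


/-- Suppose R is a normal Noetherian domain whose field of fractions K has prime characteristic p > 0, D
a derivation of K preserving R, and a ∈ K with D(a) ≠ 0. For a field L generated over K by an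
element x with x^p = a, the integral closure of R in L is module-finite over R. -/
theorem result (R : Type u) [CommRing R]
    [IsDomain R] [IsNoetherianRing R] [IsIntegrallyClosed R] (K : Type u) [Field K] [Algebra R K]
    [IsFractionRing R K] (p : ℕ) [Fact p.Prime] [CharP K p] (D : Derivation ℤ K K)
    (hD : ∀ r : R, ∃ s : R, D (algebraMap R K r) = algebraMap R K s) (a : K) (ha : D a ≠ 0)
    (L : Type u) [Field L] [Algebra K L] [Algebra R L] [IsScalarTower R K L] (x : L)
    (hx : x ^ p = algebraMap K L a) (hgen : IntermediateField.adjoin K {x} = ⊤) :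
    Module.Finite R (integralClosure R L) := by
  classical
  have hp : p.Prime := Fact.out
  -- scale a into R
  obtain ⟨r₁, r₂, hr₂, hra⟩ := IsFractionRing.div_surjective (A := R) a
  have hr₂K : algebraMap R K r₂ ≠ 0 := IsFractionRing.to_map_ne_zero_of_mem_nonZeroDivisors hr₂
  set a₀ : R := r₁ * r₂ ^ (p - 1)
  have ha₀ : algebraMap R K a₀ = algebraMap R K r₂ ^ p * a := by
    rw [← hra, map_mul, map_pow]
    conv_rhs => rw [← Nat.sub_add_cancel hp.pos, pow_succ]
    field_simp
  obtain ⟨δ, hδ⟩ := hD a₀
  have hδ0 : δ ≠ 0 := by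
    intro e
    rw [ha₀, Derivation.leibniz, Derivation.leibniz_pow, ← Nat.cast_smul_eq_nsmul K, CharP.cast_eq_zero K p, zero_smul,
      smul_zero, add_zero, smul_eq_mul, e, map_zero] at hδ
    exact mul_ne_zero (pow_ne_zero _ hr₂K) ha hδ
  set x₀ : L := algebraMap K L (algebraMap R K r₂) * x
  have hx₀ : x₀ ^ p = algebraMap K L (algebraMap R K a₀) := by rw [ha₀, map_mul, map_pow, mul_pow, hx]
  let P : Polynomial K := Polynomial.X ^ p - Polynomial.C (algebraMap R K a₀)
  have hPm : P.Monic := Polynomial.monic_X_pow_sub_C _ hp.ne_zero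
  have hP0 : Polynomial.aeval x₀ P = 0 := by simp [P, hx₀]
  have hspan : ∀ y : L, ∃ c : ℕ → K, y = ∑ i ∈ Finset.range p, algebraMap K L (c i) * x₀ ^ i := by
    intro y
    have hxint : IsIntegral K x₀ := ⟨P, hPm, hP0⟩
    have hy : y ∈ Algebra.adjoin K {x₀} := by
      rw [← IntermediateField.adjoin_simple_toSubalgebra_of_isAlgebraic hxint.isAlgebraic]
      have hle : IntermediateField.adjoin K {x} ≤ IntermediateField.adjoin K {x₀} := by
        rw [IntermediateField.adjoin_simple_le_iff, show x = algebraMap K L (algebraMap R K r₂)⁻¹ * x₀ by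
          rw [← mul_assoc, ← map_mul, inv_mul_cancel₀ hr₂K, map_one, one_mul]]
        exact mul_mem (IntermediateField.algebraMap_mem _ _) (IntermediateField.mem_adjoin_simple_self K x₀)
      exact hle (hgen ▸ IntermediateField.mem_top)
    rw [Algebra.adjoin_singleton_eq_range_aeval] at hy
    obtain ⟨q, rfl⟩ := hy
    refine ⟨(q %ₘ P).coeff, ?_⟩
    have hlt : (q %ₘ P).natDegree < p := by
      have := Polynomial.natDegree_modByMonic_lt q hPm (by
        intro e; have := congrArg Polynomial.natDegree e; rw [Polynomial.natDegree_one, Polynomial.natDegree_X_pow_sub_C] at this; exact hp.ne_zero this)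
      rwa [Polynomial.natDegree_X_pow_sub_C] at this
    change Polynomial.aeval x₀ q = _
    rw [← Polynomial.modByMonic_add_div q P, map_add, map_mul, hP0, zero_mul, add_zero,
      Polynomial.aeval_eq_sum_range' hlt]
    simp [Algebra.smul_def, Polynomial.modByMonic_add_div]
  have hδK : algebraMap R K δ ≠ 0 := fun e => hδ0 (IsFractionRing.injective R K (by rw [e, map_zero]))
  let ν : L := algebraMap K L ((algebraMap R K δ ^ (2 * p))⁻¹)
  let N : Submodule R L := Submodule.span R (↑((Finset.range p).image fun i => ν * x₀ ^ i) : Set L)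
  have hle : Subalgebra.toSubmodule (integralClosure R L) ≤ N := by
    intro y hy
    obtain ⟨c, hc⟩ := hspan y
    haveI : CharP L p := charP_of_injective_algebraMap (algebraMap K L).injective p
    have hyp : y ^ p = algebraMap K L (∑ i ∈ Finset.range p, c i ^ p * algebraMap R K a₀ ^ i) := by
      rw [hc, sum_pow_char p, map_sum]
      refine Finset.sum_congr rfl fun i _ => ?_
      rw [mul_pow, ← pow_mul, mul_comm i p, pow_mul, hx₀]
      simp only [map_mul, map_pow]
    have hint : IsIntegral R (∑ i ∈ Finset.range p, c i ^ p * algebraMap R K a₀ ^ i) := by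
      refine (isIntegral_algebraMap_iff (algebraMap K L).injective).1 ?_
      rw [← hyp]; exact IsIntegral.pow hy p
    have hs := den_bound p D hD a₀ δ hδ0 hδ c (IsIntegrallyClosed.isIntegral_iff.1 hint)
    rw [hc]
    refine Submodule.sum_mem _ fun i hi => ?_
    obtain ⟨s, hs⟩ := hs i (Finset.mem_range.1 hi)
    rw [show algebraMap K L (c i) * x₀ ^ i = s • (ν * x₀ ^ i) by
      rw [Algebra.smul_def, IsScalarTower.algebraMap_apply R K L, hs, ← mul_assoc, ← map_mul]
      congr 2; field_simp]
    exact N.smul_mem _ (Submodule.subset_span (by simp only [Finset.coe_image]; exact ⟨i, hi, rfl⟩))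
  haveI : IsNoetherian R N := isNoetherian_of_fg_of_noetherian N ⟨_, rfl⟩
  exact Module.Finite.of_injective (Submodule.inclusion hle) (Submodule.inclusion_injective hle)

end Groth.Agent.S9416
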