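import Mathlib
import Groth.Statements.S9425
-- import your own Groth.Agent.* helpers here

set_option autoImplicit false
universe u
open CAlg

namespace Groth.Agent.S9425

/-- A directed colimit of formally étale R-algebras is formally étale over R. The colimit is encoded by
compatible R-algebra maps S_i → S which are jointly surjective and whose kernels die further along
the system. -/
theorem result {ι : Type u} [Preorder ι] [IsDirected ι (· ≤ ·)] [Nonempty ι]
    (R : Type u) [CommRing R] (G : ι → Type u) [∀ i, CommRing (G i)] [∀ i, Algebra R (G i)]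
    (f : ∀ i j, i ≤ j → (G i →ₐ[R] G j)) (S : Type u) [CommRing S] [Algebra R S]
    (g : ∀ i, G i →ₐ[R] S) (hg : ∀ i j (h : i ≤ j), (g j).comp (f i j h) = g i)
    (hsurj : ∀ s : S, ∃ i, ∃ x : G i, g i x = s)
    (hker : ∀ i (x : G i), g i x = 0 → ∃ j, ∃ h : i ≤ j, f i j h x = 0)
    (h : ∀ i, Algebra.FormallyEtale R (G i)) : Algebra.FormallyEtale R S := by
  classical
  rw [Algebra.FormallyEtale.iff_comp_bijective]
  intro B _ _ I hI
  have hbij := fun i => ((Algebra.FormallyEtale.iff_comp_bijective (R := R) (A := G i)).1 (h i)) I hI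
  constructor
  · intro a b hab
    refine AlgHom.ext fun s => ?_
    obtain ⟨i, x, rfl⟩ := hsurj s
    have : a.comp (g i) = b.comp (g i) := (hbij i).1 (by
      change (Ideal.Quotient.mkₐ R I).comp (a.comp (g i)) = (Ideal.Quotient.mkₐ R I).comp (b.comp (g i))
      have hab' : (Ideal.Quotient.mkₐ R I).comp a = (Ideal.Quotient.mkₐ R I).comp b := hab
      rw [← AlgHom.comp_assoc, ← AlgHom.comp_assoc, hab'])
    exact DFunLike.congr_fun this x
  · intro φ
    choose l hl using fun i => (hbij i).2 (φ.comp (g i))
    have hcomp : ∀ i j (hij : i ≤ j) (x : G i), l j (f i j hij x) = l i x := by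
      intro i j hij x
      have : (l j).comp (f i j hij) = l i := (hbij i).1 (by
        change (Ideal.Quotient.mkₐ R I).comp ((l j).comp (f i j hij)) = (Ideal.Quotient.mkₐ R I).comp (l i)
        have h1 : (Ideal.Quotient.mkₐ R I).comp (l j) = φ.comp (g j) := hl j
        have h2 : (Ideal.Quotient.mkₐ R I).comp (l i) = φ.comp (g i) := hl i
        rw [← AlgHom.comp_assoc, h1, h2, AlgHom.comp_assoc, hg])
      exact DFunLike.congr_fun this x
    have hg' : ∀ i j (hij : i ≤ j) (x : G i), g j (f i j hij x) = g i x := fun i j hij x =>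
      DFunLike.congr_fun (hg i j hij) x
    choose ix x hx using hsurj
    have heq : ∀ i (a : G i) j (b : G j), g i a = g j b → l i a = l j b := by
      intro i a j b hab
      obtain ⟨k, hik, hjk⟩ := exists_ge_ge i j
      obtain ⟨m, hkm, hm⟩ := hker k (f i k hik a - f j k hjk b) (by rw [map_sub, hg', hg', hab, sub_self])
      rw [map_sub, sub_eq_zero] at hm
      have := congrArg (l m) hm
      rwa [hcomp, hcomp, hcomp, hcomp] at this
    let L : S → B := fun s => l (ix s) (x s)
    have hL : ∀ i (a : G i), L (g i a) = l i a := fun i a => heq _ _ _ _ (hx (g i a))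
    have hpair : ∀ s t : S, ∃ k, ∃ a b : G k, g k a = s ∧ g k b = t := by
      intro s t
      obtain ⟨k, hik, hjk⟩ := exists_ge_ge (ix s) (ix t)
      exact ⟨k, f _ k hik (x s), f _ k hjk (x t), by rw [hg', hx], by rw [hg', hx]⟩
    obtain ⟨i₀⟩ := ‹Nonempty ι›
    refine ⟨{ toFun := L, map_one' := ?_, map_mul' := ?_, map_zero' := ?_, map_add' := ?_, commutes' := ?_ }, ?_⟩
    · rw [← map_one (g i₀), hL, map_one]
    · intro s t
      obtain ⟨k, a, b, rfl, rfl⟩ := hpair s t
      rw [← map_mul, hL, hL, hL, map_mul]
    · rw [← map_zero (g i₀), hL, map_zero]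
    · intro s t
      obtain ⟨k, a, b, rfl, rfl⟩ := hpair s t
      rw [← map_add, hL, hL, hL, map_add]
    · intro r
      show L (algebraMap R S r) = algebraMap R B r
      rw [← AlgHom.commutes (g i₀), hL, AlgHom.commutes]
    · refine AlgHom.ext fun s => ?_
      show Ideal.Quotient.mk I (L s) = φ s
      have := DFunLike.congr_fun (hl (ix s)) (x s)
      simp only [AlgHom.comp_apply] at this
      rw [hx s] at this
      exact this

end Groth.Agent.S9425
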