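import Groth.Statements.S9426
import Mathlib


set_option autoImplicit false
universe u
open OmegaSh

namespace Groth.Agent.S9426

/-- Lifts through a square zero ideal: the defect only depends on the differential. -/
theorem sub_eq_of_mem_smul {R P A : Type u} [CommRing R] [CommRing P] [Algebra R P] [CommRing A] [Algebra R A]
    (I : Ideal A) (hI : I ^ 2 = ⊥) (φ ψ : P →ₐ[R] A)
    (he : (Ideal.Quotient.mkₐ R I).comp ψ = (Ideal.Quotient.mkₐ R I).comp φ) (J : Ideal P)
    (hJ : ∀ x ∈ J, φ x ∈ I) (x y : P)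
    (h : KaehlerDifferential.D R P x - KaehlerDifferential.D R P y ∈ J • (⊤ : Submodule P (Ω[P⁄R]))) :
    ψ x - φ x = ψ y - φ y := by
  letI : Algebra P A := φ.toRingHom.toAlgebra
  haveI : IsScalarTower R P A := IsScalarTower.of_algebraMap_eq fun r => (φ.commutes r).symm
  let D : Derivation R P I := derivationToSquareZeroOfLift I hI ψ (he.trans (AlgHom.ext fun z => rfl))
  have hz : ∀ z ∈ J • (⊤ : Submodule P (Ω[P⁄R])), ((D.liftKaehlerDifferential z : I) : A) = 0 := by
    intro z hz
    refine Submodule.smul_induction_on hz (fun r hr w _ => ?_) fun a b ha hb => ?_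
    · rw [map_smul, Submodule.coe_smul_of_tower, Algebra.smul_def]
      exact Ideal.mem_bot.mp (hI ▸ pow_two I ▸ Ideal.mul_mem_mul (hJ r hr) (D.liftKaehlerDifferential w).2)
    · rw [map_add, Submodule.coe_add, ha, hb, add_zero]
  have h1 := hz _ h
  rw [map_sub, Derivation.liftKaehlerDifferential_comp_D, Derivation.liftKaehlerDifferential_comp_D,
    Submodule.coe_sub, derivationToSquareZeroOfLift_apply, derivationToSquareZeroOfLift_apply,
    sub_eq_zero] at h1
  exact h1

/-- For a formally unramified quotient of an algebra, differentials come from the kernel. -/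
theorem exists_mem_ker {R P S : Type u} [CommRing R] [CommRing P] [Algebra R P] [CommRing S] [Algebra R S]
    [Algebra P S] [IsScalarTower R P S] [Algebra.FormallyUnramified R S] (hs : Function.Surjective (algebraMap P S))
    (x : P) : ∃ j ∈ RingHom.ker (algebraMap P S),
      KaehlerDifferential.D R P j - KaehlerDifferential.D R P x ∈
        RingHom.ker (algebraMap P S) • (⊤ : Submodule P (Ω[P⁄R])) := by
  obtain ⟨c, hc⟩ := (KaehlerDifferential.exact_kerCotangentToTensor_mapBaseChange R P S hs
    ((1 : S) ⊗ₜ[P] KaehlerDifferential.D R P x)).mp (Subsingleton.elim _ _)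
  obtain ⟨⟨j, hj⟩, rfl⟩ := Ideal.toCotangent_surjective _ c
  refine ⟨j, hj, ?_⟩
  rw [KaehlerDifferential.kerCotangentToTensor_toCotangent] at hc
  let e : (P ⧸ RingHom.ker (algebraMap P S)) ≃ₗ[P] S :=
    (Ideal.quotientKerAlgEquivOfSurjective (f := Algebra.ofId P S) hs).toLinearEquiv
  have h0 : (1 : S) ⊗ₜ[P] (KaehlerDifferential.D R P j - KaehlerDifferential.D R P x) = 0 := by
    rw [TensorProduct.tmul_sub, hc, sub_self]
  have h1 := congrArg (e.rTensor Ω[P⁄R]).symm h0
  rw [map_zero, LinearEquiv.rTensor_symm_tmul] at h1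
  have he : e.symm 1 = 1 := by
    rw [LinearEquiv.symm_apply_eq]
    exact (map_one (Ideal.quotientKerAlgEquivOfSurjective (f := Algebra.ofId P S) hs)).symm
  rw [he, ← TensorProduct.quotTensorEquivQuotSMul_symm_mk, LinearEquiv.map_eq_zero_iff,
    Submodule.Quotient.mk_eq_zero] at h1
  exact h1

/-- A formally unramified R-algebra S admits a universal first order thickening: an R-algebra surjection
S' → S with square-zero kernel through which every R-algebra map from S into a square-zero quotient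
A/I lifts uniquely to A. -/
theorem result (R : Type u) [CommRing R]
    (S : Type u) [CommRing S] [Algebra R S] [Algebra.FormallyUnramified R S] :
    ∃ (S' : Type u) (_ : CommRing S') (_ : Algebra R S') (π : S' →ₐ[R] S),
      OmegaSh.IsUnivThickeningRing R S S' π := by
  classical
  let P := MvPolynomial S R
  let π₀ : P →ₐ[R] S := MvPolynomial.aeval id
  letI : Algebra P S := π₀.toRingHom.toAlgebra
  haveI : IsScalarTower R P S := IsScalarTower.of_algebraMap_eq fun r => (π₀.commutes r).symm
  have hs : Function.Surjective (algebraMap P S) := fun s => ⟨MvPolynomial.X s, MvPolynomial.aeval_X _ s⟩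
  let J := RingHom.ker (algebraMap P S)
  choose j hjJ hj using fun s : S => exists_mem_ker (R := R) hs (MvPolynomial.X s : P)
  let K : Ideal P := J ^ 2 ⊔ Ideal.span (Set.range j)
  have hKJ : K ≤ J := sup_le (Ideal.pow_le_self two_ne_zero) (Ideal.span_le.mpr (Set.range_subset_iff.mpr hjJ))
  let π : P ⧸ K →ₐ[R] S := Ideal.Quotient.liftₐ K π₀ (fun x hx => hKJ hx)
  refine ⟨P ⧸ K, inferInstance, inferInstance, π, fun s => ?_, ?_, fun A _ _ I hI a => ?_⟩
  · exact ⟨Ideal.Quotient.mk K (MvPolynomial.X s), MvPolynomial.aeval_X _ s⟩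
  · rw [pow_two, eq_bot_iff]
    refine Ideal.mul_le.mpr fun x hx y hy => ?_
    obtain ⟨x, rfl⟩ := Ideal.Quotient.mk_surjective x
    obtain ⟨y, rfl⟩ := Ideal.Quotient.mk_surjective y
    rw [Ideal.mem_bot, ← map_mul, Ideal.Quotient.eq_zero_iff_mem]
    exact Ideal.mem_sup_left (by rw [pow_two]; exact Ideal.mul_mem_mul (show x ∈ J from hx) (show y ∈ J from hy))
  · choose t ht using fun s : S => Ideal.Quotient.mk_surjective (a s)
    let φ : P →ₐ[R] A := MvPolynomial.aeval t
    have hφ : (Ideal.Quotient.mkₐ R I).comp φ = a.comp π₀ := MvPolynomial.algHom_ext fun s => by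
      simp [φ, π₀, ht]
    have hmem : ∀ (ψ : P →ₐ[R] A), (Ideal.Quotient.mkₐ R I).comp ψ = a.comp π₀ → ∀ x ∈ J, ψ x ∈ I :=
      fun ψ hψ x hx => Ideal.Quotient.eq_zero_iff_mem.mp
        ((AlgHom.congr_fun hψ x).trans (by rw [AlgHom.comp_apply, show π₀ x = 0 from hx, map_zero]))
    let ψ : P →ₐ[R] A := MvPolynomial.aeval fun s => t s - φ (j s)
    have hψ : (Ideal.Quotient.mkₐ R I).comp ψ = a.comp π₀ := MvPolynomial.algHom_ext fun s => by
      have h0 : Ideal.Quotient.mk I (φ (j s)) = 0 :=
        Ideal.Quotient.eq_zero_iff_mem.mpr (hmem φ hφ _ (hjJ s))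
      simp [ψ, π₀, ht, h0]
    have hψj : ∀ s, ψ (j s) = 0 := fun s => by
      have h1 := sub_eq_of_mem_smul I hI φ ψ (hψ.trans hφ.symm) J (hmem φ hφ) (j s) (MvPolynomial.X s) (hj s)
      have h2 : ψ (MvPolynomial.X s) - φ (MvPolynomial.X s) = -φ (j s) := by
        rw [show ψ (MvPolynomial.X s) = t s - φ (j s) from MvPolynomial.aeval_X _ s,
          show φ (MvPolynomial.X s) = t s from MvPolynomial.aeval_X _ s]
        ring
      rw [h2] at h1
      linear_combination h1
    have hψK : ∀ x ∈ K, ψ x = 0 := fun x hx => by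
      refine (sup_le ?_ ?_ : K ≤ RingHom.ker ψ.toRingHom) hx
      · rw [pow_two]
        refine Ideal.mul_le.mpr fun u hu v hv => ?_
        change ψ (u * v) = 0
        rw [map_mul, ← Ideal.mem_bot, ← hI, pow_two]
        exact Ideal.mul_mem_mul (hmem ψ hψ u hu) (hmem ψ hψ v hv)
      · exact Ideal.span_le.mpr (Set.range_subset_iff.mpr hψj)
    refine ⟨Ideal.Quotient.liftₐ K ψ hψK, AlgHom.ext fun z => ?_, fun g hg => ?_⟩
    · obtain ⟨z, rfl⟩ := Ideal.Quotient.mk_surjective z
      exact AlgHom.congr_fun hψ z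
    · let g₀ : P →ₐ[R] A := g.comp (Ideal.Quotient.mkₐ R K)
      have hg₀ : (Ideal.Quotient.mkₐ R I).comp g₀ = a.comp π₀ :=
        AlgHom.ext fun z => AlgHom.congr_fun hg (Ideal.Quotient.mk K z)
      refine Ideal.Quotient.algHom_ext R (MvPolynomial.algHom_ext fun s => ?_)
      have h1 := sub_eq_of_mem_smul I hI ψ g₀ (hg₀.trans hψ.symm) J (hmem ψ hψ) (j s) (MvPolynomial.X s) (hj s)
      have h2 : g₀ (j s) = 0 := by
        change g (Ideal.Quotient.mk K (j s)) = 0
        rw [Ideal.Quotient.eq_zero_iff_mem.mpr (Ideal.mem_sup_right (Ideal.subset_span (Set.mem_range_self (f := j) s))), map_zero]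
      rw [h2, hψj, sub_zero] at h1
      exact sub_eq_zero.mp h1.symm

end Groth.Agent.S9426
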