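import Groth.Statements.S9427
import Mathlib
-- import your own Groth.Agent.* helpers here

set_option autoImplicit false
universe u
open OmegaSh

namespace Groth.Agent.S9427

/-- Two maps out of a universal thickening agreeing modulo `J` agree modulo `J * K`. -/
theorem step {A B B' C : Type u} [CommRing A] [CommRing B] [CommRing B'] [CommRing C] [Algebra A B] [Algebra A B']
    [Algebra A C] (π : B' →ₐ[A] B) (h : OmegaSh.IsUnivThickeningRing A B B' π) (g₁ g₂ : B' →ₐ[A] C)
    (J K : Ideal C) (hJ : J * J = ⊥) (hK : K * K = ⊥) (hg₁ : ∀ b, π b = 0 → g₁ b ∈ K)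
    (hg : ∀ b, g₁ b - g₂ b ∈ J) : ∀ b, g₁ b - g₂ b ∈ J * K := by
  obtain ⟨hsurj, -, huniv⟩ := h
  let I : Ideal (C ⧸ J * K) := (J ⊔ K).map (Ideal.Quotient.mk (J * K))
  have hI : I ^ 2 = ⊥ := by
    rw [pow_two, ← Ideal.map_mul, Ideal.map_eq_bot_iff_le_ker, Ideal.mk_ker]
    refine Ideal.mul_le.mpr fun x hx y hy => ?_
    obtain ⟨x₁, hx₁, x₂, hx₂, rfl⟩ := Submodule.mem_sup.mp hx
    obtain ⟨y₁, hy₁, y₂, hy₂, rfl⟩ := Submodule.mem_sup.mp hy
    have h11 : x₁ * y₁ = 0 := Ideal.mem_bot.mp (hJ ▸ Ideal.mul_mem_mul hx₁ hy₁)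
    have h22 : x₂ * y₂ = 0 := Ideal.mem_bot.mp (hK ▸ Ideal.mul_mem_mul hx₂ hy₂)
    have he : (x₁ + x₂) * (y₁ + y₂) = x₁ * y₂ + y₁ * x₂ := by linear_combination h11 + h22
    rw [he]
    exact (J * K).add_mem (Ideal.mul_mem_mul hx₁ hy₂) (Ideal.mul_mem_mul hy₁ hx₂)
  let p : B' →ₐ[A] (C ⧸ J * K) ⧸ I := (Ideal.Quotient.mkₐ A I).comp ((Ideal.Quotient.mkₐ A (J * K)).comp g₁)
  have hker : ∀ b ∈ RingHom.ker π.toRingHom, p b = 0 := fun b hb =>
    Ideal.Quotient.eq_zero_iff_mem.mpr (Ideal.mem_map_of_mem _ (Ideal.mem_sup_right (hg₁ b hb)))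
  let a : B →ₐ[A] (C ⧸ J * K) ⧸ I :=
    (Ideal.Quotient.liftₐ (RingHom.ker π.toRingHom) p hker).comp
      (Ideal.quotientKerAlgEquivOfSurjective hsurj).symm.toAlgHom
  have ha : ∀ b, a (π b) = p b := fun b => by
    show (Ideal.Quotient.liftₐ (RingHom.ker π.toRingHom) p hker)
      ((Ideal.quotientKerAlgEquivOfSurjective hsurj).symm (π b)) = p b
    have e : (Ideal.quotientKerAlgEquivOfSurjective hsurj).symm (π b) = Ideal.Quotient.mk _ b := by
      rw [AlgEquiv.symm_apply_eq]; rfl
    rw [e]; rfl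
  intro b
  have heq := (huniv (C ⧸ J * K) I hI a).unique (y₁ := (Ideal.Quotient.mkₐ A (J * K)).comp g₁)
    (y₂ := (Ideal.Quotient.mkₐ A (J * K)).comp g₂) (AlgHom.ext fun c => (ha c).symm) (AlgHom.ext fun c => by
      refine ((ha c).trans ?_).symm
      refine Ideal.Quotient.eq.mpr ?_
      show Ideal.Quotient.mk (J * K) (g₁ c) - Ideal.Quotient.mk (J * K) (g₂ c) ∈ I
      rw [← map_sub]
      exact Ideal.mem_map_of_mem _ (Ideal.mem_sup_left (hg c)))
  exact Ideal.Quotient.eq.mp (AlgHom.congr_fun heq b)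

theorem formallyUnramified_thickening {A B B' : Type u} [CommRing A] [CommRing B] [CommRing B'] [Algebra A B]
    [Algebra A B'] (π : B' →ₐ[A] B) (h : OmegaSh.IsUnivThickeningRing A B B' π) :
    Algebra.FormallyUnramified A B' := by
  refine Algebra.FormallyUnramified.iff_comp_injective.mpr fun C _ _ J hJ g₁ g₂ hg => ?_
  have hg' : ∀ b, g₁ b - g₂ b ∈ J := fun b => Ideal.Quotient.eq.mp (AlgHom.congr_fun hg b)
  have hJJ : J * J = ⊥ := by rw [← pow_two]; exact hJ
  let K : Ideal C := (RingHom.ker π.toRingHom).map g₁.toRingHom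
  have hK : K * K = ⊥ := by rw [← Ideal.map_mul, ← pow_two, h.2.1, Ideal.map_bot]
  have hg₁ : ∀ b, π b = 0 → g₁ b ∈ K := fun b hb => Ideal.mem_map_of_mem _ hb
  have h1 := step π h g₁ g₂ J K hJJ hK hg₁ hg'
  have hJK : J * K * (J * K) = ⊥ := by rw [mul_mul_mul_comm, hJJ, Submodule.bot_mul]
  have h2 := step π h g₁ g₂ (J * K) K hJK hK hg₁ h1
  refine AlgHom.ext fun b => sub_eq_zero.mp ?_
  have h3 := h2 b
  rwa [mul_assoc, hK, Submodule.mul_bot, Ideal.mem_bot] at h3

/-- A derivation on `A` valued in a `B`-module extends to a universal thickening of `B` over `A`. -/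
theorem exists_derivation {R A B B' : Type u} [CommRing R] [CommRing A] [Algebra R A] [CommRing B] [Algebra A B]
    [CommRing B'] [Algebra A B'] [Algebra R B'] [IsScalarTower R A B'] [Algebra B' B] [IsScalarTower A B' B]
    (M : Type u) [AddCommGroup M] [Module B M] [Module Bᵐᵒᵖ M] [IsCentralScalar B M] [Module A M]
    [IsScalarTower A B M] [Module R M] [IsScalarTower R A M] [Module B' M] [IsScalarTower B' B M]
    (h : OmegaSh.IsUnivThickeningRing A B B' (IsScalarTower.toAlgHom A B' B)) (d : Derivation R A M) :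
    ∃ D : Derivation R B' M, ∀ a, D (algebraMap A B' a) = d a := by
  let φ : A →+* TrivSqZeroExt B M :=
    { toFun := fun a => TrivSqZeroExt.inl (algebraMap A B a) + TrivSqZeroExt.inr (d a)
      map_one' := by ext <;> simp
      map_mul' := fun a b => by
        ext
        · simp
        · simp [add_comm]
      map_zero' := by ext <;> simp
      map_add' := fun a b => by ext <;> simp }
  letI : Algebra A (TrivSqZeroExt B M) := φ.toAlgebra
  let fstHom : TrivSqZeroExt B M →+* B := (TrivSqZeroExt.fstHom B B M).toRingHom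
  let I : Ideal (TrivSqZeroExt B M) := RingHom.ker fstHom
  have hmem : ∀ c : TrivSqZeroExt B M, c ∈ I ↔ c.fst = 0 := fun c => Iff.rfl
  have hI : I ^ 2 = ⊥ := by
    rw [pow_two, eq_bot_iff]
    refine Ideal.mul_le.mpr fun x hx y hy => ?_
    rw [hmem] at hx hy
    rw [Ideal.mem_bot]
    ext
    · simp [hx]
    · simp [hx, hy]
  let a₀ : B →ₐ[A] TrivSqZeroExt B M ⧸ I :=
    { toFun := fun b => Ideal.Quotient.mk I (TrivSqZeroExt.inl b)
      map_one' := by rw [TrivSqZeroExt.inl_one, map_one]
      map_mul' := fun x y => by rw [TrivSqZeroExt.inl_mul, map_mul]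
      map_zero' := by rw [TrivSqZeroExt.inl_zero, map_zero]
      map_add' := fun x y => by rw [TrivSqZeroExt.inl_add, map_add]
      commutes' := fun a => Ideal.Quotient.eq.mpr ((hmem _).mpr (by
        change (TrivSqZeroExt.inl (algebraMap A B a) - (TrivSqZeroExt.inl (algebraMap A B a) + TrivSqZeroExt.inr (d a)) : TrivSqZeroExt B M).fst = 0
        simp)) }
  obtain ⟨-, -, huniv⟩ := h
  obtain ⟨f, hf, -⟩ := huniv (TrivSqZeroExt B M) I hI a₀
  have hfst : ∀ b, (f b).fst = algebraMap B' B b := fun b => by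
    have := (hmem _).mp (Ideal.Quotient.eq.mp (AlgHom.congr_fun hf b))
    rw [TrivSqZeroExt.fst_sub, sub_eq_zero, TrivSqZeroExt.fst_inl] at this
    exact this
  have hfd : ∀ a, (f (algebraMap A B' a)).snd = d a := fun a => by
    rw [f.commutes]
    change (TrivSqZeroExt.inl (algebraMap A B a) + TrivSqZeroExt.inr (d a) : TrivSqZeroExt B M).snd = d a
    simp
  have hmul : ∀ x y, (f (x * y)).snd = x • (f y).snd + y • (f x).snd := fun x y => by
    rw [map_mul, TrivSqZeroExt.snd_mul, hfst, hfst, op_smul_eq_smul, algebraMap_smul, algebraMap_smul]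
  let D₀ : B' →ₗ[R] M :=
    { toFun := fun b => (f b).snd
      map_add' := fun x y => by rw [map_add, TrivSqZeroExt.snd_add]
      map_smul' := fun r x => by
        rw [RingHom.id_apply, Algebra.smul_def, hmul, IsScalarTower.algebraMap_apply R A B', hfd,
          Derivation.map_algebraMap, smul_zero, add_zero, ← algebraMap_smul B (algebraMap A B' (algebraMap R A r)),
          ← IsScalarTower.algebraMap_apply A B' B, algebraMap_smul, algebraMap_smul] }
  exact ⟨Derivation.mk' D₀ hmul, hfd⟩

open TensorProduct in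
theorem injective_baseChange {R A B B' : Type u} [CommRing R] [CommRing A] [Algebra R A] [CommRing B] [Algebra A B]
    [CommRing B'] [Algebra A B'] [Algebra R B'] [IsScalarTower R A B'] [Algebra B' B] [IsScalarTower A B' B]
    (h : OmegaSh.IsUnivThickeningRing A B B' (IsScalarTower.toAlgHom A B' B)) :
    Function.Injective ((KaehlerDifferential.mapBaseChange R A B').baseChange B) := by
  letI : Algebra R B := ((algebraMap A B).comp (algebraMap R A)).toAlgebra
  haveI : IsScalarTower R A B := IsScalarTower.of_algebraMap_eq' rfl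
  haveI : IsScalarTower R B' B := IsScalarTower.of_algebraMap_eq fun r => by
    rw [IsScalarTower.algebraMap_apply R A B', ← IsScalarTower.algebraMap_apply A B' B, ← IsScalarTower.algebraMap_apply R A B]
  obtain ⟨Dv, hfd⟩ := exists_derivation (R := R) (B ⊗[A] Ω[A⁄R]) h
    (((TensorProduct.mk A B Ω[A⁄R]) 1).compDer (KaehlerDifferential.D R A))
  let G : B ⊗[B'] Ω[B'⁄R] →ₗ[B] B ⊗[A] Ω[A⁄R] := Dv.liftKaehlerDifferential.liftBaseChange B
  refine Function.Injective.of_comp (f := G) ?_
  have hcomp : G.comp ((KaehlerDifferential.mapBaseChange R A B').baseChange B) =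
      (TensorProduct.AlgebraTensorModule.cancelBaseChange A B' B B Ω[A⁄R]).toLinearMap := by
    ext a
    simp [G, hfd]
  have : ⇑G ∘ ⇑((KaehlerDifferential.mapBaseChange R A B').baseChange B) =
      ⇑(TensorProduct.AlgebraTensorModule.cancelBaseChange A B' B B Ω[A⁄R]) := funext (LinearMap.congr_fun hcomp)
  rw [this]
  exact (TensorProduct.AlgebraTensorModule.cancelBaseChange A B' B B Ω[A⁄R]).injective


/-- Let R → A → B be ring maps with A → B formally unramified, and let B' → B be a universal first order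
thickening of B relative to A (B a B'-algebra through it). Then A → B' is formally unramified, and
base changing to B the natural B'-linear map B' ⊗_A Ω_{A/R} → Ω_{B'/R} gives a bijection B ⊗_{B'}
(B' ⊗_A Ω_{A/R}) → B ⊗_{B'} Ω_{B'/R}. -/
theorem result
    (R : Type u) [CommRing R] (A : Type u) [CommRing A] [Algebra R A] (B : Type u) [CommRing B]
    [Algebra A B] [Algebra.FormallyUnramified A B] (B' : Type u) [CommRing B'] [Algebra A B']
    [Algebra R B'] [IsScalarTower R A B'] [Algebra B' B] [IsScalarTower A B' B]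
    (h : OmegaSh.IsUnivThickeningRing A B B' (IsScalarTower.toAlgHom A B' B)) :
    Algebra.FormallyUnramified A B' ∧
      Function.Bijective ((KaehlerDifferential.mapBaseChange R A B').baseChange B) := by
  have hu := formallyUnramified_thickening _ h
  refine ⟨hu, injective_baseChange h, ?_⟩
  have hs : Function.Surjective (KaehlerDifferential.mapBaseChange R A B') := fun x =>
    (KaehlerDifferential.exact_mapBaseChange_map R A B' x).mp (Subsingleton.elim _ _)
  exact LinearMap.lTensor_surjective B hs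

end Groth.Agent.S9427
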