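import Mathlib
import Groth.Statements.S9428
-- import your own Groth.Agent.* helpers here

set_option autoImplicit false
universe u
open CAlg

namespace Groth.Agent.S9428

/-- If R → S is formally étale and J ⊆ S is an ideal with R → S/J surjective, I ⊆ R its kernel (the
preimage of J), then R/I^n → S/J^n is bijective for all n. (The published statement adds that the
associated graded rings are then isomorphic, which follows from these bijections.) -/
theorem result (R : Type u) [CommRing R] (S : Type u)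
    [CommRing S] [Algebra R S] [Algebra.FormallyEtale R S] (J : Ideal S)
    (hJ : Function.Surjective (algebraMap R (S ⧸ J))) (n : ℕ) :
    Function.Bijective (Ideal.quotientMap (J ^ n) (algebraMap R S)
      (le_of_le_of_eq (Ideal.le_comap_pow (algebraMap R S) n) rfl :
        (J.comap (algebraMap R S)) ^ n ≤ (J ^ n).comap (algebraMap R S))) := by
  let I := J.comap (algebraMap R S)
  let f : (R ⧸ I ^ n) →+* S ⧸ J ^ n := Ideal.quotientMap (J ^ n) (algebraMap R S)
    (le_of_le_of_eq (Ideal.le_comap_pow (algebraMap R S) n) rfl)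
  show Function.Bijective f
  rcases Nat.eq_zero_or_pos n with hn | hn
  · subst hn
    have h1 : Subsingleton (R ⧸ I ^ 0) := Ideal.Quotient.subsingleton_iff.2 (by simp)
    have h2 : Subsingleton (S ⧸ J ^ 0) := Ideal.Quotient.subsingleton_iff.2 (by simp)
    exact ⟨fun a b _ => Subsingleton.elim a b, fun b => ⟨0, Subsingleton.elim _ _⟩⟩
  let fA : (R ⧸ I ^ n) →ₐ[R] S ⧸ J ^ n := { f with commutes' := fun r => rfl }
  let p : (R ⧸ I ^ n) →ₐ[R] S ⧸ J :=
    (Ideal.Quotient.factorₐ R (Ideal.pow_le_self hn.ne')).comp fA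
  have hp : Function.Surjective p := by
    intro y
    obtain ⟨r, rfl⟩ := hJ y
    exact ⟨Ideal.Quotient.mk _ r, rfl⟩
  have hkp : ∀ z, p z = 0 → z ∈ I.map (Ideal.Quotient.mk (I ^ n)) := by
    intro z hz
    obtain ⟨r, rfl⟩ := Ideal.Quotient.mk_surjective z
    refine Ideal.mem_map_of_mem _ ?_
    change algebraMap R S r ∈ J
    exact Ideal.Quotient.eq_zero_iff_mem.1 hz
  have hnilp : IsNilpotent (RingHom.ker (p : (R ⧸ I ^ n) →+* S ⧸ J)) := by
    refine ⟨n, le_bot_iff.1 ?_⟩
    calc _ ≤ (I.map (Ideal.Quotient.mk (I ^ n))) ^ n := Ideal.pow_right_mono (fun z hz => hkp z hz) n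
      _ = _ := by rw [← Ideal.map_pow, Ideal.map_quotient_self]
  let g : S →ₐ[R] R ⧸ I ^ n := Algebra.FormallySmooth.liftOfSurjective (Ideal.Quotient.mkₐ R J) p hp hnilp
  have hg : ∀ s, p (g s) = Ideal.Quotient.mk J s :=
    fun s => Algebra.FormallySmooth.liftOfSurjective_apply _ p hp hnilp s
  have hfg : fA.comp g = Ideal.Quotient.mkₐ R (J ^ n) := by
    refine Algebra.FormallyUnramified.ext' (R := R) (A := S) (Ideal.Quotient.factor (Ideal.pow_le_self hn.ne' : J ^ n ≤ J)) ?_ _ _ fun s => hg s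
    refine ⟨n, le_bot_iff.1 ?_⟩
    rw [Ideal.Quotient.factor_ker, ← Ideal.map_pow, Ideal.map_quotient_self]
  have hgJ : ∀ s ∈ J ^ n, g s = 0 := by
    intro s hs
    have h1 : J.map (g : S →+* R ⧸ I ^ n) ≤ I.map (Ideal.Quotient.mk (I ^ n)) := by
      rw [Ideal.map_le_iff_le_comap]
      exact fun j hj => hkp _ (by rw [RingHom.coe_coe, hg]; exact Ideal.Quotient.eq_zero_iff_mem.2 hj)
    have h2 := Ideal.pow_right_mono h1 n
    rw [← Ideal.map_pow, ← Ideal.map_pow, Ideal.map_quotient_self] at h2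
    exact (Submodule.mem_bot _).1 (h2 (Ideal.mem_map_of_mem _ hs))
  constructor
  · rw [injective_iff_map_eq_zero]
    intro z hz
    obtain ⟨r, rfl⟩ := Ideal.Quotient.mk_surjective z
    have h1 := hgJ _ (Ideal.Quotient.eq_zero_iff_mem.1 hz)
    rw [g.commutes] at h1
    exact h1
  · intro y
    obtain ⟨s, rfl⟩ := Ideal.Quotient.mk_surjective y
    exact ⟨g s, DFunLike.congr_fun hfg s⟩

end Groth.Agent.S9428
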