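import Groth.Statements.S9431
import Groth.Agent.EGA41Lib.Separable
import Mathlib.RingTheory.Smooth.Locus

set_option autoImplicit false
universe u
open CAlg

namespace Groth.Agent.S9431

/-- For a separable (geometrically reduced) field extension K/k, every finite subset of K lies in a
k-subalgebra of K which is smooth over k; in particular K is a filtered colimit of smooth
k-algebras. -/
theorem result (k : Type u) [Field k]
    (K : Type u) [Field K] [Algebra k K] [Algebra.IsGeometricallyReduced k K] (E : Finset K) :
    ∃ A : Subalgebra k K, (↑E : Set K) ⊆ (A : Set K) ∧ Algebra.Smooth k A := by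
  classical
  let A0 := Algebra.adjoin k (E : Set K)
  have : Algebra.FiniteType k A0 := (Subalgebra.fg_iff_finiteType _).1 ⟨E, rfl⟩
  have : Algebra.FinitePresentation k A0 := Algebra.FinitePresentation.of_finiteType.1 inferInstance
  let Q := FractionRing A0
  let g : Q →ₐ[k] K := IsFractionRing.liftAlgHom (g := A0.val) Subtype.val_injective
  have : Algebra.IsGeometricallyReduced k Q :=
    Algebra.IsGeometricallyReduced.of_injective g g.injective
  have hQ : Algebra.FormallySmooth k Q :=
    EGA41Lib.formallySmooth_iff_isGeometricallyReduced.2 inferInstance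
  let bot : PrimeSpectrum A0 := ⟨⊥, Ideal.isPrime_bot⟩
  have hmem : bot ∈ Algebra.smoothLocus k A0 := by
    have : IsFractionRing A0 (Localization.AtPrime bot.asIdeal) := by
      show IsLocalization (nonZeroDivisors A0) (Localization bot.asIdeal.primeCompl)
      have h : bot.asIdeal.primeCompl = nonZeroDivisors A0 := by
        ext a
        simp [bot, Ideal.primeCompl, mem_nonZeroDivisors_iff_ne_zero]
      rw [← h]
      infer_instance
    exact Algebra.FormallySmooth.of_equiv
      ((IsLocalization.algEquiv (nonZeroDivisors A0) Q (Localization.AtPrime bot.asIdeal)).restrictScalars k)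
  obtain ⟨_, ⟨_, ⟨f, rfl⟩, rfl⟩, hbf, hf⟩ :=
    PrimeSpectrum.isBasis_basic_opens.exists_subset_of_mem_open hmem Algebra.isOpen_smoothLocus
  have hf0 : f ≠ 0 := fun h => hbf (by simp [bot, h])
  have hsm : Algebra.Smooth k (Localization.Away f) :=
    Algebra.basicOpen_subset_smoothLocus_iff_smooth.1 hf
  have hunit : ∀ y : Submonoid.powers f, IsUnit (A0.val y) := by
    rintro ⟨_, n, rfl⟩
    rw [map_pow]
    exact (IsUnit.mk0 (A0.val f) (fun h => hf0 (Subtype.ext h))).pow n
  let φ : Localization.Away f →ₐ[k] K := IsLocalization.liftAlgHom (f := A0.val) hunit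
  have hφ : Function.Injective φ := by
    rw [IsLocalization.coe_liftAlgHom]
    exact (IsLocalization.lift_injective_iff _).2 fun a b =>
      ⟨fun h => congrArg Subtype.val ((IsLocalization.injective (Localization.Away f)
        (powers_le_nonZeroDivisors_of_noZeroDivisors hf0) h)),
       fun h => congrArg _ (Subtype.ext h)⟩
  refine ⟨φ.range, fun x hx => ?_, Algebra.Smooth.of_equiv (AlgEquiv.ofInjective φ hφ)⟩
  refine ⟨algebraMap A0 _ ⟨x, Algebra.subset_adjoin hx⟩, ?_⟩
  simp [φ, IsLocalization.coe_liftAlgHom]

end Groth.Agent.S9431
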