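import Groth.Statements.S9433
import Mathlib
-- import your own Groth.Agent.* helpers here

set_option autoImplicit false
universe u
open CAlg

namespace Groth.Agent.S9433

/-- Let R → S be a local homomorphism of local rings with S the localization of an étale R-algebra at a
prime, inducing an isomorphism of residue fields. Then for some t in the maximal ideal of R the maps
R/t^nR → S/t^nS are bijective for all n ≥ 1. -/
theorem result (R : Type u) [CommRing R] [IsLocalRing R] (T : Type u) [CommRing T] [Algebra R T]
    [Algebra.Etale R T] (q : Ideal T) [q.IsPrime] (S : Type u) [CommRing S] [IsLocalRing S]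
    [Algebra T S] [IsLocalization.AtPrime S q] [Algebra R S] [IsScalarTower R T S]
    [IsLocalHom (algebraMap R S)]
    (hres : Function.Bijective (IsLocalRing.ResidueField.map (algebraMap R S))) :
    ∃ t ∈ IsLocalRing.maximalIdeal R, ∀ n : ℕ, 1 ≤ n →
      Function.Bijective (Ideal.quotientMap ((Ideal.span {t ^ n}).map (algebraMap R S))
        (algebraMap R S) Ideal.le_comap_map) := by
  classical
  haveI : Algebra.IsEtaleAt R q :=
    Algebra.FormallyEtale.comp R T (Localization.AtPrime q)
  obtain ⟨f, hf, hstd⟩ := Algebra.IsEtaleAt.exists_isStandardEtale (R := R) q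
  obtain ⟨⟨P⟩⟩ := hstd
  let ι : Localization.Away f →+* S := IsLocalization.Away.lift f (g := algebraMap T S)
    (IsLocalization.map_units S (⟨f, hf⟩ : q.primeCompl))
  have hι : ∀ a : T, ι (algebraMap T _ a) = algebraMap T S a := IsLocalization.Away.lift_eq _ _
  let κ : Localization.Away f →ₐ[R] S :=
    { ι with
      commutes' := fun c => by
        show ι (algebraMap R (Localization.Away f) c) = _
        rw [IsScalarTower.algebraMap_apply R T (Localization.Away f), hι,
          ← IsScalarTower.algebraMap_apply] }
  let x : S := κ P.x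
  have hx := StandardEtalePair.HasMap.map P.hasMap κ
  obtain ⟨r0, hr0⟩ := hres.2 (IsLocalRing.residue S x)
  obtain ⟨r, rfl⟩ := IsLocalRing.residue_surjective r0
  rw [IsLocalRing.ResidueField.map_residue] at hr0
  set y : S := x - algebraMap R S r with hy
  have hym : y ∈ IsLocalRing.maximalIdeal S := Ideal.Quotient.eq.1 hr0.symm
  let t : R := P.f.eval r
  have haev : ∀ p : Polynomial R, algebraMap R S (p.eval r) = Polynomial.aeval (algebraMap R S r) p :=
    fun p => by rw [Polynomial.aeval_algebraMap_apply, Polynomial.coe_aeval_eq_eval]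
  have hcong : ∀ p : Polynomial R,
      Polynomial.aeval x p - algebraMap R S (p.eval r) ∈ Ideal.span {y} := fun p => by
    rw [haev, Ideal.mem_span_singleton, hy, Polynomial.aeval_def, Polynomial.aeval_def,
      ← Polynomial.eval_map, ← Polynomial.eval_map]
    exact Polynomial.sub_dvd_eval_sub _ _ _
  have hunit : ∀ p : Polynomial R, IsUnit (Polynomial.aeval x p) → IsUnit (p.eval r) := fun p hp => by
    refine (isUnit_map_iff (algebraMap R S) _).1 (not_not.1 fun hn => ?_)
    have h1 : Polynomial.aeval x p ∈ IsLocalRing.maximalIdeal S := by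
      have h2 := Ideal.add_mem _ ((Ideal.span_singleton_le_iff_mem _).2 hym (hcong p))
        (show algebraMap R S (p.eval r) ∈ IsLocalRing.maximalIdeal S from hn)
      rwa [sub_add_cancel] at h2
    exact h1 hp
  have hyt : y ∈ Ideal.span {algebraMap R S t} := by
    obtain ⟨k, hk⟩ := Polynomial.binomExpansion (P.f.map (algebraMap R S)) (algebraMap R S r) y
    rw [show algebraMap R S r + y = x by rw [hy]; ring, Polynomial.eval_map,
      ← Polynomial.aeval_def, hx.1, Polynomial.eval_map, ← Polynomial.aeval_def, ← haev,
      Polynomial.derivative_map, Polynomial.eval_map, ← Polynomial.aeval_def, ← haev] at hk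
    have hw : IsUnit (algebraMap R S ((Polynomial.derivative P.f).eval r) + k * y) := by
      refine not_not.1 fun hn => ?_
      have h1 := Ideal.sub_mem (IsLocalRing.maximalIdeal S)
        (show _ ∈ IsLocalRing.maximalIdeal S from hn) (Ideal.mul_mem_left _ k hym)
      rw [add_sub_cancel_right] at h1
      exact h1 ((hunit _ hx.isUnit_derivative_f).map (algebraMap R S))
    obtain ⟨w, hw'⟩ := hw.exists_left_inv
    refine Ideal.mem_span_singleton.2 ⟨-w, ?_⟩
    have hk' : algebraMap R S t = algebraMap R S (P.f.eval r) := rfl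
    rw [hk']
    linear_combination (-y) * hw' + (-w) * hk
  have htm : t ∈ IsLocalRing.maximalIdeal R := fun hu => by
    have h1 := (Ideal.span_singleton_le_iff_mem _).2 hym (hcong P.f)
    rw [hx.1, zero_sub, neg_mem_iff] at h1
    exact h1 (hu.map _)
  -- every element is congruent to one coming from `R`
  have hT : ∀ a : T, ∃ c : R, algebraMap T S a - algebraMap R S c ∈ Ideal.span {algebraMap R S t} := by
    intro a
    obtain ⟨p, n, hp⟩ := P.exists_mul_aeval_x_g_pow_eq_aeval_x (algebraMap T _ a)
    have hp' := congrArg κ hp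
    rw [map_mul, map_pow, ← Polynomial.aeval_algHom_apply, ← Polynomial.aeval_algHom_apply,
      show κ (algebraMap T _ a) = algebraMap T S a from hι a] at hp'
    obtain ⟨g', hg'⟩ := (hunit _ hx.2).exists_right_inv
    refine ⟨p.eval r * g' ^ n, ?_⟩
    have h1 : ∀ q : Polynomial R,
        Polynomial.aeval x q - algebraMap R S (q.eval r) ∈ Ideal.span {algebraMap R S t} :=
      fun q => (Ideal.span_singleton_le_iff_mem _).2 hyt (hcong q)
    have h2 : (algebraMap R S g') ^ n * (algebraMap R S (P.P.g.eval r)) ^ n = 1 := by
      rw [← mul_pow, ← map_mul, mul_comm g', hg', map_one, one_pow]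
    have h3 := Ideal.mul_mem_left (Ideal.span {algebraMap R S t}) ((algebraMap R S g') ^ n)
      (h1 p)
    have h4 := Ideal.mul_mem_left (Ideal.span {algebraMap R S t})
      ((algebraMap R S g') ^ n * algebraMap T S a) (h1 (P.P.g ^ n))
    have e : algebraMap T S a - algebraMap R S (p.eval r * g' ^ n) =
        (algebraMap R S g') ^ n * (Polynomial.aeval x p - algebraMap R S (p.eval r)) -
          (algebraMap R S g') ^ n * algebraMap T S a *
            (Polynomial.aeval x (P.P.g ^ n) - algebraMap R S ((P.P.g ^ n).eval r)) := by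
      rw [← hp', map_pow, Polynomial.eval_pow, map_pow, map_mul, map_pow]
      linear_combination (-algebraMap T S a) * h2
    rw [e]
    exact Ideal.sub_mem _ h3 h4
  have hsur : ∀ z : S, ∃ c : R, z - algebraMap R S c ∈ Ideal.span {algebraMap R S t} := by
    intro z
    obtain ⟨a, b, rfl⟩ := IsLocalization.exists_mk'_eq q.primeCompl z
    obtain ⟨c, hc⟩ := hT a
    obtain ⟨d, hd⟩ := hT b
    have hdu : IsUnit d := (isUnit_map_iff (algebraMap R S) _).1 (not_not.1 fun hn => by
      have h1 := (Ideal.span_singleton_le_iff_mem _).2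
        (show algebraMap R S t ∈ IsLocalRing.maximalIdeal S from
          fun hu => htm ((isUnit_map_iff _ _).1 hu)) hd
      have h2 := Ideal.add_mem _ h1 (show algebraMap R S d ∈ IsLocalRing.maximalIdeal S from hn)
      rw [sub_add_cancel] at h2
      exact h2 (IsLocalization.map_units S b))
    obtain ⟨d', hd'⟩ := hdu.exists_right_inv
    refine ⟨c * d', ?_⟩
    refine (Ideal.unit_mul_mem_iff_mem _ (IsLocalization.map_units S b)).1 ?_
    have h5 := Ideal.sub_mem _ hc (Ideal.mul_mem_left _ (algebraMap R S (c * d')) hd)
    convert h5 using 1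
    have h6 : algebraMap R S d * algebraMap R S d' = 1 := by rw [← map_mul, hd', map_one]
    rw [mul_sub, IsLocalization.mk'_spec', map_mul]
    linear_combination (-algebraMap R S c) * h6
  haveI : Module.Flat T S := IsLocalization.flat S q.primeCompl
  haveI : Module.Flat R S := Module.Flat.trans R T S
  haveI : Module.FaithfullyFlat R S := Module.FaithfullyFlat.of_flat_of_isLocalHom
  refine ⟨t, htm, fun n _ => ⟨?_, ?_⟩⟩
  · refine Ideal.quotientMap_injective' ?_
    rw [Ideal.comap_map_eq_self_of_faithfullyFlat]
  · intro z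
    obtain ⟨z, rfl⟩ := Ideal.Quotient.mk_surjective z
    suffices H : ∃ c : R, z - algebraMap R S c ∈ Ideal.span {algebraMap R S t ^ n} by
      obtain ⟨c, hc⟩ := H
      refine ⟨Ideal.Quotient.mk _ c, ?_⟩
      rw [Ideal.quotientMap_mk, Ideal.Quotient.eq, Ideal.map_span, Set.image_singleton, map_pow]
      rw [← neg_sub]
      exact neg_mem hc
    clear * - hsur
    induction n generalizing z with
    | zero => exact ⟨0, by simp⟩
    | succ n ih =>
      obtain ⟨c, hc⟩ := hsur z
      obtain ⟨w, hw⟩ := Ideal.mem_span_singleton.1 hc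
      obtain ⟨d, hd⟩ := ih w
      obtain ⟨v, hv⟩ := Ideal.mem_span_singleton.1 hd
      exact ⟨c + t * d, Ideal.mem_span_singleton.2 ⟨v, by
        rw [map_add, map_mul]
        linear_combination hw + algebraMap R S t * hv⟩⟩

end Groth.Agent.S9433
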