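import Groth.Statements.S9434
import Mathlib
import Groth.Agent.EtCover.Basic
-- import your own Groth.Agent.* helpers here

set_option autoImplicit false
universe u
open CAlg

namespace Groth.Agent.S9434

/-- Let R → S be a local homomorphism of local rings with S the localization of an étale R-algebra at a
prime. Then there is a finite, finitely presented, faithfully flat R-algebra S' such that for every
maximal ideal m' of S' the structure map R → S'_{m'} factors through some R-algebra map S → S'_{m'}. -/
theorem result (R : Type u) [CommRing R] [IsLocalRing R] (T : Type u) [CommRing T] [Algebra R T]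
    [Algebra.Etale R T] (q : Ideal T) [q.IsPrime] (S : Type u) [CommRing S] [IsLocalRing S]
    [Algebra T S] [IsLocalization.AtPrime S q] [Algebra R S] [IsScalarTower R T S]
    [IsLocalHom (algebraMap R S)] :
    ∃ (S' : Type u) (_ : CommRing S') (_ : Algebra R S'),
      Module.Finite R S' ∧ Algebra.FinitePresentation R S' ∧ Module.FaithfullyFlat R S' ∧
        ∀ (m' : Ideal S') [m'.IsMaximal], Nonempty (S →ₐ[R] Localization.AtPrime m') := by
  haveI : Algebra.IsEtaleAt R q := inferInstance
  obtain ⟨f, hfq, hf⟩ := Algebra.IsEtaleAt.exists_isStandardEtale (R := R) q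
  obtain ⟨⟨P⟩⟩ := hf
  obtain ⟨S', _, _, _, _, _, hS⟩ := EtCover.exists_split_all [P.f] (by simp [P.monic_f])
  haveI : Module.FinitePresentation R S' := Module.finitePresentation_of_projective R S'
  refine ⟨S', inferInstance, inferInstance, inferInstance, inferInstance, inferInstance, fun m' _ => ?_⟩
  have hqm : q.under R = IsLocalRing.maximalIdeal R := by
    have h : q = (IsLocalRing.maximalIdeal S).comap (algebraMap T S) :=
      (IsLocalization.AtPrime.comap_maximalIdeal S q).symm
    rw [Ideal.under_def, h, Ideal.comap_comap, ← IsScalarTower.algebraMap_eq]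
    exact IsLocalRing.maximalIdeal_comap (algebraMap R S)
  have hm'm : m'.under R = IsLocalRing.maximalIdeal R :=
    IsLocalRing.eq_maximalIdeal (Ideal.IsMaximal.under R m')
  let qf := q.map (algebraMap T (Localization.Away f))
  have hdisj : Disjoint (Submonoid.powers f : Set T) (q : Set T) :=
    (Ideal.disjoint_powers_iff_notMem f (Ideal.IsPrime.isRadical inferInstance)).2 hfq
  haveI : qf.IsPrime := IsLocalization.isPrime_of_isPrime_disjoint (Submonoid.powers f) _ q inferInstance hdisj
  have hqf : ∀ t, algebraMap T (Localization.Away f) t ∈ qf ↔ t ∈ q := fun t =>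
    EtCover.mem_comap_map_iff q f hfq t
  have hqfR : qf.under R = q.under R := by
    ext r
    rw [Ideal.mem_comap, Ideal.mem_comap, IsScalarTower.algebraMap_apply R T (Localization.Away f), hqf]
  obtain ⟨g', hg', φ, hφ⟩ := EtCover.exists_factor P (hS _ (by simp)) qf m'
    (by rw [hqfR, hqm, hm'm])
  let ι : S' →ₐ[R] Localization.AtPrime m' := IsScalarTower.toAlgHom R S' _
  have hu : ∀ y : Submonoid.powers g', IsUnit (ι (y : S')) := by
    rintro ⟨_, n, rfl⟩
    exact IsLocalization.map_units (Localization.AtPrime m') (⟨g' ^ n, m'.primeCompl.pow_mem hg' n⟩ : m'.primeCompl)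
  let η : Localization.Away g' →ₐ[R] Localization.AtPrime m' :=
    IsLocalization.liftAlgHom (M := Submonoid.powers g') (f := ι) hu
  let ψ : T →ₐ[R] Localization.AtPrime m' :=
    (η.comp φ).comp (IsScalarTower.toAlgHom R T (Localization.Away f))
  have hψ : ∀ t : q.primeCompl, IsUnit (ψ (t : T)) := by
    rintro ⟨t, ht⟩
    have h1 : φ (algebraMap T (Localization.Away f) t) ∉ m'.map (algebraMap S' (Localization.Away g')) := by
      intro h
      apply ht
      refine (hqf t).1 ?_
      rw [← hφ]
      exact h
    obtain ⟨⟨a, b⟩, hab⟩ := IsLocalization.surj (Submonoid.powers g') (φ (algebraMap T (Localization.Away f) t))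
    dsimp only at hab
    have hbu : IsUnit (algebraMap S' (Localization.Away g') b) := IsLocalization.map_units _ b
    have ha : a ∉ m' := fun h => h1 ((Ideal.unit_mul_mem_iff_mem _ hbu).1
      (by rw [mul_comm, hab]; exact Ideal.mem_map_of_mem _ h))
    have h2 : IsUnit (η (algebraMap S' (Localization.Away g') a)) := by
      have h3 : η (algebraMap S' (Localization.Away g') a) = ι a := IsLocalization.lift_eq hu a
      rw [h3]
      exact IsLocalization.map_units (Localization.AtPrime m') (⟨a, ha⟩ : m'.primeCompl)
    rw [← hab, map_mul] at h2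
    exact isUnit_of_mul_isUnit_left h2
  exact ⟨IsLocalization.liftAlgHom (M := q.primeCompl) (f := ψ) hψ⟩

end Groth.Agent.S9434
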