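import Groth.Statements.S9438
import Groth.Agent.FlatSerre.RkDescent
import Groth.Agent.HenselLib.FaithfulDescent

set_option autoImplicit false
universe u
open CAlg

namespace Groth.Agent.S9438

/-- The condition (R_k) descends along faithfully flat ring maps: if S is faithfully flat over R,
Noetherian and (R_k), then R is Noetherian and (R_k). -/
theorem result (k : ℕ) (R : Type u) [CommRing R] (S : Type u) [CommRing S]
    [Algebra R S] [Module.FaithfullyFlat R S] [IsNoetherianRing S] (hS : LocCoh.HasRk k S) :
    IsNoetherianRing R ∧ LocCoh.HasRk k R := by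
  have hR : IsNoetherianRing R := HenselLib.isNoetherianRing_of_faithfullyFlat R S
  refine ⟨hR, fun p _ hp => ?_⟩
  obtain ⟨⟨q, hq⟩, hqp⟩ := PrimeSpectrum.comap_surjective_of_faithfullyFlat (A := R) (B := S) ⟨p, ‹_›⟩
  have hqp' : q.comap (algebraMap R S) = p := congrArg PrimeSpectrum.asIdeal hqp
  have h := FlatSerre.hasRkAt_descend (A := R) k q ((FlatSerre.hasRkAt_iff k q).mpr fun P _ _ hP => hS P hP)
  exact (FlatSerre.hasRkAt_iff k (q.comap (algebraMap R S))).mp h p hqp'.ge hp

end Groth.Agent.S9438
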