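import Groth.Statements.S9439
import Groth.Agent.FibreP.Good
import Mathlib.RingTheory.AdicCompletion.AsTensorProduct
import Mathlib.RingTheory.DiscreteValuationRing.TFAE
import Mathlib.RingTheory.Flat.Localization

set_option autoImplicit false
universe u
open CAlg IsLocalRing

namespace Groth.Agent.S9439

theorem result
    (R : Type u) [CommRing R] [IsLocalRing R] [IsNoetherianRing R] (p : Ideal R) [p.IsPrime]
    [IsDomain (Localization.AtPrime p)] [IsDiscreteValuationRing (Localization.AtPrime p)]
    (hp : IsReduced (AdicCompletion (IsLocalRing.maximalIdeal R) R ⧸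
      p.map (algebraMap R (AdicCompletion (IsLocalRing.maximalIdeal R) R))))
    (q : Ideal (AdicCompletion (IsLocalRing.maximalIdeal R) R)) [q.IsPrime]
    (hq : q ∈ associatedPrimes (AdicCompletion (IsLocalRing.maximalIdeal R) R)
      (AdicCompletion (IsLocalRing.maximalIdeal R) R ⧸
        p.map (algebraMap R (AdicCompletion (IsLocalRing.maximalIdeal R) R)))) :
    ∃ _ : IsDomain (Localization.AtPrime q), IsDiscreteValuationRing (Localization.AtPrime q) := by
  let Rh := AdicCompletion (IsLocalRing.maximalIdeal R) R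
  let ι := algebraMap R Rh
  have : IsNoetherianRing Rh := CohenStruct.isNoetherianRing_completion R
  have : Module.Flat R Rh := AdicCompletion.flat_of_isNoetherian _
  obtain ⟨-, x, hx⟩ := isAssociatedPrime_iff.mp hq
  obtain ⟨x, rfl⟩ := Ideal.Quotient.mk_surjective x
  have hmemq : ∀ y, y ∈ q ↔ y * x ∈ p.map ι := fun y => by
    rw [hx, Submodule.mem_colon_singleton, Submodule.mem_bot, Algebra.smul_def, Ideal.Quotient.algebraMap_eq,
      ← map_mul, Ideal.Quotient.eq_zero_iff_mem]
  have hrad : (p.map ι).radical = p.map ι := ((Ideal.isRadical_iff_quotient_reduced _).mpr hp).radical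
  have hxq : x ∉ q := fun h => by
    have h1 : x ∈ p.map ι := hrad ▸ ⟨2, by rw [pow_two]; exact (hmemq x).mp h⟩
    exact Ideal.IsPrime.ne_top ‹q.IsPrime› ((Ideal.eq_top_iff_one q).mpr ((hmemq 1).mpr (by rwa [one_mul])))
  have hle : p.map ι ≤ q := fun y hy => (hmemq y).mpr (Ideal.mul_mem_right x _ hy)
  have hcomap : q.comap ι = p := by
    refine le_antisymm (fun r hr => ?_) (Ideal.map_le_iff_le_comap.mp hle)
    by_contra hrp
    have h1 := (hmemq (ι r)).mp hr
    have hreg : IsSMulRegular (R ⧸ p) r := fun a b hab => by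
      obtain ⟨a, rfl⟩ := Ideal.Quotient.mk_surjective a
      obtain ⟨b, rfl⟩ := Ideal.Quotient.mk_surjective b
      have h2 : r * (a - b) ∈ p := by
        rw [mul_sub, ← Ideal.Quotient.eq]
        exact hab
      exact Ideal.Quotient.eq.mpr ((‹p.IsPrime›.mem_or_mem h2).resolve_left hrp)
    have hinj := Module.Flat.rTensor_preserves_injective_linearMap (M := Rh) (LinearMap.lsmul R (R ⧸ p) r) hreg
    let e := TensorProduct.quotTensorEquivQuotSMul Rh p
    have h3 : r • e.symm (Submodule.Quotient.mk x) = 0 := by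
      rw [← map_smul, ← Submodule.Quotient.mk_smul, (Submodule.Quotient.mk_eq_zero _).mpr, map_zero]
      rw [Ideal.smul_top_eq_map, Algebra.smul_def]
      exact h1
    have h3' : (LinearMap.lsmul R (R ⧸ p) r).rTensor Rh (e.symm (Submodule.Quotient.mk x)) = 0 := by
      have : (LinearMap.lsmul R (R ⧸ p) r).rTensor Rh = LinearMap.lsmul R _ r :=
        TensorProduct.ext' fun a b => by simp [TensorProduct.smul_tmul']
      rw [this]
      exact h3
    have h4 := hinj (h3'.trans (map_zero _).symm)
    rw [map_eq_zero_iff _ e.symm.injective, Submodule.Quotient.mk_eq_zero, Ideal.smul_top_eq_map] at h4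
    exact hxq (hle h4)
  let B := Localization.AtPrime q
  let A := Localization.AtPrime p
  have : IsNoetherianRing B := IsLocalization.isNoetherianRing q.primeCompl B inferInstance
  have hpu : ∀ s : p.primeCompl, IsUnit (algebraMap R B s) := fun s => by
    rw [IsScalarTower.algebraMap_apply R Rh B]
    exact IsLocalization.map_units B (⟨ι s, fun h => s.2 (hcomap ▸ h)⟩ : q.primeCompl)
  let _ : Algebra A B := (IsLocalization.lift (M := p.primeCompl) (g := algebraMap R B) hpu).toAlgebra
  have : IsScalarTower R A B := .of_algebraMap_eq fun z => (IsLocalization.lift_eq hpu z).symm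
  have : Module.Flat Rh B := IsLocalization.flat B q.primeCompl
  have : Module.Flat R B := Module.Flat.trans R Rh B
  have : Module.Flat A B := (Module.flat_iff_of_isLocalization A p.primeCompl B).mpr inferInstance
  obtain ⟨ϖ, hϖ⟩ := IsDiscreteValuationRing.exists_irreducible A
  let π := algebraMap A B ϖ
  have hπ : π ∈ nonZeroDivisors B := by
    have hr : IsSMulRegular A ϖ := fun a b h => mul_left_cancel₀ hϖ.ne_zero h
    have : Function.Injective (fun b : B => ϖ • b) := by
      intro a b hab
      apply (TensorProduct.rid A B).symm.injective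
      apply Module.Flat.lTensor_preserves_injective_linearMap (M := B) (LinearMap.lsmul A A ϖ) hr
      simp only [TensorProduct.rid_symm_apply, LinearMap.lTensor_tmul, LinearMap.lsmul_apply]
      rw [← TensorProduct.smul_tmul, ← TensorProduct.smul_tmul]
      exact congrArg (fun z => z ⊗ₜ[A] (1 : A)) hab
    rw [mem_nonZeroDivisors_iff_right]
    intro z hz
    exact this (by simpa [Algebra.smul_def, mul_comm] using hz)
  have hmax : maximalIdeal B ≤ Ideal.span {π} := by
    rw [← IsLocalization.AtPrime.map_eq_maximalIdeal q B, Ideal.map_le_iff_le_comap]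
    intro y hy
    have h1 : p.map (algebraMap R B) ≤ Ideal.span {π} := by
      rw [Ideal.map_le_iff_le_comap]
      intro r hr
      have h2 : algebraMap R A r ∈ maximalIdeal A := (IsLocalization.AtPrime.to_map_mem_maximal_iff A p r).mpr hr
      rw [hϖ.maximalIdeal_eq, Ideal.mem_span_singleton] at h2
      rw [Ideal.mem_comap, IsScalarTower.algebraMap_apply R A B, Ideal.mem_span_singleton]
      exact (map_dvd (algebraMap A B) (a := ϖ) h2 : _)
    have h3 : algebraMap Rh B (y * x) ∈ Ideal.span {π} := h1 (by
      rw [IsScalarTower.algebraMap_eq R Rh B, ← Ideal.map_map]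
      exact Ideal.mem_map_of_mem _ ((hmemq y).mp hy))
    rw [map_mul] at h3
    obtain ⟨u, hu⟩ := IsLocalization.map_units B (⟨x, hxq⟩ : q.primeCompl)
    exact ((Ideal.mul_unit_mem_iff_mem _ (hu ▸ u.isUnit)).mp h3 : _)
  have hπm : π ∈ maximalIdeal B := by
    rw [mem_maximalIdeal, mem_nonunits_iff]
    obtain ⟨r, s, hrs⟩ := IsLocalization.exists_mk'_eq p.primeCompl ϖ
    intro hu
    have hr : r ∈ p := by
      rw [← IsLocalization.AtPrime.mk'_mem_maximal_iff A p r s, hrs]
      exact hϖ.not_isUnit
    have h5 : algebraMap R B r = π * algebraMap R B s := by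
      rw [IsScalarTower.algebraMap_apply R A B, IsScalarTower.algebraMap_apply R A B, ← map_mul, ← hrs,
        IsLocalization.mk'_spec]
    have h6 : IsUnit (algebraMap R B r) := h5 ▸ hu.mul (hpu s)
    rw [IsScalarTower.algebraMap_apply R Rh B, IsLocalization.AtPrime.isUnit_to_map_iff B q] at h6
    exact h6 (hle (Ideal.mem_map_of_mem _ hr))
  have hdecomp : ∀ a : B, a ≠ 0 → ∃ n : ℕ, ∃ u : Bˣ, a = π ^ n * u := by
    intro a ha
    obtain ⟨n, b, rfl, hb⟩ := FibreP.exists_eq_pow_mul hπm ha
    have : IsUnit b := by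
      by_contra h
      exact hb (hmax h)
    exact ⟨n, this.unit, rfl⟩
  have hdom : IsDomain B := by
    refine @NoZeroDivisors.to_isDomain B _ _ ⟨fun {a b} hab => ?_⟩
    by_contra h
    push Not at h
    obtain ⟨m, u, rfl⟩ := hdecomp a h.1
    obtain ⟨n, v, rfl⟩ := hdecomp b h.2
    have h7 : (u * v : Bˣ).val * π ^ (m + n) = 0 := by rw [← hab, Units.val_mul]; ring
    exact (u * v).ne_zero ((mul_right_mem_nonZeroDivisors_eq_zero_iff (pow_mem hπ _)).mp h7)
  refine ⟨hdom, ?_⟩
  have hπ0 : π ≠ 0 := nonZeroDivisors.ne_zero hπ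
  have hnf : ¬ IsField B := fun h =>
    hπ0 (by simpa [(IsLocalRing.isField_iff_maximalIdeal_eq).mp h] using hπm)
  refine ((IsDiscreteValuationRing.TFAE B hnf).out 0 4).mpr ?_
  exact ⟨⟨π, le_antisymm hmax ((Ideal.span_singleton_le_iff_mem _).mpr hπm)⟩⟩

end Groth.Agent.S9439
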