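import Groth.Statements.S9440
import Groth.Agent.NagataUJ.Main
import Groth.Agent.S2072
-- import your own Groth.Agent.* helpers here

set_option autoImplicit false
universe u
open CAlg

namespace Groth.Agent.S9440

/-- An analytically unramified local cover gives a finite integral closure. -/
theorem finite_of_cover {R P S L : Type u} [CommRing R] [IsNoetherianRing R] [CommRing P]
    [Algebra R P] [CommRing S] [IsDomain S] [IsLocalRing S] [Algebra R S] [Module.Finite R S]
    [IsReduced (AdicCompletion (IsLocalRing.maximalIdeal S) S)] [Field L] [Algebra P L]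
    [Algebra R L] [IsScalarTower R P L] [Algebra.IsIntegral R P] (g : S →+* L) (hg : Function.Injective g)
    (hfrac : ∀ z : L, ∃ u v : S, z = g u / g v)
    (hRL : ∀ r : R, g (algebraMap R S r) = algebraMap R L r) :
    Module.Finite P (integralClosure P L) := by
  have : IsNoetherianRing S := IsNoetherianRing.of_finite R S
  let : Algebra S L := g.toAlgebra
  have : FaithfulSMul S L := (faithfulSMul_iff_algebraMap_injective S L).mpr hg
  have : IsFractionRing S L := IsFractionRing.of_field S L hfrac
  have : IsScalarTower R S L := .of_algebraMap_eq fun r => (hRL r).symm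
  have hN1 : Module.Finite S (integralClosure S L) :=
    (NagataLib.isN1_iff L).mp (S2072.result (R := S))
  have := NagataLib.finite_integralClosure_of_tower (A := R) hN1
  let k : integralClosure P L →ₗ[R] integralClosure R L :=
    { toFun := fun y => ⟨y.1, isIntegral_trans y.1 y.2⟩
      map_add' := fun _ _ => rfl
      map_smul' := fun a y => Subtype.ext rfl }
  have : Module.Finite R (integralClosure P L) :=
    Module.Finite.of_injective k fun y y' h => Subtype.ext (congrArg Subtype.val h :)
  exact Module.Finite.of_restrictScalars_finite R _ _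

/-- (1) ⇔ (3): a Noetherian local ring R is a Nagata ring if and only if for every finite local
homomorphism R → S of local rings with S a domain, the completion of S is reduced. -/
theorem result (R : Type u) [CommRing R]
    [IsLocalRing R] [IsNoetherianRing R] :
    CAlg.IsNagata R ↔ ∀ (S : Type u) [CommRing S] [IsDomain S] [IsLocalRing S] [Algebra R S]
      [IsLocalHom (algebraMap R S)] [Module.Finite R S],
      IsReduced (AdicCompletion (IsLocalRing.maximalIdeal S) S) := by
  classical
  constructor
  · intro hR S _ _ _ _ _ _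
    have := NagataUJ.isNagata_of_finite (B := S) hR
    exact NagataUJ.isReduced_completion_of_isNagata this
  intro h
  refine ⟨inferInstance, fun p _ => ?_⟩
  intro L _ _ _ _ hL
  let K := FractionRing (R ⧸ p)
  obtain ⟨s, b, hb⟩ := FiniteDimensional.exists_is_basis_integral (R ⧸ p) K L
  let B : Subalgebra (R ⧸ p) L := Algebra.adjoin (R ⧸ p) (Set.range b)
  have : Module.Finite (R ⧸ p) B := Module.Finite.iff_fg.mpr
    (fg_adjoin_of_finite (Set.finite_range b) (by rintro _ ⟨i, rfl⟩; exact hb i))
  have hinjK : Function.Injective (algebraMap (R ⧸ p) L) := by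
    rw [IsScalarTower.algebraMap_eq (R ⧸ p) K L]
    exact (algebraMap K L).injective.comp (IsFractionRing.injective (R ⧸ p) K)
  let : Algebra R L := ((algebraMap (R ⧸ p) L).comp (algebraMap R (R ⧸ p))).toAlgebra
  have : IsScalarTower R (R ⧸ p) L := .of_algebraMap_eq fun _ => rfl
  let : Algebra R B := ((algebraMap (R ⧸ p) B).comp (algebraMap R (R ⧸ p))).toAlgebra
  have : IsScalarTower R (R ⧸ p) B := .of_algebraMap_eq fun _ => rfl
  have : Module.Finite R B := Module.Finite.trans (R ⧸ p) B
  let B' : Subalgebra R L := B.restrictScalars R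
  have hfrac : ∀ z : L, ∃ u v : L, u ∈ B ∧ v ∈ B ∧ v ≠ 0 ∧ z = u / v := fun z => by
    obtain ⟨d, hd⟩ := IsLocalization.exist_integer_multiples (nonZeroDivisors (R ⧸ p)) Finset.univ
      (fun i => b.repr z i)
    have hmem : (d : R ⧸ p) • z ∈ B := by
      rw [← b.sum_repr z, Finset.smul_sum]
      refine sum_mem fun i hi => ?_
      obtain ⟨e, he⟩ := hd i hi
      rw [← smul_assoc, ← he, algebraMap_smul]
      exact B.smul_mem (Algebra.subset_adjoin (Set.mem_range_self i)) e
    have hd0 : algebraMap (R ⧸ p) L d ≠ 0 :=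
      (map_ne_zero_iff _ hinjK).mpr (nonZeroDivisors.coe_ne_zero d)
    refine ⟨_, _, hmem, B.algebraMap_mem d, hd0, ?_⟩
    rw [Algebra.smul_def, mul_div_cancel_left₀ _ hd0]
  let m := IsLocalRing.maximalIdeal R
  by_cases hm : m = p
  · have : p.IsMaximal := hm ▸ IsLocalRing.maximalIdeal.isMaximal R
    let := Ideal.Quotient.field p
    exact NagataLib.isN2_of_field (R ⧸ p) L inferInstance
  obtain ⟨x0, hx0m, hx0p⟩ : ∃ x ∈ m, x ∉ p := by
    by_contra hne
    push Not at hne
    exact hm ((IsLocalRing.maximalIdeal.isMaximal R).eq_of_le (Ideal.IsPrime.ne_top ‹_›) hne)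
  let mB : Ideal B := m.map (algebraMap R B)
  let S : Subalgebra R B := Algebra.adjoin R (mB : Set B)
  have : Module.Finite R S :=
    Module.Finite.of_injective S.val.toLinearMap Subtype.val_injective
  have : Algebra.IsIntegral S B := ⟨fun y => IsIntegral.tower_top (R := R) (Algebra.IsIntegral.isIntegral y)⟩
  have hloc : ∀ M : Ideal S, M.IsMaximal → ∀ y : S, y ∈ M ↔ ∃ r ∈ m, (y : B) - algebraMap R B r ∈ mB := by
    intro M hM y
    obtain ⟨N, hN, hNM⟩ := Ideal.exists_ideal_over_maximal_of_isIntegral (S := B) M
      (by intro z hz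
          have : algebraMap S B z = 0 := hz
          rw [show z = 0 from Subtype.ext this]
          exact zero_mem _)
    have hmN : mB ≤ N := Ideal.map_le_iff_le_comap.mpr
      (IsLocalRing.eq_maximalIdeal (Ideal.isMaximal_comap_of_isIntegral_of_isMaximal N)).ge
    have hyN : y ∈ M ↔ (y : B) ∈ N := by rw [← hNM]; rfl
    obtain ⟨r, hr⟩ : ∃ r : R, (y : B) - algebraMap R B r ∈ mB := by
      obtain ⟨y, hy⟩ := y
      clear hyN
      induction hy using Algebra.adjoin_induction with
      | mem z hz => exact ⟨0, by rw [map_zero, sub_zero]; exact hz⟩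
      | algebraMap r => exact ⟨r, by rw [sub_self]; exact zero_mem _⟩
      | add u v _ _ hu hv =>
        obtain ⟨c, hc⟩ := hu
        obtain ⟨d, hd⟩ := hv
        exact ⟨c + d, by rw [map_add, add_sub_add_comm]; exact add_mem hc hd⟩
      | mul u v _ _ hu hv =>
        obtain ⟨c, hc⟩ := hu
        obtain ⟨d, hd⟩ := hv
        refine ⟨c * d, ?_⟩
        rw [show u * v - algebraMap R B (c * d) = u * (v - algebraMap R B d) +
          algebraMap R B d * (u - algebraMap R B c) by rw [map_mul]; ring]
        exact add_mem (Ideal.mul_mem_left _ _ hd) (Ideal.mul_mem_left _ _ hc)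
    rw [hyN]
    constructor
    · intro hy
      have h1 : r ∈ N.comap (algebraMap R B) := by
        rw [Ideal.mem_comap, ← sub_sub_cancel (y : B) (algebraMap R B r)]
        exact sub_mem hy (hmN hr)
      rw [IsLocalRing.eq_maximalIdeal (Ideal.isMaximal_comap_of_isIntegral_of_isMaximal N)] at h1
      exact ⟨r, h1, hr⟩
    · rintro ⟨r', hr', hyr'⟩
      rw [← sub_add_cancel (y : B) (algebraMap R B r')]
      exact add_mem (hmN hyr') (hmN (Ideal.mem_map_of_mem _ hr'))
  have : IsLocalRing S := by
    obtain ⟨M, hM⟩ := Ideal.exists_maximal S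
    refine .of_unique_max_ideal ⟨M, hM, fun N hN => SetLike.ext fun y => ?_⟩
    rw [hloc M hM, hloc N hN]
  have : IsLocalHom (algebraMap R S) := ⟨fun r hr => by
    by_contra hu
    have := (hloc _ (IsLocalRing.maximalIdeal.isMaximal S) (algebraMap R S r)).mpr
      ⟨r, hu, by simp⟩
    exact (IsLocalRing.maximalIdeal.isMaximal S).ne_top (Ideal.eq_top_of_isUnit_mem _ this hr)⟩
  have : IsNoetherianRing S := IsNoetherianRing.of_finite R S
  have : IsReduced (AdicCompletion (IsLocalRing.maximalIdeal S) S) := h S
  let e : B := algebraMap R B x0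
  have he : e ∈ mB := Ideal.mem_map_of_mem _ hx0m
  have he0 : (e : L) ≠ 0 := by
    change algebraMap (R ⧸ p) L (Ideal.Quotient.mk p x0) ≠ 0
    exact (map_ne_zero_iff _ hinjK).mpr (fun h => hx0p (Ideal.Quotient.eq_zero_iff_mem.mp h))
  refine finite_of_cover (R := R) (B.val.toRingHom.comp S.val.toRingHom) ?_ (fun z => ?_) (fun r => rfl)
  · exact Subtype.val_injective.comp Subtype.val_injective
  · obtain ⟨u, v, hu, hv, hv0, rfl⟩ := hfrac z
    refine ⟨⟨⟨u, hu⟩ * e, Algebra.subset_adjoin (Ideal.mul_mem_left _ _ he)⟩,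
      ⟨⟨v, hv⟩ * e, Algebra.subset_adjoin (Ideal.mul_mem_left _ _ he)⟩, ?_⟩
    change u / v = (u * (e : L)) / (v * (e : L))
    rw [mul_div_mul_right _ _ he0]

end Groth.Agent.S9440
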