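import Groth.Statements.S9443
import Groth.Agent.PP16Lib.CompletionEquiv
-- import your own Groth.Agent.* helpers here

set_option autoImplicit false
universe u
open CAlg

namespace Groth.Agent.S9443

/-- A complete regular local ring R with a coefficient field k (a subfield mapping isomorphically onto
the residue field) is k-isomorphic to a power series ring over k in finitely many variables
(existence of an isomorphism only; the number of variables is then the dimension of R). -/
theorem result (R : Type u)
    [CommRing R] [IsRegularLocalRing R] [IsAdicComplete (IsLocalRing.maximalIdeal R) R]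
    (k : Type u) [Field k] [Algebra k R]
    (hk : Function.Bijective (algebraMap k (IsLocalRing.ResidueField R))) :
    ∃ d : ℕ, Nonempty (R ≃ₐ[k] MvPowerSeries (Fin d) k) := by
  letI : Field (R ⧸ IsLocalRing.maximalIdeal R) := Ideal.Quotient.field _
  let eK : k ≃ₐ[k] IsLocalRing.ResidueField R := AlgEquiv.ofBijective (Algebra.ofId k _) hk
  haveI : Algebra.FormallySmooth k (R ⧸ IsLocalRing.maximalIdeal R) :=
    Algebra.FormallySmooth.of_equiv (A := k) eK
  obtain ⟨d, e, he⟩ := PP16Lib.exists_completion_equiv_compat (F := k) (A := R)
    (PP16Lib.symGrBijective_of_isRegularLocalRing R)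
  let m : MvPowerSeries (Fin d) (IsLocalRing.ResidueField R) ≃+* MvPowerSeries (Fin d) k :=
    RingEquiv.ofRingHom (MvPowerSeries.map eK.symm.toRingEquiv.toRingHom) (MvPowerSeries.map eK.toRingEquiv.toRingHom)
      (by rw [← MvPowerSeries.map_comp]; ext x; simp)
      (by rw [← MvPowerSeries.map_comp]; ext x; simp)
  let o : R ≃+* AdicCompletion (IsLocalRing.maximalIdeal R) R :=
    RingEquiv.ofBijective (algebraMap R (AdicCompletion (IsLocalRing.maximalIdeal R) R))
      (AdicCompletion.of_bijective (IsLocalRing.maximalIdeal R) R)
  refine ⟨d, ⟨AlgEquiv.ofRingEquiv (f := o.trans (e.trans m)) fun x => ?_⟩⟩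
  show MvPowerSeries.map eK.symm.toRingEquiv.toRingHom (e (algebraMap R (AdicCompletion (IsLocalRing.maximalIdeal R) R) (algebraMap k R x))) = _
  rw [he, MvPowerSeries.map_C, MvPowerSeries.algebraMap_apply]
  exact congrArg _ (eK.symm.commutes x)

end Groth.Agent.S9443
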