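import Groth.Statements.S9445
import Mathlib.RingTheory.Etale.Basic
import Mathlib.RingTheory.Kaehler.Basic

set_option autoImplicit false
universe u
open CAlg

namespace Groth.Agent.S9445

open TensorProduct in
/-- For ring maps R → S → S' with S → S' formally étale and k ≥ 0, let J' ⊆ S' ⊗_R S' be the kernel of
multiplication and I ⊆ S' ⊗_R S its preimage under the map induced by S → S' (I is the kernel of S'
⊗_R S → S', and (S' ⊗_R S)/I^{k+1} is S' ⊗_S P^k_{S/R}); then (S' ⊗_R S)/I^{k+1} → (S' ⊗_R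
S')/J'^{k+1} is bijective. (The consequence S' ⊗_S Ω_{S/R} ≅ Ω_{S'/R} is Mathlib's
KaehlerDifferential.isBaseChange_of_formallyEtale.) -/
theorem result (R : Type u) [CommRing R]
    (S : Type u) [CommRing S] [Algebra R S] (S' : Type u) [CommRing S'] [Algebra R S']
    [Algebra S S'] [IsScalarTower R S S'] [Algebra.FormallyEtale S S'] (k : ℕ) :
    Function.Bijective (Ideal.quotientMap (KaehlerDifferential.ideal R S' ^ (k + 1))
      (Algebra.TensorProduct.map (AlgHom.id S' S') (IsScalarTower.toAlgHom R S S')).toRingHom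
      (Ideal.le_comap_pow
        (Algebra.TensorProduct.map (AlgHom.id S' S') (IsScalarTower.toAlgHom R S S')).toRingHom
        (K := KaehlerDifferential.ideal R S') (k + 1))) := by
  let φ := Algebra.TensorProduct.map (AlgHom.id S' S') (IsScalarTower.toAlgHom R S S')
  let J := KaehlerDifferential.ideal R S'
  let I := J.comap φ.toRingHom
  let q : S' ⊗[R] S →+* (S' ⊗[R] S) ⧸ I ^ (k + 1) := Ideal.Quotient.mk _
  let q' : S' ⊗[R] S' →+* (S' ⊗[R] S') ⧸ J ^ (k + 1) := Ideal.Quotient.mk _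
  show Function.Bijective (Ideal.quotientMap (J ^ (k + 1)) φ.toRingHom (Ideal.le_comap_pow φ.toRingHom (K := J) (k + 1)))
  let Φ : (S' ⊗[R] S) ⧸ I ^ (k + 1) →+* (S' ⊗[R] S') ⧸ J ^ (k + 1) :=
    Ideal.quotientMap (J ^ (k + 1)) φ.toRingHom (Ideal.le_comap_pow φ.toRingHom (K := J) (k + 1))
  have hφt : ∀ a b, φ (a ⊗ₜ[R] b) = a ⊗ₜ[R] algebraMap S S' b := fun a b => rfl
  letI : Algebra S ((S' ⊗[R] S) ⧸ I ^ (k + 1)) :=
    (q.comp (Algebra.TensorProduct.includeRight : S →ₐ[R] S' ⊗[R] S).toRingHom).toAlgebra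
  have hmem : ∀ z, z ∈ I ↔ Algebra.TensorProduct.lmul' R (φ z) = 0 := fun z => Iff.rfl
  let p : (S' ⊗[R] S) ⧸ I ^ (k + 1) →ₐ[S] S' :=
    { (Ideal.Quotient.lift (I ^ (k + 1)) ((Algebra.TensorProduct.lmul' R).toRingHom.comp φ.toRingHom) fun z hz =>
        (hmem z).mp (Ideal.pow_le_self (Nat.succ_ne_zero k) hz)) with
      commutes' := fun s => by
        show Algebra.TensorProduct.lmul' R (φ ((1 : S') ⊗ₜ[R] s)) = algebraMap S S' s
        rw [hφt, Algebra.TensorProduct.lmul'_apply_tmul, one_mul] }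
  have hp : Function.Surjective p := fun s' => ⟨q (s' ⊗ₜ[R] 1), by
    show Algebra.TensorProduct.lmul' R (φ (s' ⊗ₜ[R] 1)) = s'
    rw [hφt, Algebra.TensorProduct.lmul'_apply_tmul, map_one, mul_one]⟩
  have hker : ∀ z, p z = 0 → z ∈ I.map q := fun z hz => by
    obtain ⟨w, rfl⟩ := Ideal.Quotient.mk_surjective z
    exact Ideal.mem_map_of_mem q ((hmem w).mpr hz)
  have hnil : IsNilpotent (RingHom.ker p) := ⟨k + 1, by
    rw [Ideal.zero_eq_bot, eq_bot_iff]
    refine (Ideal.pow_right_mono (fun z hz => hker z hz) (k + 1)).trans ?_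
    rw [← Ideal.map_pow, show q = Ideal.Quotient.mk (I ^ (k + 1)) from rfl, Ideal.map_quotient_self]⟩
  let ε := Ideal.quotientKerAlgEquivOfSurjective hp
  let h := Algebra.FormallySmooth.lift (RingHom.ker p) hnil ε.symm.toAlgHom
  have hh : ∀ s', p (h s') = s' := fun s' => by
    have h1 := congrArg ε (Algebra.FormallySmooth.mk_lift (RingHom.ker p) hnil ε.symm.toAlgHom s')
    rw [show ε (ε.symm.toAlgHom s') = s' from ε.apply_symm_apply _] at h1
    exact h1
  let hR : S' →ₐ[R] (S' ⊗[R] S) ⧸ I ^ (k + 1) :=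
    { h.toRingHom with
      commutes' := fun r => by
        show h (algebraMap R S' r) = algebraMap R _ r
        rw [IsScalarTower.algebraMap_apply R S S', h.commutes]
        show q ((1 : S') ⊗ₜ[R] algebraMap R S r) = q (algebraMap R (S' ⊗[R] S) r)
        rw [← (Algebra.TensorProduct.includeRight : S →ₐ[R] S' ⊗[R] S).commutes r]
        rfl }
  let lft : S' →ₐ[R] (S' ⊗[R] S) ⧸ I ^ (k + 1) :=
    (Ideal.Quotient.mkₐ R _).comp Algebra.TensorProduct.includeLeft
  let g := Algebra.TensorProduct.lift lft hR fun _ _ => Commute.all _ _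
  have hgt : ∀ a b, g (a ⊗ₜ[R] b) = q (a ⊗ₜ[R] 1) * h b := fun a b => Algebra.TensorProduct.lift_tmul _ _ _ a b
  have hpg : ∀ z, p (g z) = Algebra.TensorProduct.lmul' R z := fun z => by
    induction z using TensorProduct.induction_on with
    | zero => simp
    | add a b ha hb => rw [map_add, map_add, map_add, ha, hb]
    | tmul a b =>
      rw [hgt, map_mul, hh, Algebra.TensorProduct.lmul'_apply_tmul]
      congr 1
      show Algebra.TensorProduct.lmul' R (φ (a ⊗ₜ[R] 1)) = a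
      rw [hφt, Algebra.TensorProduct.lmul'_apply_tmul, map_one, mul_one]
  have hgJ : J ^ (k + 1) ≤ RingHom.ker g.toRingHom := by
    have hJ : J.map g.toRingHom ≤ I.map q := Ideal.map_le_iff_le_comap.mpr fun z hz => hker _ ((hpg z).trans hz)
    refine (Ideal.map_eq_bot_iff_le_ker _).mp (le_bot_iff.mp ?_)
    rw [Ideal.map_pow]
    refine (Ideal.pow_right_mono hJ (k + 1)).trans ?_
    rw [← Ideal.map_pow, show q = Ideal.Quotient.mk (I ^ (k + 1)) from rfl, Ideal.map_quotient_self]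
  let Ψ : (S' ⊗[R] S') ⧸ J ^ (k + 1) →+* (S' ⊗[R] S) ⧸ I ^ (k + 1) :=
    Ideal.Quotient.lift _ g.toRingHom fun z hz => hgJ hz
  have h1 : ∀ z, Ψ (Φ z) = z := fun z => by
    obtain ⟨z, rfl⟩ := Ideal.Quotient.mk_surjective z
    show g (φ z) = q z
    induction z using TensorProduct.induction_on with
    | zero => simp
    | add a b ha hb => rw [map_add, map_add, map_add, ha, hb]
    | tmul a b =>
      rw [hφt, hgt, h.commutes]
      show q (a ⊗ₜ[R] 1) * q ((1 : S') ⊗ₜ[R] b) = q (a ⊗ₜ[R] b)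
      rw [← map_mul, Algebra.TensorProduct.tmul_mul_tmul, mul_one, one_mul]
  letI : Algebra S ((S' ⊗[R] S') ⧸ J ^ (k + 1)) :=
    (q'.comp ((Algebra.TensorProduct.includeRight : S' →ₐ[R] S' ⊗[R] S').toRingHom.comp (algebraMap S S'))).toAlgebra
  let g1 : S' →ₐ[S] (S' ⊗[R] S') ⧸ J ^ (k + 1) :=
    { q'.comp (Algebra.TensorProduct.includeRight : S' →ₐ[R] S' ⊗[R] S').toRingHom with commutes' := fun _ => rfl }
  let g2 : S' →ₐ[S] (S' ⊗[R] S') ⧸ J ^ (k + 1) :=
    { Φ.comp h.toRingHom with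
      commutes' := fun s => by
        show Φ (h (algebraMap S S' s)) = _
        rw [h.commutes]
        rfl }
  have hΦp : ∀ z w, Φ z = q' w → p z = Algebra.TensorProduct.lmul' R w := fun z w hzw => by
    obtain ⟨z, rfl⟩ := Ideal.Quotient.mk_surjective z
    have h2 : φ z - w ∈ J ^ (k + 1) := Ideal.Quotient.eq.mp hzw
    have h3 : Algebra.TensorProduct.lmul' R (φ z - w) = 0 := Ideal.pow_le_self (Nat.succ_ne_zero k) h2
    rw [map_sub, sub_eq_zero] at h3
    exact h3
  have hg12 : g1 = g2 := Algebra.FormallyUnramified.ext (I := J.map q') ⟨k + 1, by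
      rw [← Ideal.map_pow, show q' = Ideal.Quotient.mk (J ^ (k + 1)) from rfl, Ideal.map_quotient_self, Ideal.zero_eq_bot]⟩
    fun s' => by
      obtain ⟨w, hw⟩ := Ideal.Quotient.mk_surjective (Φ (h s'))
      show Ideal.Quotient.mk (J.map q') (q' ((1 : S') ⊗ₜ[R] s')) = Ideal.Quotient.mk (J.map q') (Φ (h s'))
      rw [← hw, Ideal.Quotient.eq, ← map_sub]
      refine Ideal.mem_map_of_mem q' ?_
      show Algebra.TensorProduct.lmul' R _ = 0
      rw [map_sub, Algebra.TensorProduct.lmul'_apply_tmul, one_mul, ← hΦp _ _ hw.symm, hh, sub_self]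
  have h2 : ∀ z, Φ (Ψ z) = z := fun z => by
    obtain ⟨z, rfl⟩ := Ideal.Quotient.mk_surjective z
    show Φ (g z) = q' z
    induction z using TensorProduct.induction_on with
    | zero => simp
    | add a b ha hb => rw [map_add, map_add, map_add, ha, hb]
    | tmul a b =>
      rw [hgt, map_mul, show Φ (h b) = q' ((1 : S') ⊗ₜ[R] b) from (DFunLike.congr_fun hg12 b).symm,
        show Φ (q (a ⊗ₜ[R] 1)) = q' (φ (a ⊗ₜ[R] 1)) from rfl, hφt, map_one, ← map_mul,
        Algebra.TensorProduct.tmul_mul_tmul, mul_one, one_mul]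
  exact Function.bijective_iff_has_inverse.mpr ⟨Ψ, h1, h2⟩

end Groth.Agent.S9445
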