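import Groth.Statements.S9446
import Mathlib.RingTheory.Smooth.IntegralClosure
import Mathlib.RingTheory.Smooth.Flat
import Mathlib.RingTheory.Flat.EquationalCriterion

set_option autoImplicit false
universe u
open CAlg

namespace Groth.Agent.S9446

open scoped TensorProduct

variable {R S : Type u} [CommRing R] [CommRing S] [Algebra R S]

theorem flat_of_indSmooth (hS : Smoothing.IndSmooth R S) : Module.Flat R S := by
  classical
  rw [Module.Flat.iff_forall_isTrivialRelation]
  intro l f x hfx
  let rel : MvPolynomial (Fin l) R := ∑ i, MvPolynomial.C (f i) * MvPolynomial.X i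
  let A := MvPolynomial (Fin l) R ⧸ Ideal.span {rel}
  have hA : Algebra.FinitePresentation R A := Algebra.FinitePresentation.quotient (Submodule.fg_span_singleton rel)
  have hker : ∀ p ∈ Ideal.span {rel}, MvPolynomial.aeval (R := R) x p = 0 := by
    intro p hp
    obtain ⟨q, rfl⟩ := Ideal.mem_span_singleton'.mp hp
    rw [map_mul]
    simp only [rel, map_sum, map_mul, MvPolynomial.aeval_C, MvPolynomial.aeval_X, ← Algebra.smul_def, hfx, mul_zero]
  obtain ⟨B, _, _, hB, g, h, hgh⟩ := hS A hA (Ideal.Quotient.liftₐ _ (MvPolynomial.aeval x) hker)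
  let x' : Fin l → B := fun i => g (Ideal.Quotient.mk _ (MvPolynomial.X i))
  have hx' : ∀ i, h (x' i) = x i := fun i => by
    have := DFunLike.congr_fun hgh (Ideal.Quotient.mk _ (MvPolynomial.X i))
    exact this.trans (MvPolynomial.aeval_X x i)
  have h0 : ∑ i, f i • x' i = 0 := by
    have h1 : g (Ideal.Quotient.mk _ rel) = 0 := by
      rw [Ideal.Quotient.eq_zero_iff_mem.mpr (Ideal.mem_span_singleton_self rel), map_zero]
    rw [← h1]
    simp only [rel, map_sum, map_mul, x', Algebra.smul_def]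
    refine Finset.sum_congr rfl fun i _ => ?_
    congr 1
    exact (g.commutes (f i)).symm
  obtain ⟨k, a, y, hy, ha⟩ := Module.Flat.isTrivialRelation_of_sum_smul_eq_zero (M := B) h0
  exact ⟨k, a, fun j => h (y j), fun i => by rw [← hx', hy, map_sum]; simp [map_smul], ha⟩

/-- An element of a base change lifts to any algebra where its coefficients lift. -/
theorem exists_rep {B : Type u} [CommRing B] [Algebra R B] (z : S ⊗[R] B) :
    ∃ (n : ℕ) (s : Fin n → S) (b : Fin n → B), z = ∑ i, s i ⊗ₜ b i := by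
  obtain ⟨T, rfl⟩ := TensorProduct.exists_finset z
  exact ⟨T.card, fun i => (T.equivFin.symm i).1.1, fun i => (T.equivFin.symm i).1.2,
    ((Equiv.sum_comp T.equivFin.symm fun t : T => t.1.1 ⊗ₜ[R] t.1.2).trans
      (Finset.sum_coe_sort T fun t => t.1 ⊗ₜ[R] t.2)).symm⟩

/-- If S is ind-smooth over R (every R-algebra map into S from a finitely presented R-algebra factors
through a smooth R-algebra) then for every R-algebra B the canonical map S ⊗_R A → A', from the base
change of the integral closure A of R in B to the integral closure A' of S in S ⊗_R B, is bijective. -/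
theorem result (R : Type u) [CommRing R] (S : Type u)
    [CommRing S] [Algebra R S] (hS : Smoothing.IndSmooth R S) (B : Type u) [CommRing B]
    [Algebra R B] : Function.Bijective (TensorProduct.toIntegralClosure R S B) := by
  classical
  have := flat_of_indSmooth hS
  refine ⟨TensorProduct.toIntegralClosure_injective_of_flat, ?_⟩
  rintro ⟨z, p, hpm, hpz⟩
  obtain ⟨n, s, b, rfl⟩ := exists_rep z
  -- lift the coefficients of `z` and of the equation
  let σ := Fin n ⊕ Fin p.natDegree
  obtain ⟨B1, _, _, hB1, g1, h1, hg1⟩ := hS (MvPolynomial σ R) inferInstance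
    (MvPolynomial.aeval (Sum.elim s fun k => p.coeff k))
  have hs : ∀ i, h1 (g1 (MvPolynomial.X (Sum.inl i))) = s i := fun i =>
    (DFunLike.congr_fun hg1 _).trans (MvPolynomial.aeval_X _ _)
  let z1 : B1 ⊗[R] B := ∑ i, g1 (MvPolynomial.X (Sum.inl i)) ⊗ₜ b i
  let p1 : Polynomial B1 := Polynomial.X ^ p.natDegree +
    ∑ k : Fin p.natDegree, Polynomial.C (g1 (MvPolynomial.X (Sum.inr k))) * Polynomial.X ^ (k : ℕ)
  have hp1m : p1.Monic := Polynomial.monic_X_pow_add (by
    refine (Polynomial.degree_sum_le _ _).trans_lt ((Finset.sup_lt_iff (WithBot.bot_lt_coe _)).mpr fun k _ => ?_)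
    exact (Polynomial.degree_C_mul_X_pow_le _ _).trans_lt (WithBot.coe_lt_coe.mpr k.2))
  have hp1 : p1.map h1.toRingHom = p := by
    simp only [p1, Polynomial.map_add, Polynomial.map_pow, Polynomial.map_X, Polynomial.map_sum,
      Polynomial.map_mul, Polynomial.map_C]
    conv_rhs => rw [hpm.as_sum, ← Fin.sum_univ_eq_sum_range (fun k => Polynomial.C (p.coeff k) * Polynomial.X ^ k)]
    congr 1
    refine Finset.sum_congr rfl fun k _ => ?_
    congr 2
    exact (DFunLike.congr_fun hg1 _).trans (MvPolynomial.aeval_X _ _)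
  let Φ1 : B1 ⊗[R] B →ₐ[R] S ⊗[R] B := Algebra.TensorProduct.map h1 (AlgHom.id R B)
  let w : B1 ⊗[R] B := Polynomial.eval₂ (algebraMap B1 _) z1 p1
  have hΦ1 : Φ1.toRingHom.comp (algebraMap B1 (B1 ⊗[R] B)) = (algebraMap S (S ⊗[R] B)).comp h1.toRingHom :=
    RingHom.ext fun c => by simp [Φ1, Algebra.TensorProduct.algebraMap_apply]
  have hw : Φ1 w = 0 := by
    show Φ1.toRingHom w = 0
    rw [Polynomial.hom_eval₂, hΦ1, ← Polynomial.eval₂_map, hp1]
    have : Φ1.toRingHom z1 = ∑ i, s i ⊗ₜ b i := by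
      simp [Φ1, z1, map_sum, hs]
    rw [this]; exact hpz
  obtain ⟨m, u, b', hwe⟩ := exists_rep w
  have h0 : ∑ l, b' l ⊗ₜ[R] h1 (u l) = (0 : B ⊗[R] S) := by
    have h := congrArg (TensorProduct.comm R S B) (show Φ1 w = 0 from hw)
    rw [hwe, map_sum, map_sum, map_zero] at h
    simpa [Φ1] using h
  obtain ⟨q, a, y, hy, ha⟩ := TensorProduct.vanishesTrivially_of_sum_tmul_eq_zero_of_rTensor_injective R
    (Module.Flat.rTensor_preserves_injective_linearMap _ (Submodule.subtype_injective _)) h0
  -- kill the obstruction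
  let rel : Fin m → MvPolynomial (Fin q) B1 := fun l =>
    MvPolynomial.C (u l) - ∑ j, algebraMap R (MvPolynomial (Fin q) B1) (a l j) * MvPolynomial.X j
  let A2 := MvPolynomial (Fin q) B1 ⧸ Ideal.span (Set.range rel)
  have : Algebra.FinitePresentation R B1 := hB1.finitePresentation
  have : Algebra.FinitePresentation R (MvPolynomial (Fin q) B1) := Algebra.FinitePresentation.trans R B1 _
  have hA2 : Algebra.FinitePresentation R A2 := Algebra.FinitePresentation.quotient (Submodule.fg_span (Set.finite_range rel))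
  let _ : Algebra B1 S := h1.toRingHom.toAlgebra
  have : IsScalarTower R B1 S := IsScalarTower.of_algebraMap_eq fun r => (h1.commutes r).symm
  let ev : MvPolynomial (Fin q) B1 →ₐ[R] S := (MvPolynomial.aeval (R := B1) y).restrictScalars R
  have hev : ∀ x ∈ Ideal.span (Set.range rel), ev x = 0 := by
    intro x hx
    refine (Ideal.span_le (I := RingHom.ker ev)).mpr ?_ hx
    rintro _ ⟨l, rfl⟩
    show ev (rel l) = 0
    simp only [rel, map_sub, map_sum, map_mul, AlgHom.commutes, ev, AlgHom.restrictScalars_apply,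
      MvPolynomial.aeval_C, MvPolynomial.aeval_X]
    rw [sub_eq_zero]
    refine (hy l).trans (Finset.sum_congr rfl fun j _ => ?_)
    rw [Algebra.smul_def]
  obtain ⟨B2, _, _, hB2, g2, h2, hg2⟩ := hS A2 hA2 (Ideal.Quotient.liftₐ _ ev hev)
  let ι2 : B1 →ₐ[R] B2 := g2.comp ((Ideal.Quotient.mkₐ R _).comp (IsScalarTower.toAlgHom R B1 (MvPolynomial (Fin q) B1)))
  have hι2 : h2.comp ι2 = h1 := AlgHom.ext fun c => by
    have h := DFunLike.congr_fun hg2 (Ideal.Quotient.mkₐ R _ (algebraMap B1 (MvPolynomial (Fin q) B1) c))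
    exact h.trans ((MvPolynomial.aeval (R := B1) y).commutes c)
  let y2 : Fin q → B2 := fun j => g2 (Ideal.Quotient.mk _ (MvPolynomial.X j))
  have hu2 : ∀ l, ι2 (u l) = ∑ j, a l j • y2 j := fun l => by
    have h : Ideal.Quotient.mk (Ideal.span (Set.range rel)) (rel l) = 0 :=
      Ideal.Quotient.eq_zero_iff_mem.mpr (Ideal.subset_span (Set.mem_range_self l))
    simp only [rel, map_sub, map_sum, map_mul, sub_eq_zero] at h
    show g2 (Ideal.Quotient.mk _ (MvPolynomial.C (u l))) = _
    rw [h, map_sum]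
    refine Finset.sum_congr rfl fun j _ => ?_
    rw [map_mul, Algebra.smul_def]
    congr 1
    exact g2.commutes (a l j)
  let Φ2 : B1 ⊗[R] B →ₐ[R] B2 ⊗[R] B := Algebra.TensorProduct.map ι2 (AlgHom.id R B)
  have hw2 : Φ2 w = 0 := by
    rw [hwe, map_sum]
    simp only [Φ2, Algebra.TensorProduct.map_tmul, AlgHom.id_apply, hu2, TensorProduct.sum_tmul,
      TensorProduct.smul_tmul]
    rw [Finset.sum_comm]
    exact Finset.sum_eq_zero fun j _ => by rw [← TensorProduct.tmul_sum, ha, TensorProduct.tmul_zero]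
  have hΦ2 : Φ2.toRingHom.comp (algebraMap B1 (B1 ⊗[R] B)) = (algebraMap B2 (B2 ⊗[R] B)).comp ι2.toRingHom :=
    RingHom.ext fun c => by simp [Φ2, Algebra.TensorProduct.algebraMap_apply]
  have hz2 : IsIntegral B2 (Φ2 z1) := by
    refine ⟨p1.map ι2.toRingHom, hp1m.map _, ?_⟩
    rw [Polynomial.eval₂_map, ← hΦ2]
    show Polynomial.eval₂ _ (Φ2.toRingHom z1) p1 = 0
    rw [← Polynomial.hom_eval₂]
    exact hw2
  obtain ⟨t, ht⟩ := (TensorProduct.toIntegralClosure_bijective_of_smooth (R := R) (S := B2) (B := B)).2 ⟨_, hz2⟩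
  refine ⟨Algebra.TensorProduct.map h2 (AlgHom.id R _) t, Subtype.ext ?_⟩
  have key : ∀ t : B2 ⊗[R] integralClosure R B,
      ((TensorProduct.toIntegralClosure R S B (Algebra.TensorProduct.map h2 (AlgHom.id R _) t)) : S ⊗[R] B) =
        Algebra.TensorProduct.map h2 (AlgHom.id R B) (TensorProduct.toIntegralClosure R B2 B t : B2 ⊗[R] B) := by
    intro t
    induction t with
    | zero => simp
    | add c d hc hd => simp only [map_add, AddMemClass.coe_add, hc, hd]
    | tmul c d => simp [TensorProduct.toIntegralClosure]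
  rw [key, ht]
  simp [Φ2, z1, map_sum, ← hs, ← hι2]

end Groth.Agent.S9446
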