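import Groth.Statements.S9447
import Groth.Agent.S0585
import Mathlib
-- import your own Groth.Agent.* helpers here

set_option autoImplicit false
universe u
open CAlg

namespace Groth.Agent.S9447

open TensorProduct in
/-- Formal smoothness descends along faithfully flat base change: for R → S arbitrary and R → R'
faithfully flat, the R-algebra S is formally smooth exactly when the R'-algebra R' ⊗_R S is formally
smooth. No finiteness hypothesis on S. -/
theorem result (R : Type u) [CommRing R]
    (S : Type u) [CommRing S] [Algebra R S] (R' : Type u) [CommRing R'] [Algebra R R']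
    [Module.FaithfullyFlat R R'] :
    Algebra.FormallySmooth R S ↔ Algebra.FormallySmooth R' (R' ⊗[R] S) := by
  refine ⟨fun _ => inferInstance, fun h => ?_⟩
  have e1 := Algebra.tensorH1CotangentOfFlat R S R'
  have : Subsingleton (R' ⊗[R] Algebra.H1Cotangent R S) := e1.toEquiv.subsingleton
  have h1 : Subsingleton (Algebra.H1Cotangent R S) :=
    Module.FaithfullyFlat.lTensor_reflects_triviality R R' _
  letI : Algebra S (R' ⊗[R] S) := Algebra.TensorProduct.rightAlgebra
  have hff : Module.FaithfullyFlat S (R' ⊗[R] S) :=
    Module.FaithfullyFlat.of_linearEquiv S (S ⊗[R] R')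
      (LinearEquiv.symm ((Algebra.TensorProduct.comm R S R').toAddEquiv.toLinearEquiv fun s x => by
        induction x using TensorProduct.induction_on with
        | zero => simp
        | add x y hx hy => simp [smul_add, map_add] at hx hy ⊢; rw [hx, hy]
        | tmul a b => simp [Algebra.smul_def, Algebra.TensorProduct.algebraMap_apply, Algebra.TensorProduct.right_algebraMap_apply, mul_comm]))
  have e2 := KaehlerDifferential.tensorKaehlerEquiv R R' S (R' ⊗[R] S)
  have : Module.Projective (R' ⊗[R] S) ((R' ⊗[R] S) ⊗[S] Ω[S⁄R]) := Module.Projective.of_equiv e2.symm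
  have h2 : Module.Projective S Ω[S⁄R] := S0585.result S (R' ⊗[R] S) Ω[S⁄R]
  exact ⟨h2, h1⟩

end Groth.Agent.S9447
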