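import Groth.Statements.S9448
import Mathlib
import Groth.Agent.ComodBasic.AffineHeight
import Groth.Agent.ArtinFlat.HB
import Groth.Agent.DepthLib.RegularLocal
-- import your own Groth.Agent.* helpers here

set_option autoImplicit false
universe u
open Unram

namespace Groth.Agent.S9448

theorem isMaximal_under {k P A : Type u} [Field k] [CommRing P] [Algebra k P] [CommRing A] [Algebra k A]
    [Algebra P A] [IsScalarTower k P A] [Algebra.FiniteType k A] (m : Ideal A) [m.IsMaximal] :
    (m.under P).IsMaximal := by
  letI : Field (A ⧸ m) := Ideal.Quotient.field m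
  haveI : Algebra.FiniteType k (A ⧸ m) := Algebra.FiniteType.trans (inferInstance : Algebra.FiniteType k A) inferInstance
  haveI : Module.Finite k (A ⧸ m) := finite_of_finite_type_of_isJacobsonRing k (A ⧸ m)
  haveI : Algebra.IsIntegral P (A ⧸ m) := Algebra.IsIntegral.tower_top k
  have h : ((⊥ : Ideal (A ⧸ m)).comap (algebraMap P (A ⧸ m))).IsMaximal :=
    Ideal.isMaximal_comap_of_isIntegral_of_isMaximal ⊥
  have he : (⊥ : Ideal (A ⧸ m)).comap (algebraMap P (A ⧸ m)) = m.under P := by
    rw [IsScalarTower.algebraMap_eq P A (A ⧸ m), ← Ideal.comap_comap, Ideal.Quotient.algebraMap_eq,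
      ← RingHom.ker_eq_comap_bot, Ideal.mk_ker]
  rwa [he] at h

theorem height_eq_of_etale {k : Type u} [Field k] {n : ℕ} {A : Type u} [CommRing A] [Algebra k A]
    [Algebra (MvPolynomial (Fin n) k) A] [IsScalarTower k (MvPolynomial (Fin n) k) A]
    [Algebra.Etale (MvPolynomial (Fin n) k) A] (m : Ideal A) [m.IsMaximal] :
    ringKrullDim (Localization.AtPrime m) = n := by
  haveI : Algebra.FiniteType k A := Algebra.FiniteType.trans (A := A) (S := MvPolynomial (Fin n) k) inferInstance inferInstance
  haveI : IsNoetherianRing A := Algebra.FiniteType.isNoetherianRing k A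
  haveI := isMaximal_under (k := k) (P := MvPolynomial (Fin n) k) m
  set p := m.under (MvPolynomial (Fin n) k) with hp
  haveI : m.LiesOver p := ⟨rfl⟩
  haveI : Algebra.HasGoingDown (MvPolynomial (Fin n) k) A := inferInstance
  rw [IsLocalization.AtPrime.ringKrullDim_eq_height m,
    Ideal.height_eq_height_add_of_liesOver_of_hasGoingDown p m,
    ComodBasic.height_eq_of_isMaximal_mvPolynomial k n p inferInstance]
  have hle : p.map (algebraMap _ A) ≤ m := Ideal.map_comap_le
  haveI : (m.map (Ideal.Quotient.mk (p.map (algebraMap _ A)))).IsPrime :=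
    Ideal.map_isPrime_of_surjective Ideal.Quotient.mk_surjective (by rwa [Ideal.mk_ker])
  have h0 : (m.map (Ideal.Quotient.mk (p.map (algebraMap _ A)))).height = 0 := by
    rw [Ideal.height_eq_zero_iff]
    refine ⟨⟨inferInstance, bot_le⟩, fun q ⟨hq, _⟩ hqle => ?_⟩
    set q' := q.comap (Ideal.Quotient.mk (p.map (algebraMap _ A))) with hq'
    haveI : q'.IsPrime := hq.comap _
    have hq'm : q' ≤ m := by
      refine (Ideal.comap_mono hqle).trans ?_
      rw [Ideal.comap_map_of_surjective _ Ideal.Quotient.mk_surjective, ← RingHom.ker_eq_comap_bot, Ideal.mk_ker,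
        sup_le_iff]
      exact ⟨le_rfl, hle⟩
    have hpq : p.map (algebraMap _ A) ≤ q' := fun x hx => by
      rw [hq', Ideal.mem_comap, Ideal.Quotient.eq_zero_iff_mem.2 hx]; exact q.zero_mem
    letI := Localization.AtPrime.algebraOfLiesOver p m
    have hun := ((Algebra.isUnramifiedAt_iff_map_eq (MvPolynomial (Fin n) k) p m).1 inferInstance).2
    rw [IsScalarTower.algebraMap_eq (MvPolynomial (Fin n) k) A (Localization.AtPrime m), ← Ideal.map_map] at hun
    have hmq : m ≤ q' := by
      intro x hx
      have h1 : algebraMap A (Localization.AtPrime m) x ∈ (p.map (algebraMap _ A)).map (algebraMap A (Localization.AtPrime m)) := by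
        rw [hun]
        exact (IsLocalization.AtPrime.to_map_mem_maximal_iff _ m x).2 hx
      obtain ⟨s, hs, hsx⟩ := (IsLocalization.algebraMap_mem_map_algebraMap_iff m.primeCompl _ _ _).1 h1
      exact ((inferInstance : q'.IsPrime).mem_or_mem (hpq hsx)).resolve_left fun h => hs (hq'm h)
    exact Ideal.map_le_iff_le_comap.2 hmq
  rw [h0, add_zero]
  rfl

/-- For a field k and a finite type algebra A over the polynomial ring k[x_1, …, x_n] (the variables
mapping to a_1, …, a_n), the structure map is étale if and only if (a) the local rings of A at all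
maximal ideals have dimension n and (b) da_1, …, da_n generate the module of differentials of A over
k. -/
theorem result (k : Type u) [Field k] (n : ℕ)
    (A : Type u) [CommRing A] [Algebra k A] [Algebra (MvPolynomial (Fin n) k) A]
    [IsScalarTower k (MvPolynomial (Fin n) k) A] [Algebra.FiniteType (MvPolynomial (Fin n) k) A] :
    Algebra.Etale (MvPolynomial (Fin n) k) A ↔
      (∀ (m : Ideal A) [m.IsMaximal], ringKrullDim (Localization.AtPrime m) = n) ∧
        Submodule.span A (Set.range fun i : Fin n =>
          KaehlerDifferential.D k A (algebraMap (MvPolynomial (Fin n) k) A (MvPolynomial.X i))) = ⊤ := by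
  haveI : Algebra.FiniteType k A := Algebra.FiniteType.trans (A := A) (S := MvPolynomial (Fin n) k) inferInstance inferInstance
  haveI : IsNoetherianRing A := Algebra.FiniteType.isNoetherianRing k A
  haveI : Algebra.FinitePresentation (MvPolynomial (Fin n) k) A := Algebra.FinitePresentation.of_finiteType.1 inferInstance
  set P := MvPolynomial (Fin n) k
  set d := fun i : Fin n => KaehlerDifferential.D k A (algebraMap P A (MvPolynomial.X i)) with hd
  have hrange : LinearMap.range (KaehlerDifferential.mapBaseChange k P A) = Submodule.span A (Set.range d) := by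
    refine le_antisymm ?_ (Submodule.span_le.2 ?_)
    · rintro _ ⟨z, rfl⟩
      induction z using TensorProduct.induction_on with
      | zero => simp
      | add x y hx hy => rw [map_add]; exact add_mem hx hy
      | tmul a w =>
        rw [KaehlerDifferential.mapBaseChange_tmul]
        refine Submodule.smul_mem _ _ ?_
        have hw : w ∈ Submodule.span P (Set.range fun i : Fin n => KaehlerDifferential.D k P (MvPolynomial.X i)) := by
          have := (KaehlerDifferential.mvPolynomialBasis k (Fin n)).span_eq
          rw [show ⇑(KaehlerDifferential.mvPolynomialBasis k (Fin n)) = fun i : Fin n => KaehlerDifferential.D k P (MvPolynomial.X i) from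
            funext (KaehlerDifferential.mvPolynomialBasis_apply k (Fin n))] at this
          rw [this]; trivial
        induction hw using Submodule.span_induction with
        | mem x hx =>
          obtain ⟨i, rfl⟩ := hx
          exact Submodule.subset_span ⟨i, (KaehlerDifferential.map_D k k P A _).symm⟩
        | zero => simp
        | add x y _ _ hx hy => rw [map_add]; exact add_mem hx hy
        | smul c x _ hx => rw [map_smul, ← algebraMap_smul A c]; exact Submodule.smul_mem _ _ hx
    · rintro _ ⟨i, rfl⟩
      exact ⟨1 ⊗ₜ KaehlerDifferential.D k P (MvPolynomial.X i), by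
        rw [KaehlerDifferential.mapBaseChange_tmul, one_smul, KaehlerDifferential.map_D]⟩
  have hker : Submodule.span A (Set.range d) = ⊤ ↔ Subsingleton (Ω[A⁄P]) := by
    rw [← hrange, KaehlerDifferential.range_mapBaseChange, LinearMap.ker_eq_top]
    constructor
    · intro h
      refine ⟨fun x y => ?_⟩
      obtain ⟨x, rfl⟩ := KaehlerDifferential.map_surjective k P A x
      obtain ⟨y, rfl⟩ := KaehlerDifferential.map_surjective k P A y
      rw [h]; rfl
    · intro h
      exact LinearMap.ext fun x => Subsingleton.elim _ _
  haveI : IsJacobsonRing A := isJacobsonRing_of_finiteType (A := k)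
  haveI : Algebra.Smooth k P := ⟨inferInstance, inferInstance⟩
  constructor
  · intro h
    exact ⟨fun m _ => height_eq_of_etale (k := k) (n := n) m, hker.2 inferInstance⟩
  · rintro ⟨hdim, hspan⟩
    haveI hun : Algebra.FormallyUnramified P A := ⟨hker.1 hspan⟩
    haveI : Algebra.Unramified P A := ⟨hun, inferInstance⟩
    rw [← Algebra.etaleLocus_eq_univ_iff_etale]
    refine Set.eq_univ_of_forall fun q => ?_
    obtain ⟨m, hm, hqm⟩ := q.asIdeal.exists_le_maximal q.2.ne_top
    haveI := hm
    refine Algebra.isOpen_etaleLocus.stableUnderGeneralization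
      ((PrimeSpectrum.le_iff_specializes q ⟨m, hm.isPrime⟩).1 hqm) ?_
    obtain ⟨f, hfm, Q, φ, hφ⟩ := Algebra.IsUnramifiedAt.exists_hasStandardEtaleSurjectionOn (R := P) m
    let mf := m.map (algebraMap A (Localization.Away f))
    have hdisj : Disjoint (Submonoid.powers f : Set A) (m : Set A) :=
      (Ideal.disjoint_powers_iff_notMem f (Ideal.IsPrime.isRadical inferInstance)).2 hfm
    haveI : mf.IsPrime := IsLocalization.isPrime_of_isPrime_disjoint (Submonoid.powers f) _ m inferInstance hdisj
    have hcomap : mf.comap (algebraMap A (Localization.Away f)) = m :=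
      IsLocalization.comap_map_of_isPrime_disjoint (Submonoid.powers f) _ inferInstance hdisj
    haveI hmfmax : mf.IsMaximal :=
      (IsLocalization.isMaximal_iff_isMaximal_disjoint (Localization.Away f) f mf).2 ⟨by
        rw [Ideal.under_def, hcomap]; exact hm, by rw [Ideal.under_def, hcomap]; exact hfm⟩
    let T := Localization.AtPrime mf
    haveI hT : IsLocalization.AtPrime T m := by
      have := IsLocalization.isLocalization_isLocalization_atPrime_isLocalization (Submonoid.powers f) T mf
      simpa only [hcomap] using this
    let e : Localization.AtPrime m ≃ₐ[A] T := IsLocalization.algEquiv m.primeCompl _ _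
    haveI : IsScalarTower P A T := IsScalarTower.of_algebraMap_eq fun x => by
      rw [IsScalarTower.algebraMap_apply P (Localization.Away f) T, IsScalarTower.algebraMap_apply P A (Localization.Away f),
        ← IsScalarTower.algebraMap_apply A (Localization.Away f) T]
    let e' : Localization.AtPrime m ≃ₐ[P] T := e.restrictScalars P
    letI : Algebra k Q.Ring := ((algebraMap P Q.Ring).comp (algebraMap k P)).toAlgebra
    haveI : IsScalarTower k P Q.Ring := IsScalarTower.of_algebraMap_eq fun _ => rfl
    haveI : Algebra.Smooth k Q.Ring := Algebra.Smooth.comp k P Q.Ring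
    haveI := ArtinFlat.HB.isRegularRing_of_smooth k Q.Ring
    let mt := mf.comap φ.toRingHom
    haveI : mt.IsMaximal := Ideal.comap_isMaximal_of_surjective _ hφ
    haveI : IsRegularLocalRing (Localization.AtPrime mt) := IsRegularRing.isRegularLocalRing_localization mt
    haveI := DepthLib.isDomain_of_isRegularLocalRing (Localization.AtPrime mt)
    let g : Localization.AtPrime mt →+* T := Localization.localRingHom mt mf φ.toRingHom rfl
    have hg : Function.Surjective g := RingHom.surjective_localRingHom_of_surjective φ.toRingHom hφ mf
    have hinj : Function.Injective g := by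
      by_contra hninj
      obtain ⟨x, hx, hx0⟩ : ∃ x, g x = 0 ∧ x ≠ 0 := by
        rw [injective_iff_map_eq_zero] at hninj
        push Not at hninj
        exact hninj
      have h1 := ringKrullDim_quotient_succ_le_of_nonZeroDivisor (mem_nonZeroDivisors_of_ne_zero hx0)
      let g' : (Localization.AtPrime mt ⧸ Ideal.span {x}) →+* T := Ideal.Quotient.lift _ g (by
        intro a ha
        obtain ⟨c, rfl⟩ := Ideal.mem_span_singleton.1 ha
        rw [map_mul, hx, zero_mul])
      have h2 := ringKrullDim_le_of_surjective g' (Ideal.Quotient.lift_surjective_of_surjective _ _ hg)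
      rw [← ringKrullDim_eq_of_ringEquiv e'.toRingEquiv, hdim m] at h2
      rw [height_eq_of_etale (k := k) (n := n) (A := Q.Ring) mt] at h1
      have h3 : ((n : ℕ) : WithBot ℕ∞) + 1 ≤ (n : ℕ) := (add_le_add_left h2 1).trans h1
      norm_cast at h3
      omega
    let gP : Localization.AtPrime mt →ₐ[P] T :=
      { g with
        commutes' := fun c => by
          show g (algebraMap P (Localization.AtPrime mt) c) = _
          rw [IsScalarTower.algebraMap_apply P Q.Ring (Localization.AtPrime mt),
            show g (algebraMap Q.Ring _ (algebraMap P Q.Ring c)) = algebraMap _ T (φ (algebraMap P Q.Ring c)) from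
              Localization.localRingHom_to_map _ _ _ _ _, φ.commutes, ← IsScalarTower.algebraMap_apply] }
    haveI : Algebra.FormallyEtale P (Localization.AtPrime mt) := inferInstance
    exact Algebra.FormallyEtale.of_equiv ((AlgEquiv.ofBijective gP ⟨hinj, hg⟩).trans e'.symm)

end Groth.Agent.S9448
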