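import Groth.Statements.S9449
import Groth.Agent.UnramLib.Decomp
-- import your own Groth.Agent.* helpers here

set_option autoImplicit false
universe u
open Unram

namespace Groth.Agent.S9449

open TensorProduct in
/-- For an unramified ring map R → S and a prime p of R there exist an étale R-algebra R', a prime p' of
R' lying over p and a decomposition R' ⊗_R S ≅ A_1 × ⋯ × A_n × B of R'-algebras with every R' → A_i
surjective, p'A_i a prime ideal of A_i whose preimage in R' is p', and no prime of B lying over p'. -/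
theorem result (R : Type u) [CommRing R]
    (S : Type u) [CommRing S] [Algebra R S] [Algebra.Unramified R S] (p : Ideal R) [p.IsPrime] :
    ∃ (R' : Type u) (_ : CommRing R') (_ : Algebra R R') (_ : Algebra.Etale R R') (p' : Ideal R')
      (_ : p'.IsPrime) (_ : p'.LiesOver p) (n : ℕ) (A : Fin n → Type u) (_ : ∀ i, CommRing (A i))
      (_ : ∀ i, Algebra R' (A i)) (B : Type u) (_ : CommRing B) (_ : Algebra R' B),
      Nonempty ((R' ⊗[R] S) ≃ₐ[R'] ((∀ i, A i) × B)) ∧
        (∀ i, Function.Surjective (algebraMap R' (A i)) ∧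
          (p'.map (algebraMap R' (A i))).IsPrime ∧
          (p'.map (algebraMap R' (A i))).comap (algebraMap R' (A i)) = p') ∧
        ∀ (q : Ideal B) [q.IsPrime], q.comap (algebraMap R' B) ≠ p' := by
  classical
  haveI : (p.primesOver S).Finite := Algebra.QuasiFinite.finite_primesOver p
  haveI := this.to_subtype
  obtain ⟨m, ⟨v⟩⟩ := Finite.exists_equiv_fin (p.primesOver S)
  let x : Fin m → PrimeSpectrum S := fun i => ⟨(v.symm i).1, (v.symm i).2.1⟩
  obtain ⟨R', _, _, hR', p', hp', hpp, K, _, e, he, hk, hnone⟩ :=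
    Groth.Agent.UnramLib.exists_idempotents R S p x
      (fun i j h => v.symm.injective (Subtype.ext (congrArg PrimeSpectrum.asIdeal h)))
      (fun i => (v.symm i).2.2.over.symm)
      (fun i => ⟨1, (x i).isPrime.one_notMem, Algebra.FormallyUnramified.comp R S _⟩)
  let w := (Fintype.equivFin K).symm
  refine ⟨R', inferInstance, inferInstance, hR', p', hp', hpp, Fintype.card K,
    fun i => (R' ⊗[R] S) ⧸ Ideal.span {1 - e (some (w i))}, inferInstance, inferInstance,
    (R' ⊗[R] S) ⧸ Ideal.span {1 - e none}, inferInstance, inferInstance,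
    Groth.Agent.UnramLib.exists_algEquiv_prod w e he, fun i => hk (w i), ?_⟩
  intro q hq hqp
  let Q : Ideal (R' ⊗[R] S) := q.comap (Ideal.Quotient.mk _)
  have hQp : Q.comap (algebraMap R' (R' ⊗[R] S)) = p' := by
    rw [← hqp, Ideal.comap_comap]; rfl
  let Q' : Ideal S :=
    Q.comap (Algebra.TensorProduct.includeRight : S →ₐ[R] R' ⊗[R] S).toRingHom
  have hQ' : Q' ∈ p.primesOver S := by
    refine ⟨inferInstance, ⟨?_⟩⟩
    ext r
    rw [hpp.over, Ideal.under, Ideal.under, Ideal.mem_comap, Ideal.mem_comap, ← hQp, Ideal.mem_comap,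
      ← IsScalarTower.algebraMap_apply R R' (R' ⊗[R] S) r,
      ← (Algebra.TensorProduct.includeRight : S →ₐ[R] R' ⊗[R] S).commutes r]
    rfl
  refine hnone Q (v ⟨Q', hQ'⟩) inferInstance ?_ hQp ?_
  · intro h
    have h2 : 1 - e none ∈ Q := by
      show Ideal.Quotient.mk (Ideal.span {1 - e none}) (1 - e none) ∈ q
      rw [Ideal.Quotient.eq_zero_iff_mem.2 (Ideal.mem_span_singleton_self _)]
      exact zero_mem _
    exact (inferInstance : Q.IsPrime).one_notMem (sub_add_cancel 1 (e none) ▸ add_mem h2 h)
  · show Q' = (v.symm (v ⟨Q', hQ'⟩)).1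
    rw [v.symm_apply_apply]

end Groth.Agent.S9449
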