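import Groth.Statements.S9450
import Mathlib
-- import your own Groth.Agent.* helpers here

set_option autoImplicit false
universe u
open CAlg

namespace Groth.Agent.S9450

open scoped TensorProduct

/-- For ring maps A → B → C with A → C surjective and A → B formally smooth, writing I = ker(A → C) and
J = ker(B → C), the sequence 0 → I/I² → J/J² → C ⊗_B Ω_{B/A} → 0 is split exact: the first map is
injective and admits an A-linear retraction, its range is the kernel of the second map (class of x ↦
1 ⊗ dx), and the second map is surjective. -/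
theorem result (A : Type u) [CommRing A]
    (B : Type u) [CommRing B] [Algebra A B] [Algebra.FormallySmooth A B] (C : Type u) [CommRing C]
    [Algebra B C] [Algebra A C] [IsScalarTower A B C] (hC : Function.Surjective (algebraMap A C)) :
    Function.Injective (Ideal.mapCotangent (RingHom.ker (algebraMap A C))
        (RingHom.ker (algebraMap B C)) (Algebra.ofId A B)
        (le_of_eq (congrArg RingHom.ker (IsScalarTower.algebraMap_eq A B C)))) ∧
      (∃ r : (RingHom.ker (algebraMap B C)).Cotangent →ₗ[A] (RingHom.ker (algebraMap A C)).Cotangent,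
        r ∘ₗ (Ideal.mapCotangent (RingHom.ker (algebraMap A C)) (RingHom.ker (algebraMap B C))
          (Algebra.ofId A B)
          (le_of_eq (congrArg RingHom.ker (IsScalarTower.algebraMap_eq A B C)))) = LinearMap.id) ∧
      LinearMap.range (Ideal.mapCotangent (RingHom.ker (algebraMap A C))
          (RingHom.ker (algebraMap B C)) (Algebra.ofId A B)
          (le_of_eq (congrArg RingHom.ker (IsScalarTower.algebraMap_eq A B C)))) =
        LinearMap.ker ((KaehlerDifferential.kerCotangentToTensor A B C).restrictScalars A) ∧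
      Function.Surjective (KaehlerDifferential.kerCotangentToTensor A B C) := by
  classical
  set I := RingHom.ker (algebraMap A C) with hI
  set J := RingHom.ker (algebraMap B C) with hJ
  have hle : I ≤ J.comap (Algebra.ofId A B) := le_of_eq (congrArg RingHom.ker (IsScalarTower.algebraMap_eq A B C))
  change Function.Injective (Ideal.mapCotangent I J (Algebra.ofId A B) hle) ∧
      (∃ r : J.Cotangent →ₗ[A] I.Cotangent, r ∘ₗ Ideal.mapCotangent I J (Algebra.ofId A B) hle = LinearMap.id) ∧
      LinearMap.range (Ideal.mapCotangent I J (Algebra.ofId A B) hle) = _ ∧ _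
  set ι := Ideal.mapCotangent I J (Algebra.ofId A B) hle with hιdef
  have hBC : Function.Surjective (algebraMap B C) := fun c => by
    obtain ⟨a, ha⟩ := hC c
    exact ⟨algebraMap A B a, by rw [← IsScalarTower.algebraMap_apply, ha]⟩
  choose sec hsec using fun b : B => hC (algebraMap B C b)
  have hmem : ∀ b, b - algebraMap A B (sec b) ∈ J := fun b => by
    rw [hJ, RingHom.mem_ker, map_sub, ← IsScalarTower.algebraMap_apply, hsec, sub_self]
  -- retraction
  have hnil : IsNilpotent I.cotangentIdeal := ⟨2, I.cotangentIdeal_square⟩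
  let π₀ : (A ⧸ I ^ 2) →ₐ[A] C := Ideal.Quotient.liftₐ (I ^ 2) (Algebra.ofId A C) (fun a ha => Ideal.pow_le_self two_ne_zero ha)
  have hπ₀ : Function.Surjective π₀ := fun c => by
    obtain ⟨a, ha⟩ := hC c
    exact ⟨Ideal.Quotient.mk _ a, ha⟩
  have hker : RingHom.ker (π₀ : (A ⧸ I ^ 2) →+* C) = I.cotangentIdeal := by
    ext x
    obtain ⟨a, rfl⟩ := Ideal.Quotient.mk_surjective x
    rw [RingHom.mem_ker]
    constructor
    · exact fun h => ⟨a, h, rfl⟩
    · rintro ⟨b, hb, hba⟩
      exact (congrArg π₀ hba).symm.trans hb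
  let τ : B →ₐ[A] A ⧸ I ^ 2 := Algebra.FormallySmooth.liftOfSurjective (IsScalarTower.toAlgHom A B C) π₀ hπ₀ (hker ▸ hnil)
  have hτ : ∀ b, π₀ (τ b) = algebraMap B C b := fun b => by
    have := Algebra.FormallySmooth.liftOfSurjective_apply (IsScalarTower.toAlgHom A B C) π₀ hπ₀ (hker ▸ hnil) b
    exact this
  have hτJ : ∀ j : J, τ j ∈ I.cotangentIdeal := fun j => by
    rw [← hker, RingHom.mem_ker]
    exact (hτ j).trans j.2
  let r₀ : J →ₗ[A] I.Cotangent :=
    I.cotangentEquivIdeal.symm.toLinearMap ∘ₗ
      ((τ.toLinearMap ∘ₗ (J.subtype.restrictScalars A)).codRestrict (I.cotangentIdeal.restrictScalars A) hτJ)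
  have hr₀ : ∀ j : J, (I.cotangentEquivIdeal (r₀ j) : A ⧸ I ^ 2) = τ j := fun j => by
    show (I.cotangentEquivIdeal (I.cotangentEquivIdeal.symm _) : A ⧸ I ^ 2) = _
    rw [LinearEquiv.apply_symm_apply]; rfl
  have hkill : (J • (⊤ : Submodule B J)).restrictScalars A ≤ LinearMap.ker r₀ := by
    intro x hx
    rw [Submodule.restrictScalars_mem] at hx
    refine Submodule.smul_induction_on hx (fun a ha y _ => ?_) (fun u v hu hv => add_mem hu hv)
    rw [LinearMap.mem_ker]
    apply I.cotangentEquivIdeal.injective
    apply Subtype.ext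
    rw [hr₀, map_zero]
    show τ (a * y) = 0
    rw [map_mul]
    have hsq : τ a * τ y ∈ I.cotangentIdeal ^ 2 := (pow_two I.cotangentIdeal).ge (Ideal.mul_mem_mul (hτJ ⟨a, ha⟩) (hτJ y))
    rwa [I.cotangentIdeal_square, Submodule.mem_bot] at hsq
  let r : J.Cotangent →ₗ[A] I.Cotangent :=
    (((J • (⊤ : Submodule B J)).restrictScalars A).liftQ r₀ hkill) ∘ₗ
      (Submodule.Quotient.restrictScalarsEquiv A (J • (⊤ : Submodule B J))).symm.toLinearMap
  have hr : ∀ j : J, r (J.toCotangent j) = r₀ j := fun j => rfl
  have hret : r ∘ₗ ι = LinearMap.id := by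
    refine LinearMap.ext fun x => ?_
    obtain ⟨i, rfl⟩ := I.toCotangent_surjective x
    rw [LinearMap.comp_apply, hιdef, Ideal.mapCotangent_toCotangent, hr, LinearMap.id_apply]
    apply I.cotangentEquivIdeal.injective
    apply Subtype.ext
    rw [hr₀]
    show τ (algebraMap A B i) = _
    rw [AlgHom.commutes]
    rfl
  refine ⟨Function.LeftInverse.injective (g := r) (fun x => LinearMap.congr_fun hret x), ⟨r, hret⟩, ?_, ?_⟩
  · apply le_antisymm
    · rintro _ ⟨x, rfl⟩
      obtain ⟨i, rfl⟩ := I.toCotangent_surjective x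
      rw [LinearMap.mem_ker, hιdef, Ideal.mapCotangent_toCotangent, LinearMap.restrictScalars_apply, KaehlerDifferential.kerCotangentToTensor_toCotangent]
      show (1 : C) ⊗ₜ[B] KaehlerDifferential.D A B (algebraMap A B i) = 0
      rw [Derivation.map_algebraMap, TensorProduct.tmul_zero]
    · have hJx : ∀ j ∈ J, ∀ x : J.Cotangent, j • x = 0 := fun j hj x => by
        obtain ⟨y, rfl⟩ := J.toCotangent_surjective x
        rw [← map_smul, Ideal.toCotangent_eq_zero]
        show j * (y : B) ∈ J ^ 2
        rw [pow_two]; exact Ideal.mul_mem_mul hj y.2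
      have hAB : ∀ (b : B) (x : J.Cotangent), b • x = sec b • x := fun b x => by
        rw [← sub_eq_zero, ← algebraMap_smul B (sec b) x, ← sub_smul, hJx _ (hmem b)]
      let P : Submodule B J.Cotangent :=
        { carrier := LinearMap.range ι
          add_mem' := fun a b => add_mem a b
          zero_mem' := zero_mem _
          smul_mem' := fun b x hx => by
            rw [SetLike.mem_coe] at hx ⊢
            rw [hAB]; exact Submodule.smul_mem _ _ hx }
      let d₀ : B → J.Cotangent ⧸ P := fun b => P.mkQ (J.toCotangent ⟨b - algebraMap A B (sec b), hmem b⟩)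
      have hd : ∀ (b : B) (a : A) (ha : algebraMap A C a = algebraMap B C b),
          d₀ b = P.mkQ (J.toCotangent ⟨b - algebraMap A B a, by
            rw [hJ, RingHom.mem_ker, map_sub, ← IsScalarTower.algebraMap_apply, ha, sub_self]⟩) := by
        intro b a ha
        have hda : a - sec b ∈ I := by rw [hI, RingHom.mem_ker, map_sub, ha, hsec, sub_self]
        rw [← sub_eq_zero, ← map_sub, ← map_sub, Submodule.mkQ_apply, Submodule.Quotient.mk_eq_zero]
        refine ⟨I.toCotangent ⟨_, hda⟩, ?_⟩
        rw [hιdef, Ideal.mapCotangent_toCotangent]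
        exact congrArg J.toCotangent (Subtype.ext (by simp))
      have hadd : ∀ b c, d₀ (b + c) = d₀ b + d₀ c := fun b c => by
        rw [hd (b + c) (sec b + sec c) (by rw [map_add, map_add, hsec, hsec])]
        show _ = P.mkQ (J.toCotangent ⟨_, hmem b⟩) + P.mkQ (J.toCotangent ⟨_, hmem c⟩)
        rw [← (P.mkQ).map_add, ← (J.toCotangent).map_add]
        exact congrArg (fun z => P.mkQ (J.toCotangent z)) (Subtype.ext (by simp; ring))
      have hsmul : ∀ (a : A) b, d₀ (a • b) = a • d₀ b := fun a b => by
        rw [hd (a • b) (a * sec b) (by rw [map_mul, Algebra.smul_def, map_mul, hsec, ← IsScalarTower.algebraMap_apply]),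
          ← algebraMap_smul B a (d₀ b), ← map_smul, ← map_smul]
        exact congrArg (fun z => P.mkQ (J.toCotangent z)) (Subtype.ext (by simp [Algebra.smul_def, mul_sub]))
      have hmul : ∀ b c, d₀ (b * c) = b • d₀ c + c • d₀ b := fun b c => by
        have hcs : c • d₀ b = algebraMap A B (sec c) • d₀ b := by
          show c • P.mkQ (J.toCotangent ⟨_, hmem b⟩) = algebraMap A B (sec c) • P.mkQ (J.toCotangent ⟨_, hmem b⟩)
          rw [← map_smul P.mkQ, ← map_smul P.mkQ, hAB, algebraMap_smul]
        rw [hd (b * c) (sec b * sec c) (by rw [map_mul, map_mul, hsec, hsec]), hcs]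
        show _ = b • P.mkQ (J.toCotangent ⟨_, hmem c⟩) + algebraMap A B (sec c) • P.mkQ (J.toCotangent ⟨_, hmem b⟩)
        rw [← map_smul P.mkQ, ← map_smul P.mkQ, ← map_smul J.toCotangent, ← map_smul J.toCotangent, ← (P.mkQ).map_add, ← (J.toCotangent).map_add]
        exact congrArg (fun z => P.mkQ (J.toCotangent z)) (Subtype.ext (by simp [Algebra.smul_def]; ring))
      let Dd : Derivation A B (J.Cotangent ⧸ P) := Derivation.mk'
        { toFun := d₀, map_add' := hadd, map_smul' := hsmul } (fun b c => hmul b c)
      let L : Ω[B⁄A] →ₗ[B] (J.Cotangent ⧸ P) := Dd.liftKaehlerDifferential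
      let eC : C ≃ₗ[B] B ⧸ J := (Ideal.quotientKerAlgEquivOfSurjective (f := Algebra.ofId B C) hBC).symm.toLinearEquiv
      let act : (B ⧸ J) →ₗ[B] Module.End B (J.Cotangent ⧸ P) :=
        Submodule.liftQ J (LinearMap.lsmul B (J.Cotangent ⧸ P)) (fun j hj => by
          refine LinearMap.ext fun q => ?_
          obtain ⟨x, rfl⟩ := P.mkQ_surjective q
          show j • P.mkQ x = 0
          rw [← map_smul, hJx j hj x, map_zero])
      let Θ : C ⊗[B] Ω[B⁄A] →ₗ[B] (J.Cotangent ⧸ P) := TensorProduct.lift ((act ∘ₗ eC.toLinearMap).compl₂ L)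
      have hΘ : ∀ b, Θ (1 ⊗ₜ KaehlerDifferential.D A B b) = d₀ b := fun b => by
        show act (eC 1) (L (KaehlerDifferential.D A B b)) = d₀ b
        have h1 : eC 1 = Submodule.Quotient.mk 1 := by
          show (Ideal.quotientKerAlgEquivOfSurjective (f := Algebra.ofId B C) hBC).symm 1 = _
          rw [map_one]; rfl
        rw [h1, Derivation.liftKaehlerDifferential_comp_D]
        show (1 : B) • d₀ b = d₀ b
        rw [one_smul]
      intro x hx
      rw [LinearMap.mem_ker, LinearMap.restrictScalars_apply] at hx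
      obtain ⟨j, rfl⟩ := J.toCotangent_surjective x
      rw [KaehlerDifferential.kerCotangentToTensor_toCotangent] at hx
      have := congrArg Θ hx
      rw [hΘ, map_zero, hd j 0 (by rw [map_zero]; exact (RingHom.mem_ker.1 j.2).symm), Submodule.mkQ_apply, Submodule.Quotient.mk_eq_zero] at this
      have e0 : (⟨(j : B) - algebraMap A B 0, by simp⟩ : J) = j := Subtype.ext (by simp)
      rw [e0] at this
      exact this
  · intro z
    induction z with
    | zero => exact ⟨0, map_zero _⟩
    | add a b ha hb =>
      obtain ⟨x, rfl⟩ := ha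
      obtain ⟨y, rfl⟩ := hb
      exact ⟨x + y, map_add _ _ _⟩
    | tmul c ω =>
      obtain ⟨c, rfl⟩ := hBC c
      have key : ∀ ω' : Ω[B⁄A], ∃ x, KaehlerDifferential.kerCotangentToTensor A B C x = (1 : C) ⊗ₜ[B] ω' := by
        intro ω'
        have hω : ω' ∈ Submodule.span B (Set.range (KaehlerDifferential.D A B)) := by
          rw [KaehlerDifferential.span_range_derivation]; exact Submodule.mem_top
        induction hω using Submodule.span_induction with
        | mem y hy =>
          obtain ⟨b, rfl⟩ := hy
          refine ⟨J.toCotangent ⟨b - algebraMap A B (sec b), hmem b⟩, ?_⟩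
          rw [KaehlerDifferential.kerCotangentToTensor_toCotangent]
          show (1 : C) ⊗ₜ[B] KaehlerDifferential.D A B (b - algebraMap A B (sec b)) = _
          rw [map_sub, Derivation.map_algebraMap, sub_zero]
        | zero => exact ⟨0, by rw [map_zero, TensorProduct.tmul_zero]⟩
        | add y y' _ _ h h' =>
          obtain ⟨x, hx⟩ := h
          obtain ⟨x', hx'⟩ := h'
          exact ⟨x + x', by rw [map_add, hx, hx', TensorProduct.tmul_add]⟩
        | smul b y _ h =>
          obtain ⟨x, hx⟩ := h
          exact ⟨b • x, by rw [map_smul, hx, TensorProduct.tmul_smul]⟩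
      obtain ⟨x, hx⟩ := key ω
      refine ⟨c • x, ?_⟩
      rw [map_smul, hx, TensorProduct.smul_tmul', ← Algebra.algebraMap_eq_smul_one]

end Groth.Agent.S9450
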