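import Groth.Statements.S9452
import Groth.Agent.UnramLib.Decomp
-- import your own Groth.Agent.* helpers here

set_option autoImplicit false
universe u
open Unram

namespace Groth.Agent.S9452

open TensorProduct in
/-- Let R → S be of finite type and unramified at a prime q lying over p. Then there are an étale
R-algebra R', a prime p' of R' over p and an R'-algebra isomorphism e : R' ⊗_R S ≅ A × B with R' → A
surjective and p'A a prime ideal of A lying over p' whose pull-back along S → R' ⊗_R S ≅ A × B → A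
is q. -/
theorem result (R : Type u) [CommRing R]
    (S : Type u) [CommRing S] [Algebra R S] [Algebra.FiniteType R S] (q : Ideal S) [q.IsPrime]
    [Algebra.IsUnramifiedAt R q] :
    ∃ (R' : Type u) (_ : CommRing R') (_ : Algebra R R') (_ : Algebra.Etale R R') (p' : Ideal R')
      (_ : p'.IsPrime) (_ : p'.LiesOver (q.under R)) (A : Type u) (_ : CommRing A) (_ : Algebra R' A)
      (B : Type u) (_ : CommRing B) (_ : Algebra R' B) (e : (R' ⊗[R] S) ≃ₐ[R'] (A × B)),
      Function.Surjective (algebraMap R' A) ∧ (p'.map (algebraMap R' A)).IsPrime ∧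
        (p'.map (algebraMap R' A)).comap (algebraMap R' A) = p' ∧
        (p'.map (algebraMap R' A)).comap (((RingHom.fst A B).comp e.toRingHom).comp
          (Algebra.TensorProduct.includeRight : S →ₐ[R] R' ⊗[R] S).toRingHom) = q := by
  classical
  obtain ⟨g, hg, hgu⟩ := Algebra.exists_formallyUnramified_of_isUnramifiedAt (R := R) q
  obtain ⟨R', _, _, hR', p', hp', hpp, K, _, e, he, hk, hnone⟩ :=
    Groth.Agent.UnramLib.exists_idempotents R S (q.under R) (ι := Unit) (fun _ => ⟨q, inferInstance⟩)
      (fun _ _ _ => rfl) (fun _ => rfl) (fun _ => ⟨g, hg, hgu⟩)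
  obtain ⟨Q, hQ, hQp, hQq⟩ := Groth.Agent.UnramLib.exists_prime_tensor R R' S ⟨p', hp'⟩
    ⟨q, inferInstance⟩ hpp.over.symm
  obtain ⟨o, ho⟩ : ∃ o, e o ∉ Q := by
    by_contra hc
    push Not at hc
    exact hQ.one_notMem (he.complete ▸ Q.sum_mem fun o _ => hc o)
  rcases o with _ | k
  · exact absurd hQq (hnone Q () hQ ho hQp)
  let E := AlgEquiv.prodQuotientOfIsIdempotentElem R' (he.idem (some k)).one_sub (he.idem (some k))
    (sub_add_cancel 1 _) (by rw [sub_mul, one_mul, (he.idem (some k)).eq, sub_self])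
  obtain ⟨h1, h2, h3⟩ := hk k
  refine ⟨R', inferInstance, inferInstance, hR', p', hp', hpp,
    (R' ⊗[R] S) ⧸ Ideal.span {1 - e (some k)}, inferInstance, inferInstance,
    (R' ⊗[R] S) ⧸ Ideal.span {e (some k)}, inferInstance, inferInstance, E, h1, h2, h3, ?_⟩
  have hle : Ideal.span {1 - e (some k)} ≤ Q := by
    rw [Ideal.span_le, Set.singleton_subset_iff]
    refine (hQ.mem_or_mem ?_).resolve_left ho
    rw [mul_sub, mul_one, (he.idem (some k)).eq, sub_self]
    exact zero_mem _
  have h4 : (p'.map (algebraMap R' ((R' ⊗[R] S) ⧸ Ideal.span {1 - e (some k)}))).comap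
      (Ideal.Quotient.mk (Ideal.span {1 - e (some k)})) = Q := by
    have h5 : p'.map (algebraMap R' ((R' ⊗[R] S) ⧸ Ideal.span {1 - e (some k)})) =
        Q.map (Ideal.Quotient.mk (Ideal.span {1 - e (some k)})) := by
      rw [← Ideal.map_comap_of_surjective _ h1 (Q.map (Ideal.Quotient.mk _))]
      congr 1
      rw [IsScalarTower.algebraMap_eq R' (R' ⊗[R] S) _, Ideal.Quotient.algebraMap_eq,
        ← Ideal.comap_comap, Ideal.comap_map_of_surjective _ Ideal.Quotient.mk_surjective,
        ← RingHom.ker_eq_comap_bot, Ideal.mk_ker, sup_eq_left.2 hle]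
      exact hQp.symm
    rw [h5, Ideal.comap_map_of_surjective _ Ideal.Quotient.mk_surjective,
      ← RingHom.ker_eq_comap_bot, Ideal.mk_ker, sup_eq_left.2 hle]
  rw [show ((RingHom.fst _ _).comp E.toRingHom).comp
      (Algebra.TensorProduct.includeRight : S →ₐ[R] R' ⊗[R] S).toRingHom =
      (Ideal.Quotient.mk (Ideal.span {1 - e (some k)})).comp
        (Algebra.TensorProduct.includeRight : S →ₐ[R] R' ⊗[R] S).toRingHom from rfl,
    ← Ideal.comap_comap, h4]
  exact hQq

end Groth.Agent.S9452
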