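import Groth.Statements.S9454
import Mathlib
import Groth.Agent.EtCover.Basic
-- import your own Groth.Agent.* helpers here

set_option autoImplicit false
universe u
open CAlg

namespace Groth.Agent.S9454

/-- For an étale ring map R → S which is surjective on spectra there is a finite, finitely presented,
flat R-algebra S' with Spec S' → Spec R surjective such that, Zariski locally on S', the structure
map factors through S: every prime q' of S' has some g' ∉ q' and an R-algebra map S → S'_{g'}. -/
theorem result (R : Type u) [CommRing R]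
    (S : Type u) [CommRing S] [Algebra R S] [Algebra.Etale R S]
    (hs : Function.Surjective (PrimeSpectrum.comap (algebraMap R S))) :
    ∃ (S' : Type u) (_ : CommRing S') (_ : Algebra R S'),
      Module.Finite R S' ∧ Algebra.FinitePresentation R S' ∧ Module.Flat R S' ∧
        Function.Surjective (PrimeSpectrum.comap (algebraMap R S')) ∧
        ∀ (q' : Ideal S') [q'.IsPrime], ∃ (g' : S') (_ : g' ∉ q'),
          Nonempty (S →ₐ[R] Localization.Away g') := by
  classical
  rcases subsingleton_or_nontrivial R with hR | hR
  · exact ⟨R, inferInstance, inferInstance, inferInstance, inferInstance, inferInstance,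
      fun p => absurd (Subsingleton.elim _ _) p.2.ne_top,
      fun q' hq' => absurd (Subsingleton.elim _ _) hq'.ne_top⟩
  have hloc : ∀ p : PrimeSpectrum R, ∃ (q : PrimeSpectrum S) (f : S),
      PrimeSpectrum.comap (algebraMap R S) q = p ∧ f ∉ q.asIdeal ∧
        Algebra.IsStandardEtale R (Localization.Away f) := by
    intro p
    obtain ⟨q, hq⟩ := hs p
    haveI : Algebra.IsEtaleAt R q.asIdeal := inferInstance
    obtain ⟨f, hf, hf'⟩ := Algebra.IsEtaleAt.exists_isStandardEtale (R := R) q.asIdeal
    exact ⟨q, f, hq, hf, hf'⟩
  choose q f hq hf hstd using hloc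
  have P : ∀ p, StandardEtalePresentation R (Localization.Away (f p)) := fun p =>
    (hstd p).nonempty_standardEtalePresentation.some
  let U : PrimeSpectrum R → Set (PrimeSpectrum R) := fun p =>
    PrimeSpectrum.comap (algebraMap R S) '' (PrimeSpectrum.basicOpen (f p) : Set (PrimeSpectrum S))
  have hUo : ∀ p, IsOpen (U p) := fun p =>
    PrimeSpectrum.isOpenMap_comap_of_hasGoingDown_of_finitePresentation _ (PrimeSpectrum.basicOpen (f p)).2
  obtain ⟨t, ht⟩ := isCompact_univ.elim_finite_subcover U hUo
    (fun p _ => Set.mem_iUnion.2 ⟨p, q p, hf p, hq p⟩)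
  obtain ⟨S', _, _, _, _, _, hS⟩ := EtCover.exists_split_all (t.toList.map fun p => (P p).f) (by
    intro g hg
    obtain ⟨p, _, rfl⟩ := List.mem_map.1 hg
    exact (P p).monic_f)
  haveI : Module.FinitePresentation R S' := Module.finitePresentation_of_projective R S'
  refine ⟨S', inferInstance, inferInstance, inferInstance, inferInstance, inferInstance,
    EtCover.comap_surjective, fun q' _ => ?_⟩
  obtain ⟨p, hp, Q, hQf, hQ⟩ := Set.mem_iUnion₂.1 (ht (Set.mem_univ ⟨q'.under R, inferInstance⟩))
  let qf := Q.asIdeal.map (algebraMap S (Localization.Away (f p)))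
  have hdisj : Disjoint (Submonoid.powers (f p) : Set S) (Q.asIdeal : Set S) :=
    (Ideal.disjoint_powers_iff_notMem (f p) (Ideal.IsPrime.isRadical inferInstance)).2 hQf
  haveI : qf.IsPrime :=
    IsLocalization.isPrime_of_isPrime_disjoint (Submonoid.powers (f p)) _ Q.asIdeal inferInstance hdisj
  have hqf : q'.under R = qf.under R := by
    ext r
    rw [Ideal.mem_comap (K := qf), IsScalarTower.algebraMap_apply R S (Localization.Away (f p)),
      EtCover.mem_comap_map_iff Q.asIdeal (f p) hQf]
    exact (SetLike.ext_iff.1 (congrArg PrimeSpectrum.asIdeal hQ) r).symm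
  obtain ⟨g', hg', φ, -⟩ := EtCover.exists_factor (P p)
    (hS _ (List.mem_map.2 ⟨p, Finset.mem_toList.2 hp, rfl⟩)) qf q' hqf
  exact ⟨g', hg', ⟨φ.comp (IsScalarTower.toAlgHom R S (Localization.Away (f p)))⟩⟩

end Groth.Agent.S9454
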