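import Groth.Statements.S9455
import Groth.Agent.CohenAlgFS.Basic
import Groth.Agent.PurelyInsepRed.Basic
-- import your own Groth.Agent.* helpers here

set_option autoImplicit false
universe u
open CAlg

namespace Groth.Agent.S9455


theorem flat_int (Λ : Type u) [CommRing Λ] [IsDomain Λ] [CharZero Λ] : Module.Flat ℤ Λ := by
  rw [Module.Flat.flat_iff_torsion_eq_bot_of_isBezout, ← Submodule.isTorsionFree_iff_torsion_eq_bot]
  infer_instance

theorem formallySmooth_field {k K : Type u} [Field k] [PerfectField k] [Field K] [Algebra k K] :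
    Algebra.FormallySmooth k K := by
  rw [EGA41Lib.formallySmooth_iff_isGeometricallyReduced, Algebra.isGeometricallyReduced_field_iff]
  exact PurelyInsepRed.isReduced_tensor_of_perfectField (AlgebraicClosure k)

theorem smooth_pow (Λ : Type u) [CommRing Λ] [IsDomain Λ] [CharZero Λ] [IsLocalRing Λ] (p : ℕ)
    (hp : p.Prime) (hm : IsLocalRing.maximalIdeal Λ = Ideal.span {(p : Λ)}) (n : ℕ)
    [Algebra (ZMod (p ^ (n + 1))) (Λ ⧸ Ideal.span {((p : Λ) ^ (n + 1))})] :
    Algebra.FormallySmooth (ZMod (p ^ (n + 1))) (Λ ⧸ Ideal.span {((p : Λ) ^ (n + 1))}) := by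
  letI : Algebra (ULift.{u} ℤ) Λ := ULift.algebra' ℤ Λ
  haveI : Module.Flat (ULift.{u} ℤ) Λ := Module.Flat.ulift_left_iff.2 (flat_int Λ)
  let m : Ideal (ULift.{u} ℤ) := Ideal.span {(p : ULift.{u} ℤ)}
  have hmap : ∀ k : ℕ, (m ^ k).map (algebraMap (ULift.{u} ℤ) Λ) = Ideal.span {((p : Λ) ^ k)} := by
    intro k
    rw [Ideal.span_singleton_pow, Ideal.map_span, Set.image_singleton, map_pow, map_natCast]
  let z : ∀ k : ℕ, (ULift.{u} ℤ ⧸ m ^ k) ≃+* ZMod (p ^ k) := fun k =>
    (Ideal.quotientEquiv (m ^ k) (Ideal.span {((p ^ k : ℕ) : ℤ)}) ULift.ringEquiv (by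
      rw [Ideal.span_singleton_pow, Ideal.map_span, Set.image_singleton, map_pow, map_natCast,
        Nat.cast_pow])).trans (Int.quotientSpanNatEquivZMod (p ^ k))
  haveI : Fact p.Prime := ⟨hp⟩
  have h1 : Algebra.FormallySmooth (ULift.{u} ℤ ⧸ m ^ 1) (CohenAlgFS.Red m Λ 1) := by
    have hk : IsField (ULift.{u} ℤ ⧸ m ^ 1) :=
      ((z 1).trans (ZMod.ringEquivCongr (pow_one p))).toMulEquiv.isField (Field.toIsField (ZMod p))
    have hK : IsField (CohenAlgFS.Red m Λ 1) := by
      refine (Ideal.quotEquivOfEq (J := IsLocalRing.maximalIdeal Λ) ?_).toMulEquiv.isField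
        ((Ideal.Quotient.maximal_ideal_iff_isField_quotient _).1 inferInstance)
      rw [hmap, pow_one, hm]
    letI := hk.toField
    letI := hK.toField
    haveI : Finite (ULift.{u} ℤ ⧸ m ^ 1) :=
      Finite.of_equiv _ ((z 1).trans (ZMod.ringEquivCongr (pow_one p))).symm.toEquiv
    haveI : PerfectField (ULift.{u} ℤ ⧸ m ^ 1) := PerfectField.ofFinite
    exact formallySmooth_field
  have h2 := RingHom.formallySmooth_algebraMap.mpr (CohenAlgFS.formallySmooth_red m h1 n)
  have h3 := ((RingHom.FormallySmooth.of_bijective (f := (z (n + 1)).symm.toRingHom)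
    (z (n + 1)).symm.bijective).comp h2).comp
      (RingHom.FormallySmooth.of_bijective (f := (Ideal.quotEquivOfEq (hmap (n + 1))).toRingHom)
        (Ideal.quotEquivOfEq (hmap (n + 1))).bijective)
  rw [← RingHom.formallySmooth_algebraMap]
  convert h3 using 1
  exact RingHom.ext_zmod _ _

theorem charZero_of_max (Λ : Type u) [CommRing Λ] [IsDomain Λ] [IsDiscreteValuationRing Λ] (p : ℕ)
    (hp : p.Prime) (hm : IsLocalRing.maximalIdeal Λ = Ideal.span {(p : Λ)}) : CharZero Λ := by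
  obtain ⟨q, hq⟩ := CharP.exists Λ
  rcases CharP.char_is_prime_or_zero Λ q with hq' | rfl
  · exfalso
    have hp0 : (p : Λ) ≠ 0 := fun h => IsDiscreteValuationRing.not_a_field Λ (by simp [hm, h])
    have hne : p ≠ q := fun h => hp0 (h ▸ CharP.cast_eq_zero Λ q)
    have hc : IsCoprime ((p : ℤ)) (q : ℤ) := (Nat.isCoprime_iff_coprime).2 ((Nat.coprime_primes hp hq').2 hne)
    have := hc.map (Int.castRingHom Λ)
    simp [CharP.cast_eq_zero Λ q] at this
    exact (IsLocalRing.mem_maximalIdeal _).1 (hm ▸ Ideal.mem_span_singleton_self _) (isCoprime_zero_right.1 this)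
  · exact CharP.charP_to_charZero Λ


/-- If Λ is a Cohen ring (a complete discrete valuation ring with maximal ideal generated by a prime
number p) then Λ/p^nΛ is formally smooth over ℤ/p^nℤ for every n ≥ 1; the ℤ/p^nℤ-algebra structure
on Λ/p^nΛ is the unique one and is taken as a hypothesis. -/
theorem result (Λ : Type u) [CommRing Λ] [IsDomain Λ]
    [IsDiscreteValuationRing Λ] [IsAdicComplete (IsLocalRing.maximalIdeal Λ) Λ] (p : ℕ)
    (hp : p.Prime) (hm : IsLocalRing.maximalIdeal Λ = Ideal.span {(p : Λ)}) (n : ℕ) (hn : 1 ≤ n)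
    [Algebra (ZMod (p ^ n)) (Λ ⧸ Ideal.span {((p : Λ) ^ n)})] :
    Algebra.FormallySmooth (ZMod (p ^ n)) (Λ ⧸ Ideal.span {((p : Λ) ^ n)}) := by
  obtain ⟨n, rfl⟩ : ∃ k, n = k + 1 := ⟨n - 1, by omega⟩
  haveI := charZero_of_max Λ p hp hm
  exact smooth_pow Λ p hp hm n

end Groth.Agent.S9455
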