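import Groth.Statements.S9458
import Groth.Agent.SHensel17.Henselian

set_option autoImplicit false
set_option linter.style.haveILetI false
universe u
open Hensel

namespace Groth.Agent.S9458

/-- Let R → S be of finite type and quasi-finite at a prime q lying over p, and let R_p^h, S_q^h be
henselizations of the local rings, S_q^h carrying the compatible R_p^h-algebra structure (the
canonical local map R_p^h → S_q^h). Then S_q^h is finite over R_p^h. (The published statement also
identifies S_q^h with a localization of R_p^h ⊗_{R_p} S_q; this row states only that S_q^h is finite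
over R_p^h.) -/
theorem result (R : Type u) [CommRing R] (S : Type u)
    [CommRing S] [Algebra R S] [Algebra.FiniteType R S] (p : Ideal R) [p.IsPrime] (q : Ideal S)
    [q.IsPrime] [q.LiesOver p] [Algebra.QuasiFiniteAt R q]
    (Rh : Type u) [CommRing Rh] [IsLocalRing Rh] [Algebra (Localization.AtPrime p) Rh]
    [IsLocalHom (algebraMap (Localization.AtPrime p) Rh)]
    [Hensel.IsHenselization (Localization.AtPrime p) Rh]
    (Sh : Type u) [CommRing Sh] [IsLocalRing Sh] [Algebra (Localization.AtPrime q) Sh]
    [IsLocalHom (algebraMap (Localization.AtPrime q) Sh)]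
    [Hensel.IsHenselization (Localization.AtPrime q) Sh]
    [Algebra (Localization.AtPrime p) (Localization.AtPrime q)]
    [IsScalarTower R (Localization.AtPrime p) (Localization.AtPrime q)]
    [Algebra Rh Sh] [Algebra (Localization.AtPrime p) Sh]
    [IsScalarTower (Localization.AtPrime p) Rh Sh]
    [IsScalarTower (Localization.AtPrime p) (Localization.AtPrime q) Sh] :
    Module.Finite Rh Sh := by
  haveI := (‹Hensel.IsHenselization (Localization.AtPrime p) Rh›).henselian
  letI : Algebra R Rh := ((algebraMap (Localization.AtPrime p) Rh).comp (algebraMap R _)).toAlgebra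
  haveI : IsScalarTower R (Localization.AtPrime p) Rh := .of_algebraMap_eq fun _ => rfl
  letI : Algebra S Sh := ((algebraMap (Localization.AtPrime q) Sh).comp (algebraMap S _)).toAlgebra
  haveI : IsScalarTower S (Localization.AtPrime q) Sh := .of_algebraMap_eq fun _ => rfl
  letI : Algebra R Sh := ((algebraMap S Sh).comp (algebraMap R S)).toAlgebra
  haveI : IsScalarTower R S Sh := .of_algebraMap_eq fun _ => rfl
  haveI : IsScalarTower R Rh Sh := .of_algebraMap_eq fun r => by
    rw [IsScalarTower.algebraMap_apply R (Localization.AtPrime p) Rh,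
      ← IsScalarTower.algebraMap_apply (Localization.AtPrime p) Rh Sh,
      IsScalarTower.algebraMap_apply (Localization.AtPrime p) (Localization.AtPrime q) Sh,
      ← IsScalarTower.algebraMap_apply R (Localization.AtPrime p) (Localization.AtPrime q),
      IsScalarTower.algebraMap_apply R S (Localization.AtPrime q),
      ← IsScalarTower.algebraMap_apply S (Localization.AtPrime q) Sh,
      ← IsScalarTower.algebraMap_apply R S Sh]
  haveI : IsScalarTower R (Localization.AtPrime p) Sh := .of_algebraMap_eq fun r => by
    rw [IsScalarTower.algebraMap_apply (Localization.AtPrime p) Rh Sh,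
      ← IsScalarTower.algebraMap_apply R (Localization.AtPrime p) Rh, ← IsScalarTower.algebraMap_apply R Rh Sh]
  haveI : IsLocalHom (algebraMap Rh Sh) := ⟨fun x hx => by
    by_contra h
    obtain ⟨r, hr⟩ := Groth.Agent.SHensel17.exists_sub_mem_of_isHenselization (Localization.AtPrime p) Rh x
    obtain ⟨ρ, hc⟩ := Groth.Agent.HenselLib.exists_colim_of_isHenselization (Localization.AtPrime p) Rh
    have hxm : x ∈ IsLocalRing.maximalIdeal Rh := h
    rw [← hc.map_maximalIdeal fun r hr => Groth.Agent.HenselLib.algebraMap_residueField_eq_zero hr] at hxm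
    have h2 := Ideal.mem_map_of_mem (algebraMap Rh Sh) hxm
    rw [Ideal.map_map, ← IsScalarTower.algebraMap_eq] at h2
    refine (?_ : (IsLocalRing.maximalIdeal (Localization.AtPrime p)).map
      (algebraMap (Localization.AtPrime p) Sh) ≤ IsLocalRing.maximalIdeal Sh) h2 hx
    rw [← Localization.AtPrime.map_eq_maximalIdeal, Ideal.map_map, ← IsScalarTower.algebraMap_eq,
      Ideal.map_le_iff_le_comap]
    intro a ha
    show algebraMap R Sh a ∈ IsLocalRing.maximalIdeal Sh
    rw [IsScalarTower.algebraMap_apply R S Sh]
    show algebraMap R S a ∈ (IsLocalRing.maximalIdeal Sh).comap (algebraMap S Sh)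
    rw [Groth.Agent.SHensel17.comap_maximalIdeal q Sh, ← Ideal.mem_comap]
    exact (Ideal.LiesOver.over (P := q) (p := p)).le ha⟩
  haveI := Groth.Agent.SHensel17.weaklyEtale_atPrime_of_isHenselization p Rh
  haveI := Groth.Agent.SHensel17.weaklyEtale_atPrime_of_isHenselization q Sh
  let τ : TensorProduct R Rh S →ₐ[Rh] Sh := Algebra.TensorProduct.lift (Algebra.ofId Rh Sh)
    (IsScalarTower.toAlgHom R S Sh) (fun _ _ => Commute.all _ _)
  letI : Algebra (TensorProduct R Rh S) Sh := τ.toRingHom.toAlgebra
  haveI : IsScalarTower Rh (TensorProduct R Rh S) Sh := .of_algebraMap_eq fun x => (τ.commutes x).symm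
  have hτS : ∀ a : S, algebraMap (TensorProduct R Rh S) Sh ((1 : Rh) ⊗ₜ[R] a) = algebraMap S Sh a :=
    fun a => by simp [τ, RingHom.algebraMap_toAlgebra]
  haveI : Algebra.WeaklyEtale (TensorProduct R Rh S) Sh := by
    refine (Groth.Agent.SHensel17.RWE.cancel
      (f := (Algebra.TensorProduct.includeRight : S →ₐ[R] TensorProduct R Rh S).toRingHom) ?_
      (Groth.Agent.SHensel17.rwe_includeRight R Rh S)).weaklyEtale rfl
    convert! Groth.Agent.SHensel17.rwe_algebraMap S Sh using 1
    exact RingHom.ext fun b => hτS b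
  haveI hqf : Algebra.QuasiFiniteAt Rh ((IsLocalRing.maximalIdeal Sh).comap τ.toRingHom) := by
    refine Algebra.QuasiFiniteAt.baseChange q _ ?_
    rw [Ideal.comap_comap]
    conv_lhs => rw [← Groth.Agent.SHensel17.comap_maximalIdeal q Sh]
    exact congrArg (fun f => Ideal.comap f (IsLocalRing.maximalIdeal Sh)) (RingHom.ext fun x => (hτS x).symm)
  let Q := (IsLocalRing.maximalIdeal Sh).comap (algebraMap (TensorProduct R Rh S) Sh)
  let TQ := Localization.AtPrime Q
  have hlift : ∀ y : Q.primeCompl, IsUnit (algebraMap (TensorProduct R Rh S) Sh y) := fun y => not_not.1 y.2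
  letI : Algebra TQ Sh := (IsLocalization.lift hlift : TQ →+* Sh).toAlgebra
  haveI : IsScalarTower (TensorProduct R Rh S) TQ Sh :=
    .of_algebraMap_eq fun x => (IsLocalization.lift_eq hlift x).symm
  haveI : IsScalarTower Rh TQ Sh := .of_algebraMap_eq fun x => by
    rw [IsScalarTower.algebraMap_apply Rh (TensorProduct R Rh S) TQ,
      ← IsScalarTower.algebraMap_apply (TensorProduct R Rh S) TQ Sh,
      ← IsScalarTower.algebraMap_apply Rh (TensorProduct R Rh S) Sh]
  obtain ⟨-, hs, -⟩ := Groth.Agent.SHensel17.bijective_localization (H := Rh)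
    (T := TensorProduct R Rh S) (C := Sh) (TQ := TQ)
    (fun hloc t => by
      haveI := hloc
      have hQ : (IsLocalRing.maximalIdeal TQ).comap (algebraMap (TensorProduct R Rh S) TQ) = Q :=
        IsLocalization.AtPrime.comap_maximalIdeal TQ Q
      haveI : Algebra.QuasiFiniteAt Rh ((IsLocalRing.maximalIdeal TQ).comap
          (IsScalarTower.toAlgHom Rh (TensorProduct R Rh S) TQ).toRingHom) := by
        have e : (IsLocalRing.maximalIdeal TQ).comap
            (IsScalarTower.toAlgHom Rh (TensorProduct R Rh S) TQ).toRingHom =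
            (IsLocalRing.maximalIdeal Sh).comap τ.toRingHom := hQ
        convert! hqf
      exact Groth.Agent.SHensel17.isIntegral_of_quasiFiniteAt
        (IsScalarTower.toAlgHom Rh (TensorProduct R Rh S) TQ) t)
    (Or.inr fun x => by
      obtain ⟨r, hr⟩ := Groth.Agent.SHensel17.exists_sub_mem_of_isHenselization (Localization.AtPrime q) Sh x
      obtain ⟨a, s, rfl⟩ := IsLocalization.exists_mk'_eq q.primeCompl r
      have hs : IsUnit (algebraMap S Sh s) := by
        rw [IsScalarTower.algebraMap_apply S (Localization.AtPrime q) Sh]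
        exact (IsLocalization.map_units (Localization.AtPrime q) s).map _
      have hsQ : (1 : Rh) ⊗ₜ[R] (s : S) ∈ Q.primeCompl := fun h => h (by
        rw [hτS]; exact hs)
      refine ⟨IsLocalization.mk' TQ ((1 : Rh) ⊗ₜ[R] a) ⟨_, hsQ⟩, ?_⟩
      convert! hr using 2
      refine hs.mul_right_cancel ?_
      conv_rhs => rw [IsScalarTower.algebraMap_apply S (Localization.AtPrime q) Sh, ← map_mul,
        IsLocalization.mk'_spec, ← IsScalarTower.algebraMap_apply]
      conv_lhs => rw [← hτS, IsScalarTower.algebraMap_apply (TensorProduct R Rh S) TQ Sh, ← map_mul]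
      rw [show IsLocalization.mk' TQ ((1 : Rh) ⊗ₜ[R] a) ⟨_, hsQ⟩ *
          algebraMap (TensorProduct R Rh S) TQ ((1 : Rh) ⊗ₜ[R] (s : S)) =
            algebraMap (TensorProduct R Rh S) TQ ((1 : Rh) ⊗ₜ[R] a)
        from IsLocalization.mk'_spec _ _ _, ← IsScalarTower.algebraMap_apply, hτS])
  refine ⟨?_⟩
  have h := Groth.Agent.SHensel17.fg_range_of_quasiFiniteAt τ
  rwa [(AlgHom.range_eq_top τ).2 hs, Algebra.top_toSubmodule] at h

end Groth.Agent.S9458
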