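import Groth.Statements.S9459
import Groth.Agent.SHensel17.Henselian

set_option autoImplicit false
set_option linter.style.haveILetI false
universe u
open Hensel

namespace Groth.Agent.S9459

open TensorProduct in
/-- Let R → S be a ring map, q a prime of S over p, and R^h, S^h henselizations of R_p and S_q, S^h
carrying the compatible R^h-algebra structure (the canonical map R^h → S^h). Let φ : R^h ⊗_R S → S^h
be the induced map and Q the preimage under φ of the maximal ideal (a prime lying over the maximal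
ideal of R^h and over q). Then S^h is a henselization of the local ring (R^h ⊗_R S)_Q: for every
henselization E of (R^h ⊗_R S)_Q there is a ring isomorphism E ≅ S^h compatible with the two maps
from R^h ⊗_R S. -/
theorem result (R : Type u) [CommRing R] (S : Type u)
    [CommRing S] [Algebra R S] (p : Ideal R) [p.IsPrime] (q : Ideal S) [q.IsPrime] [q.LiesOver p]
    (Rh : Type u) [CommRing Rh] [IsLocalRing Rh] [Algebra (Localization.AtPrime p) Rh]
    [IsLocalHom (algebraMap (Localization.AtPrime p) Rh)]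
    [Hensel.IsHenselization (Localization.AtPrime p) Rh] [Algebra R Rh]
    [IsScalarTower R (Localization.AtPrime p) Rh]
    (Sh : Type u) [CommRing Sh] [IsLocalRing Sh] [Algebra (Localization.AtPrime q) Sh]
    [IsLocalHom (algebraMap (Localization.AtPrime q) Sh)]
    [Hensel.IsHenselization (Localization.AtPrime q) Sh] [Algebra S Sh]
    [IsScalarTower S (Localization.AtPrime q) Sh] [Algebra R Sh] [IsScalarTower R S Sh]
    [Algebra Rh Sh] [IsScalarTower R Rh Sh]
    (E : Type u) [CommRing E] [IsLocalRing E]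
    [Algebra (Localization.AtPrime (Ideal.comap (Algebra.TensorProduct.lift (IsScalarTower.toAlgHom R Rh Sh) (IsScalarTower.toAlgHom R S Sh)
          (fun _ _ => Commute.all _ _)) (IsLocalRing.maximalIdeal Sh))) E]
    [IsLocalHom (algebraMap (Localization.AtPrime
      (Ideal.comap (Algebra.TensorProduct.lift (IsScalarTower.toAlgHom R Rh Sh) (IsScalarTower.toAlgHom R S Sh)
          (fun _ _ => Commute.all _ _)) (IsLocalRing.maximalIdeal Sh))) E)]
    [Hensel.IsHenselization (Localization.AtPrime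
      (Ideal.comap (Algebra.TensorProduct.lift (IsScalarTower.toAlgHom R Rh Sh) (IsScalarTower.toAlgHom R S Sh)
          (fun _ _ => Commute.all _ _)) (IsLocalRing.maximalIdeal Sh))) E] :
    ∃ e : E ≃+* Sh, ∀ d : Rh ⊗[R] S,
      e (algebraMap (Localization.AtPrime
        (Ideal.comap (Algebra.TensorProduct.lift (IsScalarTower.toAlgHom R Rh Sh) (IsScalarTower.toAlgHom R S Sh)
          (fun _ _ => Commute.all _ _)) (IsLocalRing.maximalIdeal Sh))) E
        (algebraMap (Rh ⊗[R] S) _ d)) = (Algebra.TensorProduct.lift (IsScalarTower.toAlgHom R Rh Sh) (IsScalarTower.toAlgHom R S Sh)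
          (fun _ _ => Commute.all _ _)) d := by
  haveI := (‹Hensel.IsHenselization (Localization.AtPrime q) Sh›).henselian
  haveI := Groth.Agent.SHensel17.weaklyEtale_atPrime_of_isHenselization p Rh
  haveI := Groth.Agent.SHensel17.weaklyEtale_atPrime_of_isHenselization q Sh
  let φ := Algebra.TensorProduct.lift (IsScalarTower.toAlgHom R Rh Sh) (IsScalarTower.toAlgHom R S Sh)
    (fun _ _ => Commute.all _ _)
  letI : Algebra (Rh ⊗[R] S) Sh := φ.toRingHom.toAlgebra
  haveI : Algebra.WeaklyEtale (Rh ⊗[R] S) Sh := by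
    refine (Groth.Agent.SHensel17.RWE.cancel
      (f := (Algebra.TensorProduct.includeRight : S →ₐ[R] Rh ⊗[R] S).toRingHom) ?_
      (Groth.Agent.SHensel17.rwe_includeRight R Rh S)).weaklyEtale rfl
    convert! Groth.Agent.SHensel17.rwe_algebraMap S Sh using 1
    exact RingHom.ext fun b => by simp [φ, RingHom.algebraMap_toAlgebra]
  let Q := Ideal.comap φ (IsLocalRing.maximalIdeal Sh)
  let TQ := Localization.AtPrime Q
  have hlift : ∀ y : Q.primeCompl, IsUnit (algebraMap (Rh ⊗[R] S) Sh y) := fun y => not_not.1 y.2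
  letI : Algebra TQ Sh := (IsLocalization.lift hlift : TQ →+* Sh).toAlgebra
  haveI : IsScalarTower (Rh ⊗[R] S) TQ Sh :=
    .of_algebraMap_eq fun x => (IsLocalization.lift_eq hlift x).symm
  haveI : IsLocalHom (algebraMap TQ Sh) := ⟨fun x hx => by
    obtain ⟨a, s, rfl⟩ := IsLocalization.exists_mk'_eq Q.primeCompl x
    refine (IsLocalization.AtPrime.isUnit_mk'_iff TQ Q a s).2 fun ha => ha ?_
    show IsUnit (algebraMap (Rh ⊗[R] S) Sh a)
    rw [IsScalarTower.algebraMap_apply (Rh ⊗[R] S) TQ Sh, ← IsLocalization.mk'_spec TQ a s, map_mul,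
      ← IsScalarTower.algebraMap_apply (Rh ⊗[R] S) TQ Sh]
    exact hx.mul (hlift s)⟩
  haveI : Algebra.WeaklyEtale (Rh ⊗[R] S) TQ :=
    Groth.Agent.WEtaleVal.weaklyEtale_of_isLocalization Q.primeCompl
  haveI : Algebra.WeaklyEtale TQ Sh := Groth.Agent.S7127.result (Rh ⊗[R] S) TQ Sh
  have hφS : ∀ a : S, algebraMap (Rh ⊗[R] S) Sh ((1 : Rh) ⊗ₜ[R] a) = algebraMap S Sh a := fun a => by
    simp [φ, RingHom.algebraMap_toAlgebra]
  haveI := Groth.Agent.SHensel17.isHenselization_of_weaklyEtale TQ Sh fun x => by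
    obtain ⟨r, hr⟩ := Groth.Agent.SHensel17.exists_sub_mem_of_isHenselization (Localization.AtPrime q) Sh x
    obtain ⟨a, s, rfl⟩ := IsLocalization.exists_mk'_eq q.primeCompl r
    have hs : IsUnit (algebraMap S Sh s) := by
      rw [IsScalarTower.algebraMap_apply S (Localization.AtPrime q) Sh]
      exact (IsLocalization.map_units (Localization.AtPrime q) s).map _
    have hsQ : (1 : Rh) ⊗ₜ[R] (s : S) ∈ Q.primeCompl := fun h => h (by
      show IsUnit (algebraMap (Rh ⊗[R] S) Sh _)
      rw [hφS]; exact hs)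
    refine ⟨IsLocalization.mk' TQ ((1 : Rh) ⊗ₜ[R] a) ⟨_, hsQ⟩, ?_⟩
    convert! hr using 2
    refine hs.mul_right_cancel ?_
    conv_rhs => rw [IsScalarTower.algebraMap_apply S (Localization.AtPrime q) Sh, ← map_mul,
      IsLocalization.mk'_spec, ← IsScalarTower.algebraMap_apply]
    conv_lhs => rw [← hφS, IsScalarTower.algebraMap_apply (Rh ⊗[R] S) TQ Sh, ← map_mul]
    rw [show IsLocalization.mk' TQ ((1 : Rh) ⊗ₜ[R] a) ⟨_, hsQ⟩ *
        algebraMap (Rh ⊗[R] S) TQ ((1 : Rh) ⊗ₜ[R] (s : S)) = algebraMap (Rh ⊗[R] S) TQ ((1 : Rh) ⊗ₜ[R] a)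
      from IsLocalization.mk'_spec _ _ _, ← IsScalarTower.algebraMap_apply, hφS]
  obtain ⟨e⟩ := Groth.Agent.SHensel17.exists_algEquiv_henselization TQ E Sh
  exact ⟨e.toRingEquiv, fun d => (e.commutes _).trans
    (IsScalarTower.algebraMap_apply (Rh ⊗[R] S) TQ Sh d).symm⟩

end Groth.Agent.S9459
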