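import Groth.Statements.S9460
import Groth.Agent.SHensel17.QuasiFinite

set_option autoImplicit false
set_option linter.style.haveILetI false
universe u
open Hensel

namespace Groth.Agent.S9460

open TensorProduct in
/-- Let R → S be a ring map, q a prime of S over p, and R^{sh}, S^{sh} strict henselizations of R_p and
S_q, S^{sh} carrying a compatible R^{sh}-algebra structure (a map R^{sh} → S^{sh} over R; these
correspond to the embeddings of separable closures in the published statement). Let φ : R^{sh} ⊗_R S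
→ S^{sh} be the induced map and Q the preimage under φ of the maximal ideal (a prime over the
maximal ideal of R^{sh} and over q). Then S^{sh} is a strict henselization of (R^{sh} ⊗_R S)_Q:
every strict henselization E of that local ring admits a ring isomorphism E ≅ S^{sh} compatible with
the two maps from R^{sh} ⊗_R S. -/
theorem result (R : Type u) [CommRing R]
    (S : Type u) [CommRing S] [Algebra R S] (p : Ideal R) [p.IsPrime] (q : Ideal S) [q.IsPrime]
    [q.LiesOver p]
    (Rh : Type u) [CommRing Rh] [IsLocalRing Rh] [Algebra (Localization.AtPrime p) Rh]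
    [IsLocalHom (algebraMap (Localization.AtPrime p) Rh)]
    [Hensel.IsStrictHenselization (Localization.AtPrime p) Rh] [Algebra R Rh]
    [IsScalarTower R (Localization.AtPrime p) Rh]
    (Sh : Type u) [CommRing Sh] [IsLocalRing Sh] [Algebra (Localization.AtPrime q) Sh]
    [IsLocalHom (algebraMap (Localization.AtPrime q) Sh)]
    [Hensel.IsStrictHenselization (Localization.AtPrime q) Sh] [Algebra S Sh]
    [IsScalarTower S (Localization.AtPrime q) Sh] [Algebra R Sh] [IsScalarTower R S Sh]
    [Algebra Rh Sh] [IsScalarTower R Rh Sh]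
    (E : Type u) [CommRing E] [IsLocalRing E]
    [Algebra (Localization.AtPrime (Ideal.comap (Algebra.TensorProduct.lift (IsScalarTower.toAlgHom R Rh Sh) (IsScalarTower.toAlgHom R S Sh)
          (fun _ _ => Commute.all _ _)) (IsLocalRing.maximalIdeal Sh))) E]
    [IsLocalHom (algebraMap (Localization.AtPrime
      (Ideal.comap (Algebra.TensorProduct.lift (IsScalarTower.toAlgHom R Rh Sh) (IsScalarTower.toAlgHom R S Sh)
          (fun _ _ => Commute.all _ _)) (IsLocalRing.maximalIdeal Sh))) E)]
    [Hensel.IsStrictHenselization (Localization.AtPrime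
      (Ideal.comap (Algebra.TensorProduct.lift (IsScalarTower.toAlgHom R Rh Sh) (IsScalarTower.toAlgHom R S Sh)
          (fun _ _ => Commute.all _ _)) (IsLocalRing.maximalIdeal Sh))) E] :
    ∃ e : E ≃+* Sh, ∀ d : Rh ⊗[R] S,
      e (algebraMap (Localization.AtPrime
        (Ideal.comap (Algebra.TensorProduct.lift (IsScalarTower.toAlgHom R Rh Sh) (IsScalarTower.toAlgHom R S Sh)
          (fun _ _ => Commute.all _ _)) (IsLocalRing.maximalIdeal Sh))) E
        (algebraMap (Rh ⊗[R] S) _ d)) = (Algebra.TensorProduct.lift (IsScalarTower.toAlgHom R Rh Sh) (IsScalarTower.toAlgHom R S Sh)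
          (fun _ _ => Commute.all _ _)) d := by
  haveI := (‹Hensel.IsStrictHenselization (Localization.AtPrime q) Sh›).henselian
  haveI : IsSepClosed (IsLocalRing.ResidueField Sh) :=
    (‹Hensel.IsStrictHenselization (Localization.AtPrime q) Sh›).isSepClosure.sep_closed
  haveI := Groth.Agent.SHensel17.weaklyEtale_of_atPrime p Rh
  haveI := Groth.Agent.SHensel17.weaklyEtale_of_atPrime q Sh
  let φ := Algebra.TensorProduct.lift (IsScalarTower.toAlgHom R Rh Sh) (IsScalarTower.toAlgHom R S Sh)
    (fun _ _ => Commute.all _ _)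
  letI : Algebra (Rh ⊗[R] S) Sh := φ.toRingHom.toAlgebra
  haveI : Algebra.WeaklyEtale (Rh ⊗[R] S) Sh := by
    refine (Groth.Agent.SHensel17.RWE.cancel
      (f := (Algebra.TensorProduct.includeRight : S →ₐ[R] Rh ⊗[R] S).toRingHom) ?_
      (Groth.Agent.SHensel17.rwe_includeRight R Rh S)).weaklyEtale rfl
    convert! Groth.Agent.SHensel17.rwe_algebraMap S Sh using 1
    exact RingHom.ext fun b => by simp [φ, RingHom.algebraMap_toAlgebra]
  let Q := Ideal.comap φ (IsLocalRing.maximalIdeal Sh)
  let TQ := Localization.AtPrime Q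
  have hlift : ∀ y : Q.primeCompl, IsUnit (algebraMap (Rh ⊗[R] S) Sh y) := fun y => not_not.1 y.2
  letI : Algebra TQ Sh := (IsLocalization.lift hlift : TQ →+* Sh).toAlgebra
  haveI : IsScalarTower (Rh ⊗[R] S) TQ Sh :=
    .of_algebraMap_eq fun x => (IsLocalization.lift_eq hlift x).symm
  haveI : IsLocalHom (algebraMap TQ Sh) := ⟨fun x hx => by
    obtain ⟨a, s, rfl⟩ := IsLocalization.exists_mk'_eq Q.primeCompl x
    refine (IsLocalization.AtPrime.isUnit_mk'_iff TQ Q a s).2 fun ha => ha ?_
    show IsUnit (algebraMap (Rh ⊗[R] S) Sh a)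
    rw [IsScalarTower.algebraMap_apply (Rh ⊗[R] S) TQ Sh, ← IsLocalization.mk'_spec TQ a s, map_mul,
      ← IsScalarTower.algebraMap_apply (Rh ⊗[R] S) TQ Sh]
    exact hx.mul (hlift s)⟩
  haveI : Algebra.WeaklyEtale (Rh ⊗[R] S) TQ :=
    Groth.Agent.WEtaleVal.weaklyEtale_of_isLocalization Q.primeCompl
  haveI : Algebra.WeaklyEtale TQ Sh := Groth.Agent.S7127.result (Rh ⊗[R] S) TQ Sh
  haveI := Groth.Agent.SHensel17.isStrictHenselization_of_weaklyEtale TQ Sh
  obtain ⟨e⟩ := Groth.Agent.SHensel17.exists_algEquiv TQ E Sh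
  exact ⟨e.toRingEquiv, fun d => (e.commutes _).trans
    (IsScalarTower.algebraMap_apply (Rh ⊗[R] S) TQ Sh d).symm⟩

end Groth.Agent.S9460
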