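import Groth.Statements.S9461
import Groth.Agent.SHensel17.QuasiFinite

set_option autoImplicit false
set_option linter.style.haveILetI false
universe u
open Hensel

namespace Groth.Agent.S9461

/-- Let R → S be of finite type and quasi-finite at a prime q over p, and R^{sh}, S^{sh} strict
henselizations of R_p and S_q with a compatible local map R^{sh} → S^{sh} (over R). Then R^{sh} →
S^{sh} is finite and its residue field extension is finite and purely inseparable. (The published
statement also identifies S^{sh} with a localization of R^{sh} ⊗_{R_p} S_q; this row states only the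
finiteness and the residue-field assertions.) -/
theorem result (R : Type u) [CommRing R] (S : Type u)
    [CommRing S] [Algebra R S] [Algebra.FiniteType R S] (p : Ideal R) [p.IsPrime] (q : Ideal S)
    [q.IsPrime] [q.LiesOver p] [Algebra.QuasiFiniteAt R q]
    (Rh : Type u) [CommRing Rh] [IsLocalRing Rh] [Algebra (Localization.AtPrime p) Rh]
    [IsLocalHom (algebraMap (Localization.AtPrime p) Rh)]
    [Hensel.IsStrictHenselization (Localization.AtPrime p) Rh] [Algebra R Rh]
    [IsScalarTower R (Localization.AtPrime p) Rh]
    (Sh : Type u) [CommRing Sh] [IsLocalRing Sh] [Algebra (Localization.AtPrime q) Sh]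
    [IsLocalHom (algebraMap (Localization.AtPrime q) Sh)]
    [Hensel.IsStrictHenselization (Localization.AtPrime q) Sh] [Algebra S Sh]
    [IsScalarTower S (Localization.AtPrime q) Sh] [Algebra R Sh] [IsScalarTower R S Sh]
    [Algebra Rh Sh] [IsScalarTower R Rh Sh] [IsLocalHom (algebraMap Rh Sh)] :
    Module.Finite Rh Sh ∧
      Module.Finite (IsLocalRing.ResidueField Rh) (IsLocalRing.ResidueField Sh) ∧
      IsPurelyInseparable (IsLocalRing.ResidueField Rh) (IsLocalRing.ResidueField Sh) := by
  haveI := (‹Hensel.IsStrictHenselization (Localization.AtPrime p) Rh›).henselian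
  haveI : IsSepClosed (IsLocalRing.ResidueField Rh) :=
    (‹Hensel.IsStrictHenselization (Localization.AtPrime p) Rh›).isSepClosure.sep_closed
  haveI := Groth.Agent.SHensel17.weaklyEtale_of_atPrime p Rh
  haveI := Groth.Agent.SHensel17.weaklyEtale_of_atPrime q Sh
  obtain ⟨hs, hint⟩ := Groth.Agent.SHensel17.surjective_tensor (A := R) (B := S) Rh Sh
    fun _ _ _ _ _ _ _ g hg b => Groth.Agent.SHensel17.isIntegral_of_quasiFiniteAt_prime q g
      (hg.trans (Groth.Agent.SHensel17.comap_maximalIdeal q Sh)) b
  haveI := hint
  let τ : TensorProduct R Rh S →ₐ[Rh] Sh := Algebra.TensorProduct.lift (Algebra.ofId Rh Sh)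
    (IsScalarTower.toAlgHom R S Sh) (fun _ _ => Commute.all _ _)
  haveI : Algebra.QuasiFiniteAt Rh ((IsLocalRing.maximalIdeal Sh).comap τ.toRingHom) := by
    refine Algebra.QuasiFiniteAt.baseChange q _ ?_
    rw [Ideal.comap_comap]
    conv_lhs => rw [← Groth.Agent.SHensel17.comap_maximalIdeal q Sh]
    exact congrArg (fun f => Ideal.comap f (IsLocalRing.maximalIdeal Sh))
      (RingHom.ext fun x => by simp [τ])
  haveI hfin : Module.Finite Rh Sh := by
    refine ⟨?_⟩
    have h := Groth.Agent.SHensel17.fg_range_of_quasiFiniteAt τ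
    rwa [AlgHom.range_eq_top τ |>.2 hs, Algebra.top_toSubmodule] at h
  refine ⟨hfin, ?_, (Groth.Agent.SHensel17.integral_local (H := Rh) (C := Sh)).2.2 ‹_›⟩
  haveI : Module.Finite Rh (IsLocalRing.ResidueField Sh) :=
    Module.Finite.of_surjective (IsScalarTower.toAlgHom Rh Sh (IsLocalRing.ResidueField Sh)).toLinearMap
      IsLocalRing.residue_surjective
  exact Module.Finite.of_restrictScalars_finite Rh _ _

end Groth.Agent.S9461
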