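import Groth.Statements.S9462
import Mathlib
import Groth.Agent.HenselLib.LiftEtalePair
-- import your own Groth.Agent.* helpers here

set_option autoImplicit false
universe u
open CAlg

namespace Groth.Agent.S9462

section Aux
open scoped TensorProduct

theorem tensor_ideal_eq_zero {R C : Type u} [CommRing R] [CommRing C] [Algebra R C] (I : Ideal R)
    (hI : I ^ 2 = ⊥) (i : I) (k : C) (hk : k ∈ I.map (algebraMap R C)) : k ⊗ₜ[R] i = 0 := by
  rw [Ideal.map] at hk
  revert i
  induction hk using Submodule.span_induction with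
  | mem x hx =>
    obtain ⟨a, ha, rfl⟩ := hx
    intro i
    have h0 : a • i = 0 := Subtype.ext (by
      have : a * (i : R) ∈ I ^ 2 := by rw [pow_two]; exact Ideal.mul_mem_mul ha i.2
      rw [hI, Ideal.mem_bot] at this
      simpa using this)
    rw [Algebra.algebraMap_eq_smul_one, TensorProduct.smul_tmul, h0, TensorProduct.tmul_zero]
  | zero => exact fun i => TensorProduct.zero_tmul _ _
  | add x y _ _ hx hy => exact fun i => by rw [TensorProduct.add_tmul, hx, hy, add_zero]
  | smul r x _ hx => exact fun i => by rw [← TensorProduct.smul_tmul', hx, smul_zero]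

theorem bijective_of_lift {R C B' : Type u} [CommRing R] [CommRing C] [CommRing B'] [Algebra R C]
    [Algebra R B'] (I : Ideal R) (hI : I ^ 2 = ⊥) (ψ : C →ₐ[R] B')
    (hker : ∀ x, ψ x = 0 → x ∈ I.map (algebraMap R C))
    (hsur : ∀ b, ∃ c, b - ψ c ∈ I.map (algebraMap R B'))
    (hinj : Function.Injective (I.subtype.baseChange B')) : Function.Bijective ψ := by
  have hsurj : Function.Surjective ψ := by
    have hI2 : ∀ z ∈ I.map (algebraMap R B'), z ∈ ψ.range := by
      intro z hz
      rw [Ideal.map] at hz
      induction hz using Submodule.span_induction with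
      | mem x hx =>
        obtain ⟨a, -, rfl⟩ := hx
        exact ψ.range.algebraMap_mem a
      | zero => exact zero_mem _
      | add x y _ _ hx hy => exact add_mem hx hy
      | smul t x hxm hx =>
        obtain ⟨c, hc⟩ := hsur t
        have h0 : (t - ψ c) * x = 0 := by
          have h1 := Ideal.mul_mem_mul hc hxm
          change _ ∈ I.map (algebraMap R B') * I.map (algebraMap R B') at h1
          rw [← pow_two, ← Ideal.map_pow, hI, Ideal.map_bot, Ideal.mem_bot] at h1
          exact h1
        rw [sub_mul, sub_eq_zero] at h0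
        rw [smul_eq_mul, h0]
        exact mul_mem ⟨c, rfl⟩ hx
    intro b
    obtain ⟨c, hc⟩ := hsur b
    obtain ⟨d, hd⟩ := hI2 _ hc
    have hd : ψ d = b - ψ c := hd
    exact ⟨d + c, by rw [map_add, hd, sub_add_cancel]⟩
  refine ⟨(injective_iff_map_eq_zero ψ).2 fun x hx => ?_, hsurj⟩
  let mC : C ⊗[R] I →ₗ[R] C :=
    (TensorProduct.rid R C).toLinearMap ∘ₗ I.subtype.lTensor C
  obtain ⟨z, rfl⟩ : x ∈ LinearMap.range mC := by
    have hx' := hker x hx
    clear hx
    rw [Ideal.map] at hx'
    induction hx' using Submodule.span_induction with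
    | mem y hy =>
      obtain ⟨a, ha, rfl⟩ := hy
      exact ⟨1 ⊗ₜ ⟨a, ha⟩, by simp [mC, Algebra.algebraMap_eq_smul_one]⟩
    | zero => exact zero_mem _
    | add y y' _ _ hy hy' => exact add_mem hy hy'
    | smul t y hym hy =>
      obtain ⟨z, rfl⟩ := hy
      clear hym
      refine ⟨t • z, ?_⟩
      induction z using TensorProduct.induction_on with
      | zero => simp
      | tmul c i => simp [mC, TensorProduct.smul_tmul', mul_comm]
      | add a b ha hb => simp only [smul_eq_mul] at ha hb ⊢; simp only [smul_add, map_add, ha, hb, mul_add]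
  have key : ∀ z : C ⊗[R] I, TensorProduct.rid R B' (I.subtype.baseChange B' (ψ.toLinearMap.rTensor I z)) =
      ψ (mC z) := fun z => by
    induction z using TensorProduct.induction_on with
    | zero => simp
    | tmul c i => simp [mC]
    | add a b ha hb => simp only [map_add, ha, hb]
  have hz : ψ.toLinearMap.rTensor I z = 0 :=
    hinj ((TensorProduct.rid R B').injective (by rw [key, hx, map_zero, map_zero]))
  have hex : Function.Exact (LinearMap.ker ψ.toLinearMap).subtype ψ.toLinearMap :=
    LinearMap.exact_subtype_ker_map _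
  obtain ⟨w, rfl⟩ := (rTensor_exact I hex hsurj z).1 hz
  have : (LinearMap.ker ψ.toLinearMap).subtype.rTensor I = 0 :=
    TensorProduct.ext' fun k i => by
      rw [LinearMap.rTensor_tmul, LinearMap.zero_apply]
      exact tensor_ideal_eq_zero I hI i _ (hker k k.2)
  rw [this, LinearMap.zero_apply, map_zero]

end Aux

open TensorProduct in
/-- Consider surjections A' → A and B' → B with square-zero kernels I and J and a commutative square A'
→ B', A → B. If A → B is étale and J = I ⊗_A B — that is, J = IB' and the multiplication map B'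
⊗_{A'} I → B' is injective — then A' → B' is étale. -/
theorem result (A' : Type u) [CommRing A'] (A : Type u) [CommRing A]
    [Algebra A' A] (hA : Function.Surjective (algebraMap A' A))
    (hI : RingHom.ker (algebraMap A' A) ^ 2 = ⊥)
    (B' : Type u) [CommRing B'] [Algebra A' B'] (B : Type u) [CommRing B] [Algebra B' B]
    [Algebra A B] [Algebra A' B] [IsScalarTower A' A B] [IsScalarTower A' B' B]
    (hB : Function.Surjective (algebraMap B' B)) (hJ : RingHom.ker (algebraMap B' B) ^ 2 = ⊥)
    [Algebra.Etale A B]
    (hJI : RingHom.ker (algebraMap B' B) = (RingHom.ker (algebraMap A' A)).map (algebraMap A' B'))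
    (hinj : Function.Injective ((RingHom.ker (algebraMap A' A)).subtype.baseChange B')) :
    Algebra.Etale A' B' := by
  classical
  letI : Algebra (A' ⧸ RingHom.ker (algebraMap A' A)) A :=
    (Ideal.Quotient.lift _ (algebraMap A' A) fun x hx => hx).toAlgebra
  letI : Algebra (A' ⧸ RingHom.ker (algebraMap A' A)) B :=
    ((algebraMap A B).comp (algebraMap (A' ⧸ RingHom.ker (algebraMap A' A)) A)).toAlgebra
  haveI : IsScalarTower (A' ⧸ RingHom.ker (algebraMap A' A)) A B := IsScalarTower.of_algebraMap_eq' rfl
  haveI : IsScalarTower A' (A' ⧸ RingHom.ker (algebraMap A' A)) B :=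
    IsScalarTower.of_algebraMap_eq fun x => (IsScalarTower.algebraMap_apply A' A B x)
  haveI : Algebra.Etale (A' ⧸ RingHom.ker (algebraMap A' A)) A :=
    Algebra.Etale.of_equiv (AlgEquiv.ofBijective (Algebra.ofId _ A)
      ⟨RingHom.lift_injective_of_ker_le_ideal _ _ le_rfl,
        Ideal.Quotient.lift_surjective_of_surjective _ _ hA⟩)
  haveI : Algebra.Etale (A' ⧸ RingHom.ker (algebraMap A' A)) B :=
    Algebra.Etale.comp _ A B
  obtain ⟨C, _, _, π, hC, hs, hk⟩ :=
    HenselLib.exists_etale_lift_quotient (RingHom.ker (algebraMap A' A)) B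
  let g : B' →ₐ[A'] B := IsScalarTower.toAlgHom A' B' B
  have hn : IsNilpotent (RingHom.ker g.toRingHom) := ⟨2, hJ⟩
  let ψ := Algebra.FormallySmooth.liftOfSurjective π g hB hn
  have hψ : ∀ c, algebraMap B' B (ψ c) = π c := fun c =>
    Algebra.FormallySmooth.liftOfSurjective_apply π g hB hn c
  exact Algebra.Etale.of_equiv (AlgEquiv.ofBijective ψ (bijective_of_lift _ hI ψ
    (fun x hx => hk x (by rw [← hψ, hx, map_zero]))
    (fun b => by
      obtain ⟨c, hc⟩ := hs (algebraMap B' B b)
      exact ⟨c, hJI.le (by rw [RingHom.mem_ker, map_sub, hψ, hc, sub_self])⟩)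
    hinj))

end Groth.Agent.S9462
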