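import Groth.Statements.S9464
import Mathlib


set_option autoImplicit false
universe u
open OmegaSh

namespace Groth.Agent.S9464

/-- A map of localisations induced by a surjection with square zero kernel is again one. -/
theorem surjective_and_sq {B B' BS B'S : Type u} [CommRing B] [CommRing B'] [CommRing BS] [CommRing B'S]
    [Algebra B BS] [Algebra B' B'S] (π : B' →+* B) (hs : Function.Surjective π) (hsq : RingHom.ker π ^ 2 = ⊥)
    (M : Submonoid B') (N : Submonoid B) [IsLocalization M B'S] [IsLocalization N BS]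
    (hMN : ∀ n ∈ N, ∃ m ∈ M, π m = n) (hNM : ∀ m ∈ M, π m ∈ N)
    (πS : B'S →+* BS) (hπS : ∀ x, πS (algebraMap B' B'S x) = algebraMap B BS (π x)) :
    Function.Surjective πS ∧ RingHom.ker πS ^ 2 = ⊥ := by
  constructor
  · intro y
    obtain ⟨⟨b, ⟨n, hn⟩⟩, h⟩ := IsLocalization.surj N y
    obtain ⟨b', rfl⟩ := hs b
    obtain ⟨m, hm, rfl⟩ := hMN n hn
    refine ⟨IsLocalization.mk' B'S b' ⟨m, hm⟩, ?_⟩
    have h1 := congrArg πS (IsLocalization.mk'_spec B'S b' ⟨m, hm⟩)
    rw [map_mul, hπS, hπS] at h1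
    exact (IsLocalization.map_units BS ⟨π m, hn⟩).mul_right_cancel (h1.trans h.symm)
  · have key : ∀ x, πS x = 0 → ∃ (k : B') (m : M), π k = 0 ∧ x * algebraMap B' B'S m = algebraMap B' B'S k := by
      intro x hx
      obtain ⟨⟨b', m⟩, h⟩ := IsLocalization.surj M x
      have h1 := congrArg πS h
      rw [map_mul, hx, zero_mul, hπS] at h1
      obtain ⟨⟨n, hn⟩, h2⟩ := (IsLocalization.map_eq_zero_iff N BS _).mp h1.symm
      obtain ⟨m', hm', rfl⟩ := hMN n hn
      refine ⟨m' * b', ⟨m', hm'⟩ * m, by rw [map_mul]; exact h2, ?_⟩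
      rw [Submonoid.coe_mul, map_mul, map_mul]
      dsimp only at h ⊢
      rw [← h]
      ring
    rw [pow_two, eq_bot_iff]
    refine Ideal.mul_le.mpr fun x hx y hy => ?_
    obtain ⟨k, m, hk, hxm⟩ := key x hx
    obtain ⟨l, n, hl, hyn⟩ := key y hy
    have h0 : k * l = 0 := Ideal.mem_bot.mp (hsq ▸ pow_two (RingHom.ker π) ▸ Ideal.mul_mem_mul hk hl)
    rw [Ideal.mem_bot]
    refine ((IsLocalization.map_units B'S m).mul (IsLocalization.map_units B'S n)).mul_left_eq_zero.mp ?_
    rw [mul_mul_mul_comm, hxm, hyn, ← map_mul, h0, map_zero]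

/-- Elements that are units modulo a square zero ideal are units. -/
theorem isUnit_of_quotient {C : Type u} [CommRing C] (I : Ideal C) (hI : I ^ 2 = ⊥) (c : C)
    (h : IsUnit (Ideal.Quotient.mk I c)) : IsUnit c := by
  obtain ⟨d, hd⟩ := h.exists_right_inv
  obtain ⟨d, rfl⟩ := Ideal.Quotient.mk_surjective d
  rw [← map_mul, ← map_one (Ideal.Quotient.mk I), Ideal.Quotient.eq] at hd
  have h2 : (c * d - 1) * (c * d - 1) = 0 := Ideal.mem_bot.mp (hI ▸ pow_two I ▸ Ideal.mul_mem_mul hd hd)
  exact IsUnit.of_mul_eq_one (d * (2 - c * d)) (by linear_combination -h2)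

/-- Let A → B be formally unramified, π : B' → B a universal first order thickening of B relative to A,
S ⊆ B a multiplicative subset and S' = π⁻¹(S) ⊆ B'. With B_S the localization of B at S, B'_{S'} the
localization of B' at S' (both as A-algebras) and π' : B'_{S'} → B_S the A-algebra map induced by π,
the map π' is a universal first order thickening of B_S relative to A. (The published statement adds
the consequence that the conormal module localizes accordingly.) -/
theorem result (A B B' : Type u) [CommRing A] [CommRing B]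
    [CommRing B'] [Algebra A B] [Algebra.FormallyUnramified A B] [Algebra A B'] (π : B' →ₐ[A] B)
    (hπ : OmegaSh.IsUnivThickeningRing A B B' π) (S : Submonoid B)
    (BS B'S : Type u) [CommRing BS] [CommRing B'S]
    [Algebra B BS] [IsLocalization S BS]
    [Algebra B' B'S] [IsLocalization (S.comap π.toRingHom.toMonoidHom) B'S]
    [Algebra A BS] [IsScalarTower A B BS] [Algebra A B'S] [IsScalarTower A B' B'S]
    (πS : B'S →ₐ[A] BS) (hπS : ∀ x : B', πS (algebraMap B' B'S x) = algebraMap B BS (π x)) :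
    OmegaSh.IsUnivThickeningRing A BS B'S πS := by
  obtain ⟨hs, hsq, huniv⟩ := hπ
  obtain ⟨h1, h2⟩ := surjective_and_sq π.toRingHom hs hsq (S.comap π.toRingHom.toMonoidHom) S
    (fun n hn => (hs n).elim fun m hm => ⟨m, show π m ∈ S from hm.symm ▸ hn, hm⟩) (fun m hm => hm) πS.toRingHom hπS
  refine ⟨h1, h2, fun C _ _ I hI a => ?_⟩
  obtain ⟨g, hg, hgu⟩ := huniv C I hI (a.comp (IsScalarTower.toAlgHom A B BS))
  have hg' : ∀ x, Ideal.Quotient.mk I (g x) = a (algebraMap B BS (π x)) := fun x => AlgHom.congr_fun hg x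
  have hu : ∀ m : S.comap π.toRingHom.toMonoidHom, IsUnit (g m) := fun m => isUnit_of_quotient I hI _ (by
    rw [hg']
    exact (IsLocalization.map_units BS ⟨π (m : B'), m.2⟩).map a)
  refine ⟨IsLocalization.liftAlgHom (M := S.comap π.toRingHom.toMonoidHom) (S := B'S) hu, ?_, fun g' hg'' => ?_⟩
  · refine AlgHom.coe_ringHom_injective (IsLocalization.ringHom_ext (S.comap π.toRingHom.toMonoidHom) (RingHom.ext fun x => ?_))
    simp [hg', hπS]
  · refine AlgHom.coe_ringHom_injective (IsLocalization.ringHom_ext (S.comap π.toRingHom.toMonoidHom) (RingHom.ext fun x => ?_))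
    have h3 : g'.comp (IsScalarTower.toAlgHom A B' B'S) = g := hgu _ (AlgHom.ext fun y => by
      have := AlgHom.congr_fun hg'' (algebraMap B' B'S y)
      simpa [hπS] using this)
    simpa using AlgHom.congr_fun h3 x

end Groth.Agent.S9464
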