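import Groth.Statements.S9472
import Groth.Agent.UnivFlat23.DiffExt

set_option autoImplicit false
universe u
open Diff16

namespace Groth.Agent.S9472

open TensorProduct in
/-- Let R → S → S' be ring maps with S → S' formally étale, M an S-module and (P, D_u) a module of
principal parts of order k of M relative to R → S, i.e. D_u : M → P is a differential operator of
order at most k through which every differential operator of order at most k from M to an S-module
factors by a unique S-linear map. If D_u' : S' ⊗_S M → S' ⊗_S P is a differential operator of order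
at most k relative to R → S' with D_u'(1 ⊗ m) = 1 ⊗ D_u(m), then (S' ⊗_S P, D_u') is a module of
principal parts of order k of S' ⊗_S M relative to R → S'. (The published statement writes this as
an identification of S' ⊗_S P^k_{S/R}(M) with P^k_{S'/R}(M') and forms M' by base change over R
rather than over S; with base change over R the identification fails already for k = 0, R the
rationals, S = S' a polynomial ring in one variable and M = S, and the published proof computes with
the base change over S, used here. Target modules are taken in one universe.) -/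
theorem result (R S S' : Type u) [CommRing R]
    [CommRing S] [CommRing S'] [Algebra R S] [Algebra R S'] [Algebra S S'] [IsScalarTower R S S']
    [Algebra.FormallyEtale S S'] (M : Type u) [AddCommGroup M] [Module S M] [Module R M]
    [IsScalarTower R S M] (k : ℕ) (P : Type u) [AddCommGroup P] [Module S P] [Module R P]
    [IsScalarTower R S P] (Du : M →ₗ[R] P) (hDu : Diff16.IsDiffOpLE R S M P k Du)
    (huniv : ∀ (N : Type u) [AddCommGroup N] [Module S N] [Module R N] [IsScalarTower R S N]
      (D : M →ₗ[R] N), Diff16.IsDiffOpLE R S M N k D → ∃! α : P →ₗ[S] N, α.restrictScalars R ∘ₗ Du = D)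
    (Du' : S' ⊗[S] M →ₗ[R] S' ⊗[S] P) (hDu' : Diff16.IsDiffOpLE R S' (S' ⊗[S] M) (S' ⊗[S] P) k Du')
    (hext : Du' ∘ₗ (TensorProduct.mk S S' M 1).restrictScalars R =
      (TensorProduct.mk S S' P 1).restrictScalars R ∘ₗ Du) :
    ∀ (N' : Type u) [AddCommGroup N'] [Module S' N'] [Module R N'] [IsScalarTower R S' N']
      (D' : S' ⊗[S] M →ₗ[R] N'), Diff16.IsDiffOpLE R S' (S' ⊗[S] M) N' k D' →
        ∃! α : S' ⊗[S] P →ₗ[S'] N', α.restrictScalars R ∘ₗ Du' = D' := by
  intro N' _ _ _ _ D' hD'
  letI : Module S N' := Module.compHom N' (algebraMap S S')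
  haveI : IsScalarTower S S' N' := IsScalarTower.of_algebraMap_smul fun _ _ => rfl
  haveI : IsScalarTower R S N' := IsScalarTower.to₁₂₄ R S S' N'
  have hres : ∀ {M₁ : Type u} [AddCommGroup M₁] [Module S M₁] [Module S' M₁] [IsScalarTower S S' M₁] [Module R M₁]
      [IsScalarTower R S M₁] [IsScalarTower R S' M₁] {j : ℕ} {F : M₁ →ₗ[R] N'},
      Diff16.IsDiffOpLE R S' M₁ N' j F → Diff16.IsDiffOpLE R S M₁ N' j F := by
    intro M₁ _ _ _ _ _ _ _ j
    induction j with
    | zero =>
      intro F hF b m
      rw [← algebraMap_smul S' b m, hF, algebraMap_smul]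
    | succ j ih =>
      intro F hF b
      have h := ih (hF (algebraMap S S' b))
      convert h using 1
      refine LinearMap.ext fun m => ?_
      simp [algebraMap_smul]
  have hE : Diff16.IsDiffOpLE R S M N' k (D' ∘ₗ (TensorProduct.mk S S' M 1).restrictScalars R) := by
    have h0 : Diff16.IsDiffOpLE R S M (S' ⊗[S] M) 0 ((TensorProduct.mk S S' M 1).restrictScalars R) :=
      fun b m => LinearMap.map_smul (TensorProduct.mk S S' M 1) b m
    simpa using DiffOp.diffOp_comp h0 (hres hD')
  obtain ⟨α₀, hα₀, hα₀u⟩ := huniv N' _ hE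
  obtain ⟨E, hEu, hEuu⟩ := UnivFlat23.existsUnique_extension (S' := S') (TensorProduct.mk S S' M 1)
    (TensorProduct.isBaseChange S M S') _ hE
  have hcomp : ∀ α : S' ⊗[S] P →ₗ[S'] N', Diff16.IsDiffOpLE R S' (S' ⊗[S] M) N' k (α.restrictScalars R ∘ₗ Du') := by
    intro α
    have h0 : Diff16.IsDiffOpLE R S' (S' ⊗[S] P) N' 0 (α.restrictScalars R) := fun b m => LinearMap.map_smul α b m
    simpa using DiffOp.diffOp_comp hDu' h0
  have key : ∀ α : S' ⊗[S] P →ₗ[S'] N', (α.restrictScalars R ∘ₗ Du') ∘ₗ (TensorProduct.mk S S' M 1).restrictScalars R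
      = ((α.restrictScalars S) ∘ₗ TensorProduct.mk S S' P 1).restrictScalars R ∘ₗ Du := by
    intro α
    rw [LinearMap.comp_assoc, hext]
    rfl
  refine ⟨LinearMap.liftBaseChange S' α₀, ?_, fun α hα => ?_⟩
  · refine (hEuu _ ⟨hcomp _, ?_⟩).trans (hEuu D' ⟨hD', rfl⟩).symm
    rw [key, ← hα₀]
    refine LinearMap.ext fun m => ?_
    simp
  · refine (LinearMap.liftBaseChangeEquiv S').symm.injective ?_
    rw [show (LinearMap.liftBaseChangeEquiv S').symm (LinearMap.liftBaseChange S' α₀) = α₀ from
      LinearEquiv.symm_apply_apply (LinearMap.liftBaseChangeEquiv S') α₀]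
    refine hα₀u _ ?_
    refine Eq.trans ?_ (congrArg (fun t => t ∘ₗ (TensorProduct.mk S S' M 1).restrictScalars R) hα)
    refine (Eq.trans ?_ (key α).symm)
    refine LinearMap.ext fun m => ?_
    simp

end Groth.Agent.S9472
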