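import Groth.Statements.S9474
import Mathlib.RingTheory.Kaehler.Basic
import Mathlib.RingTheory.Kaehler.Polynomial
-- import your own Groth.Agent.* helpers here

set_option autoImplicit false
universe u
open CAlg
open TensorProduct

namespace Groth.Agent.S9474


open TensorProduct in
theorem fu_of_D (R S : Type u) [CommRing R] [CommRing S] [Algebra R S]
    (hD : ∀ s : S, KaehlerDifferential.D R S s = 0) : Algebra.FormallyUnramified R S := by
  refine ⟨subsingleton_of_forall_eq 0 fun z => ?_⟩
  have : z ∈ Submodule.span S (Set.range (KaehlerDifferential.D R S)) := by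
    rw [KaehlerDifferential.span_range_derivation]; trivial
  induction this using Submodule.span_induction with
  | mem x hx => obtain ⟨s, rfl⟩ := hx; exact hD s
  | zero => rfl
  | add x y _ _ hx hy => rw [hx, hy, add_zero]
  | smul a x _ hx => rw [hx, smul_zero]

theorem fu_of_jac {R S : Type u} [CommRing R] [CommRing S] [Algebra R S] {n : ℕ} (x : Fin n → S)
    (hx : Function.Surjective (MvPolynomial.aeval (R := R) x)) (g : Fin n → MvPolynomial (Fin n) R)
    (hg : ∀ i, MvPolynomial.aeval x (g i) = 0)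
    (hj : ∀ i k, MvPolynomial.aeval x (MvPolynomial.pderiv k (g i)) = if i = k then 1 else 0) :
    Algebra.FormallyUnramified R S := by
  classical
  have key : ∀ p : MvPolynomial (Fin n) R, KaehlerDifferential.D R S (MvPolynomial.aeval x p) =
      ∑ k, MvPolynomial.aeval x (MvPolynomial.pderiv k p) • KaehlerDifferential.D R S (x k) := by
    intro p
    induction p using MvPolynomial.induction_on with
    | C r => simp [← MvPolynomial.algebraMap_eq]
    | add p q hp hq => simp [hp, hq, add_smul, Finset.sum_add_distrib]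
    | mul_X p i hp =>
      rw [map_mul, MvPolynomial.aeval_X, Derivation.leibniz, hp, Finset.smul_sum]
      simp [Derivation.leibniz, MvPolynomial.pderiv_X, add_smul, Finset.sum_add_distrib, smul_smul,
        Pi.single_apply, mul_comm, apply_ite, ite_smul]
  have h0 : ∀ i, KaehlerDifferential.D R S (x i) = 0 := by
    intro i
    have h1 := key (g i)
    simp only [hg, map_zero, hj, ite_smul, one_smul, zero_smul, Finset.sum_ite_eq, Finset.mem_univ,
      if_true] at h1
    exact h1.symm
  refine fu_of_D R S fun s => ?_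
  obtain ⟨p, rfl⟩ := hx s
  rw [key]
  exact Finset.sum_eq_zero fun k _ => by rw [h0, smul_zero]

/-- If R → S is unramified (of finite type with vanishing module of differentials), then there are a
finite type ℤ-algebra R₀, an unramified R₀-algebra S₀, a ring map R₀ → R, and a surjective R-algebra
map from R ⊗_{R₀} S₀ onto S. -/
theorem result (R : Type u) [CommRing R] (S : Type u)
    [CommRing S] [Algebra R S] [Algebra.Unramified R S] :
    ∃ (R₀ : Type u) (_ : CommRing R₀) (_ : Algebra.FiniteType ℤ R₀) (S₀ : Type u) (_ : CommRing S₀)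
      (_ : Algebra R₀ S₀) (_ : Algebra.Unramified R₀ S₀) (_ : Algebra R₀ R)
      (ψ : R ⊗[R₀] S₀ →ₐ[R] S), Function.Surjective ψ := by
  classical
  obtain ⟨n, φ, hφ⟩ := Algebra.FiniteType.iff_quotient_mvPolynomial''.1 (inferInstance : Algebra.FiniteType R S)
  letI : Algebra (MvPolynomial (Fin n) R) S := φ.toRingHom.toAlgebra
  haveI : IsScalarTower R (MvPolynomial (Fin n) R) S := IsScalarTower.of_algebraMap_eq' φ.comp_algebraMap.symm
  let T := S ⊗[MvPolynomial (Fin n) R] Ω[MvPolynomial (Fin n) R⁄R]
  have hsurj : Function.Surjective (KaehlerDifferential.kerCotangentToTensor R (MvPolynomial (Fin n) R) S) := by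
    intro x
    exact (KaehlerDifferential.exact_kerCotangentToTensor_mapBaseChange R (MvPolynomial (Fin n) R) S hφ x).1
      (Subsingleton.elim _ _)
  have hex : ∀ i : Fin n, ∃ f : MvPolynomial (Fin n) R, φ f = 0 ∧
      ∀ k, φ (MvPolynomial.pderiv k f) = if i = k then 1 else 0 := by
    intro i
    obtain ⟨x, hx⟩ := hsurj (1 ⊗ₜ KaehlerDifferential.D _ _ (MvPolynomial.X i))
    obtain ⟨f, rfl⟩ := Ideal.toCotangent_surjective _ x
    rw [KaehlerDifferential.kerCotangentToTensor_toCotangent] at hx
    refine ⟨f.1, f.2, fun k => ?_⟩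
    have := congrArg (fun z => ((KaehlerDifferential.mvPolynomialBasis R (Fin n)).baseChange S).repr z k) hx
    simp only [Module.Basis.baseChange_repr_tmul, KaehlerDifferential.mvPolynomialBasis_repr_apply,
      KaehlerDifferential.mvPolynomialBasis_repr_D_X, Finsupp.single_apply] at this
    rw [Algebra.smul_def, mul_one] at this
    refine this.trans ?_
    split_ifs <;> simp [Algebra.smul_def]
  choose f hf0 hf using hex
  let A₀ : Subalgebra ℤ R := Algebra.adjoin ℤ (⋃ i, ((f i).coeffs : Set R))
  have hA : Algebra.FiniteType ℤ A₀ :=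
    Algebra.FiniteType.adjoin_of_finite (Set.finite_iUnion fun i => Finset.finite_toSet _)
  have hlift : ∀ i, ∃ g : MvPolynomial (Fin n) A₀, MvPolynomial.map (algebraMap A₀ R) g = f i := by
    intro i
    have : f i ∈ Set.range (MvPolynomial.map (algebraMap A₀ R)) := by
      rw [MvPolynomial.mem_range_map_iff_coeffs_subset]
      exact fun x hx => ⟨⟨x, Algebra.subset_adjoin (Set.mem_iUnion.2 ⟨i, hx⟩)⟩, rfl⟩
    exact this
  choose g hg using hlift
  let I : Ideal (MvPolynomial (Fin n) A₀) := Ideal.span (Set.range g ∪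
    Set.range fun p : Fin n × Fin n => MvPolynomial.pderiv p.2 (g p.1) - if p.1 = p.2 then 1 else 0)
  let S₀ := MvPolynomial (Fin n) A₀ ⧸ I
  have hmk : MvPolynomial.aeval (R := A₀) (fun k => Ideal.Quotient.mk I (MvPolynomial.X k)) = Ideal.Quotient.mkₐ A₀ I :=
    MvPolynomial.algHom_ext fun k => by simp
  have hunr : Algebra.FormallyUnramified A₀ S₀ := by
    refine fu_of_jac (fun k => Ideal.Quotient.mk I (MvPolynomial.X k)) ?_ g (fun i => ?_) (fun i k => ?_)
    · rw [hmk]; exact Ideal.Quotient.mk_surjective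
    · rw [hmk]
      exact Ideal.Quotient.eq_zero_iff_mem.2 (Ideal.subset_span (Or.inl ⟨i, rfl⟩))
    · rw [hmk, Ideal.Quotient.mkₐ_eq_mk]
      rw [show (if i = k then (1 : S₀) else 0) = Ideal.Quotient.mk I (if i = k then 1 else 0) by
        split_ifs <;> simp]
      exact Ideal.Quotient.eq.2 (Ideal.subset_span (Or.inr ⟨(i, k), rfl⟩))
  have hu : Algebra.Unramified A₀ S₀ := ⟨hunr, inferInstance⟩
  let a : MvPolynomial (Fin n) A₀ →ₐ[A₀] S :=
    (φ.restrictScalars A₀).comp (MvPolynomial.mapAlgHom (Algebra.ofId A₀ R))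
  have ha : ∀ q, a q = φ (MvPolynomial.map (algebraMap A₀ R) q) := fun q => rfl
  have hI : ∀ q ∈ I, a q = 0 := by
    intro q hq
    refine (Ideal.span_le (I := RingHom.ker a.toRingHom)).2 ?_ hq
    rintro _ (⟨i, rfl⟩ | ⟨⟨i, k⟩, rfl⟩)
    · show a (g i) = 0
      rw [ha, hg, hf0]
    · show a _ = 0
      rw [ha, map_sub, ← MvPolynomial.pderiv_map, hg, map_sub, hf]
      split_ifs <;> simp
  let b : S₀ →ₐ[A₀] S := Ideal.Quotient.liftₐ I a hI
  refine ⟨A₀, inferInstance, hA, S₀, inferInstance, inferInstance, hu, inferInstance,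
    Algebra.TensorProduct.lift (Algebra.ofId R S) b (fun _ _ => Commute.all _ _), ?_⟩
  intro s
  obtain ⟨q, rfl⟩ := hφ s
  induction q using MvPolynomial.induction_on with
  | C r => exact ⟨r ⊗ₜ 1, by simp [← MvPolynomial.algebraMap_eq]⟩
  | add p q hp hq =>
    obtain ⟨u, hu⟩ := hp; obtain ⟨v, hv⟩ := hq
    exact ⟨u + v, by rw [map_add, hu, hv, map_add]⟩
  | mul_X p i hp =>
    obtain ⟨u, hu⟩ := hp
    refine ⟨u * (1 ⊗ₜ Ideal.Quotient.mk I (MvPolynomial.X i)), ?_⟩
    rw [map_mul, hu, map_mul, Algebra.TensorProduct.lift_tmul, map_one, one_mul]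
    congr 1
    show a (MvPolynomial.X i) = _
    rw [ha, MvPolynomial.map_X]

end Groth.Agent.S9474
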