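import Groth.Statements.S9488
import Groth.Agent.FEtGalois.NormalFun
import Groth.Agent.FEtGalois.PointsNormal
import Groth.Agent.FEtGalois.Fibres
-- import your own Groth.Agent.* helpers here

set_option autoImplicit false
set_option linter.style.haveILetI false
set_option backward.isDefEq.respectTransparency false
set_option maxHeartbeats 2000000
universe u
open Pi1

namespace Groth.Agent.S9488

open FEtGalois
open AlgebraicGeometry CategoryTheory CategoryTheory.Limits

variable {X : Scheme.{u}} [IsIntegral X] (L : Type u) [Field L] [Algebra X.functionField L]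
  [FiniteDimensional X.functionField L] [QuasiCompact (fieldPt (X := X) L)] [QuasiSeparated (fieldPt (X := X) L)]

/-- The sections of the field point over a non-empty affine open are the field. -/
theorem exists_algEquiv {U : X.Opens} (hU : IsAffineOpen U) (hηU : genericPoint X ∈ U)
    [Algebra Γ(X, U) L] (h : (algebraMap X.functionField L).comp (X.presheaf.germ U _ hηU).hom = algebraMap Γ(X, U) L) :
    letI := ((fieldPt (X := X) L).app U).hom.toAlgebra
    Nonempty (Γ(Spec (CommRingCat.of L), fieldPt (X := X) L ⁻¹ᵁ U) ≃ₐ[Γ(X, U)] L) := by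
  letI := ((fieldPt (X := X) L).app U).hom.toAlgebra
  obtain ⟨a, β, hβ, hβU, -, -, -⟩ := exists_setup L hU hηU
  let q := Spec.preimage a.hom
  have hq : Spec.map q = a.hom := Spec.map_preimage _
  haveI : IsIso (Spec.map q) := by rw [hq]; infer_instance
  have hqb : Function.Bijective q.hom := isIso_SpecMap_iff.1 inferInstance
  have hqβ : q.hom.comp β = algebraMap X.functionField L := by
    have h1 : CommRingCat.ofHom β ≫ q = CommRingCat.ofHom (algebraMap X.functionField L) :=
      Spec.map_injective (by rw [Spec.map_comp, hq, hβ])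
    exact congrArg CommRingCat.Hom.hom h1
  refine ⟨AlgEquiv.ofRingEquiv (f := RingEquiv.ofBijective q.hom hqb) fun r => ?_⟩
  rw [← h, ← hqβ]
  exact congrArg q.hom (RingHom.congr_fun hβU r).symm

open AlgebraicGeometry CategoryTheory CategoryTheory.Limits in
/-- The criterion by the cardinality of a geometric fibre, in the local form its proof establishes: X is
an integral scheme with integrally closed local rings and function field K; L is a finite field
extension of K and ν : Y ⟶ X the normalization of X in Spec L. Let ξ : Spec Ω ⟶ X be a geometric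
point (Ω algebraically closed) such that the fibre of ν over ξ is etale and ν has at least [L : K]
distinct Ω-points lying over ξ. Then ν is finite etale over some open neighbourhood of the image of
ξ. Consequently ν is finite etale as soon as every scheme-theoretic fibre of ν is etale of degree at
least [L : K]. -/
theorem result {X : Scheme.{u}} [IsIntegral X] (hX : Pi1.IsNormalScheme X)
    (L : Type u) [Field L] [Algebra X.functionField L] [FiniteDimensional X.functionField L]
    [QuasiCompact (Spec.map (CommRingCat.ofHom (algebraMap X.functionField L)) ≫ X.fromSpecStalk (genericPoint X))] [QuasiSeparated (Spec.map (CommRingCat.ofHom (algebraMap X.functionField L)) ≫ X.fromSpecStalk (genericPoint X))]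
    (Ω : Type u) [Field Ω] [IsAlgClosed Ω] (ξ : Spec (CommRingCat.of Ω) ⟶ X)
    (het : Etale (pullback.snd (Spec.map (CommRingCat.ofHom (algebraMap X.functionField L)) ≫ X.fromSpecStalk (genericPoint X)).fromNormalization ξ))
    (hcard : Nonempty (Fin (Module.finrank X.functionField L) ↪
      {η : Spec (CommRingCat.of Ω) ⟶ (Spec.map (CommRingCat.ofHom (algebraMap X.functionField L)) ≫ X.fromSpecStalk (genericPoint X)).normalization // η ≫ (Spec.map (CommRingCat.ofHom (algebraMap X.functionField L)) ≫ X.fromSpecStalk (genericPoint X)).fromNormalization = ξ})) :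
    ∃ U : X.Opens, Set.range ξ.base ⊆ (U : Set X) ∧
      Etale (pullback.snd (Spec.map (CommRingCat.ofHom (algebraMap X.functionField L)) ≫ X.fromSpecStalk (genericPoint X)).fromNormalization U.ι) ∧
      IsFinite (pullback.snd (Spec.map (CommRingCat.ofHom (algebraMap X.functionField L)) ≫ X.fromSpecStalk (genericPoint X)).fromNormalization U.ι) := by
  classical
  let f := fieldPt (X := X) L
  haveI : QuasiCompact f := ‹_›
  haveI : QuasiSeparated f := ‹_›
  obtain ⟨η⟩ := hcard
  obtain ⟨U, hU, hxU, -⟩ := exists_isAffineOpen_mem_and_subset (X := X) (x := ξ default) (U := ⊤) (Set.mem_univ _)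
  have hηU : genericPoint X ∈ U := (genericPoint_specializes _).mem_open U.2 hxU
  haveI : Nonempty U := ⟨⟨_, hηU⟩⟩
  haveI := functionField_isFractionRing_of_isAffineOpen X U hU
  haveI := isIntegrallyClosed_app hX hU
  letI : Algebra Γ(X, U) L := ((algebraMap X.functionField L).comp (algebraMap Γ(X, U) X.functionField)).toAlgebra
  haveI : IsScalarTower Γ(X, U) X.functionField L := .of_algebraMap_eq fun _ => rfl
  letI : Algebra Γ(X, U) Γ(Spec (CommRingCat.of L), f ⁻¹ᵁ U) := (f.app U).hom.toAlgebra
  obtain ⟨eA⟩ := exists_algEquiv L hU hηU rfl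
  obtain ⟨a, ha⟩ := exists_chart_point_of_mem ⟨U, hU⟩ ξ hxU
  have hsq := isPullback_chart f ⟨U, hU⟩
  let lift₀ := fun k => hsq.lift (η k).1 (Spec.map a) ((η k).2.trans ha)
  let χ : Fin (Module.finrank X.functionField L) → (integralClosure Γ(X, U) L →+* Ω) := fun k =>
    (Spec.preimage (lift₀ k)).hom.comp eA.mapIntegralClosure.symm.toAlgHom.toRingHom
  have hχ : Function.Injective χ := fun i j h => η.injective (Subtype.ext (by
    have h1 : Spec.preimage (lift₀ i) = Spec.preimage (lift₀ j) := CommRingCat.hom_ext (RingHom.ext fun z => by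
      have := RingHom.congr_fun h (eA.mapIntegralClosure z)
      rw [← eA.mapIntegralClosure.symm_apply_apply z]
      exact this)
    have h2 : lift₀ i = lift₀ j := by rw [← Spec.map_preimage (lift₀ i), ← Spec.map_preimage (lift₀ j), h1]
    have h3 := congrArg (· ≫ f.normalizationOpenCover.f ⟨U, hU⟩) h2
    simp only [lift₀, IsPullback.lift_fst] at h3
    exact h3))
  have hφ : ∀ k, (χ k).comp (algebraMap Γ(X, U) _) = a.hom := fun k => by
    have h1 : f.normalizationDiagramMap.app (Opposite.op U) ≫ Spec.preimage (lift₀ k) = a :=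
      Spec.map_injective (by rw [Spec.map_comp, Spec.map_preimage]; exact hsq.lift_snd _ _ _)
    refine RingHom.ext fun r => ?_
    refine Eq.trans ?_ (RingHom.congr_fun (congrArg CommRingCat.Hom.hom h1) r)
    exact congrArg (Spec.preimage (lift₀ k)).hom (eA.mapIntegralClosure.symm.commutes r)
  obtain ⟨b, d, hd, hdisc⟩ := exists_basis_discr (K := X.functionField) (L := L) a.hom rfl χ hχ hφ
  let D := X.basicOpen d
  have hDU : D ≤ U := X.basicOpen_le d
  have hxD : ξ default ∈ D := by
    have h1 : Spec.map a default ∈ hU.fromSpec ⁻¹ᵁ D := by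
      rw [hU.fromSpec_preimage_basicOpen]
      intro hmem
      have hbot : ∀ p : PrimeSpectrum Ω, p.asIdeal = ⊥ := fun p =>
        (Ideal.eq_bot_or_top _).resolve_right p.isPrime.ne_top
      generalize (default : Spec (CommRingCat.of Ω)) = q at hmem
      have h3 : a.hom d ∈ (q : PrimeSpectrum Ω).asIdeal := hmem
      rw [hbot] at h3
      exact hd h3
    rw [ha]
    exact h1
  refine ⟨D, by rintro _ ⟨p, rfl⟩; rw [Subsingleton.elim p default]; exact hxD, ?_⟩
  have hD : IsAffineOpen D := hU.basicOpen d
  have hηD : genericPoint X ∈ D := (genericPoint_specializes _).mem_open D.2 hxD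
  haveI : Nonempty D := ⟨⟨_, hηD⟩⟩
  haveI := functionField_isFractionRing_of_isAffineOpen X D hD
  haveI := isIntegrallyClosed_app hX hD
  letI : Algebra Γ(X, U) Γ(X, D) := (X.presheaf.map (homOfLE hDU).op).hom.toAlgebra
  haveI : IsLocalization.Away d Γ(X, D) := hU.isLocalization_basicOpen d
  haveI : IsScalarTower Γ(X, U) Γ(X, D) X.functionField := .of_algebraMap_eq fun r =>
    (TopCat.Presheaf.germ_res_apply X.presheaf (homOfLE hDU) _ hηD r).symm
  letI : Algebra Γ(X, D) L := ((algebraMap X.functionField L).comp (algebraMap Γ(X, D) X.functionField)).toAlgebra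
  haveI : IsScalarTower Γ(X, D) X.functionField L := .of_algebraMap_eq fun _ => rfl
  haveI : IsScalarTower Γ(X, U) Γ(X, D) L := .of_algebraMap_eq fun r =>
    congrArg (algebraMap X.functionField L) (IsScalarTower.algebraMap_apply Γ(X, U) Γ(X, D) X.functionField r)
  let b' : ULift.{u} (Fin (Module.finrank X.functionField L)) → integralClosure Γ(X, D) L := fun k =>
    ⟨(b k.down : L), (b k.down).2.tower_top⟩
  obtain ⟨hfin, het'⟩ := finite_etale_of_discr (K := X.functionField) (L := L) (by simp) b' (algebraMap Γ(X, U) Γ(X, D) d)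
    (IsLocalization.Away.algebraMap_isUnit d) (by
      rw [← IsScalarTower.algebraMap_apply, hdisc, Algebra.discr_def, Algebra.discr_def,
        ← Matrix.det_reindex_self Equiv.ulift.{u}.symm]
      rfl)
  letI : Algebra Γ(X, D) Γ(Spec (CommRingCat.of L), f ⁻¹ᵁ D) := (f.app D).hom.toAlgebra
  obtain ⟨eD⟩ := exists_algEquiv L hD hηD rfl
  haveI : Module.Finite Γ(X, D) (integralClosure Γ(X, D) Γ(Spec (CommRingCat.of L), f ⁻¹ᵁ D)) :=
    Module.Finite.equiv eD.mapIntegralClosure.symm.toLinearEquiv
  haveI : Algebra.Etale Γ(X, D) (integralClosure Γ(X, D) Γ(Spec (CommRingCat.of L), f ⁻¹ᵁ D)) :=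
    Algebra.Etale.of_equiv eD.mapIntegralClosure.symm
  have key : ∀ (P : MorphismProperty Scheme.{u}) [P.RespectsIso],
      P (Spec.map (CommRingCat.ofHom (algebraMap Γ(X, D) (integralClosure Γ(X, D) Γ(Spec (CommRingCat.of L), f ⁻¹ᵁ D))))) →
      P (pullback.snd f.fromNormalization D.ι) := fun P _ h => by
    have h1 : P (Spec.map (f.fromNormalization.app D)) := by
      rw [f.fromNormalization_app hD, Spec.map_comp]
      exact (P.cancel_left_of_respectsIso _ _).2 h
    have h2 := FinLocFree.restrict_of_SpecMap_app P f.fromNormalization hD h1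
    rw [← pullbackRestrictIsoRestrict_hom_morphismRestrict]
    exact (P.cancel_left_of_respectsIso _ _).2 h2
  exact ⟨key @Etale ((HasRingHomProperty.Spec_iff (P := @Etale)).2 (RingHom.etale_algebraMap.2 inferInstance)),
    key @IsFinite ((IsFinite.SpecMap_iff _).2 (RingHom.finite_algebraMap.2 inferInstance))⟩
end Groth.Agent.S9488
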