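import Groth.Statements.S9491
import Groth.Agent.FEtGalois.NormalFun
import Groth.Agent.FEtGalois.Cat
-- import your own Groth.Agent.* helpers here

set_option autoImplicit false
set_option linter.style.haveILetI false
set_option backward.isDefEq.respectTransparency false
universe u
open Pi1

namespace Groth.Agent.S9491

open AlgebraicGeometry CategoryTheory CategoryTheory.Limits in
/-- The essential image of restriction of finite etale covers from a normal integral scheme X to its
generic point Spec K consists of the finite etale K-schemes whose points are spectra of finite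
extensions L of K in which X is unramified. Precisely: let L be a finite field extension of K and Y₀
the object Spec L → Spec K of the category of finite etale covers of Spec K; then Y₀ is isomorphic
to the restriction of a finite etale cover of X if and only if the normalization of X in Spec L is
finite etale over X. (With full faithfulness of this restriction functor for normal X, this says
that the fundamental group of X is the Galois group of the union M of all finite subextensions of a
separable closure in which X is unramified.) -/
theorem result {X : Scheme.{u}} [IsIntegral X] (hX : Pi1.IsNormalScheme X)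
    (L : Type u) [Field L] [Algebra X.functionField L] [FiniteDimensional X.functionField L]
    [QuasiCompact (Spec.map (CommRingCat.ofHom (algebraMap X.functionField L)) ≫ X.fromSpecStalk (genericPoint X))] [QuasiSeparated (Spec.map (CommRingCat.ofHom (algebraMap X.functionField L)) ≫ X.fromSpecStalk (genericPoint X))]
    (Y₀ : FEt.Cat (Spec X.functionField)) (e : Y₀.left ≅ Spec (CommRingCat.of L))
    (he : e.hom ≫ Spec.map (CommRingCat.ofHom (algebraMap X.functionField L)) = Y₀.hom) :
    (FEt.restrict (X.fromSpecStalk (genericPoint X))).essImage Y₀ ↔
      (Etale (Spec.map (CommRingCat.ofHom (algebraMap X.functionField L)) ≫ X.fromSpecStalk (genericPoint X)).fromNormalization ∧ IsFinite (Spec.map (CommRingCat.ofHom (algebraMap X.functionField L)) ≫ X.fromSpecStalk (genericPoint X)).fromNormalization) := by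
  let η := X.fromSpecStalk (genericPoint X)
  let f := Spec.map (CommRingCat.ofHom (algebraMap X.functionField L)) ≫ η
  have hf : f = Spec.map (CommRingCat.ofHom (algebraMap X.functionField L)) ≫ η := rfl
  constructor
  · rintro ⟨Z, ⟨i⟩⟩
    haveI : QuasiCompact η := FEtGalois.quasiCompact_fromSpec_field (K := X.functionField) η
    haveI : QuasiSeparated η := inferInstance
    haveI := FEtGalois.isIso_fromNormalization_fibre hX Z.hom
    let i' : pullback Z.hom η ≅ Y₀.left := ⟨i.hom.left, i.inv.left,
      congrArg (fun k => k.left) i.hom_inv_id, congrArg (fun k => k.left) i.inv_hom_id⟩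
    let a : Spec (CommRingCat.of L) ≅ pullback η Z.hom := e.symm ≪≫ i'.symm ≪≫ pullbackSymmetry _ _
    haveI := FEtGalois.isIso_from_of_iso a (pullback.snd η Z.hom)
    have hi : i.inv.left ≫ pullback.snd Z.hom η = Y₀.hom := MorphismProperty.Over.w i.inv
    have H : f = (a.hom ≫ pullback.snd η Z.hom) ≫ Z.hom := by
      simp only [a, i', Iso.trans_hom, Iso.symm_hom, Category.assoc, pullbackSymmetry_hom_comp_snd_assoc,
        pullback.condition]
      rw [reassoc_of% hi, ← he]
      simp [f]
    haveI := FEtGalois.isIso_desc f (a.hom ≫ pullback.snd η Z.hom) Z.hom H
    rw [show (Spec.map (CommRingCat.ofHom (algebraMap X.functionField L)) ≫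
      X.fromSpecStalk (genericPoint X)).fromNormalization = _ from (f.normalizationDesc_comp _ _ H).symm]
    exact ⟨inferInstance, inferInstance⟩
  · rintro ⟨h1, h2⟩
    let Z : FEt.Cat X := MorphismProperty.Over.mk _ f.fromNormalization ⟨h2, h1⟩
    have hpb := FEtGalois.isPullback_toNormalization (X := X) L
    refine ⟨Z, ⟨MorphismProperty.Over.isoMk (hpb.isoPullback.symm ≪≫ e.symm) ?_⟩⟩
    show (hpb.isoPullback.inv ≫ e.inv) ≫ Y₀.hom = pullback.snd _ _
    rw [← he, Category.assoc, Iso.inv_hom_id_assoc, IsPullback.isoPullback_inv_snd]
end Groth.Agent.S9491
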