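import Groth.Statements.S9502
import Mathlib.AlgebraicGeometry.Morphisms.QuasiCompact


set_option autoImplicit false
universe u
open SchMor

namespace Groth.Agent.S9502

open AlgebraicGeometry in
open CategoryTheory in
/-- Let f : X → Y be a morphism of schemes such that (1) the underlying continuous map of f is a
homeomorphism onto a closed subset of Y and (2) the map of sheaves of rings O_Y → f_*O_X is
surjective (locally surjective on sections). Then f is a closed immersion in the sense of locally
ringed spaces: (1) and (2) hold and (3) the kernel of O_Y → f_*O_X is locally generated by sections,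
i.e. around every point of Y there are sections of O_Y killed in f_*O_X whose germs generate the
kernel of the stalk map O_{Y,y} → (f_*O_X)_y at every nearby point y. (For a morphism of schemes (1)
and (2) alone already give surjective stalk maps; the content of this row is condition (3).) -/
theorem result
    {X Y : Scheme.{u}} (f : X ⟶ Y) (h1 : Topology.IsClosedEmbedding f)
    (h2 : TopCat.Presheaf.IsLocallySurjective f.c) :
    LRSImm.IsClosedImmersion f.toLRSHom := by
  refine ⟨h1, h2, fun x => ?_⟩
  obtain ⟨_, ⟨U, hU, rfl⟩, hxU, -⟩ := Y.isBasis_affineOpens.exists_subset_of_mem_open (Set.mem_univ x) isOpen_univ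
  refine ⟨U, hxU, {s : Γ(Y, U) // f.app U s = 0}, fun j => j.1, fun j => j.2, fun x' hx' => le_antisymm ?_ ?_⟩
  · refine Ideal.span_le.mpr ?_
    rintro _ ⟨j, rfl⟩
    refine (TopCat.Presheaf.stalkFunctor_map_germ_apply U x' hx' f.c j.1).trans ?_
    exact (congrArg _ j.2).trans (map_zero _)
  · intro t ht
    obtain ⟨W, hxW, r, rfl⟩ := TopCat.Presheaf.exists_germ_eq Y.presheaf t
    have h0 : TopCat.Presheaf.germ (f.base _* X.presheaf) W x' hxW (f.app W r) = 0 :=
      (TopCat.Presheaf.stalkFunctor_map_germ_apply W x' hxW f.c r).symm.trans ht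
    rw [← map_zero (TopCat.Presheaf.germ (f.base _* X.presheaf) W x' hxW).hom] at h0
    obtain ⟨W', hxW', iW, iW2, h3⟩ := TopCat.Presheaf.germ_eq _ x' hxW hxW _ _ h0
    rw [map_zero] at h3
    obtain ⟨g, hg, hxg⟩ := hU.exists_basicOpen_le (V := W' ⊓ U) (⟨x', hxW', hx'⟩ : ↥(W' ⊓ U)) hx'
    haveI := hU.isLocalization_basicOpen g
    let i : Y.basicOpen g ⟶ W := homOfLE (hg.trans (inf_le_left.trans iW.le))
    obtain ⟨⟨a, ⟨_, k, rfl⟩⟩, ha⟩ := IsLocalization.surj (Submonoid.powers g) (Y.presheaf.map i.op r)
    have hfr : f.app (Y.basicOpen g) (Y.presheaf.map i.op r) = 0 := by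
      have hnat := ConcreteCategory.congr_hom (f.naturality i.op) r
      refine hnat.trans ?_
      have : i = homOfLE (hg.trans inf_le_left) ≫ iW := Subsingleton.elim _ _
      rw [this]
      have h4 := congrArg ((f.base _* X.presheaf).map (homOfLE (hg.trans inf_le_left)).op) h3
      rw [map_zero, ← ConcreteCategory.comp_apply, ← Functor.map_comp] at h4
      exact h4
    have hfa : f.app (Y.basicOpen g) (algebraMap Γ(Y, U) Γ(Y, Y.basicOpen g) a) = 0 := by
      rw [← ha, map_mul, hfr, zero_mul]
    have hcpt : IsCompact (f ⁻¹ᵁ U : Set X) := h1.isCompact_preimage hU.isCompact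
    have hres : TopCat.Presheaf.restrictOpen (f.app U a) (X.basicOpen (f.app U g)) (X.basicOpen_le _) = 0 := by
      have hnat := ConcreteCategory.congr_hom (f.naturality (homOfLE (Y.basicOpen_le g)).op) a
      have e := Scheme.preimage_basicOpen f g
      have h5 : X.presheaf.map ((TopologicalSpace.Opens.map f.base).map (homOfLE (Y.basicOpen_le g))).op (f.app U a) = 0 :=
        hnat.symm.trans hfa
      have h6 := congrArg (X.presheaf.map (homOfLE e.ge).op) h5
      rw [map_zero, ← ConcreteCategory.comp_apply, ← Functor.map_comp] at h6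
      exact h6
    obtain ⟨m, hm⟩ := exists_pow_mul_eq_zero_of_res_basicOpen_eq_zero_of_isCompact X hcpt _ _ hres
    have hker : f.app U (g ^ m * a) = 0 := by rw [map_mul, map_pow]; exact hm
    have hmem : Y.presheaf.germ U x' hx' (g ^ m * a) ∈
        Ideal.span (Set.range fun j : {s : Γ(Y, U) // f.app U s = 0} => Y.presheaf.germ U x' hx' j.1) :=
      Ideal.subset_span ⟨⟨_, hker⟩, rfl⟩
    have hu : IsUnit (Y.presheaf.germ U x' hx' g) := (Y.mem_basicOpen g x' hx').1 hxg
    have ha' := congrArg (Y.presheaf.germ (Y.basicOpen g) x' hxg) ha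
    rw [map_mul] at ha'
    erw [TopCat.Presheaf.germ_res_apply, TopCat.Presheaf.germ_res_apply, TopCat.Presheaf.germ_res_apply, map_pow] at ha'
    refine (Ideal.unit_mul_mem_iff_mem _ ((hu.pow m).mul (hu.pow k))).1 ?_
    rw [mul_assoc, mul_comm (_ ^ k), ha', ← map_pow, ← map_mul]
    exact hmem

end Groth.Agent.S9502
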