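import Groth.Statements.S9505
import Groth.Agent.LRSClosed.Restrict
-- import your own Groth.Agent.* helpers here

set_option autoImplicit false
universe u
open LRSImm

namespace Groth.Agent.S9505

open AlgebraicGeometry in
open CategoryTheory in
/-- Let X be a scheme and i : Z → X a closed immersion of locally ringed spaces: a homeomorphism onto a
closed subset of X such that O_X → i_*O_Z is surjective as a map of sheaves and its kernel is
locally generated by sections. Then the locally ringed space Z is a scheme and i is a closed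
immersion of schemes (affine-locally of the form Spec(R/I) → Spec R): there are a scheme Z' and an
isomorphism of locally ringed spaces Z' ≅ Z whose composite with i is a closed immersion of schemes
Z' → X. -/
theorem result
    (X : Scheme.{u}) (Z : LocallyRingedSpace.{u}) (i : Z ⟶ X.toLocallyRingedSpace)
    (hi : LRSImm.IsClosedImmersion i) :
    ∃ (Z' : Scheme.{u}) (e : Z'.toLocallyRingedSpace ≅ Z),
      AlgebraicGeometry.IsClosedImmersion (Scheme.Hom.mk (e.hom ≫ i) : Z' ⟶ X) := by
  classical
  have hloc : ∀ z : Z.toTopCat, ∃ (V : TopologicalSpace.OpenNhds z) (R : CommRingCat.{u}),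
      Nonempty (Z.restrict V.isOpenEmbedding ≅ Spec.toLocallyRingedSpace.obj (Opposite.op R)) := by
    intro z
    obtain ⟨_, ⟨U, hU, rfl⟩, hzU, -⟩ :=
      X.isBasis_affineOpens.exists_subset_of_mem_open (Set.mem_univ (i.base z)) isOpen_univ
    let j : (Spec Γ(X, U)).toLocallyRingedSpace ⟶ X.toLocallyRingedSpace := hU.fromSpec.toLRSHom
    haveI hj : LocallyRingedSpace.IsOpenImmersion j := (inferInstance : IsOpenImmersion hU.fromSpec)
    have hrj : Set.range j.base = (U : Set X) := hU.range_fromSpec
    let V : TopologicalSpace.OpenNhds z :=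
      ⟨(TopologicalSpace.Opens.map i.base).obj U, hzU⟩
    let k := Z.ofRestrict V.isOpenEmbedding
    have hsub : Set.range (k ≫ i).base ⊆ Set.range j.base := by
      rw [hrj]
      rintro _ ⟨w, rfl⟩
      exact w.2
    let i' := LocallyRingedSpace.IsOpenImmersion.lift j (k ≫ i) hsub
    have hi' : LRSImm.IsClosedImmersion i' :=
      Groth.Agent.LRSClosed.isClosedImmersion_restrict i hi j k i'
        (LocallyRingedSpace.IsOpenImmersion.lift_fac j (k ≫ i) hsub) (by
          intro w hw
          rw [hrj] at hw
          exact ⟨⟨w, hw⟩, rfl⟩)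
    obtain ⟨e, -⟩ := Groth.Agent.LRSClosed.exists_iso_quot i' hi' (Groth.Agent.LRSClosed.globalKer i') rfl
    exact ⟨V, CommRingCat.of (Γ(X, U) ⧸ Groth.Agent.LRSClosed.globalKer i'), ⟨e⟩⟩
  let Z' : Scheme.{u} := { Z with local_affine := hloc }
  refine ⟨Z', Iso.refl _, ?_⟩
  rw [AlgebraicGeometry.isClosedImmersion_iff]
  refine ⟨⟨fun z => ?_⟩, ?_⟩
  · show Function.Surjective ((𝟙 Z ≫ i).stalkMap z)
    rw [Category.id_comp]
    exact Groth.Agent.LRSClosed.stalkMap_surjective i hi.1.isInducing hi.2.1 z
  · exact hi.1

end Groth.Agent.S9505
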