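import Groth.Statements.S9511
import Mathlib

set_option autoImplicit false
universe u
open LRSImm

namespace Groth.Agent.S9511

open AlgebraicGeometry in
open CategoryTheory TopologicalSpace in
/-- Let X be a locally ringed space and U, V ⊆ X open with X = U ⊔ V (they cover X and are disjoint),
such that the open subspaces X|_U and X|_V are affine schemes. Then X is an affine scheme: the
canonical morphism X → Spec Γ(X, O_X) is an isomorphism of locally ringed spaces. -/
theorem result
    (X : LocallyRingedSpace.{u}) (U V : Opens X.toTopCat) (hUV : IsCompl U V)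
    (A B : CommRingCat.{u})
    (eU : X.restrict U.isOpenEmbedding ≅ (Spec A).toLocallyRingedSpace)
    (eV : X.restrict V.isOpenEmbedding ≅ (Spec B).toLocallyRingedSpace) :
    IsIso X.toΓSpec := by
  let S : Scheme.{u} :=
    { toLocallyRingedSpace := X
      local_affine := fun x => by
        have hx : x ∈ U ∨ x ∈ V := by
          have h := hUV.sup_eq_top.ge (show x ∈ (⊤ : Opens X.toTopCat) from trivial)
          exact h
        rcases hx with h | h
        exacts [⟨⟨U, h⟩, A, ⟨eU⟩⟩, ⟨⟨V, h⟩, B, ⟨eV⟩⟩] }
  let U' : S.Opens := U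
  let V' : S.Opens := V
  haveI : IsAffine U'.toScheme :=
    IsAffine.of_isIso (Scheme.forgetToLocallyRingedSpace.preimageIso (X := U'.toScheme) (Y := Spec A) eU).hom
  haveI : IsAffine V'.toScheme :=
    IsAffine.of_isIso (Scheme.forgetToLocallyRingedSpace.preimageIso (X := V'.toScheme) (Y := Spec B) eV).hom
  obtain ⟨hc⟩ := nonempty_isColimit_binaryCofanMk_of_isCompl U'.ι V'.ι
    (by rw [Scheme.Opens.opensRange_ι, Scheme.Opens.opensRange_ι]; exact hUV)
  let e : (U'.toScheme ⨿ V'.toScheme) ≅ S :=
    (Limits.coprodIsCoprod U'.toScheme V'.toScheme).coconePointUniqueUpToIso hc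
  haveI : IsAffine S := IsAffine.of_isIso e.inv
  have h := IsAffine.affine (X := S)
  exact inferInstanceAs (IsIso (Scheme.forgetToLocallyRingedSpace.map S.toSpecΓ))

end Groth.Agent.S9511
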