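import Groth.Statements.S9522
import Groth.Agent.CohFinite.DevissageAux

set_option autoImplicit false
universe u
open CategoryTheory CategoryTheory.Limits AlgebraicGeometry
attribute [local instance] HasDerivedCategory.standard
open Coherent

namespace Groth.Agent.S9522

/-- Let X be a Noetherian scheme, Z₀ ⊆ X an irreducible closed subset with generic point ξ, and P an
isomorphism-invariant property of O_X-modules that holds for every zero module and such that (1) for
every short exact sequence 0 → F₁ → F → F₂ → 0 of coherent modules, P(F₁) and P(F₂) imply P(F); (2)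
for coherent F, P(F^⊕r) for some r ≥ 1 implies P(F); (3) P holds for i_*I for every closed immersion
i : Z → X with Z integral, i(Z) a proper subset of Z₀, and every quasi-coherent ideal sheaf I ⊆ O_Z;
(4) there is a coherent module G with support equal to Z₀, whose stalk at ξ is annihilated by the
maximal ideal of O_{X,ξ}, and such that for every quasi-coherent sheaf of ideals J on X with ξ ∉
V(J) there is a quasi-coherent submodule G' ⊆ J·G whose inclusion into G induces an isomorphism on
stalks at ξ and for which P holds. Then P holds for every coherent O_X-module whose support is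
contained in Z₀. (The published statement does not ask that P hold for the zero module, although its
proof uses this for a filtration with no steps; without it the conclusion fails for the zero module
when Z₀ is a closed point: on the spectrum of a field, with P(F) meaning that F is nonzero, every
other hypothesis holds. This row assumes that P holds for every zero module.) -/
theorem result (X : Scheme.{u}) [IsNoetherian X]
    (Z₀ : Set X) (hZ₀ : IsClosed Z₀) (hirr : IsIrreducible Z₀) (ξ : X) (hξ : ξ ∈ Z₀ ∧ closure {ξ} = Z₀)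
    (P : X.Modules → Prop) (hP : ∀ M N : X.Modules, Nonempty (M ≅ N) → P M → P N)
    (h₀ : ∀ M : X.Modules, IsZero M → P M)
    (h₁ : ∀ S : ShortComplex X.Modules, S.ShortExact → Coh.IsCoh S.X₁ → Coh.IsCoh S.X₂ → Coh.IsCoh S.X₃ →
      P S.X₁ → P S.X₃ → P S.X₂)
    (h₂ : ∀ (F : X.Modules) (r : ℕ), Coh.IsCoh F → 1 ≤ r → P (∐ fun _ : Fin r => F) → P F)
    (h₃ : ∀ (Z : Scheme.{u}) (i : Z ⟶ X), IsClosedImmersion i → IsIntegral Z →
      Set.range ⇑i ⊆ Z₀ → Set.range ⇑i ≠ Z₀ →
      ∀ (I : Z.Modules) (ι : I ⟶ Coh.structureModule Z), Mono ι → Coh.IsQCoh I → P ((Coh.push i).obj I))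
    (h₄ : ∃ G : X.Modules, Coh.IsCoh G ∧ CohB1.support G = Z₀ ∧
      (∀ a ∈ IsLocalRing.maximalIdeal (X.presheaf.stalk ξ), ∀ m : ↑(G.presheaf.stalk ξ), a • m = 0) ∧
      ∀ J : X.IdealSheafData, ξ ∉ (J.support : Set X) →
        ∃ (G' : X.Modules) (ι' : G' ⟶ (Dual3.idealMul J).obj G), Mono ι' ∧ Coh.IsQCoh G' ∧
          IsIso ((TopCat.Presheaf.stalkFunctor _ ξ).map (ι' ≫ Dual3.idealMulι J G).mapPresheaf) ∧ P G')
    (F : X.Modules) (hF : Coh.IsCoh F) (hsupp : CohB1.support F ⊆ Z₀) : P F := by
  have := Abelian.hasFiniteBiproducts (C := X.Modules)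
  obtain ⟨G, hG, hGs, hk, hJ⟩ := h₄
  refine CohFinite.devissage_generic P hP h₀ (X' := Z₀) (fun S hS a b c _ => h₁ S hS a b c) ?_ F hF hsupp
  intro Z i _ _ hi _
  by_cases hr : Set.range i = Z₀
  swap
  · exact Or.inl fun I ι hι hI _ => h₃ Z i inferInstance inferInstance hi hr I ι hι hI
  obtain rfl := CohFinite.eq_image_genericPoint i (hξ.2.trans hr.symm)
  refine Or.inr ⟨G, hG, hGs.ge hξ.1, hk,
    fun r hr' _ F' hF' _ hP' => h₂ F' r hF' hr' (hP _ _ ⟨biproduct.isoCoproduct fun _ : Fin r => F'⟩ hP'),
    fun K k hK hkm hkb => ?_⟩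
  have := hG.1
  have := hK.1
  have hC := QCohLib.isCoh_cokernel k hK.1 hG
  have := hC.1
  let J := CohFinite.annIdeal (cokernel k) hC.2
  have hJξ : i (genericPoint Z) ∉ (J.support : Set X) := by
    rw [CohFinite.support_annIdeal]
    exact CohFinite.notMem_support_cokernel k _ hkb.2
  obtain ⟨G', ι', hι', hG'q, hiso, hPG'⟩ := hJ J hJξ
  have h0 : (ι' ≫ Dual3.idealMulι J G) ≫ cokernel.π k = 0 := by
    have hkill : ClSub.KilledByIdeal J.subschemeι.ker (cokernel k) := by
      rw [J.ker_subschemeι]
      exact CohFinite.killedByIdeal_annIdeal _ hC.2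
    have := CohFinite.isIso_unit J.subschemeι (cokernel k) hkill
    rw [← cancel_mono ((Scheme.Modules.pullbackPushforwardAdjunction J.subschemeι).unit.app (cokernel k)),
      zero_comp, Category.assoc, Category.assoc]
    have hn := (Scheme.Modules.pullbackPushforwardAdjunction J.subschemeι).unit.naturality (cokernel.π k)
    refine (congrArg (fun q => ι' ≫ Dual3.idealMulι J G ≫ q) hn).trans ?_
    exact (congrArg (fun q => ι' ≫ q) (kernel.condition_assoc _ _)).trans ((congrArg (fun q => ι' ≫ q) zero_comp).trans comp_zero)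
  let k' : G' ⟶ K := Abelian.monoLift k (ι' ≫ Dual3.idealMulι J G) h0
  have hkk : k' ≫ k = ι' ≫ Dual3.idealMulι J G := Abelian.monoLift_comp _ _ _
  have hm : Mono (ι' ≫ Dual3.idealMulι J G) := mono_comp _ _
  have : Mono (k' ≫ k) := by rw [hkk]; exact hm
  have : Mono k' := mono_of_mono k' k
  refine ⟨G', k', QCohLib.isCoh_of_mono (ι' ≫ Dual3.idealMulι J G) hG hG'q, this, ?_, hPG'⟩
  have hb : Function.Bijective (QCohLib.stalkHom (k' ≫ k) (i (genericPoint Z))) := by
    rw [hkk]
    haveI : IsIso (QCohLib.stalkHom (ι' ≫ Dual3.idealMulι J G) (i (genericPoint Z))) := hiso; exact ConcreteCategory.bijective_of_isIso _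
  have hc : (QCohLib.stalkHom (k' ≫ k) (i (genericPoint Z)) : _ → _) =
      QCohLib.stalkHom k (i (genericPoint Z)) ∘ QCohLib.stalkHom k' (i (genericPoint Z)) :=
    funext fun a => QCohLib.stalkHom_comp _ _ _ _
  rw [hc] at hb
  exact (Function.Bijective.of_comp_iff' hkb _).mp hb

end Groth.Agent.S9522
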