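import Groth.Statements.S9525
import Groth.Agent.QCohLib.StalkRestrict
import Groth.Agent.QCohLib.Coherent

set_option autoImplicit false
universe u
open Coherent

namespace Groth.Agent.S9525

set_option backward.isDefEq.respectTransparency false

open CategoryTheory CategoryTheory.Limits AlgebraicGeometry in
/-- Let X be a locally Noetherian scheme, F and G coherent O_X-modules, φ : G → F a morphism and x ∈ X.
(1) If F_x = 0 there is an open neighbourhood U of x with F|_U = 0. (2) If the stalk map φ_x : G_x →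
F_x is injective there is an open neighbourhood U of x with φ|_U injective. (4) If φ_x is bijective
there is an open neighbourhood U of x with φ|_U an isomorphism. (Part (3), surjectivity, is the
finite-type statement valid on any ringed space and is not restated.) -/
theorem result (X : Scheme.{u}) [IsLocallyNoetherian X]
    (F G : X.Modules) (hF : Coh.IsCoh F) (hG : Coh.IsCoh G) (φ : G ⟶ F) (x : X) :
    (Subsingleton ↑(F.presheaf.stalk x) →
      ∃ U : X.Opens, x ∈ U ∧ IsZero ((Scheme.Modules.restrictFunctor U.ι).obj F)) ∧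
    (Function.Injective ((TopCat.Presheaf.stalkFunctor _ x).map φ.mapPresheaf).hom →
      ∃ U : X.Opens, x ∈ U ∧ Mono ((Scheme.Modules.restrictFunctor U.ι).map φ)) ∧
    (Function.Bijective ((TopCat.Presheaf.stalkFunctor _ x).map φ.mapPresheaf).hom →
      ∃ U : X.Opens, x ∈ U ∧ IsIso ((Scheme.Modules.restrictFunctor U.ι).map φ)) := by
  have hGq := hG.1
  have hFq := hF.1
  have mono_aux : Function.Injective (QCohLib.stalkHom φ x) → ∃ V : X.Opens, x ∈ V ∧
      ∀ y ∈ V, Function.Injective (QCohLib.stalkHom φ y) := by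
    intro h
    have hK := QCohLib.isCoh_kernel φ hG hFq
    have hx : Subsingleton ((kernel φ).presheaf.stalk x) := ⟨fun a b => by
      apply (QCohLib.mono_iff_stalk_injective (kernel.ι φ)).mp inferInstance x
      apply h
      rw [← QCohLib.stalkHom_comp, ← QCohLib.stalkHom_comp, kernel.condition, QCohLib.stalkHom_zero,
        QCohLib.stalkHom_zero]⟩
    obtain ⟨V, hxV, hV⟩ := QCohLib.exists_nhds_subsingleton_stalk hK.2 x hx
    refine ⟨V, hxV, fun y hy => ?_⟩
    rw [injective_iff_map_eq_zero]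
    intro a ha
    obtain ⟨c, rfl⟩ := (QCohLib.stalk_kernel_exact φ y a).mp ha
    rw [@Subsingleton.elim _ (hV y hy) c 0, map_zero]
  refine ⟨fun h => ?_, fun h => ?_, fun h => ?_⟩
  · obtain ⟨V, hxV, hV⟩ := QCohLib.exists_nhds_subsingleton_stalk hF.2 x h
    exact ⟨V, hxV, QCohLib.isZero_restrict_of_subsingleton_stalk V.ι fun y => hV _ y.2⟩
  · obtain ⟨V, hxV, hV⟩ := mono_aux h
    exact ⟨V, hxV, QCohLib.mono_restrict_of_stalk_injective V.ι φ fun y => hV _ y.2⟩
  · obtain ⟨V, hxV, hV⟩ := mono_aux h.1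
    have hC := QCohLib.isCoh_cokernel φ hGq hF
    have hx : Subsingleton ((cokernel φ).presheaf.stalk x) := ⟨fun a b => by
      obtain ⟨a, rfl⟩ := (QCohLib.epi_iff_stalk_surjective (cokernel.π φ)).mp inferInstance x a
      obtain ⟨b, rfl⟩ := (QCohLib.epi_iff_stalk_surjective (cokernel.π φ)).mp inferInstance x b
      obtain ⟨a', ha⟩ := h.2 a
      obtain ⟨b', hb⟩ := h.2 b
      rw [(QCohLib.stalk_cokernel_exact φ x a).mpr ⟨a', ha⟩,
        (QCohLib.stalk_cokernel_exact φ x b).mpr ⟨b', hb⟩]⟩
    obtain ⟨W, hxW, hW⟩ := QCohLib.exists_nhds_subsingleton_stalk hC.2 x hx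
    refine ⟨V ⊓ W, ⟨hxV, hxW⟩, ?_⟩
    have := QCohLib.mono_restrict_of_stalk_injective (V ⊓ W).ι φ fun y => hV _ y.2.1
    have := QCohLib.epi_restrict_of_stalk_surjective (V ⊓ W).ι φ fun y n =>
      (QCohLib.stalk_cokernel_exact φ _ n).mp (@Subsingleton.elim _ (hW _ y.2.2) _ _)
    exact isIso_of_mono_of_epi _

end Groth.Agent.S9525
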