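import Groth.Statements.S9549
import Groth.Agent.S2821
import Groth.Agent.S2824
import Groth.Agent.S0291
import Groth.Agent.S0234
import Groth.Agent.DepthLib.SerreNormal
import Groth.Agent.UFDLib.Nagata
import Groth.Agent.ProjTwist.LocTriv
import Mathlib
-- import your own Groth.Agent.* helpers here

set_option autoImplicit false
universe u
open CategoryTheory AlgebraicGeometry
open ParaF

namespace Groth.Agent.S9549

/-- For a regular local ring A the Picard group of the punctured spectrum is trivial: every invertible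
module on Spec A ∖ {𝔪} is isomorphic to the structure sheaf. -/
theorem result (A : Type u) [CommRing A] [IsRegularLocalRing A] :
    ParaF.PicTrivial (↑(FEt.puncturedSpec A) : Scheme.{u}) := by
  obtain ⟨hdom, hufd⟩ := Groth.Agent.S2821.result A
  intro L hL
  obtain ⟨L', hL', ⟨e⟩⟩ := Groth.Agent.S0234.result (Spec (CommRingCat.of A)) (FEt.puncturedSpec A) L hL fun x _ =>
    by
    haveI : IsDomain ((Spec.structureSheaf A).presheaf.stalk x) :=
      inferInstanceAs (IsDomain ((Spec (CommRingCat.of A)).presheaf.stalk x))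
    show UniqueFactorizationMonoid ((Spec.structureSheaf A).presheaf.stalk x)
    exact Groth.Agent.UFDLib.ufm_of_isLocalization (A := A) x.asIdeal.primeCompl _
      (IsLocalization.injective _ (Ideal.primeCompl_le_nonZeroDivisors x.asIdeal))
  have hO : ∀ V : (Spec (CommRingCat.of A)).Opens, IsLocalRing.closedPoint A ∈ V → V = ⊤ := fun V h =>
    top_unique fun y _ => (IsLocalRing.specializes_closedPoint y).mem_open V.2 h
  obtain ⟨V, hV, ℓ, hℓ⟩ := Groth.Agent.InvBasic.exists_isBasis hL' (IsLocalRing.closedPoint A)
  obtain rfl := hO V hV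
  obtain ⟨i⟩ := Groth.Agent.ProjTwist.nonempty_structureModule_iso L' ℓ fun W => hℓ W le_top
  obtain ⟨j⟩ := Groth.Agent.ProjTwist.nonempty_restrict_iso_structureModule L' (FEt.puncturedSpec A)
    (L'.presheaf.map (homOfLE (le_top : FEt.puncturedSpec A ≤ ⊤)).op ℓ) fun W hW => by
      rw [show (fun r : Γ(Spec (CommRingCat.of A), W) => r • L'.presheaf.map (homOfLE hW).op
        (L'.presheaf.map (homOfLE (le_top : FEt.puncturedSpec A ≤ ⊤)).op ℓ)) =
        fun r : Γ(Spec (CommRingCat.of A), W) => r • L'.presheaf.map (homOfLE (le_top : W ≤ ⊤)).op ℓ from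
          funext fun r => congrArg (r • ·) (Groth.Agent.QCohLib.map_map _ _ _ _)]
      exact hℓ W le_top
  exact ⟨e.symm ≪≫ j⟩

end Groth.Agent.S9549
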