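import Groth.Statements.S9562
import Groth.Agent.EtLocalLib.Cpl
import Groth.Agent.S9231
-- import your own Groth.Agent.* helpers here

set_option autoImplicit false
universe u
open EtLocal

namespace Groth.Agent.S9562

/-- Let A → B be a local homomorphism of Noetherian local rings with B essentially of finite type over
A, and let ψ be the induced map between the completions of A and B at their maximal ideals (a ring
map of the completions whose composite with A → A^ is A → B → B^; such a map is unique). Then A → B
is an étale homomorphism of local rings, i.e. B is flat over A, m_A B = m_B and the residue field of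
B is a finite separable extension of that of A, if and only if ψ is an étale ring map; moreover in
that case the completion of B is, through ψ, a free module of finite positive rank over the
completion of A. (The published statement lists a third equivalent condition, that ψ is itself an
étale homomorphism of local rings; this row keeps the two outer ones.) -/
theorem result (A B : Type u) [CommRing A] [CommRing B]
    [IsLocalRing A] [IsLocalRing B] [IsNoetherianRing A] [IsNoetherianRing B] [Algebra A B]
    [IsLocalHom (algebraMap A B)] [Algebra.EssFiniteType A B]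
    (ψ : AdicCompletion (IsLocalRing.maximalIdeal A) A →+* AdicCompletion (IsLocalRing.maximalIdeal B) B)
    (hψ : ψ.comp (algebraMap A (AdicCompletion (IsLocalRing.maximalIdeal A) A)) =
      (algebraMap B (AdicCompletion (IsLocalRing.maximalIdeal B) B)).comp (algebraMap A B)) :
    ((Module.Flat A B ∧ (IsLocalRing.maximalIdeal A).map (algebraMap A B) = IsLocalRing.maximalIdeal B ∧
        Module.Finite (IsLocalRing.ResidueField A) (IsLocalRing.ResidueField B) ∧
        Algebra.IsSeparable (IsLocalRing.ResidueField A) (IsLocalRing.ResidueField B)) ↔ ψ.Etale) ∧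
      (ψ.Etale →
        letI := ψ.toAlgebra
        ∃ n : ℕ, 0 < n ∧
          Nonempty ((Fin n → AdicCompletion (IsLocalRing.maximalIdeal A) A) ≃ₗ[AdicCompletion (IsLocalRing.maximalIdeal A) A]
            AdicCompletion (IsLocalRing.maximalIdeal B) B)) := by
  obtain ⟨h1, h2⟩ := Groth.Agent.EtLocalLib.unramified_iff_cpl A B ψ hψ
  have hfl := Groth.Agent.S9231.result A B ψ hψ
  haveI : IsNoetherianRing (A ⧸ IsLocalRing.maximalIdeal A) :=
    isNoetherianRing_of_surjective A _ (Ideal.Quotient.mk (IsLocalRing.maximalIdeal A))
      Ideal.Quotient.mk_surjective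
  haveI := Groth.Agent.CplFlat.isNoetherianRing_completion_of_fg (IsLocalRing.maximalIdeal A)
    (IsLocalRing.maximalIdeal A).fg_of_isNoetherianRing
  refine ⟨⟨fun h => ?_, fun h => ?_⟩, fun h => ?_⟩
  · refine RingHom.Etale.iff_flat_and_formallyUnramified.2 ⟨hfl.2 (RingHom.flat_algebraMap_iff.2 h.1),
      (h1 h.2).2, RingHom.FinitePresentation.of_finiteType.1 (h1 h.2).1.finiteType⟩
  · obtain ⟨hf, hu, hp⟩ := RingHom.Etale.iff_flat_and_formallyUnramified.1 h
    exact ⟨RingHom.flat_algebraMap_iff.1 (hfl.1 hf), h2 (RingHom.FiniteType.of_finitePresentation hp) hu⟩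
  · obtain ⟨hf, hu, hp⟩ := RingHom.Etale.iff_flat_and_formallyUnramified.1 h
    letI := ψ.toAlgebra
    haveI : Module.Flat (AdicCompletion (IsLocalRing.maximalIdeal A) A)
        (AdicCompletion (IsLocalRing.maximalIdeal B) B) := hf
    haveI : Module.Finite (AdicCompletion (IsLocalRing.maximalIdeal A) A)
        (AdicCompletion (IsLocalRing.maximalIdeal B) B) := (h1 (h2 (RingHom.FiniteType.of_finitePresentation hp) hu)).1
    haveI : Module.Free (AdicCompletion (IsLocalRing.maximalIdeal A) A)
        (AdicCompletion (IsLocalRing.maximalIdeal B) B) := Module.free_of_flat_of_isLocalRing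
    refine ⟨_, Nat.pos_of_ne_zero fun h0 => ?_, ⟨(Module.finBasis _ _).equivFun.symm⟩⟩
    have e := (Module.finBasis (AdicCompletion (IsLocalRing.maximalIdeal A) A)
      (AdicCompletion (IsLocalRing.maximalIdeal B) B)).equivFun
    rw [h0] at e
    exact not_subsingleton _ e.toEquiv.subsingleton

end Groth.Agent.S9562
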