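import Groth.Statements.S9565
import Groth.Agent.FibrewiseCrit.Unramified
import Mathlib
-- import your own Groth.Agent.* helpers here

set_option autoImplicit false
universe u
open EtLocal

namespace Groth.Agent.S9565

open AlgebraicGeometry CategoryTheory in
/-- Let Y be a locally Noetherian scheme, f : X ⟶ Y locally of finite type and x a point of X with image
y. Then f is unramified on some open neighbourhood of x if and only if the map of local rings
O_{Y,y} → O_{X,x} is an unramified homomorphism of local rings: the maximal ideal of O_{Y,y}
generates that of O_{X,x}, and the residue field of x is a finite separable extension of that of y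
(O_{X,x} is automatically essentially of finite type over O_{Y,y}). -/
theorem result {X Y : Scheme.{u}} (f : X ⟶ Y)
    [LocallyOfFiniteType f] [IsLocallyNoetherian Y] (x : X) :
    (∃ U : X.Opens, x ∈ U ∧ FormallyUnramified (U.ι ≫ f)) ↔
      ((IsLocalRing.maximalIdeal (Y.presheaf.stalk (f.base x))).map (f.stalkMap x).hom =
          IsLocalRing.maximalIdeal (X.presheaf.stalk x) ∧
        letI := (f.residueFieldMap x).hom.toAlgebra
        Module.Finite (Y.residueField (f.base x)) (X.residueField x) ∧
          Algebra.IsSeparable (Y.residueField (f.base x)) (X.residueField x)) := by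
  rw [Groth.FibrewiseCrit.exists_nhd_formallyUnramified_iff f x]
  letI := (f.stalkMap x).hom.toAlgebra
  haveI : IsLocalHom (algebraMap (Y.presheaf.stalk (f x)) (X.presheaf.stalk x)) :=
    inferInstanceAs <| IsLocalHom (f.stalkMap x).hom
  haveI : Algebra.EssFiniteType (Y.presheaf.stalk (f x)) (X.presheaf.stalk x) :=
    LocallyOfFiniteType.stalkMap f x
  change Algebra.FormallyUnramified (Y.presheaf.stalk (f x)) (X.presheaf.stalk x) ↔ _
  constructor
  · intro hun
    refine ⟨Algebra.FormallyUnramified.map_maximalIdeal, ?_⟩
    have hf1 : Module.Finite (IsLocalRing.ResidueField (Y.presheaf.stalk (f x)))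
        (IsLocalRing.ResidueField (X.presheaf.stalk x)) := inferInstance
    have hs1 : Algebra.IsSeparable (IsLocalRing.ResidueField (Y.presheaf.stalk (f x)))
        (IsLocalRing.ResidueField (X.presheaf.stalk x)) := inferInstance
    constructor
    · convert! hf1
      refine congrArg (fun a => @Algebra.toModule _ _ _ _ a) (Algebra.algebra_ext _ _ fun z => ?_)
      obtain ⟨z, rfl⟩ := IsLocalRing.residue_surjective z
      rfl
    · convert! hs1
      refine Algebra.algebra_ext _ _ fun z => ?_
      obtain ⟨z, rfl⟩ := IsLocalRing.residue_surjective z
      rfl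
  · rintro ⟨hm, hres⟩
    haveI : Algebra.IsSeparable (IsLocalRing.ResidueField (Y.presheaf.stalk (f x)))
        (IsLocalRing.ResidueField (X.presheaf.stalk x)) := by
      convert! hres.2
      refine Algebra.algebra_ext _ _ fun z => ?_
      obtain ⟨z, rfl⟩ := IsLocalRing.residue_surjective z
      rfl
    exact Algebra.FormallyUnramified.of_map_maximalIdeal hm

end Groth.Agent.S9565
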