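import Groth.Statements.S9567
import Mathlib
-- import your own Groth.Agent.* helpers here

set_option autoImplicit false
universe u
open EtLocal

namespace Groth.Agent.S9567

section Aux
open AlgebraicGeometry CategoryTheory

/-- A standard étale algebra is a localisation of `(R[X]/f)[1/f']`. -/
theorem exists_algHom_isLocalization {R : Type u} [CommRing R] (P : StandardEtalePair R) :
    ∃ θ : Localization.Away (AdjoinRoot.mk P.f (Polynomial.derivative P.f)) →ₐ[R] P.Ring,
      IsOpenImmersion (Spec.map (CommRingCat.ofHom θ.toRingHom)) := by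
  let D := AdjoinRoot P.f
  let d : D := AdjoinRoot.mk P.f (Polynomial.derivative P.f)
  let c : D := AdjoinRoot.mk P.f P.g
  let L₁ := Localization.Away c
  let L₂ := Localization.Away d
  have hu : IsUnit (algebraMap D L₁ d) := by
    obtain ⟨p₁, p₂, n, h⟩ := P.cond
    have h1 := congrArg (fun q => algebraMap D L₁ (AdjoinRoot.mk P.f q)) h
    simp only [map_add, map_mul, map_pow, AdjoinRoot.mk_self, zero_mul, add_zero, map_zero] at h1
    exact (IsUnit.mul_iff.1 (h1 ▸ (IsLocalization.Away.algebraMap_isUnit c).pow n)).1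
  let ι : L₂ →ₐ[D] L₁ := IsLocalization.liftAlgHom (M := Submonoid.powers d) (f := Algebra.ofId D L₁)
    (by rintro ⟨_, n, rfl⟩; simpa using hu.pow n)
  letI : Algebra L₂ L₁ := ι.toRingHom.toAlgebra
  haveI : IsScalarTower D L₂ L₁ := IsScalarTower.of_algebraMap_eq fun a => (ι.commutes a).symm
  haveI : IsLocalization.Away (algebraMap D L₁ d) L₁ :=
    IsLocalization.away_of_isUnit_of_bijective L₁ hu Function.bijective_id
  haveI : IsLocalization.Away (algebraMap D L₂ c) L₁ := IsLocalization.Away.commutes L₂ L₁ L₁ d c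
  have hopen : IsOpenImmersion (Spec.map (CommRingCat.ofHom (algebraMap L₂ L₁))) :=
    IsOpenImmersion.of_isLocalization (algebraMap D L₂ c)
  refine ⟨P.equivAwayAdjoinRoot.symm.toAlgHom.comp (ι.restrictScalars R), ?_⟩
  haveI : IsIso (CommRingCat.ofHom P.equivAwayAdjoinRoot.symm.toAlgHom.toRingHom) :=
    (ConcreteCategory.isIso_iff_bijective _).2 P.equivAwayAdjoinRoot.symm.bijective
  rw [show CommRingCat.ofHom (P.equivAwayAdjoinRoot.symm.toAlgHom.comp (ι.restrictScalars R)).toRingHom =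
    CommRingCat.ofHom (algebraMap L₂ L₁) ≫ CommRingCat.ofHom P.equivAwayAdjoinRoot.symm.toAlgHom.toRingHom
    from rfl, Spec.map_comp]
  infer_instance


end Aux

open AlgebraicGeometry CategoryTheory in
/-- Let φ : X ⟶ Y be any morphism of schemes, x a point of X and V an affine open neighbourhood of φ(x),
with ring R = Γ(Y, V). If φ is étale on some open neighbourhood of x, then there are an affine open
neighbourhood U of x with φ(U) ⊆ V, a monic polynomial p over R and an open immersion j of U into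
Spec of (R[t]/(p))[1/p′] (the localization of R[t]/(p) away from the image of the derivative of p)
such that j followed by the projection to Spec R is the morphism U → Spec R induced by φ. -/
theorem result {X Y : Scheme.{u}} (φ : X ⟶ Y) (x : X)
    (V : Y.Opens) (hV : IsAffineOpen V) (hxV : φ.base x ∈ V)
    (hφ : ∃ W : X.Opens, x ∈ W ∧ Etale (W.ι ≫ φ)) :
    ∃ (U : X.Opens) (hU : IsAffineOpen U) (_ : x ∈ U) (e : U ≤ φ ⁻¹ᵁ V)
      (p : Polynomial Γ(Y, V)) (_ : p.Monic)
      (j : U.toScheme ⟶ Spec (CommRingCat.of (Localization.Away (AdjoinRoot.mk p (Polynomial.derivative p))))),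
      IsOpenImmersion j ∧
        j ≫ Spec.map (CommRingCat.ofHom
            (algebraMap Γ(Y, V) (Localization.Away (AdjoinRoot.mk p (Polynomial.derivative p))))) =
          hU.isoSpec.hom ≫ Spec.map (φ.appLE V U e) := by
  obtain ⟨W, hxW, hW⟩ := hφ
  obtain ⟨U₀, hU₀, hxU₀, hle⟩ :=
    exists_isAffineOpen_mem_and_subset (x := x) (U := W ⊓ φ ⁻¹ᵁ V) ⟨hxW, hxV⟩
  have e₀ : U₀ ≤ φ ⁻¹ᵁ V := hle.trans Set.inter_subset_right
  have hW₀ : U₀ ≤ W := hle.trans Set.inter_subset_left
  -- the ring map of a chart is étale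
  haveI : Etale (U₀.ι ≫ φ) := by
    rw [← X.homOfLE_ι hW₀, Category.assoc]
    infer_instance
  haveI : Etale (Spec.map (φ.appLE V U₀ e₀)) := by
    haveI : Etale (Spec.map (φ.appLE V U₀ e₀) ≫ hV.fromSpec) := by
      rw [hV.SpecMap_appLE_fromSpec φ hU₀ e₀, ← hU₀.isoSpec_inv_ι, Category.assoc]
      infer_instance
    exact Etale.of_comp (Spec.map (φ.appLE V U₀ e₀)) hV.fromSpec
  have het : (φ.appLE V U₀ e₀).hom.Etale := (HasRingHomProperty.Spec_iff (P := @Etale)).1 inferInstance
  algebraize [(φ.appLE V U₀ e₀).hom]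
  haveI : Algebra.Etale Γ(Y, V) Γ(X, U₀) := het
  let q := (hU₀.primeIdealOf ⟨x, hxU₀⟩).asIdeal
  haveI : Algebra.IsEtaleAt Γ(Y, V) q :=
    haveI := Algebra.FormallyEtale.of_isLocalization (R := Γ(X, U₀)) (Rₘ := Localization.AtPrime q) q.primeCompl
    Algebra.FormallyEtale.comp Γ(Y, V) Γ(X, U₀) (Localization.AtPrime q)
  obtain ⟨g, hg, hstd⟩ := Algebra.IsEtaleAt.exists_isStandardEtale (R := Γ(Y, V)) q
  obtain ⟨⟨P⟩⟩ := hstd
  obtain ⟨θ, hθ⟩ := exists_algHom_isLocalization P.P
  let U : X.Opens := X.basicOpen g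
  have hU : IsAffineOpen U := hU₀.basicOpen g
  have hxU : x ∈ U := by
    rw [show U = hU₀.fromSpec ''ᵁ PrimeSpectrum.basicOpen g from (hU₀.fromSpec_image_basicOpen g).symm]
    exact ⟨hU₀.primeIdealOf ⟨x, hxU₀⟩, hg, hU₀.fromSpec_primeIdealOf ⟨x, hxU₀⟩⟩
  have e : U ≤ φ ⁻¹ᵁ V := (X.basicOpen_le g).trans e₀
  haveI := hU₀.isLocalization_basicOpen g
  let E : P.P.Ring ≃ₐ[Γ(Y, V)] Localization.Away g := P.equivRing.symm
  let L : Localization.Away g ≃ₐ[Γ(X, U₀)] Γ(X, U) :=
    IsLocalization.algEquiv (Submonoid.powers g) _ _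
  let a : CommRingCat.of P.P.Ring ⟶ Γ(X, U) :=
    CommRingCat.ofHom (L.toRingEquiv.toRingHom.comp E.toRingEquiv.toRingHom)
  haveI : IsIso a := (ConcreteCategory.isIso_iff_bijective _).2 (L.bijective.comp E.bijective)
  haveI := hθ
  refine ⟨U, hU, hxU, e, P.P.f, P.P.monic_f,
    hU.isoSpec.hom ≫ Spec.map a ≫ Spec.map (CommRingCat.ofHom θ.toRingHom), inferInstance, ?_⟩
  rw [Category.assoc, Category.assoc, ← Spec.map_comp, ← Spec.map_comp]
  refine congrArg (fun t => hU.isoSpec.hom ≫ Spec.map t) ?_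
  ext r
  change L (E (θ (algebraMap Γ(Y, V) _ r))) = φ.appLE V U e r
  rw [θ.commutes, E.commutes, IsScalarTower.algebraMap_apply Γ(Y, V) Γ(X, U₀) (Localization.Away g),
    L.commutes]
  exact congr($(φ.appLE_map e₀ (homOfLE (X.basicOpen_le g)).op) r)

end Groth.Agent.S9567
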