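import Groth.Statements.S9571
import Groth.Agent.ProjTwist.Generated
-- import your own Groth.Agent.* helpers here

set_option autoImplicit false
universe u
open CategoryTheory CategoryTheory.Limits AlgebraicGeometry TopologicalSpace Opposite
open Constr

namespace Groth.Agent.S9571

/-- Let S be a graded ring, X = Proj S and d ≥ 1; let W_d be the union of the opens D_+(ab) over pairs
of homogeneous a, b with deg a = deg b + d (the open over which the twisting sheaves O_X(nd) are
invertible with compatible multiplications). For n ≥ 1 and f homogeneous of degree nd, with s the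
section of O_X(nd) over W_d defined by f, the non-vanishing locus (W_d)_s equals D_+(f) ∩ W_d.
Pointwise: for p in some D_+(ab) as above, p ∈ D_+(f) if and only if the value f/1 of s at p
generates the module of degree-nd fractions at p (the span of the fractions c/t with t ∉ p and deg c
= deg t + nd, over the degree-zero local ring at p). -/
theorem result {R A : Type u} [CommRing R] [CommRing A] [Algebra R A] (𝒜 : ℕ → Submodule R A) [GradedAlgebra 𝒜]
    {d : ℕ} (hd : 0 < d) {i j : ℕ} {a b : A} (ha : a ∈ 𝒜 i) (hb : b ∈ 𝒜 j) (hij : i = j + d)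
    (p : ProjectiveSpectrum 𝒜) (hp : p ∈ ProjectiveSpectrum.basicOpen 𝒜 (a * b))
    {n : ℕ} (hn : 0 < n) (f : 𝒜 (n * d)) :
    p ∈ ProjectiveSpectrum.basicOpen 𝒜 (f : A) ↔
      Submodule.span (Twist.A0 𝒜 p) {(Twist.globalOf 𝒜 f).1 ⟨p, trivial⟩} = ⊤ := by
  subst hij
  have hap : a ∉ p.asHomogeneousIdeal := fun h => hp (Ideal.mul_mem_right _ _ h)
  have hbp : b ∉ p.asHomogeneousIdeal := fun h => hp (Ideal.mul_mem_left _ _ h)
  rw [ProjectiveSpectrum.mem_basicOpen, eq_top_iff]
  constructor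
  · intro hfp
    rintro ⟨v, hv⟩ -
    have hinv : (Localization.mk (1 : A) ⟨f.1, hfp⟩ : Twist.Loc 𝒜 p) ∈ Twist.twistAt 𝒜 (-((n * d : ℕ) : ℤ)) p :=
      ProjTwist.mk_mem_twistAt SetLike.GradedOne.one_mem f.2 hfp (i := 0) (by push_cast; ring)
    have h0 : v * Localization.mk (1 : A) ⟨f.1, hfp⟩ ∈ Twist.twistAt 𝒜 0 p :=
      ProjTwist.smul_mem_tildeAt (ℳ := 𝒜) (show -((n * d : ℕ) : ℤ) + (n * d : ℕ) = 0 by omega) hv hinv
    obtain ⟨c, hc⟩ := ProjTwist.exists_val_of_mem_twistAt_zero 𝒜 h0
    refine Submodule.mem_span_singleton.mpr ⟨c, Subtype.ext ?_⟩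
    rw [Twist.coe_smul_val, hc]
    show v * Localization.mk (1 : A) ⟨f.1, hfp⟩ * Localization.mk f.1 ⟨1, ProjTwist.notMem_one 𝒜 p⟩ = v
    exact (mul_assoc _ _ _).trans ((congrArg (v * ·)
      (ProjTwist.mk_mul_mk_swap (ProjTwist.notMem_one 𝒜 p) hfp)).trans (mul_one v))
  · intro hspan hfp
    have ha' : a ^ n ∈ 𝒜 (n * (j + d)) := by simpa [smul_eq_mul] using SetLike.pow_mem_graded n ha
    have hb' : b ^ n ∈ 𝒜 (n * j) := by simpa [smul_eq_mul] using SetLike.pow_mem_graded n hb
    have hbn : b ^ n ∉ p.asHomogeneousIdeal := fun h => hbp (p.isPrime.mem_of_pow_mem n h)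
    let v : Twist.twistAt 𝒜 ((n * d : ℕ) : ℤ) p := ⟨Localization.mk (a ^ n) ⟨b ^ n, hbn⟩,
      ProjTwist.mk_mem_twistAt ha' hb' hbn (by push_cast; ring)⟩
    obtain ⟨c, hc⟩ := Submodule.mem_span_singleton.mp (hspan (Submodule.mem_top (x := v)))
    have hc' := congrArg Subtype.val hc
    rw [Twist.coe_smul_val] at hc'
    obtain ⟨⟨r, t⟩, hct⟩ : ∃ at' : A × p.asHomogeneousIdeal.toIdeal.primeCompl,
        Localization.mk at'.1 at'.2 = c.val := by
      induction c.val using Localization.induction_on with | _ y => exact ⟨y, rfl⟩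
    rw [← hct] at hc'
    change Localization.mk r t * Localization.mk f.1 ⟨1, _⟩ = Localization.mk (a ^ n) ⟨b ^ n, _⟩ at hc'
    rw [Localization.mk_mul, Localization.mk_eq_mk_iff, Localization.r_iff_exists] at hc'
    obtain ⟨w, hw⟩ := hc'
    have : (w : A) * ((t : A) * (a ^ n)) ∈ p.asHomogeneousIdeal.toIdeal := by
      simp only [Submonoid.coe_mul, mul_one] at hw
      rw [← hw]
      exact Ideal.mul_mem_left _ _ (Ideal.mul_mem_left _ _ (Ideal.mul_mem_left _ _ hfp))
    rcases p.isPrime.mem_or_mem this with h | h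
    · exact w.2 h
    rcases p.isPrime.mem_or_mem h with h | h
    · exact t.2 h
    · exact hap (p.isPrime.mem_of_pow_mem n h)

end Groth.Agent.S9571
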