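import Groth.Statements.S9580
import Groth.Agent.ProjTwist.Stalk
import Groth.Agent.ProjTwist.Invertible
-- import your own Groth.Agent.* helpers here

set_option autoImplicit false
universe u
open CategoryTheory CategoryTheory.Limits AlgebraicGeometry TopologicalSpace Opposite
open Constr

namespace Groth.Agent.S9580

/-- Let S be a graded ring, X = Proj S and Y ⊆ X a quasi-compact open subscheme. Then there is an
integer d ≥ 1 such that Y is contained in the open W_d, the union of the standard opens D_+(ab) over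
homogeneous a, b with deg a = deg b + d, and such that the restriction O_Y(nd) of O_X(nd) to Y is
invertible for every integer n. (The remaining assertions — the multiplication maps among the
O_Y(nd) and M~(nd) are isomorphisms, D_+(f) ∩ Y = Y_s, and the loci Y_s form a basis — are not
stated here.) -/
theorem result {R A : Type u} [CommRing R] [CommRing A] [Algebra R A] (𝒜 : ℕ → Submodule R A) [GradedAlgebra 𝒜]
    (Y : (Proj 𝒜).Opens) (hY : IsCompact (Y : Set (Proj 𝒜))) :
    ∃ d : ℕ, 0 < d ∧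
      (∀ y : Proj 𝒜, y ∈ Y → ∃ (i j : ℕ) (a b : A), a ∈ 𝒜 i ∧ b ∈ 𝒜 j ∧ i = j + d ∧ y ∈ Proj.basicOpen 𝒜 (a * b)) ∧
      ∀ n : ℤ, PicF.IsInvertible ((Twist.twist 𝒜 (n * d)).restrict Y.ι) := by
  classical
  have hex : ∀ y : Y, ∃ (d : ℕ) (f : A), 0 < d ∧ f ∈ 𝒜 d ∧ f ∉ y.1.asHomogeneousIdeal :=
    fun y => ProjTwist.exists_pos_notMem 𝒜 y.1
  choose e f he hf hfy using hex
  obtain ⟨T, hT⟩ := hY.elim_finite_subcover (fun y : Y => (Proj.basicOpen 𝒜 (f y) : Set (Proj 𝒜)))
    (fun y => (Proj.basicOpen 𝒜 (f y)).2) (fun y hy => Set.mem_iUnion.mpr ⟨⟨y, hy⟩, hfy ⟨y, hy⟩⟩)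
  have hd : 0 < ∏ y ∈ T, e y := Finset.prod_pos fun y _ => he y
  refine ⟨∏ y ∈ T, e y, hd, fun y hy => ?_, fun n => ProjTwist.isInvertible_restrict_twist 𝒜 Y fun y hy => ?_⟩
  all_goals
    obtain ⟨k, hk, hyk⟩ := Set.mem_iUnion₂.mp (hT hy)
    obtain ⟨q, hq⟩ := Finset.dvd_prod_of_mem e hk
    have hfq : f k ^ q ∈ 𝒜 (∏ y ∈ T, e y) := by
      rw [hq, mul_comm]
      simpa [smul_eq_mul] using SetLike.pow_mem_graded q (hf k)
    have hnot : f k ^ q ∉ y.asHomogeneousIdeal := fun h => hyk (y.isPrime.mem_of_pow_mem q h)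
  · refine ⟨_, 0, f k ^ q, 1, hfq, SetLike.GradedOne.one_mem, by simp, ?_⟩
    rw [mul_one]
    exact hnot
  · exact ProjTwist.exists_unit_frac hfq hnot n

end Groth.Agent.S9580
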