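import Groth.Statements.S9581
import Groth.Agent.WeakAss.Basic
-- import your own Groth.Agent.* helpers here

set_option autoImplicit false
universe u
open CAlg

namespace Groth.Agent.S9581

open Groth.Agent.WeakAss in
/-- (1) ⇔ (3): for a ring R, an R-module M and a prime p of R, the prime p is weakly associated to M
(minimal among the primes containing the annihilator of some element of M) if and only if the
localization M_p contains an element whose annihilator in R_p has radical equal to the maximal ideal
p R_p. -/
theorem result {R : Type u} [CommRing R] (M : Type u) [AddCommGroup M] [Module R M] (p : Ideal R) [p.IsPrime] :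
    p ∈ FlatCA.weakAss R M ↔ IsAssociatedPrime (IsLocalRing.maximalIdeal (Localization.AtPrime p)) (LocalizedModule p.primeCompl M) := by
  have hd : Disjoint (p.primeCompl : Set R) (p : Set R) := Set.disjoint_left.mpr fun _ h h' ↦ h h'
  rw [mem_weakAss_iff_map_mem p.primeCompl (LocalizedModule.mkLinearMap p.primeCompl M)
      (A := Localization.AtPrime p) inferInstance hd,
    Localization.AtPrime.map_eq_maximalIdeal, maximalIdeal_mem_weakAss_iff]
  have h : ∀ m : LocalizedModule p.primeCompl M, (Submodule.span (Localization.AtPrime p) {m}).annihilator =
      (⊥ : Submodule (Localization.AtPrime p) _).colon {m} := fun m ↦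
    Ideal.ext fun r ↦ by simp [mem_ann_span, Submodule.mem_colon_singleton]
  exact ⟨fun ⟨m, hm⟩ ↦ ⟨inferInstance, m, by rw [← hm, h]⟩,
    fun ⟨_, m, hm⟩ ↦ ⟨m, by rw [hm, h]⟩⟩

end Groth.Agent.S9581
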