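import Groth.Statements.S9582
import Groth.Agent.WeakAss.Basic
-- import your own Groth.Agent.* helpers here

set_option autoImplicit false
universe u
open CAlg

namespace Groth.Agent.S9582

open Groth.Agent.WeakAss in
/-- For a reduced ring R, the primes weakly associated to the R-module R (primes minimal over the
annihilator of some element) are exactly the minimal primes of R. -/
theorem result {R : Type u} [CommRing R] [IsReduced R] :
    FlatCA.weakAss R R = minimalPrimes R := by
  ext p
  constructor
  · intro hp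
    obtain ⟨hp, m, h1, h2⟩ := mem_weakAss_iff.mp hp
    have key : ∀ r ∈ p, ∃ s ∉ p, s * r * m = 0 := fun r hr ↦ by
      obtain ⟨s, hs, n, hn⟩ := h2 r hr
      refine ⟨s, hs, IsReduced.eq_zero _ ⟨n + 1, ?_⟩⟩
      simp only [smul_eq_mul] at hn
      calc (s * r * m) ^ (n + 1) = (s ^ n * r * m ^ n) * (s * (r ^ n * m)) := by ring
        _ = 0 := by rw [hn, mul_zero]
    have hm : m ∉ p := fun hm ↦ by
      obtain ⟨s, hs, h⟩ := key m hm
      refine hs (h1 s (IsReduced.eq_zero _ ⟨2, ?_⟩))
      rw [smul_eq_mul]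
      calc (s * m) ^ 2 = s * (s * m * m) := by ring
        _ = 0 := by rw [h, mul_zero]
    refine ⟨⟨hp, bot_le⟩, fun q hq hqp r hr ↦ ?_⟩
    obtain ⟨s, hs, h⟩ := key r hr
    have h' : s * r * m ∈ q := h ▸ q.zero_mem
    exact (hq.1.mem_or_mem ((hq.1.mem_or_mem h').resolve_right fun h ↦ hm (hqp h))).resolve_left
      fun h ↦ hs (hqp h)
  · intro hp
    refine ⟨1, ?_⟩
    have : (Submodule.span R {(1 : R)}).annihilator = ⊥ := Ideal.ext fun r ↦ by
      rw [mem_ann_span, smul_eq_mul, mul_one, Ideal.mem_bot]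
    rw [this]
    exact hp

end Groth.Agent.S9582
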