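import Groth.Statements.S9583
import Mathlib

set_option autoImplicit false
universe u
open CAlg

namespace Groth.Agent.S9583

/-- For a ring R and a short exact sequence 0 → M' → M → M'' → 0 of R-modules, every prime weakly
associated to M' is weakly associated to M, and every prime weakly associated to M is weakly
associated to M' or to M''. -/
theorem result {R : Type u} [CommRing R] {M' M M'' : Type u} [AddCommGroup M'] [Module R M'] [AddCommGroup M] [Module R M] [AddCommGroup M''] [Module R M''] (f : M' →ₗ[R] M) (g : M →ₗ[R] M'') (hf : Function.Injective f) (hg : Function.Surjective g) (hfg : Function.Exact f g) :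
    FlatCA.weakAss R M' ⊆ FlatCA.weakAss R M ∧ FlatCA.weakAss R M ⊆ FlatCA.weakAss R M' ∪ FlatCA.weakAss R M'' := by
  have key : ∀ (N : Type u) [AddCommGroup N] [Module R N] (n : N) (p : Ideal R),
      p ∈ (Submodule.span R {n}).annihilator.minimalPrimes → p ∈ FlatCA.weakAss R N :=
    fun N _ _ n p h => ⟨n, h⟩
  constructor
  · rintro p ⟨m, hm⟩
    refine key M (f m) p ?_
    convert hm using 2
    ext r
    rw [Submodule.mem_annihilator_span_singleton, Submodule.mem_annihilator_span_singleton,
      ← map_smul, map_eq_zero_iff f hf]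
  · rintro p ⟨m, hm⟩
    have hle : (Submodule.span R {m}).annihilator ≤ (Submodule.span R {g m}).annihilator := by
      intro r hr
      rw [Submodule.mem_annihilator_span_singleton] at hr ⊢
      rw [← map_smul, hr, map_zero]
    by_cases hp : (Submodule.span R {g m}).annihilator ≤ p
    · exact Or.inr (key M'' (g m) p ⟨⟨hm.1.1, hp⟩, fun q hq hqp => hm.2 ⟨hq.1, hle.trans hq.2⟩ hqp⟩)
    · obtain ⟨s, hs, hsp⟩ := SetLike.not_le_iff_exists.1 hp
      rw [Submodule.mem_annihilator_span_singleton, ← map_smul] at hs
      obtain ⟨m', hm'⟩ := (hfg _).1 hs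
      have hann : ∀ r, r ∈ (Submodule.span R {m'}).annihilator ↔ (r * s) • m = 0 := fun r => by
        rw [Submodule.mem_annihilator_span_singleton, ← map_eq_zero_iff f hf, map_smul, hm', smul_smul]
      refine Or.inl (key M' m' p ⟨⟨hm.1.1, fun r hr => ?_⟩, fun q hq hqp =>
        hm.2 ⟨hq.1, fun r hr => hq.2 ?_⟩ hqp⟩)
      · have : r * s ∈ p := hm.1.2 (by
          rw [Submodule.mem_annihilator_span_singleton]; exact (hann r).1 hr)
        exact (hm.1.1.mem_or_mem this).resolve_right hsp
      · rw [Submodule.mem_annihilator_span_singleton] at hr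
        rw [hann, mul_comm, mul_smul, hr, smul_zero]

end Groth.Agent.S9583
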