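import Groth.Statements.S9584
import Mathlib

set_option autoImplicit false
universe u
open CAlg

namespace Groth.Agent.S9584

/-- For a ring R and an R-module M, M has no weakly associated prime (no prime minimal over the
annihilator of an element) if and only if M = 0. -/
theorem result {R : Type u} [CommRing R] (M : Type u) [AddCommGroup M] [Module R M] :
    FlatCA.weakAss R M = ∅ ↔ Subsingleton M := by
  constructor
  · intro h
    refine subsingleton_iff.mpr ?_
    intro x y
    suffices H : ∀ m : M, m = 0 by rw [H x, H y]
    intro m
    by_contra hm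
    obtain ⟨p, hp, hpmem⟩ : ∃ p ∈ (Submodule.span R {m}).annihilator.minimalPrimes, True := by
      have hne : (Submodule.span R {m}).annihilator ≠ ⊤ := by
        rw [Ne, Submodule.annihilator_eq_top_iff, Submodule.span_singleton_eq_bot]
        exact hm
      obtain ⟨p, hp⟩ := Ideal.nonempty_minimalPrimes hne
      exact ⟨p, hp, trivial⟩
    exact Set.eq_empty_iff_forall_notMem.mp h p ⟨m, hp⟩
  · intro h
    refine Set.eq_empty_iff_forall_notMem.mpr fun p ⟨m, hp⟩ => hp.1.1.ne_top (top_le_iff.mp ?_)
    refine le_trans ?_ hp.1.2
    rw [Subsingleton.elim m 0, Submodule.span_zero_singleton, Submodule.annihilator_bot]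

end Groth.Agent.S9584
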