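import Groth.Statements.S9585
import Groth.Agent.WeakAss.Basic
-- import your own Groth.Agent.* helpers here

set_option autoImplicit false
universe u
open CAlg

namespace Groth.Agent.S9585

open Groth.Agent.WeakAss in
/-- For a ring R and an R-module M, an element of R lies in some weakly associated prime of M exactly
when multiplication by it on M is not injective; in other words the union of the weakly associated
primes of M equals the set of zerodivisors on M. -/
theorem result {R : Type u} [CommRing R] (M : Type u) [AddCommGroup M] [Module R M] :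
    ⋃ q ∈ FlatCA.weakAss R M, (q : Set R) = {f : R | ¬ IsSMulRegular M f} := by
  ext f
  simp only [Set.mem_iUnion, SetLike.mem_coe, Set.mem_setOf_eq, exists_prop]
  constructor
  · rintro ⟨p, hp, hf⟩ hreg
    exact Set.disjoint_left.mp (disjoint_of_isSMulRegular (S := Submonoid.powers f) hp
      (by rintro _ ⟨n, rfl⟩; exact hreg.pow n)) (Submonoid.mem_powers f) hf
  · intro hf
    rw [isSMulRegular_iff_right_eq_zero_of_smul] at hf
    push Not at hf
    obtain ⟨m, hm, hm0⟩ := hf
    have hne : (Submodule.span R {m}).annihilator ≠ ⊤ := fun h ↦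
      hm0 (by simpa [mem_ann_span] using (Ideal.eq_top_iff_one _).mp h)
    obtain ⟨q, hq, hle⟩ := Ideal.exists_le_maximal _ hne
    obtain ⟨p, hp, -⟩ := Ideal.exists_minimalPrimes_le (J := q) hle
    exact ⟨p, ⟨m, hp⟩, hp.1.2 (mem_ann_span.mpr hm)⟩

end Groth.Agent.S9585
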