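import Groth.Statements.S9586
import Groth.Agent.WeakAss.Basic
-- import your own Groth.Agent.* helpers here

set_option autoImplicit false
universe u
open CAlg

namespace Groth.Agent.S9586

open Groth.Agent.WeakAss in
/-- For a ring R, an R-module M and a finitely generated prime ideal p of R, p is associated to M (equal
to the annihilator of an element) if and only if p is weakly associated to M (minimal over the
annihilator of an element). -/
theorem result {R : Type u} [CommRing R] (M : Type u) [AddCommGroup M] [Module R M] (p : Ideal R) [p.IsPrime] (hp : p.FG) :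
    p ∈ FlatCA.ass R M ↔ p ∈ FlatCA.weakAss R M := by
  constructor
  · rintro ⟨-, m, rfl⟩
    exact ⟨m, by rw [Ideal.minimalPrimes_eq_subsingleton_self]; rfl⟩
  · intro hweak
    obtain ⟨-, m, h1, h2⟩ := mem_weakAss_iff.mp hweak
    let K : Ideal R :=
      { carrier := {r | ∃ s ∉ p, s • r • m = 0}
        zero_mem' := ⟨1, p.ne_top_iff_one.mp (Ideal.IsPrime.ne_top ‹_›), by simp⟩
        add_mem' := by
          rintro a b ⟨s, hs, ha⟩ ⟨t, ht, hb⟩
          refine ⟨s * t, fun h ↦ (Ideal.IsPrime.mem_or_mem ‹_› h).elim hs ht, ?_⟩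
          rw [add_smul, smul_add, mul_comm s t, mul_smul, ha, mul_comm t s, mul_smul, hb]
          simp
        smul_mem' := by
          rintro c a ⟨s, hs, ha⟩
          exact ⟨s, hs, by rw [smul_assoc, smul_comm s c, ha, smul_zero]⟩ }
    have hK : ∀ J : Ideal R, J.FG → J ≤ K → ∃ s ∉ p, ∀ r ∈ J, s • r • m = 0 := by
      rintro J ⟨T, rfl⟩ hT
      choose s hs hs' using fun t : T ↦ hT (Submodule.subset_span t.2)
      refine ⟨∏ t, s t, fun h ↦ ?_, fun r hr ↦ ?_⟩
      · obtain ⟨t, -, ht⟩ := (Ideal.IsPrime.prod_mem_iff (hp := ‹p.IsPrime›)).mp h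
        exact hs t ht
      · induction hr using Submodule.span_induction with
        | mem x hx =>
          classical
          rw [← Finset.prod_erase_mul _ _ (Finset.mem_univ (⟨x, hx⟩ : T)), mul_smul, hs' ⟨x, hx⟩,
            smul_zero]
        | zero => simp
        | add x y _ _ hx hy => rw [add_smul, smul_add, hx, hy, add_zero]
        | smul c x _ hx => rw [smul_assoc, smul_comm (∏ t, s t) c, hx, smul_zero]
    obtain ⟨N₀, hN₀⟩ := Ideal.exists_pow_le_of_le_radical_of_fg (I := p) (J := K)
      (fun r hr ↦ by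
        obtain ⟨s, hs, n, hn⟩ := h2 r hr
        exact ⟨n, s, hs, hn⟩) hp
    obtain ⟨s, hs, hs'⟩ := hK _ hp.pow hN₀
    classical
    let Q : ℕ → Prop := fun N ↦ ∃ s ∉ p, ∀ r ∈ p ^ N, s • r • m = 0
    have hQ : ∃ N, Q N := ⟨N₀, s, hs, hs'⟩
    obtain ⟨s, hs, hs'⟩ := Nat.find_spec hQ
    obtain ⟨k, hk⟩ : ∃ k, Nat.find hQ = k + 1 := by
      refine Nat.exists_eq_add_one.mpr (Nat.pos_of_ne_zero fun h ↦ hs (h1 s ?_))
      have := hs' 1 (by simp [h])
      simpa using this
    obtain ⟨a, hak, haK⟩ : ∃ a ∈ p ^ k, a ∉ K := by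
      by_contra h
      push Not at h
      exact Nat.find_min hQ (by omega : k < Nat.find hQ) (hK _ hp.pow h)
    refine ⟨‹_›, s • a • m, Ideal.ext fun r ↦ ?_⟩
    rw [mem_ann_span]
    constructor
    · intro hr
      rw [smul_comm r s, ← mul_smul r a]
      exact hs' _ (by rw [hk, pow_succ', ]; exact Ideal.mul_mem_mul hr hak)
    · intro hr
      by_contra hrp
      exact haK ⟨r * s, fun h ↦ (Ideal.IsPrime.mem_or_mem ‹_› h).elim hrp hs,
        by rw [mul_smul]; exact hr⟩

end Groth.Agent.S9586
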