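import Groth.Statements.S9591
import Groth.Agent.WeakAss.Basic
-- import your own Groth.Agent.* helpers here

set_option autoImplicit false
universe u
open CAlg

namespace Groth.Agent.S9591

open Groth.Agent.WeakAss in
/-- For a ring R and an R-module M, the map from M to the product of the localizations M_p over all
primes p weakly associated to M is injective: an element vanishing in every such M_p is zero. -/
theorem result {R : Type u} [CommRing R] {M : Type u} [AddCommGroup M] [Module R M] (x : M) (hx : ∀ (p : Ideal R) [p.IsPrime], p ∈ FlatCA.weakAss R M → LocalizedModule.mkLinearMap p.primeCompl M x = 0) :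
    x = 0 := by
  by_contra h0
  have hne : (Submodule.span R {x}).annihilator ≠ ⊤ := fun h ↦
    h0 (by simpa [mem_ann_span] using (Ideal.eq_top_iff_one _).mp h)
  obtain ⟨q, hq, hle⟩ := Ideal.exists_le_maximal _ hne
  obtain ⟨p, hp, -⟩ := Ideal.exists_minimalPrimes_le hle
  have := hp.1.1
  obtain ⟨c, hc⟩ := (IsLocalizedModule.eq_zero_iff p.primeCompl _).mp (hx p ⟨x, hp⟩)
  exact c.2 (hp.1.2 (mem_ann_span.mpr hc))

end Groth.Agent.S9591
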