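import Groth.Statements.S9594
import Groth.Agent.WeakAss.Basic
-- import your own Groth.Agent.* helpers here

set_option autoImplicit false
universe u
open CAlg

namespace Groth.Agent.S9594

open Groth.Agent.WeakAss in
/-- For a ring R, an R-module M and a multiplicative subset S of R, (1) the primes of R associated to
the R-module S⁻¹M are the inverse images of the primes of S⁻¹R associated to S⁻¹M, and (2) a prime
of R associated to M which does not meet S is associated to the R-module S⁻¹M. Here a prime is
associated to a module when it equals the annihilator of some element. -/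
theorem result {R : Type u} [CommRing R] (S : Submonoid R) (M : Type u) [AddCommGroup M] [Module R M] :
    FlatCA.ass R (LocalizedModule S M) = Ideal.comap (algebraMap R (Localization S)) '' FlatCA.ass (Localization S) (LocalizedModule S M) ∧
      ∀ p ∈ FlatCA.ass R M, Disjoint (S : Set R) (p : Set R) → p ∈ FlatCA.ass R (LocalizedModule S M) := by
  refine ⟨ass_eq_image_comap (fractional_localization S), ?_⟩
  rintro p ⟨hp, m, rfl⟩ hd
  rw [Set.disjoint_left] at hd
  refine ⟨hp, LocalizedModule.mkLinearMap S M m, Ideal.ext fun r ↦ ?_⟩
  rw [mem_ann_span, mem_ann_span, ← map_smul, IsLocalizedModule.eq_zero_iff S]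
  refine ⟨fun h ↦ ⟨1, by simp [h]⟩, fun ⟨c, hc⟩ ↦ ?_⟩
  have : (c : R) * r ∈ (Submodule.span R {m}).annihilator :=
    mem_ann_span.mpr (by rw [mul_smul]; exact hc)
  exact mem_ann_span.mp ((hp.mem_or_mem this).resolve_left fun h ↦ hd c.2 h)

end Groth.Agent.S9594
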