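import Groth.Statements.S9595
import Groth.Agent.WeakAss.Basic
-- import your own Groth.Agent.* helpers here

set_option autoImplicit false
universe u
open CAlg

namespace Groth.Agent.S9595

open Groth.Agent.WeakAss in
/-- For a ring R, an R-module M and a multiplicative subset S of R whose elements are all
nonzerodivisors on M, a prime of R is the annihilator of an element of M if and only if it is the
annihilator in R of an element of S⁻¹M. -/
theorem result {R : Type u} [CommRing R] (S : Submonoid R) (M : Type u) [AddCommGroup M] [Module R M] (hS : ∀ s ∈ S, IsSMulRegular M s) :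
    FlatCA.ass R M = FlatCA.ass R (LocalizedModule S M) := by
  let f := LocalizedModule.mkLinearMap S M
  have hf : ∀ m, f m = 0 → m = 0 := fun m hm ↦ by
    obtain ⟨c, hc⟩ := (IsLocalizedModule.eq_zero_iff S f).mp hm
    exact (hS c c.2).eq_iff.mp (by rw [smul_zero]; exact hc)
  ext p
  constructor
  · rintro ⟨hp, m, rfl⟩
    refine ⟨hp, f m, Ideal.ext fun r ↦ ?_⟩
    rw [mem_ann_span, mem_ann_span, ← map_smul]
    exact ⟨fun h ↦ by rw [h, map_zero], hf _⟩
  · rintro ⟨hp, y, rfl⟩
    obtain ⟨⟨m, c⟩, hc⟩ := IsLocalizedModule.surj S f y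
    change (c : R) • y = f m at hc
    refine ⟨hp, m, Ideal.ext fun r ↦ ?_⟩
    rw [mem_ann_span, mem_ann_span]
    refine ⟨fun h ↦ hf _ (by rw [map_smul, ← hc, smul_comm, h, smul_zero]), fun h ↦ ?_⟩
    refine IsLocalizedModule.smul_injective f c ?_
    change (c : R) • r • y = (c : R) • 0
    rw [smul_comm, hc, ← map_smul, h, map_zero, smul_zero]

end Groth.Agent.S9595
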