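import Groth.Statements.S9597
import Groth.Agent.WeakAss.Basic
-- import your own Groth.Agent.* helpers here

set_option autoImplicit false
universe u
open CAlg

namespace Groth.Agent.S9597

open Groth.Agent.WeakAss in
/-- Let R be a Noetherian ring, M a finite R-module whose associated primes are pairwise incomparable
under inclusion (M has no embedded associated primes), and I the annihilator of M. Then the
associated primes of R/I, viewed as a module over itself, are again pairwise incomparable: R/I has
no embedded primes either. -/
theorem result {R : Type u} [CommRing R] [IsNoetherianRing R] (M : Type u) [AddCommGroup M] [Module R M] [Module.Finite R M] (hM : ∀ p ∈ associatedPrimes R M, ∀ q ∈ associatedPrimes R M, p ≤ q → p = q) :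
    ∀ p ∈ associatedPrimes (R ⧸ Module.annihilator R M) (R ⧸ Module.annihilator R M), ∀ q ∈ associatedPrimes (R ⧸ Module.annihilator R M) (R ⧸ Module.annihilator R M), p ≤ q → p = q := by
  obtain ⟨T, hT⟩ := Module.Finite.fg_top (R := R) (M := M)
  have key : ∀ P ∈ associatedPrimes (R ⧸ Module.annihilator R M) (R ⧸ Module.annihilator R M),
      Ideal.comap (Ideal.Quotient.mk _) P ∈ associatedPrimes R M := by
    intro P hP
    obtain ⟨hP, z, hz⟩ := isAssociatedPrime_iff.mp hP
    obtain ⟨z, rfl⟩ := Ideal.Quotient.mk_surjective z
    have hpr : (Ideal.comap (Ideal.Quotient.mk (Module.annihilator R M)) P).IsPrime := hP.comap _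
    have heq : Ideal.comap (Ideal.Quotient.mk (Module.annihilator R M)) P =
        T.inf fun g ↦ (⊥ : Submodule R M).colon {z • g} := by
      ext r
      rw [Ideal.mem_comap, hz, Submodule.mem_colon_singleton, Submodule.mem_bot, smul_eq_mul,
        ← map_mul, Ideal.Quotient.eq_zero_iff_mem, Submodule.mem_finsetInf, Module.mem_annihilator]
      simp only [Submodule.mem_colon_singleton, Submodule.mem_bot]
      refine ⟨fun h g _ ↦ by rw [← mul_smul]; exact h g, fun h m ↦ ?_⟩
      have hm : m ∈ Submodule.span R (T : Set M) := hT ▸ Submodule.mem_top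
      induction hm using Submodule.span_induction with
      | mem x hx => rw [mul_smul]; exact h x hx
      | zero => simp
      | add x y _ _ hx hy => rw [smul_add, hx, hy, add_zero]
      | smul c x _ hx => rw [smul_comm, hx, smul_zero]
    obtain ⟨g, hg, hle⟩ := (Ideal.IsPrime.inf_le' hpr).mp heq.ge
    refine isAssociatedPrime_iff.mpr ⟨hpr, z • g, le_antisymm ?_ hle⟩
    rw [heq]
    exact Finset.inf_le hg
  intro p hp q hq hpq
  exact Ideal.comap_injective_of_surjective _ Ideal.Quotient.mk_surjective
    (hM _ (key p hp) _ (key q hq) (Ideal.comap_mono hpq))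

end Groth.Agent.S9597
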