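import Groth.Statements.S9598
import Mathlib
-- import your own Groth.Agent.* helpers here

set_option autoImplicit false
universe u
open CAlg

namespace Groth.Agent.S9598

/-- For a field k and a finite type k-algebra S with dim S > 0, some element of S is a nonzerodivisor
and a nonunit. -/
theorem result {k S : Type u} [Field k] [CommRing S] [Algebra k S] [Algebra.FiniteType k S] (hdim : 0 < ringKrullDim S) :
    ∃ f : S, f ∈ nonZeroDivisors S ∧ ¬ IsUnit f := by
  haveI : IsNoetherianRing S := Algebra.FiniteType.isNoetherianRing k S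
  classical
  by_contra hcon
  push_neg at hcon
  have hsub : ∀ m : Ideal S, m.IsMaximal → m ∈ associatedPrimes S S := by
    intro m hm
    have h1 : (m : Set S) ⊆ ⋃ p ∈ associatedPrimes S S, (p : Set S) := by
      rw [biUnion_associatedPrimes_eq_compl_nonZeroDivisors]
      exact fun f hf hnz => hm.ne_top (Ideal.eq_top_of_isUnit_mem _ hf (hcon f hnz))
    obtain ⟨p, hp, hmp⟩ := (Ideal.subset_union_prime_finite (associatedPrimes.finite S S) (f := id) ⊥ ⊥
      (fun p hp _ _ => hp.isPrime)).mp h1
    exact (hm.eq_of_le hp.isPrime.ne_top hmp) ▸ hp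
  have hfin : {m : Ideal S | m.IsMaximal}.Finite := (associatedPrimes.finite S S).subset hsub
  haveI : IsJacobsonRing S := isJacobsonRing_of_finiteType (A := k)
  have hmax : ∀ p : Ideal S, p.IsPrime → p.IsMaximal := by
    intro p hp
    have hj : p.jacobson = p := isJacobsonRing_iff.mp ‹_› p hp.isRadical
    have : hfin.toFinset.inf (fun m => if p ≤ m then m else ⊤) ≤ p := by
      intro x hx
      rw [← hj]
      refine Submodule.mem_sInf.mpr fun m ⟨hpm, hm⟩ => ?_
      have := Finset.inf_le (f := fun m => if p ≤ m then m else ⊤) (hfin.mem_toFinset.mpr hm) hx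
      simpa [hpm] using this
    obtain ⟨m, hm, hmp⟩ := (Ideal.IsPrime.inf_le' hp).mp this
    split_ifs at hmp with hpm
    · exact le_antisymm hpm hmp ▸ hfin.mem_toFinset.mp hm
    · exact absurd (top_le_iff.mp hmp) hp.ne_top
  haveI : Ring.KrullDimLE 0 S := Ring.krullDimLE_zero_iff.mpr hmax
  exact absurd (Ring.krullDimLE_iff.mp ‹_›) (not_le.mpr hdim)

end Groth.Agent.S9598
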