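import Mathlib
import Groth.Agent.FiniteInjDescent.Projective
import Groth.Statements.S9599
-- import your own Groth.Agent.* helpers here

set_option autoImplicit false
universe u
open CAlg

namespace Groth.Agent.S9599

/-- For a ring R, an ideal I of R and a short exact sequence 0 → K → M → N → 0 of R-modules with N flat
over R, the induced sequence of I-adic completions 0 → K^ → M^ → N^ → 0 is again short exact. -/
theorem result {R : Type u} [CommRing R] (I : Ideal R) {K M N : Type u} [AddCommGroup K] [Module R K] [AddCommGroup M] [Module R M] [AddCommGroup N] [Module R N] [Module.Flat R N] (i : K →ₗ[R] M) (g : M →ₗ[R] N) (hi : Function.Injective i) (hg : Function.Surjective g) (hig : Function.Exact i g) :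
    Function.Injective (AdicCompletion.map I i) ∧ Function.Exact (AdicCompletion.map I i) (AdicCompletion.map I g) ∧ Function.Surjective (AdicCompletion.map I g) := by
  have hinj : ∀ n : ℕ, Function.Injective (LinearMap.reduceModIdeal (I ^ n) i) := by
    intro n
    have h1 := Groth.Agent.FiniteInjDescent.lTensor_injective_of_flat_quotient hi hig hg (R ⧸ I ^ n)
    refine (injective_iff_map_eq_zero _).2 fun q hq => ?_
    obtain ⟨a, rfl⟩ := Submodule.Quotient.mk_surjective _ q
    rw [LinearMap.reduceModIdeal_apply, Submodule.Quotient.mk_eq_zero] at hq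
    have h2 : (i.lTensor (R ⧸ I ^ n)) ((Ideal.Quotient.mk (I ^ n) 1) ⊗ₜ[R] a) = 0 := by
      rw [LinearMap.lTensor_tmul]
      apply (TensorProduct.quotTensorEquivQuotSMul M (I ^ n)).injective
      rw [map_zero]
      erw [TensorProduct.quotTensorEquivQuotSMul_mk_tmul]
      rw [one_smul, Submodule.Quotient.mk_eq_zero]
      exact hq
    have h3 := congrArg (TensorProduct.quotTensorEquivQuotSMul K (I ^ n)) (h1 (h2.trans (map_zero _).symm))
    rw [map_zero] at h3
    erw [TensorProduct.quotTensorEquivQuotSMul_mk_tmul] at h3
    rwa [one_smul] at h3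
  have hex : ∀ n : ℕ, ∀ y, LinearMap.reduceModIdeal (I ^ n) g y = 0 → ∃ x, LinearMap.reduceModIdeal (I ^ n) i x = y := by
    intro n y hy
    obtain ⟨y, rfl⟩ := Submodule.Quotient.mk_surjective _ y
    rw [LinearMap.reduceModIdeal_apply, Submodule.Quotient.mk_eq_zero] at hy
    have : g y ∈ Submodule.map g (I ^ n • (⊤ : Submodule R M)) := by
      rwa [Submodule.map_smul'', Submodule.map_top, LinearMap.range_eq_top.2 hg]
    obtain ⟨w, hw, hwe⟩ := this
    obtain ⟨a, ha⟩ := (hig (y - w)).1 (by rw [map_sub, hwe, sub_self])
    refine ⟨Submodule.Quotient.mk a, ?_⟩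
    rw [LinearMap.reduceModIdeal_apply, Submodule.Quotient.eq, ha, sub_sub_cancel_left]
    exact neg_mem hw
  have hinj' : Function.Injective (AdicCompletion.map I i) := fun x y h =>
    AdicCompletion.ext fun n => hinj n (by rw [← AdicCompletion.map_val_apply, ← AdicCompletion.map_val_apply, h])
  refine ⟨hinj', fun y => ⟨fun hy => ?_, ?_⟩, AdicCompletion.map_surjective I hg⟩
  · choose x hx using fun n => hex n (y.val n) (by rw [← AdicCompletion.map_val_apply, hy]; rfl)
    refine ⟨⟨x, fun {m n} hmn => hinj m ?_⟩, AdicCompletion.ext fun n => ?_⟩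
    · have e := LinearMap.congr_fun (AdicCompletion.transitionMap_comp_reduceModIdeal I i hmn) (x n)
      simp only [LinearMap.comp_apply] at e
      refine Eq.trans e.symm ?_
      erw [hx, hx]
      exact y.2 hmn
    · rw [AdicCompletion.map_val_apply]
      exact hx n
  · rintro ⟨x, rfl⟩
    rw [AdicCompletion.map_comp_apply, hig.linearMap_comp_eq_zero, AdicCompletion.map_zero]
    rfl

end Groth.Agent.S9599
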