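import Groth.Statements.S9600
import Mathlib
-- import your own Groth.Agent.* helpers here

set_option autoImplicit false
universe u
open CAlg

namespace Groth.Agent.S9600

/-- Let R be a ring, I an ideal of R and 0 → M → N → Q → 0 a short exact sequence of R-modules in which
Q is killed by some power I^c of I. Then on I-adic completions the map M^ → N^ is injective, N^ → Q^
is surjective with kernel equal to the image of M^, and the canonical map Q → Q^ is bijective; so 0
→ M^ → N^ → Q → 0 is again short exact. -/
theorem result {R : Type u} [CommRing R] (I : Ideal R) {M N Q : Type u} [AddCommGroup M] [Module R M] [AddCommGroup N] [Module R N] [AddCommGroup Q] [Module R Q] (i : M →ₗ[R] N) (g : N →ₗ[R] Q) (hi : Function.Injective i) (hg : Function.Surjective g) (hig : Function.Exact i g) (c : ℕ) (hc : ∀ x ∈ I ^ c, ∀ q : Q, x • q = 0) :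
    Function.Injective (AdicCompletion.map I i) ∧ Function.Exact (AdicCompletion.map I i) (AdicCompletion.map I g) ∧ Function.Surjective (AdicCompletion.map I g) ∧ Function.Bijective (AdicCompletion.of I Q) := by
  have hQ0 : ∀ n, c ≤ n → (I ^ n • ⊤ : Submodule R Q) = ⊥ := fun n hn => by
    rw [eq_bot_iff]
    refine Submodule.smul_le.mpr fun x hx q _ => ?_
    rw [hc x (Ideal.pow_le_pow_right hn hx) q]
    exact zero_mem _
  have hcN : (I ^ c • ⊤ : Submodule R N) ≤ LinearMap.range i := by
    intro x hx
    refine (hig x).mp ?_
    have : g x ∈ (I ^ c • ⊤ : Submodule R Q) :=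
      Submodule.smul_top_le_comap_smul_top (I ^ c) g hx
    rw [hQ0 c le_rfl] at this
    exact this
  have hkey : ∀ n a, i a ∈ (I ^ (n + c) • ⊤ : Submodule R N) → a ∈ (I ^ n • ⊤ : Submodule R M) := by
    intro n a ha
    rw [pow_add, ← smul_eq_mul, Submodule.smul_assoc] at ha
    have h := Submodule.smul_mono le_rfl hcN ha
    rw [LinearMap.range_eq_map, ← Submodule.map_smul''] at h
    obtain ⟨a', ha', he⟩ := h
    exact hi he ▸ ha'
  refine ⟨?_, ?_, AdicCompletion.map_surjective I hg, ?_⟩
  · rw [injective_iff_map_eq_zero]
    intro x hx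
    ext n
    obtain ⟨a, ha⟩ := Submodule.Quotient.mk_surjective _ (x.val (n + c))
    have h := congrArg (fun y : AdicCompletion I N => y.val (n + c)) hx
    simp only [AdicCompletion.map_val_apply, ← ha, AdicCompletion.val_zero, Pi.zero_apply] at h
    have h' : a ∈ (I ^ n • ⊤ : Submodule R M) :=
      hkey n a ((Submodule.Quotient.mk_eq_zero _).mp h)
    rw [← x.2 (show n ≤ n + c by omega), ← ha]
    exact (Submodule.Quotient.mk_eq_zero _).mpr h'
  · intro y
    constructor
    · intro hy
      have hb : ∀ n, ∃ a : M, Submodule.Quotient.mk (i a) = y.val (n + c) := fun n => by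
        obtain ⟨b, hb⟩ := Submodule.Quotient.mk_surjective _ (y.val (n + c))
        have h := congrArg (fun z : AdicCompletion I Q => z.val (n + c)) hy
        simp only [AdicCompletion.map_val_apply, ← hb, AdicCompletion.val_zero, Pi.zero_apply] at h
        have h' : g b ∈ (I ^ (n + c) • ⊤ : Submodule R Q) := (Submodule.Quotient.mk_eq_zero _).mp h
        rw [hQ0 _ (by omega)] at h'
        obtain ⟨a, rfl⟩ := (hig b).mp h'
        exact ⟨a, hb⟩
      choose a ha using hb
      refine ⟨AdicCompletion.mk I M (AdicCompletion.AdicCauchySequence.mk I M a fun n => ?_), ?_⟩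
      · rw [SModEq, Submodule.Quotient.eq]
        refine hkey n _ ?_
        rw [map_sub]
        apply (Submodule.Quotient.eq _).mp
        rw [ha n, ← y.2 (show n + c ≤ n + 1 + c by omega), ← ha (n + 1)]
        rfl
      · ext n
        simp only [AdicCompletion.map_val_apply]
        rw [← y.2 (show n ≤ n + c by omega), ← ha n]
        rfl
    · rintro ⟨x, rfl⟩
      rw [← LinearMap.comp_apply, AdicCompletion.map_comp, hig.linearMap_comp_eq_zero,
        AdicCompletion.map_zero, LinearMap.zero_apply]
  · haveI : IsHausdorff I Q := ⟨fun x hx => by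
      have h := hx c
      rw [hQ0 c le_rfl, SModEq.bot] at h
      exact h⟩
    haveI : IsPrecomplete I Q := ⟨fun f hf => ⟨f c, fun n => by
      rcases le_total n c with h | h
      · exact hf h
      · have e := hf h
        rw [hQ0 c le_rfl, SModEq.bot] at e
        rw [e]⟩⟩
    haveI : IsAdicComplete I Q := {}
    exact AdicCompletion.of_bijective I Q

end Groth.Agent.S9600
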