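import Groth.Statements.S9601
import Mathlib
-- import your own Groth.Agent.* helpers here

set_option autoImplicit false
universe u
open CAlg

namespace Groth.Agent.S9601

/-- For a ring R, an ideal I of R and an R-module M, let M^ be the I-adic completion and K_n the kernel
of the projection M^ → M/IⁿM. The completion M^ is I-adically complete exactly when K_n = Iⁿ M^
holds for every n ≥ 1. -/
theorem result {R : Type u} [CommRing R] (I : Ideal R) (M : Type u) [AddCommGroup M] [Module R M] :
    IsAdicComplete I (AdicCompletion I M) ↔ ∀ n : ℕ, 1 ≤ n → LinearMap.ker (AdicCompletion.eval I M n) = I ^ n • (⊤ : Submodule R (AdicCompletion I M)) := by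
  have hle : ∀ n, (I ^ n • ⊤ : Submodule R (AdicCompletion I M)) ≤
      LinearMap.ker (AdicCompletion.eval I M n) := by
    intro n
    refine Submodule.smul_le.mpr fun r hr x _ => ?_
    rw [LinearMap.mem_ker, map_smul]
    obtain ⟨m, hm⟩ := Submodule.mkQ_surjective _ (AdicCompletion.eval I M n x)
    rw [← hm, ← map_smul]
    exact (Submodule.Quotient.mk_eq_zero _).mpr (Submodule.smul_mem_smul hr Submodule.mem_top)
  constructor
  · intro hC n _
    refine le_antisymm (fun x hx => ?_) (hle n)
    choose s hs using fun j => Submodule.mkQ_surjective (I ^ j • ⊤ : Submodule R M) (AdicCompletion.eval I M j x)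
    have hof : ∀ (j : ℕ) (y : M), y ∈ (I ^ j • ⊤ : Submodule R M) →
        AdicCompletion.of I M y ∈ (I ^ j • ⊤ : Submodule R (AdicCompletion I M)) := fun j y hy => by
      have h1 := Submodule.mem_map_of_mem (f := AdicCompletion.of I M) hy
      rw [Submodule.map_smul''] at h1
      exact Submodule.smul_mono le_rfl le_top h1
    have hc : ∀ {i j : ℕ}, i ≤ j → AdicCompletion.of I M (s i) ≡ AdicCompletion.of I M (s j)
        [SMOD (I ^ i • ⊤ : Submodule R (AdicCompletion I M))] := by
      intro i j hij
      rw [SModEq.sub_mem, ← map_sub]
      refine hof i _ ?_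
      have h1 : AdicCompletion.transitionMap I M hij (AdicCompletion.eval I M j x) =
          AdicCompletion.eval I M i x :=
        AdicCompletion.transitionMap_comp_eval_apply I M hij x
      rw [← hs i, ← hs j] at h1
      exact (Submodule.Quotient.eq _).mp h1.symm
    obtain ⟨L, hL⟩ := IsPrecomplete.prec hC.toIsPrecomplete hc
    have hLx : L = x := by
      refine AdicCompletion.ext fun {i} => ?_
      show AdicCompletion.eval I M i L = AdicCompletion.eval I M i x
      have h1 := hle i (SModEq.sub_mem.mp (hL i))
      rw [LinearMap.mem_ker, map_sub, sub_eq_zero, AdicCompletion.eval_of, hs i] at h1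
      exact h1.symm
    have hn : AdicCompletion.of I M (s n) ∈ (I ^ n • ⊤ : Submodule R (AdicCompletion I M)) := by
      refine hof n _ ((Submodule.Quotient.mk_eq_zero _).mp ?_)
      exact (hs n).trans hx
    have := sub_mem hn (SModEq.sub_mem.mp (hL n))
    rwa [sub_sub_cancel, hLx] at this
  · intro h
    have h' : ∀ n, LinearMap.ker (AdicCompletion.eval I M n) = (I ^ n • ⊤ : Submodule R (AdicCompletion I M)) := by
      intro n
      rcases Nat.eq_zero_or_pos n with rfl | hn
      · refine le_antisymm ?_ (hle 0)
        simp
      · exact h n hn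
    exact
    { haus' := fun x hx => by
        refine AdicCompletion.ext fun {i} => ?_
        show AdicCompletion.eval I M i x = AdicCompletion.eval I M i 0
        rw [map_zero]
        exact hle i (SModEq.zero.mp (hx i))
      prec' := fun s hs => by
        have hc : ∀ {i j : ℕ}, i ≤ j →
            AdicCompletion.eval I M i (s i) = AdicCompletion.eval I M i (s j) := fun {i j} hij => by
          have h1 := hle i (SModEq.sub_mem.mp (hs hij))
          rwa [LinearMap.mem_ker, map_sub, sub_eq_zero] at h1
        let L : AdicCompletion I M := ⟨fun i => AdicCompletion.eval I M i (s i), fun {i j} hij =>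
          (AdicCompletion.transitionMap_comp_eval_apply I M hij (s j)).trans (hc hij).symm⟩
        refine ⟨L, fun i => SModEq.sub_mem.mpr ?_⟩
        rw [← h', LinearMap.mem_ker, map_sub, sub_eq_zero]
        rfl }

end Groth.Agent.S9601
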