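import Mathlib
import Groth.Statements.S9603
-- import your own Groth.Agent.* helpers here

set_option autoImplicit false
universe u
open CAlg

namespace Groth.Agent.S9603

/-- For a ring A, elements f_1, …, f_r generating an ideal I and an A-module M, if the canonical map
from M to its (f_i)-adic completion is surjective for every i, then the canonical map from M to its
I-adic completion is surjective. -/
theorem result {A : Type u} [CommRing A] {r : ℕ} (f : Fin r → A) (M : Type u) [AddCommGroup M] [Module A M] (h : ∀ i, Function.Surjective (AdicCompletion.of (Ideal.span {f i}) M)) :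
    Function.Surjective (AdicCompletion.of (Ideal.span (Set.range f)) M) := by
  classical
  set I := Ideal.span (Set.range f)
  intro x
  obtain ⟨⟨a, ha⟩, rfl⟩ := AdicCompletion.mk_surjective I M x
  have hN : ∀ k, ∃ N, I ^ N ≤ Ideal.span (Set.range fun i => f i ^ k) := fun k =>
    Ideal.exists_pow_le_of_le_radical_of_fg (Ideal.span_le.2 (by
      rintro _ ⟨i, rfl⟩
      exact ⟨k, Ideal.subset_span ⟨i, rfl⟩⟩)) (Submodule.fg_span (Set.finite_range f))
  choose N hN using hN
  let T : ℕ → ℕ := fun k => k + ∑ j ∈ Finset.range (k + 1), N j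
  have hT : ∀ k, k ≤ T k := fun k => Nat.le_add_right _ _
  have hTN : ∀ k, N k ≤ T k := fun k =>
    (Finset.single_le_sum (f := N) (fun _ _ => Nat.zero_le _) (Finset.self_mem_range_succ k)).trans (Nat.le_add_left _ _)
  have hTm : ∀ k, T k ≤ T (k + 1) := fun k =>
    Nat.add_le_add (Nat.le_succ k) (Finset.sum_le_sum_of_subset (Finset.range_subset_range.2 (Nat.le_succ _)))
  have hdiff : ∀ k, ∃ y : Fin r → M, a (T (k + 1)) - a (T k) = ∑ i, f i ^ k • y i := by
    intro k
    have h1 : a (T (k + 1)) - a (T k) ∈ Ideal.span (Set.range fun i => f i ^ k) • (⊤ : Submodule A M) :=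
      Submodule.smul_mono_left ((Ideal.pow_le_pow_right (hTN k)).trans (hN k)) (SModEq.sub_mem.1 (ha (hTm k)).symm)
    generalize a (T (k + 1)) - a (T k) = e at h1 ⊢
    refine Submodule.smul_induction_on h1 (fun c hc m _ => ?_) (fun u v hu hv => ?_)
    · obtain ⟨d, rfl⟩ := (Ideal.mem_span_range_iff_exists_fun).1 hc
      exact ⟨fun i => d i • m, by rw [Finset.sum_smul]; exact Finset.sum_congr rfl fun i _ => by rw [mul_comm, mul_smul]⟩
    · obtain ⟨y, rfl⟩ := hu
      obtain ⟨y', rfl⟩ := hv
      exact ⟨y + y', by simp [smul_add, Finset.sum_add_distrib]⟩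
  choose y hy using hdiff
  let s : Fin r → ℕ → M := fun i n => ∑ k ∈ Finset.range n, f i ^ k • y k i
  have hs : ∀ i n, s i n ≡ s i (n + 1) [SMOD (Ideal.span {f i} ^ n • ⊤ : Submodule A M)] := fun i n => by
    rw [SModEq.sub_mem]
    simp only [s, Finset.sum_range_succ, sub_add_cancel_left]
    exact neg_mem (Submodule.smul_mem_smul (Ideal.pow_mem_pow (Ideal.mem_span_singleton_self _) n) trivial)
  choose z hz using fun i => h i (AdicCompletion.mk _ M (AdicCompletion.AdicCauchySequence.mk _ M (s i) (hs i)))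
  refine ⟨a (T 0) + ∑ i, z i, AdicCompletion.ext fun n => ?_⟩
  show Submodule.mkQ _ (a (T 0) + ∑ i, z i) = Submodule.mkQ (I ^ n • ⊤ : Submodule A M) (a n)
  have hz' : ∀ i, z i - s i n ∈ (I ^ n • ⊤ : Submodule A M) := fun i => by
    have h1 := congrArg (fun e => e.val n) (hz i)
    refine Submodule.smul_mono_left (Ideal.pow_right_mono ((Ideal.span_singleton_le_iff_mem _).2 (show f i ∈ I from Ideal.subset_span ⟨i, rfl⟩)) n) ?_
    exact (Submodule.Quotient.eq _).1 h1
  have hb : a (T n) = a (T 0) + ∑ i, s i n := by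
    rw [Finset.sum_comm, ← Finset.sum_congr rfl (fun k _ => hy k), Finset.sum_range_sub (fun k => a (T k))]
    abel
  refine (Submodule.Quotient.eq _).2 ?_
  have h2 : a (T n) - a n ∈ (I ^ n • ⊤ : Submodule A M) := SModEq.sub_mem.1 (ha (hT n)).symm
  have h3 : ∑ i, (z i - s i n) ∈ (I ^ n • ⊤ : Submodule A M) := sum_mem fun i _ => hz' i
  rw [Finset.sum_sub_distrib] at h3
  convert add_mem h3 h2 using 1
  rw [hb]; abel

end Groth.Agent.S9603
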