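import Groth.Statements.S9605
import Mathlib
-- import your own Groth.Agent.* helpers here

set_option autoImplicit false
universe u
open CAlg

namespace Groth.Agent.S9605

/-- For a ring R, an ideal I of R, an I-adically complete R-module M and a submodule K of M, the
quotient M/K is I-adically complete if and only if K = ⋂ₙ (K + IⁿM). -/
theorem result {R : Type u} [CommRing R] (I : Ideal R) (M : Type u) [AddCommGroup M] [Module R M] [IsAdicComplete I M] (K : Submodule R M) :
    IsAdicComplete I (M ⧸ K) ↔ K = ⨅ n : ℕ, K ⊔ I ^ n • (⊤ : Submodule R M) := by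
  have hmap : ∀ n : ℕ, (I ^ n • ⊤ : Submodule R (M ⧸ K)) = (I ^ n • ⊤ : Submodule R M).map K.mkQ := fun n => by
    rw [Submodule.map_smul'', Submodule.map_top, Submodule.range_mkQ]
  have hmem : ∀ n (x : M), K.mkQ x ∈ (I ^ n • ⊤ : Submodule R (M ⧸ K)) ↔ x ∈ K ⊔ I ^ n • (⊤ : Submodule R M) := fun n x => by
    rw [hmap, ← Submodule.comap_map_mkQ, Submodule.mem_comap]
  haveI : IsPrecomplete I (M ⧸ K) := by
    refine ⟨fun f hf => ?_⟩
    have hd : ∀ n, ∃ d ∈ (I ^ n • ⊤ : Submodule R M), K.mkQ d = f (n + 1) - f n := fun n => by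
      have h1 := SModEq.sub_mem.mp (hf (Nat.le_succ n)).symm
      rw [hmap] at h1
      exact h1
    choose d hd hdq using hd
    obtain ⟨x0, hx0⟩ := K.mkQ_surjective (f 0)
    let g : ℕ → M := fun n => x0 + ∑ j ∈ Finset.range n, d j
    have hg : ∀ n, K.mkQ (g n) = f n := fun n => by
      simp only [g, map_add, map_sum, hdq, hx0, Finset.sum_range_sub]
      abel
    have hc : ∀ {m n}, m ≤ n → g m ≡ g n [SMOD (I ^ m • ⊤ : Submodule R M)] := fun {m n} h => by
      refine (SModEq.sub_mem.mpr ?_).symm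
      simp only [g, add_sub_add_left_eq_sub, ← Finset.sum_Ico_eq_sub _ h]
      exact Submodule.sum_mem _ fun j hj => Submodule.smul_mono_left
        (Ideal.pow_le_pow_right (Finset.mem_Ico.mp hj).1) (hd j)
    obtain ⟨L, hL⟩ := IsPrecomplete.prec (inferInstance : IsPrecomplete I M) hc
    refine ⟨K.mkQ L, fun n => ?_⟩
    rw [SModEq.sub_mem, ← hg, ← map_sub, hmem]
    exact Submodule.mem_sup_right (SModEq.sub_mem.mp (hL n))
  constructor
  · intro hcpl
    refine le_antisymm (le_iInf fun n => le_sup_left) fun x hx => ?_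
    rw [← Submodule.Quotient.mk_eq_zero]
    refine IsHausdorff.haus (inferInstance : IsHausdorff I (M ⧸ K)) _ fun n => ?_
    rw [SModEq.sub_mem, sub_zero]
    exact (hmem n x).mpr (Submodule.mem_iInf _ |>.mp hx n)
  · intro hK
    haveI : IsHausdorff I (M ⧸ K) := ⟨fun y hy => by
      obtain ⟨x, rfl⟩ := K.mkQ_surjective y
      rw [Submodule.mkQ_apply, Submodule.Quotient.mk_eq_zero, hK, Submodule.mem_iInf]
      exact fun n => (hmem n x).mp (by simpa [SModEq.sub_mem] using hy n)⟩
    exact {}

end Groth.Agent.S9605
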