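import Mathlib
import Groth.Statements.S9606
-- import your own Groth.Agent.* helpers here

set_option autoImplicit false
universe u
open CAlg

namespace Groth.Agent.S9606

/-- Let R → S be a ring map with locally nilpotent kernel such that S is generated over R by elements x
with x² and x³ in the image of R. Then the induced map on spectra is a homeomorphism and every
residue field map κ(p) → κ(q), for q a prime of S with inverse image p, is bijective. -/
theorem result {R S : Type u} [CommRing R] [CommRing S] [Algebra R S]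
    (hgen : Algebra.adjoin R {x : S | x ^ 2 ∈ Set.range (algebraMap R S) ∧ x ^ 3 ∈ Set.range (algebraMap R S)} = ⊤)
    (hker : ∀ r : R, algebraMap R S r = 0 → IsNilpotent r) :
    IsHomeomorph (PrimeSpectrum.comap (algebraMap R S)) ∧
      ∀ (q : Ideal S) [q.IsPrime], Function.Bijective (Ideal.ResidueField.map (q.comap (algebraMap R S)) q (algebraMap R S) rfl) := by
  classical
  set f := algebraMap R S
  have hint : Algebra.IsIntegral R S := by
    refine ⟨fun x => ?_⟩
    have hle : Algebra.adjoin R {x : S | x ^ 2 ∈ Set.range f ∧ x ^ 3 ∈ Set.range f} ≤ integralClosure R S := by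
      refine Algebra.adjoin_le fun z hz => ?_
      obtain ⟨b, hb⟩ := hz.1
      exact IsIntegral.of_pow (n := 2) (by norm_num) (hb ▸ isIntegral_algebraMap)
    exact hle (by rw [hgen]; exact Algebra.mem_top)
  have hrel : ∀ (p : Ideal R) [p.IsPrime] (s : S), ∃ r a : R, r ∉ p ∧ ∀ q : Ideal S, q.IsPrime → q.comap f = p → f r * s - f a ∈ q := by
    intro p hp s
    have hs : s ∈ Algebra.adjoin R {x : S | x ^ 2 ∈ Set.range f ∧ x ^ 3 ∈ Set.range f} := by rw [hgen]; exact Algebra.mem_top
    induction hs using Algebra.adjoin_induction with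
    | mem x hx =>
      obtain ⟨⟨b, hb⟩, ⟨c, hc⟩⟩ := hx
      by_cases hbp : b ∈ p
      · refine ⟨1, 0, fun h => hp.ne_top ((Ideal.eq_top_iff_one p).mpr h), fun q hq hqp => ?_⟩
        rw [map_one, one_mul, map_zero, sub_zero]
        refine hq.mem_of_pow_mem 2 ?_
        rw [← hb, ← Ideal.mem_comap, hqp]; exact hbp
      · exact ⟨b, c, hbp, fun q _ _ => by rw [hb, hc]; convert q.zero_mem using 1; ring⟩
    | algebraMap r => exact ⟨1, r, fun h => hp.ne_top ((Ideal.eq_top_iff_one p).mpr h), fun q _ _ => by simp [f]⟩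
    | add x y _ _ hx hy =>
      obtain ⟨r, a, hr, ha⟩ := hx; obtain ⟨r', a', hr', ha'⟩ := hy
      refine ⟨r * r', r' * a + r * a', fun h => (hp.mem_or_mem h).elim hr hr', fun q hq hqp => ?_⟩
      have := q.add_mem (q.mul_mem_left (f r') (ha q hq hqp)) (q.mul_mem_left (f r) (ha' q hq hqp))
      convert this using 1
      simp only [map_mul, map_add]; ring
    | mul x y _ _ hx hy =>
      obtain ⟨r, a, hr, ha⟩ := hx; obtain ⟨r', a', hr', ha'⟩ := hy
      refine ⟨r * r', a * a', fun h => (hp.mem_or_mem h).elim hr hr', fun q hq hqp => ?_⟩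
      have := q.add_mem (q.mul_mem_left (f r' * y) (ha q hq hqp)) (q.mul_mem_left (f a) (ha' q hq hqp))
      convert this using 1
      simp only [map_mul]; ring
  have hinj : Function.Injective (PrimeSpectrum.comap f) := by
    have hle : ∀ q q' : PrimeSpectrum S, q.asIdeal.comap f = q'.asIdeal.comap f → q.asIdeal ≤ q'.asIdeal := by
      intro q q' h s hs
      obtain ⟨r, a, hr, ha⟩ := hrel (q.asIdeal.comap f) s
      have h1 : f a ∈ q.asIdeal := by
        have := q.asIdeal.sub_mem (q.asIdeal.mul_mem_left (f r) hs) (ha _ q.isPrime rfl)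
        simpa using this
      have h2 : f a ∈ q'.asIdeal := by rw [← Ideal.mem_comap, ← h]; exact h1
      have h3 : f r * s ∈ q'.asIdeal := by
        have := q'.asIdeal.add_mem (ha _ q'.isPrime h.symm) h2
        simpa using this
      exact (q'.isPrime.mem_or_mem h3).resolve_left (fun h4 => hr (by rw [h]; exact h4))
    intro q q' h
    have h' : q.asIdeal.comap f = q'.asIdeal.comap f := congrArg PrimeSpectrum.asIdeal h
    exact PrimeSpectrum.ext (le_antisymm (hle q q' h') (hle q' q h'.symm))
  refine ⟨(isHomeomorph_iff_continuous_isClosedMap_bijective.mpr ⟨PrimeSpectrum.continuous_comap f,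
    PrimeSpectrum.isClosedMap_comap_of_isIntegral f hint.isIntegral, hinj, fun p => ?_⟩), ?_⟩
  · haveI := hint
    obtain ⟨Q, -, hQ, hQp⟩ := Ideal.exists_ideal_over_prime_of_isIntegral p.asIdeal (⊥ : Ideal S)
      (fun r hr => nilradical_le_prime p.asIdeal (hker r (by simpa using hr)))
    exact ⟨⟨Q, hQ⟩, PrimeSpectrum.ext hQp⟩
  · intro q hq
    refine ⟨RingHom.injective _, fun z => ?_⟩
    set ψ := Ideal.ResidueField.map (q.comap f) q f rfl
    have himg : ∀ s : S, algebraMap S q.ResidueField s ∈ ψ.fieldRange := by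
      intro s
      obtain ⟨r, a, hr, ha⟩ := hrel (q.comap f) s
      have hrne : algebraMap S q.ResidueField (f r) ≠ 0 := fun h => hr (show f r ∈ q from Ideal.algebraMap_residueField_eq_zero.mp h)
      have := Ideal.algebraMap_residueField_eq_zero.mpr (ha q hq rfl)
      rw [map_sub, map_mul, sub_eq_zero] at this
      rw [show algebraMap S q.ResidueField s = algebraMap S q.ResidueField (f a) / algebraMap S q.ResidueField (f r) by
        rw [eq_div_iff hrne, ← this, mul_comm]]
      exact div_mem ⟨algebraMap R _ a, Ideal.ResidueField.map_algebraMap ..⟩ ⟨algebraMap R _ r, Ideal.ResidueField.map_algebraMap ..⟩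
    obtain ⟨x, y, -, rfl⟩ := IsFractionRing.div_surjective (S ⧸ q) z
    obtain ⟨x, rfl⟩ := Ideal.Quotient.mk_surjective x
    obtain ⟨y, rfl⟩ := Ideal.Quotient.mk_surjective y
    exact div_mem (himg x) (himg y)

end Groth.Agent.S9606
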