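import Groth.Statements.S9607
import Mathlib
-- import your own Groth.Agent.* helpers here

set_option autoImplicit false
universe u
open CAlg

namespace Groth.Agent.S9607

/-- For a prime number p and integers n, m > 0 there exists an integer a such that (x + y)^(p^a) and p^a
(x + y) both belong to the subring ℤ[x^(p^n), p^n x, y^(p^m), p^m y] of the polynomial ring ℤ[x, y]. -/
theorem result (p : ℕ) (hp : p.Prime) (n m : ℕ) (hn : 0 < n) (hm : 0 < m) :
    ∃ a : ℕ, ((MvPolynomial.X 0 + MvPolynomial.X 1 : MvPolynomial (Fin 2) ℤ) ^ (p ^ a) ∈ Algebra.adjoin ℤ ({MvPolynomial.X 0 ^ (p ^ n), (p : MvPolynomial (Fin 2) ℤ) ^ n * MvPolynomial.X 0, MvPolynomial.X 1 ^ (p ^ m), (p : MvPolynomial (Fin 2) ℤ) ^ m * MvPolynomial.X 1} : Set (MvPolynomial (Fin 2) ℤ)) ∧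
      (p : MvPolynomial (Fin 2) ℤ) ^ a * (MvPolynomial.X 0 + MvPolynomial.X 1) ∈ Algebra.adjoin ℤ ({MvPolynomial.X 0 ^ (p ^ n), (p : MvPolynomial (Fin 2) ℤ) ^ n * MvPolynomial.X 0, MvPolynomial.X 1 ^ (p ^ m), (p : MvPolynomial (Fin 2) ℤ) ^ m * MvPolynomial.X 1} : Set (MvPolynomial (Fin 2) ℤ))) := by
  classical
  set x : MvPolynomial (Fin 2) ℤ := MvPolynomial.X 0 with hx
  set y : MvPolynomial (Fin 2) ℤ := MvPolynomial.X 1 with hy
  set B := Algebra.adjoin ℤ ({x ^ (p ^ n), (p : MvPolynomial (Fin 2) ℤ) ^ n * x, y ^ (p ^ m),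
    (p : MvPolynomial (Fin 2) ℤ) ^ m * y} : Set (MvPolynomial (Fin 2) ℤ)) with hB
  have g1 : x ^ (p ^ n) ∈ B := Algebra.subset_adjoin (by simp)
  have g2 : (p : MvPolynomial (Fin 2) ℤ) ^ n * x ∈ B := Algebra.subset_adjoin (by simp)
  have g3 : y ^ (p ^ m) ∈ B := Algebra.subset_adjoin (by simp)
  have g4 : (p : MvPolynomial (Fin 2) ℤ) ^ m * y ∈ B := Algebra.subset_adjoin (by simp)
  have hpB : ∀ e, (p : MvPolynomial (Fin 2) ℤ) ^ e ∈ B := fun e => pow_mem (natCast_mem B p) e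
  refine ⟨n + m + n * p ^ n + m * p ^ m, ?_, ?_⟩
  swap
  · rw [mul_add]
    refine add_mem ?_ ?_
    · rw [show n + m + n * p ^ n + m * p ^ m = (m + n * p ^ n + m * p ^ m) + n by omega, pow_add, mul_assoc]
      exact mul_mem (hpB _) g2
    · rw [show n + m + n * p ^ n + m * p ^ m = (n + n * p ^ n + m * p ^ m) + m by omega, pow_add, mul_assoc]
      exact mul_mem (hpB _) g4
  set a := n + m + n * p ^ n + m * p ^ m with ha
  rw [add_pow]
  refine sum_mem fun i hi => ?_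
  have hiN : i ≤ p ^ a := Nat.lt_succ_iff.mp (Finset.mem_range.mp hi)
  set j := p ^ a - i with hj
  set r := i % p ^ n with hr
  set r' := j % p ^ m with hr'
  have hrb : n * r ≤ n * p ^ n := Nat.mul_le_mul_left n (Nat.mod_lt _ (pow_pos hp.pos n)).le
  have hrb' : m * r' ≤ m * p ^ m := Nat.mul_le_mul_left m (Nat.mod_lt _ (pow_pos hp.pos m)).le
  have hdvd : p ^ (n * r + m * r') ∣ (p ^ a).choose i := by
    by_cases h0 : r = 0 ∧ r' = 0
    · simp [h0.1, h0.2]
    rw [hp.pow_dvd_iff_le_factorization (Nat.choose_pos hiN).ne']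
    by_cases hr0 : r = 0
    · have hr'0 : r' ≠ 0 := fun h => h0 ⟨hr0, h⟩
      have hj0 : j ≠ 0 := fun h => hr'0 (by rw [hr', h, Nat.zero_mod])
      have hv : j.factorization p < m := by
        by_contra h
        exact hr'0 (Nat.mod_eq_zero_of_dvd ((hp.pow_dvd_iff_le_factorization hj0).mpr (not_lt.mp h)))
      rw [← Nat.choose_symm hiN, ← hj, Nat.factorization_choose_prime_pow hp (Nat.sub_le _ _) hj0]
      rw [hj] at hv
      omega
    · have hi0 : i ≠ 0 := fun h => hr0 (by rw [hr, h, Nat.zero_mod])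
      have hv : i.factorization p < n := by
        by_contra h
        exact hr0 (Nat.mod_eq_zero_of_dvd ((hp.pow_dvd_iff_le_factorization hi0).mpr (not_lt.mp h)))
      rw [Nat.factorization_choose_prime_pow hp hiN hi0]
      omega
  obtain ⟨t, ht⟩ := hdvd
  have hi' : x ^ i = (x ^ (p ^ n)) ^ (i / p ^ n) * x ^ r := by
    rw [← pow_mul, ← pow_add, hr, Nat.div_add_mod]
  have hj' : y ^ j = (y ^ (p ^ m)) ^ (j / p ^ m) * y ^ r' := by
    rw [← pow_mul, ← pow_add, hr', Nat.div_add_mod]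
  have key : x ^ i * y ^ j * ((p ^ a).choose i : MvPolynomial (Fin 2) ℤ) =
      (x ^ (p ^ n)) ^ (i / p ^ n) * ((p : MvPolynomial (Fin 2) ℤ) ^ n * x) ^ r *
        ((y ^ (p ^ m)) ^ (j / p ^ m) * ((p : MvPolynomial (Fin 2) ℤ) ^ m * y) ^ r') * (t : MvPolynomial (Fin 2) ℤ) := by
    rw [hi', hj', ht, Nat.cast_mul, Nat.cast_pow, pow_add, pow_mul, pow_mul, mul_pow, mul_pow]
    ring
  rw [key]
  exact mul_mem (mul_mem (mul_mem (pow_mem g1 _) (pow_mem g2 _))
    (mul_mem (pow_mem g3 _) (pow_mem g4 _))) (natCast_mem B t)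

end Groth.Agent.S9607
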