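import Mathlib
import Groth.Statements.S9608
-- import your own Groth.Agent.* helpers here

set_option autoImplicit false
universe u
open CAlg

namespace Groth.Agent.S9608

/-- Let k'/k be a field extension and p a prime number. Then k' is generated over k by elements x for
which some n > 0 has x^(p^n) ∈ k and p^n x ∈ k, if and only if either k' = k, or k has
characteristic p and k'/k is purely inseparable. -/
theorem result {k k' : Type u} [Field k] [Field k'] [Algebra k k'] (p : ℕ) (hp : p.Prime) :
    IntermediateField.adjoin k {x : k' | ∃ n : ℕ, 0 < n ∧ x ^ (p ^ n) ∈ Set.range (algebraMap k k') ∧ (p : k') ^ n * x ∈ Set.range (algebraMap k k')} = ⊤ ↔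
      (Function.Surjective (algebraMap k k') ∨ (CharP k p ∧ IsPurelyInseparable k k')) := by
  classical
  constructor
  · intro htop
    by_cases hp0 : (p : k') = 0
    · have : CharP k' p := (CharP.charP_iff_prime_eq_zero hp).2 hp0
      have hk : CharP k p := (RingHom.charP_iff _ (algebraMap k k').injective p).2 this
      haveI := Fact.mk hp
      haveI : ExpChar k p := ExpChar.prime hp
      refine Or.inr ⟨hk, ?_⟩
      have h2 : IsPurelyInseparable k ↥(IntermediateField.adjoin k {x : k' | ∃ n : ℕ, 0 < n ∧ x ^ (p ^ n) ∈ Set.range (algebraMap k k') ∧ (p : k') ^ n * x ∈ Set.range (algebraMap k k')}) :=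
        (IntermediateField.isPurelyInseparable_adjoin_iff_pow_mem k k' p).2 fun x ⟨n, _, hx, _⟩ => ⟨n, hx⟩
      rw [htop] at h2
      exact (AlgEquiv.isPurelyInseparable_iff IntermediateField.topEquiv).1 h2
    · refine Or.inl fun y => ?_
      have hy : y ∈ (⊥ : IntermediateField k k') := by
        have : y ∈ IntermediateField.adjoin k {x : k' | ∃ n : ℕ, 0 < n ∧ x ^ (p ^ n) ∈ Set.range (algebraMap k k') ∧ (p : k') ^ n * x ∈ Set.range (algebraMap k k')} := htop ▸ IntermediateField.mem_top
        refine IntermediateField.adjoin_le_iff.2 ?_ this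
        rintro x ⟨n, _, _, c, hc⟩
        refine IntermediateField.mem_bot.2 ⟨c / (p : k) ^ n, ?_⟩
        rw [map_div₀, map_pow, map_natCast, hc, mul_comm, mul_div_assoc, div_self (pow_ne_zero _ hp0), mul_one]
      exact IntermediateField.mem_bot.1 hy
  · intro h
    rw [eq_top_iff]
    intro y _
    rcases h with h | ⟨hk, hpi⟩
    · obtain ⟨c, rfl⟩ := h y
      exact IntermediateField.algebraMap_mem _ c
    · haveI := Fact.mk hp
      haveI : ExpChar k p := ExpChar.prime hp
      haveI : CharP k' p := charP_of_injective_algebraMap (algebraMap k k').injective p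
      refine IntermediateField.subset_adjoin _ _ ?_
      obtain ⟨n, c, hc⟩ := IsPurelyInseparable.pow_mem k p y
      refine ⟨n + 1, Nat.succ_pos n, ⟨c ^ p, by rw [map_pow, hc, ← pow_mul, pow_succ]⟩, ⟨0, ?_⟩⟩
      rw [map_zero, CharP.cast_eq_zero, zero_pow (Nat.succ_ne_zero n), zero_mul]

end Groth.Agent.S9608
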