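import Groth.Statements.S9609
import Mathlib

set_option autoImplicit false
universe u
open CAlg

namespace Groth.Agent.S9609

open TensorProduct in
/-- Let R → S be a ring map which is injective on spectra and whose residue field extensions κ(p) → κ(q)
(q a prime of S with inverse image p) are purely inseparable: every element of κ(q) has a power with
exponent a power of the characteristic exponent lying in the image of κ(p). Then, given an arbitrary
R-algebra R', the induced map R' → R' ⊗_R S is likewise injective on spectra and has purely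
inseparable residue field extensions. -/
theorem result {R S R' : Type u} [CommRing R] [CommRing S] [CommRing R'] [Algebra R S] [Algebra R R']
    (hinj : Function.Injective (PrimeSpectrum.comap (algebraMap R S)))
    (hpi : ∀ (q : Ideal S) [q.IsPrime] (x : q.ResidueField), ∃ n : ℕ, x ^ (ringExpChar (q.comap (algebraMap R S)).ResidueField) ^ n ∈ Set.range (Ideal.ResidueField.map (q.comap (algebraMap R S)) q (algebraMap R S) rfl)) :
    Function.Injective (PrimeSpectrum.comap (algebraMap R' (R' ⊗[R] S))) ∧
      ∀ (q' : Ideal (R' ⊗[R] S)) [q'.IsPrime] (x : q'.ResidueField), ∃ n : ℕ, x ^ (ringExpChar (q'.comap (algebraMap R' (R' ⊗[R] S))).ResidueField) ^ n ∈ Set.range (Ideal.ResidueField.map (q'.comap (algebraMap R' (R' ⊗[R] S))) q' (algebraMap R' (R' ⊗[R] S)) rfl) := by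
  classical
  let ι : R' →+* R' ⊗[R] S := algebraMap R' (R' ⊗[R] S)
  let j : S →+* R' ⊗[R] S := (Algebra.TensorProduct.includeRight (R := R) (A := R') (B := S)).toRingHom
  have hcomm : ι.comp (algebraMap R R') = j.comp (algebraMap R S) := RingHom.ext fun r => by
    show algebraMap R R' r ⊗ₜ[R] (1 : S) = (1 : R') ⊗ₜ[R] algebraMap R S r
    rw [Algebra.algebraMap_eq_smul_one, Algebra.algebraMap_eq_smul_one, TensorProduct.smul_tmul]
  have key : ∀ (P : Ideal R') [P.IsPrime] (a : R' ⊗[R] S), ∃ (n : ℕ) (r c : R'), c ∉ P ∧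
      ∀ (Q : Ideal (R' ⊗[R] S)) [Q.IsPrime], Q.comap ι = P →
        ι c * a ^ ringExpChar P.ResidueField ^ n - ι r ∈ Q := by
    intro P _ a
    set e := ringExpChar P.ResidueField
    have hchar : ∀ (Q : Ideal (R' ⊗[R] S)) [Q.IsPrime], Q.comap ι = P → ExpChar Q.ResidueField e :=
      fun Q _ hQ => expChar_of_injective_ringHom (Ideal.ResidueField.map P Q ι hQ.symm).injective e
    induction a using TensorProduct.induction_on with
    | zero =>
      refine ⟨0, 0, 1, P.one_notMem, fun Q _ hQ => ?_⟩
      simp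
    | tmul r' s =>
      by_cases hex : ∃ Q : Ideal (R' ⊗[R] S), Q.IsPrime ∧ Q.comap ι = P
      swap
      · exact ⟨0, 0, 1, P.one_notMem, fun Q hQp hQ => absurd ⟨Q, hQp, hQ⟩ hex⟩
      obtain ⟨Q₀, hQ₀p, hQ₀⟩ := hex
      let q := Q₀.comap j
      haveI : q.IsPrime := Ideal.IsPrime.comap j
      have hover : ∀ (Q : Ideal (R' ⊗[R] S)), Q.comap ι = P →
          (Q.comap j).comap (algebraMap R S) = P.comap (algebraMap R R') := fun Q hQ => by
        rw [← hQ, Ideal.comap_comap, Ideal.comap_comap, hcomm]
      obtain ⟨n, y, hy⟩ := hpi q (algebraMap S q.ResidueField s)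
      have he : ringExpChar (q.comap (algebraMap R S)).ResidueField = e := by
        have := expChar_of_injective_ringHom (Ideal.ResidueField.map (q.comap (algebraMap R S)) P
          (algebraMap R R') (hover Q₀ hQ₀)).injective (ringExpChar (q.comap (algebraMap R S)).ResidueField)
        exact (ringExpChar.eq P.ResidueField _).symm
      obtain ⟨r₀, c₀, hc₀, rfl⟩ := IsFractionRing.div_surjective (R ⧸ q.comap (algebraMap R S)) y
      obtain ⟨r₀, rfl⟩ := Ideal.Quotient.mk_surjective r₀
      obtain ⟨c₀, rfl⟩ := Ideal.Quotient.mk_surjective c₀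
      have hc₀' : c₀ ∉ q.comap (algebraMap R S) := fun h =>
        nonZeroDivisors.ne_zero hc₀ (Ideal.Quotient.eq_zero_iff_mem.2 h)
      rw [map_div₀, Ideal.algebraMap_quotient_residueField_mk, Ideal.algebraMap_quotient_residueField_mk,
        Ideal.ResidueField.map_algebraMap, Ideal.ResidueField.map_algebraMap, he,
        div_eq_iff (by rw [Ne, Ideal.algebraMap_residueField_eq_zero]; exact hc₀')] at hy
      have hmem : algebraMap R S c₀ * s ^ e ^ n - algebraMap R S r₀ ∈ q := by
        rw [← Ideal.algebraMap_residueField_eq_zero, map_sub, map_mul, map_pow, hy]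
        ring
      refine ⟨n, r' ^ e ^ n * algebraMap R R' r₀, algebraMap R R' c₀, fun h => hc₀' ?_, fun Q _ hQ => ?_⟩
      · rw [hover Q₀ hQ₀]; exact h
      · have hq : Q.comap j = q := by
          have h1 := hinj (a₁ := ⟨Q.comap j, Ideal.IsPrime.comap j⟩) (a₂ := ⟨q, inferInstance⟩)
            (PrimeSpectrum.ext ((hover Q hQ).trans (hover Q₀ hQ₀).symm))
          exact congrArg PrimeSpectrum.asIdeal h1
        have hrs : r' ⊗ₜ[R] s = ι r' * j s := by
          show r' ⊗ₜ[R] s = (r' ⊗ₜ[R] (1 : S)) * ((1 : R') ⊗ₜ[R] s)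
          rw [Algebra.TensorProduct.tmul_mul_tmul, mul_one, one_mul]
        rw [← hq, Ideal.mem_comap] at hmem
        have := Q.mul_mem_left (ι (r' ^ e ^ n)) hmem
        convert this using 1
        rw [hrs, map_sub, map_mul, map_mul, map_pow, map_pow, mul_pow,
          show ι (algebraMap R R' c₀) = j (algebraMap R S c₀) from RingHom.congr_fun hcomm c₀,
          show ι (algebraMap R R' r₀) = j (algebraMap R S r₀) from RingHom.congr_fun hcomm r₀]
        ring
    | add a b ha hb =>
      obtain ⟨n, r, c, hc, ha⟩ := ha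
      obtain ⟨m, r', c', hc', hb⟩ := hb
      refine ⟨n + m, c' ^ e ^ n * r ^ e ^ m + c ^ e ^ m * r' ^ e ^ n, c ^ e ^ m * c' ^ e ^ n,
        fun h => ?_, fun Q _ hQ => ?_⟩
      · rcases Ideal.IsPrime.mem_or_mem inferInstance h with h | h
        · exact hc (Ideal.IsPrime.mem_of_pow_mem inferInstance _ h)
        · exact hc' (Ideal.IsPrime.mem_of_pow_mem inferInstance _ h)
      · haveI := hchar Q hQ
        have h1 := ha Q hQ
        have h2 := hb Q hQ
        rw [← Ideal.algebraMap_residueField_eq_zero, map_sub, sub_eq_zero] at h1 h2 ⊢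
        simp only [map_mul, map_pow, map_add] at h1 h2 ⊢
        rw [add_pow_expChar_pow, ← h1, ← h2]
        simp only [mul_pow, ← pow_mul]
        rw [← pow_add e n m, ← pow_add e m n, add_comm m n]
        ring
  refine ⟨?_, ?_⟩
  · intro Q₁ Q₂ h
    have h' : Q₂.asIdeal.comap ι = Q₁.asIdeal.comap ι := congrArg PrimeSpectrum.asIdeal h.symm
    ext a
    obtain ⟨n, r, c, hc, ha⟩ := key (Q₁.asIdeal.comap ι) a
    have hiff : ∀ (Q : Ideal (R' ⊗[R] S)) [Q.IsPrime], Q.comap ι = Q₁.asIdeal.comap ι →
        (a ∈ Q ↔ r ∈ Q₁.asIdeal.comap ι) := by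
      intro Q _ hQ
      have := ha Q hQ
      have hcQ : ι c ∉ Q := fun h => hc (hQ ▸ h)
      constructor
      · intro haQ
        rw [← hQ, Ideal.mem_comap]
        have hpow := Q.pow_mem_of_mem haQ _ (Nat.pos_of_ne_zero (pow_ne_zero n
          (expChar_pos (Q₁.asIdeal.comap ι).ResidueField (ringExpChar (Q₁.asIdeal.comap ι).ResidueField)).ne'))
        have := Q.sub_mem (Q.mul_mem_left (ι c) hpow) this
        simpa using this
      · intro hr
        rw [← hQ, Ideal.mem_comap] at hr
        have := Q.add_mem this hr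
        rw [sub_add_cancel] at this
        exact Ideal.IsPrime.mem_of_pow_mem inferInstance _
          ((Ideal.IsPrime.mem_or_mem inferInstance this).resolve_left hcQ)
    rw [hiff Q₁.asIdeal rfl, hiff Q₂.asIdeal h']
  · intro Q _ x
    set P := Q.comap ι with hP
    set e := ringExpChar P.ResidueField with he
    let φ := Ideal.ResidueField.map P Q ι rfl
    have hbase : ∀ a : R' ⊗[R] S, ∃ (n : ℕ) (y : P.ResidueField),
        φ y = algebraMap (R' ⊗[R] S) Q.ResidueField a ^ e ^ n := by
      intro a
      obtain ⟨n, r, c, hc, ha⟩ := key P a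
      have := ha Q rfl
      rw [← Ideal.algebraMap_residueField_eq_zero, map_sub, sub_eq_zero, map_mul, map_pow] at this
      refine ⟨n, algebraMap R' _ r / algebraMap R' _ c, ?_⟩
      rw [map_div₀, Ideal.ResidueField.map_algebraMap, Ideal.ResidueField.map_algebraMap, ← this,
        mul_div_cancel_left₀]
      rw [Ne, Ideal.algebraMap_residueField_eq_zero]
      exact hc
    obtain ⟨a, b, hb, rfl⟩ := IsFractionRing.div_surjective ((R' ⊗[R] S) ⧸ Q) x
    obtain ⟨a, rfl⟩ := Ideal.Quotient.mk_surjective a
    obtain ⟨b, rfl⟩ := Ideal.Quotient.mk_surjective b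
    obtain ⟨n, y, hy⟩ := hbase a
    obtain ⟨m, z, hz⟩ := hbase b
    refine ⟨n + m, y ^ e ^ m / z ^ e ^ n, ?_⟩
    show φ _ = _
    rw [map_div₀, map_pow, map_pow, hy, hz, Ideal.algebraMap_quotient_residueField_mk,
      Ideal.algebraMap_quotient_residueField_mk, ← pow_mul, ← pow_mul, ← pow_add, ← pow_add, div_pow,
      add_comm m n]

end Groth.Agent.S9609
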