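import Groth.Statements.S9610
import Mathlib
-- import your own Groth.Agent.* helpers here

set_option autoImplicit false
universe u
open CAlg

namespace Groth.Agent.S9610

/-- Let k be a field and V a nonzero k-vector space with dim_k V < #k as cardinals. Then every k-linear
endomorphism T of V admits a monic polynomial P over k for which P(T) is not invertible. -/
theorem result {k V : Type u} [Field k] [AddCommGroup V] [Module k V] [Nontrivial V] (hV : Module.rank k V < Cardinal.mk k) (T : Module.End k V) :
    ∃ P : Polynomial k, P.Monic ∧ ¬ IsUnit (Polynomial.aeval T P) := by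
  classical
  by_contra! hcon
  obtain ⟨v, hv⟩ := exists_ne (0 : V)
  have hbij : ∀ P : Polynomial k, P.Monic → Function.Bijective (Polynomial.aeval T P) :=
    fun P hP => (Module.End.isUnit_iff _).mp (hcon P hP)
  have hex : ∀ a : k, ∃ w : V, Polynomial.aeval T (Polynomial.X - Polynomial.C a) w = v :=
    fun a => (hbij _ (Polynomial.monic_X_sub_C a)).2 v
  choose w hw using hex
  have hli : LinearIndependent k w := by
    rw [linearIndependent_iff']
    intro s c hc a ha
    let P : Polynomial k := ∑ b ∈ s, Polynomial.C (c b) * ∏ d ∈ s.erase b, (Polynomial.X - Polynomial.C d)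
    have hP : Polynomial.aeval T P v = 0 := by
      have h : Polynomial.aeval T P v =
          Polynomial.aeval T (∏ d ∈ s, (Polynomial.X - Polynomial.C d)) (∑ b ∈ s, c b • w b) := by
        simp only [P, map_sum, LinearMap.sum_apply, map_smul]
        refine Finset.sum_congr rfl fun b hb => ?_
        conv_lhs => rw [← hw b]
        rw [← Module.End.mul_apply, ← map_mul, mul_assoc, Finset.prod_erase_mul _ _ hb, map_mul,
          Polynomial.aeval_C, Module.End.mul_apply, Module.algebraMap_end_apply]
      rw [h, hc, map_zero]
    by_contra hca
    have hP0 : P ≠ 0 := fun h0 => by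
      have he := congrArg (Polynomial.eval a) h0
      rw [Polynomial.eval_zero, Polynomial.eval_finsetSum, Finset.sum_eq_single a] at he
      · simp [Polynomial.eval_prod, Finset.prod_eq_zero_iff, hca, sub_eq_zero] at he
      · intro b _ hb
        rw [Polynomial.eval_mul, Polynomial.eval_prod,
          Finset.prod_eq_zero (Finset.mem_erase.mpr ⟨Ne.symm hb, ha⟩) (by simp), mul_zero]
      · exact fun h => absurd ha h
    have hm := hbij _ (Polynomial.monic_mul_leadingCoeff_inv hP0)
    refine hv (hm.1 ?_)
    rw [map_zero, mul_comm, map_mul, Module.End.mul_apply, hP, map_zero]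
  exact absurd hli.cardinal_le_rank (not_le.mpr hV)

end Groth.Agent.S9610
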