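import Groth.Statements.S9611
import Mathlib
-- import your own Groth.Agent.* helpers here

set_option autoImplicit false
universe u
open CAlg

namespace Groth.Agent.S9611

/-- Let R be a Jacobson ring, p a prime ideal of R which is not maximal, and f an element of R not in p.
Then the set of primes of R containing p and not containing f is infinite. -/
theorem result {R : Type u} [CommRing R] [IsJacobsonRing R] (p : Ideal R) [p.IsPrime] (hp : ¬ p.IsMaximal) (f : R) (hf : f ∉ p) :
    {q : PrimeSpectrum R | p ≤ q.asIdeal ∧ f ∉ q.asIdeal}.Infinite := by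
  intro hfin
  classical
  let s := hfin.toFinset.filter fun q : PrimeSpectrum R => q.asIdeal.IsMaximal
  have hinf : ¬ (s.inf fun q => q.asIdeal) ≤ p := by
    rw [Ideal.IsPrime.inf_le' inferInstance]
    rintro ⟨q, hq, hqp⟩
    simp only [s, Finset.mem_filter, Set.Finite.mem_toFinset, Set.mem_ofPred_eq] at hq
    exact hp (le_antisymm hqp hq.1.1 ▸ hq.2)
  obtain ⟨g, hg, hgp⟩ := SetLike.not_le_iff_exists.mp hinf
  refine (Ideal.IsPrime.mul_notMem inferInstance hf hgp) ?_
  have hj := IsJacobsonRing.out (inferInstance : IsJacobsonRing R) (I := p) (Ideal.IsPrime.isRadical inferInstance)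
  rw [← hj, Ideal.jacobson, Submodule.mem_sInf]
  rintro m ⟨hpm, hm⟩
  by_cases hfm : f ∈ m
  · exact Ideal.mul_mem_right g m hfm
  · refine Ideal.mul_mem_left m f ((Submodule.mem_finsetInf.mp hg) ⟨m, hm.isPrime⟩ ?_)
    simp only [s, Finset.mem_filter, Set.Finite.mem_toFinset, Set.mem_ofPred_eq]
    exact ⟨⟨hpm, hfm⟩, hm⟩

end Groth.Agent.S9611
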