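import Groth.Statements.S9612
import Mathlib

set_option autoImplicit false
universe u
open CAlg

namespace Groth.Agent.S9612

/-- A finite type ℤ-algebra is a Jacobson ring. -/
theorem result {S : Type u} [CommRing S] [Algebra.FiniteType ℤ S] :
    IsJacobsonRing S := by
  have : IsJacobsonRing ℤ := by
    refine isJacobsonRing_iff_prime_eq.mpr fun P hP => ?_
    by_cases h0 : P = ⊥
    · subst h0
      refine le_antisymm (fun x hx => ?_) Ideal.le_jacobson
      rw [Ideal.mem_bot]
      rcases Int.isUnit_iff.mp (Ideal.mem_jacobson_bot.mp hx 3) with h | h <;> omega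
    · have := hP.isMaximal h0
      exact Ideal.jacobson_eq_self_of_isMaximal
  exact _root_.isJacobsonRing_of_finiteType (A := ℤ) (B := S)

end Groth.Agent.S9612
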