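import Mathlib
import Groth.Statements.S9614
-- import your own Groth.Agent.* helpers here

set_option autoImplicit false
universe u
open CAlg

namespace Groth.Agent.S9614

/-- Let S be an ℕ-graded ring and M a finitely generated graded S-module, graded in nonnegative degrees
(the source allows all integer degrees). If x_1, …, x_n are homogeneous elements of M which generate
M modulo S₊ M (S₊ the irrelevant ideal), then x_1, …, x_n generate M. -/
theorem result {R S : Type u} [CommRing R] [CommRing S] [Algebra R S] (𝒜 : ℕ → Submodule R S) [GradedAlgebra 𝒜]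
    (M : Type u) [AddCommGroup M] [Module R M] [Module S M] [IsScalarTower R S M] [Module.Finite S M] (ℳ : ℕ → Submodule R M) [DirectSum.Decomposition ℳ] [SetLike.GradedSMul 𝒜 ℳ]
    {n : ℕ} (x : Fin n → M) (hx : ∀ i, SetLike.IsHomogeneousElem ℳ (x i))
    (h : Submodule.span S (Set.range x) ⊔ (HomogeneousIdeal.irrelevant 𝒜).toIdeal • (⊤ : Submodule S M) = ⊤) :
    Submodule.span S (Set.range x) = ⊤ := by
  classical
  set N := Submodule.span S (Set.range x)
  have hsm : ∀ {j e : ℕ} {a : S} {y : M}, a ∈ 𝒜 j → y ∈ ℳ e → a • y ∈ ℳ (j + e) :=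
    fun ha hy => SetLike.GradedSMul.smul_mem ha hy
  let pr : ℕ → M →+ M := fun d =>
    { toFun := fun y => (DirectSum.decompose ℳ y d : M)
      map_zero' := by rw [DirectSum.decompose_zero]; rfl
      map_add' := fun y z => by rw [DirectSum.decompose_add]; rfl }
  have hcomp : ∀ (d : ℕ) (a : S) (y : M), (DirectSum.decompose ℳ (a • y) d : M) =
      ∑ j ∈ (DirectSum.decompose 𝒜 a).support, ∑ e ∈ (DirectSum.decompose ℳ y).support,
        if j + e = d then (DirectSum.decompose 𝒜 a j : S) • (DirectSum.decompose ℳ y e : M) else 0 := by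
    intro d a y
    conv_lhs => rw [← DirectSum.sum_support_decompose 𝒜 a, ← DirectSum.sum_support_decompose ℳ y]
    simp only [Finset.sum_smul, Finset.smul_sum]
    show pr d _ = _
    simp only [map_sum]
    rw [Finset.sum_comm]
    refine Finset.sum_congr rfl fun j _ => Finset.sum_congr rfl fun e _ => ?_
    split_ifs with hje
    · subst hje; exact DirectSum.decompose_of_mem_same ℳ (hsm (SetLike.coe_mem _) (SetLike.coe_mem _))
    · exact DirectSum.decompose_of_mem_ne ℳ (hsm (SetLike.coe_mem _) (SetLike.coe_mem _)) hje
  have key : ∀ d, ∀ y ∈ ℳ d, y ∈ N := by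
    intro d
    induction d using Nat.strong_induction_on with
    | _ d ih =>
      intro y hy
      obtain ⟨u, hu, v, hv, huv⟩ := Submodule.mem_sup.1 (h.ge (Submodule.mem_top (x := y)))
      rw [← DirectSum.decompose_of_mem_same ℳ hy, ← huv, DirectSum.decompose_add, DirectSum.add_apply, Submodule.coe_add]
      refine add_mem ?_ ?_
      · obtain ⟨c, rfl⟩ := (Submodule.mem_span_range_iff_exists_fun S).1 hu
        show pr d _ ∈ N
        rw [map_sum]
        refine Submodule.sum_mem _ fun i _ => ?_
        show ((DirectSum.decompose ℳ (c i • x i) d : M)) ∈ N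
        rw [hcomp]
        obtain ⟨e₀, he₀⟩ := hx i
        refine Submodule.sum_mem _ fun j _ => Submodule.sum_mem _ fun e _ => ?_
        split_ifs
        · rcases eq_or_ne e₀ e with rfl | hne
          · rw [DirectSum.decompose_of_mem_same ℳ he₀]
            exact Submodule.smul_mem _ _ (Submodule.subset_span ⟨i, rfl⟩)
          · rw [DirectSum.decompose_of_mem_ne ℳ he₀ hne, smul_zero]; exact zero_mem _
        · exact zero_mem _
      · refine Submodule.smul_induction_on hv (fun a ha m _ => ?_) (fun v₁ v₂ h₁ h₂ => ?_)
        · rw [hcomp]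
          refine Submodule.sum_mem _ fun j _ => Submodule.sum_mem _ fun e _ => ?_
          split_ifs with hje
          · rcases Nat.eq_zero_or_pos j with rfl | hj
            · have ha0 : (DirectSum.decompose 𝒜 a 0 : S) = 0 := (HomogeneousIdeal.mem_irrelevant_iff 𝒜 a).1 ha
              rw [ha0, zero_smul]; exact zero_mem _
            · exact Submodule.smul_mem _ _ (ih e (by omega) _ (SetLike.coe_mem _))
          · exact zero_mem _
        · rw [DirectSum.decompose_add, DirectSum.add_apply, Submodule.coe_add]; exact add_mem h₁ h₂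
  rw [eq_top_iff]
  intro y _
  rw [← DirectSum.sum_support_decompose ℳ y]
  exact Submodule.sum_mem _ fun d _ => key d _ (SetLike.coe_mem _)

end Groth.Agent.S9614
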