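import Groth.Statements.S9615
import Mathlib.RingTheory.Polynomial.IsIntegral
import Mathlib.RingTheory.GradedAlgebra.Basic
import Mathlib.Algebra.Polynomial.Coeff
open Polynomial

set_option autoImplicit false
universe u
open CAlg

namespace Groth.Agent.S9615

attribute [local instance] Polynomial.algebra

section
variable {A : Type u} [CommRing A] (𝒜 : ℕ → AddSubgroup A) [GradedRing 𝒜]

/-- `a ↦ ∑ aᵢ Xⁱ`. -/
noncomputable def gradingHom : A →+* A[X] :=
  (DirectSum.toSemiring (fun i => ((Polynomial.monomial i).toAddMonoidHom).comp (𝒜 i).subtype)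
    (by show Polynomial.monomial 0 ((1 : A)) = 1; rw [Polynomial.monomial_zero_left, map_one])
    (fun {i j} ai aj => (Polynomial.monomial_mul_monomial i j (ai : A) (aj : A)).symm)).comp
    (DirectSum.decomposeRingEquiv 𝒜).toRingHom

theorem gradingHom_of_mem {a : A} {j : ℕ} (ha : a ∈ 𝒜 j) : gradingHom 𝒜 a = Polynomial.monomial j a := by
  have h : DirectSum.decomposeRingEquiv 𝒜 a = DirectSum.of (fun i => 𝒜 i) j ⟨a, ha⟩ :=
    DirectSum.decompose_of_mem 𝒜 ha
  simp only [gradingHom, RingEquiv.toRingHom_eq_coe, RingHom.comp_apply, RingHom.coe_coe]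
  rw [h]
  exact DirectSum.toSemiring_of _ _ _ _ _

theorem coeff_gradingHom (a : A) (i : ℕ) :
    (gradingHom 𝒜 a).coeff i = ((DirectSum.decompose 𝒜 a i : 𝒜 i) : A) := by
  classical
  induction a using DirectSum.Decomposition.inductionOn 𝒜 with
  | zero => simp
  | homogeneous m =>
    rename_i j
    rw [gradingHom_of_mem 𝒜 m.2, Polynomial.coeff_monomial]
    split_ifs with h
    · subst h; rw [DirectSum.decompose_of_mem_same 𝒜 m.2]
    · rw [DirectSum.decompose_of_mem_ne 𝒜 m.2 h]
  | add a b ha hb => rw [map_add, Polynomial.coeff_add, ha, hb, DirectSum.decompose_add]; rfl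
end


/-- Let R → S be a homomorphism of ℕ-graded rings, i.e. the structure map carries each graded piece R_i
into S_i. If an element s of S is integral over R, then each homogeneous component of s is integral
over R; so the integral closure of R in S is a graded subring of S. -/
theorem result {R S : Type u} [CommRing R] [CommRing S] [Algebra R S] (ℛ : ℕ → AddSubgroup R) [GradedRing ℛ] (𝒮 : ℕ → AddSubgroup S) [GradedRing 𝒮]
    (hmap : ∀ i : ℕ, ∀ r ∈ ℛ i, algebraMap R S r ∈ 𝒮 i) (s : S) (hs : IsIntegral R s) (i : ℕ) :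
    IsIntegral R ((DirectSum.decompose 𝒮 s i : 𝒮 i) : S) := by
  classical
  have hcomp : (algebraMap R[X] S[X]).comp (gradingHom ℛ) = (gradingHom 𝒮).comp (algebraMap R S) := by
    refine RingHom.ext fun r => ?_
    induction r using DirectSum.Decomposition.inductionOn ℛ with
    | zero => simp
    | homogeneous m =>
      rename_i j
      simp only [RingHom.comp_apply]
      rw [gradingHom_of_mem ℛ m.2, gradingHom_of_mem 𝒮 (hmap j m m.2), Polynomial.algebraMap_def,
        Polynomial.coe_mapRingHom, Polynomial.map_monomial]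
    | add a b ha hb => rw [map_add, map_add, ha, hb]
  have h := (IsIntegral.map_of_comp_eq (gradingHom ℛ) (gradingHom 𝒮) hcomp hs).coeff i
  rwa [coeff_gradingHom] at h

end Groth.Agent.S9615
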