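import Mathlib
import Groth.Statements.S9616
-- import your own Groth.Agent.* helpers here

set_option autoImplicit false
universe u
open CAlg

namespace Groth.Agent.S9616

/-- Let S be an ℕ-graded ring, p_1, …, p_r homogeneous prime ideals of S and I ⊆ S₊ a homogeneous ideal
not contained in any p_i. Then there is a homogeneous element x ∈ I of positive degree with x ∉ p_i
for all i. -/
theorem result {R S : Type u} [CommRing R] [CommRing S] [Algebra R S] (𝒜 : ℕ → Submodule R S) [GradedAlgebra 𝒜]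
    {r : ℕ} (p : Fin r → HomogeneousIdeal 𝒜) (hp : ∀ i, (p i).toIdeal.IsPrime) (I : HomogeneousIdeal 𝒜) (hI : I ≤ HomogeneousIdeal.irrelevant 𝒜) (h : ∀ i, ¬ I ≤ p i) :
    ∃ x : S, ∃ d : ℕ, 0 < d ∧ x ∈ 𝒜 d ∧ x ∈ I ∧ ∀ i, x ∉ p i := by
  classical
  have homel : ∀ (K L : HomogeneousIdeal 𝒜), ¬ K ≤ L → ∃ (x : S) (e : ℕ), x ∈ 𝒜 e ∧ x ∈ K ∧ x ∉ L := by
    intro K L hKL
    obtain ⟨x, hxK, hxL⟩ := SetLike.not_le_iff_exists.1 hKL
    by_contra hno
    push_neg at hno
    apply hxL
    rw [← DirectSum.sum_support_decompose 𝒜 x]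
    exact Submodule.sum_mem L.toSubmodule fun i _ => hno _ i (SetLike.coe_mem _) (K.isHomogeneous i hxK)
  suffices H : ∀ s : Finset (Fin r), ∃ x : S, ∃ d : ℕ, 0 < d ∧ x ∈ 𝒜 d ∧ x ∈ I ∧ ∀ i ∈ s, x ∉ p i by
    obtain ⟨x, d, h1, h2, h3, h4⟩ := H Finset.univ
    exact ⟨x, d, h1, h2, h3, fun i => h4 i (Finset.mem_univ i)⟩
  intro s
  induction s using Finset.strongInduction with
  | _ s ih =>
    rcases s.eq_empty_or_nonempty with hs | hs
    · refine ⟨0, 1, one_pos, zero_mem _, zero_mem I.toIdeal, ?_⟩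
      simp [hs]
    obtain ⟨_, hkmin⟩ := Finset.exists_minimal (hs.image fun i => (p i).toIdeal)
    obtain ⟨k, hk, rfl⟩ := Finset.mem_image.1 hkmin.1
    obtain ⟨x, d, hd, hxd, hxI, hx⟩ := ih (s.erase k) (Finset.erase_ssubset hk)
    by_cases hxk : x ∈ p k
    swap
    · refine ⟨x, d, hd, hxd, hxI, fun i hi => ?_⟩
      by_cases hik : i = k
      · exact hik ▸ hxk
      · exact hx i (Finset.mem_erase.2 ⟨hik, hi⟩)
    have hnle : ∀ i ∈ s.erase k, ¬ p i ≤ p k := by
      intro i hi hle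
      refine hx i hi ?_
      exact hkmin.2 (Finset.mem_image.2 ⟨i, Finset.mem_of_mem_erase hi, rfl⟩) hle hxk
    obtain ⟨z, e, hze, hzI, hzk⟩ := homel I (p k) (h k)
    have he : 0 < e := by
      rcases Nat.eq_zero_or_pos e with rfl | he
      · exfalso
        apply hzk
        have h1 := hI hzI
        rw [HomogeneousIdeal.mem_irrelevant_iff, GradedRing.proj_apply, DirectSum.decompose_of_mem_same 𝒜 hze] at h1
        rw [h1]
        exact zero_mem (p k).toIdeal
      · exact he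
    choose w m hwm hwi hwk using fun i : {i // i ∈ s.erase k} => homel (p i.1) (p k) (hnle i.1 i.2)
    let y := z * ∏ i, w i
    let D := e + ∑ i, m i
    have hyD : y ∈ 𝒜 D := SetLike.mul_mem_graded hze (SetLike.prod_mem_graded 𝒜 m w (F := Finset.univ) (fun i _ => hwm i))
    have hyI : y ∈ I := I.toIdeal.mul_mem_right _ hzI
    have hyk : y ∉ p k := by
      intro hy
      rcases (hp k).mem_or_mem hy with h1 | h1
      · exact hzk h1
      · have := hp k
        obtain ⟨i, -, hi⟩ := (Ideal.IsPrime.prod_mem_iff).1 h1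
        exact hwk i hi
    have hyi : ∀ i ∈ s.erase k, y ∈ p i := fun i hi =>
      (p i).toIdeal.mul_mem_left _ (Ideal.prod_mem _ (Finset.mem_univ (⟨i, hi⟩ : {i // i ∈ s.erase k})) (hwi ⟨i, hi⟩))
    have hD : 0 < D := by omega
    refine ⟨x ^ D + y ^ d, D * d, Nat.mul_pos hD hd, ?_, ?_, fun i hi => ?_⟩
    · refine add_mem ?_ ?_
      · simpa [mul_comm] using SetLike.pow_mem_graded D hxd
      · simpa [mul_comm] using SetLike.pow_mem_graded d hyD
    · exact I.toIdeal.add_mem (I.toIdeal.pow_mem_of_mem hxI D hD) (I.toIdeal.pow_mem_of_mem hyI d hd)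
    · intro hmem
      by_cases hik : i = k
      · subst hik
        refine hyk ((hp i).mem_of_pow_mem d ?_)
        exact ((p i).toIdeal.add_mem_iff_right ((p i).toIdeal.pow_mem_of_mem hxk D hD)).1 hmem
      · have hi' := Finset.mem_erase.2 ⟨hik, hi⟩
        refine hx i hi' ((hp i).mem_of_pow_mem D ?_)
        exact ((p i).toIdeal.add_mem_iff_left ((p i).toIdeal.pow_mem_of_mem (hyi i hi') d hd)).1 hmem

end Groth.Agent.S9616
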