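import Groth.Statements.S9617
import Mathlib.RingTheory.Finiteness.Basic
-- import your own Groth.Agent.* helpers here

set_option autoImplicit false
universe u
open CAlg

namespace Groth.Agent.S9617

open DirectSum in
/-- Components of elements in the span of homogeneous elements. -/
theorem comp_mem {A S : Type u} [CommRing A] [CommRing S] [Algebra A S] (𝒜 : ℕ → Submodule A S) [GradedAlgebra 𝒜]
    {M : Type u} [AddCommGroup M] [Module A M] [Module S M] [IsScalarTower A S M]
    (ℳ : ℕ → Submodule A M) [DirectSum.Decomposition ℳ] [SetLike.GradedSMul 𝒜 ℳ]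
    (G : Set (ℕ × M)) (hG : ∀ g ∈ G, g.2 ∈ ℳ g.1) (T : Submodule A M) (n : ℕ)
    (hT : ∀ g ∈ G, ∀ i c, c ∈ 𝒜 i → i + g.1 = n → c • g.2 ∈ T) :
    ∀ x ∈ Submodule.span S (Prod.snd '' G), (decompose ℳ x n : M) ∈ T := by
  intro x hx
  obtain ⟨l, hl, rfl⟩ := Finsupp.mem_span_image_iff_linearCombination S |>.1 hx
  rw [Finsupp.linearCombination_apply, Finsupp.sum, decompose_sum, DFinsupp.finsetSum_apply,
    AddSubmonoidClass.coe_finsetSum]
  refine T.sum_mem fun g hg => ?_
  have hgG : g ∈ G := hl hg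
  classical
  rw [← DirectSum.sum_support_decompose 𝒜 (l g), Finset.sum_smul, decompose_sum, DFinsupp.finsetSum_apply,
    AddSubmonoidClass.coe_finsetSum]
  refine T.sum_mem fun i _ => ?_
  have hmem : (decompose 𝒜 (l g) i : S) • g.2 ∈ ℳ (i +ᵥ g.1) :=
    SetLike.GradedSMul.smul_mem (decompose 𝒜 (l g) i).2 (hG g hgG)
  rw [vadd_eq_add] at hmem
  by_cases h : i + g.1 = n
  · rw [← h, decompose_of_mem_same ℳ hmem]
    exact hT g hgG i _ (decompose 𝒜 (l g) i).2 h
  · rw [decompose_of_mem_ne ℳ hmem h]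
    exact zero_mem _

open DirectSum in
/-- A module spanned by finitely many homogeneous elements has finite graded pieces. -/
theorem piece_fg {A S : Type u} [CommRing A] [CommRing S] [Algebra A S] (𝒜 : ℕ → Submodule A S) [GradedAlgebra 𝒜]
    {M : Type u} [AddCommGroup M] [Module A M] [Module S M] [IsScalarTower A S M]
    (ℳ : ℕ → Submodule A M) [DirectSum.Decomposition ℳ] [SetLike.GradedSMul 𝒜 ℳ]
    (G : Finset (ℕ × M)) (hG : ∀ g ∈ G, g.2 ∈ ℳ g.1) (n : ℕ)
    (hfg : ∀ g ∈ G, g.1 ≤ n → (𝒜 (n - g.1)).FG) :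
    ∃ T : Submodule A M, T.FG ∧ ∀ x ∈ Submodule.span S (Prod.snd '' (G : Set (ℕ × M))),
      (decompose ℳ x n : M) ∈ T := by
  classical
  refine ⟨(G.filter fun g => g.1 ≤ n).sup fun g =>
      (𝒜 (n - g.1)).map ((LinearMap.toSpanSingleton S M g.2).restrictScalars A), ?_, ?_⟩
  · exact Submodule.fg_finset_sup _ _ fun g hg =>
      (hfg g (Finset.mem_filter.1 hg).1 (Finset.mem_filter.1 hg).2).map _
  · refine comp_mem 𝒜 ℳ _ hG _ n fun g hg i c hc hi => ?_
    have h : g ∈ G.filter fun g => g.1 ≤ n := Finset.mem_filter.2 ⟨hg, by omega⟩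
    refine Finset.le_sup (f := fun g : ℕ × M =>
      (𝒜 (n - g.1)).map ((LinearMap.toSpanSingleton S M g.2).restrictScalars A)) h ?_
    exact ⟨c, by rwa [show n - g.1 = i by omega], rfl⟩

/-- Let S be an ℕ-graded ring, presented as a graded algebra over a ring A mapping onto S₀, such that S
is of finite type over A, i.e. over S₀. If M is a finitely generated graded S-module, graded in
nonnegative degrees (the source allows all integer degrees), then each graded piece M_n is a finite
module over A, i.e. over S₀. -/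
theorem result {A S : Type u} [CommRing A] [CommRing S] [Algebra A S] (𝒜 : ℕ → Submodule A S) [GradedAlgebra 𝒜]
    (h0 : ∀ s ∈ 𝒜 0, s ∈ Set.range (algebraMap A S)) [Algebra.FiniteType A S]
    (M : Type u) [AddCommGroup M] [Module A M] [Module S M] [IsScalarTower A S M] [Module.Finite S M] (ℳ : ℕ → Submodule A M) [DirectSum.Decomposition ℳ] [SetLike.GradedSMul 𝒜 ℳ] (n : ℕ) :
    Module.Finite A (ℳ n) := by
  classical
  haveI : SetLike.GradedSMul 𝒜 𝒜 := inferInstance
  obtain ⟨s, hs⟩ := ‹Algebra.FiniteType A S›.out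
  let G : Finset (ℕ × S) := s.biUnion fun x =>
    ((DirectSum.decompose 𝒜 x).support.filter fun i => 0 < i).image fun i => (i, (DirectSum.decompose 𝒜 x i : S))
  have hG : ∀ g ∈ G, g.2 ∈ 𝒜 g.1 ∧ 0 < g.1 := fun g hg => by
    obtain ⟨x, _, hx⟩ := Finset.mem_biUnion.1 hg
    obtain ⟨i, hi, rfl⟩ := Finset.mem_image.1 hx
    exact ⟨(DirectSum.decompose 𝒜 x i).2, (Finset.mem_filter.1 hi).2⟩
  let J : Submodule S S := Submodule.span S (Prod.snd '' (G : Set (ℕ × S)))
  have hdec : ∀ y : S, ∃ a : A, y - algebraMap A S a ∈ J := by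
    intro y
    have hy : y ∈ Algebra.adjoin A (s : Set S) := hs ▸ Algebra.mem_top
    induction hy using Algebra.adjoin_induction with
    | mem x hx =>
      obtain ⟨a, ha⟩ := h0 _ (DirectSum.decompose 𝒜 x 0).2
      refine ⟨a, ?_⟩
      rw [ha]
      nth_rw 1 [← DirectSum.sum_support_decompose 𝒜 x]
      by_cases h : 0 ∈ (DirectSum.decompose 𝒜 x).support
      · rw [← Finset.add_sum_erase _ _ h, add_sub_cancel_left]
        refine J.sum_mem fun i hi => Submodule.subset_span ⟨(i, (DirectSum.decompose 𝒜 x i : S)), ?_, rfl⟩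
        refine Finset.mem_biUnion.2 ⟨x, hx, Finset.mem_image.2 ⟨i, Finset.mem_filter.2
          ⟨(Finset.mem_erase.1 hi).2, Nat.pos_of_ne_zero (Finset.mem_erase.1 hi).1⟩, rfl⟩⟩
      · rw [DFinsupp.notMem_support_iff.1 h, ZeroMemClass.coe_zero, sub_zero]
        refine J.sum_mem fun i hi => Submodule.subset_span ⟨(i, (DirectSum.decompose 𝒜 x i : S)), ?_, rfl⟩
        refine Finset.mem_biUnion.2 ⟨x, hx, Finset.mem_image.2 ⟨i, Finset.mem_filter.2
          ⟨hi, Nat.pos_of_ne_zero fun e => h (e ▸ hi)⟩, rfl⟩⟩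
    | algebraMap r => exact ⟨r, by simp⟩
    | add x y _ _ hx hy =>
      obtain ⟨a, ha⟩ := hx
      obtain ⟨b, hb⟩ := hy
      exact ⟨a + b, by rw [map_add, add_sub_add_comm]; exact add_mem ha hb⟩
    | mul x y _ _ hx hy =>
      obtain ⟨a, ha⟩ := hx
      obtain ⟨b, hb⟩ := hy
      refine ⟨a * b, ?_⟩
      rw [map_mul, show x * y - algebraMap A S a * algebraMap A S b =
        y • (x - algebraMap A S a) + algebraMap A S a • (y - algebraMap A S b) by
          simp only [smul_eq_mul]; ring]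
      exact add_mem (J.smul_mem _ ha) (J.smul_mem _ hb)
  have hA : ∀ j, (𝒜 j).FG := by
    intro j
    induction j using Nat.strong_induction_on with
    | _ j ih =>
      rcases Nat.eq_zero_or_pos j with rfl | hj
      · have e : 𝒜 0 = (⊤ : Submodule A A).map (Algebra.linearMap A S) := by
          rw [Submodule.map_top]
          refine le_antisymm (fun x hx => h0 x hx) ?_
          rintro _ ⟨a, rfl⟩
          exact SetLike.algebraMap_mem_graded 𝒜 a
        rw [e]
        exact Module.Finite.fg_top.map _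
      · obtain ⟨T, hT, hT'⟩ := piece_fg 𝒜 𝒜 G (fun g hg => (hG g hg).1) j
          (fun g hg hle => ih _ (by have := (hG g hg).2; omega))
        have e : 𝒜 j = T ⊓ 𝒜 j := le_antisymm (le_inf (fun x hx => by
            obtain ⟨a, ha⟩ := hdec x
            have := hT' _ ha
            rwa [DirectSum.decompose_sub, DFinsupp.sub_apply, AddSubgroupClass.coe_sub,
              DirectSum.decompose_of_mem_same 𝒜 hx,
              DirectSum.decompose_of_mem_ne 𝒜 (SetLike.algebraMap_mem_graded 𝒜 a) hj.ne, sub_zero] at this)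
            le_rfl) inf_le_right
        have hp : (T.map ((𝒜 j).subtype.comp (DirectSum.component A ℕ (fun i => 𝒜 i) j ∘ₗ
            (DirectSum.decomposeLinearEquiv 𝒜).toLinearMap))) = 𝒜 j := by
          refine le_antisymm ?_ (fun x hx => ⟨x, (e.le hx).1, ?_⟩)
          · rintro _ ⟨x, _, rfl⟩
            exact (DirectSum.decompose 𝒜 x j).2
          · exact DirectSum.decompose_of_mem_same 𝒜 hx
        rw [← hp]
        exact hT.map _
  haveI := hA
  obtain ⟨t, ht⟩ := (Module.Finite.fg_top (R := S) (M := M))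
  let H : Finset (ℕ × M) := t.biUnion fun x =>
    (DirectSum.decompose ℳ x).support.image fun i => (i, (DirectSum.decompose ℳ x i : M))
  have hH : ∀ g ∈ H, g.2 ∈ ℳ g.1 := fun g hg => by
    obtain ⟨x, _, hx⟩ := Finset.mem_biUnion.1 hg
    obtain ⟨i, _, rfl⟩ := Finset.mem_image.1 hx
    exact (DirectSum.decompose ℳ x i).2
  obtain ⟨T, hT, hT'⟩ := piece_fg 𝒜 ℳ H hH n (fun g _ _ => hA _)
  have hspan : ∀ x : M, x ∈ Submodule.span S (Prod.snd '' (H : Set (ℕ × M))) := by
    intro x
    have hx : x ∈ Submodule.span S (t : Set M) := ht ▸ Submodule.mem_top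
    refine (Submodule.span_le.2 fun y hy => ?_) hx
    rw [SetLike.mem_coe, ← DirectSum.sum_support_decompose ℳ y]
    exact Submodule.sum_mem _ fun i hi => Submodule.subset_span
      ⟨(i, (DirectSum.decompose ℳ y i : M)),
        Finset.mem_biUnion.2 ⟨y, hy, Finset.mem_image.2 ⟨i, hi, rfl⟩⟩, rfl⟩
  have hp : T.map ((ℳ n).subtype.comp (DirectSum.component A ℕ (fun i => ℳ i) n ∘ₗ
      (DirectSum.decomposeLinearEquiv ℳ).toLinearMap)) = ℳ n := by
    refine le_antisymm ?_ (fun x hx => ⟨x, ?_, DirectSum.decompose_of_mem_same ℳ hx⟩)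
    · rintro _ ⟨x, _, rfl⟩
      exact (DirectSum.decompose ℳ x n).2
    · have := hT' x (hspan x)
      rwa [DirectSum.decompose_of_mem_same ℳ hx] at this
  rw [Module.Finite.iff_fg, ← hp]
  exact hT.map _

end Groth.Agent.S9617
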