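import Mathlib
import Groth.Agent.S7567
import Groth.Statements.S9618
-- import your own Groth.Agent.* helpers here

set_option autoImplicit false
universe u
open CAlg

namespace Groth.Agent.S9618

/-- For a ring R and a subset T of Spec R the following are equivalent: (1) T is closed and contains the
connected component of each of its points; (2) T can be written as an intersection of subsets of
Spec R that are both open and closed; (3) T is the common zero locus of some set of idempotent
elements of R (equivalently, of the ideal they generate). -/
theorem result {R : Type u} [CommRing R] (T : Set (PrimeSpectrum R)) :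
    [IsClosed T ∧ ∀ x ∈ T, connectedComponent x ⊆ T,
      ∃ U : Set (Set (PrimeSpectrum R)), (∀ u ∈ U, IsClopen u) ∧ T = ⋂₀ U,
      ∃ E : Set R, (∀ e ∈ E, IsIdempotentElem e) ∧ T = PrimeSpectrum.zeroLocus E].TFAE := by
  classical
  tfae_have 1 → 2 := fun h => (Groth.Agent.S7567.result T).2 h
  tfae_have 2 → 3 := by
    rintro ⟨U, hU, rfl⟩
    choose e he heu using fun u : U => PrimeSpectrum.isClopen_iff_zeroLocus.1 (hU u.1 u.2)
    refine ⟨Set.range e, by rintro _ ⟨u, rfl⟩; exact he u, ?_⟩
    ext x
    simp only [Set.mem_sInter, PrimeSpectrum.mem_zeroLocus, Set.range_subset_iff]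
    constructor
    · intro h u
      have := h u.1 u.2
      rw [heu u] at this
      simpa using this
    · intro h u hu
      show x ∈ (⟨u, hu⟩ : U).1
      rw [heu]
      simpa using h ⟨u, hu⟩
  tfae_have 3 → 1 := by
    rintro ⟨E, hE, rfl⟩
    refine ⟨PrimeSpectrum.isClosed_zeroLocus E, fun x hx y hy => ?_⟩
    intro e he
    have hclopen : IsClopen (PrimeSpectrum.zeroLocus ({e} : Set R)) := PrimeSpectrum.isClopen_iff_zeroLocus.2 ⟨e, hE e he, rfl⟩
    have := hclopen.connectedComponent_subset (x := x) (by simpa using hx he) hy
    simpa using this
  tfae_finish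

end Groth.Agent.S9618
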