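import Mathlib
import Groth.Statements.S9620
-- import your own Groth.Agent.* helpers here

set_option autoImplicit false
universe u
open CAlg

namespace Groth.Agent.S9620

/-- For a ring R and a point p of Spec R, the connected component of p is the zero locus of the ideal I
generated by the idempotents of R contained in p, and every idempotent e of R satisfies e ∈ I or 1 -
e ∈ I (e maps to 0 or 1 in R/I). -/
theorem result {R : Type u} [CommRing R] (p : PrimeSpectrum R) :
    connectedComponent p = PrimeSpectrum.zeroLocus {e : R | IsIdempotentElem e ∧ e ∈ p.asIdeal} ∧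
      ∀ e : R, IsIdempotentElem e → (e ∈ Ideal.span {e : R | IsIdempotentElem e ∧ e ∈ p.asIdeal} ∨ 1 - e ∈ Ideal.span {e : R | IsIdempotentElem e ∧ e ∈ p.asIdeal}) := by
  set I := Ideal.span {e : R | IsIdempotentElem e ∧ e ∈ p.asIdeal}
  have hI : I ≤ p.asIdeal := Ideal.span_le.mpr fun e he => he.2
  have h01 : ∀ e : R, IsIdempotentElem e → e ∈ I ∨ 1 - e ∈ I := fun e he => by
    rcases p.isPrime.mem_or_mem (show e * (1 - e) ∈ p.asIdeal by rw [mul_sub, mul_one, he.eq, sub_self]; exact zero_mem _) with h | h
    · exact Or.inl (Ideal.subset_span ⟨he, h⟩)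
    · exact Or.inr (Ideal.subset_span ⟨he.one_sub, h⟩)
  refine ⟨?_, h01⟩
  -- every element of `I` is a multiple of a single idempotent in `p`
  have hdir : ∀ x ∈ I, ∃ f : R, IsIdempotentElem f ∧ f ∈ p.asIdeal ∧ x * f = x := fun x hx => by
    induction hx using Submodule.span_induction with
    | mem e he => exact ⟨e, he.1, he.2, he.1.eq⟩
    | zero => exact ⟨0, IsIdempotentElem.zero, zero_mem _, by simp⟩
    | add a b _ _ ha hb =>
      obtain ⟨f, hf, hfp, hfa⟩ := ha
      obtain ⟨g, hg, hgp, hgb⟩ := hb
      refine ⟨f + g - f * g, hf.add_sub_mul hg, sub_mem (add_mem hfp hgp) (Ideal.mul_mem_left _ _ hgp), ?_⟩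
      linear_combination (1 - g) * hfa + (1 - f) * hgb
    | smul r a _ ha =>
      obtain ⟨f, hf, hfp, hfa⟩ := ha
      exact ⟨f, hf, hfp, by rw [smul_eq_mul, mul_assoc, hfa]⟩
  refine subset_antisymm ?_ ?_
  · intro q hq
    rw [PrimeSpectrum.mem_zeroLocus]
    rintro e ⟨he, hep⟩
    by_contra hq'
    have hclopen : IsClopen (PrimeSpectrum.basicOpen e : Set (PrimeSpectrum R)) :=
      PrimeSpectrum.isClopen_iff.mpr ⟨e, he, rfl⟩
    exact (hclopen.compl.connectedComponent_subset (x := p) (by simpa using hep) hq) hq'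
  · rw [← PrimeSpectrum.zeroLocus_span]
    show PrimeSpectrum.zeroLocus (I : Set R) ⊆ connectedComponent p
    refine IsPreconnected.subset_connectedComponent ?_ hI
    rw [← Ideal.mk_ker (I := I), ← range_comap_of_surjective _ (Ideal.Quotient.mk I) Ideal.Quotient.mk_surjective]
    haveI : PreconnectedSpace (PrimeSpectrum (R ⧸ I)) := by
      refine preconnectedSpace_iff_clopen.mpr fun s hs => ?_
      obtain ⟨ε, hε, rfl⟩ := PrimeSpectrum.isClopen_iff.mp hs
      obtain ⟨x, rfl⟩ := Ideal.Quotient.mk_surjective ε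
      have hx : x * x - x ∈ I := Ideal.Quotient.eq.mp (by simpa using hε.eq)
      obtain ⟨f, hf, hfp, hxf⟩ := hdir _ hx
      have hfI : f ∈ I := Ideal.subset_span ⟨hf, hfp⟩
      have he : IsIdempotentElem (x * (1 - f)) := by
        unfold IsIdempotentElem
        linear_combination (x * x) * hf.eq - hxf
      have hmk : Ideal.Quotient.mk I (x * (1 - f)) = Ideal.Quotient.mk I x := by
        rw [map_mul, map_sub, Ideal.Quotient.eq_zero_iff_mem.mpr hfI, map_one, sub_zero, mul_one]
      rcases h01 _ he with h | h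
      · left
        rw [← hmk, Ideal.Quotient.eq_zero_iff_mem.mpr h, PrimeSpectrum.basicOpen_zero]
        rfl
      · right
        rw [← Ideal.Quotient.eq_zero_iff_mem, map_sub, map_one, sub_eq_zero] at h
        rw [← hmk, ← h, PrimeSpectrum.basicOpen_one]
        rfl
    exact isPreconnected_range (PrimeSpectrum.continuous_comap _)

end Groth.Agent.S9620
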