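import Groth.Statements.S9621
import Mathlib
-- import your own Groth.Agent.* helpers here

set_option autoImplicit false
universe u
open CAlg

namespace Groth.Agent.S9621

/-- Let R be a ring, p a minimal prime of R and W a quasi-compact open subset of Spec R not containing
p. Then there is an f ∈ R, f ∉ p, whose basic open D(f) is disjoint from W. -/
theorem result {R : Type u} [CommRing R] (p : PrimeSpectrum R) (hp : p.asIdeal ∈ minimalPrimes R) (W : Set (PrimeSpectrum R)) (hWo : IsOpen W) (hWc : IsCompact W) (hpW : p ∉ W) :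
    ∃ f : R, f ∉ p.asIdeal ∧ Disjoint (PrimeSpectrum.basicOpen f : Set (PrimeSpectrum R)) W := by
  classical
  have := hp.1.1
  obtain ⟨s, hs⟩ := PrimeSpectrum.isCompact_isOpen_iff.mp ⟨hWc, hWo⟩
  have hmem : ∀ g ∈ s, g ∈ p.asIdeal := fun g hg => by
    by_contra hgp
    exact hpW (hs ▸ fun h => hgp (h hg))
  have hex : ∀ g ∈ s, ∃ t ∉ p.asIdeal, IsNilpotent (t * g) := fun g hg => by
    by_contra! hcon
    have hd : Disjoint ((⊥ : Ideal R) : Set R) (p.asIdeal.primeCompl ⊔ Submonoid.powers g : Submonoid R) := by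
      rw [Set.disjoint_left]
      intro x hx hx'
      obtain rfl := Submodule.mem_bot R |>.mp hx
      obtain ⟨t, ht, _, ⟨n, rfl⟩, h0⟩ := Submonoid.mem_sup.mp hx'
      refine hcon t ht ⟨n + 1, ?_⟩
      calc (t * g) ^ (n + 1) = t ^ n * g * (t * g ^ n) := by ring
        _ = 0 := by rw [h0, mul_zero]
    obtain ⟨q, hq, -, hqd⟩ := Ideal.exists_le_prime_disjoint _ _ hd
    rw [Set.disjoint_left] at hqd
    have hqp : q ≤ p.asIdeal := fun x hx => by
      by_contra h
      exact hqd hx (Submonoid.mem_sup_left h)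
    exact hqd (hp.2 ⟨hq, bot_le⟩ hqp (hmem g hg)) (Submonoid.mem_sup_right (Submonoid.mem_powers g))
  choose t ht hnil using hex
  refine ⟨∏ g : s, t g.1 g.2, fun h => ?_, Set.disjoint_left.mpr fun q hq hqW => ?_⟩
  · obtain ⟨g, -, hg⟩ := (Ideal.IsPrime.prod_mem_iff).mp h
    exact ht _ _ hg
  · rw [← hs, Set.mem_compl_iff, PrimeSpectrum.mem_zeroLocus, Set.not_subset] at hqW
    obtain ⟨g, hg, hqg⟩ := hqW
    obtain ⟨k, hk⟩ := hnil g hg
    have h0 : t g hg * g ∈ q.asIdeal := q.isPrime.mem_of_pow_mem k (hk ▸ q.asIdeal.zero_mem)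
    rcases q.isPrime.mem_or_mem h0 with h | h
    · exact hq (Finset.prod_eq_prod_sdiff_singleton_mul (s := Finset.univ) (Finset.mem_univ (⟨g, hg⟩ : s)) (fun g => t g.1 g.2) ▸ q.asIdeal.mul_mem_left _ h)
    · exact hqg h

end Groth.Agent.S9621
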