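import Mathlib
import Groth.Statements.S9622
-- import your own Groth.Agent.* helpers here

set_option autoImplicit false
universe u
open CAlg

namespace Groth.Agent.S9622

/-- Let R → S be a ring map whose target S is a local Artinian ring, and write m for the maximal ideal
of S. Then S is a finite R-module exactly when S/m is, and S is an R-algebra of finite type exactly
when S/m is. -/
theorem result {R S : Type u} [CommRing R] [CommRing S] [Algebra R S] [IsArtinianRing S] [IsLocalRing S] :
    (Module.Finite R S ↔ Module.Finite R (S ⧸ IsLocalRing.maximalIdeal S)) ∧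
      (Algebra.FiniteType R S ↔ Algebra.FiniteType R (S ⧸ IsLocalRing.maximalIdeal S)) := by
  classical
  set m := IsLocalRing.maximalIdeal S
  have key : ∀ (B : Type u) [CommRing B] [Algebra B S], Module.Finite B (S ⧸ m) → Module.Finite B S := by
    intro B _ _ hB
    have hind : ∀ (N : Type u) [AddCommGroup N] [Module S N] [Module.Finite S N],
        ∀ [Module B N] [IsScalarTower B S N], Module.Finite B N := by
      intro N _ _ hN
      induction hN using IsNoetherianRing.induction_on_isQuotientEquivQuotientPrime (A := S) with
      | subsingleton N => intro _ _; exact Module.Finite.of_finite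
      | quotient N p e =>
        intro _ _
        have hp : p.asIdeal = m := IsLocalRing.eq_maximalIdeal (IsArtinianRing.isMaximal_of_isPrime _)
        exact Module.Finite.equiv ((e.trans (Submodule.quotEquivOfEq _ _ hp)).restrictScalars B).symm
      | exact M₁ M₂ M₃ f g hf hg hfg h1 h3 =>
        intro _ _
        letI : Module B M₁ := Module.compHom M₁ (algebraMap B S)
        letI : Module B M₃ := Module.compHom M₃ (algebraMap B S)
        haveI : IsScalarTower B S M₁ := IsScalarTower.of_algebraMap_smul fun _ _ => rfl
        haveI : IsScalarTower B S M₃ := IsScalarTower.of_algebraMap_smul fun _ _ => rfl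
        haveI : Module.Finite B M₁ := h1
        haveI : Module.Finite B M₃ := h3
        constructor
        refine Submodule.fg_of_fg_map_of_fg_inf_ker (g.restrictScalars B) ?_ ?_
        · rw [Submodule.map_top, LinearMap.range_eq_top.2 (show Function.Surjective (g.restrictScalars B) from hg)]
          exact Module.Finite.fg_top
        · rw [top_inf_eq, LinearMap.ker_restrictScalars]
          have : (LinearMap.ker g).restrictScalars B = Submodule.map (f.restrictScalars B) ⊤ := by
            rw [Submodule.map_top, hfg.linearMap_ker_eq]; rfl
          rw [this]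
          exact Module.Finite.fg_top.map _
    exact hind S
  have hsurj : Function.Surjective (Ideal.Quotient.mkₐ R m) := Ideal.Quotient.mkₐ_surjective R m
  refine ⟨⟨fun h => Module.Finite.of_surjective (Ideal.Quotient.mkₐ R m).toLinearMap hsurj, key R⟩,
    fun h => Algebra.FiniteType.of_surjective (Ideal.Quotient.mkₐ R m) hsurj, fun h => ?_⟩
  obtain ⟨T, hT⟩ := h.out
  choose l hl using fun x : S ⧸ m => hsurj x
  let B := Algebra.adjoin R ((T.image l : Finset S) : Set S)
  haveI : Algebra.FiniteType R B := (Subalgebra.fg_iff_finiteType B).1 (Subalgebra.fg_adjoin_finset _)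
  have hBsurj : Function.Surjective ((Ideal.Quotient.mkₐ R m).comp B.val) := by
    rw [← AlgHom.range_eq_top, eq_top_iff, ← hT, Algebra.adjoin_le_iff]
    intro x hx
    exact ⟨⟨l x, Algebra.subset_adjoin (Finset.mem_coe.2 (Finset.mem_image_of_mem l hx))⟩, hl x⟩
  haveI : Module.Finite B (S ⧸ m) := Module.Finite.of_surjective (Algebra.linearMap B (S ⧸ m)) hBsurj
  haveI : Module.Finite B S := key B inferInstance
  exact Algebra.FiniteType.trans (S := B) inferInstance inferInstance

end Groth.Agent.S9622
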