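import Groth.Statements.S9623
import Groth.Agent.GeomIrr.Basic
-- import your own Groth.Agent.* helpers here

set_option autoImplicit false
universe u
open CAlg

namespace Groth.Agent.S9623

open scoped TensorProduct

open TensorProduct in
open CategoryTheory CategoryTheory.Limits AlgebraicGeometry FieldExtConn in
/-- A connected affine scheme over a separably closed field has connected products. -/
theorem connectedSpace_spec {k R S : Type u} [Field k] [IsSepClosed k] [CommRing R] [CommRing S] [Algebra k R]
    [Algebra k S] [ConnectedSpace (PrimeSpectrum R)] [ConnectedSpace (PrimeSpectrum S)] :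
    ConnectedSpace (PrimeSpectrum (R ⊗[k] S)) := by
  let f := Spec.map (CommRingCat.ofHom (algebraMap k R))
  let g := Spec.map (CommRingCat.ofHom (algebraMap k S))
  have : ConnectedSpace ↥(Spec (CommRingCat.of R)) := ‹ConnectedSpace (PrimeSpectrum R)›
  have : ConnectedSpace ↥(Spec (CommRingCat.of S)) := ‹ConnectedSpace (PrimeSpectrum S)›
  have hid : ext k k = 𝟙 _ := by
    show Spec.map (CommRingCat.ofHom (algebraMap k k)) = _
    exact (congrArg Spec.map (rfl : CommRingCat.ofHom (algebraMap k k) = 𝟙 (CommRingCat.of k))).trans (Spec.map_id _)
  have : IsIso (ext k k) := by rw [hid]; infer_instance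
  have : ConnectedSpace (pullback f (ext k k) : Scheme.{u}) :=
    (pullback.fst f (ext k k)).homeomorph.connectedSpace_iff.mpr ‹_›
  have : GeometricallyConnected f := Groth.Agent.GeomIrr.geometricallyConnected_of_isSepClosed f k
  have h : ConnectedSpace ↥(pullback f g) := inferInstance
  exact (pullbackSpecIso k R S).hom.homeomorph.connectedSpace_iff.mp h

/-- Let k be a separably closed field and R, S two k-algebras with connected (nonempty) spectra. Then
Spec(R ⊗_k S) is connected. -/
theorem result {k R S : Type u} [Field k] [IsSepClosed k] [CommRing R] [CommRing S] [Algebra k R] [Algebra k S]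
    [ConnectedSpace (PrimeSpectrum R)] [ConnectedSpace (PrimeSpectrum S)] :
    ConnectedSpace (PrimeSpectrum (R ⊗[k] S)) := by
  exact connectedSpace_spec

end Groth.Agent.S9623
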