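import Groth.Statements.S9629
import Groth.Agent.FieldExtConn.TensorDomain
import Groth.Agent.GeomIrr.Alg
-- import your own Groth.Agent.* helpers here

set_option autoImplicit false
universe u
open CAlg

namespace Groth.Agent.S9629

open TensorProduct in
/-- For a field k and a k-algebra S the following are equivalent: (1) S is geometrically integral, i.e.
k' ⊗_k S is an integral domain for every field extension k'/k; (2) k' ⊗_k S is an integral domain
for every finite field extension k'/k; (3) k̄ ⊗_k S is an integral domain for the algebraic closure
k̄ of k. Here the test fields range over field extensions in the universe of k; this is equivalent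
to the unrestricted notion, since an algebraic closure of k suffices as a test. -/
theorem result {k S : Type u} [Field k] [CommRing S] [Algebra k S] :
    [∀ (k' : Type u) [Field k'] [Algebra k k'], IsDomain (k' ⊗[k] S),
      ∀ (k' : Type u) [Field k'] [Algebra k k'] [Module.Finite k k'], IsDomain (k' ⊗[k] S),
      IsDomain (AlgebraicClosure k ⊗[k] S)].TFAE := by
  tfae_have 1 → 2 := fun h k' _ _ _ => h k'
  tfae_have 1 → 3 := fun h => h _
  tfae_have 2 → 3 := by
    intro h
    have := h k
    have hS : Nontrivial S := (Algebra.TensorProduct.lid k S).symm.toEquiv.nontrivial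
    have : Nontrivial (AlgebraicClosure k ⊗[k] S) :=
      (Algebra.TensorProduct.includeRight_injective (R := k) (A := AlgebraicClosure k) (B := S) (RingHom.injective _)).nontrivial
    have : NoZeroDivisors (AlgebraicClosure k ⊗[k] S) := ⟨fun {x y} hxy => by
      obtain ⟨L, hL, ⟨a, rfl⟩, b, rfl⟩ := Groth.Agent.GeomIrr.Alg.exists_finite_level₂ (AlgebraicClosure k) S x y
      have hinj := Groth.Agent.GeomIrr.Alg.map_left_injective L.val Subtype.val_injective S
      have := h L
      rw [← map_mul] at hxy
      rcases mul_eq_zero.1 ((map_eq_zero_iff _ hinj).1 hxy) with h' | h' <;> simp [h']⟩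
    exact NoZeroDivisors.to_isDomain _
  tfae_have 3 → 1 := by
    intro h k' _ _
    let Ω := AlgebraicClosure k'
    let σ : AlgebraicClosure k →ₐ[k] Ω := IsAlgClosed.lift
    letI := σ.toRingHom.toAlgebra
    haveI : IsScalarTower k (AlgebraicClosure k) Ω := IsScalarTower.of_algebraMap_eq fun c => (σ.commutes c).symm
    have := Groth.Agent.FieldExtConn.isDomain_tensor_of_isAlgClosed (AlgebraicClosure k) Ω (AlgebraicClosure k ⊗[k] S)
    have hΩ : IsDomain (Ω ⊗[k] S) :=
      (Algebra.TensorProduct.cancelBaseChange k (AlgebraicClosure k) (AlgebraicClosure k) Ω S).symm.toMulEquiv.isDomain_iff.2 this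
    exact Function.Injective.isDomain (Algebra.TensorProduct.map (IsScalarTower.toAlgHom k k' Ω) (AlgHom.id k S)).toRingHom
      (Groth.Agent.GeomIrr.Alg.map_left_injective _ (RingHom.injective _) S)
  tfae_finish

end Groth.Agent.S9629
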