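import Groth.Statements.S9633
import Mathlib
-- import your own Groth.Agent.* helpers here

set_option autoImplicit false
universe u
open CAlg

namespace Groth.Agent.S9633

/-- For a ring R with spectrum X the following are equivalent: (1) X is profinite, i.e. compact,
Hausdorff and totally disconnected; (2) X is Hausdorff; (3) X is totally disconnected; (4) every
quasi-compact open subset of X is closed; (5) there are no nontrivial inclusions among prime ideals
of R; (6) every prime ideal of R is maximal; (7) every prime ideal of R is a minimal prime; (8)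
every standard open D(f) is closed. -/
theorem result {R : Type u} [CommRing R] :
    [CompactSpace (PrimeSpectrum R) ∧ T2Space (PrimeSpectrum R) ∧ TotallyDisconnectedSpace (PrimeSpectrum R),
      T2Space (PrimeSpectrum R),
      TotallyDisconnectedSpace (PrimeSpectrum R),
      ∀ W : Set (PrimeSpectrum R), IsOpen W → IsCompact W → IsClosed W,
      ∀ p q : PrimeSpectrum R, p ≤ q → p = q,
      ∀ p : Ideal R, p.IsPrime → p.IsMaximal,
      ∀ p : Ideal R, p.IsPrime → p ∈ minimalPrimes R,
      ∀ f : R, IsClosed (PrimeSpectrum.basicOpen f : Set (PrimeSpectrum R))].TFAE := by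
  tfae_have 1 → 2 := fun h => h.2.1
  tfae_have 1 → 3 := fun h => h.2.2
  tfae_have 2 → 5 := by
    intro h p q hpq
    have hs : p ⤳ q := (PrimeSpectrum.le_iff_specializes p q).mp hpq
    exact hs.eq
  tfae_have 3 → 5 := by
    intro h p q hpq
    have hs : p ⤳ q := (PrimeSpectrum.le_iff_specializes p q).mp hpq
    have hsub : closure {p} ⊆ connectedComponent p := isClosed_connectedComponent.closure_subset_iff.mpr
      (Set.singleton_subset_iff.mpr mem_connectedComponent)
    have := hsub hs.mem_closure
    rw [totallyDisconnectedSpace_iff_connectedComponent_singleton.mp h p] at this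
    exact this.symm
  tfae_have 5 → 6 := by
    intro h p hp
    obtain ⟨m, hm, hpm⟩ := p.exists_le_maximal hp.ne_top
    have e : p = m := congrArg PrimeSpectrum.asIdeal (h ⟨p, hp⟩ ⟨m, hm.isPrime⟩ hpm)
    exact e ▸ hm
  tfae_have 6 → 7 := by
    intro h p hp
    obtain ⟨q, hq, hqp⟩ := Ideal.exists_minimalPrimes_le (bot_le : ⊥ ≤ p)
    exact ((h q hq.1.1).eq_of_le hp.ne_top hqp) ▸ hq
  tfae_have 7 → 6 := by
    intro h p hp
    obtain ⟨m, hm, hpm⟩ := p.exists_le_maximal hp.ne_top
    exact le_antisymm ((h m hm.isPrime).2 ⟨hp, bot_le⟩ hpm) hpm ▸ hm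
  tfae_have 6 → 8 := by
    intro h f
    obtain ⟨n, g, hg⟩ : ∃ (n : ℕ) (g : R), f ^ n * (1 - f * g) = 0 := by
      by_contra hc
      push_neg at hc
      let T : Submonoid R := Submonoid.powers f ⊔ Submonoid.closure {x | ∃ g, x = 1 - f * g}
      have h0 : (0 : R) ∉ T := by
        intro h0
        obtain ⟨y, ⟨n, rfl⟩, z, hz, hyz⟩ := Submonoid.mem_sup.mp h0
        have hT : ∀ z ∈ Submonoid.closure {x | ∃ g, x = 1 - f * g}, ∃ g, z = 1 - f * g := by
          intro z hz
          induction hz using Submonoid.closure_induction with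
          | mem x hx => exact hx
          | one => exact ⟨0, by simp⟩
          | mul a b _ _ ha hb =>
            obtain ⟨c, rfl⟩ := ha; obtain ⟨d, rfl⟩ := hb
            exact ⟨c + d - f * c * d, by ring⟩
        obtain ⟨g, rfl⟩ := hT z hz
        exact hc n g hyz
      obtain ⟨P, hP, -, hPT⟩ := Ideal.exists_le_prime_disjoint ⊥ T
        (Set.disjoint_left.mpr fun x hx hxT => h0 ((Ideal.mem_bot.mp hx) ▸ hxT))
      have hfP : f ∉ P := fun hf =>
        Set.disjoint_left.mp hPT hf (Submonoid.mem_sup_left (Submonoid.mem_powers f))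
      obtain ⟨g, i, hi, hgi⟩ := (h P hP).exists_inv hfP
      refine Set.disjoint_left.mp hPT (show 1 - f * g ∈ P by rwa [show 1 - f * g = i by linear_combination -hgi]) ?_
      exact Submonoid.mem_sup_right (Submonoid.subset_closure ⟨g, rfl⟩)
    have e : (PrimeSpectrum.basicOpen f : Set (PrimeSpectrum R)) = PrimeSpectrum.zeroLocus {1 - f * g} := by
      ext p
      simp only [SetLike.mem_coe, PrimeSpectrum.mem_basicOpen, PrimeSpectrum.mem_zeroLocus,
        Set.singleton_subset_iff]
      constructor
      · intro hp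
        have : f ^ n * (1 - f * g) ∈ p.asIdeal := hg ▸ p.asIdeal.zero_mem
        exact (p.isPrime.mem_or_mem this).resolve_left fun hh => hp (p.isPrime.mem_of_pow_mem n hh)
      · intro hp hf
        exact p.isPrime.ne_top ((Ideal.eq_top_iff_one _).mpr
          (by simpa using add_mem hp (Ideal.mul_mem_right g _ hf)))
    rw [e]
    exact PrimeSpectrum.isClosed_zeroLocus _
  tfae_have 8 → 4 := by
    intro h W hWo hWc
    obtain ⟨s, hs, rfl⟩ := (isCompact_open_iff_eq_finite_iUnion_of_isTopologicalBasis _
      PrimeSpectrum.isTopologicalBasis_basic_opens PrimeSpectrum.isCompact_basicOpen W).mp ⟨hWc, hWo⟩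
    exact hs.isClosed_biUnion fun f _ => h f
  tfae_have 4 → 8 := fun h f => h _ (PrimeSpectrum.basicOpen f).2 (PrimeSpectrum.isCompact_basicOpen f)
  tfae_have 8 → 1 := by
    intro h
    have hcl : ∀ p q : PrimeSpectrum R, p ≠ q → ∃ U : Set (PrimeSpectrum R), IsClopen U ∧ p ∈ U ∧ q ∉ U := by
      intro p q hpq
      obtain ⟨f, hf⟩ : ∃ f, ¬(f ∈ p.asIdeal ↔ f ∈ q.asIdeal) := by
        by_contra hc
        push_neg at hc
        exact hpq (PrimeSpectrum.ext (Ideal.ext hc))
      have hD : IsClopen (PrimeSpectrum.basicOpen f : Set (PrimeSpectrum R)) :=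
        ⟨h f, (PrimeSpectrum.basicOpen f).2⟩
      by_cases hfp : f ∈ p.asIdeal
      · exact ⟨_, hD.compl, fun hh => hh hfp, fun hh => hh fun hfq => hf (iff_of_true hfp hfq)⟩
      · exact ⟨_, hD, hfp, fun hh => hf (iff_of_false hfp hh)⟩
    haveI : TotallySeparatedSpace (PrimeSpectrum R) :=
      totallySeparatedSpace_iff_exists_isClopen.mpr fun p q hpq => hcl p q hpq
    exact ⟨inferInstance, inferInstance, inferInstance⟩
  tfae_finish

end Groth.Agent.S9633
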