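import Groth.Statements.S9635
import Groth.Agent.S9634
import Groth.Agent.GeomIrr.RedSep
-- import your own Groth.Agent.* helpers here

set_option autoImplicit false
universe u
open CAlg

namespace Groth.Agent.S9635

open TensorProduct in
/-- Let k ⊆ k' be fields with k' separable algebraic over k, and A a k'-algebra. Then A is geometrically
reduced over k (K ⊗_k A reduced for all field extensions K/k) if and only if A is geometrically
reduced over k' (K ⊗_{k'} A reduced for all field extensions K/k'). Here the test fields K range
over field extensions (of k, respectively of k') in the common universe of k and k'; this is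
equivalent to the unrestricted notions, since an algebraic closure of the base field suffices as a
test. -/
theorem result {k k' A : Type u} [Field k] [Field k'] [Algebra k k'] [Algebra.IsSeparable k k'] [CommRing A] [Algebra k' A] [Algebra k A] [IsScalarTower k k' A] :
    (∀ (K : Type u) [Field K] [Algebra k K], IsReduced (K ⊗[k] A)) ↔
      ∀ (K : Type u) [Field K] [Algebra k' K], IsReduced (K ⊗[k'] A) := by
  refine ⟨fun h K _ _ => Groth.Agent.GeomIrr.Alg.isReduced_tensor_sep (k := k) h K, fun h => ?_⟩
  refine ((Groth.Agent.S9634.result (k := k) (S := A)).out 0 2).1 ?_
  intro K _ _ _ _
  exact Groth.Agent.GeomIrr.Alg.isReduced_tensor_purelyInseparable h K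

end Groth.Agent.S9635
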