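import Mathlib
import Groth.Statements.S9636
-- import your own Groth.Agent.* helpers here

set_option autoImplicit false
universe u
open CAlg

namespace Groth.Agent.S9636

open scoped TensorProduct

open TensorProduct in
/-- Let k'/k be a separable algebraic field extension. Then for some multiplicative subset S of k' ⊗_k
k' the multiplication map k' ⊗_k k' → k' is a localization at S: there is a ring isomorphism S⁻¹(k'
⊗_k k') ≅ k' carrying the localization map to the multiplication map. -/
theorem result {k k' : Type u} [Field k] [Field k'] [Algebra k k'] [Algebra.IsSeparable k k'] :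
    ∃ (S : Submonoid (k' ⊗[k] k')) (e : Localization S ≃+* k'), ∀ x : k' ⊗[k] k', e (algebraMap (k' ⊗[k] k') (Localization S) x) = Algebra.TensorProduct.lmul' (S := k') k x := by
  classical
  let m : (k' ⊗[k] k') →+* k' := (Algebra.TensorProduct.lmul' (S := k') k).toRingHom
  let T : Submonoid (k' ⊗[k] k') := (nonZeroDivisors k').comap (m : (k' ⊗[k] k') →* k')
  have hm : ∀ s : T, IsUnit (m s) := fun s => isUnit_iff_ne_zero.mpr (nonZeroDivisors.ne_zero s.2)
  let ψ : Localization T →+* k' := IsLocalization.lift hm
  have hψ : ∀ x, ψ (algebraMap _ _ x) = m x := IsLocalization.lift_eq hm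
  let J : Submodule (k' ⊗[k] k') (k' ⊗[k] k') :=
    { carrier := {y | ∃ t ∈ T, t * y = 0}
      zero_mem' := ⟨1, T.one_mem, mul_zero _⟩
      add_mem' := by
        rintro a b ⟨t, ht, hta⟩ ⟨s, hs, hsb⟩
        exact ⟨t * s, T.mul_mem ht hs, by linear_combination s * hta + t * hsb⟩
      smul_mem' := by
        rintro c a ⟨t, ht, hta⟩
        exact ⟨t, ht, by rw [smul_eq_mul, mul_left_comm, hta, mul_zero]⟩ }
  have hgen : ∀ a : k', (1 : k') ⊗ₜ[k] a - a ⊗ₜ[k] (1 : k') ∈ J := by
    intro a
    let L := IntermediateField.adjoin k ({a} : Set k')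
    haveI : FiniteDimensional k L := IntermediateField.adjoin.finiteDimensional (Algebra.IsSeparable.isIntegral k a)
    haveI : Algebra.IsSeparable k L := Algebra.isSeparable_tower_bot_of_isSeparable k L k'
    haveI : Algebra.FormallyUnramified k L := Algebra.FormallyUnramified.of_isSeparable k L
    let φ : (L ⊗[k] L) →ₐ[k] (k' ⊗[k] k') := Algebra.TensorProduct.map L.val L.val
    have hmφ : (Algebra.TensorProduct.lmul' (S := k') k).comp φ = L.val.comp (Algebra.TensorProduct.lmul' (S := L) k) := by
      ext x <;> simp [φ]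
    refine ⟨φ (Algebra.FormallyUnramified.elem k L), ?_, ?_⟩
    · have h1 : m (φ (Algebra.FormallyUnramified.elem k L)) = 1 := by
        have := AlgHom.congr_fun hmφ (Algebra.FormallyUnramified.elem k L)
        simpa [m, Algebra.FormallyUnramified.lmul_elem] using this
      show m (φ (Algebra.FormallyUnramified.elem k L)) ∈ nonZeroDivisors k'
      rw [h1]; exact one_mem _
    · have hz := congrArg φ (Algebra.FormallyUnramified.one_tmul_sub_tmul_one_mul_elem (R := k)
        (⟨a, IntermediateField.mem_adjoin_simple_self k a⟩ : L))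
      rw [map_mul, map_zero, map_sub] at hz
      rw [mul_comm]
      exact hz
  have hker : ∀ y, m y = 0 → y ∈ J := by
    intro y hy
    have h1 : y ∈ (KaehlerDifferential.ideal k k').restrictScalars k' := hy
    rw [← KaehlerDifferential.submodule_span_range_eq_ideal] at h1
    refine (Submodule.span_le (p := J.restrictScalars k')).mpr ?_ h1
    rintro _ ⟨a, rfl⟩
    exact hgen a
  have hinj : Function.Injective ψ := by
    rw [injective_iff_map_eq_zero]
    intro z hz
    obtain ⟨y, s, rfl⟩ := IsLocalization.exists_mk'_eq T z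
    have hy : m y = 0 := by
      have := congrArg (fun w => w * m s) hz
      rwa [← hψ, ← map_mul, IsLocalization.mk'_spec, hψ, zero_mul] at this
    obtain ⟨t, ht, hty⟩ := hker y hy
    rw [IsLocalization.mk'_eq_zero_iff]
    exact ⟨⟨t, ht⟩, hty⟩
  have hsurj : Function.Surjective ψ := fun a =>
    ⟨algebraMap _ _ (a ⊗ₜ[k] (1 : k')), by rw [hψ]; simp [m]⟩
  exact ⟨T, RingEquiv.ofBijective ψ ⟨hinj, hsurj⟩, hψ⟩

end Groth.Agent.S9636
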