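import Groth.Statements.S9638
import Mathlib
-- import your own Groth.Agent.* helpers here

set_option autoImplicit false
universe u
open CAlg

namespace Groth.Agent.S9638

/-- Let R → S be a ring map with R a domain with fraction field K, and N an S-module flat over R.
Writing T for the image in S of the nonzero elements of R, so that T⁻¹S = S ⊗_R K and T⁻¹N = N ⊗_R
K, the associated primes of N over S (primes equal to the annihilator of an element) coincide with
those of T⁻¹N over S, and these are exactly the inverse images in S of the associated primes of T⁻¹N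
over T⁻¹S. -/
theorem result {R S : Type u} [CommRing R] [IsDomain R] [CommRing S] [Algebra R S] (N : Type u) [AddCommGroup N] [Module S N] [Module R N] [IsScalarTower R S N] [Module.Flat R N] :
    FlatCA.ass S N = FlatCA.ass S (LocalizedModule (Algebra.algebraMapSubmonoid S (nonZeroDivisors R)) N) ∧
      FlatCA.ass S N = Ideal.comap (algebraMap S (Localization (Algebra.algebraMapSubmonoid S (nonZeroDivisors R)))) '' FlatCA.ass (Localization (Algebra.algebraMapSubmonoid S (nonZeroDivisors R))) (LocalizedModule (Algebra.algebraMapSubmonoid S (nonZeroDivisors R)) N) := by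
  classical
  set T' := Algebra.algebraMapSubmonoid S (nonZeroDivisors R) with hT'
  set j := LocalizedModule.mkLinearMap T' N with hj
  have hreg : ∀ t ∈ T', ∀ x : N, t • x = 0 → x = 0 := by
    rintro _ ⟨r, hr, rfl⟩ x hx
    rw [algebraMap_smul] at hx
    exact Module.Flat.isSMulRegular_of_nonZeroDivisors (M := N) hr (by simpa using hx)
  have hker : ∀ x : N, j x = 0 → x = 0 := by
    intro x hx
    obtain ⟨t, ht, htx⟩ := LocalizedModule.mem_ker_mkLinearMap_iff.1 (LinearMap.mem_ker.2 hx)
    exact hreg t ht x htx
  have hann : ∀ (x : N) (t : T'), (Submodule.span S {LocalizedModule.mk x t}).annihilator = (Submodule.span S {x}).annihilator := by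
    intro x t
    ext r
    rw [Submodule.mem_annihilator_span_singleton, Submodule.mem_annihilator_span_singleton, LocalizedModule.smul'_mk]
    constructor
    · intro h
      obtain ⟨u, hu⟩ := LocalizedModule.mk_eq.1 (h.trans (LocalizedModule.zero_mk (1 : T')).symm)
      exact hreg _ u.2 _ (by simpa [Submonoid.smul_def] using hu)
    · intro h
      rw [h, LocalizedModule.zero_mk]
  have h1 : FlatCA.ass S N = FlatCA.ass S (LocalizedModule T' N) := by
    ext q
    constructor
    · rintro ⟨hq, x, rfl⟩
      exact ⟨hq, LocalizedModule.mk x 1, (hann x 1).symm⟩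
    · rintro ⟨hq, y, rfl⟩
      induction y using LocalizedModule.induction_on with
      | h x t => exact ⟨hq, x, hann x t⟩
  have hco : ∀ y : LocalizedModule T' N, Ideal.comap (algebraMap S (Localization T'))
      (Submodule.span (Localization T') {y}).annihilator = (Submodule.span S {y}).annihilator := by
    intro y
    ext r
    rw [Ideal.mem_comap, Submodule.mem_annihilator_span_singleton, Submodule.mem_annihilator_span_singleton, algebraMap_smul]
  refine ⟨h1, ?_⟩
  rw [h1]
  ext q
  constructor
  · rintro ⟨hq, y, rfl⟩
    refine ⟨(Submodule.span (Localization T') {y}).annihilator, ⟨?_, y, rfl⟩, hco y⟩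
    rw [IsLocalization.isPrime_iff_isPrime_disjoint T' (Localization T'), Ideal.under_def, hco]
    refine ⟨hq, Set.disjoint_left.2 fun t ht htq => hq.ne_top ?_⟩
    induction y using LocalizedModule.induction_on with
    | h x t' =>
      rw [hann] at htq ⊢
      rw [SetLike.mem_coe, Submodule.mem_annihilator_span_singleton] at htq
      simp [hreg t ht x htq, Submodule.annihilator_bot]
  · rintro ⟨P, ⟨hP, y, rfl⟩, rfl⟩
    exact ⟨hP.comap _, y, hco y⟩

end Groth.Agent.S9638
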