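import Groth.Statements.S9639
import Groth.Agent.GeomIrr.Alg
-- import your own Groth.Agent.* helpers here

set_option autoImplicit false
universe u
open CAlg

namespace Groth.Agent.S9639

open TensorProduct in
/-- Let k be a field and S a k-algebra such that Spec(k' ⊗_k S) is connected for every field extension
k'/k. Then every k-subalgebra of S has the same property. Here the test fields range over field
extensions in the universe of k; this is equivalent to the unrestricted notion, since an algebraic
closure of k suffices as a test. -/
theorem result {k S : Type u} [Field k] [CommRing S] [Algebra k S]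
    (hS : ∀ (k' : Type u) [Field k'] [Algebra k k'], ConnectedSpace (PrimeSpectrum (k' ⊗[k] S))) (S' : Subalgebra k S) :
    ∀ (k' : Type u) [Field k'] [Algebra k k'], ConnectedSpace (PrimeSpectrum (k' ⊗[k] S')) := by
  intro k' _ _
  have := hS k'
  let φ := Algebra.TensorProduct.map (AlgHom.id k k') S'.val
  have hinj : Function.Injective φ :=
    Groth.Agent.GeomIrr.Alg.map_right_injective S'.val Subtype.val_injective k'
  obtain ⟨x⟩ := this.toNonempty
  have hne : Nontrivial (k' ⊗[k] S') := by
    have := Groth.Agent.GeomIrr.Alg.nontrivial_of_connected (k := k) (S := S) k'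
    have : Nontrivial ↥S' := inferInstance
    exact (Algebra.TensorProduct.includeRight_injective (R := k) (A := k') (B := ↥S') (RingHom.injective _)).nontrivial
  refine { toNonempty := inferInstance, toPreconnectedSpace := preconnectedSpace_iff_clopen.2 fun s hs => ?_ }
  obtain ⟨e, he, rfl⟩ := PrimeSpectrum.isClopen_iff.1 hs
  have hc := (PrimeSpectrum.isClopen_iff.2 ⟨φ e, he.map φ, rfl⟩ :
    IsClopen (PrimeSpectrum.basicOpen (φ e) : Set (PrimeSpectrum (k' ⊗[k] S))))
  rcases (isClopen_iff.1 hc) with h | h
  · left
    have : φ e = 0 := PrimeSpectrum.basicOpen_injOn_isIdempotentElem (he.map φ) IsIdempotentElem.zero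
      (SetLike.ext' (h.trans (by simp)))
    rw [hinj (this.trans (map_zero φ).symm)]
    simp
  · right
    have : φ e = 1 := PrimeSpectrum.basicOpen_injOn_isIdempotentElem (he.map φ) IsIdempotentElem.one
      (SetLike.ext' (h.trans (by simp)))
    rw [hinj (this.trans (map_one φ).symm)]
    simp

end Groth.Agent.S9639
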