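import Mathlib
import Groth.Statements.S9641
-- import your own Groth.Agent.* helpers here

set_option autoImplicit false
universe u
open CAlg

namespace Groth.Agent.S9641

open TensorProduct in
/-- Let k be a field and R, S two k-algebras. If R ⊗_k S is not reduced then there are finitely
generated k-subalgebras R' ⊆ R and S' ⊆ S such that R' ⊗_k S' is not reduced. -/
theorem result {k R S : Type u} [Field k] [CommRing R] [CommRing S] [Algebra k R] [Algebra k S] (h : ¬ IsReduced (R ⊗[k] S)) :
    ∃ (R' : Subalgebra k R) (S' : Subalgebra k S), R'.FG ∧ S'.FG ∧ ¬ IsReduced (R' ⊗[k] S') := by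
  classical
  have key : ∀ z : R ⊗[k] S, ∃ (R' : Subalgebra k R) (S' : Subalgebra k S), R'.FG ∧ S'.FG ∧
      z ∈ (Algebra.TensorProduct.map R'.val S'.val).range := by
    intro z
    obtain ⟨t, rfl⟩ := TensorProduct.exists_finset z
    refine ⟨Algebra.adjoin k ((t.image Prod.fst : Finset R) : Set R), Algebra.adjoin k ((t.image Prod.snd : Finset S) : Set S),
      Subalgebra.fg_adjoin_finset _, Subalgebra.fg_adjoin_finset _, ?_⟩
    refine Subalgebra.sum_mem _ fun i hi => ?_
    exact ⟨⟨i.1, Algebra.subset_adjoin (Finset.mem_image_of_mem _ hi)⟩ ⊗ₜ ⟨i.2, Algebra.subset_adjoin (Finset.mem_image_of_mem _ hi)⟩, rfl⟩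
  obtain ⟨x, hx, hx0⟩ : ∃ x : R ⊗[k] S, IsNilpotent x ∧ x ≠ 0 := by
    by_contra hcon
    push Not at hcon
    exact h ⟨hcon⟩
  obtain ⟨R', S', hR', hS', y, hy⟩ := key x
  refine ⟨R', S', hR', hS', fun hred => ?_⟩
  obtain ⟨rR, hrR⟩ := LinearMap.exists_leftInverse_of_injective R'.val.toLinearMap (LinearMap.ker_eq_bot.2 Subtype.val_injective)
  obtain ⟨rS, hrS⟩ := LinearMap.exists_leftInverse_of_injective S'.val.toLinearMap (LinearMap.ker_eq_bot.2 Subtype.val_injective)
  have hinj : Function.Injective (Algebra.TensorProduct.map R'.val S'.val) := by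
    refine Function.LeftInverse.injective (g := TensorProduct.map rR rS) fun w => ?_
    induction w using TensorProduct.induction_on with
    | zero => simp
    | tmul a b =>
      rw [Algebra.TensorProduct.map_tmul, TensorProduct.map_tmul]
      exact congrArg₂ (fun u v => u ⊗ₜ[k] v) (LinearMap.congr_fun hrR a) (LinearMap.congr_fun hrS b)
    | add a b ha hb => rw [map_add, map_add, ha, hb]
  obtain ⟨m, hm⟩ := hx
  have hy' : (Algebra.TensorProduct.map R'.val S'.val) y = x := hy
  rw [← hy', ← map_pow] at hm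
  have hyn : IsNilpotent y := ⟨m, hinj (hm.trans (map_zero _).symm)⟩
  exact hx0 (by rw [← hy', hred.eq_zero y hyn, map_zero])

end Groth.Agent.S9641
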