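import Groth.Statements.S9642
import Mathlib
-- import your own Groth.Agent.* helpers here

set_option autoImplicit false
universe u
open CAlg

namespace Groth.Agent.S9642

/-- In the general form stated there: let R → S be a ring map inducing an open map Spec(S) → Spec(R),
with Spec(R) irreducible, such that for a dense set of primes p of R the fibre ring κ(p) ⊗_R S has
irreducible spectrum. Then Spec(S) is irreducible. The flat and finitely presented case is the
special case in which the map on spectra is open by fppf-openness. -/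
theorem result {R S : Type u} [CommRing R] [CommRing S] [Algebra R S]
    (hopen : IsOpenMap (PrimeSpectrum.comap (algebraMap R S))) [IrreducibleSpace (PrimeSpectrum R)]
    (D : Set (PrimeSpectrum R)) (hD : Dense D) (hfib : ∀ p ∈ D, IrreducibleSpace (PrimeSpectrum (p.asIdeal.Fiber S))) :
    IrreducibleSpace (PrimeSpectrum S) := by
  obtain ⟨p₀, hp₀⟩ := hD.nonempty
  have : Nonempty (PrimeSpectrum S) := by
    have := hfib p₀ hp₀
    exact ⟨((PrimeSpectrum.preimageHomeomorphFiber R S p₀).symm (Classical.arbitrary _)).1⟩
  refine { toNonempty := this, isPreirreducible_univ := ?_ }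
  intro U V hU hV hUne hVne
  rw [Set.univ_inter] at hUne hVne ⊢
  set f := PrimeSpectrum.comap (algebraMap R S)
  have h1 := (PreirreducibleSpace.isPreirreducible_univ (X := PrimeSpectrum R)) (f '' U) (f '' V) (hopen U hU) (hopen V hV)
    (by rw [Set.univ_inter]; exact hUne.image f) (by rw [Set.univ_inter]; exact hVne.image f)
  rw [Set.univ_inter] at h1
  obtain ⟨p, ⟨⟨x, hx, hxp⟩, ⟨y, hy, hyp⟩⟩, hpD⟩ := hD.inter_open_nonempty _ ((hopen U hU).inter (hopen V hV)) h1
  have := hfib p hpD
  let e := PrimeSpectrum.preimageHomeomorphFiber R S p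
  obtain ⟨z, -, hz1, hz2⟩ := (PreirreducibleSpace.isPreirreducible_univ (X := PrimeSpectrum (p.asIdeal.Fiber S)))
    ((fun w => (e.symm w).1) ⁻¹' U) ((fun w => (e.symm w).1) ⁻¹' V)
    (hU.preimage (continuous_subtype_val.comp e.symm.continuous))
    (hV.preimage (continuous_subtype_val.comp e.symm.continuous))
    ⟨e ⟨x, hxp⟩, trivial, by simpa using hx⟩ ⟨e ⟨y, hyp⟩, trivial, by simpa using hy⟩
  exact ⟨_, hz1, hz2⟩

end Groth.Agent.S9642
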