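import Mathlib
import Groth.Statements.S9643
-- import your own Groth.Agent.* helpers here

set_option autoImplicit false
universe u
open CAlg

namespace Groth.Agent.S9643

/-- Let R be a Noetherian ring, M a finite R-module and 0 = M_0 ⊆ M_1 ⊆ ⋯ ⊆ M_n = M a chain of
submodules whose successive quotients M_i/M_{i-1} are isomorphic to R/p_i for prime ideals p_i. Then
the primes minimal among p_1, …, p_n are exactly the primes minimal in the support of M. -/
theorem result {R : Type u} [CommRing R] [IsNoetherianRing R] (M : Type u) [AddCommGroup M] [Module R M] [Module.Finite R M]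
    {n : ℕ} (N : Fin (n + 1) → Submodule R M) (hN : Monotone N) (h0 : N 0 = ⊥) (hlast : N (Fin.last n) = ⊤)
    (p : Fin n → PrimeSpectrum R)
    (hquot : ∀ i : Fin n, Nonempty ((↥(N i.succ) ⧸ Submodule.comap (N i.succ).subtype (N i.castSucc)) ≃ₗ[R] (R ⧸ (p i).asIdeal))) :
    {q : PrimeSpectrum R | Minimal (fun x => x ∈ Set.range p) q} = {q : PrimeSpectrum R | Minimal (fun x => x ∈ Module.support R M) q} := by
  have key : ∀ k : Fin (n + 1), Module.support R (N k) = {x | ∃ i : Fin n, i.castSucc < k ∧ p i ≤ x} := by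
    intro k
    induction k using Fin.induction with
    | zero =>
      rw [h0]
      have : Module.support R (⊥ : Submodule R M) = ∅ := Module.support_eq_empty
      rw [this]
      ext x
      simp
    | succ i ih =>
      have hle : N i.castSucc ≤ N i.succ := hN (le_of_lt (Fin.castSucc_lt_succ))
      obtain ⟨e⟩ := hquot i
      rw [Module.support_of_exact (f := Submodule.inclusion hle)
          (g := (Submodule.comap (N i.succ).subtype (N i.castSucc)).mkQ) ?_ (Submodule.inclusion_injective hle)
          (Submodule.mkQ_surjective _), ih, e.support_eq, Module.support_eq_zeroLocus, Ideal.annihilator_quotient]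
      · ext x
        simp only [Set.mem_union, Set.mem_setOf_eq, PrimeSpectrum.mem_zeroLocus, SetLike.coe_subset_coe]
        constructor
        · rintro (⟨j, hj, hjx⟩ | h)
          · exact ⟨j, hj.trans Fin.castSucc_lt_succ, hjx⟩
          · exact ⟨i, Fin.castSucc_lt_succ, h⟩
        · rintro ⟨j, hj, hjx⟩
          rcases lt_or_eq_of_le (Fin.castSucc_lt_succ_iff.1 hj) with h | h
          · exact Or.inl ⟨j, h, hjx⟩
          · subst h; exact Or.inr hjx
      · rw [LinearMap.exact_iff, Submodule.ker_mkQ, Submodule.range_inclusion]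
  have hsupp : Module.support R M = {x | ∃ i : Fin n, p i ≤ x} := by
    have := key (Fin.last n)
    rw [hlast, Submodule.topEquiv.support_eq] at this
    rw [this]
    simp [Fin.castSucc_lt_last]
  ext q
  simp only [Set.mem_setOf_eq, hsupp, Minimal, Set.mem_range]
  constructor
  · rintro ⟨⟨i, rfl⟩, hmin⟩
    exact ⟨⟨i, le_rfl⟩, fun y ⟨j, hj⟩ hy => (hmin ⟨j, rfl⟩ (hj.trans hy)).trans hj⟩
  · rintro ⟨⟨i, hi⟩, hmin⟩
    have hq : p i = q := le_antisymm hi (hmin ⟨i, le_rfl⟩ hi)
    exact ⟨⟨i, hq⟩, fun y ⟨j, hj⟩ hy => hmin ⟨j, hj.le⟩ hy⟩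

end Groth.Agent.S9643
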