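import Groth.Statements.S9644
import Mathlib
-- import your own Groth.Agent.* helpers here

set_option autoImplicit false
universe u
open CAlg

namespace Groth.Agent.S9644

/-- Let R be a Noetherian ring and M a finite R-module. Among the submodules K' of M whose support is
nowhere dense inside Supp(M) there is a largest one, K. The quotient M' = M/K then satisfies
Supp(M') = Supp(M), its associated primes are pairwise incomparable (no embedded ones), and whenever
f ∈ R belongs to every embedded associated prime of M the localized map M_f → M'_f is bijective. -/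
theorem result {R : Type u} [CommRing R] [IsNoetherianRing R] (M : Type u) [AddCommGroup M] [Module R M] [Module.Finite R M] :
    ∃ K : Submodule R M,
      IsGreatest {K' : Submodule R M | ∀ U : Set (PrimeSpectrum R), IsOpen U → U ∩ Module.support R M ⊆ closure (Module.support R ↥K') → U ∩ Module.support R M = ∅} K ∧
      Module.support R (M ⧸ K) = Module.support R M ∧
      (∀ p ∈ associatedPrimes R (M ⧸ K), ∀ q ∈ associatedPrimes R (M ⧸ K), p ≤ q → p = q) ∧
      ∀ f : R, (∀ p ∈ associatedPrimes R M, ¬ Minimal (fun x => x ∈ associatedPrimes R M) p → f ∈ p) →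
        Function.Bijective (LocalizedModule.map (Submonoid.powers f) K.mkQ) := by
  classical
  set I : Ideal R := Module.annihilator R M with hI
  set P := I.minimalPrimes with hP
  have hfin : P.Finite := Ideal.finite_minimalPrimes_of_isNoetherianRing R I
  have hsupp : ∀ x : PrimeSpectrum R, x ∈ Module.support R M ↔ I ≤ x.asIdeal := fun x => Module.mem_support_iff_of_finite
  let K : Submodule R M :=
    { carrier := {m | ∀ p ∈ P, ∃ s ∉ p, s • m = 0}
      zero_mem' := fun p hp => ⟨1, fun h => hp.1.1.ne_top ((Ideal.eq_top_iff_one p).2 h), smul_zero _⟩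
      add_mem' := fun {a b} ha hb p hp => by
        obtain ⟨s, hs, hs'⟩ := ha p hp
        obtain ⟨t, ht, ht'⟩ := hb p hp
        refine ⟨s * t, fun h => (hp.1.1.mem_or_mem h).elim hs ht, ?_⟩
        rw [smul_add, mul_comm s t, mul_smul, hs', mul_comm t s, mul_smul, ht', smul_zero, smul_zero, add_zero]
      smul_mem' := fun c a ha p hp => by
        obtain ⟨s, hs, hs'⟩ := ha p hp
        exact ⟨s, hs, by rw [smul_comm, hs', smul_zero]⟩ }
  have hmin : ∀ x ∈ Module.support R M, ∃ p ∈ P, p ≤ x.asIdeal := fun x hx => by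
    obtain ⟨p, hp, hle⟩ := Ideal.exists_minimalPrimes_le ((hsupp x).1 hx)
    exact ⟨p, hp, hle⟩
  have hclosed : ∀ K' : Submodule R M, IsClosed (Module.support R ↥K') := fun K' => by
    rw [Module.support_eq_zeroLocus]; exact PrimeSpectrum.isClosed_zeroLocus _
  have hchar : ∀ K' : Submodule R M,
      (∀ U : Set (PrimeSpectrum R), IsOpen U → U ∩ Module.support R M ⊆ closure (Module.support R ↥K') → U ∩ Module.support R M = ∅) ↔
      K' ≤ K := by
    intro K'
    constructor
    · intro h m hm p hp
      by_contra hne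
      push Not at hne
      have hpK : (⟨p, hp.1.1⟩ : PrimeSpectrum R) ∈ Module.support R ↥K' :=
        Module.mem_support_iff'.2 ⟨⟨m, hm⟩, fun r hr h0 => hne r hr (congrArg Subtype.val h0)⟩
      have hex : ∀ q ∈ hfin.toFinset.erase p, ∃ g ∈ q, g ∉ p := by
        intro q hq
        obtain ⟨hqp, hq⟩ := Finset.mem_erase.1 hq
        have hq' := hfin.mem_toFinset.1 hq
        exact SetLike.not_le_iff_exists.1 fun hle => hqp (le_antisymm hle (hp.2 hq'.1 hle))
      choose! g hg hgp using hex
      set G := ∏ q ∈ hfin.toFinset.erase p, g q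
      have hG : G ∉ p := fun h => by
        obtain ⟨q, hq, hq'⟩ := (hp.1.1.prod_mem_iff).1 h
        exact hgp q hq hq'
      have := h (PrimeSpectrum.basicOpen G : Set (PrimeSpectrum R)) (PrimeSpectrum.basicOpen G).2 (by
        rintro x ⟨hxG, hxS⟩
        obtain ⟨q, hq, hqx⟩ := hmin x hxS
        refine subset_closure ?_
        rcases eq_or_ne q p with rfl | hqp
        · exact Module.mem_support_mono (show (⟨q, hp.1.1⟩ : PrimeSpectrum R) ≤ x from hqx) hpK
        · have hqe := Finset.mem_erase.2 ⟨hqp, hfin.mem_toFinset.2 hq⟩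
          exact absurd (hqx (Ideal.mem_of_dvd q (Finset.dvd_prod_of_mem g hqe) (hg q hqe))) hxG)
      exact Set.eq_empty_iff_forall_notMem.1 this ⟨p, hp.1.1⟩ ⟨hG, (hsupp _).2 hp.1.2⟩
    · intro hle U hU hsub
      refine Set.eq_empty_iff_forall_notMem.2 fun x hx => ?_
      obtain ⟨p, hp, hpx⟩ := hmin x hx.2
      have hpU : (⟨p, hp.1.1⟩ : PrimeSpectrum R) ∈ U := ((PrimeSpectrum.le_iff_specializes ⟨p, hp.1.1⟩ x).1 hpx).mem_open hU hx.1
      have hmem := hsub ⟨hpU, (hsupp _).2 hp.1.2⟩
      rw [(hclosed K').closure_eq, Module.mem_support_iff'] at hmem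
      obtain ⟨⟨m, hm⟩, hne⟩ := hmem
      obtain ⟨s, hs, hs'⟩ := hle hm p hp
      exact hne s hs (Subtype.ext hs')
  have hKs : ∀ (m : M) (q : Ideal R), q.IsPrime → q ∉ P → I ≤ q → (∀ t ∈ q, t • m ∈ K) → m ∈ K := by
    intro m q hq hqP hIq ht p hp
    obtain ⟨t, htq, htp⟩ := SetLike.not_le_iff_exists.1 fun hle : q ≤ p => hqP (le_antisymm hle (hp.2 ⟨hq, hIq⟩ hle) ▸ hp)
    obtain ⟨s, hs, hs'⟩ := ht t htq p hp
    exact ⟨s * t, fun h => (hp.1.1.mem_or_mem h).elim hs htp, by rw [mul_smul, hs']⟩
  refine ⟨K, ⟨(hchar K).2 le_rfl, fun K' hK' => (hchar K').1 hK'⟩, ?_, ?_, ?_⟩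
  · refine le_antisymm (Module.support_subset_of_surjective K.mkQ K.mkQ_surjective) fun x hx => ?_
    obtain ⟨p, hp, hpx⟩ := hmin x hx
    refine Module.mem_support_mono (show (⟨p, hp.1.1⟩ : PrimeSpectrum R) ≤ x from hpx) ?_
    obtain ⟨m, hm⟩ := Module.mem_support_iff'.1 ((hsupp ⟨p, hp.1.1⟩).2 hp.1.2)
    refine Module.mem_support_iff'.2 ⟨K.mkQ m, fun r hr h0 => ?_⟩
    rw [← map_smul, Submodule.mkQ_apply, Submodule.Quotient.mk_eq_zero] at h0
    obtain ⟨s, hs, hs'⟩ := h0 p hp
    exact hm (s * r) (fun h => (hp.1.1.mem_or_mem h).elim hs hr) (by rw [mul_smul, hs'])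
  · have hsub : ∀ q ∈ associatedPrimes R (M ⧸ K), q ∈ P := by
      intro q hq
      obtain ⟨hqp, x, hx⟩ := isAssociatedPrime_iff.1 hq
      obtain ⟨m, rfl⟩ := K.mkQ_surjective x
      by_contra hqP
      have hIq : I ≤ q := fun r hr => by
        rw [hx, Submodule.mem_colon_singleton, Submodule.mem_bot, ← map_smul, (Module.mem_annihilator.1 hr m), map_zero]
      have hmK := hKs m q hqp hqP hIq fun t ht => by
        rw [hx, Submodule.mem_colon_singleton, Submodule.mem_bot, ← map_smul, Submodule.mkQ_apply,
          Submodule.Quotient.mk_eq_zero] at ht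
        exact ht
      refine hqp.ne_top ((Ideal.eq_top_iff_one q).2 ?_)
      rw [hx, Submodule.mem_colon_singleton, one_smul, Submodule.mem_bot, Submodule.mkQ_apply, Submodule.Quotient.mk_eq_zero]
      exact hmK
    intro p hp q hq hle
    exact le_antisymm hle ((hsub q hq).2 (hsub p hp).1 hle)
  · intro f hf
    have hkill : ∀ m ∈ K, ∃ k : ℕ, f ^ k • m = 0 := by
      intro m hm
      suffices hrad : f ∈ (Module.annihilator R ↥(R ∙ m)).radical by
        obtain ⟨k, hk⟩ := hrad
        exact ⟨k, congrArg Subtype.val (Module.mem_annihilator.1 hk ⟨m, Submodule.mem_span_singleton_self m⟩)⟩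
      rw [← Ideal.sInf_minimalPrimes, Ideal.mem_sInf]
      intro q hq
      have hqM : q ∈ associatedPrimes R M :=
        associatedPrimes.subset_of_injective (f := (R ∙ m).subtype) Subtype.val_injective
          (Module.associatedPrimes.minimalPrimes_annihilator_subset_associatedPrimes R ↥(R ∙ m) hq)
      refine hf q hqM fun hmq => ?_
      have hIq : I ≤ q := le_trans (fun r hr => Module.mem_annihilator.2 fun y =>
        Subtype.ext (Module.mem_annihilator.1 hr y.1)) hq.1.2
      have := hq.1.1
      obtain ⟨p, hp, hpq⟩ := Ideal.exists_minimalPrimes_le (J := q) hIq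
      have heq : q = p := le_antisymm (hmq.2 (Module.associatedPrimes.minimalPrimes_annihilator_subset_associatedPrimes R M hp) hpq) hpq
      obtain ⟨s, hs, hs'⟩ := hm p hp
      refine hs (heq ▸ hq.1.2 (Module.mem_annihilator.2 fun y => Subtype.ext ?_))
      obtain ⟨c, hc⟩ := Submodule.mem_span_singleton.1 y.2
      simp [← hc, smul_comm s c m, hs']
    constructor
    · refine (injective_iff_map_eq_zero _).2 fun x hx => ?_
      induction x using LocalizedModule.induction_on with
      | h m s =>
        rw [LocalizedModule.map_mk, ← LocalizedModule.zero_mk s, LocalizedModule.mk_eq] at hx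
        obtain ⟨u, hu⟩ := hx
        simp only [smul_zero, ← map_smul, Submonoid.smul_def] at hu
        rw [Submodule.mkQ_apply, Submodule.Quotient.mk_eq_zero] at hu
        obtain ⟨k, hk⟩ := hkill _ hu
        rw [← LocalizedModule.zero_mk s, LocalizedModule.mk_eq]
        refine ⟨⟨f ^ k, k, rfl⟩ * u, ?_⟩
        simp only [smul_zero, Submonoid.smul_def, Submonoid.coe_mul, mul_smul]
        exact hk
    · exact LocalizedModule.map_surjective _ _ K.mkQ_surjective

end Groth.Agent.S9644
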