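import Groth.Statements.S9645
import Mathlib
-- import your own Groth.Agent.* helpers here

set_option autoImplicit false
universe u
open CAlg

namespace Groth.Agent.S9645

theorem exists_mul_integral {A B Bs : Type u} [CommRing A] [CommRing B] [CommRing Bs] [Algebra A B] [Algebra B Bs]
    [Algebra A Bs] [IsScalarTower A B Bs] (S : Submonoid A) [IsLocalization (Algebra.algebraMapSubmonoid B S) Bs]
    (b : B) (h : IsIntegral A (algebraMap B Bs b)) : ∃ t ∈ S, IsIntegral A (t • b) := by
  obtain ⟨P, hP, hP0⟩ := h
  rw [IsScalarTower.algebraMap_eq A B Bs, ← Polynomial.hom_eval₂] at hP0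
  obtain ⟨⟨_, t, ht, rfl⟩, e⟩ := (IsLocalization.map_eq_zero_iff (Algebra.algebraMapSubmonoid B S) Bs _).1 hP0
  refine ⟨t, ht, ?_⟩
  by_cases hd : 1 ≤ P.natDegree
  · refine ⟨P.scaleRoots t, (Polynomial.monic_scaleRoots_iff t).2 hP, ?_⟩
    rw [Algebra.smul_def, Polynomial.scaleRoots_eval₂_mul]
    obtain ⟨d, hd'⟩ := Nat.exists_eq_add_of_le' hd
    rw [hd', pow_succ, mul_assoc, e, mul_zero]
  · obtain rfl := Polynomial.eq_one_of_monic_natDegree_zero hP (by omega)
    rw [Polynomial.eval₂_one, mul_one] at e
    rw [Algebra.smul_def, show algebraMap A B t = 0 from e, zero_mul]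
    exact isIntegral_zero


/-- Integral closure commutes with localization. Let A → B be a ring map, S a multiplicative subset of
A, and A_S, B_S the localizations of A at S and of B at the image of S. Then an element x of B_S is
integral over A_S if and only if x·s = b for some s ∈ S and some b ∈ B integral over A (images taken
in B_S); that is, the integral closure of A_S in B_S is S⁻¹B' for B' the integral closure of A in B. -/
theorem result {A B As Bs : Type u} [CommRing A] [CommRing B] [CommRing As] [CommRing Bs] [Algebra A B] [Algebra A As] [Algebra B Bs] [Algebra As Bs] [Algebra A Bs] [IsScalarTower A B Bs] [IsScalarTower A As Bs]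
    (S : Submonoid A) [IsLocalization S As] [IsLocalization (Algebra.algebraMapSubmonoid B S) Bs] (x : Bs) :
    IsIntegral As x ↔ ∃ b : B, IsIntegral A b ∧ ∃ s ∈ S, x * algebraMap A Bs s = algebraMap B Bs b := by
  constructor
  · intro hx
    obtain ⟨⟨m, hm⟩, hmi⟩ := IsIntegral.exists_multiple_integral_of_isLocalization (R := A) (Rₘ := As) S x hx
    obtain ⟨⟨b, ⟨_, s, hs, rfl⟩⟩, e⟩ := IsLocalization.surj (Algebra.algebraMapSubmonoid B S) x
    have e' : x * algebraMap A Bs s = algebraMap B Bs b := by rw [IsScalarTower.algebraMap_apply A B Bs]; exact e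
    have hb : algebraMap B Bs (m • b) = algebraMap A Bs s * (m • x) := by
      rw [Algebra.smul_def, map_mul, ← IsScalarTower.algebraMap_apply, ← e', Algebra.smul_def]; ring
    obtain ⟨t, ht, hti⟩ := exists_mul_integral (Bs := Bs) S (m • b) (hb ▸ isIntegral_algebraMap.mul hmi)
    refine ⟨t • m • b, hti, t * m * s, mul_mem (mul_mem ht hm) hs, ?_⟩
    simp only [Algebra.smul_def, map_mul, ← IsScalarTower.algebraMap_apply, ← e']; ring
  · rintro ⟨b, hb, s, hs, e⟩
    have h1 : IsIntegral As (x * algebraMap A Bs s) := by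
      rw [e]; exact (hb.map (IsScalarTower.toAlgHom A B Bs)).tower_top
    have h2 : x = algebraMap As Bs (IsLocalization.mk' As 1 ⟨s, hs⟩) * (x * algebraMap A Bs s) := by
      rw [IsScalarTower.algebraMap_apply A As Bs s, mul_left_comm, ← map_mul,
        show IsLocalization.mk' As 1 (⟨s, hs⟩ : S) * algebraMap A As s = 1 from (IsLocalization.mk'_spec As 1 (⟨s, hs⟩ : S)).trans (map_one _), map_one, mul_one]
    rw [h2]
    exact isIntegral_algebraMap.mul h1

end Groth.Agent.S9645
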