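import Groth.Statements.S9646
import Mathlib
import Groth.Agent.S9645
-- import your own Groth.Agent.* helpers here

set_option autoImplicit false
universe u
open CAlg

namespace Groth.Agent.S9646

/-- (2) ⇒ (1): let R → S be a ring map and x ∈ S. If for every prime ideal p of R the image of x in S_p
(the localization of S at the image of R ∖ p) is integral over R_p, then x is integral over R. Here
R_p and S_p are any rings satisfying the localization universal properties. -/
theorem result {R S : Type u} [CommRing R] [CommRing S] [Algebra R S] (x : S)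
    (h : ∀ (p : Ideal R) [p.IsPrime] (Rp Sp : Type u) [CommRing Rp] [CommRing Sp] [Algebra R Rp] [Algebra S Sp] [Algebra Rp Sp] [Algebra R Sp] [IsScalarTower R S Sp] [IsScalarTower R Rp Sp] [IsLocalization.AtPrime Rp p] [IsLocalization (Algebra.algebraMapSubmonoid S p.primeCompl) Sp], IsIntegral Rp (algebraMap S Sp x)) :
    IsIntegral R x := by
  let I : Ideal R :=
    { carrier := {r | IsIntegral R (r • x)}
      zero_mem' := by simp only [Set.mem_setOf_eq, zero_smul]; exact isIntegral_zero
      add_mem' := fun {a b} (ha : IsIntegral R (a • x)) (hb : IsIntegral R (b • x)) => by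
        simp only [Set.mem_setOf_eq, add_smul]; exact ha.add hb
      smul_mem' := fun c {a} (ha : IsIntegral R (a • x)) => by
        simp only [Set.mem_setOf_eq, smul_eq_mul, mul_smul]; exact ha.smul c }
  suffices hI : I = ⊤ by
    have h1 : IsIntegral R ((1 : R) • x) := (hI ▸ Submodule.mem_top : (1 : R) ∈ I)
    rwa [one_smul] at h1
  by_contra hne
  obtain ⟨M, hM, hIM⟩ := Ideal.exists_le_maximal I hne
  have : M.IsPrime := hM.isPrime
  let Rp := Localization.AtPrime M
  let Sp := Localization (Algebra.algebraMapSubmonoid S M.primeCompl)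
  have hi := h M Rp Sp
  obtain ⟨⟨m, hm⟩, hmi⟩ := IsIntegral.exists_multiple_integral_of_isLocalization (R := R) (Rₘ := Rp) M.primeCompl _ hi
  rw [Submonoid.smul_def, Algebra.smul_def, IsScalarTower.algebraMap_apply R S Sp, ← map_mul] at hmi
  obtain ⟨t, ht, hti⟩ := Groth.Agent.S9645.exists_mul_integral (Bs := Sp) M.primeCompl _ hmi
  rw [← Algebra.smul_def, smul_smul] at hti
  exact (mul_mem ht hm : t * m ∈ M.primeCompl) (hIM hti)

end Groth.Agent.S9646
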