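import Groth.Statements.S9669
import Mathlib
import Groth.Agent.FibKer.Basic
-- import your own Groth.Agent.* helpers here

set_option autoImplicit false
set_option backward.isDefEq.respectTransparency.types false
universe u
open CAlg

namespace Groth.Agent.S9669

open TensorProduct in
lemma mem_of_smul_mem {R S : Type u} [CommRing R] [CommRing S] [Algebra R S] (N : Type u) [AddCommGroup N]
    [Module S N] [Module R N] [IsScalarTower R S N] [Module.Flat R N] (p : Ideal R) [p.IsPrime]
    {r : R} (hr : r ∉ p) {n : N}
    (h : r • n ∈ (p.map (algebraMap R S)) • (⊤ : Submodule S N)) :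
    n ∈ (p.map (algebraMap R S)) • (⊤ : Submodule S N) := by
  have hrest : ((p.map (algebraMap R S)) • (⊤ : Submodule S N)).restrictScalars R
      = p • (⊤ : Submodule R N) := by
    rw [Ideal.smul_restrictScalars, Submodule.restrictScalars_top]
  have h' : r • n ∈ p • (⊤ : Submodule R N) := hrest ▸ h
  suffices n ∈ p • (⊤ : Submodule R N) by rw [← hrest] at this; exact this
  let m : (R ⧸ p) →ₗ[R] (R ⧸ p) := r • LinearMap.id
  have hm : Function.Injective m := by
    rw [injective_iff_map_eq_zero]
    intro x hx
    obtain ⟨x, rfl⟩ := Ideal.Quotient.mk_surjective x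
    have h1 : Ideal.Quotient.mk p (r * x) = 0 := hx
    rw [Ideal.Quotient.eq_zero_iff_mem] at h1 ⊢
    exact ((inferInstance : p.IsPrime).mem_or_mem h1).resolve_left hr
  have hinj := Module.Flat.rTensor_preserves_injective_linearMap (M := N) m hm
  have h0 : (Ideal.Quotient.mk p 1) ⊗ₜ[R] n = (0 : (R ⧸ p) ⊗[R] N) := by
    apply hinj
    rw [map_zero, LinearMap.rTensor_tmul]
    simp only [m, LinearMap.smul_apply, LinearMap.id_apply]
    rw [TensorProduct.smul_tmul]
    apply (TensorProduct.quotTensorEquivQuotSMul N p).injective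
    erw [TensorProduct.quotTensorEquivQuotSMul_mk_tmul, one_smul, map_zero]
    exact (Submodule.Quotient.mk_eq_zero _).mpr h'
  have h2 := congr_arg (TensorProduct.quotTensorEquivQuotSMul N p) h0
  erw [TensorProduct.quotTensorEquivQuotSMul_mk_tmul, one_smul, map_zero] at h2
  exact (Submodule.Quotient.mk_eq_zero _).mp h2

/-- Part (4): (A = A_fin = A'_fin): let R → S be a ring map, N an S-module flat over R and p a prime of
R; an associated prime of a module is a prime ideal equal to the annihilator of some element. Then
the set of associated primes of the S-module N/pN equals the set of associated primes of the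
S-module N ⊗_R κ(p) (the fibre module over p, an S-module by restriction of scalars), and every
prime in this set lies over p. -/
theorem result {R S : Type u} [CommRing R] [CommRing S] [Algebra R S] (N : Type u) [AddCommGroup N] [Module S N] [Module R N] [IsScalarTower R S N] [Module.Flat R N] (p : Ideal R) [p.IsPrime] :
    FlatCA.ass S (N ⧸ (p.map (algebraMap R S)) • (⊤ : Submodule S N)) = FlatCA.ass S (FlatCA.fiberMod p S N) ∧
      ∀ q ∈ FlatCA.ass S (N ⧸ (p.map (algebraMap R S)) • (⊤ : Submodule S N)), q.comap (algebraMap R S) = p := by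
  have hcomap : ∀ q ∈ FlatCA.ass S (N ⧸ (p.map (algebraMap R S)) • (⊤ : Submodule S N)),
      q.comap (algebraMap R S) = p := by
    rintro q ⟨hq, x, hx⟩
    obtain ⟨n, rfl⟩ := Submodule.Quotient.mk_surjective _ x
    refine le_antisymm (fun r hr => ?_) (fun r hr => ?_)
    · by_contra hrp
      rw [Ideal.mem_comap, hx, Submodule.mem_annihilator_span_singleton,
        ← Submodule.Quotient.mk_smul, Submodule.Quotient.mk_eq_zero,
        IsScalarTower.algebraMap_smul] at hr
      have hn := mem_of_smul_mem N p hrp hr
      apply hq.ne_top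
      rw [hx, (Submodule.Quotient.mk_eq_zero _).mpr hn]
      simp [Submodule.annihilator_bot]
    · rw [Ideal.mem_comap, hx, Submodule.mem_annihilator_span_singleton,
        ← Submodule.Quotient.mk_smul, Submodule.Quotient.mk_eq_zero]
      exact Submodule.smul_mem_smul (Ideal.mem_map_of_mem _ hr) trivial
  have hzero : ∀ n : N, FlatCA.toFiberMod p S N n = 0 ↔
      n ∈ (p.map (algebraMap R S)) • (⊤ : Submodule S N) := by
    intro n
    refine ⟨fun h => ?_, Groth.FibKer.toFiberMod_eq_zero_of_mem p N⟩
    obtain ⟨r, hr, h'⟩ := Groth.FibKer.exists_smul_mem p N h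
    exact mem_of_smul_mem N p hr h'
  letI := Algebra.TensorProduct.rightAlgebra (R := R) (A := p.ResidueField) (B := S)
  have hcancel : ∀ (r : R), r ∉ p → ∀ y : FlatCA.fiberMod p S N,
      algebraMap R S r • y = 0 → y = 0 := by
    intro r hr y hy
    have hu : IsUnit (algebraMap R (p.Fiber S) r) := by
      rw [IsScalarTower.algebraMap_apply R p.ResidueField (p.Fiber S)]
      refine (IsUnit.mk0 _ ?_).map _
      rwa [Ne, Ideal.algebraMap_residueField_eq_zero]
    have e2 : algebraMap R S r • y = algebraMap R (p.Fiber S) r • y := by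
      rw [IsScalarTower.algebraMap_apply R S (p.Fiber S)]
      exact (algebraMap_smul (p.Fiber S) (M := TensorProduct S (p.Fiber S) N) _ y).symm
    rw [e2] at hy
    exact hu.smul_eq_zero.mp hy
  refine ⟨Set.ext fun q => ⟨?_, ?_⟩, hcomap⟩
  · rintro ⟨hq, x, hx⟩
    obtain ⟨n, rfl⟩ := Submodule.Quotient.mk_surjective _ x
    refine ⟨hq, FlatCA.toFiberMod p S N n, ?_⟩
    rw [hx]
    ext s
    simp only [Submodule.mem_annihilator_span_singleton, ← map_smul, ← Submodule.Quotient.mk_smul,
      Submodule.Quotient.mk_eq_zero, hzero]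
  · rintro ⟨hq, x, hx⟩
    obtain ⟨r, hr, n, hn⟩ := Groth.FibKer.exists_smul_eq p N x
    refine ⟨hq, Submodule.Quotient.mk n, ?_⟩
    ext s
    rw [Submodule.mem_annihilator_span_singleton, ← Submodule.Quotient.mk_smul,
      Submodule.Quotient.mk_eq_zero, ← hzero, map_smul, ← hn, smul_comm, hx,
      Submodule.mem_annihilator_span_singleton]
    exact ⟨fun h => by rw [h, smul_zero], hcancel r hr _⟩

end Groth.Agent.S9669
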