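import Groth.Statements.S9648
import Mathlib
import Groth.Agent.S9669
-- import your own Groth.Agent.* helpers here

set_option autoImplicit false
set_option backward.isDefEq.respectTransparency.types false
universe u
open CAlg

namespace Groth.Agent.S9648

open TensorProduct in
/-- The inclusion, valid for any ring R: let R → S be a ring map, M an R-module and N an S-module which
is flat over R. For an associated prime p of M (a prime equal to the annihilator of an element) and
an associated prime Q of the fibre module N ⊗_R κ(p) over the fibre ring S ⊗_R κ(p), the inverse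
image of Q in S is an associated prime of N ⊗_R M. -/
theorem result {R S : Type u} [CommRing R] [CommRing S] [Algebra R S] (M : Type u) [AddCommGroup M] [Module R M] (N : Type u) [AddCommGroup N] [Module S N] [Module R N] [IsScalarTower R S N] [Module.Flat R N]
    (p : Ideal R) [p.IsPrime] (hp : p ∈ FlatCA.ass R M) (Q : Ideal (p.Fiber S)) (hQ : Q ∈ FlatCA.ass (p.Fiber S) (FlatCA.fiberMod p S N)) :
    Q.comap (Algebra.TensorProduct.includeRight (R := R) (A := p.ResidueField) (B := S)).toRingHom ∈ FlatCA.ass S (N ⊗[R] M) := by
  obtain ⟨-, m, hm⟩ := hp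
  obtain ⟨hQp, x, hx⟩ := hQ
  letI := Algebra.TensorProduct.rightAlgebra (R := R) (A := p.ResidueField) (B := S)
  set i : S →+* p.Fiber S :=
    (Algebra.TensorProduct.includeRight (R := R) (A := p.ResidueField) (B := S)).toRingHom
  have hsmul : ∀ (s : S) (x : FlatCA.fiberMod p S N), s • x = i s • x := by
    intro s x
    exact (algebraMap_smul (p.Fiber S) (M := TensorProduct S (p.Fiber S) N) s x).symm
  have hq : Q.comap i ∈ FlatCA.ass S (FlatCA.fiberMod p S N) := ⟨hQp.comap i, x, by
    ext s; simp only [hx, Ideal.mem_comap, Submodule.mem_annihilator_span_singleton, hsmul]⟩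
  rw [← (Groth.Agent.S9669.result N p).1] at hq
  obtain ⟨hqp, y, hy⟩ := hq
  obtain ⟨n, rfl⟩ := Submodule.Quotient.mk_surjective _ y
  refine ⟨hqp, n ⊗ₜ m, ?_⟩
  rw [hy]
  ext s
  simp only [Submodule.mem_annihilator_span_singleton, ← Submodule.Quotient.mk_smul,
    Submodule.Quotient.mk_eq_zero, TensorProduct.smul_tmul']
  let j : (R ⧸ p) →ₗ[R] M := Submodule.liftQ p (LinearMap.toSpanSingleton R M m) (fun r hr => by
    rw [LinearMap.mem_ker, LinearMap.toSpanSingleton_apply, ← Submodule.mem_annihilator_span_singleton, ← hm]
    exact hr)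
  have hj : Function.Injective j := by
    rw [injective_iff_map_eq_zero]
    intro z hz
    obtain ⟨r, rfl⟩ := Submodule.Quotient.mk_surjective _ z
    rw [Submodule.Quotient.mk_eq_zero, hm, Submodule.mem_annihilator_span_singleton]
    exact hz
  have hinj := Module.Flat.lTensor_preserves_injective_linearMap (M := N) j hj
  have hj1 : j (Ideal.Quotient.mk p 1) = m := one_smul R m
  have hrest : ((p.map (algebraMap R S)) • (⊤ : Submodule S N)).restrictScalars R
      = p • (⊤ : Submodule R N) := by
    rw [Ideal.smul_restrictScalars, Submodule.restrictScalars_top]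
  rw [← Submodule.restrictScalars_mem R, hrest, ← Submodule.Quotient.mk_eq_zero, ← hj1]
  rw [← LinearMap.lTensor_tmul, map_eq_zero_iff _ hinj]
  rw [← (TensorProduct.tensorQuotEquivQuotSMul N p).map_eq_zero_iff
    (x := (s • n) ⊗ₜ[R] Ideal.Quotient.mk p 1)]
  erw [TensorProduct.tensorQuotEquivQuotSMul_tmul_mk, one_smul]

end Groth.Agent.S9648
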