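import Groth.Statements.S9649
import Groth.Agent.EGA41Lib.Separable
-- import your own Groth.Agent.* helpers here

set_option autoImplicit false
universe u
open CAlg

namespace Groth.Agent.S9649

/-- A separably generated field extension is separable. Precisely: let K/k be a field extension
admitting a transcendence basis x over whose generated subfield k(x) the field K is separable
algebraic; then every finitely generated subextension K' of K/k also admits such a transcendence
basis. -/
theorem result {k K : Type u} [Field k] [Field K] [Algebra k K]
    (h : ∃ (ι : Type u) (x : ι → K), IsTranscendenceBasis k x ∧ Algebra.IsSeparable (IntermediateField.adjoin k (Set.range x)) K)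
    (K' : IntermediateField k K) (hK' : ∃ s : Finset K, IntermediateField.adjoin k (s : Set K) = K') :
    ∃ (ι : Type u) (x : ι → K'), IsTranscendenceBasis k x ∧ Algebra.IsSeparable (IntermediateField.adjoin k (Set.range x)) K' := by
  obtain ⟨ι, x, hx, hsep⟩ := h
  have : Algebra.IsGeometricallyReduced k K := by
    rw [Algebra.isGeometricallyReduced_field_iff]
    have := Groth.Agent.EGA41Lib.isReduced_tensor_of_isSeparable_adjoin hx.1 (AlgebraicClosure k)
    exact isReduced_of_injective (Algebra.TensorProduct.comm k (AlgebraicClosure k) K)
      (AlgEquiv.injective _)
  have : Algebra.IsGeometricallyReduced k K' :=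
    Algebra.IsGeometricallyReduced.of_injective K'.val Subtype.val_injective
  obtain ⟨s, hs⟩ := hK'
  have : Algebra.EssFiniteType k K' :=
    IntermediateField.essFiniteType_iff.2 (hs ▸ IntermediateField.fg_adjoin_finset s)
  obtain ⟨p, hchar⟩ := CharP.exists k
  have key : ∃ t : Finset K', IsTranscendenceBasis k ((↑) : t → K') ∧
      Algebra.IsSeparable (IntermediateField.adjoin k (t : Set K')) K' := by
    rcases CharP.char_is_prime_or_zero k p with hp | rfl
    · have : Fact p.Prime := ⟨hp⟩
      exact exists_isTranscendenceBasis_and_isSeparable_of_linearIndepOn_pow_of_essFiniteType p hp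
        fun s hs => Groth.Agent.EGA41Lib.frobLI_of_isGeometricallyReduced (p := p) _ hs
    · have : CharZero k := CharP.charP_to_charZero k
      exact exists_isTranscendenceBasis_and_isSeparable_of_perfectField k K'
  obtain ⟨t, ht, hsep'⟩ := key
  refine ⟨↥t, ((↑) : t → K'), ht, ?_⟩
  rw [show Set.range ((↑) : t → K') = (t : Set K') from Subtype.range_coe]
  exact hsep'

end Groth.Agent.S9649
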