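import Mathlib
import Groth.Statements.S9650
-- import your own Groth.Agent.* helpers here

set_option autoImplicit false
universe u
open CAlg

namespace Groth.Agent.S9650

/-- Let K/k be a finitely generated field extension that is separably generated, i.e. admits a
transcendence basis over whose generated subfield K is separable algebraic. Then K is generated over
k by finitely many elements x_1, …, x_r, y such that the x_i form a transcendence basis of K/k and y
is separable over the subfield k(x_1, …, x_r). -/
theorem result {k K : Type u} [Field k] [Field K] [Algebra k K]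
    (hfg : ∃ s : Finset K, IntermediateField.adjoin k (s : Set K) = ⊤)
    (hsep : ∃ (ι : Type u) (x : ι → K), IsTranscendenceBasis k x ∧ Algebra.IsSeparable (IntermediateField.adjoin k (Set.range x)) K) :
    ∃ (r : ℕ) (x : Fin r → K) (y : K), IsTranscendenceBasis k x ∧ IntermediateField.adjoin k (insert y (Set.range x)) = ⊤ ∧ IsSeparable (IntermediateField.adjoin k (Set.range x)) y := by
  obtain ⟨s, hs⟩ := hfg
  obtain ⟨ι, x, hx, hsepx⟩ := hsep
  have halg : Algebra.IsAlgebraic (Algebra.adjoin k (s : Set K)) K := by
    rw [← IntermediateField.isAlgebraic_adjoin_iff_top]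
    refine ⟨fun y => ?_⟩
    exact isAlgebraic_algebraMap (⟨y, hs ▸ IntermediateField.mem_top⟩ : IntermediateField.adjoin k (s : Set K))
  obtain ⟨t, hts, ht⟩ := exists_isTranscendenceBasis_subset (R := k) (s : Set K)
  have : Finite t := (s.finite_toSet.subset hts).to_subtype
  have : Finite ι := by
    have h := hx.cardinalMk_eq ht
    rw [← Cardinal.lt_aleph0_iff_finite, h]
    exact Cardinal.mk_lt_aleph0
  obtain ⟨r, ⟨e⟩⟩ := Finite.exists_equiv_fin ι
  let F := IntermediateField.adjoin k (Set.range x)
  have hrange : Set.range (x ∘ e.symm) = Set.range x := e.symm.surjective.range_comp x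
  have hFs : IntermediateField.adjoin F (s : Set K) = ⊤ := by
    rw [eq_top_iff]
    intro y _
    have : IntermediateField.adjoin k (s : Set K) ≤ (IntermediateField.adjoin F (s : Set K)).restrictScalars k :=
      IntermediateField.adjoin_le_iff.2 (IntermediateField.subset_adjoin F (s : Set K))
    exact this (hs ▸ IntermediateField.mem_top)
  have : FiniteDimensional F K := by
    have : FiniteDimensional F (IntermediateField.adjoin F (s : Set K)) :=
      IntermediateField.finiteDimensional_adjoin fun y _ => Algebra.IsIntegral.isIntegral y
    rw [hFs] at this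
    exact IntermediateField.topEquiv.toLinearEquiv.finiteDimensional
  obtain ⟨y, hy⟩ := Field.exists_primitive_element F K
  refine ⟨r, x ∘ e.symm, y, hx.comp_equiv e.symm, ?_, ?_⟩
  · rw [hrange, Set.insert_eq, Set.union_comm, ← IntermediateField.adjoin_adjoin_left]
    change (IntermediateField.adjoin F {y}).restrictScalars k = ⊤
    rw [hy, IntermediateField.restrictScalars_top]
  · rw [hrange]
    exact Algebra.IsSeparable.isSeparable F y

end Groth.Agent.S9650
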