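import Groth.Statements.S9651
import Groth.Agent.GenFree.Package
-- import your own Groth.Agent.* helpers here

set_option autoImplicit false
universe u
open CAlg

open scoped TensorProduct

namespace Groth.Agent.S9651

/-- Let R → S be a ring map of finite type, f : Spec(S) → Spec(R) the induced map and E ⊆ Spec(S) a
constructible subset. If ξ ∈ f(E) then f(E) ∩ cl{ξ} contains an open dense subset of the closure
cl{ξ}: some open U of Spec(R) has U ∩ cl{ξ} dense in cl{ξ} and contained in f(E). -/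
theorem result {R S : Type u} [CommRing R] [CommRing S] [Algebra R S] [Algebra.FiniteType R S]
    (E : Set (PrimeSpectrum S)) (hE : Topology.IsConstructible E) (ξ : PrimeSpectrum R) (hξ : ξ ∈ PrimeSpectrum.comap (algebraMap R S) '' E) :
    ∃ U : Set (PrimeSpectrum R), IsOpen U ∧ closure ({ξ} : Set (PrimeSpectrum R)) ⊆ closure (U ∩ closure {ξ}) ∧ U ∩ closure {ξ} ⊆ PrimeSpectrum.comap (algebraMap R S) '' E := by
  obtain ⟨q, hqE, rfl⟩ := hξ
  let p : Ideal R := q.asIdeal.comap (algebraMap R S)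
  haveI : Algebra.FiniteType (R ⧸ p) ((R ⧸ p) ⊗[R] S) := inferInstance
  obtain ⟨a, ha, -, hfp⟩ := GenFree.exists_algebra_freeAt (R ⧸ p) ((R ⧸ p) ⊗[R] S)
  let L := Localization.Away a
  let T := L ⊗[R ⧸ p] ((R ⧸ p) ⊗[R] S)
  letI : CommRing T := inferInstanceAs (CommRing (L ⊗[R ⧸ p] ((R ⧸ p) ⊗[R] S)))
  letI : Algebra L T := inferInstanceAs (Algebra L (L ⊗[R ⧸ p] ((R ⧸ p) ⊗[R] S)))
  haveI : Algebra.FinitePresentation L T := hfp a dvd_rfl
  let ι : S →+* T := (Algebra.TensorProduct.includeRight (R := R ⧸ p) (A := L)).toRingHom.comp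
    (Algebra.TensorProduct.includeRight (R := R) (A := R ⧸ p) (B := S)).toRingHom
  let e : R →+* L := (algebraMap (R ⧸ p) L).comp (Ideal.Quotient.mk p)
  have hsq : ∀ r : R, ι (algebraMap R S r) = algebraMap L T (e r) := by
    intro r
    show (1 : L) ⊗ₜ[R ⧸ p] ((1 : R ⧸ p) ⊗ₜ[R] algebraMap R S r) = (algebraMap (R ⧸ p) L (Ideal.Quotient.mk p r)) ⊗ₜ[R ⧸ p] (1 : (R ⧸ p) ⊗[R] S)
    have h1 : (1 : R ⧸ p) ⊗ₜ[R] algebraMap R S r = Ideal.Quotient.mk p r • (1 : (R ⧸ p) ⊗[R] S) := by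
      rw [Algebra.TensorProduct.one_def, TensorProduct.smul_tmul', Algebra.algebraMap_eq_smul_one, ← TensorProduct.smul_tmul]
      congr 1
    rw [h1, ← TensorProduct.smul_tmul, Algebra.algebraMap_eq_smul_one]
  have hE' : Topology.IsConstructible (PrimeSpectrum.comap ι ⁻¹' E) := by
    refine hE.preimage (PrimeSpectrum.continuous_comap ι) fun s hs hsr => ?_
    obtain ⟨I, hI, rfl⟩ := PrimeSpectrum.isCompact_isOpen_iff_ideal.mp ⟨hsr.isCompact, hs⟩
    have h2 := PrimeSpectrum.isCompact_isOpen_iff_ideal.mpr ⟨I.map ι, hI.map ι, rfl⟩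
    have h3 : PrimeSpectrum.comap ι ⁻¹' (PrimeSpectrum.zeroLocus (I : Set S))ᶜ = (PrimeSpectrum.zeroLocus (I.map ι : Set T))ᶜ := by
      rw [Set.preimage_compl, PrimeSpectrum.preimage_comap_zeroLocus, Ideal.map, PrimeSpectrum.zeroLocus_span]
    rw [h3]
    exact h2.1.isRetrocompact h2.2
  have hC := PrimeSpectrum.isConstructible_comap_image (f := algebraMap L T) (RingHom.finitePresentation_algebraMap.mpr inferInstance) hE'
  haveI : IsDomain L := IsLocalization.isDomain_localization (powers_le_nonZeroDivisors_of_noZeroDivisors ha)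
  have key : ∀ C : Set (PrimeSpectrum L), Topology.IsConstructible C →
      ∃ c : L, c ≠ 0 ∧ ((PrimeSpectrum.basicOpen c : Set (PrimeSpectrum L)) ⊆ C ∨ (PrimeSpectrum.basicOpen c : Set (PrimeSpectrum L)) ⊆ Cᶜ) := by
    intro C hC
    induction hC using Topology.IsConstructible.empty_union_induction with
    | open_retrocompact U hU _ =>
      by_cases hne : U.Nonempty
      · obtain ⟨x, hx⟩ := hne
        obtain ⟨_, ⟨c, rfl⟩, hxc, hcU⟩ := PrimeSpectrum.isTopologicalBasis_basic_opens.exists_subset_of_mem_open hx hU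
        exact ⟨c, fun h0 => hxc (h0 ▸ Ideal.zero_mem _), Or.inl hcU⟩
      · exact ⟨1, one_ne_zero, Or.inr fun x _ hx => hne ⟨x, hx⟩⟩
    | union s hs t ht hs' ht' =>
      obtain ⟨c, hc, hcs⟩ := hs'
      obtain ⟨d, hd, hdt⟩ := ht'
      refine ⟨c * d, mul_ne_zero hc hd, ?_⟩
      have h1 : (PrimeSpectrum.basicOpen (c * d) : Set (PrimeSpectrum L)) ⊆ PrimeSpectrum.basicOpen c := PrimeSpectrum.basicOpen_mul_le_left c d
      have h2 : (PrimeSpectrum.basicOpen (c * d) : Set (PrimeSpectrum L)) ⊆ PrimeSpectrum.basicOpen d := PrimeSpectrum.basicOpen_mul_le_right c d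
      rcases hcs with h | h
      · exact Or.inl fun x hx => Or.inl (h (h1 hx))
      · rcases hdt with h' | h'
        · exact Or.inl fun x hx => Or.inr (h' (h2 hx))
        · exact Or.inr fun x hx hxu => hxu.elim (h (h1 hx)) (h' (h2 hx))
    | compl s hs hs' =>
      obtain ⟨c, hc, hcs⟩ := hs'
      exact ⟨c, hc, by rw [compl_compl]; exact hcs.symm⟩
  obtain ⟨c, hc, hcC⟩ := key _ hC
  -- the generic point of `Spec L` is hit
  let K := q.asIdeal.ResidueField
  let g : R ⧸ p →+* K := Ideal.Quotient.lift p ((algebraMap S K).comp (algebraMap R S)) fun r hr => (Ideal.algebraMap_residueField_eq_zero (I := q.asIdeal)).mpr hr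
  have hga : IsUnit (g a) := by
    obtain ⟨r, rfl⟩ := Ideal.Quotient.mk_surjective a
    refine isUnit_iff_ne_zero.mpr fun h0 => ha (Ideal.Quotient.eq_zero_iff_mem.mpr ?_)
    exact (Ideal.algebraMap_residueField_eq_zero (I := q.asIdeal)).mp h0
  letI : Algebra (R ⧸ p) K := g.toAlgebra
  haveI : IsScalarTower R (R ⧸ p) K := IsScalarTower.of_algebraMap_eq fun r => rfl
  let gL : L →ₐ[R ⧸ p] K := IsLocalization.Away.liftAlgHom (f := Algebra.ofId (R ⧸ p) K) a hga
  let gS : (R ⧸ p) ⊗[R] S →ₐ[R ⧸ p] K := Algebra.TensorProduct.lift (Algebra.ofId _ _) (IsScalarTower.toAlgHom R S K) fun _ _ => .all _ _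
  let gT : T →ₐ[R ⧸ p] K := Algebra.TensorProduct.lift gL gS fun _ _ => .all _ _
  let Q : PrimeSpectrum T := ⟨RingHom.ker gT.toRingHom, RingHom.ker_isPrime _⟩
  have hQ : PrimeSpectrum.comap ι Q = q := by
    ext s
    show gT ((1 : L) ⊗ₜ[R ⧸ p] ((1 : R ⧸ p) ⊗ₜ[R] s)) = 0 ↔ _
    rw [Algebra.TensorProduct.lift_tmul, map_one, one_mul, Algebra.TensorProduct.lift_tmul, map_one, one_mul]
    exact Ideal.algebraMap_residueField_eq_zero
  have hbot : ∀ l : L, l ∈ (PrimeSpectrum.comap (algebraMap L T) Q).asIdeal → l = 0 := by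
    intro l hl
    obtain ⟨r, ⟨_, n, rfl⟩, rfl⟩ := IsLocalization.exists_mk'_eq (Submonoid.powers a) l
    have h0 : gT ((IsLocalization.mk' L r (⟨a ^ n, n, rfl⟩ : Submonoid.powers a)) ⊗ₜ[R ⧸ p] (1 : (R ⧸ p) ⊗[R] S)) = 0 := hl
    rw [Algebra.TensorProduct.lift_tmul, map_one, mul_one] at h0
    have h1 := congrArg (· * gL (algebraMap (R ⧸ p) L (a ^ n))) h0
    simp only [zero_mul] at h1
    rw [← map_mul, IsLocalization.mk'_spec, AlgHom.commutes] at h1
    obtain ⟨r', rfl⟩ := Ideal.Quotient.mk_surjective r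
    rw [Ideal.Quotient.eq_zero_iff_mem.mpr (show r' ∈ p from (Ideal.algebraMap_residueField_eq_zero (I := q.asIdeal)).mp h1)]
    exact IsLocalization.mk'_zero _
  rcases hcC with hcC | hcC
  swap
  · exact absurd (hcC (show PrimeSpectrum.comap (algebraMap L T) Q ∈ PrimeSpectrum.basicOpen c from fun h => hc (hbot c h)))
      (not_not_intro ⟨Q, show PrimeSpectrum.comap ι Q ∈ E from hQ ▸ hqE, rfl⟩)
  obtain ⟨c₀, ⟨_, m, rfl⟩, rfl⟩ := IsLocalization.exists_mk'_eq (Submonoid.powers a) c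
  obtain ⟨c', rfl⟩ := Ideal.Quotient.mk_surjective c₀
  obtain ⟨a', rfl⟩ := Ideal.Quotient.mk_surjective a
  refine ⟨PrimeSpectrum.basicOpen (a' * c'), (PrimeSpectrum.basicOpen (a' * c')).2, ?_, ?_⟩
  · refine closure_minimal (Set.singleton_subset_iff.mpr (subset_closure ⟨?_, subset_closure rfl⟩)) isClosed_closure
    intro h
    rcases q.2.mem_or_mem ((map_mul (algebraMap R S) a' c' ▸ h : algebraMap R S a' * algebraMap R S c' ∈ q.asIdeal)) with h | h
    · exact ha (Ideal.Quotient.eq_zero_iff_mem.mpr h)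
    · exact hc (by rw [Ideal.Quotient.eq_zero_iff_mem.mpr (show c' ∈ p from h)]; exact IsLocalization.mk'_zero _)
  rintro P ⟨hPb, hPcl⟩
  rw [← specializes_iff_mem_closure, ← PrimeSpectrum.le_iff_specializes] at hPcl
  have hPa : a' ∉ P.asIdeal := fun h => hPb (Ideal.mul_mem_right _ _ h)
  have hPc : c' ∉ P.asIdeal := fun h => hPb (Ideal.mul_mem_left _ _ h)
  let gP : R ⧸ p →+* P.asIdeal.ResidueField := Ideal.Quotient.lift p (algebraMap R _) fun r hr => Ideal.algebraMap_residueField_eq_zero.mpr (hPcl hr)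
  have hgPa : IsUnit (gP (Ideal.Quotient.mk p a')) := isUnit_iff_ne_zero.mpr fun h => hPa (Ideal.algebraMap_residueField_eq_zero.mp h)
  let gPL : L →+* P.asIdeal.ResidueField := IsLocalization.Away.lift (Ideal.Quotient.mk p a') hgPa
  let P' : PrimeSpectrum L := ⟨RingHom.ker gPL, RingHom.ker_isPrime _⟩
  have hP' : P' ∈ PrimeSpectrum.basicOpen (IsLocalization.mk' L (Ideal.Quotient.mk p c') (⟨Ideal.Quotient.mk p a' ^ m, m, rfl⟩ : Submonoid.powers (Ideal.Quotient.mk p a'))) := by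
    intro h
    have h1 := congrArg (· * gPL (algebraMap (R ⧸ p) L (Ideal.Quotient.mk p a' ^ m))) (h : gPL _ = 0)
    simp only [zero_mul] at h1
    rw [← map_mul, IsLocalization.mk'_spec, IsLocalization.Away.lift_eq] at h1
    exact hPc (Ideal.algebraMap_residueField_eq_zero.mp h1)
  obtain ⟨W, hWE, hW⟩ := hcC hP'
  refine ⟨PrimeSpectrum.comap ι W, hWE, ?_⟩
  ext r
  show ι (algebraMap R S r) ∈ W.asIdeal ↔ _
  rw [hsq]
  show e r ∈ (PrimeSpectrum.comap (algebraMap L T) W).asIdeal ↔ _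
  rw [hW]
  show gPL (algebraMap (R ⧸ p) L (Ideal.Quotient.mk p r)) = 0 ↔ _
  rw [IsLocalization.Away.lift_eq]
  exact Ideal.algebraMap_residueField_eq_zero

end Groth.Agent.S9651
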