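import Groth.Statements.S9652
import Groth.Agent.JacConstr.Basic
set_option linter.unusedVariables false

set_option autoImplicit false
universe u
open CAlg

namespace Groth.Agent.S9652

/-- Let R and S be Jacobson rings, R → S a ring map of finite type with induced map f : Spec(S) →
Spec(R), and E ⊆ Spec(S) a constructible subset. Writing T₀ for the set of points of a subspace T
which are closed in T, one has f(E)₀ = f(E₀) = (Spec R)₀ ∩ f(E). -/
theorem result {R S : Type u} [CommRing R] [CommRing S] [Algebra R S] [IsJacobsonRing R] [IsJacobsonRing S] [Algebra.FiniteType R S]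
    (E : Set (PrimeSpectrum S)) (hE : Topology.IsConstructible E) :
    {x | x ∈ PrimeSpectrum.comap (algebraMap R S) '' E ∧ closure {x} ∩ PrimeSpectrum.comap (algebraMap R S) '' E = {x}} =
        PrimeSpectrum.comap (algebraMap R S) '' {y | y ∈ E ∧ closure {y} ∩ E = {y}} ∧
      PrimeSpectrum.comap (algebraMap R S) '' {y | y ∈ E ∧ closure {y} ∩ E = {y}} =
        {x | IsClosed ({x} : Set (PrimeSpectrum R))} ∩ PrimeSpectrum.comap (algebraMap R S) '' E := by
  set f := PrimeSpectrum.comap (algebraMap R S)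
  rw [Groth.Agent.JacConstr.relClosedPoints_eq hE]
  have h1 : f '' (E ∩ closedPoints (PrimeSpectrum S)) = {x | IsClosed ({x} : Set (PrimeSpectrum R))} ∩ f '' E := by
    apply subset_antisymm
    · rintro _ ⟨y, ⟨hy, hy'⟩, rfl⟩
      exact ⟨Groth.Agent.JacConstr.isClosed_image_singleton hy', y, hy, rfl⟩
    · rintro x ⟨hx, y, hy, rfl⟩
      obtain ⟨z, ⟨hz, hzE⟩, hz'⟩ := closure_nonempty_iff.mp ⟨y, Groth.Agent.JacConstr.mem_closure_closedPoints hE hy⟩
      refine ⟨z, ⟨hzE, hz'⟩, ?_⟩
      have := image_closure_subset_closure_image (PrimeSpectrum.continuous_comap (algebraMap R S)) ⟨z, hz, rfl⟩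
      rw [Set.image_singleton, (show IsClosed ({f y} : Set (PrimeSpectrum R)) from hx).closure_eq] at this
      exact this
  refine ⟨?_, h1⟩
  ext x
  constructor
  · rintro ⟨⟨y, hy, rfl⟩, hx⟩
    obtain ⟨z, ⟨hz, hzE⟩, hz'⟩ := closure_nonempty_iff.mp ⟨y, Groth.Agent.JacConstr.mem_closure_closedPoints hE hy⟩
    refine ⟨z, ⟨hzE, hz'⟩, ?_⟩
    have := image_closure_subset_closure_image (PrimeSpectrum.continuous_comap (algebraMap R S)) ⟨z, hz, rfl⟩
    rw [Set.image_singleton] at this
    have h3 : f z ∈ closure {f y} ∩ f '' E := ⟨this, z, hzE, rfl⟩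
    rw [hx] at h3
    exact h3
  · intro hx
    rw [h1] at hx
    refine ⟨hx.2, ?_⟩
    rw [hx.1.closure_eq]
    exact Set.inter_eq_left.mpr (Set.singleton_subset_iff.mpr hx.2)

end Groth.Agent.S9652
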