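import Groth.Statements.S9653
import Groth.Agent.JacConstr.Basic
set_option linter.unusedVariables false

set_option autoImplicit false
universe u
open CAlg

namespace Groth.Agent.S9653

/-- Let R and S be Jacobson rings, R → S a ring map of finite type with induced map f : Spec(S) →
Spec(R), E ⊆ Spec(S) constructible and E₀ the set of points of E closed in E. Then a point ξ of
Spec(R) lies in f(E) if and only if cl{ξ} ∩ f(E₀) is dense in the closure cl{ξ}. -/
theorem result {R S : Type u} [CommRing R] [CommRing S] [Algebra R S] [IsJacobsonRing R] [IsJacobsonRing S] [Algebra.FiniteType R S]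
    (E : Set (PrimeSpectrum S)) (hE : Topology.IsConstructible E) (ξ : PrimeSpectrum R) :
    ξ ∈ PrimeSpectrum.comap (algebraMap R S) '' E ↔
      closure ({ξ} : Set (PrimeSpectrum R)) ⊆ closure (closure {ξ} ∩ PrimeSpectrum.comap (algebraMap R S) '' {y | y ∈ E ∧ closure {y} ∩ E = {y}}) := by
  set f := PrimeSpectrum.comap (algebraMap R S)
  rw [Groth.Agent.JacConstr.relClosedPoints_eq hE]
  constructor
  · rintro ⟨y, hy, rfl⟩
    refine closure_minimal (Set.singleton_subset_iff.mpr ?_) isClosed_closure
    refine closure_mono ?_ (image_closure_subset_closure_image (PrimeSpectrum.continuous_comap (algebraMap R S))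
      ⟨y, Groth.Agent.JacConstr.mem_closure_closedPoints hE hy, rfl⟩)
    rintro _ ⟨z, ⟨⟨hz, hzE⟩, hz'⟩, rfl⟩
    refine ⟨?_, z, ⟨hzE, hz'⟩, rfl⟩
    have := image_closure_subset_closure_image (PrimeSpectrum.continuous_comap (algebraMap R S)) ⟨z, hz, rfl⟩
    rwa [Set.image_singleton] at this
  · intro h
    refine Groth.Agent.JacConstr.mem_image_of_mem_closure hE (closure_mono ?_ (h (subset_closure rfl)))
    exact Set.inter_subset_inter_right _ (Set.image_mono Set.inter_subset_left)

end Groth.Agent.S9653
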