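import Groth.Statements.S9654
import Mathlib.Tactic.LinearCombination
import Mathlib.LinearAlgebra.Charpoly.Basic
set_option linter.unusedVariables false
set_option linter.style.haveILetI false

set_option autoImplicit false
universe u
open CAlg

namespace Groth.Agent.S9654


/-- If `u * w = 1`, an element of `R[u] ∩ R[w]` is integral over `R`. -/
lemma isIntegral_of_mem_inf {R : Type u} [CommRing R] {A : Type u} [CommRing A] [Algebra R A]
    {u w z : A} (huw : u * w = 1) (hu : z ∈ Algebra.adjoin R {u}) (hw : z ∈ Algebra.adjoin R {w}) :
    IsIntegral R z := by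
  classical
  rw [Algebra.adjoin_singleton_eq_range_aeval, AlgHom.mem_range] at hu hw
  obtain ⟨p, hp⟩ := hu
  obtain ⟨q, hq⟩ := hw
  let n := p.natDegree
  let m := q.natDegree
  let L : Submodule R A := Submodule.span R (Set.range fun k : Fin (n + m + 1) => u ^ (k : ℕ) * w ^ m)
  have hcancel : ∀ i j : ℕ, j ≤ i → u ^ i * w ^ j = u ^ (i - j) := by
    intro i j hij
    conv_lhs => rw [show i = (i - j) + j by omega, pow_add, mul_assoc, ← mul_pow, huw, one_pow, mul_one]
  have hmem : ∀ k, k ≤ n + m → u ^ k * w ^ m ∈ L := fun k hk => Submodule.subset_span ⟨⟨k, by omega⟩, rfl⟩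
  have hz : ∀ a ∈ L, z * a ∈ L := by
    intro a ha
    induction ha using Submodule.span_induction with
    | mem a ha =>
      obtain ⟨k, rfl⟩ := ha
      by_cases hk : (k : ℕ) ≤ m
      · rw [← hp, Polynomial.aeval_eq_sum_range, Finset.sum_mul]
        refine Submodule.sum_mem _ fun i hi => ?_
        rw [smul_mul_assoc, ← mul_assoc, ← pow_add]
        exact L.smul_mem _ (hmem _ (by have := Finset.mem_range.1 hi; omega))
      · rw [← hq, Polynomial.aeval_eq_sum_range, Finset.sum_mul]
        refine Submodule.sum_mem _ fun i hi => ?_
        have hi' := Finset.mem_range.1 hi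
        rw [smul_mul_assoc, ← mul_assoc, mul_comm (w ^ i), hcancel _ _ (by omega)]
        exact L.smul_mem _ (hmem _ (by omega))
    | zero => simp
    | add a b _ _ ha hb => rw [mul_add]; exact add_mem ha hb
    | smul c a _ ha => rw [mul_smul_comm]; exact L.smul_mem _ ha
  have h1 : (1 : A) ∈ L := by
    have := hmem m (by omega)
    rwa [← mul_pow, huw, one_pow] at this
  haveI : Module.Finite R L := Module.Finite.span_of_finite R (Set.finite_range _)
  let φ : Module.End R L := (LinearMap.mulLeft R z).restrict hz
  obtain ⟨P, hP, hP0⟩ := LinearMap.exists_monic_and_aeval_eq_zero R φ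
  have hval : ∀ (Q : Polynomial R) (a : L), ((Polynomial.aeval φ Q a : L) : A) = Polynomial.aeval z Q * a := by
    intro Q
    induction Q using Polynomial.induction_on with
    | C r => intro a; simp [Module.algebraMap_end_apply, Algebra.smul_def]
    | add P Q hP hQ => intro a; simp [hP, hQ, add_mul]
    | monomial k r ih =>
      intro a
      rw [pow_succ, ← mul_assoc, map_mul (Polynomial.aeval φ), map_mul (Polynomial.aeval z), Module.End.mul_apply, Polynomial.aeval_X, Polynomial.aeval_X, ih]
      change _ * (z * (a : A)) = _
      rw [mul_assoc]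
  have := hval P ⟨1, h1⟩
  rw [hP0, LinearMap.zero_apply, Submodule.coe_zero, mul_one] at this
  refine ⟨P, hP, ?_⟩
  rw [← Polynomial.aeval_def]
  exact this.symm

/-- Integral elements of `R[x/y] ⊆ R_{xy}` lie in `R` if `R` is integrally closed in `R_y`. -/
lemma mem_bot_of {R : Type u} [CommRing R] (x y : R) (hx : x ∈ nonZeroDivisors R) (hy : y ∈ nonZeroDivisors R)
    {S : Type u} [CommRing S] [Algebra R S] [IsLocalization.Away (x * y) S]
    (hint : IsIntegrallyClosedIn R (Localization.Away y)) {u : S}
    (hu : u * algebraMap R S y = algebraMap R S x) {z : S} (hz : z ∈ Algebra.adjoin R {u}) (hzi : IsIntegral R z) :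
    z ∈ (⊥ : Subalgebra R S) := by
  have hu' : IsUnit (algebraMap R S y) := by
    have h := IsLocalization.Away.algebraMap_isUnit (S := S) (x * y)
    rw [map_mul] at h
    exact isUnit_of_mul_isUnit_right h
  let f : Localization.Away y →ₐ[R] S :=
    IsLocalization.liftAlgHom (M := Submonoid.powers y) (f := Algebra.ofId R S) (by
      rintro ⟨_, n, rfl⟩
      rw [map_pow]; exact hu'.pow n)
  have hinjS : Function.Injective (algebraMap R S) :=
    IsLocalization.injective S (M := Submonoid.powers (x * y)) (by
      rintro _ ⟨n, rfl⟩; exact pow_mem (mul_mem hx hy) n)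
  have hfinj : Function.Injective f := by
    intro a b hab
    obtain ⟨⟨a', s⟩, ha⟩ := IsLocalization.surj (Submonoid.powers y) a
    obtain ⟨⟨b', t⟩, hb⟩ := IsLocalization.surj (Submonoid.powers y) b
    have e1 := congrArg f ha
    have e2 := congrArg f hb
    rw [map_mul, AlgHom.commutes, AlgHom.commutes] at e1 e2
    have : a' * (t : R) = b' * (s : R) := hinjS (by
      rw [map_mul, map_mul, ← e1, ← e2, hab]; ring)
    have e3 := congrArg (algebraMap R (Localization.Away y)) this
    rw [map_mul, map_mul, ← ha, ← hb] at e3
    exact ((IsLocalization.map_units _ s).mul (IsLocalization.map_units _ t)).mul_right_cancel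
      (by linear_combination e3)
  have hle : Algebra.adjoin R {u} ≤ f.range := by
    rw [Algebra.adjoin_le_iff, Set.singleton_subset_iff]
    refine ⟨algebraMap R _ x * IsLocalization.Away.invSelf y, ?_⟩
    have e := congrArg f (IsLocalization.Away.mul_invSelf (S := Localization.Away y) y)
    rw [map_mul, map_one, AlgHom.commutes] at e
    change f _ = u
    rw [map_mul, AlgHom.commutes, ← hu, mul_assoc, e, mul_one]
  obtain ⟨z', rfl⟩ := hle hz
  obtain ⟨r, rfl⟩ := IsIntegrallyClosedIn.isIntegral_iff.1 ((isIntegral_algHom_iff f hfinj).1 hzi)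
  exact Algebra.mem_bot.2 ⟨r, (f.commutes r).symm⟩

/-- Let R be a ring and x, y ∈ R nonzerodivisors. In the localization R_{xy} let a = x/y and b = y/x,
and let R[a], R[b], R[a, b] be the R-subalgebras they generate. If R is integrally closed in R_x or
in R_y, then the sequence 0 → R → R[a] ⊕ R[b] → R[a, b] → 0 (difference map, then sum map) is short
exact; equivalently R[a] ∩ R[b] is the image of R and R[a] + R[b] = R[a, b] inside R_{xy}. -/
theorem result {R : Type u} [CommRing R] (x y : R) (hx : x ∈ nonZeroDivisors R) (hy : y ∈ nonZeroDivisors R)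
    (hint : IsIntegrallyClosedIn R (Localization.Away x) ∨ IsIntegrallyClosedIn R (Localization.Away y)) :
    (Algebra.adjoin R {algebraMap R (Localization.Away (x * y)) (x * x) * IsLocalization.Away.invSelf (x * y)}).toSubmodule ⊓
        (Algebra.adjoin R {algebraMap R (Localization.Away (x * y)) (y * y) * IsLocalization.Away.invSelf (x * y)}).toSubmodule =
        (⊥ : Subalgebra R (Localization.Away (x * y))).toSubmodule ∧
      (Algebra.adjoin R {algebraMap R (Localization.Away (x * y)) (x * x) * IsLocalization.Away.invSelf (x * y)}).toSubmodule ⊔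
        (Algebra.adjoin R {algebraMap R (Localization.Away (x * y)) (y * y) * IsLocalization.Away.invSelf (x * y)}).toSubmodule =
        (Algebra.adjoin R {algebraMap R (Localization.Away (x * y)) (x * x) * IsLocalization.Away.invSelf (x * y), algebraMap R (Localization.Away (x * y)) (y * y) * IsLocalization.Away.invSelf (x * y)}).toSubmodule := by
  classical
  set S := Localization.Away (x * y)
  set i := IsLocalization.Away.invSelf (S := S) (x * y)
  set u := algebraMap R S (x * x) * i with hu0
  set w := algebraMap R S (y * y) * i with hw0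
  have hi : algebraMap R S (x * y) * i = 1 := IsLocalization.Away.mul_invSelf (x * y)
  rw [map_mul] at hi
  have huy : u * algebraMap R S y = algebraMap R S x := by
    rw [hu0, map_mul]; linear_combination (algebraMap R S x) * hi
  have hwx : w * algebraMap R S x = algebraMap R S y := by
    rw [hw0, map_mul]; linear_combination (algebraMap R S y) * hi
  have huw : u * w = 1 := by
    rw [hu0, hw0, map_mul, map_mul]
    linear_combination (algebraMap R S x * algebraMap R S y * i + 1) * hi
  constructor
  · refine le_antisymm ?_ (le_inf (fun z hz => ?_) (fun z hz => ?_))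
    · rintro z ⟨h1, h2⟩
      have hzi := isIntegral_of_mem_inf huw h1 h2
      rcases hint with h | h
      · haveI : IsLocalization.Away (y * x) S := by rw [mul_comm]; infer_instance
        exact mem_bot_of y x hy hx h hwx h2 hzi
      · exact mem_bot_of x y hx hy h huy h1 hzi
    · exact (bot_le : (⊥ : Subalgebra R S) ≤ Algebra.adjoin R {u}) hz
    · exact (bot_le : (⊥ : Subalgebra R S) ≤ Algebra.adjoin R {w}) hz
  · refine le_antisymm (sup_le ?_ ?_) ?_
    · exact Algebra.adjoin_mono (by simp)
    · exact Algebra.adjoin_mono (by simp)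
    · rw [Algebra.adjoin_eq_span, Submodule.span_le]
      intro z hz
      obtain ⟨a, b, rfl⟩ : ∃ a b : ℕ, u ^ a * w ^ b = z := by
        induction hz using Submonoid.closure_induction with
        | mem z hz =>
          rcases hz with rfl | rfl
          · exact ⟨1, 0, by simp⟩
          · exact ⟨0, 1, by simp⟩
        | one => exact ⟨0, 0, by simp⟩
        | mul a b _ _ ha hb =>
          obtain ⟨a1, a2, rfl⟩ := ha
          obtain ⟨b1, b2, rfl⟩ := hb
          exact ⟨a1 + b1, a2 + b2, by ring⟩
      rcases le_total b a with h | h
      · refine Submodule.mem_sup_left ?_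
        have : u ^ a * w ^ b = u ^ (a - b) := by
          conv_lhs => rw [show a = (a - b) + b by omega, pow_add, mul_assoc, ← mul_pow, huw, one_pow, mul_one]
        rw [this]
        exact pow_mem (Algebra.self_mem_adjoin_singleton R u) _
      · refine Submodule.mem_sup_right ?_
        have : u ^ a * w ^ b = w ^ (b - a) := by
          conv_lhs => rw [show b = a + (b - a) by omega, pow_add, ← mul_assoc, ← mul_pow, huw, one_pow, one_mul]
        rw [this]
        exact pow_mem (Algebra.self_mem_adjoin_singleton R w) _

end Groth.Agent.S9654
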