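import Groth.Statements.S9655
import Mathlib
-- import your own Groth.Agent.* helpers here

set_option autoImplicit false
universe u
open CAlg

namespace Groth.Agent.S9655

/-- Let R and S be local rings and R → S a ring map, not necessarily local, that is essentially of
finite type. Then for some n there is a maximal ideal m of the polynomial ring R[x_1, …, x_n] lying
over the maximal ideal of R, together with an R-algebra map φ : R[x_1, …, x_n]_m → S making S a
localization of the image of φ; thus S arises from R[x_1, …, x_n]_m by passing to a quotient and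
then localizing. -/
theorem result {R S : Type u} [CommRing R] [CommRing S] [Algebra R S] [IsLocalRing R] [IsLocalRing S] [Algebra.EssFiniteType R S] :
    ∃ (n : ℕ) (m : Ideal (MvPolynomial (Fin n) R)) (_ : m.IsMaximal), m.under R = IsLocalRing.maximalIdeal R ∧
      ∃ (φ : Localization.AtPrime m →ₐ[R] S) (T : Submonoid φ.range), IsLocalization T S := by
  classical
  let K := IsLocalRing.ResidueField S
  let ρ : R →+* K := algebraMap R K
  obtain ⟨V, hle, hloc⟩ := LocalSubring.exists_le_valuationSubring (LocalSubring.range ρ)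
  have hρV : ∀ r : R, ρ r ∈ V := fun r => hle ⟨r, rfl⟩
  -- generators with residues in `V`
  let G := Algebra.EssFiniteType.finset R S
  have hgen : ∀ a : S, ∃ a' t : S, IsUnit t ∧ IsLocalRing.residue S a' ∈ V ∧ (t = 1 ∨ t = a') ∧ (a * t = a' ∨ a * t = 1) := fun a => by
    by_cases h : IsLocalRing.residue S a ∈ V
    · exact ⟨a, 1, isUnit_one, h, Or.inl rfl, Or.inl (mul_one a)⟩
    · have hu : IsUnit a := by
        by_contra hn
        exact h (by rw [(IsLocalRing.residue_eq_zero_iff a).2 ((IsLocalRing.mem_maximalIdeal a).2 hn)]; exact V.zero_mem)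
      obtain ⟨u, rfl⟩ := hu
      refine ⟨↑u⁻¹, ↑u⁻¹, Units.isUnit _, ?_, Or.inr rfl, Or.inr (Units.mul_inv u)⟩
      rcases V.mem_or_inv_mem (IsLocalRing.residue S (u : S)) with h' | h'
      · exact absurd h' h
      · rwa [map_units_inv]
  choose g t htu hgV ht hgt using hgen
  let n := Fintype.card G
  let e := (Fintype.equivFin G).symm
  let φ₀ : MvPolynomial (Fin n) R →ₐ[R] S := MvPolynomial.aeval fun i => g (e i)
  have hV : ∀ f, IsLocalRing.residue S (φ₀ f) ∈ V := fun f => by
    induction f using MvPolynomial.induction_on with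
    | C r =>
      rw [show φ₀ (MvPolynomial.C r) = algebraMap R S r from MvPolynomial.aeval_C _ r]
      exact hρV r
    | add p q hp hq => rw [map_add, map_add]; exact V.add_mem _ _ hp hq
    | mul_X p i hp => rw [map_mul, map_mul]; exact V.mul_mem _ _ hp (by rw [show φ₀ (MvPolynomial.X i) = g (e i) from MvPolynomial.aeval_X _ i]; exact hgV _)
  let ev : MvPolynomial (Fin n) R →+* V.toSubring :=
    ((IsLocalRing.residue S).comp φ₀.toRingHom).codRestrict V.toSubring hV
  haveI : IsLocalRing V.toSubring := inferInstanceAs (IsLocalRing V)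
  obtain ⟨m, hm, hPm⟩ := Ideal.exists_le_maximal ((IsLocalRing.maximalIdeal V.toSubring).comap ev)
    (Ideal.IsPrime.comap ev).ne_top
  have hmR : m.under R = IsLocalRing.maximalIdeal R := by
    refine ((IsLocalRing.maximalIdeal.isMaximal R).eq_of_le (Ideal.comap_ne_top _ hm.ne_top) fun r hr => ?_).symm
    refine hPm ?_
    rw [Ideal.mem_comap, IsLocalRing.mem_maximalIdeal]
    intro hu
    refine (IsLocalRing.mem_maximalIdeal r).1 hr ?_
    have heq : ev (algebraMap R (MvPolynomial (Fin n) R) r) = Subring.inclusion hle ⟨ρ r, r, rfl⟩ := Subtype.ext (by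
      show IsLocalRing.residue S (φ₀ (algebraMap R _ r)) = ρ r
      rw [AlgHom.commutes]
      rfl)
    rw [heq] at hu
    have h2 : IsUnit (⟨ρ r, r, rfl⟩ : (LocalSubring.range ρ).toSubring) := hloc.map_nonunit _ hu
    obtain ⟨⟨y, r', hr'⟩, hy⟩ := isUnit_iff_exists_inv.1 h2
    by_contra hnr
    have h3 : ρ (1 - r * r') = 0 := by
      rw [map_sub, map_one, map_mul, hr', sub_eq_zero]
      exact (congrArg Subtype.val hy).symm
    have h4 : IsUnit (1 - r * r') := IsLocalRing.isUnit_one_sub_self_of_mem_nonunits _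
      (Ideal.mul_mem_right r' (IsLocalRing.maximalIdeal R) hr)
    exact not_isUnit_zero (h3 ▸ h4.map ρ)
  have hunit : ∀ f : MvPolynomial (Fin n) R, f ∉ m → IsUnit (φ₀ f) := fun f hf => by
    by_contra hn
    refine hf (hPm ?_)
    rw [Ideal.mem_comap, show ev f = 0 from Subtype.ext ((IsLocalRing.residue_eq_zero_iff _).2
      ((IsLocalRing.mem_maximalIdeal _).2 hn))]
    exact zero_mem _
  let φ : Localization.AtPrime m →ₐ[R] S :=
    IsLocalization.liftAlgHom (M := m.primeCompl) (f := φ₀) fun s => hunit s.1 s.2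
  have hX : ∀ i, g (e i) ∈ φ.range := fun i =>
    ⟨algebraMap (MvPolynomial (Fin n) R) (Localization.AtPrime m) (MvPolynomial.X i), by simp [φ, φ₀]⟩
  refine ⟨n, m, hm, hmR, φ, (IsUnit.submonoid S).comap (algebraMap φ.range S), ⟨fun s => s.2, fun y => ?_, ?_⟩⟩
  · have hW : ∀ c : S, c ∈ Algebra.adjoin R (G : Set S) → ∃ d ∈ φ.range, IsUnit d ∧ c * d ∈ φ.range := by
      intro c hc
      induction hc using Algebra.adjoin_induction with
      | mem a ha =>
        obtain ⟨i, hi⟩ := e.surjective ⟨a, ha⟩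
        have hga : g a ∈ φ.range := by have := hX i; rwa [hi] at this
        refine ⟨t a, ?_, htu a, ?_⟩
        · rcases ht a with h | h <;> rw [h]
          · exact one_mem _
          · exact hga
        · rcases hgt a with h | h <;> rw [h]
          · exact hga
          · exact one_mem _
      | algebraMap r => exact ⟨1, one_mem _, isUnit_one, by rw [mul_one]; exact Subalgebra.algebraMap_mem _ r⟩
      | add x y _ _ hx hy =>
        obtain ⟨d, hd, hdu, hdx⟩ := hx
        obtain ⟨d', hd', hdu', hdy⟩ := hy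
        refine ⟨d * d', mul_mem hd hd', hdu.mul hdu', ?_⟩
        rw [show (x + y) * (d * d') = (x * d) * d' + (y * d') * d by ring]
        exact add_mem (mul_mem hdx hd') (mul_mem hdy hd)
      | mul x y _ _ hx hy =>
        obtain ⟨d, hd, hdu, hdx⟩ := hx
        obtain ⟨d', hd', hdu', hdy⟩ := hy
        refine ⟨d * d', mul_mem hd hd', hdu.mul hdu', ?_⟩
        rw [show x * y * (d * d') = (x * d) * (y * d') by ring]
        exact mul_mem hdx hdy
    obtain ⟨⟨c₁, c₂⟩, hc⟩ := IsLocalization.surj (Algebra.EssFiniteType.submonoid R S) y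
    obtain ⟨d₁, hd₁, hdu₁, h₁⟩ := hW _ c₁.2
    obtain ⟨d₂, hd₂, hdu₂, h₂⟩ := hW _ c₂.1.2
    refine ⟨⟨⟨(c₁ : S) * d₁ * d₂, mul_mem h₁ hd₂⟩, ⟨⟨(c₂.1 : S) * d₂ * d₁, mul_mem h₂ hd₁⟩, ?_⟩⟩, ?_⟩
    · exact ((c₂.2 : IsUnit (c₂.1 : S)).mul hdu₂).mul hdu₁
    · show y * ((c₂.1 : S) * d₂ * d₁) = (c₁ : S) * d₁ * d₂
      rw [← show y * (c₂.1 : S) = (c₁ : S) from hc]
      ring
  · intro a b h
    exact ⟨1, by rw [Subtype.ext h]⟩

end Groth.Agent.S9655
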