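import Mathlib
import Groth.Statements.S9656
-- import your own Groth.Agent.* helpers here

set_option autoImplicit false
universe u
open CAlg

namespace Groth.Agent.S9656

/-- Let R_i → S_i be ring maps indexed by a finite type ι, with product map R = Π R_i → S = Π S_i. Then
an element (s_i) of S is integral over R exactly when s_i is integral over R_i for every i; so
integral closure in a finite product is computed factor by factor. -/
theorem result {ι : Type u} [Fintype ι] {R S : ι → Type u} [∀ i, CommRing (R i)] [∀ i, CommRing (S i)] (f : ∀ i, R i →+* S i) (s : ∀ i, S i) :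
    (RingHom.pi fun i => (f i).comp (Pi.evalRingHom R i)).IsIntegralElem s ↔ ∀ i, (f i).IsIntegralElem (s i) := by
  classical
  constructor
  · rintro ⟨P, hP, h⟩ i
    refine ⟨P.map (Pi.evalRingHom R i), hP.map _, ?_⟩
    have h1 := congrArg (Pi.evalRingHom S i) h
    rw [Polynomial.hom_eval₂, map_zero] at h1
    rw [Polynomial.eval₂_map]
    exact h1
  · intro h
    choose p hp hp0 using h
    let D := ∑ i, (p i).natDegree
    let q : ∀ i, Polynomial (R i) := fun i => p i * Polynomial.X ^ (D - (p i).natDegree)
    have hq : ∀ i, (q i).Monic := fun i => (hp i).mul (Polynomial.monic_X_pow _)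
    have hqd : ∀ i, Nontrivial (R i) → (q i).natDegree = D := by
      intro i _
      rw [(hp i).natDegree_mul (Polynomial.monic_X_pow _), Polynomial.natDegree_X_pow]
      have : (p i).natDegree ≤ D := Finset.single_le_sum (f := fun i => (p i).natDegree) (fun _ _ => Nat.zero_le _) (Finset.mem_univ i)
      omega
    let Q : Polynomial (∀ i, R i) := Polynomial.X ^ D +
      ∑ k ∈ Finset.range D, Polynomial.C (fun i => (q i).coeff k) * Polynomial.X ^ k
    have hQm : ∀ i, Q.map (Pi.evalRingHom R i) = q i := by
      intro i
      rcases subsingleton_or_nontrivial (R i) with hs | hn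
      · exact Subsingleton.elim _ _
      · conv_rhs => rw [(hq i).as_sum, hqd i hn]
        simp [Q, Polynomial.map_sum]
    refine ⟨Q, Polynomial.monic_X_pow_add (lt_of_le_of_lt (Polynomial.degree_sum_le _ _) ?_), ?_⟩
    · rw [Finset.sup_lt_iff (by exact_mod_cast WithBot.bot_lt_coe D)]
      exact fun k hk => lt_of_le_of_lt (Polynomial.degree_C_mul_X_pow_le _ _) (by exact_mod_cast Finset.mem_range.1 hk)
    · funext i
      have := Polynomial.hom_eval₂ Q (RingHom.pi fun i => (f i).comp (Pi.evalRingHom R i)) (Pi.evalRingHom S i) s
      change Pi.evalRingHom S i _ = _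
      rw [this]
      change Polynomial.eval₂ ((f i).comp (Pi.evalRingHom R i)) (s i) Q = 0
      rw [← Polynomial.eval₂_map, hQm, Polynomial.eval₂_mul, hp0, zero_mul]

end Groth.Agent.S9656
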