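import Groth.Statements.S9658
import Mathlib
-- import your own Groth.Agent.* helpers here

set_option autoImplicit false
universe u
open CAlg

namespace Groth.Agent.S9658

/-- Let R be a ring, f_1, …, f_n ∈ R generating the unit ideal and M an R-module. With M_i = M_{f_i},
M_ij = M_{f_i f_j} (any localizations, with the canonical compatible maps M → M_i → M_ij), the
sequence 0 → M → ⊕ M_i → ⊕ M_ij is exact: an element of M whose image vanishes in every M_i is zero,
and every family (m_i ∈ M_i) such that m_i and m_j have the same image in M_ij for all i, j is the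
image of an element of M. -/
theorem result {R : Type u} [CommRing R] {ι : Type u} [Fintype ι] (f : ι → R) (hf : Ideal.span (Set.range f) = ⊤)
    (M : Type u) [AddCommGroup M] [Module R M]
    (Mi : ι → Type u) [∀ i, AddCommGroup (Mi i)] [∀ i, Module R (Mi i)] (g : ∀ i, M →ₗ[R] Mi i) [∀ i, IsLocalizedModule (Submonoid.powers (f i)) (g i)]
    (Mij : ι → ι → Type u) [∀ i j, AddCommGroup (Mij i j)] [∀ i j, Module R (Mij i j)] (gij : ∀ i j, M →ₗ[R] Mij i j) [∀ i j, IsLocalizedModule (Submonoid.powers (f i * f j)) (gij i j)]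
    (ρ₁ : ∀ i j, Mi i →ₗ[R] Mij i j) (hρ₁ : ∀ i j, ρ₁ i j ∘ₗ g i = gij i j) (ρ₂ : ∀ i j, Mi j →ₗ[R] Mij i j) (hρ₂ : ∀ i j, ρ₂ i j ∘ₗ g j = gij i j) :
    (∀ m : M, (∀ i, g i m = 0) → m = 0) ∧
      ∀ s : ∀ i, Mi i, (∀ i j, ρ₁ i j (s i) = ρ₂ i j (s j)) → ∃ m : M, ∀ i, g i m = s i := by
  classical
  refine ⟨fun m hm => ?_, fun s hs => ?_⟩
  · have h : ∀ i, ∃ n : ℕ, f i ^ n • m = 0 := fun i => by
      obtain ⟨⟨_, n, rfl⟩, hn⟩ := (IsLocalizedModule.eq_zero_iff (Submonoid.powers (f i)) (g i)).mp (hm i)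
      exact ⟨n, hn⟩
    choose n hn using h
    have : Ideal.span ((fun x : R => x ^ Finset.univ.sup n) '' Set.range f) ≤
        LinearMap.ker (LinearMap.toSpanSingleton R M m) :=
      Ideal.span_le.mpr (by
        rintro _ ⟨_, ⟨i, rfl⟩, rfl⟩
        change f i ^ Finset.univ.sup n • m = 0
        rw [← Nat.sub_add_cancel (Finset.le_sup (f := n) (Finset.mem_univ i)), pow_add, mul_smul, hn i, smul_zero])
    rw [Ideal.span_pow_eq_top _ hf] at this
    simpa using this (Submodule.mem_top (x := (1 : R)))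
  · have h1 : ∀ i, ∃ (k : ℕ) (m : M), f i ^ k • s i = g i m := fun i => by
      obtain ⟨⟨m, ⟨_, k, rfl⟩⟩, hk⟩ := IsLocalizedModule.surj (Submonoid.powers (f i)) (g i) (s i)
      exact ⟨k, m, hk⟩
    choose k m hm using h1
    let N := Finset.univ.sup k
    let m₁ : ι → M := fun i => f i ^ (N - k i) • m i
    have hm₁ : ∀ i, f i ^ N • s i = g i (m₁ i) := fun i => by
      rw [map_smul, ← hm i, ← mul_smul, ← pow_add, Nat.sub_add_cancel (Finset.le_sup (Finset.mem_univ i))]
    have h2 : ∀ ij : ι × ι, ∃ l : ℕ, (f ij.1 * f ij.2) ^ l • (f ij.2 ^ N • m₁ ij.1 - f ij.1 ^ N • m₁ ij.2) = 0 := by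
      rintro ⟨i, j⟩
      have e1 : gij i j (m₁ i) = f i ^ N • ρ₁ i j (s i) := by
        rw [← map_smul, hm₁, ← LinearMap.comp_apply, hρ₁]
      have e2 : gij i j (m₁ j) = f j ^ N • ρ₂ i j (s j) := by
        rw [← map_smul, hm₁, ← LinearMap.comp_apply, hρ₂]
      have he : gij i j (f j ^ N • m₁ i - f i ^ N • m₁ j) = 0 := by
        rw [map_sub, LinearMap.map_smul (gij i j) (f j ^ N) (m₁ i), LinearMap.map_smul (gij i j) (f i ^ N) (m₁ j),
          sub_eq_zero, e1, e2, hs i j, smul_comm]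
      obtain ⟨⟨_, l, rfl⟩, hl⟩ := (IsLocalizedModule.eq_zero_iff (Submonoid.powers (f i * f j)) (gij i j)).mp he
      exact ⟨l, hl⟩
    choose l hl using h2
    let L := Finset.univ.sup l
    let m₂ : ι → M := fun i => f i ^ L • m₁ i
    have hm₂ : ∀ i, f i ^ (L + N) • s i = g i (m₂ i) := fun i => by
      rw [map_smul, ← hm₁, ← mul_smul, ← pow_add]
    have hcomm : ∀ i j, f j ^ (L + N) • m₂ i = f i ^ (L + N) • m₂ j := fun i j => by
      have h0 := congrArg ((f i * f j) ^ (L - l (i, j)) • ·) (hl (i, j))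
      simp only at h0
      rw [smul_zero, ← mul_smul, ← pow_add, Nat.sub_add_cancel (Finset.le_sup (Finset.mem_univ (i, j))),
        smul_sub, sub_eq_zero] at h0
      simp only [m₂, ← mul_smul] at h0 ⊢
      convert h0 using 2 <;> ring
    have hsp : Ideal.span (Set.range fun i => f i ^ (L + N)) = ⊤ := by
      have h := Ideal.span_pow_eq_top _ hf (L + N)
      rwa [← Set.range_comp] at h
    obtain ⟨c, hc⟩ := Ideal.mem_span_range_iff_exists_fun.mp (hsp ▸ Submodule.mem_top (x := (1 : R)))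
    refine ⟨∑ j, c j • m₂ j, fun i => ?_⟩
    refine IsLocalizedModule.smul_injective (g i) (⟨f i ^ (L + N), L + N, rfl⟩ : Submonoid.powers (f i)) ?_
    change f i ^ (L + N) • g i _ = f i ^ (L + N) • s i
    rw [hm₂, ← map_smul, Finset.smul_sum]
    congr 1
    rw [← one_smul R (m₂ i), ← hc, Finset.sum_smul]
    exact Finset.sum_congr rfl fun j _ => by rw [smul_comm, ← hcomm, ← mul_smul]

end Groth.Agent.S9658
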