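import Groth.Statements.S9659
import Mathlib.RingTheory.GradedAlgebra.Radical
import Mathlib.RingTheory.Spectrum.Prime.Topology

set_option autoImplicit false
universe u
open CAlg

namespace Groth.Agent.S9659

/-- Let S be a ℤ-graded ring which contains an invertible homogeneous element of positive degree. Then
the set of homogeneous prime ideals of S, with the topology induced from Spec(S), maps
homeomorphically onto Spec(S₀) by p ↦ p ∩ S₀. -/
theorem result {R S : Type u} [CommRing R] [CommRing S] [Algebra R S] (𝒜 : ℤ → Submodule R S) [GradedAlgebra 𝒜]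
    (f : S) (d : ℤ) (hd : 0 < d) (hf : f ∈ 𝒜 d) (hu : IsUnit f) :
    IsHomeomorph (fun p : {p : PrimeSpectrum S // p.asIdeal.IsHomogeneous 𝒜} => PrimeSpectrum.comap (SetLike.GradeZero.subring 𝒜).subtype p.1) := by
  classical
  obtain ⟨fu, rfl⟩ := hu
  have hinv : ((fu⁻¹ : Sˣ) : S) ∈ 𝒜 (-d) := by
    have h := DirectSum.coe_decompose_mul_add_of_left_mem 𝒜 (b := ((fu⁻¹ : Sˣ) : S)) (j := -d) hf
    rw [Units.mul_inv, add_neg_cancel, DirectSum.decompose_of_mem_same 𝒜 SetLike.GradedOne.one_mem] at h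
    rw [show ((fu⁻¹ : Sˣ) : S) = DirectSum.decompose 𝒜 ((fu⁻¹ : Sˣ) : S) (-d) from
      fu.isUnit.mul_left_cancel (by rw [Units.mul_inv]; exact h)]
    exact SetLike.coe_mem _
  have hz : ∀ m : ℤ, ((fu ^ m : Sˣ) : S) ∈ 𝒜 (m * d) := by
    intro m
    obtain ⟨n, rfl | rfl⟩ := m.eq_nat_or_neg
    · simpa [nsmul_eq_mul] using SetLike.pow_mem_graded n hf
    · simpa [nsmul_eq_mul] using SetLike.pow_mem_graded n hinv
  let S₀ := SetLike.GradeZero.subring 𝒜
  obtain ⟨n, rfl⟩ : ∃ n : ℕ, d = n := ⟨d.toNat, by omega⟩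
  -- degree-zero element attached to the `k`-th component
  let t : S → ℤ → S₀ := fun s k => ⟨(DirectSum.decompose 𝒜 s k : S) ^ n * ((fu ^ (-k) : Sˣ) : S), by
    show _ ∈ 𝒜 0
    have h := SetLike.GradedMul.mul_mem (SetLike.pow_mem_graded n (SetLike.coe_mem (DirectSum.decompose 𝒜 s k))) (hz (-k))
    rwa [nsmul_eq_mul, show (n : ℤ) * k + -k * n = 0 by ring] at h⟩
  have ht : ∀ (P : Ideal S), P.IsPrime → ∀ s k, (t s k : S) ∈ P ↔ (DirectSum.decompose 𝒜 s k : S) ∈ P := by
    intro P hP s k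
    show _ * _ ∈ P ↔ _
    rw [Ideal.mul_unit_mem_iff_mem _ (Units.isUnit _)]
    exact hP.pow_mem_iff_mem n (by omega)
  set φ : {p : PrimeSpectrum S // p.asIdeal.IsHomogeneous 𝒜} → PrimeSpectrum S₀ :=
    fun p => PrimeSpectrum.comap S₀.subtype p.1
  have hcont : Continuous φ := (PrimeSpectrum.continuous_comap S₀.subtype).comp continuous_subtype_val
  have hinj : Function.Injective φ := by
    intro p q hpq
    apply Subtype.ext
    apply PrimeSpectrum.ext
    ext s
    rw [p.2.mem_iff, q.2.mem_iff]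
    refine forall_congr' fun k => ?_
    rw [← ht _ p.1.2, ← ht _ q.1.2]
    exact SetLike.ext_iff.mp (congrArg PrimeSpectrum.asIdeal hpq) (t s k)
  have hsurj : Function.Surjective φ := by
    intro q
    let M : Submonoid S := q.asIdeal.primeCompl.map (S₀.subtype : S₀ →* S)
    have hcomp : ∀ x ∈ q.asIdeal.map S₀.subtype,
        (⟨DirectSum.decompose 𝒜 x 0, SetLike.coe_mem _⟩ : S₀) ∈ q.asIdeal := by
      intro x hx
      induction hx using Submodule.span_induction with
      | mem y hy =>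
        obtain ⟨a, ha, rfl⟩ := hy
        convert (show a ∈ q.asIdeal from ha) using 1
        exact Subtype.ext (DirectSum.decompose_of_mem_same 𝒜 a.2)
      | zero => convert q.asIdeal.zero_mem using 1; exact Subtype.ext (by simp)
      | add y z _ _ hy hz => convert q.asIdeal.add_mem hy hz using 1; exact Subtype.ext (by rw [DirectSum.decompose_add]; rfl)
      | smul r y hy _ =>
        clear * - hy
        induction hy using Submodule.span_induction generalizing r with
        | mem y hy =>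
          obtain ⟨a, ha, rfl⟩ := hy
          convert q.asIdeal.mul_mem_left ⟨DirectSum.decompose 𝒜 r 0, SetLike.coe_mem _⟩ ha using 1
          exact Subtype.ext (DirectSum.coe_decompose_mul_of_right_mem_zero 𝒜 a.2)
        | zero => convert q.asIdeal.zero_mem using 1; exact Subtype.ext (by simp)
        | add y z _ _ hy hz => convert q.asIdeal.add_mem (hy r) (hz r) using 1; exact Subtype.ext (by rw [smul_eq_mul, mul_add, DirectSum.decompose_add]; rfl)
        | smul r' y _ hy => convert hy (r * r') using 1; exact Subtype.ext (by simp [mul_assoc])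
    have hdisj : Disjoint ((q.asIdeal.map S₀.subtype : Ideal S) : Set S) (M : Set S) := by
      rw [Set.disjoint_left]
      rintro _ hz' ⟨a, ha, rfl⟩
      apply ha
      show a ∈ q.asIdeal
      convert hcomp _ hz' using 1
      exact Subtype.ext (DirectSum.decompose_of_mem_same 𝒜 a.2).symm
    obtain ⟨P, hP, hle, hPM⟩ := Ideal.exists_le_prime_disjoint _ M hdisj
    refine ⟨⟨⟨_, hP.homogeneousCore (𝒜 := 𝒜)⟩, HomogeneousIdeal.isHomogeneous _⟩, PrimeSpectrum.ext (le_antisymm ?_ ?_)⟩
    · intro a ha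
      by_contra h
      exact Set.disjoint_left.mp hPM (Ideal.toIdeal_homogeneousCore_le 𝒜 P ha) ⟨a, h, rfl⟩
    · intro a ha
      exact Ideal.mem_homogeneousCore_of_homogeneous_of_mem ⟨0, a.2⟩ (hle (Ideal.mem_map_of_mem _ ha))
  refine ⟨hcont, ?_, hinj, hsurj⟩
  intro W hW
  rw [isOpen_induced_iff] at hW
  obtain ⟨O, hO, rfl⟩ := hW
  refine isOpen_iff_mem_nhds.mpr ?_
  rintro _ ⟨p, hp, rfl⟩
  obtain ⟨_, ⟨s, rfl⟩, hps, hsO⟩ := PrimeSpectrum.isTopologicalBasis_basic_opens.exists_subset_of_mem_open hp hO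
  have hps' : s ∉ p.1.asIdeal := hps
  rw [p.2.mem_iff] at hps'
  push Not at hps'
  obtain ⟨k, hk⟩ := hps'
  refine Filter.mem_of_superset ((PrimeSpectrum.basicOpen (t s k)).isOpen.mem_nhds (show t s k ∉ (φ p).asIdeal from fun h => hk ((ht _ p.1.2 s k).mp h))) ?_
  intro q hq
  obtain ⟨p', rfl⟩ := hsurj q
  refine ⟨p', hsO (show s ∉ p'.1.asIdeal from fun h => hq ?_), rfl⟩
  exact (ht _ p'.1.2 s k).mpr (p'.2.mem_iff.mp h k)

end Groth.Agent.S9659
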