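import Groth.Statements.S9662
import Groth.Agent.KGrp.Sub
import Mathlib.RingTheory.Noetherian.Basic
import Mathlib.RingTheory.Finiteness.Basic
import Mathlib.RingTheory.Ideal.Colon
import Mathlib.Algebra.Category.ModuleCat.Abelian
import Mathlib.Algebra.Homology.ShortComplex.ModuleCat
-- import your own Groth.Agent.* helpers here

set_option autoImplicit false
universe u
open CategoryTheory
open CAlg

namespace Groth.Agent.S9662

section Aux

variable {G : Type*} [AddCommGroup G]

/-- Eventually a numerical polynomial. -/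
def EvPol (f : ℕ → G) : Prop := ∃ (r : ℕ) (a : ℕ → G) (N : ℕ), ∀ n, N ≤ n →
  f n = ∑ i ∈ Finset.range r, ((n.choose i : ℕ) : ℤ) • a i

theorem EvPol.congr {f g : ℕ → G} (hf : EvPol f) (N₀ : ℕ) (h : ∀ n, N₀ ≤ n → g n = f n) : EvPol g := by
  obtain ⟨r, a, N, hN⟩ := hf
  exact ⟨r, a, max N N₀, fun n hn => (h n (le_of_max_le_right hn)).trans (hN n (le_of_max_le_left hn))⟩

theorem EvPol.pad {f : ℕ → G} {r : ℕ} {a : ℕ → G} {N : ℕ}
    (h : ∀ n, N ≤ n → f n = ∑ i ∈ Finset.range r, ((n.choose i : ℕ) : ℤ) • a i) (R : ℕ) (hR : r ≤ R) :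
    ∀ n, N ≤ n → f n = ∑ i ∈ Finset.range R, ((n.choose i : ℕ) : ℤ) • (if i < r then a i else 0) := by
  intro n hn
  rw [h n hn, ← Finset.sum_subset (Finset.range_mono hR) (fun i _ hi => by simp_all)]
  exact Finset.sum_congr rfl fun i hi => by simp_all

theorem EvPol.sub {f g : ℕ → G} (hf : EvPol f) (hg : EvPol g) : EvPol fun n => f n - g n := by
  obtain ⟨r, a, N, hN⟩ := hf
  obtain ⟨r', a', N', hN'⟩ := hg
  refine ⟨max r r', fun i => (if i < r then a i else 0) - (if i < r' then a' i else 0), max N N', fun n hn => ?_⟩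
  simp only [smul_sub, Finset.sum_sub_distrib]
  rw [← EvPol.pad hN _ (le_max_left r r') n (le_of_max_le_left hn),
    ← EvPol.pad hN' _ (le_max_right r r') n (le_of_max_le_right hn)]

theorem EvPol.shift {f : ℕ → G} (hf : EvPol f) : EvPol fun n => f (n + 1) := by
  obtain ⟨r, a, N, hN⟩ := hf
  let b : ℕ → G := fun i => if i < r then a i else 0
  refine ⟨r + 1, fun i => b i + b (i + 1), N, fun n hn => ?_⟩
  have e1 : f (n + 1) = ∑ i ∈ Finset.range (r + 2), (((n + 1).choose i : ℕ) : ℤ) • b i :=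
    EvPol.pad hN (r + 2) (by omega) (n + 1) (by omega)
  have hb : b (r + 1) = 0 := if_neg (by omega)
  have e := Finset.sum_range_succ' (fun i => ((n.choose i : ℕ) : ℤ) • b i) (r + 1)
  rw [Finset.sum_range_succ (fun i => ((n.choose i : ℕ) : ℤ) • b i) (r + 1), hb, smul_zero, add_zero] at e
  show f (n + 1) = _
  rw [e1, Finset.sum_range_succ']
  simp only [Nat.choose_succ_succ', Nat.cast_add, add_smul, smul_add, Finset.sum_add_distrib,
    Nat.choose_zero_right] at e ⊢
  rw [e]
  abel

theorem EvPol.of_diff {f : ℕ → G} (h : EvPol fun n => f (n + 1) - f n) : EvPol f := by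
  obtain ⟨r, a, N, hN⟩ := h
  let g : ℕ → G := fun n => ∑ i ∈ Finset.range r, ((n.choose (i + 1) : ℕ) : ℤ) • a i
  have hstep : ∀ k, f (N + k) - g (N + k) = f N - g N := by
    intro k
    induction k with
    | zero => rfl
    | succ k ih =>
      have e : g (N + k + 1) = g (N + k) + (f (N + k + 1) - f (N + k)) := by
        rw [show f (N + k + 1) - f (N + k) = _ from hN (N + k) (Nat.le_add_right _ _)]
        simp only [g, Nat.choose_succ_succ', Nat.cast_add, add_smul, Finset.sum_add_distrib]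
        abel
      rw [← Nat.add_assoc, e, ← ih]
      abel
  refine ⟨r + 1, fun i => if i = 0 then f N - g N else a (i - 1), N, fun n hn => ?_⟩
  obtain ⟨k, rfl⟩ := Nat.exists_eq_add_of_le hn
  rw [Finset.sum_range_succ', ← hstep k]
  simp [g]

end Aux

section Graded

variable {A S M : Type u} [CommRing A] [CommRing S] [Algebra A S] [IsNoetherianRing S] (𝒜 : ℕ → Submodule A S)
  [GradedAlgebra 𝒜] [AddCommGroup M] [Module A M] [Module S M] [IsScalarTower A S M] [Module.Finite S M]
  (ℳ : ℕ → Submodule A M) [DirectSum.Decomposition ℳ] [SetLike.GradedSMul 𝒜 ℳ]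

/-- Homogeneous component. -/
noncomputable def pr (n : ℕ) (m : M) : M := (DirectSum.decompose ℳ m n : M)

theorem pr_self {n : ℕ} {m : M} (h : m ∈ ℳ n) : pr ℳ n m = m := DirectSum.decompose_of_mem_same ℳ h

theorem pr_ne {n k : ℕ} {m : M} (h : m ∈ ℳ n) (hk : n ≠ k) : pr ℳ k m = 0 :=
  DirectSum.decompose_of_mem_ne ℳ h hk

theorem pr_mem (n : ℕ) (m : M) : pr ℳ n m ∈ ℳ n := SetLike.coe_mem _

theorem pr_add (n : ℕ) (a b : M) : pr ℳ n (a + b) = pr ℳ n a + pr ℳ n b := by simp [pr]

theorem pr_zero (n : ℕ) : pr ℳ n (0 : M) = 0 := by simp [pr]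

theorem pr_smul {j : ℕ} {s : S} (hs : s ∈ 𝒜 j) (n : ℕ) (m : M) :
    pr ℳ n (s • m) = if j ≤ n then s • pr ℳ (n - j) m else 0 := by
  induction m using DirectSum.Decomposition.inductionOn ℳ with
  | zero => simp [pr_zero]
  | homogeneous mi =>
    rename_i i
    have h : s • (mi : M) ∈ ℳ (j + i) := SetLike.GradedSMul.smul_mem hs mi.2
    by_cases hn : j + i = n
    · subst hn
      rw [pr_self ℳ h, if_pos (Nat.le_add_right _ _), Nat.add_sub_cancel_left, pr_self ℳ mi.2]
    · rw [pr_ne ℳ h hn]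
      split_ifs with hj
      · rw [pr_ne ℳ mi.2 (by omega : i ≠ n - j), smul_zero]
      · rfl
  | add a b ha hb =>
    rw [smul_add, pr_add, ha, hb]
    split_ifs
    · rw [pr_add, smul_add]
    · rw [add_zero]

/-- Homogeneous submodules. -/
def IsHom (N : Submodule S M) : Prop := ∀ m ∈ N, ∀ n, pr ℳ n m ∈ N

/-- The degree `n` part of a submodule. -/
abbrev deg (N : Submodule S M) (n : ℕ) : Submodule A M := N.restrictScalars A ⊓ ℳ n

/-- Class of the degree `n` part. -/
noncomputable def cl (N : Submodule S M) (n : ℕ) : KZero.K0sub (fun X : ModuleCat.{u} A => Module.Finite A X) :=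
  KZero.clSub (fun X : ModuleCat.{u} A => Module.Finite A X) (ModuleCat.of A ↥(deg ℳ N n))

variable (h0 : ∀ s ∈ 𝒜 0, s ∈ Set.range (algebraMap A S))

include h0 in
theorem finite_deg (N : Submodule S M) (n : ℕ) : Module.Finite A (deg ℳ N n) := by
  classical
  haveI : IsNoetherian S M := isNoetherian_of_isNoetherianRing_of_finite S M
  obtain ⟨s, hs, hspan⟩ := (Submodule.fg_span_iff_fg_span_finset_subset _).1
    (IsNoetherian.noetherian (Submodule.span S (deg ℳ N n : Set M)))
  refine Module.Finite.iff_fg.2 ⟨s, le_antisymm (Submodule.span_le.2 fun x hx => hs hx) fun m hm => ?_⟩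
  have hm' : m ∈ Submodule.span S (s : Set M) := hspan ▸ Submodule.subset_span hm
  have key : ∀ x ∈ Submodule.span S (s : Set M), ∀ k ≤ n,
      pr ℳ k x ∈ Submodule.span A (s : Set M) ∧ (k < n → pr ℳ k x = 0) := by
    intro x hx
    induction hx using Submodule.span_induction with
    | mem x hx =>
      intro k _
      by_cases hk : n = k
      · subst hk
        rw [pr_self ℳ (hs hx).2]
        exact ⟨Submodule.subset_span hx, fun h => absurd h (lt_irrefl _)⟩
      · rw [pr_ne ℳ (hs hx).2 hk]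
        exact ⟨zero_mem _, fun _ => rfl⟩
    | zero => intro k _; rw [pr_zero]; exact ⟨zero_mem _, fun _ => rfl⟩
    | add a b _ _ ha hb =>
      intro k hk
      rw [pr_add]
      exact ⟨add_mem (ha k hk).1 (hb k hk).1, fun h => by rw [(ha k hk).2 h, (hb k hk).2 h, add_zero]⟩
    | smul t x _ hx =>
      induction t using DirectSum.Decomposition.inductionOn 𝒜 with
      | zero => intro k _; rw [zero_smul, pr_zero]; exact ⟨zero_mem _, fun _ => rfl⟩
      | homogeneous t =>
        rename_i j
        intro k hk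
        rw [pr_smul 𝒜 ℳ t.2]
        split_ifs with hj
        · rcases Nat.eq_zero_or_pos j with rfl | hpos
          · obtain ⟨a, ha⟩ := h0 _ t.2
            rw [← ha, algebraMap_smul, Nat.sub_zero]
            exact ⟨Submodule.smul_mem _ _ (hx k hk).1, fun h => by rw [(hx k hk).2 h, smul_zero]⟩
          · rw [(hx (k - j) (by omega)).2 (by omega), smul_zero]
            exact ⟨zero_mem _, fun _ => rfl⟩
        · exact ⟨zero_mem _, fun _ => rfl⟩
      | add a b ha hb =>
        intro k hk
        rw [add_smul, pr_add]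
        exact ⟨add_mem (ha k hk).1 (hb k hk).1, fun h => by rw [(ha k hk).2 h, (hb k hk).2 h, add_zero]⟩
  exact pr_self ℳ hm.2 ▸ (key m hm' n le_rfl).1

theorem clSub_ses {Q₁ Q₂ Q₃ : Type u} [AddCommGroup Q₁] [Module A Q₁] [AddCommGroup Q₂] [Module A Q₂]
    [AddCommGroup Q₃] [Module A Q₃] (f : Q₁ →ₗ[A] Q₂) (g : Q₂ →ₗ[A] Q₃) (hf : Function.Injective f)
    (hg : Function.Surjective g) (hfg : Function.Exact f g)
    [Module.Finite A Q₁] [Module.Finite A Q₂] :
    KZero.clSub (fun X : ModuleCat.{u} A => Module.Finite A X) (ModuleCat.of A Q₂) =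
      KZero.clSub (fun X : ModuleCat.{u} A => Module.Finite A X) (ModuleCat.of A Q₁) +
      KZero.clSub (fun X : ModuleCat.{u} A => Module.Finite A X) (ModuleCat.of A Q₃) := by
  let T : ShortComplex (ModuleCat.{u} A) := ShortComplex.mk (ModuleCat.ofHom f) (ModuleCat.ofHom g)
    (ModuleCat.hom_ext hfg.linearMap_comp_eq_zero)
  refine KGrp.clSub_add (S := T) ‹Module.Finite A Q₁› ‹Module.Finite A Q₂› (Module.Finite.of_surjective g hg) ?_
  haveI : Mono T.f := (ModuleCat.mono_iff_injective _).2 hf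
  haveI : Epi T.g := (ModuleCat.epi_iff_surjective _).2 hg
  exact { exact := (ShortComplex.ShortExact.moduleCat_exact_iff_function_exact T).2 hfg }

include h0 in
theorem cl_step {N N' : Submodule S M} (hle : N' ≤ N) (hN : IsHom ℳ N) (hN' : IsHom ℳ N') {x : S} (hx : x ∈ 𝒜 1)
    (n : ℕ) :
    cl ℳ N n - cl ℳ (N ⊓ N'.comap (x • (LinearMap.id : M →ₗ[S] M))) n =
      cl ℳ (N.map (x • (LinearMap.id : M →ₗ[S] M)) ⊔ N') (n + 1) - cl ℳ N' (n + 1) := by
  set K := N ⊓ N'.comap (x • (LinearMap.id : M →ₗ[S] M)) with hK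
  set C := N.map (x • (LinearMap.id : M →ₗ[S] M)) ⊔ N' with hC
  haveI := finite_deg 𝒜 ℳ h0 N n
  haveI := finite_deg 𝒜 ℳ h0 K n
  haveI := finite_deg 𝒜 ℳ h0 C (n + 1)
  haveI := finite_deg 𝒜 ℳ h0 N' (n + 1)
  let P : Submodule A (deg ℳ C (n + 1)) := (deg ℳ N' (n + 1)).comap (deg ℳ C (n + 1)).subtype
  have hmul : ∀ m : deg ℳ N n, x • (m : M) ∈ deg ℳ C (n + 1) := fun m =>
    ⟨Submodule.mem_sup_left ⟨m, m.2.1, rfl⟩,
      Nat.add_comm 1 n ▸ SetLike.GradedSMul.smul_mem hx m.2.2⟩
  let φ : deg ℳ N n →ₗ[A] deg ℳ C (n + 1) ⧸ P := P.mkQ ∘ₗ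
    { toFun := fun m => ⟨x • (m : M), hmul m⟩
      map_add' := fun a b => Subtype.ext (smul_add x (a : M) (b : M))
      map_smul' := fun a b => Subtype.ext (smul_comm x a (b : M)) }
  have e1 := clSub_ses (A := A) (Submodule.inclusion (inf_le_inf_right (ℳ n) (show K.restrictScalars A ≤ N.restrictScalars A
      from fun m hm => hm.1)) : deg ℳ K n →ₗ[A] deg ℳ N n) φ (Submodule.inclusion_injective _) ?_ ?_
  have e2 := clSub_ses (A := A) (Submodule.inclusion (inf_le_inf_right (ℳ (n + 1)) (show N'.restrictScalars A ≤ C.restrictScalars A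
      from fun m hm => Submodule.mem_sup_right hm)) : deg ℳ N' (n + 1) →ₗ[A] deg ℳ C (n + 1)) P.mkQ
      (Submodule.inclusion_injective _) P.mkQ_surjective ?_
  · simp only [cl]
    rw [e1, e2]
    abel
  · intro y
    rw [Submodule.mkQ_apply, Submodule.Quotient.mk_eq_zero]
    constructor
    · intro h; exact ⟨⟨y, h⟩, rfl⟩
    · rintro ⟨z, rfl⟩; exact z.2
  · intro q
    obtain ⟨⟨y, hyC, hydeg⟩, rfl⟩ := P.mkQ_surjective q
    obtain ⟨_, ⟨m, hm, rfl⟩, b, hb, hab⟩ := Submodule.mem_sup.1 hyC
    refine ⟨⟨pr ℳ n m, hN m hm n, pr_mem ℳ n m⟩, ?_⟩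
    have e := congrArg (pr ℳ (n + 1)) hab
    simp only [LinearMap.smul_apply, LinearMap.id_apply, pr_add, pr_smul 𝒜 ℳ hx, Nat.le_add_left, if_true,
      Nat.add_sub_cancel, pr_self ℳ hydeg] at e
    refine (Submodule.Quotient.eq P).2 ⟨?_, ?_⟩
    · show x • pr ℳ n m - y ∈ N'
      rw [← e, sub_add_cancel_left]
      exact N'.neg_mem (hN' b hb _)
    · show x • pr ℳ n m - y ∈ ℳ (n + 1)
      exact sub_mem (Nat.add_comm 1 n ▸ SetLike.GradedSMul.smul_mem hx (pr_mem ℳ n m)) hydeg
  · intro m
    constructor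
    · intro h
      have h' := (Submodule.Quotient.mk_eq_zero P).1 h
      exact ⟨⟨m, ⟨m.2.1, h'.1⟩, m.2.2⟩, rfl⟩
    · rintro ⟨z, rfl⟩
      refine (Submodule.Quotient.mk_eq_zero P).2 ⟨z.2.1.2, ?_⟩
      show x • (z : M) ∈ ℳ (n + 1)
      exact Nat.add_comm 1 n ▸ SetLike.GradedSMul.smul_mem hx z.2.2

include h0 in
theorem evPol_of (h1 : (HomogeneousIdeal.irrelevant 𝒜).toIdeal = Ideal.span (𝒜 1 : Set S)) (T : Finset S) :
    (∀ x ∈ T, x ∈ 𝒜 1) → ∀ N N' : Submodule S M, N' ≤ N → IsHom ℳ N → IsHom ℳ N' →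
      (𝒜 1 : Set S) ⊆ ↑(Ideal.span (T : Set S) ⊔ N'.colon (N : Set M)) →
      EvPol fun n => cl ℳ N n - cl ℳ N' n := by
  classical
  induction T using Finset.induction with
  | empty =>
    intro _ N N' hle hN hN' hcol
    haveI : IsNoetherian S M := isNoetherian_of_isNoetherianRing_of_finite S M
    obtain ⟨G, hG⟩ := IsNoetherian.noetherian N
    refine ⟨0, 0, (G.sup fun g => (DirectSum.decompose ℳ g).support.sup id) + 1, fun n hn => ?_⟩
    rw [Finset.sum_range_zero, sub_eq_zero]
    have hirr : (HomogeneousIdeal.irrelevant 𝒜).toIdeal ≤ N'.colon (N : Set M) := by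
      rw [h1, Ideal.span_le]
      simpa using hcol
    have key : ∀ m ∈ N, ∀ k, (G.sup fun g => (DirectSum.decompose ℳ g).support.sup id) + 1 ≤ k → pr ℳ k m ∈ N' := by
      intro m hm
      rw [← hG] at hm
      induction hm using Submodule.span_induction with
      | mem g hg =>
        intro k hk
        by_contra hne
        have hsup : k ∈ (DirectSum.decompose ℳ g).support := by
          rw [DFinsupp.mem_support_iff]
          intro h0'
          exact hne (by rw [pr, h0']; exact zero_mem _)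
        have h1' : k ≤ (DirectSum.decompose ℳ g).support.sup id := Finset.le_sup (f := id) hsup
        have h2' : (DirectSum.decompose ℳ g).support.sup id ≤
            G.sup fun g => (DirectSum.decompose ℳ g).support.sup id :=
          Finset.le_sup (f := fun g => (DirectSum.decompose ℳ g).support.sup id) hg
        omega
      | zero => intro k _; rw [pr_zero]; exact zero_mem _
      | add a b _ _ ha hb => intro k hk; rw [pr_add]; exact add_mem (ha k hk) (hb k hk)
      | smul t x hxN hx =>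
        induction t using DirectSum.Decomposition.inductionOn 𝒜 with
        | zero => intro k _; rw [zero_smul, pr_zero]; exact zero_mem _
        | homogeneous t =>
          rename_i j
          intro k hk
          rw [pr_smul 𝒜 ℳ t.2]
          split_ifs with hj
          · rcases Nat.eq_zero_or_pos j with rfl | hpos
            · exact N'.smul_mem _ (hx k (by simpa using hk))
            · have : (t : S) ∈ N'.colon (N : Set M) := hirr (HomogeneousIdeal.mem_irrelevant_of_mem 𝒜 hpos t.2)
              exact Submodule.mem_colon.1 this _ (hN x (hG ▸ hxN) _)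
          · exact zero_mem _
        | add a b ha hb => intro k hk; rw [add_smul, pr_add]; exact add_mem (ha k hk) (hb k hk)
    have : deg ℳ N n = deg ℳ N' n :=
      le_antisymm (fun m hm => ⟨by
        have h := key m hm.1 n hn
        rwa [pr_self ℳ hm.2] at h, hm.2⟩) fun m hm => ⟨hle hm.1, hm.2⟩
    show cl ℳ N n = cl ℳ N' n
    rw [cl, cl, this]
  | insert x T _ ih =>
    intro hT N N' hle hN hN' hcol
    have hx : x ∈ 𝒜 1 := hT x (Finset.mem_insert_self x T)
    have hT' : ∀ y ∈ T, y ∈ 𝒜 1 := fun y hy => hT y (Finset.mem_insert_of_mem hy)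
    set K := N ⊓ N'.comap (x • (LinearMap.id : M →ₗ[S] M)) with hKdef
    set C := N.map (x • (LinearMap.id : M →ₗ[S] M)) ⊔ N' with hCdef
    have hKN' : N' ≤ K := le_inf hle fun m hm => N'.smul_mem x hm
    have hCN : C ≤ N := sup_le (by rintro _ ⟨m, hm, rfl⟩; exact N.smul_mem x hm) hle
    have hKh : IsHom ℳ K := fun m hm n => ⟨hN m hm.1 n, by
      have := hN' _ hm.2 (n + 1)
      simp only [LinearMap.smul_apply, LinearMap.id_apply, pr_smul 𝒜 ℳ hx] at this
      simpa using this⟩
    have hCh : IsHom ℳ C := by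
      intro m hm n
      obtain ⟨_, ⟨a, ha, rfl⟩, b, hb, rfl⟩ := Submodule.mem_sup.1 hm
      rw [pr_add]
      refine Submodule.add_mem_sup ?_ (hN' b hb n)
      simp only [LinearMap.smul_apply, LinearMap.id_apply, pr_smul 𝒜 ℳ hx]
      split_ifs
      · exact ⟨_, hN a ha _, rfl⟩
      · exact zero_mem _
    have hsub : ∀ P Q : Submodule S M, N'.colon (N : Set M) ≤ Q.colon (P : Set M) → x ∈ Q.colon (P : Set M) →
        (𝒜 1 : Set S) ⊆ ↑(Ideal.span (T : Set S) ⊔ Q.colon (P : Set M)) := by
      intro P Q h hxQ s hs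
      refine (sup_le ?_ (h.trans le_sup_right) : Ideal.span ((insert x T : Finset S) : Set S) ⊔
        N'.colon (N : Set M) ≤ _) (hcol hs)
      rw [Finset.coe_insert, Ideal.span_insert]
      exact sup_le (((Ideal.span_singleton_le_iff_mem _).2 hxQ).trans le_sup_right) le_sup_left
    have hK := ih hT' K N' hKN' hKh hN' (hsub K N'
      (fun s hs => Submodule.mem_colon.2 fun m hm => Submodule.mem_colon.1 hs m hm.1)
      (Submodule.mem_colon.2 fun m hm => hm.2))
    have hC := ih hT' N C hCN hN hCh (hsub N C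
      (fun s hs => Submodule.mem_colon.2 fun m hm => Submodule.mem_sup_right (Submodule.mem_colon.1 hs m hm))
      (Submodule.mem_colon.2 fun m hm => Submodule.mem_sup_left ⟨m, hm, rfl⟩))
    refine EvPol.of_diff ((hC.shift.sub hK).congr 0 fun n _ => ?_)
    have := cl_step 𝒜 ℳ h0 hle hN hN' hx n
    rw [sub_eq_sub_iff_add_eq_add] at this
    show _ = _
    rw [← sub_eq_zero]
    have h' : cl ℳ C (n + 1) + cl ℳ K n - (cl ℳ N n + cl ℳ N' (n + 1)) = 0 := by
      rw [this, hKdef, hCdef]; abel
    rw [← h']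
    abel

end Graded

/-- Let S be a Noetherian ℕ-graded ring, presented as a graded algebra over a ring A mapping onto S₀,
whose irrelevant ideal S₊ is generated as an ideal by the degree-1 part S₁, and let M be a finitely
generated graded S-module, graded in nonnegative degrees. (The published statement allows modules
graded in all integer degrees; this row takes modules graded in degrees ≥ 0, which loses nothing for
large n.) Write K'₀(A) for the Grothendieck group of finite A-modules (the free abelian group on the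
finite A-modules modulo the relations given by short exact sequences) and [M_n] for the class of the
finite A-module M_n. Then n ↦ [M_n] is a numerical polynomial: there are a_0, …, a_{r-1} in K'₀(A)
with [M_n] = Σ_i C(n, i) · a_i for all large n. (When A → S₀ is bijective K'₀(A) is K'₀(S₀), the
group of the published statement; in general the classes are taken after restricting scalars along A
→ S₀.) -/
theorem result {A S : Type u} [CommRing A] [CommRing S] [Algebra A S] [IsNoetherianRing S] (𝒜 : ℕ → Submodule A S) [GradedAlgebra 𝒜]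
    (h0 : ∀ s ∈ 𝒜 0, s ∈ Set.range (algebraMap A S))
    (h1 : (HomogeneousIdeal.irrelevant 𝒜).toIdeal = Ideal.span (𝒜 1 : Set S))
    (M : Type u) [AddCommGroup M] [Module A M] [Module S M] [IsScalarTower A S M] [Module.Finite S M] (ℳ : ℕ → Submodule A M) [DirectSum.Decomposition ℳ] [SetLike.GradedSMul 𝒜 ℳ] :
    ∃ (r : ℕ) (a : Fin r → KZero.K0sub (fun X : ModuleCat.{u} A => Module.Finite A X)) (N : ℕ), ∀ n : ℕ, N ≤ n →
      KZero.clSub (fun X : ModuleCat.{u} A => Module.Finite A X) (ModuleCat.of A ↥(ℳ n)) = ∑ i : Fin r, ((n.choose (i : ℕ) : ℕ) : ℤ) • a i := by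
  classical
  obtain ⟨T, hT, hspan⟩ := (Submodule.fg_span_iff_fg_span_finset_subset (R := S) (M := S) (𝒜 1 : Set S)).1
    (IsNoetherian.noetherian _)
  have h := evPol_of 𝒜 ℳ h0 h1 T hT ⊤ ⊥ bot_le (fun _ _ _ => trivial)
    (fun m hm n => by rw [(Submodule.mem_bot S).1 hm, pr_zero]; exact zero_mem _)
    (fun s hs => Submodule.mem_sup_left (show s ∈ Submodule.span S (T : Set S) from hspan ▸ Submodule.subset_span hs))
  obtain ⟨r, a, N, hN⟩ := h
  refine ⟨r, fun i => a i, N, fun n hn => ?_⟩
  rw [Fin.sum_univ_eq_sum_range (fun i => ((n.choose i : ℕ) : ℤ) • a i) r, ← hN n hn]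
  simp only [cl]
  haveI := finite_deg 𝒜 ℳ h0 (⊥ : Submodule S M) n
  haveI := finite_deg 𝒜 ℳ h0 (⊤ : Submodule S M) n
  have e : deg ℳ (⊥ : Submodule S M) n = ⊥ := by simp [deg]
  have e' : deg ℳ (⊤ : Submodule S M) n = ℳ n := by simp [deg]
  rw [e, e']
  have hz := clSub_ses (A := A) (LinearMap.id : (⊥ : Submodule A M) →ₗ[A] _) (0 : (⊥ : Submodule A M) →ₗ[A] (⊥ : Submodule A M))
    Function.injective_id (fun y => ⟨0, Subsingleton.elim _ _⟩) (fun y => ⟨fun _ => ⟨y, rfl⟩, fun _ => Subsingleton.elim _ _⟩)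
  rw [left_eq_add.1 hz, sub_zero]

end Groth.Agent.S9662
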