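import Groth.Statements.S9663
import Mathlib

set_option autoImplicit false
universe u
open CAlg

namespace Groth.Agent.S9663

/-- Let R be a ring and f_i, i in a finite index set, elements of R (no condition on the ideal they
generate). Suppose given for each i an R-module M_i on which f_i acts invertibly, for each pair (i,
j) an R-linear isomorphism ψ_ij : (M_i)_{f_j} → (M_j)_{f_i}, and suppose the cocycle condition ψ_jk
∘ ψ_ij = ψ_ik holds as maps (M_i)_{f_j f_k} → (M_k)_{f_i f_j} for all triples (i, j, k). All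
localizations are given through their universal properties: (M_i)_{f_j} with its map g from M_i;
(M_i)_{f_j f_k} with its map t from M_i and the compatible maps u from (M_i)_{f_j} and v from
(M_i)_{f_k}; and the three localized isomorphisms Ψ₁ (ψ_ij on (M_i)_{f_j f_k}), Ψ₂ (ψ_jk on
(M_j)_{f_i f_k}) and Ψ₃ (ψ_ik on (M_i)_{f_j f_k}) are given as maps compatible with the ψ's. Let M ⊆
Π_i M_i be the submodule of families (m_i) with m_i/1 = ψ_ji(m_j/1) in (M_i)_{f_j} for all i, j.
Then for each i the projection M → M_i exhibits M_i as the localization of M at f_i. -/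
theorem result {R : Type u} [CommRing R] {ι : Type u} [Finite ι] (f : ι → R)
    (Mi : ι → Type u) [∀ i, AddCommGroup (Mi i)] [∀ i, Module R (Mi i)]
    (hMi : ∀ i, IsUnit (algebraMap R (Module.End R (Mi i)) (f i)))
    (Mij : ι → ι → Type u) [∀ i j, AddCommGroup (Mij i j)] [∀ i j, Module R (Mij i j)]
    (g : ∀ i j, Mi i →ₗ[R] Mij i j) [∀ i j, IsLocalizedModule (Submonoid.powers (f j)) (g i j)]
    (ψ : ∀ i j, Mij i j ≃ₗ[R] Mij j i)
    (T : ι → ι → ι → Type u) [∀ i j k, AddCommGroup (T i j k)] [∀ i j k, Module R (T i j k)]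
    (t : ∀ i j k, Mi i →ₗ[R] T i j k) [∀ i j k, IsLocalizedModule (Submonoid.powers (f j * f k)) (t i j k)]
    (u : ∀ i j k, Mij i j →ₗ[R] T i j k) (hu : ∀ i j k, u i j k ∘ₗ g i j = t i j k)
    (v : ∀ i j k, Mij i k →ₗ[R] T i j k) (hv : ∀ i j k, v i j k ∘ₗ g i k = t i j k)
    (Ψ₁ : ∀ i j k, T i j k →ₗ[R] T j i k) (hΨ₁ : ∀ i j k, Ψ₁ i j k ∘ₗ u i j k = u j i k ∘ₗ (ψ i j).toLinearMap)
    (Ψ₂ : ∀ i j k, T j i k →ₗ[R] T k i j) (hΨ₂ : ∀ i j k, Ψ₂ i j k ∘ₗ v j i k = v k i j ∘ₗ (ψ j k).toLinearMap)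
    (Ψ₃ : ∀ i j k, T i j k →ₗ[R] T k i j) (hΨ₃ : ∀ i j k, Ψ₃ i j k ∘ₗ v i j k = u k i j ∘ₗ (ψ i k).toLinearMap)
    (hcoc : ∀ i j k, Ψ₂ i j k ∘ₗ Ψ₁ i j k = Ψ₃ i j k)
    (M : Submodule R (∀ i, Mi i)) (hM : ∀ m : ∀ i, Mi i, m ∈ M ↔ ∀ i j, g i j (m i) = ψ j i (g j i (m j))) (i : ι) :
    IsLocalizedModule (Submonoid.powers (f i)) ((LinearMap.proj i).comp M.subtype : ↥M →ₗ[R] Mi i) := by
  classical
  have := Fintype.ofFinite ι
  have hinj : ∀ (a : ℕ) (y : Mi i), f i ^ a • y = 0 → y = 0 := fun a y h => by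
    have hu := (hMi i).pow a
    rw [← map_pow] at hu
    exact ((Module.End.isUnit_iff _).1 hu).injective (h.trans (map_zero _).symm)
  have hu' : ∀ i j k y, u i j k (g i j y) = t i j k y := fun i j k y => LinearMap.congr_fun (hu i j k) y
  have hv' : ∀ i j k y, v i j k (g i k y) = t i j k y := fun i j k y => LinearMap.congr_fun (hv i j k) y
  -- ψ i i fixes elements coming from M_i
  have hii : ∀ y, ψ i i (g i i y) = g i i y := by
    have hsurj : Function.Surjective (g i i) := fun z => by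
      obtain ⟨⟨w, ⟨_, a, rfl⟩⟩, hw⟩ := IsLocalizedModule.surj (Submonoid.powers (f i)) (g i i) z
      have hua := (hMi i).pow a
      rw [← map_pow] at hua
      obtain ⟨w', rfl⟩ := ((Module.End.isUnit_iff _).1 hua).surjective w
      refine ⟨w', ((Module.End.isUnit_iff _).1 (IsLocalizedModule.map_units (g i i)
        (⟨f i ^ a, a, rfl⟩ : Submonoid.powers (f i)))).injective ?_⟩
      simp only [Module.algebraMap_end_apply] at hw ⊢
      rw [← map_smul]
      exact hw.symm
    have tinj : ∀ y, t i i i y = 0 → y = 0 := by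
      intro y hy
      obtain ⟨⟨_, a, rfl⟩, ha⟩ := (IsLocalizedModule.eq_zero_iff (Submonoid.powers (f i * f i)) (t i i i)).1 hy
      rw [Submonoid.smul_def] at ha
      simp only [← pow_two, ← pow_mul] at ha
      exact hinj _ _ ha
    have huv : ∀ z, u i i i z = v i i i z := fun z => by
      obtain ⟨w, rfl⟩ := hsurj z; rw [hu', hv']
    intro y
    obtain ⟨y1, hy1⟩ := hsurj (ψ i i (g i i y))
    obtain ⟨y2, hy2⟩ := hsurj (ψ i i (g i i y1))
    have e1 : Ψ₁ i i i (t i i i y) = t i i i y1 := by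
      rw [← hu', ← hu', hy1]
      exact LinearMap.congr_fun (hΨ₁ i i i) _
    have e2 : Ψ₂ i i i (t i i i y1) = t i i i y2 := by
      rw [← hv', ← hv' i i i y2, hy2]
      exact LinearMap.congr_fun (hΨ₂ i i i) _
    have e3 : Ψ₃ i i i (t i i i y) = t i i i y1 := by
      rw [← hv', ← hu' i i i y1, hy1]
      exact LinearMap.congr_fun (hΨ₃ i i i) _
    have h12 : t i i i y2 = t i i i y1 := by
      rw [← e2, ← e1, ← LinearMap.comp_apply, hcoc, e3, e1]
    have hy12 : y2 = y1 := sub_eq_zero.1 (tinj _ (by rw [map_sub, h12, sub_self]))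
    have h4 : g i i y1 = g i i y := (ψ i i).injective (by rw [← hy2, hy12, hy1])
    rw [← hy1, h4]
  have killv : ∀ j k (e : Mij k j), v k i j e = 0 → ∃ N, f i ^ N • e = 0 := by
    intro j k e he
    obtain ⟨⟨w, ⟨_, a, rfl⟩⟩, hw⟩ := IsLocalizedModule.surj (Submonoid.powers (f j)) (g k j) e
    rw [Submonoid.smul_def] at hw
    have htw : t k i j w = 0 := by rw [← hv', ← hw, map_smul, he, smul_zero]
    obtain ⟨⟨_, N, rfl⟩, hN⟩ := (IsLocalizedModule.eq_zero_iff (Submonoid.powers (f i * f j)) (t k i j)).1 htw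
    rw [Submonoid.smul_def] at hN
    simp only [mul_pow] at hN
    refine ⟨N, ?_⟩
    have h0 : f j ^ (N + a) • (f i ^ N • e) = 0 := by
      rw [smul_smul, show f j ^ (N + a) * f i ^ N = f i ^ N * f j ^ N * f j ^ a by ring, mul_smul, hw,
        ← map_smul, hN, map_zero]
    exact ((Module.End.isUnit_iff _).1 (IsLocalizedModule.map_units (g k j)
      (⟨f j ^ (N + a), _, rfl⟩ : Submonoid.powers (f j)))).injective
      (h0.trans (map_zero _).symm)
  refine ⟨fun x => ?_, fun x => ?_, fun {m m'} hmm => ?_⟩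
  · obtain ⟨_, a, rfl⟩ := x
    show IsUnit (algebraMap R (Module.End R (Mi i)) (f i ^ a))
    rw [map_pow]; exact (hMi i).pow a
  · -- surjectivity
    choose w s hs using fun j => IsLocalizedModule.surj (Submonoid.powers (f i)) (g j i) (ψ i j (g i j x))
      |>.elim fun p hp => (⟨p.1, p.2, hp⟩ : ∃ w s, (s : Submonoid.powers (f i)) • ψ i j (g i j x) = g j i w)
    choose n hn using fun j => (s j).2
    let n₀ := ∑ j, n j
    let z : ∀ j, Mi j := fun j => f i ^ (n₀ - n j) • w j
    have hz : ∀ j, g j i (z j) = f i ^ n₀ • ψ i j (g i j x) := by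
      intro j
      have hle : n j ≤ n₀ := Finset.single_le_sum (fun _ _ => Nat.zero_le _) (Finset.mem_univ j)
      rw [map_smul, ← hs j, Submonoid.smul_def, ← hn j, smul_smul, ← pow_add, Nat.sub_add_cancel hle]
    have hd : ∀ j k, ∃ N, f i ^ N • (ψ j k (g j k (z j)) - g k j (z k)) = 0 := by
      intro j k
      refine killv j k _ ?_
      rw [map_sub, sub_eq_zero]
      have h1 : t j i k (z j) = f i ^ n₀ • Ψ₁ i j k (t i j k x) := by
        rw [← hu', hz, map_smul, ← hu']
        exact congrArg _ (LinearMap.congr_fun (hΨ₁ i j k) _).symm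
      calc v k i j (ψ j k (g j k (z j)))
          = Ψ₂ i j k (v j i k (g j k (z j))) := (LinearMap.congr_fun (hΨ₂ i j k) _).symm
        _ = f i ^ n₀ • Ψ₃ i j k (t i j k x) := by
            rw [hv', h1, map_smul, ← LinearMap.comp_apply, hcoc]
        _ = f i ^ n₀ • u k i j (ψ i k (g i k x)) := by
            rw [← hv']; exact congrArg _ (LinearMap.congr_fun (hΨ₃ i j k) _)
        _ = v k i j (g k j (z k)) := by rw [← map_smul, ← hz, hu', hv']
    choose N hN using hd
    let N₀ := ∑ j, ∑ k, N j k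
    have hd0 : ∀ j k, f i ^ N₀ • (ψ j k (g j k (z j)) - g k j (z k)) = 0 := by
      intro j k
      have hle : N j k ≤ N₀ :=
        le_trans (Finset.single_le_sum (f := fun k => N j k) (fun _ _ => Nat.zero_le _) (Finset.mem_univ k))
          (Finset.single_le_sum (f := fun j => ∑ k, N j k) (fun _ _ => Nat.zero_le _) (Finset.mem_univ j))
      rw [← Nat.sub_add_cancel hle, pow_add, mul_smul, hN, smul_zero]
    let m : M := ⟨fun j => f i ^ N₀ • z j, (hM _).2 fun a b => by
      have := hd0 b a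
      rw [smul_sub, sub_eq_zero] at this
      simp only [map_smul]
      exact this.symm⟩
    refine ⟨⟨m, ⟨f i ^ (N₀ + n₀), _, rfl⟩⟩, ?_⟩
    show f i ^ (N₀ + n₀) • x = f i ^ N₀ • z i
    rw [pow_add, mul_smul]
    congr 1
    have h1 := hz i
    rw [hii, ← map_smul] at h1
    obtain ⟨⟨_, a, rfl⟩, ha⟩ := (IsLocalizedModule.eq_zero_iff (Submonoid.powers (f i)) (g i i)
      (m := z i - f i ^ n₀ • x)).1 (by rw [map_sub, h1, sub_self])
    exact (sub_eq_zero.1 (hinj a _ ha)).symm
  · -- equalizing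
    have hj : ∀ j, ∃ a, f i ^ a • (m.1 j - m'.1 j) = 0 := by
      intro j
      have h1 := (hM m.1).1 m.2 i j
      have h2 := (hM m'.1).1 m'.2 i j
      have hg : g j i (m.1 j - m'.1 j) = 0 := by
        apply (ψ j i).injective
        rw [map_zero, map_sub, map_sub, ← h1, ← h2, show m.1 i = m'.1 i from hmm, sub_self]
      obtain ⟨⟨_, a, rfl⟩, ha⟩ := (IsLocalizedModule.eq_zero_iff (Submonoid.powers (f i)) (g j i)).1 hg
      exact ⟨a, ha⟩
    choose a ha using hj
    refine ⟨⟨f i ^ (∑ j, a j), _, rfl⟩, Subtype.ext (funext fun j => ?_)⟩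
    show f i ^ (∑ j, a j) • m.1 j = f i ^ (∑ j, a j) • m'.1 j
    rw [← sub_eq_zero, ← smul_sub, ← Nat.sub_add_cancel (Finset.single_le_sum
      (fun _ _ => Nat.zero_le _) (Finset.mem_univ j) : a j ≤ ∑ j, a j), pow_add, mul_smul, ha, smul_zero]

end Groth.Agent.S9663
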