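import Groth.Statements.S9664
import Mathlib
-- import your own Groth.Agent.* helpers here

set_option autoImplicit false
universe u
open CAlg

namespace Groth.Agent.S9664

/-- Let R → S be a ring map, N an S-module, q a prime of S and p the prime of R below q; an associated
prime of a module is a prime ideal equal to the annihilator of some element. Then q is an associated
prime of the S-module N ⊗_R κ(p) (the fibre module of N over p, an S-module by restriction of
scalars along S → S ⊗_R κ(p)) if and only if q is the inverse image in S of an associated prime of N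
⊗_R κ(p) regarded as a module over the fibre ring S ⊗_R κ(p). -/
theorem result {R S : Type u} [CommRing R] [CommRing S] [Algebra R S] (N : Type u) [AddCommGroup N] [Module S N] [Module R N] [IsScalarTower R S N]
    (p : Ideal R) [p.IsPrime] (q : Ideal S) [q.IsPrime] (hq : q.comap (algebraMap R S) = p) :
    q ∈ FlatCA.ass S (FlatCA.fiberMod p S N) ↔
      ∃ Q ∈ FlatCA.ass (p.Fiber S) (FlatCA.fiberMod p S N),
        Q.comap (Algebra.TensorProduct.includeRight (R := R) (A := p.ResidueField) (B := S)).toRingHom = q := by
  letI := Algebra.TensorProduct.rightAlgebra (R := R) (A := p.ResidueField) (B := S)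
  set i : S →+* p.Fiber S :=
    (Algebra.TensorProduct.includeRight (R := R) (A := p.ResidueField) (B := S)).toRingHom
  have hsmul : ∀ (s : S) (x : FlatCA.fiberMod p S N), s • x = i s • x := by
    intro s x
    exact (algebraMap_smul (p.Fiber S) (M := TensorProduct S (p.Fiber S) N) s x).symm
  constructor
  · rintro ⟨hq', x, hx⟩
    refine ⟨(Submodule.span (p.Fiber S) {x}).annihilator, ⟨?_, x, rfl⟩, ?_⟩
    swap
    · rw [hx]; ext s
      simp only [Ideal.mem_comap, Submodule.mem_annihilator_span_singleton, hsmul]
    have key : ∀ z : p.Fiber S, ∃ r : R, r ∉ p ∧ ∃ s : S, r • z = i s := by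
      intro z
      obtain ⟨r, hr, s, hs⟩ := Ideal.Fiber.exists_smul_eq_one_tmul p z
      exact ⟨r, hr, s, hs⟩
    constructor
    · intro htop
      have h1 : (1 : p.Fiber S) • x = 0 := by
        have : (1 : p.Fiber S) ∈ (Submodule.span (p.Fiber S) {x}).annihilator := by
          rw [htop]; trivial
        simpa using this
      rw [one_smul] at h1
      apply hq'.ne_top
      rw [hx, h1]; simp [Submodule.annihilator_bot]
    · intro a b hab
      obtain ⟨ra, hra, sa, ha⟩ := key a
      obtain ⟨rb, hrb, sb, hb⟩ := key b
      have hunit : ∀ r : R, r ∉ p → IsUnit (algebraMap R (p.Fiber S) r) := by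
        intro r hr
        rw [IsScalarTower.algebraMap_apply R p.ResidueField (p.Fiber S)]
        refine (IsUnit.mk0 _ ?_).map _
        rwa [Ne, Ideal.algebraMap_residueField_eq_zero]
      have hmem : sa * sb ∈ q := by
        rw [hx, Submodule.mem_annihilator_span_singleton, hsmul, map_mul, ← ha, ← hb]
        rw [Submodule.mem_annihilator_span_singleton] at hab
        rw [Algebra.smul_def, Algebra.smul_def, mul_mul_mul_comm, mul_smul]
        rw [hab, smul_zero]
      rcases hq'.mem_or_mem hmem with h | h
      · left
        rw [hx, Submodule.mem_annihilator_span_singleton, hsmul, ← ha, Algebra.smul_def,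
          mul_smul] at h
        rw [Submodule.mem_annihilator_span_singleton]
        exact ((hunit ra hra).smul_eq_zero).mp h
      · right
        rw [hx, Submodule.mem_annihilator_span_singleton, hsmul, ← hb, Algebra.smul_def,
          mul_smul] at h
        rw [Submodule.mem_annihilator_span_singleton]
        exact ((hunit rb hrb).smul_eq_zero).mp h
  · rintro ⟨Q, ⟨hQ, x, rfl⟩, rfl⟩
    refine ⟨Ideal.IsPrime.comap _, x, ?_⟩
    ext s
    simp only [Ideal.mem_comap, Submodule.mem_annihilator_span_singleton, hsmul]

end Groth.Agent.S9664
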