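import Groth.Statements.S9665
import Mathlib
import Groth.Agent.FibKer.Basic
-- import your own Groth.Agent.* helpers here

set_option autoImplicit false
universe u
open CAlg

namespace Groth.Agent.S9665

/-- Part (2): (A_fin ⊆ A): let R → S be a ring map, N an S-module, q a prime of S and p the prime of R
below q; an associated prime of a module is a prime ideal equal to the annihilator of some element.
If q is an associated prime of the S-module N/pN, then q is an associated prime of the S-module N
⊗_R κ(p) (the fibre module over p, an S-module by restriction of scalars). -/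
theorem result {R S : Type u} [CommRing R] [CommRing S] [Algebra R S] (N : Type u) [AddCommGroup N] [Module S N] [Module R N] [IsScalarTower R S N]
    (p : Ideal R) [p.IsPrime] (q : Ideal S) [q.IsPrime] (hq : q.comap (algebraMap R S) = p)
    (h : q ∈ FlatCA.ass S (N ⧸ (p.map (algebraMap R S)) • (⊤ : Submodule S N))) :
    q ∈ FlatCA.ass S (FlatCA.fiberMod p S N) := by
  obtain ⟨hqp, x, hx⟩ := h
  obtain ⟨n, rfl⟩ := Submodule.Quotient.mk_surjective _ x
  refine ⟨hqp, FlatCA.toFiberMod p S N n, ?_⟩
  rw [hx]
  ext s
  simp only [Submodule.mem_annihilator_span_singleton, ← map_smul, ← Submodule.Quotient.mk_smul,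
    Submodule.Quotient.mk_eq_zero]
  refine ⟨fun h => Groth.FibKer.toFiberMod_eq_zero_of_mem p N h, fun h => ?_⟩
  obtain ⟨r, hr, hmem⟩ := Groth.FibKer.exists_smul_mem p N h
  rw [← IsScalarTower.algebraMap_smul S r, ← mul_smul] at hmem
  have hrq : algebraMap R S r * s ∈ q := by
    rw [hx, Submodule.mem_annihilator_span_singleton, ← Submodule.Quotient.mk_smul,
      Submodule.Quotient.mk_eq_zero]
    exact hmem
  have hs : s ∈ q := (hqp.mem_or_mem hrq).resolve_left (fun h' => hr (hq ▸ h'))
  rw [hx, Submodule.mem_annihilator_span_singleton, ← Submodule.Quotient.mk_smul,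
    Submodule.Quotient.mk_eq_zero] at hs
  exact hs

end Groth.Agent.S9665
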