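import Groth.Statements.S9666
import Mathlib
import Groth.Agent.FibKer.Basic
-- import your own Groth.Agent.* helpers here

set_option autoImplicit false
universe u
open CAlg

namespace Groth.Agent.S9666

/-- Part (3): (A ⊆ A_fin): let R → S be a ring map with S Noetherian, N an S-module, q a prime of S and
p the prime of R below q; an associated prime of a module is a prime ideal equal to the annihilator
of some element. If q is an associated prime of the S-module N ⊗_R κ(p) (the fibre module over p, an
S-module by restriction of scalars), then q is an associated prime of the S-module N/pN. -/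
theorem result {R S : Type u} [CommRing R] [CommRing S] [Algebra R S] (N : Type u) [AddCommGroup N] [Module S N] [Module R N] [IsScalarTower R S N] [IsNoetherianRing S]
    (p : Ideal R) [p.IsPrime] (q : Ideal S) [q.IsPrime] (hq : q.comap (algebraMap R S) = p)
    (h : q ∈ FlatCA.ass S (FlatCA.fiberMod p S N)) :
    q ∈ FlatCA.ass S (N ⧸ (p.map (algebraMap R S)) • (⊤ : Submodule S N)) := by
  classical
  obtain ⟨hqp, x, hx⟩ := h
  obtain ⟨r₀, hr₀, n, hn⟩ := Groth.FibKer.exists_smul_eq p N x
  have hr₀q : algebraMap R S r₀ ∉ q := fun h => hr₀ (hq ▸ h)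
  have hqn : ∀ s : S, s ∈ q ↔ FlatCA.toFiberMod p S N (s • n) = 0 := by
    intro s
    rw [map_smul, ← hn, hx, Submodule.mem_annihilator_span_singleton, ← mul_smul]
    refine ⟨fun h => by rw [mul_comm, mul_smul, h, smul_zero], fun h => ?_⟩
    have : s * algebraMap R S r₀ ∈ q := by
      rw [hx, Submodule.mem_annihilator_span_singleton]; exact h
    have := (hqp.mem_or_mem this).resolve_right hr₀q
    rwa [hx, Submodule.mem_annihilator_span_singleton] at this
  obtain ⟨t, ht⟩ : q.FG := IsNoetherian.noetherian q
  have hgen : ∀ g : {g // g ∈ t}, ∃ r : R, r ∉ p ∧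
      r • (g.1 • n) ∈ (p.map (algebraMap R S)) • (⊤ : Submodule S N) := fun g =>
    Groth.FibKer.exists_smul_mem p N ((hqn g.1).mp (ht.le (Submodule.subset_span g.2)))
  choose r hr hmem using hgen
  let c : S := algebraMap R S (∏ g, r g)
  have hc : c ∉ q := by
    intro h
    have : ∏ g, r g ∈ p := hq ▸ h
    rw [(inferInstance : p.IsPrime).prod_mem_iff] at this
    obtain ⟨g, -, hg⟩ := this
    exact hr g hg
  refine ⟨hqp, Submodule.Quotient.mk (c • n), le_antisymm ?_ ?_⟩
  · rw [← ht, Submodule.span_le]
    intro g hg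
    rw [SetLike.mem_coe, Submodule.mem_annihilator_span_singleton, ← Submodule.Quotient.mk_smul,
      Submodule.Quotient.mk_eq_zero, smul_comm]
    obtain ⟨d, hd⟩ := Finset.dvd_prod_of_mem r (Finset.mem_univ (⟨g, hg⟩ : {g // g ∈ t}))
    simp only [c]
    rw [hd, mul_comm, map_mul, mul_smul, IsScalarTower.algebraMap_smul S (r ⟨g, hg⟩)]
    exact Submodule.smul_mem _ _ (hmem ⟨g, hg⟩)
  · intro s hs
    rw [Submodule.mem_annihilator_span_singleton, ← Submodule.Quotient.mk_smul,
      Submodule.Quotient.mk_eq_zero, ← mul_smul] at hs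
    have := (hqn (s * c)).mpr (Groth.FibKer.toFiberMod_eq_zero_of_mem p N hs)
    exact (hqp.mem_or_mem this).resolve_right hc

end Groth.Agent.S9666
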