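import Mathlib
import Groth.Statements.S9667
-- import your own Groth.Agent.* helpers here

set_option autoImplicit false
universe u
open CAlg

namespace Groth.Agent.S9667

open scoped TensorProduct

open TensorProduct in
/-- Part (3): (B = B_fin): let R → S be a ring map with S Noetherian, N an S-module, M an R-module and q
a prime of S; an associated prime of a module is a prime ideal equal to the annihilator of some
element. If q is an associated prime of the S-module N ⊗_R M, then there is a finitely generated
R-submodule M' ⊆ M such that q is an associated prime of the S-module N ⊗_R M'. -/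
theorem result {R S : Type u} [CommRing R] [CommRing S] [Algebra R S] (N : Type u) [AddCommGroup N] [Module S N] [Module R N] [IsScalarTower R S N] [IsNoetherianRing S]
    (M : Type u) [AddCommGroup M] [Module R M] (q : Ideal S) [q.IsPrime] (h : q ∈ FlatCA.ass S (N ⊗[R] M)) :
    ∃ M' : Submodule R M, M'.FG ∧ q ∈ FlatCA.ass S (N ⊗[R] ↥M') := by
  classical
  obtain ⟨hqp, z, hz⟩ := h
  obtain ⟨M₀, hM₀, z₀, rfl⟩ : ∃ M₀ : Submodule R M, M₀.FG ∧ ∃ z₀, z = M₀.subtype.lTensor N z₀ := by
    obtain ⟨M₀, hfin, hz'⟩ := TensorProduct.exists_finite_submodule_right_of_setFinite {z} (Set.finite_singleton z)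
    obtain ⟨z₀, hz₀⟩ := hz' rfl
    exact ⟨M₀, Module.Finite.iff_fg.1 hfin, z₀, hz₀.symm⟩
  have hlin : ∀ {P P' : Type u} [AddCommGroup P] [Module R P] [AddCommGroup P'] [Module R P'] (g : P →ₗ[R] P') (c : S) (u : N ⊗[R] P),
      g.lTensor N (c • u) = c • g.lTensor N u := by
    intro P P' _ _ _ _ g c u
    induction u using TensorProduct.induction_on with
    | zero => simp
    | tmul x y => simp [TensorProduct.smul_tmul']
    | add u v hu hv => simp only [smul_add, map_add, hu, hv]
  obtain ⟨G, hG⟩ := (IsNoetherian.noetherian q : q.FG)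
  have hkill : ∀ c ∈ G, ∃ (Q : Submodule R M) (hle : M₀ ≤ Q), Q.FG ∧ (Submodule.inclusion hle).lTensor N (c • z₀) = 0 := by
    intro c hc
    have hc0 : M₀.subtype.lTensor N (c • z₀) = 0 := by
      rw [hlin]
      have : c ∈ q := hG ▸ Ideal.subset_span hc
      rw [hz, Submodule.mem_annihilator_span_singleton] at this
      exact this
    have comm : ∀ {P P' : Type u} [AddCommGroup P] [Module R P] [AddCommGroup P'] [Module R P'] (g : P →ₗ[R] P') (u : N ⊗[R] P),
        TensorProduct.comm R N P' (g.lTensor N u) = g.rTensor N (TensorProduct.comm R N P u) := by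
      intro P P' _ _ _ _ g u
      induction u using TensorProduct.induction_on with
      | zero => simp
      | tmul x y => simp
      | add u v hu hv => simp only [map_add, hu, hv]
    obtain ⟨Q, hle, hQ, h0⟩ := TensorProduct.eq_zero_of_fg_of_subtype_eq_zero hM₀
      (t := TensorProduct.comm R N M₀ (c • z₀)) (by rw [← comm, hc0, map_zero])
    exact ⟨Q, hle, hQ, (TensorProduct.comm R N Q).injective (by rw [comm, h0, map_zero])⟩
  choose Q hle hQ hQ0 using hkill
  let M' := M₀ ⊔ G.attach.sup fun c => Q c.1 c.2
  have hM' : M'.FG := hM₀.sup (Finset.sup_induction Submodule.fg_bot (fun _ h _ h' => h.sup h') (fun c _ => hQ c.1 c.2))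
  refine ⟨M', hM', hqp, (Submodule.inclusion (le_sup_left : M₀ ≤ M')).lTensor N z₀, le_antisymm ?_ ?_⟩
  · refine hG ▸ Ideal.span_le.2 fun c hc => ?_
    rw [SetLike.mem_coe, Submodule.mem_annihilator_span_singleton, ← hlin]
    have hle' : Q c hc ≤ M' := (Finset.le_sup (f := fun c : G => Q c.1 c.2) (Finset.mem_attach G ⟨c, hc⟩)).trans le_sup_right
    rw [show Submodule.inclusion (le_sup_left : M₀ ≤ M') = (Submodule.inclusion hle').comp (Submodule.inclusion (hle c hc)) from rfl,
      LinearMap.lTensor_comp_apply, hQ0 c hc, map_zero]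
  · intro c hc
    rw [Submodule.mem_annihilator_span_singleton, ← hlin] at hc
    rw [hz, Submodule.mem_annihilator_span_singleton, ← hlin]
    have := congrArg (M'.subtype.lTensor N) hc
    rwa [map_zero, ← LinearMap.lTensor_comp_apply, Submodule.subtype_comp_inclusion] at this

end Groth.Agent.S9667
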