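import Groth.Statements.S9668
import Mathlib
-- import your own Groth.Agent.* helpers here

set_option autoImplicit false
universe u
open CAlg

namespace Groth.Agent.S9668

open TensorProduct in
/-- Part (4): (B = B_fin): let R → S be a ring map, N an S-module flat over R, M an R-module and q a
prime of S; an associated prime of a module is a prime ideal equal to the annihilator of some
element. If q is an associated prime of the S-module N ⊗_R M, then there is a finitely generated
R-submodule M' ⊆ M such that q is an associated prime of the S-module N ⊗_R M'. -/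
theorem result {R S : Type u} [CommRing R] [CommRing S] [Algebra R S] (N : Type u) [AddCommGroup N] [Module S N] [Module R N] [IsScalarTower R S N] [Module.Flat R N]
    (M : Type u) [AddCommGroup M] [Module R M] (q : Ideal S) [q.IsPrime] (h : q ∈ FlatCA.ass S (N ⊗[R] M)) :
    ∃ M' : Submodule R M, M'.FG ∧ q ∈ FlatCA.ass S (N ⊗[R] ↥M') := by
  obtain ⟨hq, x, hx⟩ := h
  obtain ⟨M', hM', y, hy⟩ : ∃ M' : Submodule R M, M'.FG ∧
      x ∈ Set.range (TensorProduct.AlgebraTensorModule.lTensor S N M'.subtype) := by
    clear hx
    induction x using TensorProduct.induction_on with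
    | zero => exact ⟨⊥, Submodule.fg_bot, 0, map_zero _⟩
    | tmul n m =>
      exact ⟨Submodule.span R {m}, Submodule.fg_span_singleton m,
        n ⊗ₜ ⟨m, Submodule.mem_span_singleton_self m⟩, by simp⟩
    | add a b ha hb =>
      obtain ⟨M1, h1, y1, rfl⟩ := ha
      obtain ⟨M2, h2, y2, rfl⟩ := hb
      refine ⟨M1 ⊔ M2, h1.sup h2,
        TensorProduct.AlgebraTensorModule.lTensor S N (Submodule.inclusion le_sup_left) y1 +
        TensorProduct.AlgebraTensorModule.lTensor S N (Submodule.inclusion le_sup_right) y2, ?_⟩
      rw [map_add, ← LinearMap.comp_apply, ← LinearMap.comp_apply,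
        ← TensorProduct.AlgebraTensorModule.lTensor_comp, ← TensorProduct.AlgebraTensorModule.lTensor_comp,
        Submodule.subtype_comp_inclusion, Submodule.subtype_comp_inclusion]
  have hinj : Function.Injective (TensorProduct.AlgebraTensorModule.lTensor S N M'.subtype) :=
    Module.Flat.lTensor_preserves_injective_linearMap M'.subtype M'.injective_subtype
  refine ⟨M', hM', hq, y, ?_⟩
  rw [hx]
  ext s
  rw [Submodule.mem_annihilator_span_singleton, Submodule.mem_annihilator_span_singleton, ← hy,
    ← map_smul, map_eq_zero_iff _ hinj]

end Groth.Agent.S9668
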