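import Groth.Statements.S9670
import Mathlib
import Groth.Agent.S9669
-- import your own Groth.Agent.* helpers here

set_option autoImplicit false
set_option backward.isDefEq.respectTransparency.types false
universe u
open CAlg

namespace Groth.Agent.S9670

open TensorProduct in
/-- Part (5): (B_fin ⊆ A_fin): let R → S be a ring map with R Noetherian, N an S-module flat over R, M a
finite R-module, q a prime of S and p the prime of R below q; an associated prime of a module is a
prime ideal equal to the annihilator of some element. If q is an associated prime of the S-module N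
⊗_R M, then q is an associated prime of the S-module N/pN. -/
theorem result {R S : Type u} [CommRing R] [CommRing S] [Algebra R S] (N : Type u) [AddCommGroup N] [Module S N] [Module R N] [IsScalarTower R S N] [IsNoetherianRing R] [Module.Flat R N]
    (M : Type u) [AddCommGroup M] [Module R M] [Module.Finite R M] (p : Ideal R) [p.IsPrime] (q : Ideal S) [q.IsPrime] (hq : q.comap (algebraMap R S) = p)
    (h : q ∈ FlatCA.ass S (N ⊗[R] M)) :
    q ∈ FlatCA.ass S (N ⧸ (p.map (algebraMap R S)) • (⊤ : Submodule S N)) := by
  revert h
  induction ‹Module.Finite R M› using IsNoetherianRing.induction_on_isQuotientEquivQuotientPrime R with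
  | subsingleton M =>
    rintro ⟨hq', x, hx⟩
    exfalso
    apply hq'.ne_top
    rw [hx, Subsingleton.elim x 0]
    simp [Submodule.annihilator_bot]
  | quotient M p' e =>
    rintro ⟨hq', x, hx⟩
    let E : (N ⊗[R] M) ≃ₗ[S] (N ⊗[R] (R ⧸ p'.1)) :=
      TensorProduct.AlgebraTensorModule.congr (LinearEquiv.refl S N) e
    let F : (N ⊗[R] (R ⧸ p'.1)) ≃ₗ[R] N ⧸ (p'.1 • (⊤ : Submodule R N)) :=
      TensorProduct.tensorQuotEquivQuotSMul N p'.1
    obtain ⟨n, hn⟩ := Submodule.Quotient.mk_surjective _ (F (E x))
    have hrest : ((p'.1.map (algebraMap R S)) • (⊤ : Submodule S N)).restrictScalars R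
        = p'.1 • (⊤ : Submodule R N) := by
      rw [Ideal.smul_restrictScalars, Submodule.restrictScalars_top]
    have hx' : E x = n ⊗ₜ[R] Ideal.Quotient.mk p'.1 1 := by
      apply F.injective
      rw [← hn]
      erw [TensorProduct.tensorQuotEquivQuotSMul_tmul_mk, one_smul]
    have hmem : q ∈ FlatCA.ass S (N ⧸ (p'.1.map (algebraMap R S)) • (⊤ : Submodule S N)) := by
      refine ⟨hq', Submodule.Quotient.mk n, ?_⟩
      rw [hx]
      ext s
      rw [Submodule.mem_annihilator_span_singleton, Submodule.mem_annihilator_span_singleton,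
        ← E.map_eq_zero_iff, map_smul, hx', TensorProduct.smul_tmul', ← Submodule.Quotient.mk_smul,
        Submodule.Quotient.mk_eq_zero, ← Submodule.restrictScalars_mem R, hrest,
        ← F.map_eq_zero_iff, ← Submodule.Quotient.mk_eq_zero]
      erw [TensorProduct.tensorQuotEquivQuotSMul_tmul_mk, one_smul]
    have hpp : p'.1 = p := ((Groth.Agent.S9669.result N p'.1).2 q hmem).symm.trans hq
    rwa [hpp] at hmem
  | exact M₁ M₂ M₃ f g hf hg hfg ih₁ ih₃ =>
    rintro ⟨hq', x, hx⟩
    let a : (N ⊗[R] M₁) →ₗ[S] (N ⊗[R] M₂) := TensorProduct.AlgebraTensorModule.map LinearMap.id f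
    let b : (N ⊗[R] M₂) →ₗ[S] (N ⊗[R] M₃) := TensorProduct.AlgebraTensorModule.map LinearMap.id g
    have ha : Function.Injective a := Module.Flat.lTensor_preserves_injective_linearMap f hf
    have hab : Function.Exact a b := lTensor_exact N hfg hg
    by_cases hbx : ∀ s : S, b (s • x) = 0 → s ∈ q
    · refine ih₃ ⟨hq', b x, le_antisymm (fun s hs => ?_) fun s hs => hbx s ?_⟩
      · rw [hx, Submodule.mem_annihilator_span_singleton] at hs
        rw [Submodule.mem_annihilator_span_singleton, ← map_smul, hs, map_zero]
      · rwa [Submodule.mem_annihilator_span_singleton, ← map_smul] at hs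
    · push Not at hbx
      obtain ⟨t, ht, htq⟩ := hbx
      obtain ⟨y, hy⟩ := (hab _).mp ht
      refine ih₁ ⟨hq', y, le_antisymm (fun s hs => ?_) fun s hs => ?_⟩
      · rw [hx, Submodule.mem_annihilator_span_singleton] at hs
        rw [Submodule.mem_annihilator_span_singleton]
        exact ha (by rw [map_smul, hy, smul_comm, hs, smul_zero, map_zero])
      · rw [Submodule.mem_annihilator_span_singleton] at hs
        have : s * t ∈ q := by
          rw [hx, Submodule.mem_annihilator_span_singleton, mul_smul, ← hy, ← map_smul, hs, map_zero]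
        exact (hq'.mem_or_mem this).resolve_right htq

end Groth.Agent.S9670
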