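import Groth.Statements.S9671
import Mathlib
-- import your own Groth.Agent.* helpers here

set_option autoImplicit false
universe u
open CAlg

namespace Groth.Agent.S9671

open Polynomial DirectSum

variable {R R' : Type u} [CommRing R] [CommRing R'] [Algebra R R'] (t : Finset R')

/-- generators -/
noncomputable def gens : Set (Polynomial (R × R')) :=
  insert (C ((0 : R), (1 : R')) * X) ((fun x => C ((0 : R), x) * X) '' (t : Set R'))

/-- the ring -/
abbrev S : Type u := ↥(Algebra.adjoin R (gens (R := R) t))

instance : AddSubgroupClass (Submodule R (S (R := R) t)) (S (R := R) t) where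
  add_mem := add_mem
  zero_mem := zero_mem
  neg_mem {s x} hx := by
    have := s.smul_mem (-1 : R) hx
    rwa [show (-1 : R) • x = -x by ext1; simp] at this

/-- its grading -/
noncomputable def gr (d : ℕ) : Submodule R (S (R := R) t) where
  carrier := {s | ∀ i, i ≠ d → (s : Polynomial (R × R')).coeff i = 0}
  zero_mem' i _ := by simp
  add_mem' ha hb i hi := by simp [ha i hi, hb i hi]
  smul_mem' c a ha i hi := by simp [Polynomial.coeff_smul, ha i hi]

theorem mem_gr {d : ℕ} {s : S (R := R) t} : s ∈ gr t d ↔ (s : Polynomial (R × R')) = monomial d ((s : Polynomial (R × R')).coeff d) := by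
  constructor
  · intro h
    ext1 i
    rw [coeff_monomial]
    split_ifs with hi
    · rw [hi]
    · exact h i (Ne.symm hi)
  · intro h i hi
    rw [h, coeff_monomial, if_neg (Ne.symm hi)]

instance gradedMonoid : SetLike.GradedMonoid (gr (R := R) t) where
  one_mem := fun i hi => by simp [coeff_one, hi]
  mul_mem d e a b ha hb := by
    intro i hi
    rw [MulMemClass.coe_mul, (mem_gr t).1 ha, (mem_gr t).1 hb, monomial_mul_monomial, coeff_monomial, if_neg (Ne.symm hi)]

theorem piece_mem (s : Polynomial (R × R')) (hs : s ∈ Algebra.adjoin R (gens (R := R) t)) :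
    ∀ d, monomial d (s.coeff d) ∈ Algebra.adjoin R (gens (R := R) t) := by
  induction hs using Algebra.adjoin_induction with
  | mem x hx =>
    intro d
    obtain ⟨c, rfl⟩ : ∃ c, x = C c * X := by
      rcases hx with rfl | ⟨y, -, rfl⟩ <;> exact ⟨_, rfl⟩
    rcases eq_or_ne d 1 with rfl | hd
    · rw [coeff_C_mul_X, if_pos rfl, ← C_mul_X_eq_monomial]
      exact Algebra.subset_adjoin hx
    · rw [coeff_C_mul_X, if_neg hd, map_zero]
      exact zero_mem _
  | algebraMap r =>
    intro d
    rw [Polynomial.algebraMap_apply, coeff_C]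
    split_ifs with hd
    · subst hd
      rw [monomial_zero_left, ← Polynomial.algebraMap_apply]
      exact Subalgebra.algebraMap_mem _ r
    · rw [map_zero]; exact zero_mem _
  | add x y _ _ hx hy => intro d; rw [coeff_add, map_add]; exact add_mem (hx d) (hy d)
  | mul x y _ _ hx hy =>
    intro d
    rw [coeff_mul, map_sum]
    refine sum_mem fun p hp => ?_
    rw [← Finset.HasAntidiagonal.mem_antidiagonal.1 hp, ← monomial_mul_monomial]
    exact mul_mem (hx _) (hy _)

theorem isInternal : DirectSum.IsInternal (gr (R := R) t) := by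
  classical
  refine ⟨fun x y h => ?_, fun s => ?_⟩
  · have key : ∀ (z : ⨁ i, gr (R := R) t i) (d : ℕ),
        ((DirectSum.coeAddMonoidHom (gr (R := R) t) z : S (R := R) t) : Polynomial (R × R')).coeff d =
          (((z d : gr (R := R) t d) : S (R := R) t) : Polynomial (R × R')).coeff d := by
      intro z d
      induction z using DirectSum.induction_on with
      | zero => simp
      | of i a =>
        rw [DirectSum.coeAddMonoidHom_of]
        rcases eq_or_ne i d with rfl | hi
        · rw [DirectSum.of_eq_same]
        · rw [DirectSum.of_eq_of_ne _ _ _ (Ne.symm hi), a.2 d (Ne.symm hi)]; simp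
      | add a b ha hb => simp [ha, hb]
    refine DFinsupp.ext fun d => Subtype.ext (Subtype.ext ?_)
    rw [(mem_gr t).1 (x d).2, (mem_gr t).1 (y d).2, ← key, ← key, h]
  · refine ⟨∑ d ∈ (s : Polynomial (R × R')).support, DirectSum.of (fun i => gr (R := R) t i) d
      ⟨⟨monomial d ((s : Polynomial (R × R')).coeff d), piece_mem t _ s.2 d⟩, fun i hi => by
        change (monomial d _).coeff i = 0
        rw [coeff_monomial, if_neg (Ne.symm hi)]⟩, Subtype.ext ?_⟩
    rw [map_sum, AddSubmonoidClass.coe_finsetSum]
    simp only [DirectSum.coeAddMonoidHom_of]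
    exact (as_sum_support _).symm

/-- the graded algebra structure -/
noncomputable instance graded : GradedAlgebra (gr (R := R) t) :=
  { gradedMonoid t, (isInternal t).chooseDecomposition with }

/-- `f` -/
noncomputable def f : S (R := R) t := ⟨C ((0 : R), (1 : R')) * X, Algebra.subset_adjoin (Set.mem_insert _ _)⟩

theorem f_mem : f (R := R) t ∈ gr t 1 := fun i hi => by
  change (C ((0 : R), (1 : R')) * X).coeff i = 0
  rw [coeff_C_mul_X, if_neg hi]

/-- dehomogenisation -/
noncomputable def g : S (R := R) t →ₐ[R] R' :=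
  (AlgHom.snd R R R').comp (((Polynomial.aeval (1 : R × R')).restrictScalars R).comp (Subalgebra.val _))

theorem g_apply {d : ℕ} {s : S (R := R) t} (hs : s ∈ gr t d) : g t s = ((s : Polynomial (R × R')).coeff d).2 := by
  change (Polynomial.aeval (1 : R × R') (s : Polynomial (R × R'))).2 = _
  conv_lhs => rw [(mem_gr t).1 hs]
  simp [aeval_monomial]

theorem g_f : g (R := R) t (f t) = 1 := by
  rw [g_apply t (f_mem t)]
  change ((C ((0 : R), (1 : R')) * X).coeff 1).2 = 1
  simp

theorem f_mul_eq_zero {d : ℕ} {s : S (R := R) t} (hs : s ∈ gr t d) (h : g t s = 0) : f t * s = 0 := by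
  refine Subtype.ext ?_
  change C ((0 : R), (1 : R')) * X * (s : Polynomial (R × R')) = 0
  rw [g_apply t hs] at h
  rw [(mem_gr t).1 hs, C_mul_X_eq_monomial, monomial_mul_monomial]
  rw [show ((0 : R), (1 : R')) * (s : Polynomial (R × R')).coeff d = 0 from Prod.ext (zero_mul _) (by simp [h]),
    map_zero]

theorem exists_homog (ht : Algebra.adjoin R (t : Set R') = ⊤) (y : R') : ∃ d, ∃ s ∈ gr (R := R) t d, g t s = y := by
  have hy : y ∈ Algebra.adjoin R (t : Set R') := ht ▸ Algebra.mem_top
  induction hy using Algebra.adjoin_induction with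
  | mem x hx =>
    refine ⟨1, ⟨C ((0 : R), x) * X, Algebra.subset_adjoin (Set.mem_insert_of_mem _ ⟨x, hx, rfl⟩)⟩, fun i hi => ?_, ?_⟩
    · change (C ((0 : R), x) * X).coeff i = 0
      rw [coeff_C_mul_X, if_neg hi]
    · rw [g_apply t (d := 1) (fun i hi => by
        change (C ((0 : R), x) * X).coeff i = 0
        rw [coeff_C_mul_X, if_neg hi])]
      change ((C ((0 : R), x) * X).coeff 1).2 = x
      simp
  | algebraMap r => exact ⟨0, algebraMap R _ r, SetLike.algebraMap_mem_graded _ r, AlgHom.commutes _ r⟩
  | add x y _ _ hx hy =>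
    obtain ⟨d, a, ha, rfl⟩ := hx
    obtain ⟨e, b, hb, rfl⟩ := hy
    refine ⟨d + e, a * f t ^ e + f t ^ d * b, add_mem (SetLike.mul_mem_graded ha ?_) (SetLike.mul_mem_graded ?_ hb), ?_⟩
    · simpa using SetLike.pow_mem_graded e (f_mem (R := R) t)
    · simpa using SetLike.pow_mem_graded d (f_mem (R := R) t)
    · simp [g_f]
  | mul x y _ _ hx hy =>
    obtain ⟨d, a, ha, rfl⟩ := hx
    obtain ⟨e, b, hb, rfl⟩ := hy
    exact ⟨d + e, a * b, SetLike.mul_mem_graded ha hb, map_mul _ _ _⟩

/-- Let R be a ring and R' an R-algebra of finite type. Then there are an ℕ-graded R-algebra S such that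
R → S₀ is bijective and S is generated as an R-algebra by a finite set of degree-1 elements, an
element f ∈ S₁, and a ring isomorphism e between the degree-zero part S_(f) of the localization S_f
and R' which matches r/1 with the image of r in R' for every r ∈ R (so R' is identified with S_(f)
as an R-algebra). The published statement also produces, from a finite R'-module, a finite graded
S-module whose degree-zero localization at f recovers it; that half is not part of this row. -/
theorem result (R R' : Type u) [CommRing R] [CommRing R'] [Algebra R R'] [Algebra.FiniteType R R'] :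
    ∃ (S : Type u) (_ : CommRing S) (_ : Algebra R S) (𝒜 : ℕ → Submodule R S) (_ : GradedAlgebra 𝒜) (f : S) (_ : f ∈ 𝒜 1) (s : Finset S)
      (e : HomogeneousLocalization.Away 𝒜 f ≃+* R'),
      Function.Injective (algebraMap R S) ∧ (∀ x ∈ 𝒜 0, x ∈ Set.range (algebraMap R S)) ∧
      (↑s ⊆ (𝒜 1 : Set S)) ∧ Algebra.adjoin R (s : Set S) = ⊤ ∧
      ∀ r : R, (e.symm (algebraMap R R' r)).val = algebraMap S (Localization.Away f) (algebraMap R S r) := by
  classical
  obtain ⟨t, ht⟩ := (Algebra.FiniteType.out : (⊤ : Subalgebra R R').FG)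
  letI : GradedRing (gr (R := R) t) := graded t
  let G : Localization.Away (f (R := R) t) →+* R' :=
    IsLocalization.Away.lift (f (R := R) t) (g := (g (R := R) t).toRingHom) (by simp [g_f])
  let e₀ : HomogeneousLocalization.Away (gr (R := R) t) (f t) →+* R' :=
    G.comp (algebraMap (HomogeneousLocalization.Away (gr (R := R) t) (f t)) (Localization.Away (f (R := R) t)))
  have hval : ∀ x : HomogeneousLocalization.Away (gr (R := R) t) (f t), e₀ x = G x.val := fun x => rfl
  have hG : ∀ (n : ℕ) (s : S (R := R) t), G (Localization.mk s ⟨f t ^ n, n, rfl⟩) = g t s := by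
    intro n s
    rw [Localization.mk_eq_mk']
    have h := congrArg G (IsLocalization.mk'_spec (Localization.Away (f (R := R) t)) s
      (⟨f t ^ n, n, rfl⟩ : Submonoid.powers (f (R := R) t)))
    rw [map_mul] at h
    simp only [G, IsLocalization.Away.lift_eq, RingHom.coe_coe, AlgHom.toRingHom_eq_coe, map_pow, g_f, one_pow, mul_one] at h ⊢
    exact h
  have hbij : Function.Bijective e₀ := by
    refine ⟨(injective_iff_map_eq_zero _).2 fun x hx => ?_, fun y => ?_⟩
    · obtain ⟨n, a, ha, rfl⟩ := HomogeneousLocalization.Away.mk_surjective _ (f_mem t) x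
      rw [hval, HomogeneousLocalization.Away.val_mk, hG] at hx
      refine HomogeneousLocalization.val_injective _ ?_
      rw [HomogeneousLocalization.Away.val_mk, HomogeneousLocalization.val_zero, Localization.mk_eq_mk',
        IsLocalization.mk'_eq_zero_iff]
      exact ⟨⟨f t, 1, pow_one _⟩, f_mul_eq_zero t ha hx⟩
    · obtain ⟨d, s, hs, rfl⟩ := exists_homog t ht y
      exact ⟨HomogeneousLocalization.Away.mk _ (f_mem t) d s (by simpa using hs), by
        rw [hval, HomogeneousLocalization.Away.val_mk, hG]⟩
  refine ⟨S (R := R) t, inferInstance, inferInstance, gr t, graded t, f t, f_mem t,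
    (insert (C ((0 : R), (1 : R')) * X) (t.image fun x => C ((0 : R), x) * X)).preimage Subtype.val
      Subtype.val_injective.injOn, RingEquiv.ofBijective e₀ hbij, ?_, ?_, ?_, ?_, ?_⟩
  · intro a b h
    have := congrArg (fun s : S (R := R) t => ((s : Polynomial (R × R')).coeff 0).1) h
    simpa using this
  · intro x hx
    have key : ∀ p ∈ Algebra.adjoin R (gens (R := R) t), ∃ r, p.coeff 0 = algebraMap R (R × R') r := by
      intro p hp
      induction hp using Algebra.adjoin_induction with
      | mem x hx =>
        obtain ⟨c, rfl⟩ : ∃ c, x = C c * X := by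
          rcases hx with rfl | ⟨y, -, rfl⟩ <;> exact ⟨_, rfl⟩
        exact ⟨0, by simp [Prod.ext_iff]⟩
      | algebraMap r => exact ⟨r, by simp⟩
      | add x y _ _ hx hy => obtain ⟨a, ha⟩ := hx; obtain ⟨b, hb⟩ := hy; exact ⟨a + b, by rw [coeff_add, ha, hb, map_add]⟩
      | mul x y _ _ hx hy => obtain ⟨a, ha⟩ := hx; obtain ⟨b, hb⟩ := hy; exact ⟨a * b, by rw [mul_coeff_zero, ha, hb, map_mul]⟩
    obtain ⟨r, hr⟩ := key _ x.2
    refine ⟨r, Subtype.ext ?_⟩
    rw [(mem_gr t).1 hx, hr, monomial_zero_left]
    rfl
  · intro s hs i hi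
    simp only [Finset.coe_preimage, Finset.coe_insert, Finset.coe_image, Set.mem_preimage] at hs
    rcases hs with hs | ⟨y, -, hs⟩
    · rw [hs, coeff_C_mul_X, if_neg hi]
    · rw [← hs, coeff_C_mul_X, if_neg hi]
  · rw [Finset.coe_preimage, Finset.coe_insert, Finset.coe_image]
    exact Algebra.adjoin_adjoin_coe_preimage
  · intro r
    have h : (RingEquiv.ofBijective e₀ hbij).symm (algebraMap R R' r) =
        HomogeneousLocalization.Away.mk _ (f_mem t) 0 (algebraMap R (S (R := R) t) r)
          (by simp [SetLike.algebraMap_mem_graded]) := by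
      rw [RingEquiv.symm_apply_eq, RingEquiv.ofBijective_apply, hval, HomogeneousLocalization.Away.val_mk, hG,
        AlgHom.commutes]
    rw [h, HomogeneousLocalization.Away.val_mk, Localization.mk_eq_mk']
    simp only [pow_zero]
    exact IsLocalization.mk'_one _ _

end Groth.Agent.S9671
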