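import Groth.Statements.S9672
-- import your own Groth.Agent.* helpers here
import Groth.Agent.S9347

set_option autoImplicit false
universe u
open CategoryTheory CategoryTheory.Limits AlgebraicGeometry
open Mor

namespace Groth.Agent.S9672

/-- Let f : Y ⟶ X be quasi-compact and quasi-separated, and write X' for the normalization of X relative
to Y. If x' ∈ X' is the generic point of some irreducible component of X', then there is a point y ∈
Y that is generic in an irreducible component of Y and is sent to x' by the canonical morphism Y ⟶
X'. -/
theorem result {X Y : Scheme.{u}} (f : Y ⟶ X)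
    [QuasiCompact f] [QuasiSeparated f] (x' : ↥f.normalization)
    (hx' : closure {x'} ∈ irreducibleComponents ↥f.normalization) :
    ∃ y : Y, closure {y} ∈ irreducibleComponents ↥Y ∧ f.toNormalization.base y = x' := by
  have hmem : x' ∈ closure (Set.range f.toNormalization) := by
    rw [← Scheme.Hom.support_ker, Scheme.Hom.ker_toNormalization, Scheme.IdealSheafData.support_bot]
    trivial
  obtain ⟨z, hz⟩ := S9347.exists_specializes_of_mem_closure_range f.toNormalization x' hmem
  obtain ⟨y, hy⟩ : ∃ y : Y, IsGenericPoint y (irreducibleComponent z) :=
    QuasiSober.sober isIrreducible_irreducibleComponent isClosed_irreducibleComponent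
  refine ⟨y, ?_, ?_⟩
  · rw [hy.def]; exact irreducibleComponent_mem_irreducibleComponents z
  · have h1 : f.toNormalization y ⤳ x' := ((hy.specializes mem_irreducibleComponent).map f.toNormalization.continuous).trans hz
    have h2 : closure ({f.toNormalization y} : Set f.normalization) ⊆ closure {x'} :=
      hx'.2 isIrreducible_singleton.closure (specializes_iff_closure_subset.mp h1)
    exact Inseparable.eq (inseparable_iff_closure_eq.mpr (h2.antisymm (specializes_iff_closure_subset.mp h1)))

end Groth.Agent.S9672
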