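import Groth.Statements.S9674
import Groth.Agent.NagataLib.Scheme
-- import your own Groth.Agent.* helpers here

set_option autoImplicit false
universe u
open CategoryTheory CategoryTheory.Limits AlgebraicGeometry
open Mor

namespace Groth.Agent.S9674

/-- Let f : X ⟶ S be quasi-compact and quasi-separated. Assume every affine open of S has Nagata
coordinate ring, X is reduced, the irreducible components of X are locally finite (equivalently
every quasi-compact open of X has finitely many), and at each point x that is generic in a component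
of X, the residue field of x is essentially of finite type over the residue field of f x. Then the
normalization of S in X is finite over S. -/
theorem result {X S : Scheme.{u}} (f : X ⟶ S)
    [QuasiCompact f] [QuasiSeparated f] [IsReduced X]
    (hS : ∀ U : S.affineOpens, CAlg.IsNagata Γ(S, U))
    (hfin : LocallyFinite (fun Z : ↥(irreducibleComponents ↥X) => (Z : Set ↥X)))
    (hres : ∀ x : X, closure {x} ∈ irreducibleComponents ↥X → (f.residueFieldMap x).hom.EssFiniteType) :
    IsFinite f.fromNormalization := by
  classical
  refine Groth.Agent.NagataLib.isFinite_fromNormalization f fun U hU => ?_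
  let := (f.app U).hom.toAlgebra
  have := (hS ⟨U, hU⟩).1
  let W := f ⁻¹ᵁ U
  have hWc : IsCompact (W : Set X) := f.isCompact_preimage hU.isCompact
  -- generic points in `W`
  let G : Set X := {x | x ∈ W ∧ closure {x} ∈ irreducibleComponents ↥X}
  have hGfin : G.Finite := by
    have hZ : {Z : irreducibleComponents ↥X | ((Z : Set X) ∩ W).Nonempty}.Finite := by
      have := hfin.finite_nonempty_inter_compact hWc
      exact this
    refine Set.Finite.of_finite_image (f := fun x => closure {x})
      ((hZ.image Subtype.val).subset ?_) fun a _ b _ e => ?_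
    · rintro _ ⟨x, ⟨hxW, hx⟩, rfl⟩
      exact ⟨⟨_, hx⟩, ⟨x, subset_closure rfl, hxW⟩, rfl⟩
    · have ha : IsGenericPoint a (closure {a}) := isGenericPoint_def.mpr rfl
      exact ha.eq (isGenericPoint_def.mpr e.symm)
  have : Finite G := hGfin.to_subtype
  let alg : ∀ x : G, Algebra Γ(S, U) (X.residueField x.1) := fun x =>
    ((X.evaluation W x.1 x.2.1).hom.comp (f.app U).hom).toAlgebra
  have hess : ∀ x : G, Algebra.EssFiniteType Γ(S, U) (X.residueField x.1) := fun x => by
    have h1 : ((S.evaluation U (f.base x.1) x.2.1).hom).EssFiniteType := by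
      let := TopCat.Presheaf.algebra_section_stalk S.presheaf (U := U) ⟨f.base x.1, x.2.1⟩
      have := hU.isLocalization_stalk ⟨f.base x.1, x.2.1⟩
      have hg : (S.presheaf.germ U (f.base x.1) x.2.1).hom.EssFiniteType :=
        Algebra.EssFiniteType.of_isLocalization (S.presheaf.stalk (f.base x.1))
          (hU.primeIdealOf ⟨f.base x.1, x.2.1⟩).asIdeal.primeCompl
      exact hg.comp (RingHom.FiniteType.essFiniteType (RingHom.FiniteType.of_surjective _
        Ideal.Quotient.mk_surjective))
    have h2 := h1.comp (hres x.1 x.2.2)
    have e : (X.evaluation W x.1 x.2.1).hom.comp (f.app U).hom =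
        (f.residueFieldMap x.1).hom.comp (S.evaluation U (f.base x.1) x.2.1).hom := by
      rw [← CommRingCat.hom_comp, ← CommRingCat.hom_comp]
      exact congrArg CommRingCat.Hom.hom (Scheme.evaluation_naturality f x.1 x.2.1).symm
    rw [← e] at h2
    exact h2
  have hfinx : ∀ x : G, Module.Finite Γ(S, U) (integralClosure Γ(S, U) (X.residueField x.1)) :=
    fun x => Groth.Agent.NagataLib.finite_integralClosure_domain (hS ⟨U, hU⟩) _
  let r : ∀ x : G, Γ(X, W) →ₐ[Γ(S, U)] X.residueField x.1 := fun x =>
    { (X.evaluation W x.1 x.2.1).hom with commutes' := fun _ => rfl }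
  let F : integralClosure Γ(S, U) Γ(X, W) →ₗ[Γ(S, U)]
      ((x : G) → integralClosure Γ(S, U) (X.residueField x.1)) :=
    LinearMap.pi fun x =>
      { toFun := fun y => ⟨r x y.1, y.2.map (r x)⟩
        map_add' := fun y z => Subtype.ext (map_add (r x) y.1 z.1)
        map_smul' := fun a y => Subtype.ext (map_smul (r x) a y.1) }
  refine Groth.Agent.NagataLib.finite_of_injective_linearMap F fun y z h => Subtype.ext ?_
  rw [← sub_eq_zero, ← basicOpen_eq_bot_iff]
  by_contra hne
  obtain ⟨w, hw⟩ : (X.basicOpen (y.1 - z.1) : Set X).Nonempty :=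
    Set.nonempty_iff_ne_empty.mpr fun e => hne (SetLike.coe_injective (e.trans (by simp)))
  obtain ⟨Z, hZ, hwZ⟩ := exists_mem_irreducibleComponents_subset_of_isIrreducible {w}
    isIrreducible_singleton
  have hZcl := isClosed_of_mem_irreducibleComponents Z hZ
  let η := hZ.1.genericPoint
  have hη : IsGenericPoint η Z := by
    simpa [hZcl.closure_eq] using hZ.1.isGenericPoint_genericPoint_closure
  have hηb : η ∈ X.basicOpen (y.1 - z.1) :=
    (hη.specializes (hwZ rfl)).mem_open (X.basicOpen _).isOpen hw
  have hηW : η ∈ W := X.basicOpen_le _ hηb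
  refine (X.evaluation_ne_zero_iff_mem_basicOpen η hηW _).mpr hηb ?_
  rw [map_sub, sub_eq_zero]
  exact congrArg Subtype.val (congrFun h ⟨η, hηW, by rw [hη.def]; exact hZ⟩)

end Groth.Agent.S9674
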