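import Groth.Statements.S9676
import Groth.Agent.NagataLib.Scheme
import Groth.Agent.NormDVR.Basic
-- import your own Groth.Agent.* helpers here

set_option autoImplicit false
universe u
open CategoryTheory CategoryTheory.Limits AlgebraicGeometry
open Mor Groth.Agent TopologicalSpace

namespace Groth.Agent.S9676

/-- Let f : Y ⟶ X be of finite type with Y reduced and every affine open of X having Nagata coordinate
ring, and let X' be the normalization of X in Y. If x' is a point of X' whose local ring has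
dimension 1 and over which the fibre of Y ⟶ X' is empty, then the local ring of X' at x' is a
discrete valuation ring. (Such an f is automatically quasi-separated; the binder is carried only to
form the relative normalization.) -/
theorem result {X Y : Scheme.{u}} (f : Y ⟶ X)
    [LocallyOfFiniteType f] [QuasiCompact f] [QuasiSeparated f] [IsReduced Y]
    (hX : ∀ U : X.affineOpens, CAlg.IsNagata Γ(X, U))
    (x' : ↥f.normalization) (hdim : ringKrullDim (f.normalization.presheaf.stalk x') = 1)
    (hx' : x' ∉ Set.range f.toNormalization.base) :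
    ∃ _ : IsDomain (f.normalization.presheaf.stalk x'),
      IsDiscreteValuationRing (f.normalization.presheaf.stalk x') := by
  have hNπ := NagataLib.isFinite_fromNormalization_of_nagata f (fun U hU => hX ⟨U, hU⟩)
  obtain ⟨U, hU, hxU, -⟩ := exists_isAffineOpen_mem_and_subset
    (X := X) (x := f.fromNormalization.base x') (U := ⊤) trivial
  let V : f.normalization.Opens := f.fromNormalization ⁻¹ᵁ U
  have hV : IsAffineOpen V := hU.preimage f.fromNormalization
  have hxV : x' ∈ V := hxU
  let W : Y.Opens := f.toNormalization ⁻¹ᵁ V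
  have hWU : W = f ⁻¹ᵁ U := by
    simp [W, V, ← Scheme.Hom.comp_preimage]
  letI algCB : Algebra Γ(f.normalization, V) Γ(Y, W) := (f.toNormalization.app V).hom.toAlgebra
  letI algR : Algebra Γ(X, U) Γ(Y, f ⁻¹ᵁ U) := (f.app U).hom.toAlgebra
  letI algRC : Algebra Γ(X, U) Γ(f.normalization, V) :=
    (f.fromNormalization.app U).hom.toAlgebra
  have hfinC : Module.Finite Γ(X, U) Γ(f.normalization, V) :=
    IsFinite.finite_app (f := f.fromNormalization) U hU
  have : IsNoetherianRing Γ(X, U) := (hX ⟨U, hU⟩).1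
  have hnoeth : IsNoetherianRing Γ(f.normalization, V) :=
    IsNoetherianRing.of_finite Γ(X, U) _
  -- comparison with the integral closure
  let ρ : Γ(Y, W) ≅ Γ(Y, f ⁻¹ᵁ U) := Y.presheaf.mapIso (eqToIso hWU.symm).op
  have hval : ∀ e : Γ(f.normalization, V),
      ρ.hom (algebraMap Γ(f.normalization, V) Γ(Y, W) e) = ((f.normalizationObjIso hU).hom e).1 := by
    intro e
    refine Eq.trans ?_ (ConcreteCategory.congr_hom (f.normalizationObjIso_hom_val hU) e).symm
    rfl
  have hinj : Function.Injective (algebraMap Γ(f.normalization, V) Γ(Y, W)) := by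
    intro a b h
    have h' := congrArg ρ.hom h
    rw [hval, hval] at h'
    exact (f.normalizationObjIso hU).commRingCatIsoToRingEquiv.injective (Subtype.ext h')
  have hred : IsReduced Γ(f.normalization, V) := isReduced_of_injective _ hinj
  have hic : ∀ z : Γ(Y, W), IsIntegral Γ(f.normalization, V) z →
      z ∈ Set.range (algebraMap Γ(f.normalization, V) Γ(Y, W)) := by
    intro z hz
    letI : Algebra Γ(X, U) Γ(Y, W) :=
      ((algebraMap Γ(f.normalization, V) Γ(Y, W)).comp
        (algebraMap Γ(X, U) Γ(f.normalization, V))).toAlgebra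
    have : IsScalarTower Γ(X, U) Γ(f.normalization, V) Γ(Y, W) := .of_algebraMap_eq' rfl
    have hz' : IsIntegral Γ(X, U) z := isIntegral_trans z hz
    have hcomp : (f.app U).hom = (ρ.hom.hom).comp (algebraMap Γ(X, U) Γ(Y, W)) := by
      have : f.fromNormalization.app U ≫ f.toNormalization.app V ≫ ρ.hom = f.app U := by
        simp [ρ, W, V, Scheme.Hom.app_eq_appLE, Scheme.Hom.appLE_comp_appLE]
      rw [← this]; rfl
    have hz'' : IsIntegral Γ(X, U) (ρ.hom z) := by
      obtain ⟨P, hPm, hP⟩ := hz'
      refine ⟨P, hPm, ?_⟩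
      show Polynomial.eval₂ (f.app U).hom (ρ.hom.hom z) P = 0
      rw [hcomp, ← Polynomial.hom_eval₂, hP, map_zero]
    refine ⟨(f.normalizationObjIso hU).inv ⟨ρ.hom z, hz''⟩, ?_⟩
    refine ρ.commRingCatIsoToRingEquiv.injective ?_
    show ρ.hom _ = ρ.hom z
    rw [hval, CategoryTheory.Iso.inv_hom_id_apply]
  let p : Ideal Γ(f.normalization, V) := (hV.primeIdealOf ⟨x', hxV⟩).asIdeal
  letI : Algebra Γ(f.normalization, V) (f.normalization.presheaf.stalk x') :=
    (f.normalization.presheaf.germ V x' hxV).hom.toAlgebra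
  have : IsLocalization.AtPrime (f.normalization.presheaf.stalk x') p :=
    hV.isLocalization_stalk ⟨x', hxV⟩
  refine NormDVR.exists_isDiscreteValuationRing hinj hic p _ hdim fun c hc => ?_
  -- a cover of `W` by finitely many affine opens
  obtain ⟨s, hs, e⟩ := isCompact_iff_finite_and_eq_biUnion_affineOpens.1
    (f.toNormalization.isCompact_preimage hV.isCompact)
  have hle : ∀ i : s, (i.1 : Y.Opens) ≤ W := fun i z hz => by
    show z ∈ ((f.toNormalization ⁻¹ᵁ V : Y.Opens) : Set Y)
    rw [e]
    exact Opens.mem_iSup.2 ⟨i.1, Opens.mem_iSup.2 ⟨i.2, hz⟩⟩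
  let res : ∀ i : s, Γ(f.normalization, V) →+* Γ(Y, i.1) := fun i =>
    (f.toNormalization.appLE V i.1 (hle i)).hom
  have key : ∀ i : s, ∃ d, d ∉ p ∧ res i c ∣ res i d := by
    intro i
    by_contra! h
    have hdisj : Disjoint (Ideal.span {res i c} : Set Γ(Y, i.1))
        (p.primeCompl.map (res i) : Set Γ(Y, i.1)) := by
      rw [Set.disjoint_left]
      rintro _ hx ⟨d, hd, rfl⟩
      exact h d hd (Ideal.mem_span_singleton.1 hx)
    obtain ⟨Q, hQ, hcQ, hQd⟩ := Ideal.exists_le_prime_disjoint _ _ hdisj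
    have hle' : Q.comap (res i) ≤ p := fun x hx => by
      by_contra hxp
      exact Set.disjoint_left.1 hQd hx ⟨x, hxp, rfl⟩
    have hcQ' : c ∈ Q.comap (res i) := hcQ (Ideal.mem_span_singleton_self _)
    by_cases heq : Q.comap (res i) = p
    · refine hx' ⟨i.1.2.fromSpec.base ⟨Q, hQ⟩, ?_⟩
      have h1 := congr($(IsAffineOpen.SpecMap_appLE_fromSpec f.toNormalization hV i.1.2 (hle i)).base
        ⟨Q, hQ⟩)
      refine h1.symm.trans ?_
      refine Eq.trans ?_ (hV.fromSpec_primeIdealOf ⟨x', hxV⟩)
      exact congrArg hV.fromSpec.base (PrimeSpectrum.ext heq)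
    · exact hc _ (hQ.comap _) hle' heq hcQ'
  choose d hd β hβ using key
  have : Finite s := hs.to_subtype
  cases nonempty_fintype s
  let D : Γ(f.normalization, V) := ∏ i, d i
  have hD : D ∉ p := fun h => by
    obtain ⟨i, -, hi⟩ := (Ideal.IsPrime.prod_mem_iff).1 h
    exact hd i hi
  choose w hw using fun i => Finset.dvd_prod_of_mem d (Finset.mem_univ i)
  let γ : ∀ i : s, Γ(Y, i.1) := fun i => β i * res i (w i)
  have hγ : ∀ i, res i D = res i c * γ i := fun i => by
    rw [← mul_assoc, ← hβ, ← map_mul, ← hw]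
  let sf : ∀ i : s, Γ(Y, i.1) := fun i => res i D * γ i
  have hsf : TopCat.Presheaf.IsCompatible Y.sheaf.1 (fun i : s => (i.1 : Y.Opens)) sf := by
    intro i j
    let a := (Y.presheaf.map (Opens.infLELeft (i.1 : Y.Opens) j.1).op).hom
    let b := (Y.presheaf.map (Opens.infLERight (i.1 : Y.Opens) j.1).op).hom
    have hab : ∀ x, a (res i x) = b (res j x) := fun x => by
      have : f.toNormalization.appLE V i.1 (hle i) ≫
            Y.presheaf.map (Opens.infLELeft (i.1 : Y.Opens) j.1).op =
          f.toNormalization.appLE V j.1 (hle j) ≫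
            Y.presheaf.map (Opens.infLERight (i.1 : Y.Opens) j.1).op := by
        rw [Scheme.Hom.appLE_map, Scheme.Hom.appLE_map]
      exact ConcreteCategory.congr_hom this x
    show a (res i D * γ i) = b (res j D * γ j)
    have hi : a (res i D * γ i) = b (res j c) * b (γ j) * a (γ i) := by
      rw [map_mul, hab, hγ j, map_mul]
    have hj : b (res j D * γ j) = b (res j c) * a (γ i) * b (γ j) := by
      rw [map_mul, ← hab D, hγ i, map_mul, hab c]
    rw [hi, hj]; ring
  have hcover : W ≤ ⨆ i : s, (i.1 : Y.Opens) := by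
    intro z hz
    have hz' : z ∈ ((f.toNormalization ⁻¹ᵁ V : Y.Opens) : Set Y) := hz
    rw [e] at hz'
    obtain ⟨i, hi⟩ := Opens.mem_iSup.1 hz'
    obtain ⟨hi, hzi⟩ := Opens.mem_iSup.1 hi
    exact Opens.mem_iSup.2 ⟨⟨i, hi⟩, hzi⟩
  obtain ⟨g, hg, -⟩ := Y.sheaf.existsUnique_gluing' (fun i : s => (i.1 : Y.Opens)) W
    (fun i => homOfLE (hle i)) hcover sf hsf
  let g' : Γ(Y, W) := g
  refine ⟨D * D, p.primeCompl.mul_mem hD hD, g', ?_⟩
  refine Y.sheaf.eq_of_locally_eq' (fun i : s => (i.1 : Y.Opens)) W
    (fun i => homOfLE (hle i)) hcover _ _ fun i => ?_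
  show res i (D * D) = (Y.presheaf.map (homOfLE (hle i)).op).hom
    (algebraMap Γ(f.normalization, V) Γ(Y, W) c * g')
  rw [map_mul, map_mul]
  have hgi : (Y.presheaf.map (homOfLE (hle i)).op).hom g' = res i D * γ i := hg i
  rw [hgi]
  conv_lhs => arg 2; rw [hγ i]
  show res i D * (res i c * γ i) = res i c * (res i D * γ i)
  ring

end Groth.Agent.S9676
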