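import Groth.Statements.S9678
import Groth.Agent.SpreadFP.Gen
-- import your own Groth.Agent.* helpers here

set_option autoImplicit false
universe u
open CategoryTheory CategoryTheory.Limits AlgebraicGeometry
open Mor

namespace Groth.Agent.S9678

/-- Suppose X and Y have finitely many irreducible components and f : X ⟶ Y is birational, i.e. f
restricts to a bijection between the generic points of the irreducible components of X and those of
Y and induces an isomorphism of local rings at every generic point of an irreducible component of X.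
Suppose moreover that Y is reduced and f is locally of finite type, or alternatively that f is
locally finitely presented. Then there are dense opens U ⊆ X and V ⊆ Y with f(U) ⊆ V such that the
restriction U ⟶ V of f is an isomorphism. -/
theorem result {X Y : Scheme.{u}} (f : X ⟶ Y)
    (hXfin : (irreducibleComponents ↥X).Finite) (hYfin : (irreducibleComponents ↥Y).Finite)
    (hbij : Set.BijOn (fun x : X => f.base x) {x : X | closure {x} ∈ irreducibleComponents ↥X}
      {y : Y | closure {y} ∈ irreducibleComponents ↥Y})
    (hiso : ∀ x : X, closure {x} ∈ irreducibleComponents ↥X → IsIso (f.stalkMap x))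
    (hf : (LocallyOfFiniteType f ∧ IsReduced Y) ∨ LocallyOfFinitePresentation f) :
    ∃ (U : X.Opens) (V : Y.Opens) (hUV : U ≤ f ⁻¹ᵁ V), Dense (U : Set ↥X) ∧ Dense (V : Set ↥Y) ∧
      IsIso (f.resLE V U hUV) := by
  obtain ⟨U, hU, hUf, hUY⟩ := SpreadFP.exists_isOpenImmersion_of_birational f hYfin hbij hiso hf
  have hle : U ≤ f ⁻¹ᵁ (U.ι ≫ f).opensRange := fun p hp => ⟨⟨p, hp⟩, rfl⟩
  refine ⟨U, (U.ι ≫ f).opensRange, hle, SpreadFP.dense_of_gens_subset hU,
    SpreadFP.dense_of_gens_subset fun y hy => ?_, SpreadFP.isIso_resLE_image f U hle⟩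
  obtain ⟨x, hx, rfl⟩ := hUY hy
  exact ⟨⟨x, hx⟩, rfl⟩

end Groth.Agent.S9678
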