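import Groth.Statements.S9681
import Groth.Agent.SpreadFP.Birat
-- import your own Groth.Agent.* helpers here

set_option autoImplicit false
universe u
open CategoryTheory CategoryTheory.Limits AlgebraicGeometry
open Mor

namespace Groth.Agent.S9681

/-- Suppose X and Y are integral S-schemes, each locally of finite type over S, with generic points x
and y. Then X and Y are S-birational (they admit S-isomorphic nonempty opens) if and only if x and y
map to the same point s of S and the residue fields of x and y are isomorphic as extensions of the
residue field of s. -/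
theorem result {S X Y : Scheme.{u}}
    [IsIntegral X] [IsIntegral Y] (sX : X ⟶ S) (sY : Y ⟶ S)
    [LocallyOfFiniteType sX] [LocallyOfFiniteType sY] :
    Scheme.BirationalOver sX sY ↔
      ∃ (hs : sX.base (genericPoint ↥X) = sY.base (genericPoint ↥Y))
        (e : X.residueField (genericPoint ↥X) ≅ Y.residueField (genericPoint ↥Y)),
        sX.residueFieldMap (genericPoint ↥X) ≫ e.hom =
          eqToHom (congrArg S.residueField hs) ≫ sY.residueFieldMap (genericPoint ↥Y) := by
  haveI := SpreadFP.isIso_residue_genericPoint X
  haveI := SpreadFP.isIso_residue_genericPoint Y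
  constructor
  · intro h
    obtain ⟨hs, e, he⟩ := SpreadFP.exists_stalkIso_of_birationalOver sX sY h
    refine ⟨hs, (asIso (X.residue _)).symm ≪≫ e ≪≫ asIso (Y.residue _), ?_⟩
    rw [← cancel_epi (S.residue _), Iso.trans_hom, Iso.trans_hom, Iso.symm_hom, asIso_inv, asIso_hom,
      ← Category.assoc, Scheme.residue_residueFieldMap, Category.assoc, IsIso.hom_inv_id_assoc,
      ← Category.assoc, he, Category.assoc, ← Category.assoc (S.residue _), SpreadFP.residue_eqToHom hs,
      Category.assoc, Scheme.residue_residueFieldMap]
  · rintro ⟨hs, e, he⟩
    refine SpreadFP.birationalOver_of_stalkIso sX sY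
      (Or.inr ⟨inferInstance, inferInstance, inferInstance, inferInstance⟩) _ _ hs
      (asIso (X.residue _) ≪≫ e ≪≫ (asIso (Y.residue _)).symm) ?_
    rw [← cancel_mono (Y.residue _)]
    simp only [Iso.trans_hom, Iso.symm_hom, asIso_hom, asIso_inv, Category.assoc, IsIso.inv_hom_id,
      Category.comp_id]
    rw [← Scheme.residue_residueFieldMap_assoc, he, ← Category.assoc, SpreadFP.residue_eqToHom hs,
      Category.assoc, Scheme.residue_residueFieldMap]

end Groth.Agent.S9681
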