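import Groth.Statements.S9682
import Mathlib.AlgebraicGeometry.Morphisms.QuasiFinite

set_option autoImplicit false
set_option linter.style.haveILetI false
set_option backward.isDefEq.respectTransparency false
universe u
open CategoryTheory CategoryTheory.Limits AlgebraicGeometry
open Mor

namespace Groth.Agent.S9682

/-- Take f : X ⟶ Y locally of finite type and η the generic point of some irreducible component of Y.
Three conditions turn out to coincide: (1) each point of X mapping to η is the generic point of some
irreducible component of X; (2) f is quasi-finite at every point over η; (3) f is quasi-finite at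
each point over η that is generic in some irreducible component of X. Stated as (1) iff (2) together
with (1) iff (3). -/
theorem result {X Y : Scheme.{u}} (f : X ⟶ Y)
    [LocallyOfFiniteType f] (η : Y) (hη : closure {η} ∈ irreducibleComponents ↥Y) :
    ((∀ x : X, f.base x = η → closure {x} ∈ irreducibleComponents ↥X) ↔
      (∀ x : X, f.base x = η → f.QuasiFiniteAt x)) ∧
    ((∀ x : X, f.base x = η → closure {x} ∈ irreducibleComponents ↥X) ↔
      (∀ x : X, f.base x = η → closure {x} ∈ irreducibleComponents ↥X → f.QuasiFiniteAt x)) := by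
  have hmax : ∀ {Z : Scheme.{u}} (z w : Z), closure {z} ∈ irreducibleComponents ↥Z → w ⤳ z → w = z := by
    intro Z z w hz hwz
    have h1 : closure {z} ⊆ closure {w} := hwz.closure_subset
    have h2 := hz.2 isIrreducible_singleton.closure h1
    exact (specializes_iff_mem_closure.mp hwz |> fun h => ((specializes_iff_mem_closure.mpr (h2 (subset_closure rfl))).antisymm hwz).symm.eq)
  have h12 : (∀ x : X, f.base x = η → closure {x} ∈ irreducibleComponents ↥X) →
      ∀ x : X, f.base x = η → f.QuasiFiniteAt x := by
    intro h x hx
    subst hx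
    rw [Scheme.Hom.quasiFiniteAt_iff_isOpen_singleton_asFiber]
    let Φ := f.fiber (f x)
    haveI : LocallyOfFiniteType (f.fiberToSpecResidueField (f x)) :=
      inferInstanceAs (LocallyOfFiniteType (CategoryTheory.Limits.pullback.snd f (Y.fromSpecResidueField (f x))))
    haveI : IsLocallyNoetherian Φ :=
      LocallyOfFiniteType.isLocallyNoetherian (f.fiberToSpecResidueField (f x))
    have hT1 : ∀ a b : Φ, a ⤳ b → a = b := by
      intro a b hab
      refine (f.fiberι (f x)).isEmbedding.injective ?_
      refine hmax _ _ (h _ ?_) (hab.map (f.fiberι (f x)).continuous)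
      have : f.fiberι (f x) b ∈ Set.range (f.fiberι (f x)) := ⟨b, rfl⟩
      rw [f.range_fiberι] at this
      exact this
    obtain ⟨W, hW, hxW, -⟩ := exists_isAffineOpen_mem_and_subset (TopologicalSpace.Opens.mem_top (f.asFiber x))
    haveI : IsNoetherianRing Γ(Φ, W) := IsLocallyNoetherian.component_noetherian ⟨W, hW⟩
    haveI : TopologicalSpace.NoetherianSpace (Spec (Γ(Φ, W))) := inferInstance
    haveI : TopologicalSpace.NoetherianSpace (W : Scheme.{u}) :=
      (Scheme.homeoOfIso hW.isoSpec).isInducing.noetherianSpace
    have hsing : ∀ C ∈ irreducibleComponents ↥(W : Scheme.{u}), C.Subsingleton := by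
      intro C hC a ha b hb
      obtain ⟨g, hg⟩ := QuasiSober.sober hC.1 (isClosed_of_mem_irreducibleComponents C hC)
      have ga : g ⤳ a := hg.specializes ha
      have gb : g ⤳ b := hg.specializes hb
      have ea := hT1 _ _ (ga.map W.ι.continuous)
      have eb := hT1 _ _ (gb.map W.ι.continuous)
      exact W.ι.isEmbedding.injective (ea.symm.trans eb)
    haveI : Finite ↥(W : Scheme.{u}) := by
      refine Set.finite_univ_iff.mp ?_
      rw [← sUnion_irreducibleComponents]
      exact Set.Finite.sUnion TopologicalSpace.NoetherianSpace.finite_irreducibleComponents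
        fun C hC => (hsing C hC).finite
    haveI : T1Space ↥(W : Scheme.{u}) := t1Space_iff_specializes_imp_eq.mpr fun a b hab =>
      W.ι.isEmbedding.injective (hT1 _ _ (hab.map W.ι.continuous))
    have := W.ι.isOpenEmbedding.isOpenMap _ (isOpen_discrete ({⟨f.asFiber x, hxW⟩} : Set ↥(W : Scheme.{u})))
    rwa [Set.image_singleton] at this
  have h31 : (∀ x : X, f.base x = η → closure {x} ∈ irreducibleComponents ↥X → f.QuasiFiniteAt x) →
      ∀ x : X, f.base x = η → closure {x} ∈ irreducibleComponents ↥X := by
    intro h x hx
    obtain ⟨C, hC, hxC⟩ : ∃ C ∈ irreducibleComponents ↥X, x ∈ C :=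
      ⟨irreducibleComponent x, irreducibleComponent_mem_irreducibleComponents x, mem_irreducibleComponent⟩
    obtain ⟨g, hg⟩ := QuasiSober.sober hC.1 (isClosed_of_mem_irreducibleComponents C hC)
    have hgC : closure {g} ∈ irreducibleComponents ↥X := hg.symm ▸ hC
    have hgx : g ⤳ x := hg.specializes hxC
    have hfg : f.base g = η := hmax η _ hη (hx ▸ hgx.map f.continuous)
    have hq := (h g hfg hgC).isClopen_singleton_asFiber.1
    subst hfg
    obtain ⟨b, hb⟩ : x ∈ Set.range (f.fiberι (f g)) := by rw [f.range_fiberι]; exact hx
    have : f.asFiber g ⤳ b := by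
      rw [← (f.fiberι (f g)).isEmbedding.isInducing.specializes_iff, f.fiberι_asFiber, hb]
      exact hgx
    have e : b = f.asFiber g := this.mem_closed hq rfl
    rw [← hb, e, f.fiberι_asFiber]
    exact hgC
  exact ⟨⟨h12, fun h => h31 fun x hx _ => h x hx⟩, ⟨fun h x hx _ => h12 h x hx, h31⟩⟩
end Groth.Agent.S9682
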