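import Mathlib
import Groth.Agent.GrpSchField.Dim
import Groth.Statements.S9683
-- import your own Groth.Agent.* helpers here

set_option autoImplicit false
universe u
open CategoryTheory CategoryTheory.Limits AlgebraicGeometry
open Mor

namespace Groth.Agent.S9683

/-- For any integral morphism of schemes f : X ⟶ Y, the dimension of X is at most that of Y, and if f is
surjective then dim X = dim Y (dimensions of the underlying topological spaces). -/
theorem result {X Y : Scheme.{u}} (f : X ⟶ Y) [IsIntegralHom f] :
    topologicalKrullDim ↥X ≤ topologicalKrullDim ↥Y ∧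
      (Surjective f → topologicalKrullDim ↥X = topologicalKrullDim ↥Y) := by
  have hdim : ∀ Z : Scheme.{u}, topologicalKrullDim ↥Z = Order.krullDim ↥Z := fun Z =>
    Order.krullDim_eq_of_orderIso irreducibleSetEquivPoints
  rw [hdim, hdim]
  have hle : Order.krullDim ↥X ≤ Order.krullDim ↥Y :=
    Order.krullDim_le_of_strictMono _ (Groth.Agent.GrpSchField.strictMono_of_isIntegralHom f)
  refine ⟨hle, fun hf => le_antisymm hle ?_⟩
  have hlift : ∀ l : LTSeries ↥Y, ∃ L : LTSeries ↥X, L.length = l.length ∧ f L.head = l.head := by
    intro l
    induction l using RelSeries.inductionOn with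
    | singleton y =>
      obtain ⟨x, hx⟩ := f.surjective y
      exact ⟨RelSeries.singleton _ x, rfl, hx⟩
    | cons l a hal ih =>
      obtain ⟨L, hL, hhead⟩ := ih
      have hspec : f L.head ⤳ a := by rw [hhead]; exact le_of_lt hal
      obtain ⟨x', hx', rfl⟩ := f.isClosedMap.specializingMap hspec
      have hlt : x' < L.head := by
        refine lt_of_le_not_ge hx' fun hge => ?_
        have : f x' = f L.head := ((Specializes.map hge f.continuous).antisymm (Specializes.map hx' f.continuous)).eq
        exact (ne_of_lt (show f x' < l.head from hal)) (this.trans hhead)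
      exact ⟨L.cons x' hlt, by simp [hL], by simp⟩
  refine iSup_le fun l => ?_
  obtain ⟨L, hL, -⟩ := hlift l
  exact le_iSup_of_le L (by rw [hL])

end Groth.Agent.S9683
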