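import Groth.Statements.S9685
import Groth.Agent.DimFormulaIrr.Dominant
-- import your own Groth.Agent.* helpers here

set_option autoImplicit false
universe u
open CategoryTheory CategoryTheory.Limits AlgebraicGeometry
open Mor

namespace Groth.Agent.S9685

/-- Let X and Y be integral schemes with Y locally Noetherian and f : X ⟶ Y dominant and locally of
finite type. If n is the transcendence degree of the function field of X over the function field of
Y (computed on residue fields at the generic points), then dim X ≤ dim Y + n, and equality holds
when the underlying map of f is closed. -/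
theorem result {X Y : Scheme.{u}} [IsIntegral X] [IsIntegral Y]
    [IsLocallyNoetherian Y] (f : X ⟶ Y) [IsDominant f] [LocallyOfFiniteType f] (n : ℕ)
    (hn : letI := (f.residueFieldMap (genericPoint ↥X)).hom.toAlgebra
      Algebra.trdeg (Y.residueField (f.base (genericPoint ↥X))) (X.residueField (genericPoint ↥X)) = n) :
    topologicalKrullDim ↥X ≤ topologicalKrullDim ↥Y + n ∧
      (IsClosedMap f.base → topologicalKrullDim ↥X = topologicalKrullDim ↥Y + n) := by
  have hle : topologicalKrullDim ↥X ≤ topologicalKrullDim ↥Y + n := by
    refine Groth.Agent.DimFormulaIrr.dim_le_add f n fun ξ hξ => ?_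
    obtain rfl := Groth.Agent.DimFormulaIrr.eq_of_component hξ
    exact hn.le
  refine ⟨hle, fun hcl => le_antisymm hle ?_⟩
  obtain ⟨m, hm, hm'⟩ := Groth.Agent.DimFormulaIrr.exists_trdeg_generic f
  rw [hn, Nat.cast_inj] at hm
  exact Groth.Agent.DimFormulaIrr.add_le_dim_of_isClosedMap f
    (Groth.Agent.DimFormulaIrr.map_genericPoint f f.denseRange) hcl n (hm ▸ hm')

end Groth.Agent.S9685
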