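import Groth.Statements.S9688
import Groth.Agent.NagataLib.Scheme

set_option autoImplicit false
universe u
open CategoryTheory CategoryTheory.Limits AlgebraicGeometry
open Mor

namespace Groth.Agent.S9688

/-- Let X be an integral Japanese scheme (every nonempty affine open has Japanese, i.e. N-2, coordinate
ring). Then the normalization morphism X^ν ⟶ X is finite. (The quasi-compactness and
quasi-separatedness binders on Spec K(X) ⟶ X always hold; they are only needed to form the
normalization.) -/
theorem result (X : Scheme.{u}) [IsIntegral X] [QuasiCompact (X.fromSpecStalk (genericPoint ↥X))] [QuasiSeparated (X.fromSpecStalk (genericPoint ↥X))]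
    (hJ : ∀ (U : X.Opens), IsAffineOpen U → ∀ (hne : Nonempty ↥U),
      @CAlg.IsN2 ↑Γ(X, U) _ (@IsIntegral.component_integral X _ U hne)) :
    IsFinite (Curv2.normalizationι X) := by
  refine Groth.Agent.NagataLib.isFinite_fromNormalization_generic (RingHom.id _)
    (X.fromSpecStalk (genericPoint X)) (by rw [CommRingCat.ofHom_id, Spec.map_id, Category.id_comp])
    fun U hU hne => ?_
  let := ((RingHom.id X.functionField).comp (X.germToFunctionField U).hom).toAlgebra
  have := functionField_isFractionRing_of_isAffineOpen X U hU
  exact Groth.Agent.NagataLib.finite_integralClosure_of_isN2 (hJ U hU hne) X.functionField X.functionField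

end Groth.Agent.S9688
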