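import Groth.Statements.S9689
import Groth.Agent.GeomUnib.Converse
import Groth.Agent.NormalizationAffine.Basic
-- import your own Groth.Agent.* helpers here

set_option autoImplicit false
universe u
open CategoryTheory CategoryTheory.Limits AlgebraicGeometry
open Mor

namespace Groth.Agent.S9689

/-- For an integral scheme X: if every local ring of X is geometrically unibranch, then the
normalization morphism X^ν ⟶ X is a universal homeomorphism. (The published statement assumes only X
irreducible; this row takes X integral, which loses nothing since the normalization of X equals that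
of its reduction.) (The quasi-compactness and quasi-separatedness binders on Spec K(X) ⟶ X always
hold; they are only needed to form the normalization.) -/
theorem result (X : Scheme.{u}) [IsIntegral X] [QuasiCompact (X.fromSpecStalk (genericPoint ↥X))] [QuasiSeparated (X.fromSpecStalk (genericPoint ↥X))]
    (hX : ∀ x : X, CAlg2.IsGeomUnibranch (X.presheaf.stalk x)) :
    FlatMor.IsUnivHomeo (Curv2.normalizationι X) := by
  have haff : ∀ U : X.affineOpens,
      UniversallyInjective (Curv2.normalizationι X ∣_ U.1) ∧ Surjective (Curv2.normalizationι X ∣_ U.1) := by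
    intro U
    by_cases hne : Nonempty U.1
    · have := NormalizationAffine.isIntegralClosure_sect (X := X) U.2
      have hd : IsDomain Γ(X, U.1) := inferInstance
      have hfr : IsFractionRing Γ(X, U.1) X.functionField := functionField_isFractionRing_of_isAffineOpen X U.1 U.2
      have hgu : ∀ (p : Ideal Γ(X, U.1)) [p.IsPrime], CAlg2.IsGeomUnibranch (Localization.AtPrime p) := by
        intro p _
        have key : ∀ (x : X) (hx : x ∈ U.1) (hp : (U.2.primeIdealOf ⟨x, hx⟩).asIdeal = p),
            CAlg2.IsGeomUnibranch (Localization.AtPrime p) := by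
          intro x hx hp
          subst hp
          let := (X.presheaf.germ U.1 x hx).hom.toAlgebra
          have := U.2.isLocalization_stalk ⟨x, hx⟩
          let e : X.presheaf.stalk x ≃+* Localization.AtPrime (U.2.primeIdealOf ⟨x, hx⟩).asIdeal :=
            (IsLocalization.algEquiv (U.2.primeIdealOf ⟨x, hx⟩).asIdeal.primeCompl _ _).toRingEquiv
          let K := X.functionField
          obtain ⟨A'', _, _, _, _, _, _, _, j, hj, -, -⟩ := GeomUnib.exists_extend (A := Γ(X, U.1))
            (A' := NormalizationAffine.Sect U.1) (K := K) (U.2.primeIdealOf ⟨x, hx⟩).asIdeal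
          exact GeomUnib.isGeomUnibranch_of_radicialAt (K := K) A''
            (GeomUnib.radicialAt_of_isGeomUnibranch (K := K) (hX x) e.toRingHom e.surjective
              (le_of_eq_of_le ((RingHom.injective_iff_ker_eq_bot e.toRingHom).1 e.injective) bot_le) A'')
        refine key (U.2.fromSpec ⟨p, inferInstance⟩) (U.2.range_fromSpec.le ⟨⟨p, inferInstance⟩, rfl⟩) ?_
        exact congrArg PrimeSpectrum.asIdeal (U.2.fromSpec.isOpenEmbedding.injective
          (U.2.fromSpec_primeIdealOf _))
      have hinj : Function.Injective (algebraMap Γ(X, U.1) (NormalizationAffine.Sect U.1)) := fun a b h => by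
        apply IsFractionRing.injective Γ(X, U.1) X.functionField
        rw [← NormalizationAffine.toK_algebraMap, ← NormalizationAffine.toK_algebraMap, h]
      have h1 := GeomUnib.universallyInjective_of_geomUnibranch (A' := NormalizationAffine.Sect U.1)
        (K := X.functionField) hgu
      have h2 : Surjective (Spec.map (CommRingCat.ofHom (algebraMap Γ(X, U.1) (NormalizationAffine.Sect U.1)))) := by
        have := IsIntegralClosure.isIntegral_algebra (A := NormalizationAffine.Sect U.1) Γ(X, U.1) X.functionField
        exact ⟨fun y => GeomUnib.exists_comap_eq hinj y⟩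
      have e : Arrow.mk (Curv2.normalizationι X ∣_ U.1) ≅
          Arrow.mk (Spec.map ((Curv2.normalizationι X).app U.1)) := by
        refine Arrow.isoMk (NormalizationAffine.isAffineOpen_preimage U.2).isoSpec U.2.isoSpec ?_
        rw [← cancel_mono U.2.fromSpec]
        simp [Scheme.Hom.app_eq_appLE, IsAffineOpen.SpecMap_appLE_fromSpec _ U.2
          (NormalizationAffine.isAffineOpen_preimage U.2), IsAffineOpen.isoSpec_hom]
      exact ⟨(MorphismProperty.arrow_mk_iso_iff @UniversallyInjective e).2 h1,
        (MorphismProperty.arrow_mk_iso_iff @Surjective e).2 h2⟩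
    · have : IsEmpty U.1 := not_nonempty_iff.1 hne
      have : IsEmpty (Curv2.normalizationι X ⁻¹ᵁ U.1 : Scheme.{u}) := ⟨fun z => hne ⟨⟨_, z.2⟩⟩⟩
      have : IsEmpty (U.1 : Scheme.{u}) := not_nonempty_iff.1 hne
      exact ⟨inferInstance, ⟨fun y => isEmptyElim y⟩⟩
  have hU := iSup_affineOpens_eq_top X
  have hinj : UniversallyInjective (Curv2.normalizationι X) :=
    (IsZariskiLocalAtTarget.iff_of_iSup_eq_top (P := @UniversallyInjective) _ hU).2 fun U => (haff U).1
  have hsurj : Surjective (Curv2.normalizationι X) :=
    (IsZariskiLocalAtTarget.iff_of_iSup_eq_top (P := @Surjective) _ hU).2 fun U => (haff U).2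
  have hclosed : UniversallyClosed (Curv2.normalizationι X) :=
    inferInstanceAs (UniversallyClosed (X.fromSpecStalk (genericPoint X)).fromNormalization)
  intro X' Y' i j g hP
  have h1 : UniversallyClosed g := MorphismProperty.of_isPullback hP.flip hclosed
  have h2 : Surjective g := MorphismProperty.of_isPullback hP.flip hsurj
  have h3 : UniversallyInjective g := MorphismProperty.of_isPullback hP.flip hinj
  exact isHomeomorph_iff_continuous_isClosedMap_bijective.mpr
    ⟨g.continuous, g.isClosedMap, g.injective, g.surjective⟩

end Groth.Agent.S9689
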