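import Mathlib
import Groth.Statements.S9693
-- import your own Groth.Agent.* helpers here

set_option autoImplicit false
universe u
open CategoryTheory CategoryTheory.Limits AlgebraicGeometry
open Mor

namespace Groth.Agent.S9693

/-- A base change of an H-projective morphism (a closed immersion into some P^n over the base followed
by the projection) is H-projective. -/
theorem result {X S S' : Scheme.{u}} (f : X ⟶ S) (hf : RelProj.IsHProjective f)
    (g : S' ⟶ S) : RelProj.IsHProjective (pullback.snd f g) := by
  obtain ⟨n, i, hi, hif⟩ := hf
  have gen : ∀ b, b = g ≫ specULiftZIsTerminal.from S →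
      IsPullback (pullback.fst (CohB1.ProjSpace.toSpec n (ULift.{u} ℤ)) b) (pullback.snd _ b)
        (CohB1.ProjSpace.toSpec n (ULift.{u} ℤ)) (g ≫ specULiftZIsTerminal.from S) := by
    rintro b rfl; exact IsPullback.of_hasPullback _ _
  have outerS := gen (specULiftZIsTerminal.from S') (specULiftZIsTerminal.hom_ext _ _)
  have rightS : IsPullback (pullback.fst _ _) (CohB1.ProjSpaceOver.toBase n S) (CohB1.ProjSpace.toSpec n (ULift.{u} ℤ))
      (specULiftZIsTerminal.from S) := IsPullback.of_hasPullback _ _
  have hR := IsPullback.of_right' outerS rightS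
  set q := rightS.lift _ _ _ with hq
  have top : IsPullback (pullback.fst f g) (pullback.snd f g) (i ≫ CohB1.ProjSpaceOver.toBase n S) g := by
    rw [hif]; exact IsPullback.of_hasPullback f g
  have hsq := IsPullback.of_bot' top hR
  exact ⟨n, _, MorphismProperty.of_isPullback (P := @IsClosedImmersion) hsq hi, hR.lift_snd _ _ _⟩

end Groth.Agent.S9693
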