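import Groth.Statements.S9694
import Groth.Agent.InvPow.LocusAffine
import Groth.Agent.InvPow.GloballyGenerated
-- import your own Groth.Agent.* helpers here

set_option autoImplicit false
universe u
open CategoryTheory CategoryTheory.Limits AlgebraicGeometry
open Mor

namespace Groth.Agent.S9694

/-- Let f : X ⟶ S be universally closed, L an O_X-module ample relative to f and s a global section of
L, viewed as a morphism O_X ⟶ L. Then the open subscheme X_s of X where s generates L is affine over
S: the inclusion of X_s followed by f is an affine morphism. -/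
theorem result {X S : Scheme.{u}} (f : X ⟶ S) [UniversallyClosed f]
    (L : X.Modules) (hL : RelAmple.IsRelAmple f L) (s : Coh.structureModule X ⟶ L) :
    IsAffineHom ((CohB1.genLocus L s).ι ≫ f) := by
  have hLi := InvPow.isInvertible_of_isRelAmple hL
  obtain ⟨σ, rfl⟩ := InvPow.exists_globalHom_eq s
  rw [InvPow.genLocus_globalHom hLi]
  obtain ⟨σ₁, hσ₁⟩ := InvPow.exists_gen_pow_one hLi σ
  refine isAffineHom_of_forall_exists_isAffineOpen _ fun y => ?_
  obtain ⟨V, hV, hyV, -⟩ := exists_isAffineOpen_mem_and_subset (x := y) (U := ⊤) (TopologicalSpace.Opens.mem_top y)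
  refine ⟨V, hyV, hV, ?_⟩
  let W := f ⁻¹ᵁ V
  let D := ProjUniv.genOpen hLi σ
  have hA : InvPow.AmpOn L W := ((InvPow.isRelAmple_iff f).mp hL).2 ⟨V, hV⟩
  have : IsAffine (V : Scheme.{u}) := hV
  have : UniversallyClosed (f ∣_ V) := IsZariskiLocalAtTarget.restrict ‹UniversallyClosed f› V
  obtain ⟨τ, hτ⟩ := (InvPow.trPull W.ι hLi).exists_map hLi (k := 1) (one_mul 1) σ₁
  have h : IsAffineOpen (W.ι ⁻¹ᵁ D) :=
    InvPow.isAffineOpen_genOpen_of_universallyClosed hA (f ∣_ V) Nat.one_pos τ _ (by rw [hτ, hσ₁])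
  have h' := h.image_of_isOpenImmersion W.ι
  rw [Scheme.Hom.image_preimage_eq_opensRange_inf, Scheme.Opens.opensRange_ι, inf_comm] at h'
  show IsAffineOpen ((D.ι ≫ f) ⁻¹ᵁ V)
  rw [Scheme.Hom.comp_preimage, ← D.ι.isAffineOpen_iff_of_isOpenImmersion,
    Scheme.Hom.image_preimage_eq_opensRange_inf, Scheme.Opens.opensRange_ι]
  exact h'

end Groth.Agent.S9694
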