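import Groth.Statements.S9695
import Groth.Agent.InvPow.RelVeryAmpleLocal
import Groth.Agent.S2330
-- import your own Groth.Agent.* helpers here

set_option autoImplicit false
universe u
open CategoryTheory CategoryTheory.Limits AlgebraicGeometry
open Mor

namespace Groth.Agent.S9695

/-- Index type: the affine opens. -/
abbrev Y_affs (S : Scheme.{u}) : Type u := ULift.{u} S.affineOpens

/-- Suppose f : X ⟶ S is a morphism of finite type and L is an invertible O_X-module. Then L is
f-relatively ample exactly when S can be covered by open subsets V with the following property: for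
every such V there is an integer d ≥ 1 for which the tensor power L^{⊗d}, restricted to f⁻¹(V), is
isomorphic to the pullback of O(1) under some V-immersion of f⁻¹(V) into a projective space P^n_V. -/
theorem result {X S : Scheme.{u}} (f : X ⟶ S)
    [LocallyOfFiniteType f] [QuasiCompact f] (L : X.Modules) (hLinv : PicF.IsInvertible L) :
    RelAmple.IsRelAmple f L ↔
      ∃ (ι : Type u) (V : ι → S.Opens), (⨆ j, V j) = ⊤ ∧
        ∀ j, ∃ d : ℕ, 0 < d ∧
          RelAmple.IsRelVeryAmplePn (f ∣_ V j) ((CohB1.tensorPow L d).restrict (f ⁻¹ᵁ V j).ι) := by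
  constructor
  · intro h
    obtain ⟨_, hV⟩ := (InvPow.isRelAmple_iff f).mp h
    refine ⟨Y_affs S, fun V => V.down.1, top_le_iff.mp fun y _ => ?_, fun V => ?_⟩
    · obtain ⟨V, hV, hyV, -⟩ := exists_isAffineOpen_mem_and_subset (x := y) (U := ⊤) (TopologicalSpace.Opens.mem_top y)
      exact TopologicalSpace.Opens.mem_iSup.mpr ⟨⟨⟨V, hV⟩⟩, hyV⟩
    · have hA := hV V.down
      have := InvPow.isSeparated_of_isAmple hA
      have := hA.2.1
      have : IsAffine (V.down.1 : Scheme.{u}) := V.down.2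
      have : IsSeparated (f ∣_ V.down.1) := IsSeparated.of_comp (f ∣_ V.down.1) (terminal.from _)
      have : LocallyOfFiniteType (f ∣_ V.down.1) := IsZariskiLocalAtTarget.restrict ‹LocallyOfFiniteType f› _
      obtain ⟨d, hd, h'⟩ := ((Groth.Agent.S2330.result (f ∣_ V.down.1) _ hA.1).1.mp hA)
      obtain ⟨e⟩ := InvPow.nonempty_pullback_pow_iso (f ⁻¹ᵁ V.down.1).ι hLinv d
      exact ⟨d, hd, InvPow.isRelVeryAmplePn_of_iso
        (e.symm ≪≫ ((Scheme.Modules.restrictFunctorIsoPullback (f ⁻¹ᵁ V.down.1).ι).app _).symm) h'⟩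
  · rintro ⟨ι, V, hV, h⟩
    refine InvPow.isRelAmple_of_local f fun y => ?_
    obtain ⟨j, hj⟩ := TopologicalSpace.Opens.mem_iSup.mp
      (show y ∈ ⨆ j, V j from hV ▸ TopologicalSpace.Opens.mem_top y)
    obtain ⟨U, hU, hyU, hUV⟩ := exists_isAffineOpen_mem_and_subset (x := y) (U := V j) hj
    obtain ⟨d, hd, hd'⟩ := h j
    refine ⟨U, hyU, ?_⟩
    have hle : f ⁻¹ᵁ U ≤ f ⁻¹ᵁ V j := fun x hx => hUV hx
    have hva := InvPow.isRelVeryAmplePn_pullback hd' (X.homOfLE hle) (S.homOfLE hUV) (f ∣_ U) (by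
      rw [← cancel_mono (V j).ι, Category.assoc, Scheme.homOfLE_ι, morphismRestrict_ι, Category.assoc,
        morphismRestrict_ι, Scheme.homOfLE_ι_assoc])
    obtain ⟨e⟩ := InvPow.nonempty_pullback_pow_iso (f ⁻¹ᵁ U).ι hLinv d
    have hva' := InvPow.isRelVeryAmplePn_of_iso ((Scheme.Modules.pullback (X.homOfLE hle)).mapIso
      ((Scheme.Modules.restrictFunctorIsoPullback (f ⁻¹ᵁ V j).ι).app _) ≪≫
      (Scheme.Modules.pullbackComp _ _).app _ ≪≫ (Scheme.Modules.pullbackCongr (X.homOfLE_ι hle)).app _ ≪≫ e) hva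
    have : IsAffine (U : Scheme.{u}) := hU
    have := InvPow.isSeparated_of_isRelVeryAmplePn hva'
    have : LocallyOfFiniteType (f ∣_ U) := IsZariskiLocalAtTarget.restrict ‹LocallyOfFiniteType f› _
    exact (Groth.Agent.S2330.result (f ∣_ U) _ (ProjUniv.isInvertible_pullback _ hLinv)).1.mpr ⟨d, hd, hva'⟩

end Groth.Agent.S9695
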