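import Groth.Statements.S9698
import Mathlib
-- import your own Groth.Agent.* helpers here

set_option autoImplicit false
universe u
open CategoryTheory CategoryTheory.Limits AlgebraicGeometry
open Mor

namespace Groth.Agent.S9698

/-- Let π : X ⟶ S be locally of finite type with X quasi-affine. Then there exist n ≥ 0 and an immersion
i : X ⟶ A^n_S over S (affine n-space on the index type Fin n, lifted to the ambient universe). -/
theorem result {X S : Scheme.{u}} (π : X ⟶ S)
    [LocallyOfFiniteType π] [X.IsQuasiAffine] :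
    ∃ (n : ℕ) (i : X ⟶ 𝔸(ULift.{u} (Fin n); S)), IsImmersion i ∧ i ≫ (𝔸(ULift.{u} (Fin n); S) ↘ S) = π := by
  classical
  haveI : QuasiSeparatedSpace X := inferInstance
  have hloc : ∀ x : X, ∃ (g : Γ(X, ⊤)) (V : S.Opens) (H : Finset Γ(X, ⊤)), IsAffineOpen V ∧ x ∈ X.basicOpen g ∧
      IsAffineOpen (X.basicOpen g) ∧ ∃ hle : X.basicOpen g ≤ π ⁻¹ᵁ V,
      Subring.closure (Set.range (π.appLE V (X.basicOpen g) hle) ∪
        ((fun h => X.presheaf.map (homOfLE le_top).op h) '' (H : Set Γ(X, ⊤))) ∪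
        {z | z * X.presheaf.map (homOfLE le_top).op g = 1}) = ⊤ := by
    intro x
    obtain ⟨V, hV, hxV, -⟩ := exists_isAffineOpen_mem_and_subset (X := S) (x := π x) (U := ⊤) trivial
    obtain ⟨_, ⟨g, hg, rfl⟩, hxg, hle⟩ :=
      (TopologicalSpace.Opens.isBasis_iff_nbhd.1 (Scheme.IsQuasiAffine.isBasis_basicOpen X)) (show x ∈ π ⁻¹ᵁ V from hxV)
    letI := (π.appLE V (X.basicOpen g) hle).hom.toAlgebra
    haveI : Algebra.FiniteType Γ(S, V) Γ(X, X.basicOpen g) :=
      RingHom.finiteType_algebraMap.1 (π.finiteType_appLE hV hg hle)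
    obtain ⟨G, hG⟩ : (⊤ : Subalgebra Γ(S, V) Γ(X, X.basicOpen g)).FG := Algebra.FiniteType.out
    haveI hlz := isLocalization_basicOpen_of_qcqs (U := (⊤ : X.Opens)) isCompact_univ isQuasiSeparated_univ g
    choose h hh using fun a : Γ(X, X.basicOpen g) => IsLocalization.surj (Submonoid.powers g) a
    refine ⟨g, V, G.image (fun a => (h a).1), hV, hxg, hg, hle, eq_top_iff.2 fun a ha' => ?_⟩
    clear ha'
    let R0 := Subring.closure (Set.range (π.appLE V (X.basicOpen g) hle) ∪
        ((fun h => X.presheaf.map (homOfLE le_top).op h) '' (G.image (fun a => (h a).1) : Set Γ(X, ⊤))) ∪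
        {z | z * X.presheaf.map (homOfLE le_top).op g = 1})
    change a ∈ R0
    have ha : a ∈ Algebra.adjoin Γ(S, V) (G : Set Γ(X, X.basicOpen g)) := by rw [hG]; trivial
    induction ha using Algebra.adjoin_induction with
    | algebraMap r => exact Subring.subset_closure (Or.inl (Or.inl ⟨r, rfl⟩))
    | add a b _ _ ha hb => exact R0.add_mem ha hb
    | mul a b _ _ ha hb => exact R0.mul_mem ha hb
    | mem a ha =>
      obtain ⟨m, hm⟩ := (Submonoid.mem_powers_iff _ _).1 (h a).2.2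
      obtain ⟨u, hu⟩ : IsUnit (X.presheaf.map (homOfLE le_top).op g : Γ(X, X.basicOpen g)) :=
        RingedSpace.isUnit_res_basicOpen _ g
      have h2 := hh a
      rw [← hm, map_pow] at h2
      have h3 : a = algebraMap Γ(X, ⊤) Γ(X, X.basicOpen g) (h a).1 * (↑u⁻¹ : Γ(X, X.basicOpen g)) ^ m := by
        rw [← h2, mul_assoc, ← mul_pow]
        rw [show algebraMap Γ(X, ⊤) Γ(X, X.basicOpen g) g = (u : Γ(X, X.basicOpen g)) from hu.symm, Units.mul_inv, one_pow, mul_one]
      rw [h3]
      refine R0.mul_mem (Subring.subset_closure (Or.inl (Or.inr ⟨_, Finset.mem_coe.2 (Finset.mem_image_of_mem _ ha), rfl⟩)))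
        (R0.pow_mem (Subring.subset_closure (Or.inr ?_)) m)
      change (↑u⁻¹ : Γ(X, X.basicOpen g)) * X.presheaf.map (homOfLE le_top).op g = 1
      rw [← hu, Units.inv_mul]
  choose g V H hV hxg hg hle hgen using hloc
  obtain ⟨t, ht⟩ := isCompact_univ.elim_finite_subcover (fun x => (X.basicOpen (g x) : Set X))
    (fun x => (X.basicOpen (g x)).2) (fun x _ => Set.mem_iUnion.2 ⟨x, hxg x⟩)
  let T : Finset Γ(X, ⊤) := t.image g ∪ t.biUnion H
  let v : ULift.{u} (Fin T.card) → Γ(X, ⊤) := fun j => (T.equivFin.symm j.down : Γ(X, ⊤))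
  have hv : ∀ a ∈ T, ∃ j, v j = a := fun a ha => ⟨⟨T.equivFin ⟨a, ha⟩⟩, by simp [v]⟩
  let A := 𝔸(ULift.{u} (Fin T.card); S)
  let i : X ⟶ A := AffineSpace.homOfVector π v
  have hi : i ≫ (A ↘ S) = π := AffineSpace.homOfVector_over _ _
  refine ⟨T.card, i, ?_, hi⟩
  rcases isEmpty_or_nonempty X with hX | hX
  · infer_instance
  haveI : Nonempty (ULift.{u} (Fin T.card)) := by
    obtain ⟨x⟩ := hX
    obtain ⟨y, hy, -⟩ := Set.mem_iUnion₂.1 (ht (Set.mem_univ x))
    obtain ⟨j, -⟩ := hv (g y) (Finset.mem_union_left _ (Finset.mem_image_of_mem _ hy))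
    exact ⟨j⟩
  choose! j hj using hv
  let W : t → A.Opens := fun x => A.basicOpen
    (A.presheaf.map (homOfLE (le_top : (A ↘ S) ⁻¹ᵁ V x ≤ ⊤)).op (AffineSpace.coord S (j (g x.1))))
  have hgT : ∀ x : t, g x.1 ∈ T := fun x => Finset.mem_union_left _ (Finset.mem_image_of_mem _ x.2)
  have hcoord : ∀ a ∈ T, i.appTop (AffineSpace.coord S (j a)) = a := fun a ha => by
    rw [AffineSpace.homOfVector_appTop_coord, hj a ha]
  have hWle : ∀ x : t, W x ≤ A.basicOpen (AffineSpace.coord S (j (g x.1))) := fun x => by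
    simp only [W, Scheme.basicOpen_res]; exact inf_le_right
  have hpre : ∀ x : t, i ⁻¹ᵁ W x = X.basicOpen (g x.1) := fun x => by
    simp only [W, Scheme.basicOpen_res]
    rw [Scheme.Hom.preimage_inf, ← Scheme.Hom.comp_preimage, hi, Scheme.preimage_basicOpen]
    erw [hcoord _ (hgT x)]
    exact inf_eq_right.2 (hle x.1)
  have hWaff : ∀ x : t, IsAffineOpen (W x) := fun x => ((hV x.1).preimage (A ↘ S)).basicOpen _
  have hcl : ∀ x : t, IsClosedImmersion (i ∣_ W x) := fun x => by
    haveI : IsAffine (W x : Scheme.{u}) := hWaff x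
    haveI : IsAffine (i ⁻¹ᵁ W x : Scheme.{u}) := by rw [hpre]; exact hg x.1
    refine IsClosedImmersion.of_surjective_of_isAffine _ ?_
    have hsurj : Function.Surjective (i.appLE (W x) (X.basicOpen (g x.1)) (hpre x).ge).hom := by
      rw [← RingHom.range_eq_top, eq_top_iff, ← hgen x.1, Subring.closure_le]
      rintro z ((⟨r, rfl⟩ | ⟨h, hh, rfl⟩) | hz)
      · refine ⟨(A ↘ S).appLE (V x.1) (W x) (A.basicOpen_le _) r, ?_⟩
        rw [← CommRingCat.comp_apply, Scheme.Hom.appLE_comp_appLE]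
        simp only [hi]
      · refine ⟨A.presheaf.map (homOfLE le_top).op (AffineSpace.coord S (j h)), ?_⟩
        rw [← CommRingCat.comp_apply, Scheme.Hom.map_appLE, Scheme.Hom.appLE, CommRingCat.comp_apply]
        erw [hcoord h (Finset.mem_union_right _ (Finset.mem_biUnion.2 ⟨x.1, x.2, hh⟩))]
        rfl
      · obtain ⟨c, hc⟩ : IsUnit (A.presheaf.map (homOfLE (le_top : W x ≤ ⊤)).op (AffineSpace.coord S (j (g x.1)))) := by
          have key : ∀ (c : Γ(A, ⊤)) (U : A.Opens), IsUnit (A.presheaf.map (homOfLE (le_top :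
              A.basicOpen (A.presheaf.map (homOfLE (le_top : U ≤ ⊤)).op c) ≤ ⊤)).op c) := fun c U => by
            have h := RingedSpace.isUnit_res_basicOpen A.toLocallyRingedSpace.toRingedSpace
              (A.presheaf.map (homOfLE (le_top : U ≤ ⊤)).op c)
            have e : A.presheaf.map (homOfLE (A.basicOpen_le (A.presheaf.map (homOfLE (le_top : U ≤ ⊤)).op c))).op
                (A.presheaf.map (homOfLE (le_top : U ≤ ⊤)).op c) = A.presheaf.map (homOfLE (le_top :
                A.basicOpen (A.presheaf.map (homOfLE (le_top : U ≤ ⊤)).op c) ≤ ⊤)).op c :=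
              (ConcreteCategory.congr_hom (A.presheaf.map_comp (homOfLE (le_top : U ≤ ⊤)).op
                (homOfLE (A.basicOpen_le (A.presheaf.map (homOfLE (le_top : U ≤ ⊤)).op c))).op) c).symm
            exact Eq.subst (motive := fun z => IsUnit z) e h
          exact key _ _
        refine ⟨↑c⁻¹, ?_⟩
        have h1 : (i.appLE (W x) (X.basicOpen (g x.1)) (hpre x).ge).hom (c : Γ(A, W x)) = X.presheaf.map (homOfLE le_top).op (g x.1) := by
          rw [hc, ← CommRingCat.comp_apply, Scheme.Hom.map_appLE, Scheme.Hom.appLE, CommRingCat.comp_apply]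
          erw [hcoord _ (hgT x)]
          rfl
        have h2 : (i.appLE (W x) (X.basicOpen (g x.1)) (hpre x).ge).hom (↑c⁻¹ : Γ(A, W x)) *
            X.presheaf.map (homOfLE le_top).op (g x.1) = 1 := by
          rw [← h1, ← map_mul, Units.inv_mul, map_one]
        calc _ = (i.appLE (W x) (X.basicOpen (g x.1)) (hpre x).ge).hom (↑c⁻¹ : Γ(A, W x)) *
              (z * X.presheaf.map (homOfLE le_top).op (g x.1)) := by rw [show z * _ = 1 from hz, mul_one]
          _ = z := by rw [mul_comm z, ← mul_assoc, h2, one_mul]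
    have gen : ∀ (U' : A.Opens) (W' : X.Opens), U' = W x → W' = X.basicOpen (g x.1) → ∀ e, Function.Surjective (i.appLE U' W' e).hom := by
      rintro U' W' rfl rfl e
      exact hsurj
    rw [show (i ∣_ W x).appTop = (i ∣_ W x).app ⊤ from rfl, morphismRestrict_app']
    exact gen _ _ (Scheme.Opens.ι_image_top _) ((Scheme.Opens.ι_image_top _).trans (hpre x)) _
  let O : A.Opens := ⨆ x, W x
  have hO : i ⁻¹ᵁ O = ⊤ := eq_top_iff.2 fun y _ => by
    obtain ⟨x, hx, hyx⟩ := Set.mem_iUnion₂.1 (ht (Set.mem_univ y))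
    have : y ∈ i ⁻¹ᵁ W ⟨x, hx⟩ := by rw [hpre]; exact hyx
    exact TopologicalSpace.Opens.mem_iSup.2 ⟨⟨x, hx⟩, this⟩
  haveI : IsClosedImmersion (i.resLE O ⊤ hO.ge) := by
    refine IsZariskiLocalAtTarget.of_iSup_eq_top (P := @IsClosedImmersion) (fun x => O.ι ⁻¹ᵁ W x) ?_ fun x => ?_
    · rw [← Scheme.Hom.preimage_iSup]
      exact Scheme.Opens.ι_preimage_self O
    · refine (MorphismProperty.arrow_mk_iso_iff @IsClosedImmersion ?_).2 (hcl x)
      refine Arrow.isoMk ((⊤ : X.Opens).ι.isoImage _ ≪≫ X.isoOfEq ?_) (O.ι.isoImage _ ≪≫ A.isoOfEq ?_) ?_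
      · rw [← Scheme.Hom.comp_preimage, Scheme.Hom.resLE_comp_ι, Scheme.Hom.comp_preimage]
        exact Scheme.Hom.image_preimage_eq_opensRange_inf _ _ |>.trans (by simp)
      · rw [Scheme.Hom.image_preimage_eq_opensRange_inf, Scheme.Opens.opensRange_ι]
        exact inf_eq_right.2 (le_iSup W x)
      · rw [← cancel_mono (W x).ι]
        simp
  have : i = X.topIso.inv ≫ i.resLE O ⊤ hO.ge ≫ O.ι := by simp [Scheme.Hom.resLE_comp_ι]
  rw [this]
  infer_instance

end Groth.Agent.S9698
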