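import Groth.Statements.S9701
import Groth.Agent.SpreadFP.Glue
import Groth.Agent.SpreadFP.Gen
-- import your own Groth.Agent.* helpers here

set_option autoImplicit false
universe u
open CategoryTheory CategoryTheory.Limits AlgebraicGeometry
open Mor

namespace Groth.Agent.S9701

/-- Let p : X ⟶ S and q : Y ⟶ S with q proper, let x be a point of X whose local ring is a valuation
ring, U ⊆ X an open with x in the closure of U, and f : U ⟶ Y a morphism over S. Assume that X is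
Noetherian, or else that X is reduced and has only finitely many irreducible components. Then there
are an open U' of X containing U and x and a morphism f' : U' ⟶ Y over S extending f. -/
theorem result {X Y S : Scheme.{u}} (p : X ⟶ S) (q : Y ⟶ S)
    [IsProper q] (x : X) (U : X.Opens) (f : (U : Scheme.{u}) ⟶ Y) (hf : f ≫ q = U.ι ≫ p)
    (hx : x ∈ closure (U : Set ↥X))
    (hX : (IsReduced X ∧ (irreducibleComponents ↥X).Finite) ∨ IsNoetherian X)
    (hdom : IsDomain (X.presheaf.stalk x)) (hval : @ValuationRing (X.presheaf.stalk x) _ hdom) :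
    ∃ (U' : X.Opens) (hUU' : U ≤ U'), x ∈ U' ∧
      ∃ f' : (U' : Scheme.{u}) ⟶ Y, f' ≫ q = U'.ι ≫ p ∧ X.homOfLE hUU' ≫ f' = f := by
  letI := hdom
  haveI := hval
  let η : X := X.fromSpecStalk x ⟨⊥, Ideal.isPrime_bot⟩
  have hηx : η ⤳ x := by
    have h : η ∈ Set.range (X.fromSpecStalk x) := ⟨_, rfl⟩
    rw [Scheme.range_fromSpecStalk] at h
    exact h
  have hgen : ∀ z, z ⤳ x → η ⤳ z := by
    intro z hz
    obtain ⟨q, rfl⟩ : z ∈ Set.range (X.fromSpecStalk x) := by rw [Scheme.range_fromSpecStalk]; exact hz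
    exact ((PrimeSpectrum.le_iff_specializes ⟨⊥, Ideal.isPrime_bot⟩ q).1 bot_le).map (X.fromSpecStalk x).continuous
  have hfin : (irreducibleComponents ↥X).Finite := by
    rcases hX with h | h
    · exact h.2
    · exact TopologicalSpace.NoetherianSpace.finite_irreducibleComponents
  haveI : X.IsGermInjectiveAt x := by
    rcases hX with ⟨h, h'⟩ | h
    · exact SpreadFP.isGermInjectiveAt_of_isReduced h' x
    · infer_instance
  have hxo : x ∈ SpreadFP.only hfin η := by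
    rintro ⟨Z, ⟨hZ, hne⟩, hxZ⟩
    obtain ⟨ζ, hζ⟩ := QuasiSober.sober hZ.1 (isClosed_of_mem_irreducibleComponents Z hZ)
    have h1 : η ⤳ ζ := hgen ζ (specializes_iff_mem_closure.2 (hζ.def.symm ▸ hxZ))
    have hζg : ζ ∈ SpreadFP.Gens X := by
      show closure ({ζ} : Set X) ∈ irreducibleComponents ↥X
      rw [hζ.def]; exact hZ
    exact hne ((SpreadFP.eq_of_gens_specializes hζg h1).symm ▸ hζ.def.symm)
  have hηU : η ∈ U := by
    obtain ⟨z, hzo, hzU⟩ := mem_closure_iff.1 hx _ (SpreadFP.only hfin η).2 hxo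
    obtain ⟨ζ, hζ, hζz⟩ := SpreadFP.exists_gen_specializes z
    have : closure ({ζ} : Set X) = closure {η} := by
      by_contra hne
      exact hzo ⟨_, ⟨hζ, hne⟩, specializes_iff_mem_closure.1 hζz⟩
    exact ((inseparable_iff_closure_eq.2 this).eq ▸ hζz).mem_open U.2 hzU
  let K := FractionRing (X.presheaf.stalk x)
  let j : Spec (CommRingCat.of K) ⟶ Spec (X.presheaf.stalk x) := Spec.map (CommRingCat.ofHom (algebraMap (X.presheaf.stalk x) K))
  have hj : ∀ z, j z = ⟨⊥, Ideal.isPrime_bot⟩ := by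
    intro z
    apply PrimeSpectrum.ext
    change Ideal.comap (algebraMap (X.presheaf.stalk x) K) z.asIdeal = ⊥
    rw [(Ideal.eq_bot_or_top z.asIdeal).resolve_right z.2.ne_top, ← RingHom.ker_eq_comap_bot]
    exact (RingHom.injective_iff_ker_eq_bot _).1 (IsFractionRing.injective (X.presheaf.stalk x) K)
  have hr : ∀ (W : X.Opens), η ∈ W → Set.range (j ≫ X.fromSpecStalk x) ⊆ Set.range W.ι := by
    intro W hW
    rintro _ ⟨z, rfl⟩
    rw [Scheme.Opens.range_ι, Scheme.Hom.comp_apply, hj]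
    exact hW
  obtain ⟨a, ha⟩ : ∃ a, a ≫ U.ι = j ≫ X.fromSpecStalk x := ⟨_, IsOpenImmersion.lift_fac _ _ (hr U hηU)⟩
  have hv : ValuativeCriterion.Existence q := by
    have h := (IsProper.eq_valuativeCriterion ▸ ‹IsProper q› :)
    exact h.1.1.1.existence
  obtain ⟨⟨l, hl1, hl2⟩⟩ := (hv (@ValuativeCommSq.mk _ _ q (X.presheaf.stalk x) _ hdom hval K _ _ _ (a ≫ f) (X.fromSpecStalk x ≫ p)
    ⟨by rw [Category.assoc, hf, ← Category.assoc, ha, Category.assoc]; rfl⟩)).exists_lift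
  obtain ⟨U₁, hxU₁, f₁, hf₁, hf₁'⟩ := spread_out_of_isGermInjective' p q l hl2
  obtain ⟨V, hxV, hV, hVle, hinj⟩ := X.exists_le_and_germ_injective x U₁ hxU₁
  haveI : IsDomain Γ(X, V) := hinj.isDomain
  haveI : IsAffine V.toScheme := hV
  haveI : Nonempty V.toScheme := ⟨⟨x, hxV⟩⟩
  haveI : IsDomain Γ(V.toScheme, ⊤) := V.topIso.commRingCatIsoToRingEquiv.toMulEquiv.isDomain _
  haveI : IsIntegral V.toScheme := isIntegral_of_isAffine_of_isDomain V.toScheme
  let W : X.Opens := U ⊓ V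
  have hηV : η ∈ V := hηx.mem_open V.2 hxV
  haveI : IsReduced W.toScheme := isReduced_of_isOpenImmersion (X.homOfLE (inf_le_right : W ≤ V))
  obtain ⟨b, hb⟩ : ∃ b, b ≫ W.ι = j ≫ X.fromSpecStalk x := ⟨_, IsOpenImmersion.lift_fac _ _ (hr W ⟨hηU, hηV⟩)⟩
  haveI : IsDominant b := by
    refine ⟨fun w => ?_⟩
    obtain ⟨z⟩ : Nonempty (Spec (CommRingCat.of K)) := inferInstance
    have hz : W.ι (b z) = η := by rw [← Scheme.Hom.comp_apply, hb, Scheme.Hom.comp_apply, hj]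
    refine closure_mono (Set.singleton_subset_iff.2 (Set.mem_range_self z)) (specializes_iff_mem_closure.1 ?_)
    rw [← W.ι.isOpenEmbedding.isInducing.specializes_iff, hz]
    let ξ : X := V.ι (genericPoint V.toScheme)
    have h1 : ξ ⤳ x := (genericPoint_specializes (α := V.toScheme) ⟨x, hxV⟩).map V.ι.continuous
    have h2 : ξ ⤳ W.ι w := (genericPoint_specializes (α := V.toScheme) ⟨w.1, w.2.2⟩).map V.ι.continuous
    exact (hgen ξ h1).trans h2
  have hagree : X.homOfLE (inf_le_left : W ≤ U) ≫ f = X.homOfLE (inf_le_right : W ≤ V) ≫ X.homOfLE hVle ≫ f₁ := by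
    refine ext_of_isDominant_of_isSeparated q ?_ b ?_
    · simp only [Category.assoc, hf, hf₁', Scheme.homOfLE_ι_assoc]
    · have h1 : b ≫ X.homOfLE (inf_le_left : W ≤ U) = a := by
        rw [← cancel_mono U.ι, Category.assoc, Scheme.homOfLE_ι, hb, ha]
      have h2 : b ≫ X.homOfLE (inf_le_right : W ≤ V) ≫ X.homOfLE hVle = j ≫ U₁.fromSpecStalkOfMem x hxU₁ := by
        rw [← cancel_mono U₁.ι]
        simp [hb]
      rw [reassoc_of% h1, reassoc_of% h2, ← hf₁]
      exact hl1.symm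
  obtain ⟨G, hG1, hG2⟩ := SpreadFP.exists_glue_pair U V f (X.homOfLE hVle ≫ f₁) hagree
  refine ⟨U ⊔ V, le_sup_left, Or.inr hxV, G, ?_, hG1⟩
  apply Scheme.Cover.hom_ext ((U ⊔ V).toScheme.openCoverOfIsOpenCover
    (fun b : ULift.{u} Bool => (U ⊔ V).ι ⁻¹ᵁ (bif b.down then U else V)) (by
      refine TopologicalSpace.IsOpenCover.mk (top_le_iff.1 fun z _ => ?_)
      rcases z.2 with h | h
      · exact TopologicalSpace.Opens.mem_iSup.2 ⟨⟨true⟩, h⟩
      · exact TopologicalSpace.Opens.mem_iSup.2 ⟨⟨false⟩, h⟩))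
  rintro ⟨_ | _⟩
  · show ((U ⊔ V).ι ⁻¹ᵁ V).ι ≫ G ≫ q = ((U ⊔ V).ι ⁻¹ᵁ V).ι ≫ (U ⊔ V).ι ≫ p
    have : ((U ⊔ V).ι ⁻¹ᵁ V).ι = ((U ⊔ V).ι ∣_ V) ≫ X.homOfLE le_sup_right := by
      rw [← cancel_mono (U ⊔ V).ι, Category.assoc, Scheme.homOfLE_ι, morphismRestrict_ι]
    rw [this, Category.assoc, reassoc_of% hG2, hf₁', Category.assoc, Scheme.homOfLE_ι_assoc, Scheme.homOfLE_ι_assoc]
  · show ((U ⊔ V).ι ⁻¹ᵁ U).ι ≫ G ≫ q = ((U ⊔ V).ι ⁻¹ᵁ U).ι ≫ (U ⊔ V).ι ≫ p
    have : ((U ⊔ V).ι ⁻¹ᵁ U).ι = ((U ⊔ V).ι ∣_ U) ≫ X.homOfLE le_sup_left := by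
      rw [← cancel_mono (U ⊔ V).ι, Category.assoc, Scheme.homOfLE_ι, morphismRestrict_ι]
    rw [this, Category.assoc, reassoc_of% hG1, hf, Category.assoc, Scheme.homOfLE_ι_assoc]

end Groth.Agent.S9701
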