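import Mathlib
import Groth.Statements.S9709
-- import your own Groth.Agent.* helpers here

set_option autoImplicit false
universe u
open CategoryTheory CategoryTheory.Limits AlgebraicGeometry
open Mor

namespace Groth.Agent.S9709

/-- Let f : X ⟶ S be an integral morphism. Then every point x of X is closed in its fibre: a point of
f⁻¹(f x) specialising from x equals x. -/
theorem result {X S : Scheme.{u}} (f : X ⟶ S) [IsIntegralHom f] (x : X) :
    closure {x} ∩ f.base ⁻¹' {f.base x} = {x} := by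
  refine Set.Subset.antisymm ?_ (Set.singleton_subset_iff.2 ⟨subset_closure rfl, rfl⟩)
  rintro y ⟨hy, hfy⟩
  have hfy' : f y = f x := hfy
  obtain ⟨_, ⟨V, hV, rfl⟩, hxV, -⟩ := S.isBasis_affineOpens.exists_subset_of_mem_open (Set.mem_univ (f x)) isOpen_univ
  have hU : IsAffineOpen (f ⁻¹ᵁ V) := hV.preimage f
  have hyU : y ∈ f ⁻¹ᵁ V := show f y ∈ V from hfy'.symm ▸ hxV
  obtain ⟨p, hp⟩ : x ∈ Set.range hU.fromSpec := by rw [hU.range_fromSpec]; exact hxV
  obtain ⟨q, hq⟩ : y ∈ Set.range hU.fromSpec := by rw [hU.range_fromSpec]; exact hyU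
  have hsp : p ⤳ q := by
    rw [← hU.fromSpec.isOpenEmbedding.isInducing.specializes_iff, hp, hq]
    exact specializes_iff_mem_closure.2 hy
  have hle : p.asIdeal ≤ q.asIdeal := ((PrimeSpectrum.le_iff_specializes _ _).2 hsp : _)
  haveI := hV.isOpenImmersion_fromSpec
  have hcomp : PrimeSpectrum.comap (f.app V).hom p = PrimeSpectrum.comap (f.app V).hom q := by
    apply hV.fromSpec.isOpenEmbedding.injective
    have h1 : ∀ z, hV.fromSpec (Spec.map (f.app V) z) = f (hU.fromSpec z) := fun z => by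
      rw [← Scheme.Hom.comp_apply, Scheme.Hom.app_eq_appLE, IsAffineOpen.SpecMap_appLE_fromSpec f hV hU le_rfl]
      rfl
    show hV.fromSpec (Spec.map (f.app V) p) = hV.fromSpec (Spec.map (f.app V) q)
    rw [h1, h1, hp, hq, hfy']
  letI := (f.app V).hom.toAlgebra
  haveI : Algebra.IsIntegral Γ(S, V) Γ(X, f ⁻¹ᵁ V) := ⟨(f.isIntegral_app V hV)⟩
  have hpq : p = q := by
    by_contra hne
    have hlt : p.asIdeal < q.asIdeal := lt_of_le_of_ne hle fun e => hne (PrimeSpectrum.ext e)
    haveI : p.asIdeal.IsPrime := p.isPrime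
    exact (Ideal.IsIntegral.comap_lt_comap (R := Γ(S, V)) hlt).ne (congrArg PrimeSpectrum.asIdeal hcomp)
  rw [Set.mem_singleton_iff, ← hq, ← hpq, hp]

end Groth.Agent.S9709
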