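import Groth.Statements.S9711
import Groth.Agent.S9375
import Groth.Agent.ConormalSection.PullbackStalk
import Mathlib.AlgebraicGeometry.Morphisms.Smooth
-- import your own Groth.Agent.* helpers here

set_option autoImplicit false
universe u
open CategoryTheory CategoryTheory.Limits AlgebraicGeometry
open OmegaSh

namespace Groth.Agent.S9711

/-- along a formally smooth `A → B` over a surjection `A → C`, maps out of `J/J²` extend to `I/I²` -/
theorem exists_extension {A B C : Type u} [CommRing A] [CommRing B] [CommRing C] (ρ : A →+* B) (ι : B →+* C)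
    (hρ : ρ.FormallySmooth) (hκ : Function.Surjective (ι.comp ρ)) {P : Type u} [AddCommGroup P] [Module C P]
    (τ : RingHom.ker (ι.comp ρ) →+ P) (hτ : ∀ (a : A) q, τ (a • q) = ι (ρ a) • τ q) :
    ∃ T : RingHom.ker ι →+ P, (∀ (r : B) b, T (r • b) = ι r • T b) ∧
      ∀ (q : RingHom.ker (ι.comp ρ)) (hq : ρ q ∈ RingHom.ker ι), T ⟨ρ q, hq⟩ = τ q := by
  let J := RingHom.ker (ι.comp ρ)
  let _ := ρ.toAlgebra
  let _ := (ι.comp ρ).toAlgebra
  have : Algebra.FormallySmooth A B := hρ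
  let g : A ⧸ J ^ 2 →ₐ[A] C := Ideal.Quotient.liftₐ (J ^ 2) (Algebra.ofId A C) fun a ha => Ideal.pow_le_self two_ne_zero ha
  have hg : Function.Surjective g := fun c => by
    obtain ⟨a, rfl⟩ := hκ c
    exact ⟨Ideal.Quotient.mk _ a, rfl⟩
  have hn : IsNilpotent (RingHom.ker (g : A ⧸ J ^ 2 →+* C)) := by
    have hle : RingHom.ker (g : A ⧸ J ^ 2 →+* C) ≤ J.map (Ideal.Quotient.mk (J ^ 2)) := fun x hx => by
      obtain ⟨a, rfl⟩ := Ideal.Quotient.mk_surjective x
      exact Ideal.mem_map_of_mem _ hx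
    exact ⟨2, le_bot_iff.1 ((Ideal.pow_right_mono hle 2).trans (by rw [← Ideal.map_pow, Ideal.map_quotient_self]))⟩
  let ι' : B →ₐ[A] C := ⟨ι, fun _ => rfl⟩
  let σ := Algebra.FormallySmooth.liftOfSurjective ι' g hg hn
  have hσ : ∀ b, g (σ b) = ι b := Algebra.FormallySmooth.liftOfSurjective_apply ι' g hg hn
  have hσρ : ∀ a, σ (ρ a) = Ideal.Quotient.mk _ a := fun a => σ.commutes a
  have hτ0 : ∀ q : J, (q : A) ∈ J ^ 2 → τ q = 0 := by
    rintro ⟨q, hq⟩ hq2
    have key : ∀ x, x ∈ J ^ 2 → ∃ h : x ∈ J, τ ⟨x, h⟩ = 0 := fun x hx => by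
      rw [pow_two] at hx
      induction hx using Submodule.mul_induction_on' with
      | mem_mul_mem a ha b hb =>
        refine ⟨J.mul_mem_left a hb, ?_⟩
        rw [show (⟨a * b, J.mul_mem_left a hb⟩ : J) = a • (⟨b, hb⟩ : J) from rfl, hτ,
          show ι (ρ a) = 0 from ha, zero_smul]
      | add x _ y _ hx hy =>
        obtain ⟨hx, hx'⟩ := hx
        obtain ⟨hy, hy'⟩ := hy
        refine ⟨add_mem hx hy, ?_⟩
        rw [show (⟨x + y, add_mem hx hy⟩ : J) = ⟨x, hx⟩ + ⟨y, hy⟩ from rfl, map_add, hx', hy', add_zero]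
    exact (key q hq2).2
  have hchoice : ∀ b : RingHom.ker ι, ∃ q : J, Ideal.Quotient.mk (J ^ 2) (q : A) = σ b.1 := fun b => by
    obtain ⟨a, ha⟩ := Ideal.Quotient.mk_surjective (σ b.1)
    refine ⟨⟨a, show ι (ρ a) = 0 from ?_⟩, ha⟩
    exact (show ι (ρ a) = g (σ b.1) from by rw [← ha]; rfl).trans ((hσ _).trans b.2)
  choose q hq using hchoice
  have hind : ∀ q q' : J, Ideal.Quotient.mk (J ^ 2) (q : A) = Ideal.Quotient.mk (J ^ 2) (q' : A) → τ q = τ q' :=
    fun q q' h => by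
      rw [← sub_eq_zero, ← map_sub]
      exact hτ0 _ (Ideal.Quotient.eq.1 h)
  refine ⟨AddMonoidHom.mk' (fun b => τ (q b)) fun b b' => ?_, fun r b => ?_, fun q' hq' => ?_⟩
  · rw [← map_add]
    refine hind _ _ ?_
    show _ = Ideal.Quotient.mk (J ^ 2) ((q b : A) + (q b' : A))
    rw [map_add, hq, hq, hq, ← map_add]
    rfl
  · obtain ⟨a, ha⟩ := Ideal.Quotient.mk_surjective (σ r)
    show τ (q (r • b)) = ι r • τ (q b)
    rw [show ι r = ι (ρ a) by rw [← hσ r, ← ha]; rfl, ← hτ]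
    refine hind _ _ ?_
    show _ = Ideal.Quotient.mk (J ^ 2) (a * (q b : A))
    rw [map_mul, hq, hq, ha, ← map_mul]
    rfl
  · refine hind _ _ ?_
    rw [hq]
    exact hσρ _

open AlgebraicGeometry CategoryTheory Limits OmegaSh Groth.Agent.OmegaUniv
open Groth.Agent.ConormalSection (pullRes pullRes_add pullRes_smul idealSect_injective idealSect_smul)
open Groth.Agent.S9375 (psi' psi'_res)

theorem mono_psi' {Z X Y : Scheme.{u}} (p : X ⟶ Y) [Smooth p] (i : Z ⟶ X) [IsImmersion i] [QuasiCompact i]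
    [IsImmersion (i ≫ p)] [QuasiCompact (i ≫ p)]
    (ψ : (Scheme.Modules.pullback (𝟙 Z)).obj (Omega.conormal (i ≫ p)) ⟶ Omega.conormal i)
    (hψ : OmegaSh.IsConormalMap i (i ≫ p) p (𝟙 Z) ψ) : Mono (psi' ψ) := by
  classical
  refine (QCohLib.mono_iff_stalk_injective _).2 fun z => ?_
  let j := i ≫ p
  let P := (Scheme.Modules.pullback j).obj (ClSub.idealMod j.ker)
  let ρ : Y.presheaf.stalk (p (i z)) →+* X.presheaf.stalk (i z) := (p.stalkMap (i z)).hom
  let ι : X.presheaf.stalk (i z) →+* Z.presheaf.stalk z := (i.stalkMap z).hom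
  have hρ : ρ.FormallySmooth := Scheme.Hom.mem_smoothLocus.1 (p.smoothLocus_eq_top.ge (Set.mem_univ _))
  have hji : j.stalkMap z = p.stalkMap (i z) ≫ i.stalkMap z := Scheme.Hom.stalkMap_comp i p z
  have hκ : Function.Surjective (ι.comp ρ) := fun c => by
    obtain ⟨a, ha⟩ := j.stalkMap_surjective z c
    exact ⟨a, by rw [← ha, hji]; rfl⟩
  have hgerm : ∀ {W : Y.Opens} (h : j z ∈ W) (a : Γ(Y, W)),
      ι (ρ (Y.presheaf.germ W (p (i z)) h a)) = Z.presheaf.germ (j ⁻¹ᵁ W) z h (j.app W a) := fun h a => by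
    rw [← Scheme.Hom.germ_stalkMap_apply j _ z h a, hji]; rfl
  -- the class of a germ of the ideal
  have hJ : ∀ q : RingHom.ker (ι.comp ρ), ∃ (W : Y.Opens) (h : j z ∈ W) (n : Γ(ClSub.idealMod j.ker, W)),
      Y.presheaf.germ W (p (i z)) h (idealSect j.ker W n) = q.1 := by
    rintro ⟨q, hq⟩
    obtain ⟨W, hW, a, rfl⟩ := Y.presheaf.exists_germ_eq q
    have h0 : Z.presheaf.germ (j ⁻¹ᵁ W) z hW (j.app W a) = Z.presheaf.germ (j ⁻¹ᵁ W) z hW 0 := by
      rw [map_zero]; exact (hgerm hW a).symm.trans hq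
    obtain ⟨V, hV, iV, _, e⟩ := Z.presheaf.germ_eq z hW hW _ _ h0
    rw [map_zero] at e
    obtain ⟨W', hW', e', n, hn⟩ := exists_idealSect_of_appLE j iV.le a e
    refine ⟨W', e' hV, n, ?_⟩
    rw [hn]
    exact TopCat.Presheaf.germ_res_apply Y.presheaf (homOfLE hW') _ (e' hV) a
  choose Wq hWq nq hnq using hJ
  have indep : ∀ {W W' : Y.Opens} (h : j z ∈ W) (h' : j z ∈ W') (n : Γ(ClSub.idealMod j.ker, W)) (n' : Γ(ClSub.idealMod j.ker, W')),
      Y.presheaf.germ W (p (i z)) h (idealSect j.ker W n) = Y.presheaf.germ W' (p (i z)) h' (idealSect j.ker W' n') →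
      P.presheaf.germ (j ⁻¹ᵁ W) z h (pullSect j _ W n) = P.presheaf.germ (j ⁻¹ᵁ W') z h' (pullSect j _ W' n') :=
    fun {W W'} h h' n n' e => by
      obtain ⟨U, hU, iU, iU', e⟩ := Y.presheaf.germ_eq _ h h' _ _ e
      have hn : (ClSub.idealMod j.ker).presheaf.map (homOfLE iU.le).op n =
          (ClSub.idealMod j.ker).presheaf.map (homOfLE iU'.le).op n' :=
        idealSect_injective j.ker _ (by rw [idealSect_map, idealSect_map]; exact e)
      have hh := congrArg (fun m => P.presheaf.germ (j ⁻¹ᵁ U) z hU (pullSect j (ClSub.idealMod j.ker) U m)) hn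
      simp only [OmegaSh.pullSect_map] at hh
      rwa [TopCat.Presheaf.germ_res_apply, TopCat.Presheaf.germ_res_apply] at hh
  let t : RingHom.ker (ι.comp ρ) → P.presheaf.stalk z := fun q =>
    P.presheaf.germ (j ⁻¹ᵁ Wq q) z (hWq q) (pullSect j _ (Wq q) (nq q))
  have ht : ∀ (q : RingHom.ker (ι.comp ρ)) {W : Y.Opens} (h : j z ∈ W) (n : Γ(ClSub.idealMod j.ker, W)),
      Y.presheaf.germ W (p (i z)) h (idealSect j.ker W n) = q.1 →
      t q = P.presheaf.germ (j ⁻¹ᵁ W) z h (pullSect j _ W n) :=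
    fun q W h n e => indep _ _ _ _ ((hnq q).trans e.symm)
  let τ : RingHom.ker (ι.comp ρ) →+ P.presheaf.stalk z := AddMonoidHom.mk' t fun q q' => by
    have h : j z ∈ Wq q ⊓ Wq q' := ⟨hWq q, hWq q'⟩
    rw [ht (q + q') h ((ClSub.idealMod j.ker).presheaf.map (homOfLE inf_le_left).op (nq q) +
      (ClSub.idealMod j.ker).presheaf.map (homOfLE inf_le_right).op (nq q')) (by
        rw [map_add, map_add, idealSect_map, idealSect_map, TopCat.Presheaf.germ_res_apply,
          TopCat.Presheaf.germ_res_apply, hnq, hnq]; rfl), map_add, map_add,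
      OmegaSh.pullSect_map, OmegaSh.pullSect_map, TopCat.Presheaf.germ_res_apply, TopCat.Presheaf.germ_res_apply]
  have hpull : ∀ {W : Y.Opens} (b : Γ(Y, W)) (n : Γ(ClSub.idealMod j.ker, W)) (h : j z ∈ W),
      P.presheaf.germ (j ⁻¹ᵁ W) z h (pullSect j _ W (b • n)) =
        ι (ρ (Y.presheaf.germ W (p (i z)) h b)) • P.presheaf.germ (j ⁻¹ᵁ W) z h (pullSect j _ W n) :=
    fun {W} b n h => by
      rw [hgerm h, ← res_pullSect, pullRes_smul, res_pullSect, QCohLib.germ_smul, ← Scheme.Hom.app_eq_appLE]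
  obtain ⟨T, hT, hTρ⟩ := exists_extension ρ ι hρ hκ τ (fun a q => by
    obtain ⟨U, hU, b, rfl⟩ := Y.presheaf.exists_germ_eq a
    have h : j z ∈ U ⊓ Wq q := ⟨hU, hWq q⟩
    show t _ = _ • t q
    rw [ht _ h (Y.presheaf.map (homOfLE inf_le_left).op b • (ClSub.idealMod j.ker).presheaf.map (homOfLE inf_le_right).op (nq q)) (by
        rw [idealSect_smul, idealSect_map, map_mul, TopCat.Presheaf.germ_res_apply, TopCat.Presheaf.germ_res_apply, hnq]
        rfl),
      hpull, OmegaSh.pullSect_map, TopCat.Presheaf.germ_res_apply, TopCat.Presheaf.germ_res_apply])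
  -- the map out of the conormal sheaf of `i`
  let N : ModuleCat.{u} (ModGroth.Stalk.stR Z.presheaf z) := ModuleCat.of _ (P.presheaf.stalk z)
  let K : Z.Modules := ⟨ModGroth.Stalk.sky z N, ModGroth.Stalk.sky_isSheaf z N⟩
  have hmem : ∀ (W : X.Opens) (h : i z ∈ W) (s : Γ(ClSub.idealMod i.ker, W)),
      X.presheaf.germ W (i z) h (idealSect i.ker W s) ∈ RingHom.ker ι := fun W h s => by
    show i.stalkMap z _ = 0
    rw [Scheme.Hom.germ_stalkMap_apply, app_eq_zero_of_idealSect, map_zero]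
  let θ : ClSub.idealMod i.ker ⟶ (Scheme.Modules.pushforward i).obj K := ⟨{
    app := fun W =>
      letI : Module (X.ringCatSheaf.obj.obj W) (((Scheme.Modules.pushforward i).obj K).val.obj W) := inferInstance
      ModuleCat.ofHom (X := (ClSub.idealMod i.ker).val.obj W) (Y := ((Scheme.Modules.pushforward i).obj K).val.obj W)
      { toFun := fun s h => T ⟨_, hmem W.unop h.down s⟩
        map_add' := fun s s' => funext fun h => by
          refine Eq.trans (congrArg T (Subtype.ext ?_)) (map_add T _ _)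
          exact (congrArg (X.presheaf.germ W.unop (i z) h.down) (map_add (idealSect i.ker W.unop) s s')).trans (map_add _ _ _)
        map_smul' := fun r s => funext fun h => by
          refine ((congrArg T (Subtype.ext ?_)).trans (hT (X.presheaf.germ W.unop (i z) h.down r) ⟨_, hmem W.unop h.down s⟩)).trans ?_
          · exact (congrArg (X.presheaf.germ W.unop (i z) h.down) (idealSect_smul i.ker W.unop r s)).trans (map_mul _ _ _)
          · show i.stalkMap z _ • _ = _
            rw [Scheme.Hom.germ_stalkMap_apply]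
            rfl }
    naturality := fun {U V} g => by
      ext s
      funext h
      refine congrArg T (Subtype.ext ?_)
      exact (congrArg (X.presheaf.germ V.unop (i z) h.down) (idealSect_map i.ker g.unop.le s)).trans
        (TopCat.Presheaf.germ_res_apply X.presheaf g.unop (i z) h.down _) }⟩
  let q := ((Scheme.Modules.pullbackPushforwardAdjunction i).homEquiv _ _).symm θ
  have hq : ∀ (W : X.Opens) (s : Γ(ClSub.idealMod i.ker, W)) (h : i z ∈ W),
      (q.app (i ⁻¹ᵁ W) (pullSect i _ W s) : Γ(K, i ⁻¹ᵁ W)) ⟨h⟩ = T ⟨_, hmem W h s⟩ := fun W s h => by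
    rw [← OmegaUniv.adjunct_app, OmegaUniv.adjunct, Equiv.apply_symm_apply]
    rfl
  -- every element of the stalk is the germ of a class
  have hall : ∀ ξ : P.presheaf.stalk z, ∃ (W : Y.Opens) (h : j z ∈ W) (n : Γ(ClSub.idealMod j.ker, W)),
      P.presheaf.germ (j ⁻¹ᵁ W) z h (pullSect j _ W n) = ξ := fun ξ => by
    have hξ : ξ ∈ Submodule.span (Z.presheaf.stalk z) (ConormalSection.pullGerms j (ClSub.idealMod j.ker) z) := by
      rw [ConormalSection.span_pullGerms]; trivial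
    induction hξ using Submodule.span_induction with
    | mem ξ hξ => exact hξ
    | zero => exact ⟨⊤, trivial, 0, by rw [map_zero, map_zero]⟩
    | add a b _ _ ha hb =>
      obtain ⟨W, h, n, rfl⟩ := ha
      obtain ⟨W', h', n', rfl⟩ := hb
      refine ⟨W ⊓ W', ⟨h, h'⟩, (ClSub.idealMod j.ker).presheaf.map (homOfLE inf_le_left).op n +
        (ClSub.idealMod j.ker).presheaf.map (homOfLE inf_le_right).op n', ?_⟩
      rw [map_add, map_add, OmegaSh.pullSect_map, OmegaSh.pullSect_map, TopCat.Presheaf.germ_res_apply,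
        TopCat.Presheaf.germ_res_apply]
    | smul c a _ ha =>
      obtain ⟨W, h, n, rfl⟩ := ha
      obtain ⟨a, rfl⟩ := hκ c
      obtain ⟨U, hU, b, rfl⟩ := Y.presheaf.exists_germ_eq a
      refine ⟨U ⊓ W, ⟨hU, h⟩, Y.presheaf.map (homOfLE (inf_le_left : U ⊓ W ≤ U)).op b •
        (ClSub.idealMod j.ker).presheaf.map (homOfLE (inf_le_right : U ⊓ W ≤ W)).op n, ?_⟩
      rw [hpull, OmegaSh.pullSect_map, TopCat.Presheaf.germ_res_apply, TopCat.Presheaf.germ_res_apply]
      rfl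
  rw [injective_iff_map_eq_zero]
  intro ξ hξ
  obtain ⟨W, h, n, rfl⟩ := hall ξ
  have h' : i z ∈ p ⁻¹ᵁ W := h
  obtain ⟨m, hm⟩ := OmegaUniv.exists_idealSect i (p.app W (idealSect j.ker W n)) (app_eq_zero_of_idealSect j W n)
  have e1 : (psi' ψ).app (j ⁻¹ᵁ W) (pullSect j (ClSub.idealMod j.ker) W n) =
      pullRes i (ClSub.idealMod i.ker) (le_refl (i ⁻¹ᵁ (p ⁻¹ᵁ W))) m := by
    rw [← res_pullSect (h := j) (M := ClSub.idealMod j.ker) n]
    exact psi'_res rfl hψ n le_rfl le_rfl le_rfl m (by rw [hm, Scheme.Hom.app_eq_appLE])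
  rw [QCohLib.stalkHom_germ, e1, res_pullSect] at hξ
  obtain ⟨V, hV, iV, _, e2⟩ := TopCat.Presheaf.germ_eq _ z (show z ∈ i ⁻¹ᵁ (p ⁻¹ᵁ W) from h) (show z ∈ i ⁻¹ᵁ (p ⁻¹ᵁ W) from h) _ 0 (hξ.trans (map_zero _).symm)
  rw [map_zero] at e2
  have e3 : (q.app (i ⁻¹ᵁ (p ⁻¹ᵁ W)) (pullSect i (ClSub.idealMod i.ker) (p ⁻¹ᵁ W) m) : Γ(K, _)) ⟨h'⟩ = 0 := by
    have e4 := congr(($((Scheme.Modules.Hom.mapPresheaf q).naturality iV.op)) (pullSect i (ClSub.idealMod i.ker) (p ⁻¹ᵁ W) m))
    have e5 : K.presheaf.map iV.op (q.app (i ⁻¹ᵁ (p ⁻¹ᵁ W)) (pullSect i (ClSub.idealMod i.ker) (p ⁻¹ᵁ W) m)) = 0 :=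
      e4.symm.trans ((congrArg (q.app V) e2).trans (map_zero _))
    exact congrFun e5 ⟨hV⟩
  rw [hq, show (⟨_, hmem (p ⁻¹ᵁ W) h' m⟩ : RingHom.ker ι) =
      ⟨ρ (Y.presheaf.germ W (p (i z)) h (idealSect j.ker W n)), by
        show ι _ = 0
        rw [hgerm h, app_eq_zero_of_idealSect, map_zero]⟩ from Subtype.ext (by
        exact (congrArg (X.presheaf.germ (p ⁻¹ᵁ W) (i z) h') hm).trans
          (Scheme.Hom.germ_stalkMap_apply p W (i z) h' _).symm),
    hTρ ⟨_, by show ι _ = 0; rw [hgerm h, app_eq_zero_of_idealSect, map_zero]⟩] at e3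
  exact (ht _ h n rfl).symm.trans e3


/-- Let p : X ⟶ Y be smooth and i : Z ⟶ X, j : Z ⟶ Y quasi-compact immersions with i ≫ p = j. Then the
canonical sequence 0 → C_{Z/Y} → C_{Z/X} → i^*Ω_{X/Y} → 0 is short exact; here Ω_{X/Y} is any
receptacle of a universal Y-derivation of O_X, the first map is the canonical map of conormal
sheaves and the second is the one induced by the derivation. (The published statement allows
arbitrary immersions; quasi-compactness of i and j is assumed here to form the conormal sheaves.) -/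
theorem result {Z X Y : Scheme.{u}} (p : X ⟶ Y) [Smooth p]
    (i : Z ⟶ X) (j : Z ⟶ Y) [IsImmersion i] [IsImmersion j] [QuasiCompact i] [QuasiCompact j] (hij : i ≫ p = j)
    (Ω : X.Modules) (d : OmegaSh.Der p Ω) (hd : OmegaSh.IsUniversal d)
    (ψ : (Scheme.Modules.pullback (𝟙 Z)).obj (Omega.conormal j) ⟶ Omega.conormal i)
    (hψ : OmegaSh.IsConormalMap i j p (𝟙 Z) ψ)
    (φ : Omega.conormal i ⟶ (Scheme.Modules.pullback i).obj Ω) (hφ : OmegaSh.IsConormalDiff i d φ) :
    ∃ w : ψ ≫ φ = 0, (ShortComplex.mk ψ φ w).ShortExact := by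
  subst hij
  obtain ⟨w, hex, hepi⟩ := Groth.Agent.S9375.result p i (i ≫ p) rfl Ω d hd ψ hψ φ hφ
  have := mono_psi' p i ψ hψ
  have hm : Mono ψ := by
    have e : ψ = (Scheme.Modules.pullbackId Z).hom.app (Omega.conormal (i ≫ p)) ≫
        (psi' ψ : Omega.conormal (i ≫ p) ⟶ Omega.conormal i) := by
      show ψ = _ ≫ _ ≫ ψ
      rw [Iso.hom_inv_id_app_assoc]
    rw [e]
    exact @mono_comp _ _ _ _ _ _ inferInstance _ this
  exact ⟨w, { exact := hex, mono_f := hm, epi_g := hepi }⟩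


end Groth.Agent.S9711
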