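import Groth.Statements.S9714
import Mathlib
-- import your own Groth.Agent.* helpers here

set_option autoImplicit false
universe u
open CategoryTheory CategoryTheory.Limits AlgebraicGeometry
open Mor

namespace Groth.Agent.S9714

section Aux
theorem unramified_ring (k : Type u) [Field k] (R : CommRingCat.{u}) (φ : CommRingCat.of k ⟶ R)
    [FormallyUnramified (Spec.map φ)] [LocallyOfFiniteType (Spec.map φ)] :
    letI := φ.hom.toAlgebra
    Module.Finite k R ∧ Algebra.FormallyUnramified k R ∧ _root_.IsReduced R ∧ IsArtinianRing R := by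
  letI := φ.hom.toAlgebra
  haveI hu : Algebra.FormallyUnramified k R :=
    (HasRingHomProperty.Spec_iff (P := @FormallyUnramified) (φ := φ)).1 ‹_›
  haveI ht : Algebra.FiniteType k R :=
    (HasRingHomProperty.Spec_iff (P := @LocallyOfFiniteType) (φ := φ)).1 ‹_›
  haveI : Module.Free k R := Module.Free.of_divisionRing k R
  haveI := Algebra.FormallyUnramified.finite_of_free k R
  exact ⟨inferInstance, inferInstance, Algebra.FormallyUnramified.isReduced_of_field k R,
    IsArtinianRing.of_finite k R⟩

end Aux

/-- Let k be a field and X a scheme over k. The structure morphism X ⟶ Spec k is unramified (formally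
unramified and locally of finite type) if and only if X is isomorphic over k to a disjoint union of
spectra of finite separable field extensions of k. -/
theorem result (k : Type u) [Field k] {X : Scheme.{u}}
    (f : X ⟶ Spec (CommRingCat.of k)) :
    (FormallyUnramified f ∧ LocallyOfFiniteType f) ↔
      ∃ (ι : Type u) (K : ι → Type u) (_ : ∀ i, Field (K i)) (_ : ∀ i, Algebra k (K i)),
        (∀ i, FiniteDimensional k (K i) ∧ Algebra.IsSeparable k (K i)) ∧
        ∃ e : X ≅ ∐ (fun i => Spec (CommRingCat.of (K i))),
          e.hom ≫ Sigma.desc (fun i => Spec.map (CommRingCat.ofHom (algebraMap k (K i)))) = f := by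
  constructor
  · rintro ⟨hu, ht⟩
    haveI : IsLocallyArtinian X := by
      refine (isLocallyArtinian_iff_openCover X.affineCover).2 fun i => ?_
      obtain ⟨φ, hφ⟩ := Spec.map_surjective (X.affineCover.f i ≫ f)
      haveI : FormallyUnramified (Spec.map φ) := hφ ▸
        MorphismProperty.comp_mem @FormallyUnramified _ _ (IsZariskiLocalAtSource.of_isOpenImmersion _) ‹_›
      haveI : LocallyOfFiniteType (Spec.map φ) := hφ ▸
        MorphismProperty.comp_mem @LocallyOfFiniteType _ _ (IsZariskiLocalAtSource.of_isOpenImmersion _) ‹_›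
      exact Scheme.isLocallyArtinianScheme_Spec.2 (unramified_ring k _ φ).2.2.2
    let U : ↥X → X.Opens := fun x => ⟨{x}, isOpen_discrete _⟩
    haveI hsub : ∀ x, Subsingleton (U x : Scheme.{u}) := fun x =>
      inferInstanceAs (Subsingleton ({x} : Set X))
    haveI hne : ∀ x, Nonempty (U x : Scheme.{u}) := fun x => ⟨⟨x, rfl⟩⟩
    have hU : ∀ x, IsAffineOpen (U x) := fun x => by
      haveI : Finite (U x : Scheme.{u}) := Finite.of_subsingleton
      haveI : DiscreteTopology (U x : Scheme.{u}) := Subsingleton.discreteTopology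
      exact (inferInstance : IsAffine (U x : Scheme.{u}))
    choose φ hφ using fun x => Spec.map_surjective ((hU x).fromSpec ≫ f)
    have hring : ∀ x, IsField Γ(X, U x) ∧ (letI := (φ x).hom.toAlgebra
        Module.Finite k Γ(X, U x) ∧ Algebra.FormallyUnramified k Γ(X, U x)) := fun x => by
      haveI : FormallyUnramified (Spec.map (φ x)) := (hφ x).symm ▸
        MorphismProperty.comp_mem @FormallyUnramified _ _ (IsZariskiLocalAtSource.of_isOpenImmersion _) ‹_›
      haveI : LocallyOfFiniteType (Spec.map (φ x)) := (hφ x).symm ▸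
        MorphismProperty.comp_mem @LocallyOfFiniteType _ _ (IsZariskiLocalAtSource.of_isOpenImmersion _) ‹_›
      obtain ⟨h1, h2, h3, h4⟩ := unramified_ring k _ (φ x)
      haveI := h3
      haveI := h4
      haveI : Subsingleton (Spec Γ(X, U x)) := (hU x).isoSpec.inv.homeomorph.injective.subsingleton
      haveI : Nonempty (Spec Γ(X, U x)) := ⟨(hU x).isoSpec.hom.base ⟨x, rfl⟩⟩
      haveI : Nontrivial Γ(X, U x) := PrimeSpectrum.nonempty_iff_nontrivial.1 ‹_›
      haveI : IsLocalRing Γ(X, U x) := by
        obtain ⟨m, hm⟩ := Ideal.exists_maximal Γ(X, U x)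
        refine IsLocalRing.of_unique_max_ideal ⟨m, hm, fun m' hm' => ?_⟩
        exact congrArg PrimeSpectrum.asIdeal (Subsingleton.elim (α := Spec Γ(X, U x))
          (⟨m', hm'.isPrime⟩ : PrimeSpectrum _) (⟨m, hm.isPrime⟩ : PrimeSpectrum _))
      exact ⟨IsArtinianRing.isField_of_isReduced_of_isLocalRing _, h1, h2⟩
    letI hF : ∀ x, Field Γ(X, U x) := fun x => (hring x).1.toField
    refine ⟨↥X, fun x => Γ(X, U x), fun x => hF x, fun x => (φ x).hom.toAlgebra, fun x => ?_, ?_⟩
    · letI := (φ x).hom.toAlgebra
      haveI := (hring x).2.1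
      haveI := (hring x).2.2
      exact ⟨inferInstance, Algebra.FormallyUnramified.isSeparable k _⟩
    · have hcov : ⨆ x, ((hU x).fromSpec).opensRange = ⊤ := eq_top_iff.2 fun x _ =>
        TopologicalSpace.Opens.mem_iSup.2 ⟨x, by rw [IsAffineOpen.opensRange_fromSpec]; rfl⟩
      have hdisj : Pairwise fun x y => Disjoint (hU x).fromSpec.opensRange (hU y).fromSpec.opensRange := by
        intro x y hxy
        rw [IsAffineOpen.opensRange_fromSpec, IsAffineOpen.opensRange_fromSpec, disjoint_iff]
        refine TopologicalSpace.Opens.ext ?_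
        simpa [U] using Ne.symm hxy
      obtain ⟨hc⟩ := nonempty_isColimit_cofanMk_of (fun x => (hU x).fromSpec) hcov hdisj
      haveI : IsIso (Sigma.desc fun x => (hU x).fromSpec) :=
        (Cofan.nonempty_isColimit_iff_isIso_sigmaDesc _).1 ⟨hc⟩
      refine ⟨(asIso (Sigma.desc fun x => (hU x).fromSpec)).symm, ?_⟩
      rw [Iso.symm_hom, asIso_inv, IsIso.inv_comp_eq]
      refine Sigma.hom_ext _ _ fun x => ?_
      rw [Sigma.ι_desc, Sigma.ι_desc_assoc]
      exact hφ x
  · rintro ⟨ι, K, iF, iA, hK, e, he⟩
    subst he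
    have hu : ∀ i, FormallyUnramified (Spec.map (CommRingCat.ofHom (algebraMap k (K i)))) := fun i => by
      haveI := (hK i).2
      rw [HasRingHomProperty.Spec_iff (P := @FormallyUnramified)]
      exact RingHom.formallyUnramified_algebraMap.2 (Algebra.FormallyUnramified.of_isSeparable _ _)
    have ht : ∀ i, LocallyOfFiniteType (Spec.map (CommRingCat.ofHom (algebraMap k (K i)))) := fun i => by
      haveI := (hK i).1
      rw [HasRingHomProperty.Spec_iff (P := @LocallyOfFiniteType)]
      exact RingHom.finiteType_algebraMap.2 inferInstance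
    exact ⟨(MorphismProperty.cancel_left_of_respectsIso @FormallyUnramified _ _).2
      (IsZariskiLocalAtSource.sigmaDesc hu),
      (MorphismProperty.cancel_left_of_respectsIso @LocallyOfFiniteType _ _).2
        (IsZariskiLocalAtSource.sigmaDesc ht)⟩

end Groth.Agent.S9714
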