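import Groth.Statements.S9720
import Groth.Agent.FibrewiseCrit.Unramified
-- import your own Groth.Agent.* helpers here

set_option autoImplicit false
set_option linter.style.haveILetI false
universe u
open CategoryTheory CategoryTheory.Limits AlgebraicGeometry
open Mor

namespace Groth.Agent.S9720

/-- Let f : X ⟶ S be locally of finite type such that for every point s of S the fibre X_s is isomorphic
over κ(s) to a coproduct of schemes Spec K_i, each K_i a finite separable extension field of κ(s).
In that case f is formally unramified (so unramified, being locally of finite type). -/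
theorem result {X S : Scheme.{u}} (f : X ⟶ S) [LocallyOfFiniteType f]
    (H : ∀ s : S, ∃ (ι : Type u) (K : ι → Type u) (_ : ∀ i, Field (K i))
      (_ : ∀ i, Algebra (S.residueField s) (K i)),
      (∀ i, FiniteDimensional (S.residueField s) (K i) ∧ Algebra.IsSeparable (S.residueField s) (K i)) ∧
        ∃ e : f.fiber s ≅ ∐ (fun i => Spec (CommRingCat.of (K i))),
          e.hom ≫ Sigma.desc (fun i => Spec.map (CommRingCat.ofHom (algebraMap (S.residueField s) (K i)))) =
            f.fiberToSpecResidueField s) :
    FormallyUnramified f := by
  rw [Groth.FibrewiseCrit.formallyUnramified_iff_forall_mem_fuLocus]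
  intro x
  obtain ⟨ι, K, hf, ha, hK, e, he⟩ := H (f x)
  haveI : LocallyOfFiniteType (f.fiberToSpecResidueField (f x)) :=
    inferInstanceAs (LocallyOfFiniteType (pullback.snd f _))
  have hfu : FormallyUnramified (f.fiberToSpecResidueField (f x)) := by
    haveI hd : FormallyUnramified (Sigma.desc (fun i => Spec.map (CommRingCat.ofHom (algebraMap (S.residueField (f x)) (K i))))) := by
      refine IsZariskiLocalAtSource.sigmaDesc (P := @FormallyUnramified) fun i => ?_
      rw [HasRingHomProperty.Spec_iff (P := @FormallyUnramified)]
      haveI := (hK i).2
      exact RingHom.formallyUnramified_algebraMap.mpr (Algebra.FormallyUnramified.of_isSeparable _ _)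
    rw [← he]
    exact MorphismProperty.comp_mem @FormallyUnramified _ _ inferInstance hd
  have := (Groth.FibrewiseCrit.mem_fuLocus_of_isPullback
    (IsPullback.of_hasPullback f (S.fromSpecResidueField (f x))) (f.asFiber x)).mp
      ((Groth.FibrewiseCrit.formallyUnramified_iff_forall_mem_fuLocus _).mp hfu _)
  rwa [show pullback.fst f (S.fromSpecResidueField (f x)) (f.asFiber x) = x from f.fiberι_asFiber x] at this

end Groth.Agent.S9720
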