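import Groth.Statements.S9721
import Mathlib
-- import your own Groth.Agent.* helpers here

set_option autoImplicit false
universe u
open CategoryTheory AlgebraicGeometry
open Mor

namespace Groth.Agent.S9721

/-- Let f : X ⟶ S be a morphism, x a point of X and V an affine open neighbourhood of f(x) in S. Then f
is smooth on some open neighbourhood of x if and only if there is an affine open neighbourhood U of
x with f(U) ⊆ V such that the induced ring map Γ(S, V) ⟶ Γ(X, U) is standard smooth. -/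
theorem result {X S : Scheme.{u}} (f : X ⟶ S) (x : X)
    (V : S.Opens) (hV : IsAffineOpen V) (hxV : f x ∈ V) :
    (∃ W : X.Opens, x ∈ W ∧ Smooth (W.ι ≫ f)) ↔
      ∃ (U : X.Opens) (_ : IsAffineOpen U) (_ : x ∈ U) (e : U ≤ f ⁻¹ᵁ V),
        (f.appLE V U e).hom.IsStandardSmooth := by
  constructor
  · rintro ⟨W, hxW, hW⟩
    obtain ⟨_, ⟨(U : X.Opens), hU, rfl⟩, hxU, hUle⟩ :=
      X.isBasis_affineOpens.exists_subset_of_mem_open (show x ∈ W ⊓ f ⁻¹ᵁ V from ⟨hxW, hxV⟩) (W ⊓ f ⁻¹ᵁ V).2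
    have e : U ≤ f ⁻¹ᵁ V := fun z hz => (hUle hz).2
    have eW : U ≤ W := fun z hz => (hUle hz).1
    haveI : Smooth (U.ι ≫ f) := by
      rw [← X.homOfLE_ι eW, Category.assoc]; infer_instance
    have hUtop : IsAffineOpen (⊤ : U.toScheme.Opens) := @isAffineOpen_top U.toScheme hU
    have h2 := Scheme.Hom.smooth_appLE (U.ι ≫ f) hV hUtop (fun z _ => e z.2)
    rw [← Scheme.Hom.appLE_comp_appLE U.ι f V U ⊤ e (fun z _ => z.2), CommRingCat.hom_comp] at h2
    have hiso : IsIso (U.ι.appLE U ⊤ (fun z _ => z.2)) := by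
      erw [Scheme.Opens.ι_appLE]
      haveI : ∀ {P Q : X.Opens} (i : P ⟶ Q), Q ≤ P → IsIso i := fun i h => ⟨homOfLE h, Subsingleton.elim _ _, Subsingleton.elim _ _⟩
      have h2 : ∀ h, IsIso (X.presheaf.map (homOfLE (x := U.ι ''ᵁ ⊤) (y := U) h).op) := fun h => by
        haveI := this (homOfLE (x := U.ι ''ᵁ ⊤) (y := U) h) (fun w hw => ⟨⟨w, hw⟩, trivial, rfl⟩)
        infer_instance
      exact h2 _
    let ee := (asIso (U.ι.appLE U ⊤ (fun z _ => z.2))).commRingCatIsoToRingEquiv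
    have h3 : (f.appLE V U e).hom.Smooth := by
      have := RingHom.Smooth.propertyIsLocal.respectsIso.1 _ ee.symm h2
      rwa [show (ee.symm.toRingHom).comp ((U.ι.appLE U ⊤ (fun z _ => z.2)).hom.comp (f.appLE V U e).hom) = (f.appLE V U e).hom from
        RingHom.ext fun r => ee.symm_apply_apply _] at this
    obtain ⟨s, hs, hst⟩ := RingHom.smooth_iff_locally_isStandardSmooth.mp h3
    obtain ⟨t, hts, hxt⟩ : ∃ t ∈ s, x ∈ X.basicOpen t := by
      have hle := hU.self_le_iSup_basicOpen_iff.mpr hs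
      obtain ⟨⟨t, ht⟩, hxt⟩ := TopologicalSpace.Opens.mem_iSup.mp (hle hxU)
      exact ⟨t, ht, hxt⟩
    refine ⟨X.basicOpen t, hU.basicOpen t, hxt, (X.basicOpen_le t).trans e, ?_⟩
    haveI := hU.isLocalization_basicOpen t
    let eq := IsLocalization.algEquiv (Submonoid.powers t) (Localization.Away t) Γ(X, X.basicOpen t)
    have h4 := RingHom.isStandardSmooth_respectsIso.1 _ eq.toRingEquiv (hst t hts)
    rw [← RingHom.comp_assoc, show eq.toRingEquiv.toRingHom.comp (algebraMap Γ(X, U) (Localization.Away t)) = algebraMap Γ(X, U) Γ(X, X.basicOpen t) from RingHom.ext eq.commutes] at h4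
    rw [← Scheme.Hom.appLE_map f e (homOfLE (X.basicOpen_le t)).op]
    exact h4
  · rintro ⟨U, hU, hxU, e, h⟩
    refine ⟨U, hxU, ?_⟩
    rw [Smooth.iff_forall_exists_isStandardSmooth]
    intro z
    refine ⟨V, hV, ⊤, @isAffineOpen_top U.toScheme hU, trivial, fun w _ => e w.2, ?_⟩
    rw [← Scheme.Hom.appLE_comp_appLE U.ι f V U ⊤ e (fun z _ => z.2), CommRingCat.hom_comp]
    have hiso : IsIso (U.ι.appLE U ⊤ (fun z _ => z.2)) := by
      erw [Scheme.Opens.ι_appLE]
      haveI : ∀ {P Q : X.Opens} (i : P ⟶ Q), Q ≤ P → IsIso i := fun i h => ⟨homOfLE h, Subsingleton.elim _ _, Subsingleton.elim _ _⟩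
      have h2 : ∀ h, IsIso (X.presheaf.map (homOfLE (x := U.ι ''ᵁ ⊤) (y := U) h).op) := fun h => by
        haveI := this (homOfLE (x := U.ι ''ᵁ ⊤) (y := U) h) (fun w hw => ⟨⟨w, hw⟩, trivial, rfl⟩)
        infer_instance
      exact h2 _
    exact RingHom.isStandardSmooth_respectsIso.1 _ (asIso (U.ι.appLE U ⊤ (fun z _ => z.2))).commRingCatIsoToRingEquiv h

end Groth.Agent.S9721
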