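import Groth.Statements.S9722
import Mathlib.RingTheory.Unramified.LocalStructure
import Mathlib.AlgebraicGeometry.Morphisms.Etale

set_option autoImplicit false
universe u
open CategoryTheory AlgebraicGeometry
open Mor

namespace Groth.Agent.S9722

open CategoryTheory

lemma etale_iff_appLE {X S : Scheme.{u}} (f : X ⟶ S) {V : S.Opens} (hV : IsAffineOpen V) {U : X.Opens}
    (hU : IsAffineOpen U) (e : U ≤ f ⁻¹ᵁ V) :
    Etale (U.ι ≫ f) ↔ (f.appLE V U e).hom.Etale := by
  haveI : IsAffine U.toScheme := hU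
  haveI : IsAffine V.toScheme := hV
  have h1 : Etale (f.resLE V U e) ↔ (f.appLE V U e).hom.Etale := by
    rw [HasRingHomProperty.iff_of_isAffine (P := @Etale), Scheme.Hom.appTop, Scheme.Hom.resLE_app_top,
      CommRingCat.hom_comp,
      RingHom.Etale.respectsIso.cancel_left_isIso, CommRingCat.hom_comp,
      RingHom.Etale.respectsIso.cancel_right_isIso]
  rw [← h1, ← Scheme.Hom.resLE_comp_ι f e]
  exact ⟨fun h => Etale.of_comp _ V.ι, fun h => inferInstance⟩


/-- Let f : X ⟶ S be a morphism, x a point of X and V an affine open neighbourhood of f(x) in S. Then f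
is étale on some open neighbourhood of x if and only if there is an affine open neighbourhood U of x
with f(U) ⊆ V such that Γ(X, U) is a standard étale algebra over Γ(S, V) through the induced ring
map. -/
theorem result {X S : Scheme.{u}} (f : X ⟶ S) (x : X)
    (V : S.Opens) (hV : IsAffineOpen V) (hxV : f x ∈ V) :
    (∃ W : X.Opens, x ∈ W ∧ Etale (W.ι ≫ f)) ↔
      ∃ (U : X.Opens) (_ : IsAffineOpen U) (_ : x ∈ U) (e : U ≤ f ⁻¹ᵁ V),
        letI := (f.appLE V U e).hom.toAlgebra
        Algebra.IsStandardEtale Γ(S, V) Γ(X, U) := by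
  constructor
  · rintro ⟨W, hxW, hW⟩
    obtain ⟨U₀, hU₀, hxU₀, hle⟩ := TopologicalSpace.Opens.isBasis_iff_nbhd.mp X.isBasis_affineOpens
      (show x ∈ W ⊓ f ⁻¹ᵁ V from ⟨hxW, hxV⟩)
    obtain ⟨hleW, e₀⟩ := le_inf_iff.mp hle
    have het : Etale ((Scheme.Opens.ι U₀) ≫ f) := by
      rw [← X.homOfLE_ι hleW, Category.assoc]
      infer_instance
    rw [etale_iff_appLE f hV hU₀ e₀] at het
    letI alg := (f.appLE V U₀ e₀).hom.toAlgebra
    haveI : Algebra.Etale Γ(S, V) Γ(X, U₀) := het
    let q := hU₀.primeIdealOf ⟨x, hxU₀⟩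
    obtain ⟨g, hg, hstd⟩ := Algebra.IsEtaleAt.exists_isStandardEtale (R := Γ(S, V)) q.asIdeal
    refine ⟨X.basicOpen g, hU₀.basicOpen g, ?_, (X.basicOpen_le g).trans e₀, ?_⟩
    · have : q ∈ PrimeSpectrum.basicOpen g := hg
      show x ∈ X.basicOpen g
      have hxq := hU₀.fromSpec_primeIdealOf ⟨x, hxU₀⟩
      suffices hU₀.fromSpec q ∈ X.basicOpen g by
        rwa [show hU₀.fromSpec q = x from hxq] at this
      exact (congrArg (fun O : TopologicalSpace.Opens _ => q ∈ O) (hU₀.fromSpec_preimage_basicOpen g)).mpr this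
    letI := (f.appLE V (X.basicOpen g) ((X.basicOpen_le g).trans e₀)).hom.toAlgebra
    haveI : IsScalarTower Γ(S, V) Γ(X, U₀) Γ(X, X.basicOpen g) := IsScalarTower.of_algebraMap_eq' (by
      show (f.appLE V (X.basicOpen g) _).hom = (X.presheaf.map _).hom.comp (f.appLE V U₀ e₀).hom
      rw [← CommRingCat.hom_comp, Scheme.Hom.appLE_map])
    haveI := hU₀.isLocalization_basicOpen g
    exact Algebra.IsStandardEtale.of_equiv
      ((IsLocalization.algEquiv (Submonoid.powers g) (Localization.Away g) Γ(X, X.basicOpen g)).restrictScalars Γ(S, V))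
  · rintro ⟨U, hU, hxU, e, h⟩
    refine ⟨U, hxU, (etale_iff_appLE f hV hU e).mpr ?_⟩
    letI := (f.appLE V U e).hom.toAlgebra
    haveI := h
    exact (inferInstance : Algebra.Etale Γ(S, V) Γ(X, U))

end Groth.Agent.S9722
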