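import Groth.Statements.S9724
import Groth.Agent.SmoothCartier.Scheme
import Groth.Agent.FlatDescent.Scheme
-- import your own Groth.Agent.* helpers here

set_option autoImplicit false
set_option linter.style.haveILetI false
universe u
open FlatMor

namespace Groth.Agent.S9724

open AlgebraicGeometry CategoryTheory Limits in
/-- Let f : X ⟶ S be a morphism and x a point such that f is smooth on an open neighbourhood of x, the
residue field extension κ(x)/κ(f x) is separable (formally smooth), and x is not the generic point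
of any irreducible component of the fibre over f x, i.e. (the fibre being smooth over a field near
x) the maximal ideal of the local ring of the fibre at x is nonzero. Then there are an affine open U
∋ x and a nonzerodivisor h' of Γ(X, U) vanishing at x such that the closed subscheme V(h') of U, an
effective Cartier divisor through x, is smooth over S. -/
theorem result {X S : Scheme.{u}} (f : X ⟶ S) (x : X)
    (W : X.Opens) (hxW : x ∈ W) (hW : Smooth (W.ι ≫ f))
    (hsep : letI := (f.residueFieldMap x).hom.toAlgebra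
      Algebra.FormallySmooth (S.residueField (f x)) (X.residueField x))
    (hgen : IsLocalRing.maximalIdeal ↑((f.fiber (f x)).presheaf.stalk (f.asFiber x)) ≠ ⊥) :
    ∃ (U : X.Opens) (hU : IsAffineOpen U) (hx : x ∈ U) (h' : Γ(X, U)), h' ∈ nonZeroDivisors Γ(X, U) ∧
      X.presheaf.germ U x hx h' ∈ IsLocalRing.maximalIdeal ↑(X.presheaf.stalk x) ∧
      Smooth (Spec.map (CommRingCat.ofHom (Ideal.Quotient.mk (Ideal.span {h'}))) ≫ hU.fromSpec ≫ f) := by
  letI : Algebra ↑(S.presheaf.stalk (f x)) ↑(X.presheaf.stalk x) := (f.stalkMap x).hom.toAlgebra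
  haveI : IsLocalHom (algebraMap ↑(S.presheaf.stalk (f x)) ↑(X.presheaf.stalk x)) :=
    inferInstanceAs (IsLocalHom (f.stalkMap x).hom)
  let O := S.presheaf.stalk (f x)
  let T := X.presheaf.stalk x
  let I : Ideal T := (IsLocalRing.maximalIdeal O).map (algebraMap O T)
  obtain ⟨_, ⟨A, hA, rfl⟩, hsA, -⟩ :=
    S.isBasis_affineOpens.exists_subset_of_mem_open (Set.mem_univ (f x)) isOpen_univ
  obtain ⟨_, ⟨V, hV, rfl⟩, hxV, hVs⟩ :=
    X.isBasis_affineOpens.exists_subset_of_mem_open (show x ∈ W ⊓ f ⁻¹ᵁ A from ⟨hxW, hsA⟩) (W ⊓ f ⁻¹ᵁ A).2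
  have hVA : V ≤ f ⁻¹ᵁ A := fun z hz => (hVs hz).2
  have hsm := SmoothCartier.smooth_appLE_of_smooth_ι f W hW hA hV (fun z hz => (hVs hz).1) hVA
  letI : Algebra Γ(S, A) Γ(X, V) := (f.appLE A V hVA).hom.toAlgebra
  haveI : Algebra.Smooth Γ(S, A) Γ(X, V) := hsm
  letI : Algebra Γ(X, V) T := X.presheaf.algebra_section_stalk ⟨x, hxV⟩
  haveI : IsLocalization.AtPrime T (hV.primeIdealOf ⟨x, hxV⟩).asIdeal := hV.isLocalization_stalk ⟨x, hxV⟩
  letI : Algebra Γ(S, A) O := S.presheaf.algebra_section_stalk ⟨f x, hsA⟩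
  letI : Algebra Γ(S, A) T := ((algebraMap O T).comp (algebraMap Γ(S, A) O)).toAlgebra
  haveI : IsScalarTower Γ(S, A) O T := .of_algebraMap_eq' rfl
  haveI : IsScalarTower Γ(S, A) Γ(X, V) T := by
    refine .of_algebraMap_eq fun a => ?_
    show (f.stalkMap x).hom ((S.presheaf.germ A (f x) hsA).hom a) =
      (X.presheaf.germ V x hxV).hom ((f.app A ≫ X.presheaf.map (homOfLE hVA).op).hom a)
    rw [← CommRingCat.comp_apply, Scheme.Hom.germ_stalkMap, ← CommRingCat.comp_apply, Category.assoc]
    erw [X.presheaf.germ_res]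
  haveI : Algebra.EssFiniteType Γ(X, V) T :=
    Algebra.EssFiniteType.of_isLocalization T (hV.primeIdealOf ⟨x, hxV⟩).asIdeal.primeCompl
  haveI : Algebra.EssFiniteType Γ(S, A) T := Algebra.EssFiniteType.comp Γ(S, A) Γ(X, V) T
  haveI : Algebra.EssFiniteType T (T ⧸ I) := inferInstance
  haveI : Algebra.EssFiniteType Γ(S, A) (T ⧸ I) := Algebra.EssFiniteType.comp Γ(S, A) T (T ⧸ I)
  letI : Algebra (IsLocalRing.ResidueField O) (T ⧸ I) :=
    (Ideal.Quotient.lift (IsLocalRing.maximalIdeal O) ((Ideal.Quotient.mk I).comp (algebraMap O T))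
      fun a ha => Ideal.Quotient.eq_zero_iff_mem.2 (Ideal.mem_map_of_mem _ ha)).toAlgebra
  letI : Algebra Γ(S, A) (IsLocalRing.ResidueField O) := ((IsLocalRing.residue O).comp (algebraMap Γ(S, A) O)).toAlgebra
  haveI : IsScalarTower Γ(S, A) (IsLocalRing.ResidueField O) (T ⧸ I) := .of_algebraMap_eq fun _ => rfl
  haveI : Algebra.EssFiniteType (IsLocalRing.ResidueField O) (T ⧸ I) := Algebra.EssFiniteType.of_comp Γ(S, A) _ _
  have hN : IsNoetherianRing (T ⧸ I) := Algebra.EssFiniteType.isNoetherianRing (IsLocalRing.ResidueField O) _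
  obtain ⟨h, hm, hd⟩ : ∃ h : ↑(X.presheaf.stalk x), h ∈ IsLocalRing.maximalIdeal ↑(X.presheaf.stalk x) ∧
      (1 : IsLocalRing.ResidueField ↑(X.presheaf.stalk x)) ⊗ₜ[↑(X.presheaf.stalk x)]
        (KaehlerDifferential.D ↑(S.presheaf.stalk (f x)) ↑(X.presheaf.stalk x) h) ≠ 0 := by
    by_contra hall
    push Not at hall
    have hsep' : Algebra.FormallySmooth (IsLocalRing.ResidueField O) (IsLocalRing.ResidueField T) := by
      have e : (CommRingCat.Hom.hom (Scheme.Hom.residueFieldMap f x)).toAlgebra =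
          (IsLocalRing.ResidueField.instAlgebra : Algebra (IsLocalRing.ResidueField O) (IsLocalRing.ResidueField T)) := by
        refine Algebra.algebra_ext _ _ fun a => ?_
        obtain ⟨a, rfl⟩ := IsLocalRing.residue_surjective a
        rfl
      exact e ▸ hsep
    have hle := SmoothCartier.maximalIdeal_le_map (O := O) (T := T) hsep' hN hall
    refine hgen (eq_bot_iff.2 fun z hz => ?_)
    obtain ⟨w, rfl⟩ := (f.fiberι (f x)).stalkMap_surjective (f.asFiber x) z
    have hz' : w ∈ IsLocalRing.maximalIdeal (X.presheaf.stalk (f.fiberι (f x) (f.asFiber x))) :=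
      fun hu => hz (hu.map _)
    have hgen' : ∀ x' : X, x' = x → IsLocalRing.maximalIdeal (X.presheaf.stalk x') ≤
        FlatDescent.maxExt f x' := by
      rintro _ rfl
      exact hle
    have h1 := hgen' _ (f.fiberι_asFiber x) hz'
    rw [← FlatDescent.ker_stalkMap_fiberι f (f x) (f.asFiber x)] at h1
    exact h1
  obtain ⟨U, hU, hxU, h', hgerm, hnzd, hsm'⟩ := SmoothCartier.exists_divisor f x W hxW hW h hd
  exact ⟨U, hU, hxU, h', hnzd, hgerm ▸ hm, hsm'⟩

end Groth.Agent.S9724
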