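import Groth.Statements.S9732
import Groth.Agent.FSmooth.Criterion
import Groth.Agent.FSmooth.Thick
import Mathlib
-- import your own Groth.Agent.* helpers here

set_option autoImplicit false
universe u
open OmegaSh

namespace Groth.Agent.S9732

open AlgebraicGeometry CategoryTheory Limits in
/-- A closed first order thickening pulled back to an affine scheme is cut out by a square-zero ideal. -/
theorem exists_ideal {Z Z' : Scheme.{u}} (i : Z ⟶ Z') [IsClosedImmersion i] (hsq : i.ker * i.ker = ⊥)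
    {R : CommRingCat.{u}} (g : Spec R ⟶ Z') :
    ∃ J : Ideal R, J * J = ⊥ ∧ ∃ q : Spec (CommRingCat.of (R ⧸ J)) ⟶ Z,
      Spec.map (CommRingCat.ofHom (Ideal.Quotient.mk J)) ≫ g = q ≫ i := by
  obtain ⟨J, e, he⟩ := IsClosedImmersion.Spec_iff.mp (inferInstance : IsClosedImmersion (pullback.fst g i))
  refine ⟨J, ?_, e.inv ≫ pullback.snd g i, ?_⟩
  · have h := Groth.FSmooth.comap_ker_sq i g hsq
    rw [← Scheme.IdealSheafData.ker_fst_of_isClosedImmersion] at h
    have h' := congr($(congrArg Scheme.IdealSheafData.ideal h) ⟨⊤, isAffineOpen_top _⟩)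
    simp only [Scheme.IdealSheafData.ideal_mul, Pi.mul_apply, Scheme.IdealSheafData.ideal_bot,
      Pi.bot_apply, Scheme.Hom.ker_apply] at h'
    have key : ∀ x ∈ J, (pullback.fst g i).appTop ((Scheme.ΓSpecIso R).inv x) = 0 := by
      intro x hx
      have h2 := congr($(Scheme.ΓSpecIso_inv_naturality (CommRingCat.ofHom (Ideal.Quotient.mk J))) x)
      rw [CommRingCat.comp_apply, CommRingCat.comp_apply, CommRingCat.ofHom_apply,
        Ideal.Quotient.eq_zero_iff_mem.mpr hx, map_zero] at h2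
      rw [he, Scheme.Hom.comp_appTop, CommRingCat.comp_apply]; erw [← h2]; exact map_zero _
    refine eq_bot_iff.mpr (Ideal.mul_le.mpr fun x hx y hy => ?_)
    have h3 := Ideal.mul_mem_mul (RingHom.mem_ker.mpr (key x hx)) (RingHom.mem_ker.mpr (key y hy))
    erw [h'] at h3
    rw [Ideal.mem_bot] at h3 ⊢
    rw [← map_mul] at h3
    exact (Scheme.ΓSpecIso R).commRingCatIsoToRingEquiv.symm.injective (h3.trans (map_zero _).symm)
  · rw [Category.assoc, ← pullback.condition, reassoc_of% he, Iso.inv_hom_id_assoc]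

open AlgebraicGeometry CategoryTheory Limits in
/-- Two maps to a universal thickening agreeing modulo `I` agree modulo `I * J`. -/
theorem step {Z Z' X : Scheme.{u}} (h : Z ⟶ X) (i : Z ⟶ Z') (h' : Z' ⟶ X)
    (hu : OmegaSh.IsUnivThickening h i h') {R : Type u} [CommRing R] (g₁ g₂ : Spec (CommRingCat.of R) ⟶ Z')
    (I J : Ideal R) (hI : I * I = ⊥) (hJ : J * J = ⊥) (q : Spec (CommRingCat.of (R ⧸ J)) ⟶ Z)
    (hq : Spec.map (CommRingCat.ofHom (Ideal.Quotient.mk J)) ≫ g₁ = q ≫ i)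
    (hg : Spec.map (CommRingCat.ofHom (Ideal.Quotient.mk I)) ≫ g₁ =
      Spec.map (CommRingCat.ofHom (Ideal.Quotient.mk I)) ≫ g₂)
    (hh : g₁ ≫ h' = g₂ ≫ h') :
    Spec.map (CommRingCat.ofHom (Ideal.Quotient.mk (I * J))) ≫ g₁ =
      Spec.map (CommRingCat.ofHom (Ideal.Quotient.mk (I * J))) ≫ g₂ := by
  obtain ⟨-, hih, huniv⟩ := hu
  let L := I ⊔ J
  have hKL : I * J ≤ L := le_trans (b := J) (Ideal.mul_le.mpr fun r _ s hs => J.mul_mem_left r hs) le_sup_right
  let φ : R ⧸ I * J →+* R ⧸ L := Ideal.Quotient.factor hKL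
  have hφ : Function.Surjective φ := Ideal.Quotient.factor_surjective hKL
  have hsq : ∀ x y, φ x = 0 → φ y = 0 → x * y = 0 := by
    intro x y hx hy
    obtain ⟨x, rfl⟩ := Ideal.Quotient.mk_surjective x
    obtain ⟨y, rfl⟩ := Ideal.Quotient.mk_surjective y
    rw [Ideal.Quotient.factor_mk, Ideal.Quotient.eq_zero_iff_mem] at hx hy
    rw [← map_mul, Ideal.Quotient.eq_zero_iff_mem]
    obtain ⟨x₁, hx₁, x₂, hx₂, rfl⟩ := Submodule.mem_sup.mp hx
    obtain ⟨y₁, hy₁, y₂, hy₂, rfl⟩ := Submodule.mem_sup.mp hy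
    have h11 : x₁ * y₁ = 0 := Ideal.mem_bot.mp (hI ▸ Ideal.mul_mem_mul hx₁ hy₁)
    have h22 : x₂ * y₂ = 0 := Ideal.mem_bot.mp (hJ ▸ Ideal.mul_mem_mul hx₂ hy₂)
    have he : (x₁ + x₂) * (y₁ + y₂) = x₁ * y₂ + y₁ * x₂ := by
      linear_combination h11 + h22
    rw [he]
    exact (I * J).add_mem (Ideal.mul_mem_mul hx₁ hy₂) (Ideal.mul_mem_mul hy₁ hx₂)
  have hci : IsClosedImmersion (Spec.map (CommRingCat.ofHom φ)) :=
    IsClosedImmersion.spec_of_surjective _ hφ
  have hT : MoreMor.IsFirstOrderThickening (Spec.map (CommRingCat.ofHom φ)) :=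
    ⟨⟨hci, ⟨Groth.FSmooth.surjective_SpecMap φ hφ hsq⟩⟩, Groth.FSmooth.ker_SpecMap_sq φ hsq⟩
  let mK : Spec (CommRingCat.of (R ⧸ I * J)) ⟶ Spec (CommRingCat.of R) := Spec.map (CommRingCat.ofHom (Ideal.Quotient.mk (I * J)))
  have e1 : ∀ (A : Ideal R) (hA : A ≤ L), Spec.map (CommRingCat.ofHom φ) ≫ mK =
      Spec.map (CommRingCat.ofHom (Ideal.Quotient.factor hA)) ≫ Spec.map (CommRingCat.ofHom (Ideal.Quotient.mk A)) := by
    intro A hA
    simp only [mK, φ, ← Spec.map_comp, ← CommRingCat.ofHom_comp, Ideal.Quotient.factor_comp_mk]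
  let a := Spec.map (CommRingCat.ofHom (Ideal.Quotient.factor (le_sup_right : J ≤ L))) ≫ q
  have ha1 : Spec.map (CommRingCat.ofHom φ) ≫ mK ≫ g₁ = a ≫ i := by
    rw [reassoc_of% (e1 J le_sup_right), hq, Category.assoc]
  have ha2 : Spec.map (CommRingCat.ofHom φ) ≫ mK ≫ g₂ = a ≫ i := by
    rw [← ha1, reassoc_of% (e1 I le_sup_left), ← hg, ← reassoc_of% (e1 I le_sup_left)]
  have hb : Spec.map (CommRingCat.ofHom φ) ≫ mK ≫ g₁ ≫ h' = a ≫ h := by
    rw [reassoc_of% ha1, hih]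
  exact (huniv _ _ (Spec.map (CommRingCat.ofHom φ)) (mK ≫ g₁ ≫ h') a hT hb).unique
    ⟨ha1, Category.assoc _ _ _⟩ ⟨ha2, by rw [Category.assoc, hh]⟩


open AlgebraicGeometry CategoryTheory Limits in
/-- Let h : Z ⟶ X be formally unramified and let (i : Z ⟶ Z', h' : Z' ⟶ X) be a universal first order
thickening of Z over X. Then h' is formally unramified. -/
theorem result {Z Z' X : Scheme.{u}} (h : Z ⟶ X) [FormallyUnramified h]
    (i : Z ⟶ Z') (h' : Z' ⟶ X) (hu : OmegaSh.IsUnivThickening h i h') : FormallyUnramified h' := by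
  refine AlgebraicGeometry.FormallyUnramified.of_hom_ext h' fun R S φ hφ hker g₁ g₂ hg hh => ?_
  obtain ⟨⟨⟨hci, -⟩, hsq⟩, -⟩ := id hu
  obtain ⟨J, hJ, q, hq⟩ := exists_ideal i hsq g₁
  set I := RingHom.ker φ.hom
  have hI : I * I = ⊥ := by rw [← pow_two]; exact hker
  have hgI : Spec.map (CommRingCat.ofHom (Ideal.Quotient.mk I)) ≫ g₁ =
      Spec.map (CommRingCat.ofHom (Ideal.Quotient.mk I)) ≫ g₂ := by
    let e := (RingHom.quotientKerEquivOfSurjective hφ).toCommRingCatIso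
    have he : CommRingCat.ofHom (Ideal.Quotient.mk I) ≫ e.hom = φ := rfl
    rw [← cancel_epi (Spec.map e.hom), ← Spec.map_comp_assoc, ← Spec.map_comp_assoc, he, hg]
  have h1 := step h i h' hu g₁ g₂ I J hI hJ q hq hgI hh
  have hI' : I * J * (I * J) = ⊥ := by rw [mul_mul_mul_comm, hI, Submodule.bot_mul]
  have h2 := step h i h' hu g₁ g₂ (I * J) J hI' hJ q hq h1 hh
  have h0 : I * J * J = ⊥ := by rw [mul_assoc, hJ, Submodule.mul_bot]
  haveI : IsIso (CommRingCat.ofHom (Ideal.Quotient.mk (I * J * J))) :=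
    ((RingEquiv.ofBijective (Ideal.Quotient.mk (I * J * J))
      ⟨RingHom.injective_iff_ker_eq_bot _ |>.mpr (by rw [Ideal.mk_ker, h0]), Ideal.Quotient.mk_surjective⟩).toCommRingCatIso).isIso_hom
  exact (cancel_epi _).mp h2

end Groth.Agent.S9732
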