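import Groth.Statements.S9733
import Groth.Agent.FSmooth.Criterion
import Mathlib

set_option autoImplicit false
universe u
open OmegaSh

namespace Groth.Agent.S9733

open AlgebraicGeometry CategoryTheory Limits in
/-- Let h : Z ⟶ X and f : Z ⟶ W make Z the fibre product of g : X ⟶ Y and a formally unramified h' : W ⟶
Y, and let (j : W ⟶ W', k : W' ⟶ Y) be universal first-order thickening data for h'. Then the map Z
⟶ X ×_Y W' with components h and f ≫ j, together with the first projection X ×_Y W' ⟶ X, is a
universal first-order thickening for h. The published statement also asserts that h is formally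
unramified and that the pullback along f of the conormal sheaf of W relative to Y surjects onto the
conormal sheaf of Z relative to X; this row states neither. -/
theorem result {Z X W Y W' : Scheme.{u}} (h : Z ⟶ X) (f : Z ⟶ W) (g : X ⟶ Y) (h' : W ⟶ Y)
    [FormallyUnramified h'] (hc : IsPullback h f g h') (j : W ⟶ W') (k : W' ⟶ Y) (hu : OmegaSh.IsUnivThickening h' j k) :
    OmegaSh.IsUnivThickening h (pullback.lift h (f ≫ j) (hc.w.trans (congrArg (f ≫ ·) hu.2.1).symm)) (pullback.fst g k) := by
  obtain ⟨⟨⟨hjc, hjs⟩, hjsq⟩, hjk, huniv⟩ := hu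
  set i : Z ⟶ pullback g k :=
    pullback.lift h (f ≫ j) (hc.w.trans (congrArg (f ≫ ·) hjk).symm |>.trans (Category.assoc _ _ _).symm)
  have hi1 : i ≫ pullback.fst g k = h := pullback.lift_fst ..
  have hi2 : i ≫ pullback.snd g k = f ≫ j := pullback.lift_snd ..
  have hsq : IsPullback i f (pullback.snd g k) j :=
    (IsPullback.of_bot (h₁₁ := f) (v₁₁ := i) (v₁₂ := j) (h₂₁ := pullback.snd g k)
      (v₂₁ := pullback.fst g k) (v₂₂ := k) (h₃₁ := g)
      (by rw [hi1, hjk]; exact hc.flip) hi2.symm (IsPullback.of_hasPullback g k).flip).flip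
  have hi : IsClosedImmersion i :=
    MorphismProperty.of_isPullback (P := (@IsClosedImmersion : MorphismProperty Scheme.{u})) hsq.flip hjc
  have his : Surjective i :=
    MorphismProperty.of_isPullback (P := (@Surjective : MorphismProperty Scheme.{u})) hsq.flip hjs
  have hker : i.ker = j.ker.comap (pullback.snd g k) := by
    rw [← Scheme.IdealSheafData.ker_fst_of_isClosedImmersion, ← hsq.isoPullback_hom_fst,
      Scheme.Hom.ker_comp_of_isIso]
  refine ⟨⟨⟨hi, his⟩, by rw [hker]; exact Groth.FSmooth.comap_ker_sq j _ hjsq⟩, hi1, fun T T' j' b a hj' w => ?_⟩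
  obtain ⟨c, ⟨hc1, hc2⟩, hcu⟩ := huniv T T' j' (b ≫ g) (a ≫ f) hj'
    (by rw [reassoc_of% w, hc.w, Category.assoc])
  refine ⟨pullback.lift b c hc2.symm, ⟨?_, pullback.lift_fst ..⟩, fun a' ha => ?_⟩
  · ext
    · simp only [Category.assoc]; erw [pullback.lift_fst, pullback.lift_fst]; exact w
    · simp only [Category.assoc]; erw [pullback.lift_snd, pullback.lift_snd]; exact hc1.trans (Category.assoc _ _ _)
  · ext
    · erw [pullback.lift_fst]; exact ha.2
    · rw [pullback.lift_snd]
      refine hcu _ ⟨?_, ?_⟩
      · rw [reassoc_of% ha.1, hi2, Category.assoc]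
      · rw [Category.assoc, ← pullback.condition, reassoc_of% ha.2]

end Groth.Agent.S9733
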