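import Groth.Statements.S9736
import Groth.Agent.FibreApprox.RelGCI

set_option autoImplicit false
universe u
open FlatMor

namespace Groth.Agent.S9736

open AlgebraicGeometry CategoryTheory Limits in
/-- Let f : X ⟶ S be a standard syntomic morphism of affine schemes. Then f is the base change of a
morphism of finite type f₀ : X₀ ⟶ S₀ between affine schemes with S₀ of finite type over ℤ and f₀
standard syntomic. -/
theorem result {X S : Scheme.{u}} (f : X ⟶ S) [IsAffine X] [IsAffine S] (hf : Synt.IsStandardSyntomic f) :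
    ∃ (X₀ S₀ : Scheme.{u}) (f₀ : X₀ ⟶ S₀) (g : S ⟶ S₀) (g' : X ⟶ X₀), IsAffine X₀ ∧ IsAffine S₀ ∧ IsPullback g' f f₀ g ∧
      Algebra.FiniteType ℤ Γ(S₀, ⊤) ∧ LocallyOfFiniteType f₀ ∧ Synt.IsStandardSyntomic f₀ := by
  obtain ⟨R, _, n, c, F, hF, e₁, e₂, he⟩ := hf
  obtain ⟨A, G, hA, hG, hGA⟩ := Groth.Agent.FibreApprox.exists_relGCI_model F hF
  obtain rfl : (fun i => MvPolynomial.map A.val.toRingHom (G i)) = F := funext hG
  have hsq := Groth.Agent.FibreApprox.isPullback_presMap A.val.toRingHom G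
  haveI : Algebra.FiniteType ℤ A := ⟨A.fg_top.mpr hA⟩
  refine ⟨_, _, Groth.Agent.FibreApprox.presMap A n c G, e₂.hom ≫ Spec.map (CommRingCat.ofHom A.val.toRingHom),
    e₁.hom ≫ Spec.map (CommRingCat.ofHom (Groth.Agent.FibreApprox.presHom A.val.toRingHom G)),
    inferInstance, inferInstance,
    hsq.of_iso e₁.symm (Iso.refl _) e₂.symm (Iso.refl _) (by simp) ?_ (by simp) (by simp), ?_, ?_, ?_⟩
  · show Groth.Agent.FibreApprox.presMap R n c _ ≫ e₂.inv = e₁.inv ≫ f
    rw [Iso.comp_inv_eq, Category.assoc, ← he]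
    simp [Groth.Agent.FibreApprox.presMap]
  · exact Algebra.FiniteType.equiv ‹_›
      (Scheme.ΓSpecIso (CommRingCat.of A)).commRingCatIsoToRingEquiv.symm.toIntAlgEquiv
  · rw [Groth.Agent.FibreApprox.presMap, HasRingHomProperty.Spec_iff (P := @LocallyOfFiniteType)]
    exact RingHom.finiteType_algebraMap.2 inferInstance
  · exact ⟨A, inferInstance, n, c, G, hGA, Iso.refl _, Iso.refl _, by simp [Groth.Agent.FibreApprox.presMap]⟩

end Groth.Agent.S9736
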