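import Groth.Statements.S9740
import Groth.Agent.FSmooth.Criterion
import Mathlib


set_option autoImplicit false
universe u
open OmegaSh

namespace Groth.Agent.S9740

open AlgebraicGeometry CategoryTheory Limits in
/-- Let h : Z ⟶ X be formally unramified with universal first order thickening (i : Z ⟶ Z', h' : Z' ⟶
X), let V ⊆ Z and U ⊆ X be opens with h(V) ⊆ U, and let V' ⊆ Z' be the open with i⁻¹(V') = V (so
h'(V') ⊆ U). Then the restricted pair (V ⟶ V', V' ⟶ U) is a universal first-order thickening for the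
restriction V ⟶ U of h. The published statement also asserts that this restriction is formally
unramified and that the conormal sheaf of Z over X restricts on V to that of V over U; this row
states only the thickening part. -/
theorem result {Z Z' X : Scheme.{u}} (h : Z ⟶ X) [FormallyUnramified h] (i : Z ⟶ Z') (h' : Z' ⟶ X)
    (hu : OmegaSh.IsUnivThickening h i h') (V : Z.Opens) (U : X.Opens) (hVU : V ≤ h ⁻¹ᵁ U)
    (V' : Z'.Opens) (hV' : i ⁻¹ᵁ V' = V) (hV'U : V' ≤ h' ⁻¹ᵁ U) :
    OmegaSh.IsUnivThickening (h.resLE U V hVU) (i.resLE V' V hV'.ge) (h'.resLE U V' hV'U) := by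
  subst hV'
  obtain ⟨⟨⟨hic, his⟩, hisq⟩, hih, huniv⟩ := hu
  have e1 : i.resLE V' (i ⁻¹ᵁ V') le_rfl = i ∣_ V' := Scheme.Hom.resLE_eq_morphismRestrict i
  have hsq := isPullback_morphismRestrict i V'
  have hc' : IsClosedImmersion (i ∣_ V') :=
    MorphismProperty.of_isPullback (P := (@IsClosedImmersion : MorphismProperty Scheme.{u})) hsq.flip hic
  have hs' : Surjective (i ∣_ V') :=
    MorphismProperty.of_isPullback (P := (@Surjective : MorphismProperty Scheme.{u})) hsq.flip his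
  have hker : (i ∣_ V').ker = i.ker.comap V'.ι := by
    rw [← Scheme.IdealSheafData.ker_fst_of_isClosedImmersion, ← hsq.isoPullback_hom_fst,
      Scheme.Hom.ker_comp_of_isIso]
  have hi' : i.resLE V' (i ⁻¹ᵁ V') le_rfl ≫ V'.ι = (i ⁻¹ᵁ V').ι ≫ i := Scheme.Hom.resLE_comp_ι _ _
  refine ⟨⟨?_, ?_⟩, ?_, fun T T' j b a hj w => ?_⟩
  · rw [e1]; exact ⟨hc', hs'⟩
  · rw [e1, hker]; exact Groth.FSmooth.comap_ker_sq i _ hisq
  · rw [← cancel_mono U.ι, Category.assoc, Scheme.Hom.resLE_comp_ι, ← Category.assoc, hi', Category.assoc,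
      hih, Scheme.Hom.resLE_comp_ι]
  · obtain ⟨c, ⟨hc1, hc2⟩, hcu⟩ := huniv T T' j (b ≫ U.ι) (a ≫ (i ⁻¹ᵁ V').ι) hj
      (by rw [reassoc_of% w, Scheme.Hom.resLE_comp_ι, Category.assoc])
    have hrange : Set.range c ⊆ Set.range V'.ι := by
      rintro _ ⟨t', rfl⟩
      obtain ⟨⟨hjc, hjs⟩, -⟩ := hj
      obtain ⟨t, rfl⟩ := hjs.surj t'
      rw [Scheme.Opens.range_ι, ← Scheme.Hom.comp_apply, hc1, Scheme.Hom.comp_apply, Scheme.Hom.comp_apply]
      exact (a t).2
    refine ⟨IsOpenImmersion.lift V'.ι c hrange, ⟨?_, ?_⟩, fun c' hc' => ?_⟩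
    · rw [← cancel_mono V'.ι, Category.assoc, IsOpenImmersion.lift_fac, hc1, Category.assoc, Category.assoc, hi']
    · rw [← cancel_mono U.ι, Category.assoc, Scheme.Hom.resLE_comp_ι, IsOpenImmersion.lift_fac_assoc, hc2]
    · rw [← cancel_mono V'.ι, IsOpenImmersion.lift_fac]
      refine hcu _ ⟨?_, ?_⟩
      · rw [reassoc_of% hc'.1, hi', Category.assoc]
      · have e := congrArg (· ≫ U.ι) hc'.2
        simpa [Category.assoc] using e

end Groth.Agent.S9740
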