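import Groth.Statements.S9741
import Groth.Agent.FSmooth.Criterion
import Mathlib


set_option autoImplicit false
universe u
open OmegaSh

namespace Groth.Agent.S9741

open AlgebraicGeometry CategoryTheory Limits in
/-- Let a : Z ⟶ Y and b : Y ⟶ X be formally unramified, let (i : Z ⟶ Z', c : Z' ⟶ X) be universal among
first order thickenings of Z relative to X (for a ≫ b), and (j : Y ⟶ Y', d : Y' ⟶ X) likewise for Y
relative to X (for b). Then there is a morphism of thickenings m : Z' ⟶ Y' over X (i ≫ m = a ≫ j and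
m ≫ d = c) such that Z ⟶ Y ×_{Y'} Z' (components a and i), together with the projection to Y, is
universal among first order thickenings of Z relative to Y (for a). The published statement also
asserts an exact sequence of conormal sheaves; this row states only the thickening assertion. -/
theorem result {Z Y X Z' Y' : Scheme.{u}} (a : Z ⟶ Y) (b : Y ⟶ X)
    [FormallyUnramified a] [FormallyUnramified b] (i : Z ⟶ Z') (c : Z' ⟶ X) (hZ : OmegaSh.IsUnivThickening (a ≫ b) i c)
    (j : Y ⟶ Y') (d : Y' ⟶ X) (hY : OmegaSh.IsUnivThickening b j d) :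
    ∃ (m : Z' ⟶ Y') (hm : i ≫ m = a ≫ j), m ≫ d = c ∧
      OmegaSh.IsUnivThickening a (pullback.lift a i hm.symm) (pullback.fst j m) := by
  obtain ⟨⟨⟨hic, his⟩, hisq⟩, hic', hunivZ⟩ := hZ
  obtain ⟨hjT, hjd, hunivY⟩ := hY
  obtain ⟨m, ⟨hm, hmd⟩, -⟩ := hunivY Z Z' i c a ⟨⟨hic, his⟩, hisq⟩ (by rw [hic'])
  refine ⟨m, hm, hmd, ?_⟩
  obtain ⟨⟨hjc, hjs⟩, hjsq⟩ := hjT
  haveI : IsClosedImmersion (pullback.snd j m) := MorphismProperty.of_isPullback (P := (@IsClosedImmersion : MorphismProperty Scheme.{u})) (IsPullback.of_hasPullback j m) hjc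
  set k : Z ⟶ pullback j m := pullback.lift a i hm.symm
  have hk1 : k ≫ pullback.fst j m = a := pullback.lift_fst ..
  have hk2 : k ≫ pullback.snd j m = i := pullback.lift_snd ..
  haveI : IsClosedImmersion (k ≫ pullback.snd j m) := hk2 ▸ hic
  haveI : IsClosedImmersion k := IsClosedImmersion.of_comp k (pullback.snd j m)
  have hks : Surjective k := by
    refine ⟨fun z => ?_⟩
    obtain ⟨w, hw⟩ := his.surj (pullback.snd j m z)
    refine ⟨w, (pullback.snd j m).isClosedEmbedding.injective ?_⟩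
    rw [← Scheme.Hom.comp_apply, hk2]
    exact hw
  have hsq : IsPullback k (𝟙 Z) (pullback.snd j m) i :=
    ⟨⟨by rw [hk2, Category.id_comp]⟩, ⟨PullbackCone.IsLimit.mk _ (fun s => s.snd)
      (fun s => by rw [← cancel_mono (pullback.snd j m), Category.assoc, hk2, s.condition])
      (fun s => Category.comp_id _) (fun s g _ h2 => (Category.comp_id g).symm.trans h2)⟩⟩
  have hker : k.ker = i.ker.comap (pullback.snd j m) := by
    rw [← Scheme.IdealSheafData.ker_fst_of_isClosedImmersion, ← hsq.isoPullback_hom_fst,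
      Scheme.Hom.ker_comp_of_isIso]
  refine ⟨⟨⟨‹_›, hks⟩, by rw [hker]; exact Groth.FSmooth.comap_ker_sq i _ hisq⟩, hk1, fun T T' t β α ht w => ?_⟩
  obtain ⟨γ, ⟨hγ1, hγ2⟩, hγu⟩ := hunivZ T T' t (β ≫ b) α ht (by rw [reassoc_of% w])
  have hγm : γ ≫ m = β ≫ j := (hunivY T T' t (β ≫ b) (α ≫ a) ht (by rw [reassoc_of% w, Category.assoc])).unique
    ⟨by rw [reassoc_of% hγ1, hm, Category.assoc], by rw [Category.assoc, hmd, hγ2]⟩
    ⟨by rw [reassoc_of% w, Category.assoc], by rw [Category.assoc, hjd]⟩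
  refine ⟨pullback.lift β γ hγm.symm, ⟨?_, pullback.lift_fst ..⟩, fun γ' hγ' => ?_⟩
  · rw [← cancel_mono (pullback.snd j m), Category.assoc, pullback.lift_snd, Category.assoc, hk2, hγ1]
  · rw [← cancel_mono (pullback.snd j m), pullback.lift_snd]
    refine hγu _ ⟨?_, ?_⟩
    · rw [reassoc_of% hγ'.1, hk2]
    · rw [Category.assoc, ← hmd, ← pullback.condition_assoc, hjd, reassoc_of% hγ'.2]

end Groth.Agent.S9741
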