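import Groth.Statements.S9750
import Groth.Agent.FSmooth.Criterion
import Groth.Agent.FSmooth.Thick
import Groth.Agent.H1Sheaf.Conormal
import Groth.Agent.QCohLib.CohLocal
import Mathlib


set_option autoImplicit false
universe u
open FlatMor

namespace Groth.Agent.S9750

section
open AlgebraicGeometry CategoryTheory Limits Opposite Groth.Agent.H1Sheaf

set_option backward.isDefEq.respectTransparency false in
/-- A square zero closed immersion with zero conormal sheaf has zero kernel. -/
theorem ker_eq_bot_of_isZero {Z X : Scheme.{u}} (i : Z ⟶ X) [IsClosedImmersion i] (hsq : i.ker * i.ker = ⊥)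
    (h0 : IsZero (Omega.conormal i)) : i.ker = ⊥ := by
  refine Scheme.IdealSheafData.ext (funext fun V => ?_)
  rw [Scheme.IdealSheafData.ideal_bot, Pi.bot_apply, eq_bot_iff]
  intro a ha
  obtain ⟨V, hV⟩ := V
  have hU : IsAffineOpen (i ⁻¹ᵁ V) := hV.preimage i
  let p : Pair i := ⟨⟨i ⁻¹ᵁ V, hU⟩, ⟨V, hV⟩, le_rfl⟩
  letI := (i.appLE (p.V : X.Opens) (p.U : Z.Opens) p.e).hom.toAlgebra
  have halg : ∀ a : Γ(X, V), algebraMap Γ(X, (p.V : X.Opens)) Γ(Z, (p.U : Z.Opens)) a = i.app V a :=
    fun a => congr(($(i.appLE_eq_app (U := V))) a)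
  have hs : Function.Surjective (algebraMap Γ(X, (p.V : X.Opens)) Γ(Z, (p.U : Z.Opens))) := by
    intro c
    obtain ⟨a, rfl⟩ := i.app_surjective V hV c
    exact ⟨a, halg a⟩
  obtain ⟨m, rfl⟩ := ConormalSection.exists_idealSect_eq i.ker ⟨V, hV⟩ a ha
  have := Groth.Agent.QCohLib.subsingleton_sections_of_isZero h0 (i ⁻¹ᵁ V)
  have hp : OmegaSh.pullSect i (ClSub.idealMod i.ker) V m = 0 := @Subsingleton.elim _ this _ _
  have ha0 : algebraMap Γ(X, (p.V : X.Opens)) Γ(Z, (p.U : Z.Opens)) (OmegaSh.idealSect i.ker V m) = 0 :=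
    (halg _).trans (OmegaUniv.app_eq_zero_of_idealSect i V m)
  have hev : ev p (show fam i (i ⁻¹ᵁ V) from (toH1 i).app (i ⁻¹ᵁ V)
      (OmegaSh.pullSect i (ClSub.idealMod i.ker) V m)) = zc p (OmegaSh.idealSect i.ker V m) ha0 := by
    rw [toH1_pullSect]
    change val i V m ⟨p, le_rfl⟩ = _
    rw [val_eq i V m ⟨p, le_rfl⟩ le_rfl]
    exact zc_congr p (congr(($(X.presheaf.map_id (op V))) _)) _ _
  rw [hp, map_zero] at hev
  have h2 := mem_sq_of_cls hs _ ha0 (hev.symm.trans (map_zero _))
  have hJ : RingHom.ker (algebraMap Γ(X, (p.V : X.Opens)) Γ(Z, (p.U : Z.Opens))) = i.ker.ideal ⟨V, hV⟩ := by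
    rw [i.ker_apply]
    exact Ideal.ext fun b => by rw [RingHom.mem_ker, RingHom.mem_ker, halg b]
  rw [hJ, pow_two] at h2
  have h3 := congr($(congrArg Scheme.IdealSheafData.ideal hsq) ⟨V, hV⟩)
  simp only [Scheme.IdealSheafData.ideal_mul, Pi.mul_apply, Scheme.IdealSheafData.ideal_bot, Pi.bot_apply] at h3
  exact h3.le h2

theorem isThickening_id (X : Scheme.{u}) : MoreMor.IsFirstOrderThickening (𝟙 X) :=
  ⟨⟨inferInstance, inferInstance⟩, by
    rw [Scheme.Hom.ker_eq_bot_of_isIso]
    exact eq_bot_iff.mpr fun U => by simp⟩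

end

open AlgebraicGeometry CategoryTheory Limits in
/-- (1) ⇔ (2) ⇔ (3): a morphism f : X ⟶ S is formally étale (unique infinitesimal lifting against
square-zero thickenings of affine schemes) if and only if f is formally unramified and X, through
the identity and f, is its own universal square-zero (first order) thickening relative to f; and,
for f formally unramified with universal first order thickening data (i : X ⟶ X', h' : X' ⟶ S), f is
formally étale if and only if the conormal sheaf of i (the conormal sheaf of f) is zero. The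
published statement also lists a fourth equivalent condition, the vanishing of both the sheaf of
differentials and the conormal sheaf; this row omits it. -/
theorem result {X S : Scheme.{u}} (f : X ⟶ S) :
    (MoreMor.IsFormallyEtaleHom f ↔ FormallyUnramified f ∧ OmegaSh.IsUnivThickening f (𝟙 X) f) ∧
    (∀ {X' : Scheme.{u}} (i : X ⟶ X') (h' : X' ⟶ S) [QuasiCompact i], FormallyUnramified f →
      OmegaSh.IsUnivThickening f i h' → (MoreMor.IsFormallyEtaleHom f ↔ IsZero (Omega.conormal i))) := by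
  have hA : MoreMor.IsFormallyEtaleHom f ↔ FormallyUnramified f ∧ OmegaSh.IsUnivThickening f (𝟙 X) f := by
    refine ⟨fun hf => ⟨Groth.FSmooth.formallyUnramified_of_uniqueLifts hf, isThickening_id X, Category.id_comp f,
      fun T T' t b a ht w => ?_⟩, fun ⟨_, _, _, hu⟩ A _ I hI a b w => ?_⟩
    · simpa using Groth.FSmooth.existsUnique_lift_thickening f hf t ht a b w
    · have hsq : ∀ x y, Ideal.Quotient.mk I x = 0 → Ideal.Quotient.mk I y = 0 → x * y = 0 := fun x y hx hy => by
        rw [← Ideal.mem_bot, ← hI, pow_two]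
        exact Ideal.mul_mem_mul (Ideal.Quotient.eq_zero_iff_mem.1 hx) (Ideal.Quotient.eq_zero_iff_mem.1 hy)
      have ht : MoreMor.IsFirstOrderThickening (Spec.map (CommRingCat.ofHom (Ideal.Quotient.mk I))) :=
        ⟨⟨IsClosedImmersion.spec_of_surjective _ Ideal.Quotient.mk_surjective,
          ⟨Groth.FSmooth.surjective_SpecMap _ Ideal.Quotient.mk_surjective hsq⟩⟩, Groth.FSmooth.ker_SpecMap_sq _ hsq⟩
      simpa using hu _ _ _ b a ht w
  refine ⟨hA, fun {X'} i h' _ hunr hu => ?_⟩
  obtain ⟨⟨⟨hic, his⟩, hisq⟩, hih, huniv⟩ := hu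
  constructor
  · intro hf
    obtain ⟨-, -, -, hu1⟩ := hA.mp hf
    obtain ⟨g, ⟨hg1, hg2⟩, -⟩ := hu1 X X' i h' (𝟙 X) ⟨⟨hic, his⟩, hisq⟩ (by simp [hih])
    simp only [Category.comp_id] at hg1
    have hgi : g ≫ i = 𝟙 X' :=
      (huniv X X' i h' (𝟙 X) ⟨⟨hic, his⟩, hisq⟩ (by simp [hih])).unique
        ⟨by rw [reassoc_of% hg1, Category.id_comp], by rw [Category.assoc, hih, hg2]⟩ ⟨by simp, Category.id_comp _⟩
    haveI : IsIso i := ⟨g, hg1, hgi⟩
    refine (Scheme.Modules.pullback i).map_isZero ?_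
    rw [IsZero.iff_id_eq_zero]
    ext V m
    refine ConormalSection.idealSect_injective i.ker V ?_
    have e : OmegaSh.idealSect i.ker V m = 0 :=
      (ConcreteCategory.bijective_of_isIso (i.app V)).1
        ((OmegaUniv.app_eq_zero_of_idealSect i V m).trans (map_zero _).symm)
    exact e.trans (map_zero _).symm
  · intro h0
    have hk := ker_eq_bot_of_isZero i hisq h0
    let g : X' ⟶ X := IsClosedImmersion.lift i (𝟙 X') (by rw [hk]; exact bot_le)
    have hgi : g ≫ i = 𝟙 X' := IsClosedImmersion.lift_fac _ _ _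
    have hig : i ≫ g = 𝟙 X := by rw [← cancel_mono i, Category.assoc, hgi, Category.comp_id, Category.id_comp]
    have hgf : g ≫ f = h' := by rw [← hih, reassoc_of% hgi]
    refine hA.mpr ⟨hunr, isThickening_id X, Category.id_comp f, fun T T' t b a ht w => ?_⟩
    obtain ⟨c, ⟨hc1, hc2⟩, hcu⟩ := huniv T T' t b a ht w
    refine ⟨c ≫ g, ⟨by rw [reassoc_of% hc1, hig], by rw [Category.assoc, hgf, hc2]⟩, fun c' hc' => ?_⟩
    rw [← hcu (c' ≫ i) ⟨by rw [← Category.assoc, hc'.1]; simp, by rw [Category.assoc, hih, hc'.2]⟩,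
      Category.assoc, hig, Category.comp_id]

end Groth.Agent.S9750
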