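import Groth.Statements.S9762
import Groth.Agent.EtaleNbhdLib.FiniteUnion
import Groth.Agent.S1354
-- import your own Groth.Agent.* helpers here

set_option autoImplicit false
universe u
open FlatMor

namespace Groth.Agent.S9762

open AlgebraicGeometry CategoryTheory Limits in
/-- For f : X ⟶ S separated and locally of finite type, and a point s of S such that only finitely many
points of the fibre over s are isolated, some elementary étale neighbourhood (U, u) of (S, s) admits
an open and closed V ⊆ U ×_S X, finite over U, such that no point of the fibre over u lying outside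
V is isolated in that fibre. The published statement also asserts that the complement of V has empty
fibre over u when the fibre over s is finite; this row omits that clause. -/
theorem result {X S : Scheme.{u}} (f : X ⟶ S) [LocallyOfFiniteType f] [IsSeparated f] (s : S)
    (hfin : {x : ↑(f.fiber s) | IsOpen ({x} : Set ↑(f.fiber s))}.Finite) :
    ∃ (U : Scheme.{u}) (g : U ⟶ S) (u : U), Hens2.IsEtaleNbhd g u s ∧
      ∃ V : (pullback f g).Opens, IsClopen (V : Set ↑(pullback f g)) ∧ IsFinite (V.ι ≫ pullback.snd f g) ∧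
        ∀ w : ↑((pullback.snd f g).fiber u), (pullback.snd f g).fiberι u w ∉ V →
          ¬ IsOpen ({w} : Set ↑((pullback.snd f g).fiber u)) := by
  obtain ⟨n, ⟨c⟩⟩ := hfin.to_subtype.exists_equiv_fin
  let x : Fin n → X := fun i => f.fiberι s (c.symm i).1
  have hs : ∀ i, f (x i) = s := fun i => by
    have : x i ∈ Set.range (f.fiberι s) := ⟨_, rfl⟩
    rw [f.range_fiberι] at this
    exact this
  have hx : ∀ i, f.QuasiFiniteAt (x i) := fun i => by
    rw [Scheme.Hom.quasiFiniteAt_iff_isOpen_singleton_asFiber]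
    obtain ⟨a, ha⟩ : ∃ a, (c.symm i).1 = a := ⟨_, rfl⟩
    have h : IsOpen ({a} : Set ↥(f.fiber s)) := ha ▸ (c.symm i).2
    have hx' : f.fiberι s a = x i := congrArg _ ha.symm
    have key : ∀ (y : X) (t : S) (b : ↥(f.fiber t)), f.fiberι t b = y → f y = t →
        IsOpen ({b} : Set ↥(f.fiber t)) → IsOpen ({f.asFiber y} : Set ↥(f.fiber (f y))) := by
      intro y t b hb ht hbo
      subst ht
      rwa [show f.asFiber y = b from
        (f.fiberι (f y)).isEmbedding.injective ((f.fiberι_asFiber y).trans hb.symm)]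
    exact key _ s a hx' (hs i) h
  obtain ⟨U, g, u, hg, H⟩ : ∃ (U : Scheme.{u}) (g : U ⟶ S) (u : U), Hens2.IsEtaleNbhd g u s ∧
      ∀ i, EtaleNbhdLib.IsolatedFinite f g u (x i) := by
    obtain ⟨U, g, u, hg, V, v, h⟩ := S1354.result f s x hs hx
    exact ⟨U, g, u, hg, fun i => ⟨V i, v i, h i⟩⟩
  choose V v hv hVfin hvu hvuniq hvx hvb using H
  obtain ⟨hcl, hfin'⟩ := EtaleNbhdLib.isFinite_finsetSup (pullback.snd f g) Finset.univ V (fun i _ => by
    haveI := hVfin i
    haveI : IsFinite (V i).ι := IsFinite.of_comp _ (pullback.snd f g)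
    refine ⟨?_, (V i).2⟩
    rw [← Scheme.Opens.range_ι]
    exact (V i).ι.isClosedMap.isClosed_range) (fun i _ => hVfin i)
  refine ⟨U, g, u, hg, Finset.univ.sup V, hcl, hfin', fun w hwV hw => hwV ?_⟩
  obtain rfl := hg.base_eq
  obtain ⟨e, he, he'⟩ := EtaleNbhdLib.exists_fiber_iso f g u hg.residue_bijective
  have hew : IsOpen ({e w} : Set ↥(f.fiber (g u))) := by
    have := e.homeomorph.isOpenMap _ hw
    rwa [Set.image_singleton] at this
  let i := c ⟨e w, hew⟩
  have hi : x i = pullback.fst f g ((pullback.snd f g).fiberι u w) := by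
    show f.fiberι _ (c.symm (c ⟨e w, hew⟩)).1 = _
    rw [c.symm_apply_apply, ← Scheme.Hom.comp_apply, he']
    rfl
  obtain ⟨v₀, -, -, huniq, -⟩ := EtaleNbhdLib.exists_unique_point f g (x i) u (hs i) hg.residue_bijective
  have hwu : pullback.snd f g ((pullback.snd f g).fiberι u w) = u := by
    have : (pullback.snd f g).fiberι u w ∈ Set.range ((pullback.snd f g).fiberι u) := ⟨_, rfl⟩
    rw [Scheme.Hom.range_fiberι] at this
    exact this
  have hwv : (pullback.snd f g).fiberι u w = v i :=
    (huniq _ hi.symm hwu).trans (huniq _ (hvx i) (hvu i)).symm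
  rw [hwv]
  exact (Finset.le_sup (f := V) (Finset.mem_univ i)) (hv i)

end Groth.Agent.S9762
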