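import Groth.Statements.S9767
import Groth.Agent.FlatDescent.CM.Scheme
import Groth.Agent.FlatDescent.Point

set_option autoImplicit false
universe u
open FlatMor

namespace Groth.Agent.S9767

open AlgebraicGeometry CategoryTheory Limits in
/-- For f : X ⟶ Y, g : Y ⟶ Z and a point x of X such that the fibre of f through x and the fibre of g
through f x are locally Noetherian, suppose the stalk map of f at x is flat and f ≫ g is
Cohen–Macaulay at x; then Cohen–Macaulayness passes to f at x and to g at the image point f x. The
published statement assumes all fibres of f, g and g ∘ f locally Noetherian; this row assumes only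
the fibres of f and g through x and f x. -/
theorem result {X Y Z : Scheme.{u}} (f : X ⟶ Y) (g : Y ⟶ Z) (x : X)
    (hNf : IsLocallyNoetherian (f.fiber (f x))) (hNg : IsLocallyNoetherian (g.fiber (g (f x))))
    (h : MoreMor.IsCMAt (f ≫ g) x) (hfl : (f.stalkMap x).hom.Flat) : MoreMor.IsCMAt f x ∧ MoreMor.IsCMAt g (f x) := by
  rw [Groth.FlatDescent.CM.isCMAt_iff] at h ⊢
  rw [Groth.FlatDescent.CM.isCMAt_iff]
  haveI := h.2
  have key := (Groth.FlatDescent.CM.cm_fibre_comp_iff f g x hfl
    (Groth.FlatDescent.CM.isNoetherianRing_fibre g (f x) hNg) inferInstance).mp h.2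
  exact ⟨⟨hfl, key.2⟩, Groth.FlatDescent.flat_stalkMap_of_comp f g x hfl h.1, key.1⟩

end Groth.Agent.S9767
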