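import Groth.Statements.S9769
import Groth.Agent.FlatDescent.LocalFP.Sheaf
import Groth.Agent.FlatDescent.PdFibre
import Groth.Agent.ModGroth.PullStalk
import Groth.Agent.FlatDescent.SheafBC.Main

set_option autoImplicit false
universe u
open FlatMor

namespace Groth.Agent.S9769

open TensorProduct Groth.FlatDescent Groth.Agent.QCohLib

/-- Freeness of the localisation of a flat finitely presented module descends along a base change. -/
theorem free_of_free_baseChange {A B A' B' : Type u} [CommRing A] [CommRing B] [CommRing A'] [CommRing B']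
    [Algebra A B] [Algebra A A'] [Algebra A B'] [Algebra B B'] [Algebra A' B'] [IsScalarTower A B B']
    [IsScalarTower A A' B'] [Algebra.IsPushout A B A' B'] [Algebra.FinitePresentation A B]
    (M : Type u) [AddCommGroup M] [Module B M] [Module A M] [IsScalarTower A B M]
    [Module.FinitePresentation B M] [Module.Flat A M]
    (R L : Type u) [CommRing R] [IsLocalRing R] [CommRing L] [IsLocalRing L]
    [Algebra B R] [Algebra B' L] [Algebra B L] [IsScalarTower B B' L] [Module.Flat B' L]
    [Algebra R L] [IsScalarTower B R L] [IsLocalHom (algebraMap R L)]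
    [Module.Free L (L ⊗[B] M)] : Module.Free R (R ⊗[B] M) := by
  obtain ⟨m, p, hp⟩ := Module.Finite.exists_fin' B M
  let i := (LinearMap.ker p).subtype
  have hex : Function.Exact i p := LinearMap.exact_subtype_ker_map p
  haveI : Module.FinitePresentation B (LinearMap.ker p) :=
    finitePresentation_of_exact_flat (A := A) i p Subtype.val_injective hex hp
  have hB' : Function.Injective (i.lTensor B') :=
    (LinearMap.lTensor_inj_iff_rTensor_inj _ _).2
      (rTensor_pushout_injective (A := A) i p Subtype.val_injective hex hp A' B')
  have hL : Function.Injective (i.baseChange L) := by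
    let cK := TensorProduct.AlgebraTensorModule.cancelBaseChange B B' B' L (LinearMap.ker p)
    let cF := TensorProduct.AlgebraTensorModule.cancelBaseChange B B' B' L (Fin m → B)
    have h1 : Function.Injective ((i.baseChange B').lTensor L) :=
      Module.Flat.lTensor_preserves_injective_linearMap _ hB'
    intro a b hab
    apply cK.symm.injective
    apply h1
    apply cF.injective
    have comm : ∀ z, cF ((i.baseChange B').lTensor L z) = i.baseChange L (cK z) := by
      intro z
      induction z using TensorProduct.induction_on with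
      | zero => simp
      | add z w hz hw => simp only [map_add, hz, hw]
      | tmul c t =>
        induction t using TensorProduct.induction_on with
        | zero => simp
        | add t t' ht ht' => simp only [tmul_add, map_add, ht, ht']
        | tmul b n => simp [cK, cF]
    rw [comm, comm, LinearEquiv.apply_symm_apply, LinearEquiv.apply_symm_apply, hab]
  have h3 : Function.Surjective (p.baseChange L) := LinearMap.lTensor_surjective _ hp
  have h2 : Function.Exact (i.baseChange L) (p.baseChange L) := lTensor_exact _ hex hp
  obtain ⟨sec, hsec⟩ := Module.projective_lifting_property (p.baseChange L) LinearMap.id h3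
  obtain ⟨s, hs⟩ : ∃ s : L ⊗[B] (Fin m → B) →ₗ[L] L ⊗[B] (LinearMap.ker p), s ∘ₗ i.baseChange L = LinearMap.id :=
    (((h2.split_tfae').out 0 1 rfl rfl).mp ⟨hL, sec, hsec⟩).2
  let kR := IsLocalRing.ResidueField R
  let kL := IsLocalRing.ResidueField L
  have hkL : Function.Injective (i.lTensor kL) := by
    let eK := TensorProduct.AlgebraTensorModule.cancelBaseChange B L L kL (LinearMap.ker p)
    let eF := TensorProduct.AlgebraTensorModule.cancelBaseChange B L L kL (Fin m → B)
    have comm : ∀ z, eF ((i.baseChange L).lTensor kL z) = i.lTensor kL (eK z) := by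
      intro z
      induction z using TensorProduct.induction_on with
      | zero => simp
      | add z w hz hw => simp only [map_add, hz, hw]
      | tmul c t =>
        induction t using TensorProduct.induction_on with
        | zero => simp
        | add t t' ht ht' => simp only [tmul_add, map_add, ht, ht']
        | tmul b n => simp [eK, eF]
    intro x y hxy
    obtain ⟨x, rfl⟩ := eK.surjective x
    obtain ⟨y, rfl⟩ := eK.surjective y
    rw [← comm, ← comm] at hxy
    have := congrArg (s.lTensor kL) (eF.injective hxy)
    rw [← LinearMap.lTensor_comp_apply, ← LinearMap.lTensor_comp_apply, hs, LinearMap.lTensor_id] at this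
    exact congrArg eK this
  have hkR : Function.Injective (i.lTensor kR) := by
    let j : kR →ₗ[kR] kL := Algebra.linearMap kR kL
    obtain ⟨r, hr⟩ := j.exists_leftInverse_of_injective
      (LinearMap.ker_eq_bot.mpr (algebraMap kR kL).injective)
    let jB : kR →ₗ[B] kL := j.restrictScalars B
    let rB : kL →ₗ[B] kR := r.restrictScalars B
    have hrj : rB ∘ₗ jB = LinearMap.id := LinearMap.ext fun c => LinearMap.congr_fun hr c
    have hjK : Function.Injective (jB.rTensor (LinearMap.ker p)) := by
      intro a b hab
      have h := congrArg (rB.rTensor (LinearMap.ker p)) hab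
      rwa [← LinearMap.rTensor_comp_apply, ← LinearMap.rTensor_comp_apply, hrj, LinearMap.rTensor_id_apply,
        LinearMap.rTensor_id_apply] at h
    intro a b hab
    apply hjK
    apply hkL
    rw [← LinearMap.comp_apply, ← LinearMap.comp_apply (f := i.lTensor kL), LinearMap.lTensor_comp_rTensor,
      ← LinearMap.rTensor_comp_lTensor, LinearMap.comp_apply, LinearMap.comp_apply, hab]
  refine Module.free_of_lTensor_residueField_injective (i.baseChange R) (p.baseChange R)
    (LinearMap.lTensor_surjective _ hp) (lTensor_exact _ hex hp) ?_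
  let eK := TensorProduct.AlgebraTensorModule.cancelBaseChange B R R kR (LinearMap.ker p)
  let eF := TensorProduct.AlgebraTensorModule.cancelBaseChange B R R kR (Fin m → B)
  have comm : ∀ z, eF ((i.baseChange R).lTensor kR z) = i.lTensor kR (eK z) := by
    intro z
    induction z using TensorProduct.induction_on with
    | zero => simp
    | add z w hz hw => simp only [map_add, hz, hw]
    | tmul c t =>
      induction t using TensorProduct.induction_on with
      | zero => simp
      | add t t' ht ht' => simp only [tmul_add, map_add, ht, ht']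
      | tmul b n => simp [eK, eF]
  intro x y hxy
  apply eK.injective
  apply hkR
  rw [← comm, ← comm, hxy]

open AlgebraicGeometry CategoryTheory Limits in
/-- Let f : X ⟶ S be locally of finite presentation and F a finitely presented O_X-module which is flat
over S. Then the formation of the locus of points of X near which F is free (equivalently, for
finitely presented F, where the stalk of F is a free module) commutes with arbitrary base change:
for a cartesian square with g' : X' ⟶ X over S' ⟶ S, the free locus of (g')^*F is the preimage of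
that of F. The published statement also asserts that this locus is open; this row states only that
its formation commutes with base change. -/
theorem result {X S X' S' : Scheme.{u}} (f : X ⟶ S) [LocallyOfFinitePresentation f]
    (F : X.Modules) (hF : CohB1.IsFP F) (hfl : FlatMod.IsFlatOver f F)
    (g : S' ⟶ S) (f' : X' ⟶ S') (g' : X' ⟶ X) (hc : IsPullback g' f' f g) :
    {x' : ↑X' | Module.Free ↑(X'.presheaf.stalk x') ↑(((Scheme.Modules.pullback g').obj F).presheaf.stalk x')} =
      g' ⁻¹' {x : ↑X | Module.Free ↑(X.presheaf.stalk x) ↑(F.presheaf.stalk x)} := by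

  haveI : F.IsFinitePresentation := hF
  ext x'
  change Module.Free _ _ ↔ Module.Free (X.presheaf.stalk (g' x')) (F.presheaf.stalk (g' x'))
  let x := g' x'
  letI aRR : Algebra (X.presheaf.stalk x) (X'.presheaf.stalk x') := (g'.stalkMap x').hom.toAlgebra
  let e : ((Scheme.Modules.pullback g').obj F).presheaf.stalk x' ≃ₗ[X'.presheaf.stalk x']
      X'.presheaf.stalk x' ⊗[X.presheaf.stalk x] F.presheaf.stalk x :=
    ((ModGroth.Stalk.pullStalkIso g' x').app F).toLinearEquiv
  refine ⟨fun hfree => ?_, fun hfree => ?_⟩
  swap
  · exact Module.Free.of_equiv e.symm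
  haveI : Module.Free (X'.presheaf.stalk x') (X'.presheaf.stalk x' ⊗[X.presheaf.stalk x] F.presheaf.stalk x) :=
    Module.Free.of_equiv e
  obtain ⟨V, hV, hxV, -⟩ := SheafBC.exists_mem_affine_le (⊤ : S.Opens) (z := f x) trivial
  obtain ⟨U, hU, hxU, eU⟩ := SheafBC.exists_mem_affine_le (f ⁻¹ᵁ V) (z := x) hxV
  have hxV' : g (f' x') ∈ V := by
    rw [← Scheme.Hom.comp_apply, ← hc.w, Scheme.Hom.comp_apply]
    exact hxV
  obtain ⟨W, hW, hxW, eW⟩ := SheafBC.exists_mem_affine_le (g ⁻¹ᵁ V) (z := f' x') hxV'
  let O : X'.Opens := g' ⁻¹ᵁ U ⊓ f' ⁻¹ᵁ W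
  have hxO : x' ∈ O := ⟨hxU, hxW⟩
  have hO : IsAffineOpen O := by
    haveI : IsAffine V.toScheme := hV
    haveI : IsAffine W := hW
    haveI : IsAffine U.toScheme := hU
    exact .of_isIso (Scheme.Hom.isPullback_resLE hc eW eU (rfl : O = _)).isoPullback.hom
  have eg' : O ≤ g' ⁻¹ᵁ U := inf_le_left
  have ef' : O ≤ f' ⁻¹ᵁ W := inf_le_right
  let A := Γ(S, V)
  let A' := Γ(S', W)
  let B := Γ(X, U)
  let B' := Γ(X', O)
  letI : Algebra A B := (f.appLE V U eU).hom.toAlgebra
  letI : Algebra A A' := (g.appLE V W eW).hom.toAlgebra
  letI : Algebra B B' := (g'.appLE U O eg').hom.toAlgebra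
  letI : Algebra A' B' := (f'.appLE W O ef').hom.toAlgebra
  letI : Algebra A B' := ((algebraMap A' B').comp (algebraMap A A')).toAlgebra
  haveI : IsScalarTower A A' B' := IsScalarTower.of_algebraMap_eq fun _ => rfl
  haveI : IsScalarTower A B B' := IsScalarTower.of_algebraMap_eq fun a => by
    change f'.appLE W O ef' (g.appLE V W eW a) = g'.appLE U O eg' (f.appLE V U eU a)
    rw [← CommRingCat.comp_apply, ← CommRingCat.comp_apply, Scheme.Hom.appLE_comp_appLE, Scheme.Hom.appLE_comp_appLE]
    simp only [hc.w]
  have hpush := (isIso_pushoutSection_iff hc eW eU (rfl : O = _)).mp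
    (isIso_pushoutSection_of_isAffineOpen hc eW eU (rfl : O = _) hV hW hU)
  haveI hpo : Algebra.IsPushout A A' B B' := CommRingCat.isPushout_iff_isPushout.mp hpush.flip
  haveI : Algebra.IsPushout A B A' B' := hpo.symm
  haveI : Algebra.FinitePresentation A B :=
    HasRingHomProperty.appLE @LocallyOfFinitePresentation f inferInstance ⟨V, hV⟩ ⟨U, hU⟩ eU
  haveI : Module.FinitePresentation B Γ(F, U) := finitePresentation_sections (M := F) hF hU
  letI := appLEModule f F V U eU
  haveI : IsScalarTower A B Γ(F, U) := IsScalarTower.of_algebraMap_smul fun _ _ => rfl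
  haveI : Module.Flat A Γ(F, U) := LocalFP.flat_sections f F hV hU eU (fun y _ => hfl y)
  let R := X.presheaf.stalk x
  let R' := X'.presheaf.stalk x'
  letI aBR : Algebra B R := TopCat.Presheaf.algebra_section_stalk X.presheaf ⟨x, hxU⟩
  haveI : IsLocalization.AtPrime R (hU.primeIdealOf ⟨x, hxU⟩).asIdeal := hU.isLocalization_stalk ⟨x, hxU⟩
  letI aBR' : Algebra B' R' := TopCat.Presheaf.algebra_section_stalk X'.presheaf ⟨x', hxO⟩
  haveI : IsLocalization.AtPrime R' (hO.primeIdealOf ⟨x', hxO⟩).asIdeal := hO.isLocalization_stalk ⟨x', hxO⟩
  haveI : Module.Flat B' R' := IsLocalization.flat R' (hO.primeIdealOf ⟨x', hxO⟩).asIdeal.primeCompl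
  letI : Algebra B R' := ((algebraMap B' R').comp (algebraMap B B')).toAlgebra
  haveI : IsScalarTower B B' R' := IsScalarTower.of_algebraMap_eq fun _ => rfl
  haveI : IsScalarTower B R R' := IsScalarTower.of_algebraMap_eq fun b => by
    change X'.presheaf.germ O x' hxO (g'.appLE U O eg' b) = g'.stalkMap x' (X.presheaf.germ U x hxU b)
    rw [Scheme.Hom.germ_stalkMap_apply, Scheme.Hom.appLE, CommRingCat.comp_apply, X'.presheaf.germ_res_apply]
  haveI : IsLocalHom (algebraMap R R') := inferInstanceAs (IsLocalHom (g'.stalkMap x').hom)
  letI : Module B (F.presheaf.stalk x) := germModule F x hxU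
  haveI : IsScalarTower B R (F.presheaf.stalk x) := IsScalarTower.of_algebraMap_smul fun _ _ => rfl
  haveI := isLocalizedModule_germ (M := F) hU x hxU
  have hbc : IsBaseChange R (germLinearMap F x hxU) :=
    IsLocalizedModule.isBaseChange (hU.primeIdealOf ⟨x, hxU⟩).asIdeal.primeCompl R _
  haveI : Module.Free R' (R' ⊗[B] Γ(F, U)) :=
    Module.Free.of_equiv ((TensorProduct.AlgebraTensorModule.congr (LinearEquiv.refl R' R') hbc.equiv.symm).trans
      (TensorProduct.AlgebraTensorModule.cancelBaseChange B R R' R' Γ(F, U)))
  haveI := free_of_free_baseChange (A := A) (B := B) (A' := A') (B' := B') Γ(F, U) R R'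
  exact Module.Free.of_equiv hbc.equiv

end Groth.Agent.S9769
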