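import Groth.Statements.S9776
import Groth.Agent.OmegaUniv.Affine
import Groth.Agent.OmegaUniv.EtaleRing
import Groth.Agent.ConormalSection.SpanPull
import Groth.Agent.QCohLib.Pullback
import Mathlib.AlgebraicGeometry.Morphisms.Etale
-- import your own Groth.Agent.* helpers here

set_option autoImplicit false
universe u
open OmegaSh

namespace Groth.Agent.S9776
open Groth.Agent.ConormalSection (pullRes pullRes_add pullRes_smul span_pullRes)

open AlgebraicGeometry CategoryTheory Limits in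
/-- Consider a commutative square of schemes with vertical maps p₁ : X₁ ⟶ S₁, p₂ : X₂ ⟶ S₂ and
horizontal maps f : X₂ ⟶ X₁, g : S₂ ⟶ S₁, where f and g are étale. Let d₁ : O_{X₁} → Ω₁ and d₂ :
O_{X₂} → Ω₂ be universal derivations over S₁ and S₂ (sheaves of differentials) and c : f^*Ω₁ ⟶ Ω₂
the O_{X₂}-linear map compatible with d₁ and d₂ (the canonical map c_f). Then c is an isomorphism. -/
theorem result {X₁ S₁ X₂ S₂ : Scheme.{u}} (p₁ : X₁ ⟶ S₁) (p₂ : X₂ ⟶ S₂) (f : X₂ ⟶ X₁) (g : S₂ ⟶ S₁)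
    [Etale f] [Etale g] (hsq : f ≫ p₁ = p₂ ≫ g)
    (Ω₁ : X₁.Modules) (d₁ : OmegaSh.Der p₁ Ω₁) (hd₁ : OmegaSh.IsUniversal d₁)
    (Ω₂ : X₂.Modules) (d₂ : OmegaSh.Der p₂ Ω₂) (hd₂ : OmegaSh.IsUniversal d₂)
    (c : (Scheme.Modules.pullback f).obj Ω₁ ⟶ Ω₂) (hc : OmegaSh.IsDiffCompat f d₁ d₂ c) : IsIso c := by
  classical
  have := OmegaUniv.isQuasicoherent hd₁
  have := OmegaUniv.isQuasicoherent hd₂
  have : ((Scheme.Modules.pullback f).obj Ω₁).IsQuasicoherent := QCohLib.isQuasicoherent_pullback f Ω₁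
  -- a basis of affine charts
  let I := Σ' (W : X₂.Opens) (U : X₁.Opens) (V : S₁.Opens) (V' : S₂.Opens),
    IsAffineOpen W ∧ IsAffineOpen U ∧ IsAffineOpen V ∧ IsAffineOpen V' ∧
      W ≤ f ⁻¹ᵁ U ∧ W ≤ p₂ ⁻¹ᵁ V' ∧ U ≤ p₁ ⁻¹ᵁ V ∧ V' ≤ g ⁻¹ᵁ V
  refine QCohLib.isIso_of_cover_bijective (fun i : I => i.1) (fun i => i.2.2.2.2.1) ?_ c ?_
  · intro x
    have hx : g (p₂ x) = p₁ (f x) := show (p₂ ≫ g) x = (f ≫ p₁) x by rw [hsq]
    obtain ⟨V, hV, hxV, -⟩ := exists_isAffineOpen_mem_and_subset (X := S₁) (x := g (p₂ x)) (U := ⊤) trivial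
    obtain ⟨U, hU, hxU, hUV⟩ := exists_isAffineOpen_mem_and_subset (X := X₁) (x := f x) (U := p₁ ⁻¹ᵁ V)
      (show p₁ (f x) ∈ V from hx ▸ hxV)
    obtain ⟨V', hV', hxV', hVV⟩ := exists_isAffineOpen_mem_and_subset (X := S₂) (x := p₂ x) (U := g ⁻¹ᵁ V) hxV
    obtain ⟨W, hW, hxW, hWU⟩ := exists_isAffineOpen_mem_and_subset (X := X₂) (x := x)
      (U := f ⁻¹ᵁ U ⊓ p₂ ⁻¹ᵁ V') ⟨hxU, hxV'⟩
    exact ⟨⟨W, U, V, V', hW, hU, hV, hV', fun y hy => (hWU hy).1, fun y hy => (hWU hy).2, hUV, hVV⟩, hxW⟩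
  rintro ⟨W, U, V, V', hW, hU, hV, hV', eW, eW', eU, eV⟩
  have e' : W ≤ (f ≫ p₁) ⁻¹ᵁ V := fun y hy => eU (eW hy)
  let := (p₁.appLE V U eU).hom.toAlgebra
  let := (g.appLE V V' eV).hom.toAlgebra
  let := (p₂.appLE V' W eW').hom.toAlgebra
  let := (f.appLE U W eW).hom.toAlgebra
  let := ((f ≫ p₁).appLE V W e').hom.toAlgebra
  have : IsScalarTower Γ(S₁, V) Γ(X₁, U) Γ(X₂, W) := .of_algebraMap_eq fun a =>
    (OmegaUniv.appLE_appLE_eq rfl eU eW e' a).symm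
  have : IsScalarTower Γ(S₁, V) Γ(S₂, V') Γ(X₂, W) := .of_algebraMap_eq fun a =>
    (OmegaUniv.appLE_appLE_eq hsq.symm eV eW' e' a).symm
  have : Algebra.Etale Γ(S₁, V) Γ(S₂, V') := RingHom.Etale.toAlgebra (g.etale_appLE hV hV' eV)
  have : Algebra.Etale Γ(X₁, U) Γ(X₂, W) := RingHom.Etale.toAlgebra (f.etale_appLE hU hW eW)
  let P := (Scheme.Modules.pullback f).obj Ω₁
  let : Module Γ(X₁, U) Γ(P, W) := Module.compHom _ (f.appLE U W eW).hom
  have : IsScalarTower Γ(X₁, U) Γ(X₂, W) Γ(P, W) := ⟨fun a b m => mul_smul (f.appLE U W eW a) b m⟩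
  let : Module Γ(S₁, V) Γ(P, W) := Module.compHom _ (p₁.appLE V U eU).hom
  have : IsScalarTower Γ(S₁, V) Γ(X₁, U) Γ(P, W) := ⟨fun a b m => mul_smul (p₁.appLE V U eU a) b m⟩
  let D₀ : Γ(X₁, U) →+ Γ(P, W) := AddMonoidHom.mk' (fun b => pullRes f Ω₁ eW (d₁.app U b))
    (fun a b => by rw [map_add, pullRes_add])
  have hlin : ∀ (a : Γ(S₁, V)) (b : Γ(X₁, U)), D₀ (a • b) = a • D₀ b := fun a b => by
    show pullRes f Ω₁ eW (d₁.app U (p₁.appLE V U eU a * b)) = _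
    rw [OmegaUniv.app_mul, OmegaUniv.app_appLE, smul_zero, add_zero, pullRes_smul]
    rfl
  let D : Derivation Γ(S₁, V) Γ(X₁, U) Γ(P, W) := Derivation.mk' ⟨D₀, hlin⟩ (fun a b => by
    show pullRes f Ω₁ eW (d₁.app U (a * b)) = f.appLE U W eW a • pullRes f Ω₁ eW (d₁.app U b) +
      f.appLE U W eW b • pullRes f Ω₁ eW (d₁.app U a)
    rw [OmegaUniv.app_mul, pullRes_add, pullRes_smul, pullRes_smul])
  obtain ⟨ψ, hψ⟩ := OmegaUniv.exists_lift_etale Γ(S₁, V) Γ(X₁, U) Γ(S₂, V') Γ(X₂, W) D.liftKaehlerDifferential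
  have hψ' : ∀ b, ψ (KaehlerDifferential.D Γ(S₂, V') Γ(X₂, W) (f.appLE U W eW b)) =
      pullRes f Ω₁ eW (d₁.app U b) := fun b => (hψ b).trans (D.liftKaehlerDifferential_comp_D b)
  let m : Ω[Γ(X₂, W)⁄Γ(S₂, V')] → Γ(Ω₂, W) := fun z => OmegaUniv.toMod d₂ V' W eW' z
  have hm : Function.Bijective m := OmegaUniv.bijective_toMod hd₂ hW hV' eW'
  have hmd : ∀ b, m (KaehlerDifferential.D _ _ b) = d₂.app W b := fun b => OmegaUniv.toMod_d d₂ V' W eW' b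
  have hms : ∀ (a : Γ(X₂, W)) z, m (a • z) = a • m z := fun a z => map_smul (OmegaUniv.toMod d₂ V' W eW').hom a z
  have hma : ∀ z w, m (z + w) = m z + m w := fun z w => map_add (OmegaUniv.toMod d₂ V' W eW').hom z w
  have hm0 : m 0 = 0 := map_zero (OmegaUniv.toMod d₂ V' W eW').hom
  have hcψ : ∀ z, c.app W (ψ z) = m z := fun z => by
    have hz : z ∈ Submodule.span Γ(X₂, W) (Set.range fun b : Γ(X₁, U) =>
        KaehlerDifferential.D Γ(S₂, V') Γ(X₂, W) (f.appLE U W eW b)) := by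
      refine Submodule.eq_top_iff'.1 ?_ z
      exact OmegaUniv.span_D_algebraMap Γ(S₁, V) Γ(X₁, U) Γ(S₂, V') Γ(X₂, W)
    induction hz using Submodule.span_induction with
    | mem z hz =>
      obtain ⟨b, rfl⟩ := hz
      rw [hψ', hmd, OmegaUniv.diffCompat_res hc]
    | zero => rw [map_zero, hm0, map_zero]
    | add z w _ _ hz hw => rw [map_add, hma, map_add, hz, hw]
    | smul a z _ hz => rw [map_smul, hms, Scheme.Modules.Hom.app_smul, hz]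
  have hψs : Function.Surjective ψ := by
    rw [← LinearMap.range_eq_top, eq_top_iff, ← span_pullRes f Ω₁ hU hW eW, Submodule.span_le]
    rintro _ ⟨w, rfl⟩
    have hw : w ∈ Submodule.span Γ(X₁, U) (Set.range (d₁.app U)) := by
      rw [OmegaUniv.span_d hd₁ ⟨U, hU, V, hV, eU⟩]; trivial
    induction hw using Submodule.span_induction with
    | mem w hw =>
      obtain ⟨b, rfl⟩ := hw
      exact ⟨_, hψ' b⟩
    | zero => rw [OmegaUniv.pullRes_zero]; exact zero_mem _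
    | add a b _ _ ha hb => rw [pullRes_add]; exact add_mem ha hb
    | smul r a _ ha => rw [pullRes_smul]; exact Submodule.smul_mem _ _ ha
  refine ⟨fun x y h => ?_, fun y => ?_⟩
  · obtain ⟨x, rfl⟩ := hψs x
    obtain ⟨y, rfl⟩ := hψs y
    rw [hcψ, hcψ] at h
    rw [hm.1 h]
  · obtain ⟨z, rfl⟩ := hm.2 y
    exact ⟨ψ z, hcψ z⟩


end Groth.Agent.S9776
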