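import Groth.Statements.S9777
import Groth.Agent.FibDim.Scheme
import Groth.Agent.GeomUnib.Irred
import Groth.Agent.FibreDim.Topo
-- import your own Groth.Agent.* helpers here

set_option autoImplicit false
universe u
open FlatMor

namespace Groth.Agent.S9777

open AlgebraicGeometry CategoryTheory Limits in
/-- For a finite-type morphism f : X ⟶ Y and its pullback f' : X' ⟶ Y' along any g : Y' ⟶ Y, the Krull
dimension of the fibre of f' over a point y' equals that of the fibre of f over g y'; fibre
dimension commutes with base change. -/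
theorem result {X Y X' Y' : Scheme.{u}} (f : X ⟶ Y) [QuasiCompact f] [LocallyOfFiniteType f]
    (g : Y' ⟶ Y) (f' : X' ⟶ Y') (g' : X' ⟶ X) (hc : IsPullback g' f' f g) (y' : Y') :
    topologicalKrullDim ↑(f'.fiber y') = topologicalKrullDim ↑(f.fiber (g y')) := by
  have Hr : IsPullback (f'.fiberι y' ≫ g') (f'.fiberToSpecResidueField y') f (Y'.fromSpecResidueField y' ≫ g) :=
    IsPullback.paste_horiz (IsPullback.of_hasPullback f' (Y'.fromSpecResidueField y')) hc
  have hsp := Scheme.Hom.SpecMap_residueFieldMap_fromSpecResidueField g y'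
  let e : f'.fiber y' ⟶ f.fiber (g y') :=
    Limits.pullback.lift (f'.fiberι y' ≫ g') (f'.fiberToSpecResidueField y' ≫ Spec.map (g.residueFieldMap y'))
      (by rw [Hr.w, Category.assoc, hsp])
  have he₁ : e ≫ f.fiberι (g y') = f'.fiberι y' ≫ g' := Limits.pullback.lift_fst _ _ _
  have he₂ : e ≫ f.fiberToSpecResidueField (g y') =
      f'.fiberToSpecResidueField y' ≫ Spec.map (g.residueFieldMap y') := Limits.pullback.lift_snd _ _ _
  have H : IsPullback e (f'.fiberToSpecResidueField y') (f.fiberToSpecResidueField (g y'))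
      (Spec.map (g.residueFieldMap y')) := by
    refine IsPullback.of_right ?_ he₂ (IsPullback.of_hasPullback f (Y.fromSpecResidueField (g y')))
    rw [show e ≫ Limits.pullback.fst f (Y.fromSpecResidueField (g y')) = _ from he₁, hsp]
    exact Hr
  have hLFT : LocallyOfFiniteType (f.fiberToSpecResidueField (g y')) :=
    MorphismProperty.of_isPullback (P := @LocallyOfFiniteType)
      (IsPullback.of_hasPullback f (Y.fromSpecResidueField (g y'))) ‹_›
  let φ : CommRingCat.of ↑(Y.residueField (g y')) ⟶ CommRingCat.of ↑(Y'.residueField y') := g.residueFieldMap y'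
  have key := fun η hη => @FibDim.dim_closure_of_isPullback (Y.residueField (g y')) (Y'.residueField y') _ _ _ _
    (f.fiberToSpecResidueField (g y')) hLFT φ _ _ H η hη
  haveI : Surjective e := by
    refine MorphismProperty.of_isPullback (P := @Surjective) H.flip ⟨fun a => ?_⟩
    exact ⟨(IsLocalRing.closedPoint _ : Spec (Y'.residueField y')), Subsingleton.elim _ _⟩
  have hmax : ∀ (Z : Scheme.{u}) (z : Z), ∃ η : Z, η ⤳ z ∧ ∀ η', η' ⤳ η → η' = η := fun Z z => by
    obtain ⟨η, hη⟩ := QuasiSober.sober (isIrreducible_irreducibleComponent (x := z)) isClosed_irreducibleComponent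
    exact ⟨η, hη.specializes mem_irreducibleComponent, fun η' h' => (h'.antisymm
      (GeomUnib.maximal_of_component η _ (irreducibleComponent_mem_irreducibleComponents z) hη η' h')).eq⟩
  have hcl : ∀ (Z : Scheme.{u}) (η z : Z), η ⤳ z → closure ({z} : Set Z) ⊆ closure {η} := fun Z η z h =>
    closure_minimal (Set.singleton_subset_iff.2 h.mem_closure) isClosed_closure
  refine le_antisymm (FibreDim.dim_le_of_points fun z => ?_) (FibreDim.dim_le_of_points fun z => ?_)
  · obtain ⟨η, hηz, hη⟩ := hmax _ z
    exact (FibreDim.dim_mono (hcl _ η z hηz)).trans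
      ((key η hη).2.trans_le (Topology.IsInducing.subtypeVal.topologicalKrullDim_le))
  · obtain ⟨ζ, hζz, hζ⟩ := hmax _ z
    obtain ⟨σ, rfl⟩ := e.surjective ζ
    obtain ⟨η, hησ, hη⟩ := hmax _ σ
    have h1 : e η = e σ := hζ _ (hησ.map e.continuous)
    refine (FibreDim.dim_mono (hcl _ _ z hζz)).trans ?_
    rw [← h1]
    exact (key η hη).2.ge.trans (Topology.IsInducing.subtypeVal.topologicalKrullDim_le)

end Groth.Agent.S9777
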