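import Groth.Statements.S9779
import Groth.Agent.UnivOpen.Core
import Groth.Agent.S9347
import Groth.Agent.GeomUnib.EquidimLocal
import Groth.Agent.GeomUnib.Irred
import Groth.Agent.BMCoh.Basic
-- import your own Groth.Agent.* helpers here

set_option autoImplicit false
universe u
open FlatMor

namespace Groth.Agent.S9779

open AlgebraicGeometry CategoryTheory Limits in
/-- Suppose S is locally Noetherian and the morphism f : X ⟶ S is locally of finite type; take x a point
of X closed in its fibre, and U ⊆ X an open subscheme not meeting the fibre through x but with x in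
the closure of U. Then there is a closed subscheme Z of X passing through x such that Z ⟶ S is
quasi-finite at x and Z contains a point z of U specializing to x with f z ≠ f x. -/
theorem result {X S : Scheme.{u}} (f : X ⟶ S) [LocallyOfFiniteType f] [IsLocallyNoetherian S] (x : X)
    (hcl : IsClosed (Subtype.val ⁻¹' {x} : Set ↑(f ⁻¹' {f x}))) (U : X.Opens)
    (hU : ∀ x' ∈ U, f x' ≠ f x) (hxU : x ∈ closure (U : Set ↑X)) :
    ∃ (I : X.IdealSheafData) (z₀ x₀ : ↑I.subscheme), I.subschemeι x₀ = x ∧ (I.subschemeι ≫ f).QuasiFiniteAt x₀ ∧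
      I.subschemeι z₀ ∈ U ∧ I.subschemeι z₀ ⤳ x ∧ f (I.subschemeι z₀) ≠ f x := by
  haveI : IsLocallyNoetherian X := LocallyOfFiniteType.isLocallyNoetherian f
  obtain ⟨u₁, hu₁⟩ := S9347.exists_specializes_of_mem_closure_range U.ι x (by
    rwa [Scheme.Opens.range_ι])
  obtain ⟨P, hP⟩ := Scheme.range_fromSpecStalk.ge hu₁
  let A := X.presheaf.stalk x
  haveI : IsNoetherianRing A := inferInstance
  let mk : A →+* A ⧸ P.asIdeal := Ideal.Quotient.mk P.asIdeal
  haveI : IsDomain (A ⧸ P.asIdeal) := Ideal.Quotient.isDomain _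
  haveI : IsLocalRing (A ⧸ P.asIdeal) := IsLocalRing.of_surjective' _ Ideal.Quotient.mk_surjective
  let c : PrimeSpectrum (A ⧸ P.asIdeal) → X := fun Q => X.fromSpecStalk x (PrimeSpectrum.comap mk Q)
  have hc : Continuous c := (X.fromSpecStalk x).continuous.comp (PrimeSpectrum.continuous_comap _)
  obtain ⟨t, htmem, htU⟩ : ∃ t : A ⧸ P.asIdeal, (⊥ : PrimeSpectrum (A ⧸ P.asIdeal)) ∈ PrimeSpectrum.basicOpen t ∧
      (PrimeSpectrum.basicOpen t : Set _) ⊆ c ⁻¹' U := by
    obtain ⟨_, ⟨t, rfl⟩, h1, h2⟩ := PrimeSpectrum.isTopologicalBasis_basic_opens.exists_subset_of_mem_open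
      (show (⊥ : PrimeSpectrum (A ⧸ P.asIdeal)) ∈ c ⁻¹' U by
        show X.fromSpecStalk x (PrimeSpectrum.comap mk ⊥) ∈ U
        rw [show PrimeSpectrum.comap mk ⊥ = P from PrimeSpectrum.ext (show (⊥ : Ideal _).comap mk = P.asIdeal by
          rw [← RingHom.ker_eq_comap_bot, Ideal.mk_ker]), hP]
        exact u₁.2) (U.2.preimage hc)
    exact ⟨t, h1, h2⟩
  obtain ⟨Q, hQ, htQ, hQmax⟩ := UnivOpen.exists_prime_dim_one (t := t) (fun h => by simp [h] at htmem)
  obtain ⟨z₀, hz₀def⟩ : ∃ z₀, c ⟨Q, hQ⟩ = z₀ := ⟨_, rfl⟩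
  have hz₀U : z₀ ∈ U := hz₀def ▸ htU htQ
  have hz₀x : z₀ ⤳ x := by
    rw [← hz₀def]
    exact Scheme.range_fromSpecStalk.le ⟨_, rfl⟩
  let W : TopologicalSpace.Closeds X := ⟨closure {z₀}, isClosed_closure⟩
  let I := Scheme.IdealSheafData.vanishingIdeal W
  have hr : Set.range I.subschemeι.base = closure {z₀} := by rw [I.range_subschemeι]; rfl
  obtain ⟨z, hz⟩ := hr.ge (subset_closure rfl)
  obtain ⟨x₀, hx₀⟩ := hr.ge hz₀x.mem_closure
  refine ⟨I, z, x₀, hx₀, ?_, hz.symm ▸ hz₀U, hz.symm ▸ hz₀x, hz.symm ▸ hU _ hz₀U⟩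
  rw [Scheme.Hom.quasiFiniteAt_iff_isOpen_singleton_asFiber]
  let g := I.subschemeι ≫ f
  haveI : LocallyOfFiniteType (g.fiberToSpecResidueField (g x₀)) :=
    MorphismProperty.pullback_snd g (S.fromSpecResidueField (g x₀)) inferInstance
  obtain ⟨O, hxO, -, hO⟩ := GeomUnib.exists_nhds_fdim_le (g.fiberToSpecResidueField (g x₀)) (g.asFiber x₀)
  let p : ↥(g.fiber (g x₀)) → X := fun a => I.subschemeι (g.fiberι (g x₀) a)
  have hp : Function.Injective p :=
    I.subschemeι.isClosedEmbedding.injective.comp (g.fiberι _).isEmbedding.injective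
  have hpx : p (g.asFiber x₀) = x := (congrArg I.subschemeι (g.fiberι_asFiber x₀)).trans hx₀
  have hpf : ∀ a, f (p a) = f x := fun a => by
    have : g.fiberι (g x₀) a ∈ Set.range (g.fiberι (g x₀)) := ⟨a, rfl⟩
    rw [g.range_fiberι] at this
    exact (this : f (p a) = f (I.subschemeι x₀)).trans (congrArg f hx₀)
  have hpm : ∀ {a b}, a ⤳ b → p a ⤳ p b := fun h => h.map ((g.fiberι _ ≫ I.subschemeι).continuous)
  have hclosed : ∀ a, g.asFiber x₀ ⤳ a → a = g.asFiber x₀ := fun a ha => hp <| by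
    obtain ⟨C, hC, hC'⟩ := isClosed_induced_iff.1 hcl
    have hxC : x ∈ C := hC'.ge (show (⟨x, rfl⟩ : ↑(f ⁻¹' {f x})) ∈ Subtype.val ⁻¹' {x} from rfl)
    have : p a ∈ C := (hpx ▸ hpm ha).mem_closed hC hxC
    rw [hpx]
    exact hC'.le (show (⟨p a, hpf a⟩ : ↑(f ⁻¹' {f x})) ∈ Subtype.val ⁻¹' C from this)
  have hgen : ∀ a, a ⤳ g.asFiber x₀ → a = g.asFiber x₀ := fun a ha => hp <| by
    obtain ⟨w, hw⟩ := Scheme.range_fromSpecStalk.ge (show p a ⤳ x from hpx ▸ hpm ha)
    rw [hpx, ← hw]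
    have h1 : z₀ ⤳ p a := specializes_iff_mem_closure.2 (hr.le ⟨_, rfl⟩)
    rw [← hw, ← hz₀def] at h1
    have h2 : Q.comap mk ≤ w.asIdeal := (PrimeSpectrum.le_iff_specializes
      (PrimeSpectrum.comap mk ⟨Q, hQ⟩) w).2 ((X.fromSpecStalk x).isEmbedding.toIsInducing.specializes_iff.1 h1)
    have hker : P.asIdeal ≤ Q.comap mk := fun b hb => by
      rw [Ideal.mem_comap, Ideal.Quotient.eq_zero_iff_mem.2 hb]; exact zero_mem _
    have hwP : w.asIdeal = (w.asIdeal.map mk).comap mk := by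
      rw [Ideal.comap_map_of_surjective _ Ideal.Quotient.mk_surjective, ← RingHom.ker_eq_comap_bot,
        Ideal.mk_ker, sup_eq_left.2 (hker.trans h2)]
    haveI : (w.asIdeal.map mk).IsPrime := Ideal.map_isPrime_of_surjective Ideal.Quotient.mk_surjective
      (by rw [Ideal.mk_ker]; exact hker.trans h2)
    have hle : Q ≤ w.asIdeal.map mk := by
      rw [← Ideal.map_comap_of_surjective _ Ideal.Quotient.mk_surjective Q]
      exact Ideal.map_mono h2
    rcases hle.eq_or_lt with h | h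
    · exfalso
      have : w = PrimeSpectrum.comap mk ⟨Q, hQ⟩ := PrimeSpectrum.ext (by rw [hwP, ← h]; rfl)
      rw [this] at hw
      exact hU z₀ hz₀U (by rw [← hz₀def]; exact (congrArg f hw).trans (hpf a))
    · have hm : w = IsLocalRing.closedPoint A := PrimeSpectrum.ext (by
        rw [hwP, hQmax _ inferInstance h]
        exact IsLocalRing.eq_maximalIdeal (Ideal.comap_isMaximal_of_surjective _ Ideal.Quotient.mk_surjective))
      rw [hm]
      exact Scheme.fromSpecStalk_closedPoint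
  have hOeq : (O : Set ↥(g.fiber (g x₀))) = {g.asFiber x₀} := by
    refine Set.eq_singleton_iff_unique_mem.2 ⟨hxO, fun a ha => ?_⟩
    obtain ⟨m, hm⟩ := QuasiSober.sober (isIrreducible_irreducibleComponent (x := a)) isClosed_irreducibleComponent
    have hma : m ⤳ a := hm.specializes mem_irreducibleComponent
    have h := hO m (hma.mem_open O.2 ha) (fun m' hm' =>
      GeomUnib.maximal_of_component m _ (irreducibleComponent_mem_irreducibleComponents a) hm m' hm')
    exact hclosed a (hgen m h ▸ hma)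
  exact hOeq ▸ O.2

end Groth.Agent.S9779
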