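import Groth.Statements.S9792
import Mathlib
-- import your own Groth.Agent.* helpers here

set_option autoImplicit false
universe u
open CategoryTheory AlgebraicGeometry TopologicalSpace
open Props

namespace Groth.Agent.S9792

/-- In a Noetherian scheme, every infinite set of points contains an infinite subset no two distinct
members of which are related by specialization. -/
theorem result (S : Scheme.{u}) [IsNoetherian S]
    (T : Set S) (hT : T.Infinite) :
    ∃ T' : Set S, T' ⊆ T ∧ T'.Infinite ∧ ∀ a ∈ T', ∀ b ∈ T', a ⤳ b → a = b := by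
  classical
  let r : S → S → Prop := fun a b => a ⤳ b
  have : IsTrans S r := ⟨fun a b c h1 h2 => Specializes.trans h1 h2⟩
  have : IsTrans S (Function.swap r) := ⟨fun a b c h1 h2 => Specializes.trans h2 h1⟩
  let f : ℕ → S := fun n => (Set.Infinite.natEmbedding T hT n).1
  have hf : Function.Injective f := fun a b h => (Set.Infinite.natEmbedding T hT).injective (Subtype.ext h)
  obtain ⟨g, hg | hg⟩ := exists_increasing_or_nonincreasing_subseq r f
  · exfalso
    let C : ℕ → TopologicalSpace.Closeds S := fun n => ⟨closure {f (g n)}, isClosed_closure⟩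
    have hlt : ∀ n, C (n + 1) < C n := fun n => by
      have h1 : f (g n) ⤳ f (g (n + 1)) := hg n (n + 1) (Nat.lt_succ_self n)
      refine lt_of_le_of_ne ((isClosed_closure.closure_subset_iff).2
        (Set.singleton_subset_iff.2 h1.mem_closure)) fun he => ?_
      have he' : closure {f (g (n + 1))} = closure {f (g n)} := congrArg SetLike.coe he
      have h2 : f (g (n + 1)) ⤳ f (g n) := specializes_iff_mem_closure.2 (by rw [he']; exact subset_closure rfl)
      exact absurd (g.injective (hf (h1.antisymm h2).eq)) (by omega)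
    have hwf : WellFoundedLT (TopologicalSpace.Closeds S) := inferInstance
    obtain ⟨_, ⟨n, rfl⟩, hn⟩ := hwf.wf.has_min (Set.range C) ⟨_, 0, rfl⟩
    exact hn _ ⟨n + 1, rfl⟩ (hlt n)
  obtain ⟨g', hg' | hg'⟩ := exists_increasing_or_nonincreasing_subseq (Function.swap r) (fun n => f (g n))
  · exfalso
    let x := f (g (g' 0))
    have hmem : ∀ n, f (g (g' (n + 1))) ∈ Set.range (S.fromSpecStalk x).base := fun n => by
      rw [Scheme.range_fromSpecStalk]
      exact hg' 0 (n + 1) (Nat.succ_pos n)
    choose q hq using hmem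
    let P : ℕ → PrimeSpectrum (S.presheaf.stalk x) := q
    have hlt : ∀ n, (P (n + 1)).asIdeal < (P n).asIdeal := fun n => by
      have h1 : f (g (g' (n + 2))) ⤳ f (g (g' (n + 1))) := hg' (n + 1) (n + 2) (Nat.lt_succ_self _)
      rw [← hq (n + 1), ← hq n, (S.fromSpecStalk x).isEmbedding.isInducing.specializes_iff] at h1
      refine lt_of_le_of_ne ((PrimeSpectrum.le_iff_specializes (P (n + 1)) (P n)).2 h1) fun he' => ?_
      have he : q (n + 1) = q n := PrimeSpectrum.ext he'
      have := (hq (n + 1)).symm.trans ((congrArg (fun q => (S.fromSpecStalk x).base q) he).trans (hq n))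
      exact absurd (g'.injective (g.injective (hf this))) (by omega)
    obtain ⟨_, ⟨n, rfl⟩, hn⟩ := (wellFounded_lt (α := ℕ∞)).has_min
      (Set.range fun n => (P n).asIdeal.height) ⟨_, 0, rfl⟩
    exact hn _ ⟨n + 1, rfl⟩ (Ideal.height_strict_mono_of_isPrime_of_isPrime (I := (P (n + 1)).asIdeal) (hlt n))
  refine ⟨Set.range (fun n => f (g (g' n))), ?_, Set.infinite_range_of_injective (fun a b h => g'.injective (g.injective (hf h))), ?_⟩
  · rintro _ ⟨n, rfl⟩
    exact (Set.Infinite.natEmbedding T hT (g (g' n))).2
  rintro _ ⟨m, rfl⟩ _ ⟨n, rfl⟩ h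
  rcases lt_trichotomy m n with hlt | rfl | hlt
  · exact absurd h (hg _ _ (g'.strictMono hlt))
  · rfl
  · exact absurd h (hg' _ _ hlt)

end Groth.Agent.S9792
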