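import Mathlib
import Groth.Statements.S9793
-- import your own Groth.Agent.* helpers here

set_option autoImplicit false
universe u
open CategoryTheory AlgebraicGeometry TopologicalSpace
open Props

namespace Groth.Agent.S9793

/-- Let S be a Noetherian scheme and T a set of points of S. Every point of T is a specialization of
some point of T which admits no non-trivial generization lying in T. -/
theorem result (S : Scheme.{u}) [IsNoetherian S]
    (T : Set S) (t : S) (ht : t ∈ T) :
    ∃ t₀ ∈ T, (∀ t' ∈ T, t' ⤳ t₀ → t' = t₀) ∧ t₀ ⤳ t := by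
  let φ := S.fromSpecStalk t
  have hcl : φ.base (IsLocalRing.closedPoint (S.presheaf.stalk t)) = t := Scheme.fromSpecStalk_closedPoint
  have hne : ∃ q, φ.base q ∈ T := ⟨_, hcl.symm ▸ ht⟩
  obtain ⟨q, hq, hmin⟩ := exists_minimalFor_of_wellFoundedLT (fun q => φ.base q ∈ T)
    (fun q : PrimeSpectrum (S.presheaf.stalk t) => q.asIdeal.height) hne
  have hqt : φ.base q ⤳ t := by
    have : φ.base q ∈ Set.range φ.base := ⟨q, rfl⟩
    rw [show Set.range φ.base = {y | y ⤳ t} from Scheme.range_fromSpecStalk] at this
    exact this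
  refine ⟨φ.base q, hq, fun t' ht' hs => ?_, hqt⟩
  obtain ⟨(q' : PrimeSpectrum (S.presheaf.stalk t)), rfl⟩ : t' ∈ Set.range φ.base := by
    rw [show Set.range φ.base = {y | y ⤳ t} from Scheme.range_fromSpecStalk]
    exact hs.trans hqt
  have hemb : Topology.IsEmbedding φ.base := φ.isEmbedding
  have hle : @LE.le (PrimeSpectrum (S.presheaf.stalk t)) _ q' q := (PrimeSpectrum.le_iff_specializes q' q).mpr (hemb.isInducing.specializes_iff.mp hs)
  by_contra hne'
  have : q.asIdeal.IsPrime := PrimeSpectrum.isPrime q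
  have : q'.asIdeal.IsPrime := PrimeSpectrum.isPrime q'
  have hlt : @LT.lt (PrimeSpectrum (S.presheaf.stalk t)) _ q' q := lt_of_le_of_ne hle fun h => hne' (congrArg φ.base h)
  exact absurd (hmin ht' (Ideal.height_mono hle)) (not_le.mpr (Ideal.height_strict_mono_of_isPrime_of_isPrime (I := q'.asIdeal) (J := q.asIdeal) hlt))

end Groth.Agent.S9793
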