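import Mathlib
import Groth.Statements.S9794
-- import your own Groth.Agent.* helpers here

set_option autoImplicit false
universe u
open CategoryTheory AlgebraicGeometry TopologicalSpace
open Props

namespace Groth.Agent.S9794

/-- In a Noetherian scheme, an infinite dense set of points contains a countable subset which is dense. -/
theorem result (S : Scheme.{u}) [IsNoetherian S]
    (T : Set S) (hT : T.Infinite) (hd : Dense T) :
    ∃ E : Set S, E ⊆ T ∧ E.Countable ∧ Dense E := by
  classical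
  suffices H : ∀ Z : Closeds S, ∀ T : Set S, closure T = (Z : Set S) → ∃ E : Set S, E ⊆ T ∧ E.Countable ∧ closure E = (Z : Set S) by
    obtain ⟨E, hE, hc, hcl⟩ := H ⊤ T (by rw [hd.closure_eq]; rfl)
    exact ⟨E, hE, hc, dense_iff_closure_eq.mpr (by rw [hcl]; rfl)⟩
  intro Z
  induction Z using WellFoundedLT.induction with
  | _ Z ih =>
  intro T hT
  by_cases hgen : ∃ t ∈ T, closure ({t} : Set S) = (Z : Set S)
  · obtain ⟨t, ht, htZ⟩ := hgen
    exact ⟨{t}, Set.singleton_subset_iff.mpr ht, Set.countable_singleton t, htZ⟩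
  push Not at hgen
  have hTZ : T ⊆ (Z : Set S) := hT ▸ subset_closure
  have sub_of_spec : ∀ {a : S}, a ∈ (Z : Set S) → closure ({a} : Set S) ⊆ (Z : Set S) := fun ha =>
    closure_minimal (Set.singleton_subset_iff.mpr ha) Z.isClosed
  let G : Set S := {g | g ∈ (Z : Set S) ∧ closure ({g} : Set S) ≠ (Z : Set S) ∧
    closure (T ∩ closure ({g} : Set S)) = closure ({g} : Set S)}
  have hTG : T ⊆ G := fun t ht => ⟨hTZ ht, hgen t ht, le_antisymm
    (closure_minimal Set.inter_subset_right isClosed_closure)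
    (closure_mono (Set.singleton_subset_iff.mpr ⟨ht, subset_closure (Set.mem_singleton t)⟩))⟩
  let M : Set S := {m | m ∈ G ∧ ∀ g ∈ G, g ⤳ m → g = m}
  have hmax : ∀ t ∈ T, ∃ m ∈ M, m ⤳ t := by
    intro t ht
    obtain ⟨_, ⟨U, hU, rfl⟩, htU, -⟩ := S.isBasis_affineOpens.exists_subset_of_mem_open (Set.mem_univ t) isOpen_univ
    have hmemU : ∀ g, g ⤳ t → g ∈ U := fun g hg => hg.mem_open U.isOpen htU
    have hU' : IsAffineOpen U := hU
    haveI : IsNoetherianRing Γ(S, U) := IsLocallyNoetherian.component_noetherian ⟨U, hU'⟩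
    let φ : {g // g ∈ G ∧ g ⤳ t} → ℕ∞ := fun g => (hU'.primeIdealOf ⟨g.1, hmemU _ g.2.2⟩).asIdeal.height
    haveI : Nonempty {g // g ∈ G ∧ g ⤳ t} := ⟨⟨t, hTG ht, specializes_rfl⟩⟩
    let m := Function.argmin φ
    refine ⟨m.1, ⟨m.2.1, fun g hg hgm => ?_⟩, m.2.2⟩
    by_contra hne
    have hgt : g ⤳ t := hgm.trans m.2.2
    have hle : hU'.primeIdealOf ⟨g, hmemU _ hgt⟩ ⤳ hU'.primeIdealOf ⟨m.1, hmemU _ m.2.2⟩ := by
      refine hU'.fromSpec.isOpenEmbedding.isInducing.specializes_iff.mp ?_
      rw [hU'.fromSpec_primeIdealOf, hU'.fromSpec_primeIdealOf]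
      exact hgm
    rw [← PrimeSpectrum.le_iff_specializes] at hle
    have hlt : (hU'.primeIdealOf ⟨g, hmemU _ hgt⟩).asIdeal < (hU'.primeIdealOf ⟨m.1, hmemU _ m.2.2⟩).asIdeal :=
      lt_of_le_of_ne hle fun he => hne (by
        have := congrArg hU'.fromSpec (PrimeSpectrum.ext he)
        rwa [hU'.fromSpec_primeIdealOf, hU'.fromSpec_primeIdealOf] at this)
    exact Function.not_lt_argmin φ ⟨g, hg, hgt⟩ (Ideal.height_strict_mono_of_isPrime_of_isPrime hlt)
  have hsmall : ∀ g ∈ G, ∃ E : Set S, E ⊆ T ∧ E.Countable ∧ closure E = closure ({g} : Set S) := by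
    rintro g ⟨hgZ, hgne, hgd⟩
    obtain ⟨E, hE, hc, hcl⟩ := ih ⟨closure {g}, isClosed_closure⟩
      (lt_of_le_of_ne (show closure ({g} : Set S) ⊆ (Z : Set S) from sub_of_spec hgZ)
        (fun h => hgne (congrArg SetLike.coe h))) (T ∩ closure {g}) hgd
    exact ⟨E, hE.trans Set.inter_subset_left, hc, hcl⟩
  choose! E hET hEc hEcl using hsmall
  by_cases hfin : M.Finite
  · refine ⟨⋃ m ∈ M, E m, Set.iUnion₂_subset fun m hm => hET m hm.1,
      hfin.countable.biUnion fun m hm => hEc m hm.1, le_antisymm ?_ ?_⟩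
    · exact closure_minimal ((Set.iUnion₂_subset fun m hm => hET m hm.1).trans hTZ) Z.isClosed
    · rw [← hT]
      refine closure_minimal (fun t ht => ?_) isClosed_closure
      obtain ⟨m, hm, hmt⟩ := hmax t ht
      exact closure_mono (Set.subset_biUnion_of_mem hm) (hEcl m hm.1 ▸ specializes_iff_mem_closure.mp hmt)
  · let f := (Set.not_finite.mp hfin).natEmbedding M
    have hsub : (⋃ i : ℕ, E (f i).1) ⊆ T := Set.iUnion_subset fun i => hET _ (f i).2.1
    refine ⟨⋃ i : ℕ, E (f i).1, hsub, Set.countable_iUnion fun i => hEc _ (f i).2.1, ?_⟩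
    by_contra hne
    set E' := ⋃ i : ℕ, E (f i).1
    have hcsub : closure E' ⊆ (Z : Set S) := closure_minimal (hsub.trans hTZ) Z.isClosed
    obtain ⟨C, hCfin, hCcl, hCirr, hCeq⟩ :=
      NoetherianSpace.exists_finite_set_isClosed_irreducible (isClosed_closure (s := E'))
    let C' := {W ∈ C | ∀ W' ∈ C, W ⊆ W' → W' = W}
    have hC'G : ∀ W ∈ C', ∃ w ∈ G, closure ({w} : Set S) = W := by
      rintro W ⟨hW, hWmax⟩
      obtain ⟨w, hw⟩ := QuasiSober.sober (hCirr W hW) (hCcl W hW)
      have hWsub : W ⊆ closure E' := hCeq ▸ Set.subset_sUnion_of_mem hW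
      have hwW : w ∈ W := hw.mem
      refine ⟨w, ⟨hcsub (hWsub hwW), ?_, ?_⟩, hw⟩
      · intro h
        exact hne (le_antisymm hcsub (by rw [← h, hw.def]; exact hWsub))
      · rw [hw.def]
        refine le_antisymm (closure_minimal Set.inter_subset_right (hCcl W hW)) ?_
        have hR : IsClosed (⋃₀ (C \ {W})) := by
          rw [Set.sUnion_eq_biUnion]
          exact (hCfin.subset Set.diff_subset).isClosed_biUnion fun x hx => hCcl x hx.1
        have hcov : W ⊆ closure (E' ∩ W) ∪ ⋃₀ (C \ {W}) := by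
          refine hWsub.trans (closure_minimal (fun x hx => ?_) (isClosed_closure.union hR))
          have hx' : x ∈ ⋃₀ C := hCeq ▸ subset_closure hx
          obtain ⟨D, hD, hxD⟩ := hx'
          by_cases hDW : D = W
          · exact Or.inl (subset_closure ⟨hx, hDW ▸ hxD⟩)
          · exact Or.inr ⟨D, ⟨hD, hDW⟩, hxD⟩
        rcases (isPreirreducible_iff_isClosed_union_isClosed.mp (hCirr W hW).isPreirreducible _ _ isClosed_closure hR hcov) with h | h
        · exact h.trans (closure_mono (Set.inter_subset_inter_left _ hsub))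
        · exfalso
          obtain ⟨D, ⟨hD, hDW⟩, hwD⟩ := h hwW
          exact hDW (hWmax D hD (hw.def ▸ closure_minimal (Set.singleton_subset_iff.mpr hwD) (hCcl D hD)))
    have hall : ∀ i : ℕ, closure ({(f i).1} : Set S) ∈ C' := by
      intro i
      have h1 : (f i).1 ∈ closure E' := closure_mono (Set.subset_iUnion (fun i : ℕ => E (f i).1) i)
        ((hEcl _ (f i).2.1).symm ▸ subset_closure (Set.mem_singleton _))
      rw [hCeq] at h1
      obtain ⟨D, hD, hmD⟩ := h1
      obtain ⟨W, hWD, hW⟩ := hCfin.exists_le_maximal hD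
      have hWC' : W ∈ C' := ⟨hW.prop, fun W' hW' hle => le_antisymm (hW.le_of_ge hW' hle) hle⟩
      obtain ⟨w, hwG, hwW⟩ := hC'G W hWC'
      have : w = (f i).1 := (f i).2.2 w hwG (specializes_iff_mem_closure.mpr (hwW ▸ hWD hmD))
      rwa [← this, hwW]
    have : (Set.range fun i : ℕ => closure ({(f i).1} : Set S)).Infinite := by
      refine Set.infinite_range_of_injective fun i j hij => f.injective (Subtype.ext ?_)
      exact (specializes_iff_mem_closure.mpr (hij ▸ subset_closure (Set.mem_singleton _) : (f j).1 ∈ closure {(f i).1})).antisymm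
        (specializes_iff_mem_closure.mpr (hij.symm ▸ subset_closure (Set.mem_singleton _))) |>.eq
    exact this ((hCfin.subset fun x hx => hx.1).subset (Set.range_subset_iff.mpr hall))

end Groth.Agent.S9794
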