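import Mathlib
import Groth.Statements.S9830
-- import your own Groth.Agent.* helpers here

set_option autoImplicit false
universe u
open CategoryTheory AlgebraicGeometry TopologicalSpace
open Props

namespace Groth.Agent.S9830

open CategoryTheory

set_option backward.defeqAttrib.useBackward true
set_option backward.isDefEq.respectTransparency false
set_option backward.isDefEq.respectTransparency.types false

/-- A scheme whose underlying space is Hausdorff is separated. (The published statement assumes X of
dimension zero; a Hausdorff scheme always has dimension at most zero, so this row omits that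
hypothesis.) -/
theorem result (X : Scheme.{u}) [T2Space X] : X.IsSeparated := by
  refine ⟨⟨?_⟩⟩
  set f := Limits.terminal.from X
  let 𝒰 := (⊤_ Scheme.{u}).affineCover
  let 𝒱 (i) := (Limits.pullback f (𝒰.f i)).affineCover
  have hci := isClosedImmersion_diagonal_restrict_diagonalCoverDiagonalRange f 𝒰 𝒱
  set D := Scheme.Pullback.diagonalCoverDiagonalRange f 𝒰 𝒱 with hD
  refine IsClosedImmersion.of_isPreimmersion _ ?_
  rw [← isOpen_compl_iff, isOpen_iff_forall_mem_open]
  intro z hz
  by_cases H : Limits.pullback.fst f f z = Limits.pullback.snd f f z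
  · have hzD : z ∈ D := by
      simp only [hD, Scheme.Pullback.diagonalCoverDiagonalRange, Scheme.Pullback.openCoverOfBase_I₀, Scheme.Pullback.openCoverOfBase_X,
        Scheme.Pullback.openCoverOfLeftRight_I₀, TopologicalSpace.Opens.iSup_mk, TopologicalSpace.Opens.carrier_eq_coe, Scheme.Hom.coe_opensRange,
        TopologicalSpace.Opens.mem_mk, Set.mem_iUnion, Set.mem_range, Sigma.exists]
      let i := 𝒰.idx (f (Limits.pullback.fst f f z))
      obtain ⟨y : 𝒰.X i, hy : 𝒰.f i y = f _⟩ := 𝒰.covers (f (Limits.pullback.fst f f z))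
      obtain ⟨t, ht₁, ht₂⟩ := Scheme.Pullback.exists_preimage_pullback _ _ hy.symm
      let j := (𝒱 i).idx t
      obtain ⟨w : (𝒱 i).X j, hy : (𝒱 i).f j w = t⟩ := (𝒱 i).covers t
      refine ⟨i, j, ?_⟩
      simp_rw [Scheme.Pullback.diagonalCover_map]
      change z ∈ Set.range _
      simp only [Scheme.Pullback.diagonalCover, Scheme.Pullback.openCoverOfBase_I₀,
        Precoverage.ZeroHypercover.pullback₁_toPreZeroHypercover, PreZeroHypercover.pullback₁_X,
        Precoverage.ZeroHypercover.bind_toPreZeroHypercover, Scheme.Pullback.openCoverOfBase_X,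
        PreZeroHypercover.bind_X, Scheme.Pullback.openCoverOfLeftRight_I₀, Scheme.Pullback.openCoverOfLeftRight_X]
      rw [Scheme.Pullback.range_map]
      simp [← H, ← ht₁, ← hy]
    refine ⟨D.ι '' (Set.range (Limits.pullback.diagonal f ∣_ D))ᶜ, ?_, ?_, ⟨⟨z, hzD⟩, ?_, rfl⟩⟩
    · rintro _ ⟨w, hw, rfl⟩ ⟨x, hx⟩
      refine hw ⟨⟨x, ?_⟩, ?_⟩
      · change Limits.pullback.diagonal f x ∈ D
        rw [hx]; exact w.2
      · apply Subtype.ext
        rw [morphismRestrict_base]
        exact hx
    · exact D.ι.isOpenEmbedding.isOpenMap _ hci.base_closed.isClosed_range.isOpen_compl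
    · rintro ⟨x, hx⟩
      refine hz ⟨x.1, ?_⟩
      have := congrArg Subtype.val hx
      rw [morphismRestrict_base] at this
      exact this
  · obtain ⟨A, B', hA, hB, hzA, hzB, hAB⟩ := t2_separation H
    refine ⟨Limits.pullback.fst f f ⁻¹' A ∩ Limits.pullback.snd f f ⁻¹' B', ?_,
      (hA.preimage (Limits.pullback.fst f f).continuous).inter (hB.preimage (Limits.pullback.snd f f).continuous), hzA, hzB⟩
    rintro w ⟨h1, h2⟩ ⟨x, rfl⟩
    rw [Set.mem_preimage, ← Scheme.Hom.comp_apply, Limits.pullback.diagonal_fst] at h1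
    rw [Set.mem_preimage, ← Scheme.Hom.comp_apply, Limits.pullback.diagonal_snd] at h2
    exact Set.disjoint_left.mp hAB h1 h2

end Groth.Agent.S9830
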