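import Groth.Statements.S9798
import Groth.Agent.LocalDim.Basic
import Groth.Agent.S5795
-- import your own Groth.Agent.* helpers here

set_option autoImplicit false
universe u
open CategoryTheory AlgebraicGeometry TopologicalSpace
open Props

namespace Groth.Agent.S9798

/-- A point of a locally Noetherian scheme has local dimension zero exactly when it is isolated. -/
theorem result (X : Scheme.{u}) [IsLocallyNoetherian X] (x : X) :
    FlatMor.localDim X x = 0 ↔ IsOpen ({x} : Set X) := by
  obtain ⟨U, hU, hx, -⟩ := exists_isAffineOpen_mem_and_subset (X := X) (x := x) (U := ⊤) trivial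
  haveI : IsNoetherianRing Γ(X, U) := IsLocallyNoetherian.component_noetherian ⟨U, hU⟩
  have hx' := hU.fromSpec_primeIdealOf ⟨x, hx⟩
  have he := hU.fromSpec.isOpenEmbedding
  refine Iff.trans (Eq.congr_left ((congrArg (FlatMor.localDim X) hx'.symm).trans
    (Groth.Agent.LocalDim.localDim_openEmbedding he _).symm)) ?_
  haveI : NoetherianSpace ↥(Spec Γ(X, U)) := inferInstanceAs (NoetherianSpace (PrimeSpectrum Γ(X, U)))
  rw [← Groth.Agent.S5795.result ↥(Spec Γ(X, U)) (hU.primeIdealOf ⟨x, hx⟩), he.isOpen_iff_image_isOpen]
  exact iff_of_eq (congrArg IsOpen ((Set.image_singleton (f := hU.fromSpec)).trans (congrArg _ hx')))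

end Groth.Agent.S9798
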