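import Groth.Statements.S9799
import Groth.Agent.S2279
import Mathlib
-- import your own Groth.Agent.* helpers here

set_option autoImplicit false
set_option linter.style.haveILetI false
set_option backward.isDefEq.respectTransparency false
universe u
open CategoryTheory AlgebraicGeometry TopologicalSpace
open Props

namespace Groth.Agent.S9799

/-- Let X be a normal scheme (all local rings are integrally closed domains) such that every
quasi-compact open subset has finitely many irreducible components. Then the irreducible components
of X are open and pairwise disjoint; hence X is the disjoint union of its irreducible components,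
each an open subscheme which is normal and integral. -/
theorem result (X : Scheme.{u})
    (hfin : ∀ U : X.Opens, IsCompact (U : Set X) → (irreducibleComponents ↥U).Finite)
    (hN : Pi1.IsNormalScheme X) :
    (∀ Z ∈ irreducibleComponents X, IsOpen Z) ∧
      ∀ Z ∈ irreducibleComponents X, ∀ Z' ∈ irreducibleComponents X, Z ≠ Z' → Disjoint Z Z' := by
  have hdis : (irreducibleComponents (X : Type u)).PairwiseDisjoint id := (S2279.result X).2 fun x => by
    haveI := (hN x).1
    rw [nilradical_eq_zero]
    exact Ideal.isPrime_bot
  refine ⟨fun Z hZ => ?_, fun Z hZ Z' hZ' hne => hdis hZ hZ' hne⟩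
  rw [isOpen_iff_forall_mem_open]
  intro x hx
  obtain ⟨U, hU, hxU, -⟩ := exists_isAffineOpen_mem_and_subset (X := X) (x := x) (U := ⊤) trivial
  let B : Set ↥U := ⋃ W ∈ {W ∈ irreducibleComponents ↥U | Disjoint (Subtype.val '' W) Z}, W
  have hBc : IsClosed B := ((hfin U hU.isCompact).subset fun W hW => hW.1).isClosed_biUnion
    fun W hW => isClosed_of_mem_irreducibleComponents W hW.1
  have hB : ∀ y : ↥U, y ∈ B ↔ (y : X) ∉ Z := by
    intro y
    constructor
    · intro hy hyZ
      obtain ⟨W, hW, hyW⟩ := Set.mem_iUnion₂.1 hy
      exact Set.disjoint_left.1 hW.2 ⟨y, hyW, rfl⟩ hyZ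
    · intro hyZ
      refine Set.mem_iUnion₂.2 ⟨irreducibleComponent y, ⟨irreducibleComponent_mem_irreducibleComponents y, ?_⟩, mem_irreducibleComponent⟩
      obtain ⟨Z', hZ', hsub⟩ := exists_mem_irreducibleComponents_subset_of_isIrreducible _
        ((isIrreducible_irreducibleComponent (x := y)).image Subtype.val continuous_subtype_val.continuousOn)
      have hne : Z' ≠ Z := fun h => hyZ (h ▸ hsub ⟨y, mem_irreducibleComponent, rfl⟩)
      exact (hdis hZ' hZ hne).mono_left hsub
  refine ⟨Subtype.val '' Bᶜ, ?_, U.2.isOpenMap_subtype_val _ hBc.isOpen_compl, ⟨⟨x, hxU⟩, fun h => (hB _).1 h hx, rfl⟩⟩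
  rintro _ ⟨y, hy, rfl⟩
  by_contra hyZ
  exact hy ((hB y).2 hyZ)

end Groth.Agent.S9799
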