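import Groth.Statements.S9804
import Mathlib
-- import your own Groth.Agent.* helpers here

set_option autoImplicit false
universe u
open CategoryTheory AlgebraicGeometry TopologicalSpace
open Props

namespace Groth.Agent.S9804

section Aux
theorem basicOpen_le_range {U : Scheme.{u}} [U.IsQuasiAffine] (s : Γ(U, ⊤)) (hs : IsAffineOpen (U.basicOpen s)) :
    (PrimeSpectrum.basicOpen s : Set (PrimeSpectrum Γ(U, ⊤))) ⊆ Set.range U.toSpecΓ := by
  intro x hx
  have := isLocalization_basicOpen_of_qcqs (X := U) (U := ⊤) isCompact_univ isQuasiSeparated_univ s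
  let ρ := U.presheaf.map (homOfLE (le_top : U.basicOpen s ≤ ⊤)).op
  have h1 : x ∈ Set.range (Spec.map ρ) := by
    have h2 := PrimeSpectrum.localization_away_comap_range Γ(U, U.basicOpen s) s
    rw [← h2] at hx
    exact hx
  obtain ⟨q, rfl⟩ := h1
  obtain ⟨z, rfl⟩ := hs.isoSpec.hom.surjective q
  refine ⟨(U.basicOpen s).ι z, ?_⟩
  rw [← Scheme.Hom.comp_apply, ← Scheme.Hom.comp_apply,
    ← Scheme.Opens.toSpecΓ_SpecMap_presheaf_map_top]
  rfl

end Aux

/-- For quasi-affine schemes U and V and an open immersion j : U → V, the scheme U is the fibre product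
of the composite U → V → Spec Γ(V, O_V) and the morphism Spec Γ(U, O_U) → Spec Γ(V, O_V) induced by
restriction of sections along j: the square whose sides are the identity of U, the canonical
morphism U → Spec Γ(U, O_U), that composite and that induced morphism is cartesian. -/
theorem result {U V : Scheme.{u}} (j : U ⟶ V)
    [IsOpenImmersion j] [U.IsQuasiAffine] [V.IsQuasiAffine] :
    IsPullback (𝟙 U) U.toSpecΓ (j ≫ V.toSpecΓ) (Spec.map j.appTop) := by
  have H : U.toSpecΓ ≫ Spec.map j.appTop = j ≫ V.toSpecΓ := (Scheme.toSpecΓ_naturality j).symm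
  refine IsOpenImmersion.isPullback (𝟙 U) U.toSpecΓ (j ≫ V.toSpecΓ) (Spec.map j.appTop) (by simpa using H) ?_
  refine le_antisymm ?_ ?_
  · intro x hx
    obtain ⟨_, ⟨_, ⟨r, rfl⟩, rfl⟩, hxr, hr⟩ := (PrimeSpectrum.isBasis_basic_opens
      (R := Γ(V, ⊤))).exists_subset_of_mem_open hx (j ≫ V.toSpecΓ).opensRange.2
    have hVr : IsAffineOpen (V.basicOpen r) := by
      rw [← Scheme.toSpecΓ_preimage_basicOpen]
      refine (IsAffineOpen.Spec_basicOpen r).preimage_of_isOpenImmersion V.toSpecΓ fun y hy => ?_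
      obtain ⟨z, rfl⟩ := hr hy
      exact ⟨j z, (Scheme.Hom.comp_apply j V.toSpecΓ z).symm⟩
    have hUr : IsAffineOpen (U.basicOpen (j.appTop r)) := by
      rw [← Scheme.preimage_basicOpen_top]
      refine hVr.preimage_of_isOpenImmersion j fun y hy => ?_
      have h2 : V.toSpecΓ y ∈ PrimeSpectrum.basicOpen r := by
        rw [← Scheme.toSpecΓ_preimage_basicOpen] at hy; exact hy
      obtain ⟨z, hz⟩ := hr h2
      rw [Scheme.Hom.comp_apply] at hz
      exact ⟨z, V.toSpecΓ.isEmbedding.injective hz⟩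
    exact basicOpen_le_range (j.appTop r) hUr hxr
  · rintro _ ⟨z, rfl⟩
    refine ⟨z, ?_⟩
    rw [← Scheme.Hom.comp_apply U.toSpecΓ, H]

end Groth.Agent.S9804
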