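import Groth.Statements.S9806
import Groth.Agent.CheapQC.FPDescent
import Groth.Agent.NegVanish.Syzygy
-- import your own Groth.Agent.* helpers here

set_option autoImplicit false
universe u
open CategoryTheory AlgebraicGeometry TopologicalSpace
open Props

namespace Groth.Agent.S9806

/-- A quasi-coherent module on a scheme is of finite presentation with all stalks free over the local
rings if and only if it is finite locally free. -/
theorem result (X : Scheme.{u}) (M : X.Modules) (hM : Coh.IsQCoh M) :
    (CohB1.IsFP M ∧ ∀ x : X, Module.Free (X.presheaf.stalk x) (M.presheaf.stalk x)) ↔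
      FlatMod.IsFinLocFree M := by
  refine ⟨fun h => Groth.Agent.DCohPerf.isFinLocFree_of_isFP_flat h.1 fun x => ?_, fun h =>
    ⟨Groth.Agent.DCohPerf.isFP_finLocFree h, fun x => ?_⟩⟩
  · haveI := h.2 x
    exact Module.Flat.of_free
  · haveI := Groth.Agent.NegVanish.finite_stalk (Groth.Agent.QCohLib.isCoh_of_isFP (Groth.Agent.DCohPerf.isFP_finLocFree h)) x
    haveI : Module.Flat (X.presheaf.stalk x) (M.presheaf.stalk x) := Groth.Agent.ModGroth.Perf.isFlat_of_isFinLocFree h x
    exact Module.free_of_flat_of_isLocalRing

end Groth.Agent.S9806
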