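import Groth.Statements.S9807
import Groth.Agent.S7393
import Groth.Agent.RegularSerre.Localization
import Mathlib
-- import your own Groth.Agent.* helpers here

set_option autoImplicit false
universe u
open CategoryTheory AlgebraicGeometry TopologicalSpace
open Props

namespace Groth.Agent.S9807

/-- A locally Noetherian scheme is regular (all local rings regular) as soon as its local rings at
closed points are regular, and conversely. -/
theorem result (X : Scheme.{u}) [IsLocallyNoetherian X] :
    (∀ x : X, IsRegularLocalRing (X.presheaf.stalk x)) ↔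
      ∀ x : X, IsClosed ({x} : Set X) → IsRegularLocalRing (X.presheaf.stalk x) := by
  refine ⟨fun h x _ => h x, fun h x => ?_⟩
  obtain ⟨c, hxc, hc⟩ := Groth.Agent.S7393.exists_closed_specialization X x
  haveI := h c hc
  obtain ⟨_, ⟨W, hW, rfl⟩, hcW, -⟩ :=
    X.isBasis_affineOpens.exists_subset_of_mem_open (Set.mem_univ c) isOpen_univ
  replace hW : IsAffineOpen W := hW
  haveI := hW.isOpenImmersion_fromSpec
  have hxW : x ∈ W := hxc.mem_open W.2 hcW
  letI : Algebra Γ(X, W) (X.presheaf.stalk c) := (X.presheaf.germ W c hcW).hom.toAlgebra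
  letI : Algebra Γ(X, W) (X.presheaf.stalk x) := (X.presheaf.germ W x hxW).hom.toAlgebra
  let q := (hW.primeIdealOf ⟨c, hcW⟩).asIdeal
  let p := (hW.primeIdealOf ⟨x, hxW⟩).asIdeal
  haveI : IsLocalization.AtPrime (X.presheaf.stalk c) q := hW.isLocalization_stalk ⟨c, hcW⟩
  haveI : IsLocalization.AtPrime (X.presheaf.stalk x) p := hW.isLocalization_stalk ⟨x, hxW⟩
  have hpq : p ≤ q := (PrimeSpectrum.le_iff_specializes _ _).mpr
    (hW.fromSpec.isOpenEmbedding.isInducing.specializes_iff.mp
      (((hW.fromSpec_primeIdealOf ⟨x, hxW⟩).symm ▸ (hW.fromSpec_primeIdealOf ⟨c, hcW⟩).symm ▸ hxc : _ ⤳ _)))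
  have hd : Disjoint (q.primeCompl : Set Γ(X, W)) p := Set.disjoint_left.mpr fun a ha hap => ha (hpq hap)
  let P := p.map (algebraMap Γ(X, W) (X.presheaf.stalk c))
  haveI : P.IsPrime := IsLocalization.isPrime_of_isPrime_disjoint q.primeCompl _ p inferInstance hd
  have hP : P.comap (algebraMap Γ(X, W) (X.presheaf.stalk c)) = p :=
    IsLocalization.comap_map_of_isPrime_disjoint q.primeCompl _ inferInstance hd
  haveI : IsLocalization.AtPrime (Localization.AtPrime P) p := by
    have := IsLocalization.isLocalization_isLocalization_atPrime_isLocalization q.primeCompl (Localization.AtPrime P) P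
    simpa only [hP] using this
  haveI := Groth.Agent.RegularSerre.isRegularLocalRing_localization P
  exact IsRegularLocalRing.of_ringEquiv
    (IsLocalization.algEquiv p.primeCompl (Localization.AtPrime P) (X.presheaf.stalk x)).toRingEquiv

end Groth.Agent.S9807
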