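import Groth.Statements.S9808
import Mathlib.AlgebraicGeometry.Noetherian
import Mathlib.RingTheory.Ideal.KrullsHeightTheorem
import Groth.Agent.DepthLib.CohenMacaulay
import Groth.Agent.Catenary.CM

set_option autoImplicit false
set_option linter.style.haveILetI false
universe u
open CategoryTheory AlgebraicGeometry TopologicalSpace
open Props

namespace Groth.Agent.S9808

open AlgebraicGeometry in
theorem no_chain {R : Type u} [CommRing R] [IsDomain R] [IsNoetherianRing R] {g : R} (hg : g ≠ 0)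
    (hgp : ∀ P : Ideal R, P.IsPrime → P ≠ ⊥ → g ∈ P) {q m : Ideal R} [q.IsPrime] [m.IsPrime]
    (hq : q ≠ ⊥) (hlt : q < m) : False := by
  classical
  have hfin : (Ideal.span {g} : Ideal R).minimalPrimes.Finite := Ideal.finite_minimalPrimes_of_isNoetherianRing R _
  have hnot : ∀ P ∈ hfin.toFinset, ¬ m ≤ P := by
    intro P hP hmP
    rw [Set.Finite.mem_toFinset] at hP
    have := hP.1.1
    have h1 : P.height ≤ 1 := Ideal.height_le_one_of_isPrincipal_of_mem_minimalPrimes _ P hP
    have h2 := Ideal.height_add_one_le_of_lt_of_isPrime (I := q) (J := P) (hlt.trans_le hmP)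
    have h3 : q.height ≠ 0 := fun h => hq (Ideal.height_eq_zero_iff_eq_bot.mp h)
    have h4 : (1 : ℕ∞) ≤ q.height := Order.one_le_iff_ne_zero.mpr h3
    have h5 : (1 : ℕ∞) + 1 ≤ 1 := ((add_le_add_left h4 1).trans h2).trans h1
    norm_num at h5
  have hsub : ¬ (m : Set R) ⊆ ⋃ P ∈ (↑hfin.toFinset : Set (Ideal R)), (P : Set R) := by
    intro h
    obtain ⟨P, hP, hle⟩ := (Ideal.subset_union_prime (f := id) ⊥ ⊥ (fun P hP _ _ => by
      rw [Set.Finite.mem_toFinset] at hP; exact hP.1.1)).mp h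
    exact hnot P hP hle
  obtain ⟨f, hfm, hf⟩ := Set.not_subset.mp hsub
  obtain ⟨P, hP, -⟩ := Ideal.exists_minimalPrimes_le (I := Ideal.span {f}) (J := m)
    ((Ideal.span_singleton_le_iff_mem m).mpr hfm)
  have hPp := hP.1.1
  have hfP : f ∈ P := hP.1.2 (Ideal.mem_span_singleton_self f)
  have h1 : P.height ≤ 1 := Ideal.height_le_one_of_isPrincipal_of_mem_minimalPrimes _ P hP
  by_cases hP0 : P = ⊥
  · subst hP0
    obtain ⟨P', hP', hle'⟩ := Ideal.exists_minimalPrimes_le (I := Ideal.span {g}) (J := m)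
      ((Ideal.span_singleton_le_iff_mem m).mpr (hgp m inferInstance
        (fun h => by subst h; exact not_lt_bot hlt)))
    exact hf (Set.mem_biUnion ((Set.Finite.mem_toFinset _).mpr hP') (by rw [(Ideal.mem_bot).mp hfP]; exact P'.zero_mem))
  obtain ⟨Q, hQ, hQP⟩ := Ideal.exists_minimalPrimes_le (I := Ideal.span {g}) (J := P)
    ((Ideal.span_singleton_le_iff_mem P).mpr (hgp P hPp hP0))
  have := hQ.1.1
  have hQ0 : Q ≠ ⊥ := fun h => hg (by
    have hgQ : g ∈ Q := hQ.1.2 (Ideal.mem_span_singleton_self g)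
    rw [h] at hgQ; simpa using hgQ)
  rcases eq_or_lt_of_le hQP with h | h
  · exact hf (Set.mem_biUnion ((Set.Finite.mem_toFinset _).mpr hQ) (h ▸ hfP))
  · have h2 := Ideal.height_add_one_le_of_lt_of_isPrime (I := Q) (J := P) h
    have h3 : (1 : ℕ∞) ≤ Q.height :=
      Order.one_le_iff_ne_zero.mpr fun h => hQ0 (Ideal.height_eq_zero_iff_eq_bot.mp h)
    have h5 : (1 : ℕ∞) + 1 ≤ 1 := ((add_le_add_left h3 1).trans h2).trans h1
    norm_num at h5

open scoped Classical in

/-- In a locally Noetherian scheme every point specializes to a closed point. -/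
theorem exists_closed_specialization (X : Scheme.{u}) [IsLocallyNoetherian X] (x : X) :
    ∃ c : X, x ⤳ c ∧ IsClosed ({c} : Set X) := by
  obtain ⟨_, ⟨W, hW, rfl⟩, hxW, -⟩ := X.isBasis_affineOpens.exists_subset_of_mem_open
    (Set.mem_univ x) isOpen_univ
  replace hW : IsAffineOpen W := hW
  haveI := hW.isOpenImmersion_fromSpec
  rw [← hW.range_fromSpec] at hxW
  obtain ⟨p₀, rfl⟩ := hxW
  obtain ⟨m, hm, hpm⟩ := Ideal.exists_le_maximal p₀.asIdeal p₀.isPrime.ne_top
  let μ : PrimeSpectrum Γ(X, W) := ⟨m, hm.isPrime⟩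
  let z := hW.fromSpec μ
  have hxz : hW.fromSpec p₀ ⤳ z :=
    ((PrimeSpectrum.le_iff_specializes p₀ μ).mp hpm).map hW.fromSpec.continuous
  by_cases hz : IsClosed ({z} : Set X)
  · exact ⟨z, hxz, hz⟩
  have hiso : ∀ y, z ⤳ y → y ∈ W → y = z := by
    intro y hy hyW
    rw [← SetLike.mem_coe, ← hW.range_fromSpec] at hyW
    obtain ⟨P, rfl⟩ := hyW
    have hle : m ≤ P.asIdeal :=
      (PrimeSpectrum.le_iff_specializes μ P).mpr (hW.fromSpec.isOpenEmbedding.isInducing.specializes_iff.mp hy)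
    exact congrArg hW.fromSpec (PrimeSpectrum.ext (hm.eq_of_le P.isPrime.ne_top hle).symm)
  rw [← closure_subset_iff_isClosed, Set.not_subset] at hz
  obtain ⟨w, hw, hwz⟩ := hz
  have hzw : z ⤳ w := specializes_iff_mem_closure.mpr hw
  refine ⟨w, hxz.trans hzw, ?_⟩
  rw [← closure_subset_iff_isClosed]
  intro v hv
  by_contra hvw
  have hwv : w ⤳ v := specializes_iff_mem_closure.mpr hv
  obtain ⟨_, ⟨V, hV, rfl⟩, hvV, -⟩ := X.isBasis_affineOpens.exists_subset_of_mem_open
    (Set.mem_univ v) isOpen_univ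
  replace hV : IsAffineOpen V := hV
  haveI := hV.isOpenImmersion_fromSpec
  have : IsNoetherianRing Γ(X, V) := IsLocallyNoetherian.component_noetherian ⟨V, hV⟩
  have hwV : w ∈ V := hwv.mem_open V.2 hvV
  have hzV : z ∈ V := hzw.mem_open V.2 hwV
  have hzW : z ∈ W := by rw [← SetLike.mem_coe, ← hW.range_fromSpec]; exact ⟨μ, rfl⟩
  rw [← SetLike.mem_coe, ← hV.range_fromSpec] at hzV hwV
  rw [← hV.range_fromSpec] at hvV
  obtain ⟨P, hP⟩ := hzV
  obtain ⟨Q, rfl⟩ := hwV
  obtain ⟨U, rfl⟩ := hvV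
  rw [← hP] at hzw hiso hwz hzW
  have hind := hV.fromSpec.isOpenEmbedding.isInducing
  have hPQ : P.asIdeal ≤ Q.asIdeal := (PrimeSpectrum.le_iff_specializes P Q).mpr (hind.specializes_iff.mp hzw)
  have hQU : Q.asIdeal ≤ U.asIdeal := (PrimeSpectrum.le_iff_specializes Q U).mpr (hind.specializes_iff.mp hwv)
  have hne1 : P.asIdeal ≠ Q.asIdeal := fun h => hwz (congrArg hV.fromSpec (PrimeSpectrum.ext h)).symm
  have hne2 : Q.asIdeal ≠ U.asIdeal := fun h => hvw (congrArg hV.fromSpec (PrimeSpectrum.ext h)).symm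
  obtain ⟨_, ⟨g, rfl⟩, hPg, hgW⟩ := PrimeSpectrum.isTopologicalBasis_basic_opens.exists_subset_of_mem_open
    (show P ∈ hV.fromSpec ⁻¹' W from hzW) (W.2.preimage hV.fromSpec.continuous)
  have : P.asIdeal.IsPrime := P.isPrime
  have : Q.asIdeal.IsPrime := Q.isPrime
  have : U.asIdeal.IsPrime := U.isPrime
  let π := Ideal.Quotient.mk P.asIdeal
  have key : ∀ I : Ideal (Γ(X, V) ⧸ P.asIdeal), I.IsPrime → I ≠ ⊥ → π g ∈ I := by
    intro I hI hI0
    by_contra hg
    refine hI0 ?_
    have h2 : P.asIdeal ≤ I.comap π := fun a ha => by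
      rw [Ideal.mem_comap, Ideal.Quotient.eq_zero_iff_mem.mpr ha]; exact I.zero_mem
    have h3 := hiso (hV.fromSpec ⟨I.comap π, inferInstance⟩)
      (((PrimeSpectrum.le_iff_specializes P ⟨I.comap π, inferInstance⟩).mp h2).map hV.fromSpec.continuous)
      (hgW (show g ∉ I.comap π from hg))
    have h4 : I.comap π = P.asIdeal :=
      congrArg PrimeSpectrum.asIdeal (hV.fromSpec.isOpenEmbedding.injective h3)
    rw [← Ideal.map_comap_of_surjective π Ideal.Quotient.mk_surjective I, h4, Ideal.map_quotient_self]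
  have hcom : ∀ J : Ideal Γ(X, V), P.asIdeal ≤ J → (J.map π).comap π = J := fun J hJ => by
    rw [Ideal.comap_map_of_surjective' _ Ideal.Quotient.mk_surjective, Ideal.mk_ker, sup_eq_left.mpr hJ]
  have : (Q.asIdeal.map π).IsPrime :=
    Ideal.map_isPrime_of_surjective Ideal.Quotient.mk_surjective (by rwa [Ideal.mk_ker])
  have : (U.asIdeal.map π).IsPrime :=
    Ideal.map_isPrime_of_surjective Ideal.Quotient.mk_surjective (by rw [Ideal.mk_ker]; exact hPQ.trans hQU)
  refine no_chain (g := π g) (fun h => hPg (Ideal.Quotient.eq_zero_iff_mem.mp h)) key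
    (q := Q.asIdeal.map π) (m := U.asIdeal.map π) (fun h => hne1 ?_) (lt_of_le_of_ne (Ideal.map_mono hQU) fun h => hne2 ?_)
  · have := congrArg (Ideal.comap π) h
    rw [hcom _ hPQ] at this
    exact (this.trans Ideal.mk_ker).symm
  · have := congrArg (Ideal.comap π) h
    rwa [hcom _ hPQ, hcom _ (hPQ.trans hQU)] at this

/-- A locally Noetherian scheme is Cohen-Macaulay (all local rings Cohen-Macaulay) as soon as its local
rings at closed points are Cohen-Macaulay, and conversely. -/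
theorem result (X : Scheme.{u}) [IsLocallyNoetherian X] :
    (∀ x : X, LocCoh.IsCohenMacaulayLocalRing (X.presheaf.stalk x)) ↔
      ∀ x : X, IsClosed ({x} : Set X) → LocCoh.IsCohenMacaulayLocalRing (X.presheaf.stalk x) := by
  refine ⟨fun h x _ => h x, fun h x => ?_⟩
  obtain ⟨c, hxc, hc⟩ := exists_closed_specialization X x
  haveI := h c hc
  obtain ⟨_, ⟨W, hW, rfl⟩, hcW, -⟩ :=
    X.isBasis_affineOpens.exists_subset_of_mem_open (Set.mem_univ c) isOpen_univ
  replace hW : IsAffineOpen W := hW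
  haveI := hW.isOpenImmersion_fromSpec
  have hxW : x ∈ W := hxc.mem_open W.2 hcW
  letI : Algebra Γ(X, W) (X.presheaf.stalk c) := (X.presheaf.germ W c hcW).hom.toAlgebra
  letI : Algebra Γ(X, W) (X.presheaf.stalk x) := (X.presheaf.germ W x hxW).hom.toAlgebra
  let q := (hW.primeIdealOf ⟨c, hcW⟩).asIdeal
  let p := (hW.primeIdealOf ⟨x, hxW⟩).asIdeal
  haveI : IsLocalization.AtPrime (X.presheaf.stalk c) q := hW.isLocalization_stalk ⟨c, hcW⟩
  haveI : IsLocalization.AtPrime (X.presheaf.stalk x) p := hW.isLocalization_stalk ⟨x, hxW⟩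
  have hpq : p ≤ q := (PrimeSpectrum.le_iff_specializes _ _).mpr
    (hW.fromSpec.isOpenEmbedding.isInducing.specializes_iff.mp
      (((hW.fromSpec_primeIdealOf ⟨x, hxW⟩).symm ▸ (hW.fromSpec_primeIdealOf ⟨c, hcW⟩).symm ▸ hxc : _ ⤳ _)))
  have hd : Disjoint (q.primeCompl : Set Γ(X, W)) p := Set.disjoint_left.mpr fun a ha hap => ha (hpq hap)
  let P := p.map (algebraMap Γ(X, W) (X.presheaf.stalk c))
  haveI : P.IsPrime := IsLocalization.isPrime_of_isPrime_disjoint q.primeCompl _ p inferInstance hd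
  have hP : P.comap (algebraMap Γ(X, W) (X.presheaf.stalk c)) = p :=
    IsLocalization.comap_map_of_isPrime_disjoint q.primeCompl _ inferInstance hd
  haveI : IsLocalization.AtPrime (Localization.AtPrime P) p := by
    have := IsLocalization.isLocalization_isLocalization_atPrime_isLocalization q.primeCompl (Localization.AtPrime P) P
    simpa only [hP] using this
  haveI := Groth.Agent.DepthLib.isCohenMacaulayLocalRing_localization (R := X.presheaf.stalk c) P
  exact Groth.Agent.Catenary.isCohenMacaulayLocalRing_of_ringEquiv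
    (IsLocalization.algEquiv p.primeCompl (Localization.AtPrime P) (X.presheaf.stalk x)).toRingEquiv

end Groth.Agent.S9808
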