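import Groth.Statements.S9810
import Groth.Agent.ReducedNormalization.Components
import Groth.Agent.NormalizationAffine.EnatTsum

set_option autoImplicit false
universe u
open Brnch

namespace Groth.Agent.S9810

/-- Branches, in terms of the local ring: for a local ring A with finitely many minimal prime ideals,
the number of branches of A is the sum over the minimal primes p of the numbers of branches of the
local domains A/p. Geometrically: the number of branches of a scheme at a point is the sum of the
numbers of branches at that point of the irreducible components passing through it. -/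
theorem result (A : Type u) [CommRing A] [IsLocalRing A]
    (h : (minimalPrimes A).Finite) :
    Brnch.numBranches A =
      ∑ᶠ p : minimalPrimes A,
        haveI : p.1.IsPrime := p.2.1.1
        Brnch.numBranches (A ⧸ p.1) := by
  classical
  have : Finite (minimalPrimes A) := h.to_subtype
  have : Finite (Groth.Agent.ReducedNormalization.Comp (CAlg2.red A)) :=
    Finite.of_equiv _ (Groth.Agent.ReducedNormalization.compEquiv A)
  obtain ⟨Φ, hΦ⟩ := Groth.Agent.ReducedNormalization.exists_normRedPi (A := A)
  cases nonempty_fintype (minimalPrimes A)
  have hfin : ∀ p : minimalPrimes A, (minimalPrimes (A ⧸ p.1)).Finite := fun p => by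
    have : p.1.IsPrime := p.2.1.1
    rw [show minimalPrimes (A ⧸ p.1) = {⊥} from IsDomain.minimalPrimes_eq_singleton_bot _]
    exact Set.finite_singleton _
  simp only [Brnch.numBranches, if_pos h, if_pos (hfin _)]
  rw [finsum_eq_sum_of_fintype, ← tsum_fintype (L := SummationFilter.unconditional _),
    Groth.Agent.NormalizationAffine.tsum_enat_card,
    ← Groth.Agent.ReducedNormalization.card_maximalSpectrum_pi]
  refine ENat.card_congr (Equiv.ofBijective
    (fun m => (⟨m.asIdeal.comap Φ.symm.toRingHom, have := m.isMaximal
      Ideal.comap_isMaximal_of_surjective _ Φ.symm.surjective⟩ : MaximalSpectrum _)) ⟨?_, ?_⟩)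
  · intro m n e
    exact MaximalSpectrum.ext (Ideal.comap_injective_of_surjective _ Φ.symm.surjective
      (congrArg MaximalSpectrum.asIdeal e))
  · intro P
    have := P.isMaximal
    refine ⟨⟨P.asIdeal.comap Φ.toRingHom, Ideal.comap_isMaximal_of_surjective _ Φ.surjective⟩,
      MaximalSpectrum.ext (Ideal.ext fun x => ?_)⟩
    change Φ (Φ.symm x) ∈ P.asIdeal ↔ _
    rw [Φ.apply_symm_apply]

end Groth.Agent.S9810
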