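import Groth.Statements.S9811
import Groth.Agent.ReducedNormalization.Components
import Groth.Agent.NormalizationAffine.EnatTsum

set_option autoImplicit false
universe u
open Brnch

namespace Groth.Agent.S9811

/-- Geometric branches, in terms of the local ring: for a local ring A with finitely many minimal prime
ideals, the number of geometric branches of A is the sum over the minimal primes p of the numbers of
geometric branches of the local domains A/p. -/
theorem result (A : Type u) [CommRing A] [IsLocalRing A]
    (h : (minimalPrimes A).Finite) :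
    Brnch.numGeomBranches A =
      ∑ᶠ p : minimalPrimes A,
        haveI : p.1.IsPrime := p.2.1.1
        Brnch.numGeomBranches (A ⧸ p.1) := by
  classical
  have : Finite (minimalPrimes A) := h.to_subtype
  have : Finite (Groth.Agent.ReducedNormalization.Comp (CAlg2.red A)) :=
    Finite.of_equiv _ (Groth.Agent.ReducedNormalization.compEquiv A)
  obtain ⟨Φ, hΦ⟩ := Groth.Agent.ReducedNormalization.exists_normRedPi (A := A)
  cases nonempty_fintype (minimalPrimes A)
  have hfin : ∀ p : minimalPrimes A, (minimalPrimes (A ⧸ p.1)).Finite := fun p => by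
    have : p.1.IsPrime := p.2.1.1
    rw [show minimalPrimes (A ⧸ p.1) = {⊥} from IsDomain.minimalPrimes_eq_singleton_bot _]
    exact Set.finite_singleton _
  have key : ∀ p : minimalPrimes A, haveI : p.1.IsPrime := p.2.1.1
      ENat.card (Σ m : MaximalSpectrum (CAlg2.normRed (A ⧸ p.1)), Brnch.Emb (A ⧸ p.1) m) =
      ENat.card {σ : CAlg2.normRed (A ⧸ p.1) →+* AlgebraicClosure (IsLocalRing.ResidueField A) //
        σ.comp ((Groth.Agent.ReducedNormalization.toNorm (A ⧸ p.1)).comp (Ideal.Quotient.mk p.1)) =
          Brnch.toClosure A} := by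
    intro p
    have : p.1.IsPrime := p.2.1.1
    rw [Groth.Agent.ReducedNormalization.card_emb]
    have hloc : IsLocalHom (Ideal.Quotient.mk p.1) :=
      IsLocalHom.of_surjective _ Ideal.Quotient.mk_surjective
    let ρ : IsLocalRing.ResidueField A ≃+* IsLocalRing.ResidueField (A ⧸ p.1) :=
      RingEquiv.ofBijective (IsLocalRing.ResidueField.map (Ideal.Quotient.mk p.1))
        ⟨RingHom.injective _, fun y => by
          obtain ⟨y, rfl⟩ := IsLocalRing.residue_surjective y
          obtain ⟨a, rfl⟩ := Ideal.Quotient.mk_surjective y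
          exact ⟨IsLocalRing.residue A a, rfl⟩⟩
    exact Groth.Agent.ReducedNormalization.card_hom_closure_congr (Ideal.Quotient.mk p.1)
      Ideal.Quotient.mk_surjective (IsLocalRing.residue A) (IsLocalRing.residue (A ⧸ p.1)) ρ
      (fun a => rfl) (Groth.Agent.ReducedNormalization.toNorm (A ⧸ p.1))
  simp only [Brnch.numGeomBranches, if_pos h, if_pos (hfin _)]
  rw [finsum_congr key, finsum_eq_sum_of_fintype,
    ← tsum_fintype (L := SummationFilter.unconditional _),
    Groth.Agent.NormalizationAffine.tsum_enat_card,
    Groth.Agent.ReducedNormalization.card_emb]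
  have hF : ∀ p : minimalPrimes A, (Pi.evalRingHom (fun q : minimalPrimes A =>
      CAlg2.normRed (A ⧸ q.1)) p).comp
        (Φ.toRingHom.comp (Groth.Agent.ReducedNormalization.toNorm A)) =
      (Groth.Agent.ReducedNormalization.toNorm (A ⧸ p.1)).comp (Ideal.Quotient.mk p.1) :=
    fun p => RingHom.ext fun a => hΦ a p
  have h2 := Groth.Agent.ReducedNormalization.card_hom_pi
    (Φ.toRingHom.comp (Groth.Agent.ReducedNormalization.toNorm A)) (Brnch.toClosure A)
  simp only [hF] at h2
  rw [← h2]
  refine ENat.card_congr
    { toFun := fun s => ⟨s.1.comp Φ.symm.toRingHom, RingHom.ext fun a => ?_⟩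
      invFun := fun s => ⟨s.1.comp Φ.toRingHom, by rw [RingHom.comp_assoc]; exact s.2⟩
      left_inv := fun s => Subtype.ext (RingHom.ext fun x => congrArg s.1 (Φ.symm_apply_apply x))
      right_inv := fun s => Subtype.ext (RingHom.ext fun x => congrArg s.1 (Φ.apply_symm_apply x)) }
  exact (congrArg s.1 (Φ.symm_apply_apply _)).trans (RingHom.congr_fun s.2 a)

end Groth.Agent.S9811
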