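import Groth.Statements.S9815
-- import your own Groth.Agent.* helpers here
import Groth.Agent.InvPow.Ample
import Groth.Agent.InvPow.Transfer

set_option autoImplicit false
universe u
open CategoryTheory CategoryTheory.Limits AlgebraicGeometry TopologicalSpace
open Props

namespace Groth.Agent.S9815

/-- Case (4) (which implies the other cases): let L be an ample invertible module on a scheme X and let
i : X' → X be a morphism from a quasi-compact scheme which is a homeomorphism onto its image. Then
i^*L is ample. -/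
theorem result {X X' : Scheme.{u}} (i : X' ⟶ X) [CompactSpace X']
    (hi : Topology.IsEmbedding i) (L : X.Modules) (hL : CohB1.IsAmple L) :
    CohB1.IsAmple ((Scheme.Modules.pullback i).obj L) := by
  refine InvPow.isAmple_pullback hL i fun y => ?_
  obtain ⟨V, hV, hyV, -⟩ := exists_isAffineOpen_mem_and_subset (TopologicalSpace.Opens.mem_top y : y ∈ (⊤ : X'.Opens))
  obtain ⟨W, hW, hWV⟩ := hi.isInducing.isOpen_iff.1 V.2
  have hyW : i y ∈ (⟨W, hW⟩ : X.Opens) := by
    have : y ∈ i ⁻¹' W := hWV.ge hyV
    exact this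
  obtain ⟨n, hn, s, hx, hle, -⟩ := InvPow.exists_locus_le hL hyW
  obtain ⟨σ, hσ⟩ := (InvPow.trPull i hL.1).exists_map hL.1 (k := n) (one_mul n) s
  refine ⟨_, hx, ?_⟩
  rw [← hσ]
  have hsub : ProjUniv.genOpen (InvPow.isInvertible_tensorPow ((InvPow.trPull i hL.1).isInvertible hL.1) n) σ ≤ V := by
    rw [hσ]
    intro z hz
    exact hWV.le (hle hz)
  rw [← inf_eq_left.2 hsub]
  exact InvPow.isAffineOpen_genOpen_inf _ σ hV

end Groth.Agent.S9815
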