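import Groth.Statements.S9816
import Groth.Agent.InvPow.AmplePullback
-- import your own Groth.Agent.* helpers here

set_option autoImplicit false
universe u
open CategoryTheory CategoryTheory.Limits AlgebraicGeometry TopologicalSpace
open Props

namespace Groth.Agent.S9816

/-- Over a quasi-separated base S, if X and Y carry ample invertible modules L and N, then the tensor
product of their pullbacks along the two projections is an ample invertible module on the fibre
product of X and Y over S. -/
theorem result {X Y S : Scheme.{u}} [QuasiSeparatedSpace S]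
    (f : X ⟶ S) (g : Y ⟶ S) (L : X.Modules) (N : Y.Modules) (hL : CohB1.IsAmple L) (hN : CohB1.IsAmple N) :
    CohB1.IsAmple (CohB1.tensorMod ((Scheme.Modules.pullback (pullback.fst f g)).obj L)
      ((Scheme.Modules.pullback (pullback.snd f g)).obj N)) := by
  have := hL.2.1
  have := hN.2.1
  have : QuasiCompact (pullback.fst f g) := MorphismProperty.pullback_fst _ _ inferInstance
  have : CompactSpace (pullback f g : Scheme.{u}) := QuasiCompact.compactSpace_of_compactSpace (pullback.fst f g)
  refine InvPow.isAmple_tensor_pullback hL hN _ _ fun z => ?_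
  obtain ⟨U, hU, hzU, -⟩ := exists_isAffineOpen_mem_and_subset (x := f (pullback.fst f g z)) (U := ⊤)
    (TopologicalSpace.Opens.mem_top _)
  refine ⟨f ⁻¹ᵁ U, g ⁻¹ᵁ U, hzU, ?_, fun A B hA hB hAU hBU => InvPow.isAffineOpen_pullback_inf f g hA hU hB hAU hBU⟩
  show g (pullback.snd f g z) ∈ U
  rw [← Scheme.Hom.comp_apply, ← pullback.condition]
  exact hzU

end Groth.Agent.S9816
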