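import Groth.Statements.S9818
import Groth.Agent.QCohLib.Biprod
import Groth.Agent.QCohLib.Criterion
import Groth.Agent.QCohLib.Pullback

set_option autoImplicit false
set_option linter.style.haveILetI false
set_option backward.isDefEq.respectTransparency false
universe u
open CategoryTheory CategoryTheory.Limits AlgebraicGeometry TopologicalSpace Opposite
open Props

namespace Groth.Agent.S9818

/-- For an open subscheme U of a scheme X with quasi-compact inclusion, a quasi-coherent module G on U
with a map to the restriction of a quasi-coherent module F on X extends to a quasi-coherent module H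
on X with a map to F restricting to the given one. Taking F = 0, every quasi-coherent module on U
extends to a quasi-coherent module on X. -/
theorem result {X : Scheme.{u}} (U : X.Opens) [QuasiCompact U.ι]
    (F : X.Modules) [Coh.IsQCoh F] (G : (U : Scheme.{u}).Modules) [Coh.IsQCoh G] (φ : G ⟶ F.restrict U.ι) :
    ∃ (H : X.Modules) (ψ : H ⟶ F) (e : H.restrict U.ι ≅ G), Coh.IsQCoh H ∧
      e.hom ≫ φ = (Scheme.Modules.restrictFunctor U.ι).map ψ := by
  let adj := Scheme.Modules.restrictAdjunction U.ι
  let R := Scheme.Modules.restrictFunctor U.ι
  haveI : (F.restrict U.ι).IsQuasicoherent := inferInstance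
  haveI : ((Scheme.Modules.pushforward U.ι).obj G).IsQuasicoherent :=
    QCohLib.isQuasicoherent_pushforward U.ι
  haveI : ((Scheme.Modules.pushforward U.ι).obj (F.restrict U.ι)).IsQuasicoherent :=
    QCohLib.isQuasicoherent_pushforward U.ι
  let η : F ⟶ (Scheme.Modules.pushforward U.ι).obj (F.restrict U.ι) := adj.unit.app F
  let jφ := (Scheme.Modules.pushforward U.ι).map φ
  haveI : IsIso (R.map η) :=
    haveI : IsIso (R.map η ≫ adj.counit.app (R.obj F)) := by
      erw [adj.left_triangle_components F]
      exact IsIso.id _
    IsIso.of_isIso_comp_right (R.map η) (adj.counit.app (R.obj F))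
  haveI : IsIso (R.map (pullback.snd η jφ)) :=
    ((IsPullback.of_hasPullback η jφ).map R).isIso_snd_of_isIso
  refine ⟨pullback η jφ, pullback.fst η jφ, asIso (R.map (pullback.snd η jφ) ≫ adj.counit.app G),
    QCohLib.isQuasicoherent_pullback_limit η jφ, ?_⟩
  have h := congrArg (fun m => R.map m ≫ adj.counit.app (R.obj F)) (pullback.condition (f := η) (g := jφ))
  simp only [Functor.map_comp, Category.assoc] at h
  have h1 : R.map η ≫ adj.counit.app (R.obj F) = 𝟙 (R.obj F) := adj.left_triangle_components F
  have h2 : R.map jφ ≫ adj.counit.app (R.obj F) = adj.counit.app G ≫ φ := adj.counit.naturality φ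
  erw [h1, Category.comp_id, h2] at h
  simpa using h.symm
end Groth.Agent.S9818
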