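import Mathlib
import Groth.Statements.S9822
-- import your own Groth.Agent.* helpers here

set_option autoImplicit false
universe u
open CategoryTheory CategoryTheory.Limits AlgebraicGeometry TopologicalSpace Opposite
open Props

namespace Groth.Agent.S9822

/-- A scheme is irreducible if and only if it is nonempty and every nonempty affine open subset is
irreducible. -/
theorem result (X : Scheme.{u}) :
    IrreducibleSpace X ↔ Nonempty X ∧ ∀ U : X.Opens, IsAffineOpen U → (U : Set X).Nonempty → IsIrreducible (U : Set X) := by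
  constructor
  · intro h
    exact ⟨h.toNonempty, fun U _ hne =>
      ⟨hne, PreirreducibleSpace.isPreirreducible_univ.open_subset U.2 (Set.subset_univ _)⟩⟩
  · rintro ⟨hne, h⟩
    haveI : PreirreducibleSpace X := by
      refine ⟨fun O₁ O₂ hO₁ hO₂ ⟨a, _, ha⟩ ⟨b, _, hb⟩ => ?_⟩
      obtain ⟨_, ⟨U, hU, rfl⟩, haU, hUO⟩ := X.isBasis_affineOpens.exists_subset_of_mem_open ha hO₁
      obtain ⟨_, ⟨V, hV, rfl⟩, hbV, hVO⟩ := X.isBasis_affineOpens.exists_subset_of_mem_open hb hO₂
      by_contra hcon
      have hd : Disjoint U V := by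
        rw [← TopologicalSpace.Opens.coe_disjoint, Set.disjoint_left]
        exact fun z hzU hzV => hcon ⟨z, trivial, hUO hzU, hVO hzV⟩
      have hW := h _ (hU.sup_of_disjoint hV hd) ⟨a, Or.inl haU⟩
      obtain ⟨z, -, hzU, hzV⟩ := hW.2 U V U.2 V.2 ⟨a, Or.inl haU, haU⟩ ⟨b, Or.inr hbV, hbV⟩
      exact hcon ⟨z, trivial, hUO hzU, hVO hzV⟩
    exact ⟨hne⟩

end Groth.Agent.S9822
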