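import Groth.Statements.S9823
import Groth.Agent.AdmBlowUp.FTIdeal
-- import your own Groth.Agent.* helpers here

set_option autoImplicit false
universe u
open CategoryTheory CategoryTheory.Limits AlgebraicGeometry TopologicalSpace Opposite
open Props

namespace Groth.Agent.S9823

/-- In a quasi-compact quasi-separated scheme, an open subset is quasi-compact exactly when its
complement is the support of some quasi-coherent ideal sheaf of finite type. -/
theorem result (X : Scheme.{u}) [CompactSpace X] [QuasiSeparatedSpace X]
    (U : X.Opens) :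
    IsCompact (U : Set X) ↔
      ∃ I : X.IdealSheafData, (∀ V : X.affineOpens, (I.ideal V).FG) ∧ (I.support : Set X) = (U : Set X)ᶜ := by
    constructor
    · intro hU
      obtain ⟨I, hI, hs⟩ := Groth.Agent.AdmBlowUp.exists_ft_ideal U hU
      exact ⟨I, hI, hs⟩
    · rintro ⟨I, hI, hs⟩
      obtain ⟨κ, hκ, W, hW, -, hsup⟩ :=
        Groth.Agent.QCohLib.exists_finite_affine_cover (X := X) (U := ⊤) CompactSpace.isCompact_univ
      have hcover : (U : Set X) = ⋃ i, (U : Set X) ∩ (W i : Set X) := by
        ext x
        refine ⟨fun hx => ?_, fun hx => (Set.mem_iUnion.mp hx).choose_spec.1⟩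
        obtain ⟨i, hi⟩ := Opens.mem_iSup.mp (hsup (Opens.mem_top x))
        exact Set.mem_iUnion.mpr ⟨i, hx, hi⟩
      rw [hcover]
      refine isCompact_iUnion fun i => ?_
      obtain ⟨s, hspan⟩ := hI ⟨W i, hW i⟩
      have : (U : Set X) ∩ (W i : Set X) = ⋃ f ∈ (s : Set Γ(X, W i)), (X.basicOpen f : Set X) := by
        have hz := I.coe_support_inter ⟨W i, hW i⟩
        rw [← hspan, Scheme.zeroLocus_span] at hz
        ext x
        constructor
        · rintro ⟨hxU, hxW⟩
          by_contra hne
          have : x ∈ (I.support : Set X) := ((Set.ext_iff.mp hz x).mpr ⟨by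
            rw [Scheme.mem_zeroLocus_iff]; intro f hf hxf; exact hne (Set.mem_biUnion hf hxf), hxW⟩).1
          rw [hs] at this
          exact this hxU
        · intro hx
          obtain ⟨f, hf, hxf⟩ := Set.mem_iUnion₂.mp hx
          refine ⟨?_, X.basicOpen_le f hxf⟩
          by_contra hxU
          have := ((Set.ext_iff.mp hz x).mp ⟨hs ▸ hxU, X.basicOpen_le f hxf⟩).1
          rw [Scheme.mem_zeroLocus_iff] at this
          exact this f hf hxf
      rw [this]
      exact s.finite_toSet.isCompact_biUnion fun f _ => ((hW i).basicOpen f).isCompact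

end Groth.Agent.S9823
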