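import Groth.Statements.S9831
import Groth.Agent.SubSheafExt.Noetherian
import Groth.Agent.QCohLib.Criterion
-- import your own Groth.Agent.* helpers here

set_option autoImplicit false
universe u
open CategoryTheory CategoryTheory.Limits AlgebraicGeometry TopologicalSpace Opposite
open Props

namespace Groth.Agent.S9831

/-- On a quasi-compact quasi-separated scheme, a quasi-coherent module of finite type on a quasi-compact
open U is the restriction of a quasi-coherent module of finite type on the whole scheme. -/
theorem result {X : Scheme.{u}} [CompactSpace X]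
    [QuasiSeparatedSpace X] (U : X.Opens) (hU : IsCompact (U : Set X)) (G : (U : Scheme.{u}).Modules)
    [Coh.IsQCoh G] (hG : CohB1.IsFT G) :
    ∃ G' : X.Modules, Coh.IsQCoh G' ∧ CohB1.IsFT G' ∧ Nonempty (G'.restrict U.ι ≅ G) := by
  haveI : G.IsQuasicoherent := inferInstance
  haveI : QuasiCompact U.ι := ⟨fun V hVo hVc => by
    rw [U.ι.isOpenEmbedding.isInducing.isCompact_iff, Set.image_preimage_eq_inter_range, Scheme.Opens.range_ι]
    exact QuasiSeparatedSpace.inter_isCompact V _ hVo hVc U.2 hU⟩
  haveI : ((Scheme.Modules.pushforward U.ι).obj G).IsQuasicoherent := Groth.Agent.QCohLib.isQuasicoherent_pushforward U.ι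
  let e := (asIso (Scheme.Modules.restrictAdjunction U.ι).counit).app G
  obtain ⟨G', i', d, hi', h1, h2, -⟩ :=
    Groth.Agent.SubSheafExt.exists_subsheaf_extension_qcqs (F := (Scheme.Modules.pushforward U.ι).obj G) U hU hG e.inv
  exact ⟨G', h1, h2, ⟨d⟩⟩

end Groth.Agent.S9831
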