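import Groth.Statements.S9838
-- import your own Groth.Agent.* helpers here
import Groth.Agent.QCohLib.Coherent
import Groth.Agent.QCohLib.FiniteType

set_option autoImplicit false
open CategoryTheory CategoryTheory.Limits AlgebraicGeometry Opposite
universe u
open Desc

namespace Groth.Agent.S9838

/-- Let f : X ⟶ Y be a finite morphism of schemes and F a quasi-coherent O_X-module. The pushforward
f_*F is of finite type as an O_Y-module exactly when F itself is of finite type as an O_X-module. -/
theorem result {X Y : Scheme.{u}} (f : X ⟶ Y) [IsFinite f]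
    (F : X.Modules) [F.IsQuasicoherent] :
    SheafOfModules.IsFiniteType (R := X.ringCatSheaf) F ↔
      SheafOfModules.IsFiniteType (R := Y.ringCatSheaf) ((Scheme.Modules.pushforward f).obj F) := by
  constructor
  · intro hF
    exact (Groth.Agent.QCohLib.isCoh_pushforward (M := F) f ⟨inferInstance, hF⟩).2
  · intro hF
    haveI := Groth.Agent.QCohLib.isQuasicoherent_pushforward (M := F) f
    refine Groth.Agent.QCohLib.isFiniteType_of_affine_cover F (ι := Y.affineOpens) (fun V => ⟨f ⁻¹ᵁ V.1, V.2.preimage f⟩) (fun x => ?_) fun V => ?_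
    · obtain ⟨V, hV, hxV, -⟩ := exists_isAffineOpen_mem_and_subset (TopologicalSpace.Opens.mem_top (f x))
      exact ⟨⟨V, hV⟩, hxV⟩
    · have hV : Module.Finite Γ(Y, V.1) Γ((Scheme.Modules.pushforward f).obj F, V.1) :=
        Groth.Agent.QCohLib.finite_sections _ hF V.2
      algebraize [(f.app V.1).hom]
      let : Module Γ(Y, V.1) Γ(F, f ⁻¹ᵁ V.1) := Module.compHom _ (f.app V.1).hom
      have : IsScalarTower Γ(Y, V.1) Γ(X, f ⁻¹ᵁ V.1) Γ(F, f ⁻¹ᵁ V.1) :=
        IsScalarTower.of_algebraMap_smul fun _ _ => rfl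
      have : Module.Finite Γ(Y, V.1) Γ(F, f ⁻¹ᵁ V.1) := hV
      exact Module.Finite.of_restrictScalars_finite Γ(Y, V.1) Γ(X, f ⁻¹ᵁ V.1) Γ(F, f ⁻¹ᵁ V.1)

end Groth.Agent.S9838
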