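import Groth.Statements.S9841
import Groth.Agent.InfNbhd.Misc
-- import your own Groth.Agent.* helpers here

set_option autoImplicit false
open CategoryTheory CategoryTheory.Limits AlgebraicGeometry Opposite
universe u
open Desc

namespace Groth.Agent.S9841

/-- Being reduced is local in the smooth topology: for a jointly surjective family of smooth morphisms f
i : X i ⟶ S, the scheme S is reduced if and only if every X i is reduced. -/
theorem result {ι : Type u} {S : Scheme.{u}} {X : ι → Scheme.{u}} (f : ∀ i, X i ⟶ S)
    (hf : Presieve.ofArrows X f ∈ Scheme.precoverage @Smooth S) :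
    IsReduced S ↔ ∀ i, IsReduced (X i) := by
  have h1 := (Scheme.ofArrows_mem_precoverage_iff @Smooth).mp hf
  haveI := h1.2
  exact Groth.Agent.MiscFlat.isReduced_iff f h1.1

end Groth.Agent.S9841
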