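import Mathlib
import Groth.Statements.S9843
-- import your own Groth.Agent.* helpers here

set_option autoImplicit false
open CategoryTheory CategoryTheory.Limits AlgebraicGeometry Opposite
universe u
open Desc

namespace Groth.Agent.S9843

open CategoryTheory

/-- Being dominant is fppf local on the base: for every fppf covering family Y i ⟶ Y (flat, locally of
finite presentation, jointly surjective), a morphism X ⟶ Y is dominant if and only if all its base
changes X ×_Y Y i ⟶ Y i are. -/
theorem result :
    MorphismProperty.IsLocalAtTarget (@IsDominant : MorphismProperty Scheme.{u}) Scheme.fppfPrecoverage := by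
  refine MorphismProperty.IsLocalAtTarget.mk_of_iff_of_zeroHypercover fun {X Y} f 𝒰 => ?_
  obtain ⟨hcov, hP⟩ := (AlgebraicGeometry.Scheme.ofArrows_mem_precoverage_iff (P := @Flat ⊓ @LocallyOfFinitePresentation)).1 𝒰.mem₀
  constructor
  · intro hf i
    haveI : Flat (𝒰.f i) := (hP i).1
    haveI : LocallyOfFinitePresentation (𝒰.f i) := (hP i).2
    refine ⟨?_⟩
    rw [DenseRange, AlgebraicGeometry.Scheme.Pullback.range_snd]
    exact (Scheme.Hom.denseRange f).preimage (𝒰.f i).isOpenMap
  · intro h
    refine ⟨dense_iff_inter_open.2 fun U hU hne => ?_⟩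
    obtain ⟨y, hy⟩ := hne
    obtain ⟨i, z, hz⟩ := hcov y
    obtain ⟨w, hw⟩ := (haveI := h i; (pullback.snd f (𝒰.f i)).denseRange).exists_mem_open (hU.preimage (𝒰.f i).continuous) ⟨z, show 𝒰.f i z ∈ U by rwa [hz]⟩
    refine ⟨_, hw, pullback.fst f (𝒰.f i) w, ?_⟩
    rw [← Scheme.Hom.comp_apply, pullback.condition, Scheme.Hom.comp_apply]

end Groth.Agent.S9843
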