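import Groth.Statements.S9844
import Groth.Agent.FppfSource.Scheme


set_option autoImplicit false
open CategoryTheory CategoryTheory.Limits AlgebraicGeometry Opposite
universe u
open Desc

namespace Groth.Agent.S9844

/-- Being locally of finite type is fppf local on the source: for every fppf covering family g i : X i ⟶
X, a morphism f : X ⟶ Y is locally of finite type if and only if every composite g i ≫ f is. -/
theorem result :
    MorphismProperty.IsLocalAtSource (@LocallyOfFiniteType : MorphismProperty Scheme.{u}) Scheme.fppfPrecoverage := by

  constructor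
  · intro X Y f R hR U g hg hf
    haveI := hf
    have h : Flat g ∧ LocallyOfFinitePresentation g := hR.2 hg
    haveI := h.2
    infer_instance
  · intro X Y f R hR h
    have hs := (Presieve.mem_comap_jointlySurjectivePrecoverage_iff Scheme.forget).1 hR.1
    choose U g hg hx using hs
    let p : (∐ fun x : ↥X => U x) ⟶ X := Sigma.desc g
    have : Flat p := IsZariskiLocalAtSource.sigmaDesc fun i => (hR.2 (hg i)).1
    have : LocallyOfFinitePresentation p := IsZariskiLocalAtSource.sigmaDesc fun i => (hR.2 (hg i)).2
    have : Surjective p := Surjective.sigmaDesc_of_union_range_eq_univ (f := g)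
      (Set.eq_univ_of_forall fun x => Set.mem_iUnion.2 ⟨x, hx x⟩)
    have hp : ∀ i, LocallyOfFiniteType (Sigma.ι (fun x : ↥X => U x) i ≫ p ≫ f) := fun i => by
      rw [← Category.assoc, Sigma.ι_desc]; exact h (hg i)
    have : LocallyOfFiniteType (p ≫ f) :=
      IsZariskiLocalAtSource.of_openCover (P := @LocallyOfFiniteType) (sigmaOpenCover _) hp
    exact Groth.Agent.FppfSource.locallyOfFiniteType_of_comp p f

end Groth.Agent.S9844
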