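import Groth.Statements.S9845
import Groth.Agent.SourceDescent.Basic
-- import your own Groth.Agent.* helpers here

set_option autoImplicit false
set_option backward.isDefEq.respectTransparency.types false
open CategoryTheory CategoryTheory.Limits AlgebraicGeometry Opposite
universe u
open Desc

namespace Groth.Agent.S9845

/-- Being an open morphism (open underlying map) is fppf local on the source: for every fppf covering
family g i : X i ⟶ X, a morphism f : X ⟶ Y has open underlying map if and only if every composite g
i ≫ f does. -/
theorem result :
    MorphismProperty.IsLocalAtSource (topologically (fun f => IsOpenMap f) : MorphismProperty Scheme.{u})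
      Scheme.fppfPrecoverage := by
  exact Groth.Agent.SourceDescent.isLocalAtSource_of (P := topologically (fun f => IsOpenMap f))
    (M := @Flat ⊓ @LocallyOfFinitePresentation)
    (fun A B C k m hk hm => by
      obtain ⟨h₁, h₂⟩ := hk
      have : Flat k := h₁
      have : LocallyOfFinitePresentation k := h₂
      exact IsOpenMap.comp (g := ⇑m) (f := ⇑k) hm k.isOpenMap)
    (fun A B C k m hk hs h => by
      intro U hU
      have : Surjective k := hs
      have := h _ (hU.preimage k.continuous)
      rw [← Set.image_preimage_eq U k.surjective, Set.image_image]
      exact this)

end Groth.Agent.S9845
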