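import Groth.Statements.S9846
import Groth.Agent.SourceDescent.Basic
-- import your own Groth.Agent.* helpers here

set_option autoImplicit false
set_option backward.isDefEq.respectTransparency.types false
open CategoryTheory CategoryTheory.Limits AlgebraicGeometry Opposite
universe u
open Desc

namespace Groth.Agent.S9846

/-- Being universally open is fppf local on the source: for every fppf covering family g i : X i ⟶ X, a
morphism f : X ⟶ Y is universally open if and only if every composite g i ≫ f is. -/
theorem result :
    MorphismProperty.IsLocalAtSource (@UniversallyOpen : MorphismProperty Scheme.{u}) Scheme.fppfPrecoverage := by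
  exact Groth.Agent.SourceDescent.isLocalAtSource_of (P := @UniversallyOpen)
    (M := @Flat ⊓ @LocallyOfFinitePresentation)
    (fun A B C k m hk hm => by
      obtain ⟨h₁, h₂⟩ := hk
      have : Flat k := h₁
      have : LocallyOfFinitePresentation k := h₂
      exact MorphismProperty.comp_mem _ _ _ (inferInstance : UniversallyOpen k) hm)
    (fun A B C k m hk hs h => by
      refine ⟨fun X' Y' i₁ i₂ f' hf => ?_⟩
      have : Surjective k := hs
      have hs' : Surjective (pullback.fst i₁ k) := MorphismProperty.pullback_fst _ _ ‹_›
      have ho := h.universally_isOpenMap (pullback.snd i₁ k) i₂ (pullback.fst i₁ k ≫ f')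
        ((IsPullback.of_hasPullback i₁ k).paste_horiz hf)
      intro U hU
      have := ho _ (hU.preimage (pullback.fst i₁ k).continuous)
      rw [← Set.image_preimage_eq U (pullback.fst i₁ k).surjective, Set.image_image]
      exact this)

end Groth.Agent.S9846
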