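import Groth.Statements.S9851
import Groth.Agent.DescFamFF.EssSurj
-- import your own Groth.Agent.* helpers here

set_option autoImplicit false
open CategoryTheory CategoryTheory.Limits AlgebraicGeometry Opposite
universe u
open Desc

set_option backward.isDefEq.respectTransparency false
set_option backward.isDefEq.respectTransparency.types false
namespace Groth.Agent.S9851

/-- Let f i : X i ⟶ S be a family of morphisms of schemes and X = ∐ X i with its morphism to S. The
canonical functor from descent data for schemes relative to X ⟶ S to descent data relative to the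
family, which pulls a datum back along the coprojections X i ⟶ X, is an equivalence of categories.
(The published statement names the quasi-inverse functor, sending a family (V i, φ ij) to (∐ V i, ∐
φ ij); asserting that the canonical pullback functor is an equivalence is the same result.) -/
theorem result {ι : Type u} {S : Scheme.{u}} {X : ι → Scheme.{u}} (f : ∀ i, X i ⟶ S) :
    (Desc.SchDDFam.ofSchDD (Sigma.desc f) ⋙
      Desc.pullDDFam (f := fun _ : PUnit.{u + 1} => Sigma.desc f) (f' := f) (α := fun _ => PUnit.unit)
        (p := 𝟙 S) (p' := fun i => Sigma.ι X i)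
        (fun i => (Sigma.ι_desc f i).trans (Category.comp_id (f i)).symm)).IsEquivalence := by
    haveI : (Desc.SchDDFam.ofSchDD.{u, u} (Sigma.desc f)).IsEquivalence :=
      (Desc.SchDDFam.oneEquiv.{u, u} (Sigma.desc f)).isEquivalence_inverse
    haveI : (Desc.pullDDFam (f := fun _ : PUnit.{u + 1} => Sigma.desc f) (f' := f) (α := fun _ => PUnit.unit)
          (p := 𝟙 S) (p' := fun i => Sigma.ι X i)
          (fun i => (Sigma.ι_desc f i).trans (Category.comp_id (f i)).symm)).IsEquivalence := by
      refine Groth.Agent.DescFamFF.isEquivalence_zariski (v := fun _ : PUnit.{u + 1} => Sigma.desc f)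
        (α := fun _ => PUnit.unit) (g := fun i => Sigma.ι X i) (fun i => Sigma.ι_desc f i) fun j => ?_
      refine (Scheme.ofArrows_mem_precoverage_iff _).mpr ⟨fun z => ?_, fun a => ?_⟩
      · obtain ⟨i, y, rfl⟩ := (sigmaOpenCover X).exists_eq z
        exact ⟨⟨i, rfl⟩, y, by simp; rfl⟩
      · obtain ⟨i, rfl⟩ := a
        infer_instance
    infer_instance

end Groth.Agent.S9851
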