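import Groth.Statements.S9860
-- import your own Groth.Agent.* helpers here

set_option autoImplicit false
set_option linter.style.haveILetI false
set_option backward.isDefEq.respectTransparency false
open CategoryTheory CategoryTheory.Limits AlgebraicGeometry Opposite
universe u
open Desc

namespace Groth.Agent.S9860

/-- Consider morphisms of schemes f i : X i ⟶ X indexed by i. Suppose that, whenever Y is an affine
scheme and g : Y ⟶ X is a morphism, the sieve on Y obtained by pulling back along g (generated by
the base changes X i ×_X Y ⟶ Y) is effective epimorphic. Then the pulled-back sieve along every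
morphism Y ⟶ X of schemes is effective epimorphic; in other words, within schemes the family forms a
universal effective epimorphism. -/
theorem result {ι : Type u} {X : Scheme.{u}} {Xi : ι → Scheme.{u}} (f : ∀ i, Xi i ⟶ X)
    (h : ∀ (Y : Scheme.{u}) (g : Y ⟶ X), IsAffine Y → ((Sieve.ofArrows Xi f).pullback g).EffectiveEpimorphic)
    {Y : Scheme.{u}} (g : Y ⟶ X) : ((Sieve.ofArrows Xi f).pullback g).EffectiveEpimorphic := by
  classical
  rw [Sieve.EffectiveEpimorphic.iff_forall_isSheafFor_yoneda]
  intro Z
  set S := Sieve.ofArrows Xi f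
  have ha : ∀ (V : Scheme.{u}) (k : V ⟶ X), IsAffine V →
      Presieve.IsSheafFor (yoneda.obj Z) (S.pullback k).arrows := fun V k hV =>
    (Sieve.EffectiveEpimorphic.iff_forall_isSheafFor_yoneda _).1 (h V k hV) Z
  have sep : ∀ {W : Scheme.{u}} (k : W ⟶ X) (a b : W ⟶ Z),
      (∀ (T : Scheme.{u}) (q : T ⟶ W), S (q ≫ k) → q ≫ a = q ≫ b) → a = b := by
    intro W k a b hab
    refine Scheme.Cover.hom_ext W.affineCover a b fun i => ?_
    refine (ha _ (W.affineCover.f i ≫ k) inferInstance).isSeparatedFor.ext fun T q hq => ?_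
    have hq' : S ((q ≫ W.affineCover.f i) ≫ k) := by rw [Category.assoc]; exact hq
    simpa using hab T (q ≫ W.affineCover.f i) hq'
  intro x hx
  have memY : ∀ i (T : Scheme.{u}) (q : T ⟶ Y.affineCover.X i),
      S.pullback (Y.affineCover.f i ≫ g) q → (S.pullback g) (q ≫ Y.affineCover.f i) :=
    fun i T q hq => by
      show S ((q ≫ Y.affineCover.f i) ≫ g)
      rw [Category.assoc]; exact hq
  let xi : ∀ i, Presieve.FamilyOfElements (yoneda.obj Z)
      (S.pullback (Y.affineCover.f i ≫ g)).arrows :=
    fun i T q hq => x (q ≫ Y.affineCover.f i) (memY i T q hq)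
  have hxi : ∀ i, (xi i).Compatible := by
    intro i T₁ T₂ W g₁ g₂ f₁ f₂ h₁ h₂ e
    exact hx g₁ g₂ (memY i _ _ h₁) (memY i _ _ h₂) (by rw [reassoc_of% e])
  choose s hs hsu using fun i => ha _ (Y.affineCover.f i ≫ g) inferInstance (xi i) (hxi i)
  have hcomp : ∀ i j, pullback.fst (Y.affineCover.f i) (Y.affineCover.f j) ≫ s i =
      pullback.snd (Y.affineCover.f i) (Y.affineCover.f j) ≫ s j := by
    intro i j
    refine sep (pullback.fst _ _ ≫ Y.affineCover.f i ≫ g) _ _ fun T q hq => ?_
    have h₁ : S.pullback (Y.affineCover.f i ≫ g) (q ≫ pullback.fst _ _) := by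
      show S ((q ≫ pullback.fst _ _) ≫ Y.affineCover.f i ≫ g)
      simpa using hq
    have h₂ : S.pullback (Y.affineCover.f j ≫ g) (q ≫ pullback.snd _ _) := by
      show S ((q ≫ pullback.snd _ _) ≫ Y.affineCover.f j ≫ g)
      simpa [← pullback.condition_assoc] using hq
    have a₁ := hs i _ h₁
    have a₂ := hs j _ h₂
    simp only [yoneda] at a₁ a₂ ⊢
    refine Eq.trans (by simpa using a₁) (Eq.trans ?_ (by simpa using a₂.symm))
    have := hx (𝟙 T) (𝟙 T) (memY i _ _ h₁) (memY j _ _ h₂)
      (by simp [pullback.condition])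
    simpa [xi] using this
  refine ⟨Scheme.Cover.glueMorphisms Y.affineCover s hcomp, fun T q hq => ?_, fun t ht => ?_⟩
  · show q ≫ _ = x q hq
    refine Scheme.Cover.hom_ext (Y.affineCover.pullback₁ q) _ _ fun i => ?_
    have h₁ : S.pullback (Y.affineCover.f i ≫ g) (pullback.snd q (Y.affineCover.f i)) := by
      show S (pullback.snd q (Y.affineCover.f i) ≫ Y.affineCover.f i ≫ g)
      rw [← pullback.condition_assoc]
      exact S.downward_closed hq _
    have a₁ : pullback.snd q (Y.affineCover.f i) ≫ s i =
        x (pullback.snd q (Y.affineCover.f i) ≫ Y.affineCover.f i) (memY i _ _ h₁) := hs i _ h₁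
    show pullback.fst q _ ≫ q ≫ _ = pullback.fst q _ ≫ x q hq
    rw [pullback.condition_assoc, Scheme.Cover.ι_glueMorphisms, a₁]
    have := hx (𝟙 _) (pullback.fst q (Y.affineCover.f i)) (memY i _ _ h₁) hq
      (by simp [pullback.condition])
    simpa using this
  · refine Scheme.Cover.hom_ext Y.affineCover _ _ fun i => ?_
    rw [Scheme.Cover.ι_glueMorphisms]
    refine hsu i _ fun T q hq => ?_
    show q ≫ Y.affineCover.f i ≫ t = _
    rw [← Category.assoc]
    exact ht _ (memY i _ _ hq)

end Groth.Agent.S9860
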