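import Groth.Statements.S9864
import Groth.Prelude.Def_DescFam
-- import your own Groth.Agent.* helpers here

set_option autoImplicit false
open CategoryTheory CategoryTheory.Limits AlgebraicGeometry Opposite
universe u
open Desc

set_option backward.isDefEq.respectTransparency false
set_option backward.isDefEq.respectTransparency.types false
namespace Groth.Agent.S9864

/-- Let a : X ⟶ S be a morphism of schemes and f : X ⟶ X a morphism over S (f ≫ a = a). Then the
pullback functor along f on the category of descent data for schemes relative to X ⟶ S is isomorphic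
to the identity functor. (Existence of an isomorphism of functors only; descent data relative to a
single morphism are written as descent data relative to the corresponding one-member family.) -/
theorem result {X S : Scheme.{u}} (a : X ⟶ S) (f : X ⟶ X) (h : f ≫ a = a) :
    Nonempty (Desc.pullDDFam (f := fun _ : PUnit.{u + 1} => a) (f' := fun _ : PUnit.{u + 1} => a) (α := fun j => j)
        (p := 𝟙 S) (p' := fun _ => f) (fun _ => (h).trans (Category.comp_id a).symm) ≅
      𝟭 (Desc.SchDDFam (fun _ : PUnit.{u + 1} => a))) := by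
    let w := fun _ : PUnit.{u + 1} => h.trans (Category.comp_id a).symm
    let F := Desc.pullDDFam (f := fun _ : PUnit.{u + 1} => a) (f' := fun _ : PUnit.{u + 1} => a) (α := fun j => j)
      (p := 𝟙 S) (p' := fun _ => f) w
    show Nonempty (F ≅ 𝟭 _)
    have hh : ∀ {T : Scheme.{u}} (x : T ⟶ X), (x ≫ f) ≫ a = x ≫ a := fun x => by rw [Category.assoc, h]
    refine ⟨NatIso.ofComponents (fun D => ?_) (fun {D D'} c => ?_)⟩
    · let i : (F.obj D).obj ⟨⟩ ⟶ D.obj ⟨⟩ := Over.homMk (D.φ (i := PUnit.unit) (j := PUnit.unit) _ _ (hh (pullback.snd (D.obj ⟨⟩).hom f))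
        ⟨pullback.fst (D.obj ⟨⟩).hom f, pullback.condition⟩).1
        (D.φ (i := PUnit.unit) (j := PUnit.unit) _ _ (hh (pullback.snd (D.obj ⟨⟩).hom f)) ⟨pullback.fst (D.obj ⟨⟩).hom f, pullback.condition⟩).2
      let j : D.obj ⟨⟩ ⟶ (F.obj D).obj ⟨⟩ := Over.homMk
        (pullback.lift (D.φ (i := PUnit.unit) (j := PUnit.unit) _ _ (hh (D.obj ⟨⟩).hom).symm ⟨𝟙 _, Category.id_comp _⟩).1 (D.obj ⟨⟩).hom
          (D.φ (i := PUnit.unit) (j := PUnit.unit) _ _ (hh (D.obj ⟨⟩).hom).symm ⟨𝟙 _, Category.id_comp _⟩).2) (pullback.lift_snd _ _ _)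
      have ij : i ≫ j = 𝟙 _ := by
        apply Over.OverMorphism.ext
        apply pullback.hom_ext
        · show ((D.φ (i := PUnit.unit) (j := PUnit.unit) _ _ _ _).1 ≫ pullback.lift _ _ _) ≫ pullback.fst _ _ = 𝟙 _ ≫ _
          rw [Category.assoc, pullback.lift_fst, Category.id_comp]
          let z := D.φ (i := PUnit.unit) (j := PUnit.unit) _ _ (hh (pullback.snd (D.obj ⟨⟩).hom f)) ⟨pullback.fst (D.obj ⟨⟩).hom f, pullback.condition⟩
          have e := D.φ_natural (i := PUnit.unit) (j := PUnit.unit) z.1 _ _ (hh (D.obj ⟨⟩).hom).symm (pullback.snd (D.obj ⟨⟩).hom f)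
            (pullback.snd (D.obj ⟨⟩).hom f ≫ f) z.2 (by rw [← Category.assoc, z.2]) (hh _).symm
            ⟨𝟙 _, Category.id_comp _⟩ z (Category.comp_id _).symm
          rw [D.φ_comp, D.φ_self] at e
          exact e.symm
        · show ((D.φ (i := PUnit.unit) (j := PUnit.unit) _ _ _ _).1 ≫ pullback.lift _ _ _) ≫ pullback.snd _ _ = 𝟙 _ ≫ _
          rw [Category.assoc, pullback.lift_snd, Category.id_comp]
          exact (D.φ (i := PUnit.unit) (j := PUnit.unit) _ _ _ _).2
      have ji : j ≫ i = 𝟙 _ := by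
        apply Over.OverMorphism.ext
        show pullback.lift _ _ _ ≫ (D.φ (i := PUnit.unit) (j := PUnit.unit) _ _ _ _).1 = 𝟙 _
        have hs := pullback.lift_snd (f := (D.obj ⟨⟩).hom) (g := f)
          (D.φ (i := PUnit.unit) (j := PUnit.unit) _ _ (hh (D.obj ⟨⟩).hom).symm ⟨𝟙 _, Category.id_comp _⟩).1 (D.obj ⟨⟩).hom
          (D.φ (i := PUnit.unit) (j := PUnit.unit) _ _ (hh (D.obj ⟨⟩).hom).symm ⟨𝟙 _, Category.id_comp _⟩).2
        refine (D.φ_natural (i := PUnit.unit) (j := PUnit.unit) _ _ _ (hh (pullback.snd (D.obj ⟨⟩).hom f)) ((D.obj ⟨⟩).hom ≫ f) (D.obj ⟨⟩).hom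
          (by rw [← Category.assoc, hs]) hs (hh _) _ (D.φ (i := PUnit.unit) (j := PUnit.unit) _ _ (hh (D.obj ⟨⟩).hom).symm ⟨𝟙 _, Category.id_comp _⟩)
          (pullback.lift_fst _ _ _).symm).symm.trans ?_
        rw [D.φ_comp, D.φ_self]
      refine ⟨⟨fun _ => i, fun T k l x₀ x₁ e v v' hv => ?_⟩, ⟨fun _ => j, fun T k l x₀ x₁ e v v' hv => ?_⟩,
        Desc.SchDDFam.hom_ext (funext fun _ => ij), Desc.SchDDFam.hom_ext (funext fun _ => ji)⟩
      · cases k; cases l
        obtain ⟨v, hvv⟩ := v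
        subst hvv
        let W := (F.obj D).φ (i := PUnit.unit) (j := PUnit.unit) _ _ e ⟨v, rfl⟩
        have hW : W.1 ≫ pullback.snd (D.obj ⟨⟩).hom f = x₁ := W.2
        have e0 : (⟨W.1 ≫ pullback.fst (D.obj ⟨⟩).hom f, by rw [Category.assoc, pullback.condition, ← Category.assoc, hW]⟩ :
            Desc.Lifts (D.obj ⟨⟩) (x₁ ≫ f)) = D.φ (i := PUnit.unit) (j := PUnit.unit) _ _ ((hh _).trans (e.trans (hh _).symm))
              ⟨v ≫ pullback.fst (D.obj ⟨⟩).hom f, by
                exact (Category.assoc _ _ _).trans ((congrArg (v ≫ ·) pullback.condition).trans (Category.assoc _ _ _).symm)⟩ := Subtype.ext (pullback.lift_fst _ _ _)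
        have e1 : W.1 ≫ i.left = (D.φ (i := PUnit.unit) (j := PUnit.unit) _ _ (hh x₁) ⟨W.1 ≫ pullback.fst (D.obj ⟨⟩).hom f, by
            rw [Category.assoc, pullback.condition, ← Category.assoc, hW]⟩).1 :=
          (D.φ_natural (i := PUnit.unit) (j := PUnit.unit) W.1 _ _ _ _ _ (by rw [← Category.assoc, hW]) hW _ _ _ rfl).symm
        have e2 : v' = D.φ (i := PUnit.unit) (j := PUnit.unit) _ _ (hh _) ⟨v ≫ pullback.fst (D.obj ⟨⟩).hom f, by
                rw [Category.assoc, pullback.condition, ← Category.assoc]; rfl⟩ := by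
          apply Subtype.ext
          rw [hv]
          exact (D.φ_natural (i := PUnit.unit) (j := PUnit.unit) v _ _ _ _ _ (Category.assoc _ _ _).symm rfl _ _ _ rfl).symm
        show (D.φ (i := PUnit.unit) (j := PUnit.unit) _ _ e v').1 = W.1 ≫ i.left
        rw [e1, e0, e2, D.φ_comp, D.φ_comp]
      · cases k; cases l
        obtain ⟨v, hvv⟩ := v
        subst hvv
        let W := D.φ (i := PUnit.unit) (j := PUnit.unit) _ _ e ⟨v, rfl⟩
        apply pullback.hom_ext
        · show (pullback.lift _ _ _) ≫ pullback.fst _ _ = (W.1 ≫ pullback.lift _ _ _) ≫ pullback.fst _ _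
          refine (pullback.lift_fst _ _ _).trans (Eq.trans ?_ ((congrArg (W.1 ≫ ·) (pullback.lift_fst _ _ _).symm).trans (Category.assoc _ _ _).symm))
          have e1 : (D.φ (i := PUnit.unit) (j := PUnit.unit) _ _ (hh x₁).symm W).1 = W.1 ≫ (D.φ (i := PUnit.unit) (j := PUnit.unit) _ _ (hh (D.obj ⟨⟩).hom).symm ⟨𝟙 _, Category.id_comp _⟩).1 :=
            D.φ_natural (i := PUnit.unit) (j := PUnit.unit) W.1 _ _ _ _ _ W.2 (by rw [← Category.assoc, W.2]) _ _ _ (Category.comp_id _).symm
          have e2 : Desc.liftsPullbackEquiv (D.obj ⟨⟩) f (v ≫ (D.obj ⟨⟩).hom) v' =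
              D.φ (i := PUnit.unit) (j := PUnit.unit) _ _ (hh _).symm ⟨v, rfl⟩ := by
            apply Subtype.ext
            refine Eq.trans (show v'.1 ≫ pullback.fst _ _ = _ from ?_)
              (D.φ_natural (i := PUnit.unit) (j := PUnit.unit) v _ _ (hh (D.obj ⟨⟩).hom).symm _ _ rfl (Category.assoc _ _ _).symm _ ⟨𝟙 _, Category.id_comp _⟩ _
                (Category.comp_id _).symm).symm
            rw [hv]
            exact (Category.assoc _ _ _).trans (congrArg (v ≫ ·) (pullback.lift_fst _ _ _))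
          exact ((congrArg (fun z => (D.φ (i := PUnit.unit) (j := PUnit.unit) ((v ≫ (D.obj ⟨⟩).hom) ≫ f) (x₁ ≫ f) ((hh _).trans (e.trans (hh _).symm)) z).1) e2).trans
            (congrArg Subtype.val ((D.φ_comp _ _ _ _ _ _).trans (D.φ_comp (i := PUnit.unit) (j := PUnit.unit) (k := PUnit.unit) _ _ _ _ _ _).symm))).trans e1
        · show (pullback.lift _ _ _) ≫ pullback.snd _ _ = (W.1 ≫ pullback.lift _ _ _) ≫ pullback.snd _ _
          rw [pullback.lift_snd, Category.assoc, pullback.lift_snd]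
          exact W.2.symm
    · apply Desc.SchDDFam.hom_ext
      funext k
      apply Over.OverMorphism.ext
      let t := ((F.map c).hom k).left
      have hs : t ≫ pullback.snd (D'.obj ⟨⟩).hom f = pullback.snd (D.obj ⟨⟩).hom f :=
        (pullback.lift_snd _ _ _).trans (Category.comp_id _)
      refine (D'.φ_natural (i := PUnit.unit) (j := PUnit.unit) t _ _ (hh (pullback.snd (D'.obj ⟨⟩).hom f)) _ _ (by rw [← Category.assoc, hs]) hs (hh _)
        _ (c.push ⟨pullback.fst (D.obj ⟨⟩).hom f, pullback.condition⟩) (pullback.lift_fst _ _ _).symm).symm.trans ?_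
      exact c.comm _ _ _ _ _ rfl

end Groth.Agent.S9864
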