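import Groth.Statements.S9865
import Groth.Agent.DescFamFF.Pull
import Groth.Agent.S9864
-- import your own Groth.Agent.* helpers here

set_option autoImplicit false
open CategoryTheory CategoryTheory.Limits AlgebraicGeometry Opposite
universe u
open Desc

set_option backward.isDefEq.respectTransparency false
set_option backward.isDefEq.respectTransparency.types false
namespace Groth.Agent.S9865

/-- Let f : X' ⟶ X be a morphism of schemes over S, with structure morphisms a' : X' ⟶ S and a : X ⟶ S,
and assume there exists a morphism g : X ⟶ X' over S (for instance a section of f). Then the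
pullback functor along f, from descent data for schemes relative to X ⟶ S to descent data relative
to X' ⟶ S, is an equivalence of categories. (Descent data relative to a single morphism are written
as descent data relative to the corresponding one-member family.) -/
theorem result {X X' S : Scheme.{u}} (a : X ⟶ S) (a' : X' ⟶ S) (f : X' ⟶ X)
    (h : f ≫ a = a') (hg : ∃ g : X ⟶ X', g ≫ a' = a) :
    (Desc.pullDDFam (f := fun _ : PUnit.{u + 1} => a) (f' := fun _ : PUnit.{u + 1} => a') (α := fun j => j)
        (p := 𝟙 S) (p' := fun _ => f) (fun _ => (h).trans (Category.comp_id a').symm)).IsEquivalence := by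
    obtain ⟨g, hg⟩ := hg
    have hw : ∀ _ : PUnit.{u + 1}, f ≫ a = a' ≫ 𝟙 S := fun _ => h.trans (Category.comp_id a').symm
    have hu : ∀ (_ : PUnit.{u + 1}) {T : Scheme.{u}} (t : T ⟶ X),
        Sieve.ofArrows (fun _ : PUnit.{u + 1} => pullback (t ≫ a) a') (fun _ => pullback.fst (t ≫ a) a') ∈
          Scheme.fpqcTopology T := by
      intro _ T t
      refine Scheme.fpqcTopology.superset_covering ?_ (Scheme.fpqcTopology.top_mem T)
      intro W k _
      exact ⟨_, k ≫ pullback.lift (𝟙 T) (t ≫ g) (by rw [Category.id_comp, Category.assoc, hg]), _, ⟨PUnit.unit⟩,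
        by rw [Category.assoc, pullback.lift_fst, Category.comp_id]⟩
    haveI := Groth.Agent.DescFamFF.full (v := fun _ : PUnit.{u + 1} => a) (α := fun j => j) hw hu
    haveI := Groth.Agent.DescFamFF.faithful (v := fun _ : PUnit.{u + 1} => a) (α := fun j => j) hw hu
    let F := Desc.pullDDFam (f := fun _ : PUnit.{u + 1} => a) (f' := fun _ : PUnit.{u + 1} => a') (α := fun j => j)
      (p := 𝟙 S) (p' := fun _ => f) hw
    show F.IsEquivalence
    haveI : F.EssSurj := ⟨fun D' => by
      let G := Desc.pullDDFam (f := fun _ : PUnit.{u + 1} => a') (f' := fun _ : PUnit.{u + 1} => a) (α := fun j => j)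
        (p := 𝟙 S) (p' := fun _ => g) (fun _ => hg.trans (Category.comp_id a).symm)
      have hfg : (f ≫ g) ≫ a' = a' := by rw [Category.assoc, hg, h]
      obtain ⟨e⟩ := Groth.Agent.S9864.result a' (f ≫ g) hfg
      let I := fun _ : PUnit.{u + 1} => pullbackLeftPullbackSndIso (D'.obj PUnit.unit).hom g f
      have hcast : ∀ {T : Scheme.{u}} (c₀ c₁ d₀ d₁ : T ⟶ X') (_ : c₀ = d₀) (_ : c₁ = d₁)
          (hc : c₀ ≫ a' = c₁ ≫ a') (hd : d₀ ≫ a' = d₁ ≫ a')
          (z : Desc.Lifts (D'.obj PUnit.unit) c₀) (z' : Desc.Lifts (D'.obj PUnit.unit) d₀), z.1 = z'.1 →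
          (D'.φ (i := PUnit.unit) (j := PUnit.unit) c₀ c₁ hc z).1 =
            (D'.φ (i := PUnit.unit) (j := PUnit.unit) d₀ d₁ hd z').1 := by
        rintro T c₀ c₁ _ _ rfl rfl hc hd z z' hz
        obtain rfl : z = z' := Subtype.ext hz
        rfl
      let A := F.obj (G.obj D')
      let B := (Desc.pullDDFam (f := fun _ : PUnit.{u + 1} => a') (f' := fun _ : PUnit.{u + 1} => a') (α := fun j => j)
        (p := 𝟙 S) (p' := fun _ => f ≫ g) (fun _ => hfg.trans (Category.comp_id a').symm)).obj D'
      let ab : A ⟶ B := ⟨fun k => Over.homMk (I k).hom (pullbackLeftPullbackSndIso_hom_snd _ _ _), by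
        intro T i j x₀ x₁ hx z z' hz
        cases i; cases j
        apply pullback.hom_ext
        · refine (pullback.lift_fst _ _ _).trans ?_
          simp only [Category.assoc]
          show _ = (A.φ (i := PUnit.unit) (j := PUnit.unit) x₀ x₁ hx z).1 ≫ (I PUnit.unit).hom ≫ _
          refine Eq.trans ?_ (congrArg (_ ≫ ·) (pullbackLeftPullbackSndIso_hom_fst _ _ _)).symm
          refine Eq.trans ?_ ((Category.assoc _ _ _).symm.trans ((congrArg (· ≫ _) (pullback.lift_fst _ _ _)).trans (pullback.lift_fst _ _ _))).symm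
          refine hcast _ _ _ _ (Category.assoc _ _ _).symm (Category.assoc _ _ _).symm _ _ _ _ ?_
          show z'.1 ≫ pullback.fst _ _ = (z.1 ≫ pullback.fst (pullback.snd (D'.obj PUnit.unit).hom g) f) ≫
            pullback.fst (D'.obj PUnit.unit).hom g
          rw [hz, Category.assoc]
          refine (congrArg (z.1 ≫ ·) (pullbackLeftPullbackSndIso_hom_fst _ _ _)).trans ?_
          exact (Category.assoc _ _ _).symm
        · refine (pullback.lift_snd _ _ _).trans ?_
          rw [Category.assoc]
          refine Eq.trans ?_ (congrArg (_ ≫ ·) (pullbackLeftPullbackSndIso_hom_snd _ _ _)).symm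
          exact (A.φ x₀ x₁ hx z).2.symm⟩
      let ba : B ⟶ A := ⟨fun k => Over.homMk (I k).inv (by
          rw [Iso.inv_comp_eq]; exact (pullbackLeftPullbackSndIso_hom_snd _ _ _).symm), by
        intro T i j x₀ x₁ hx z z' hz
        cases i; cases j
        have hz' : z.1 = z'.1 ≫ (I PUnit.unit).hom := by
          rw [hz, Category.assoc]
          exact (Category.comp_id _).symm.trans (congrArg (z.1 ≫ ·) (I PUnit.unit).inv_hom_id.symm)
        have := ab.comm (i := PUnit.unit) (j := PUnit.unit) x₀ x₁ hx z' z hz'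
        exact (((congrArg (· ≫ (I PUnit.unit).inv) this).trans (Category.assoc _ _ _)).trans
          ((congrArg (_ ≫ ·) (I PUnit.unit).hom_inv_id).trans (Category.comp_id _))).symm⟩
      have e1 : A ≅ B := ⟨ab, ba, Desc.SchDDFam.hom_ext (funext fun k => Over.OverMorphism.ext (I k).hom_inv_id),
        Desc.SchDDFam.hom_ext (funext fun k => Over.OverMorphism.ext (I k).inv_hom_id)⟩
      exact ⟨G.obj D', ⟨e1 ≪≫ e.app D'⟩⟩⟩
    exact { }

end Groth.Agent.S9865
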