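import Groth.Statements.S9867
import Groth.Agent.FpqcDescent.Affine
import Groth.Agent.FibrewiseCrit.QcDescent
-- import your own Groth.Agent.* helpers here

set_option autoImplicit false
open CategoryTheory CategoryTheory.Limits AlgebraicGeometry Opposite
universe u
open Desc

namespace Groth.Agent.S9867

/-- Being finite locally free (finite, flat and locally of finite presentation), and being finite
locally free of a given degree d, are fpqc local on the base; the descent directions, stated as
descent along surjective flat quasi-compact morphisms: if the base change of f along such a morphism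
is finite locally free then so is f, and if moreover that base change has constant rank d (Mathlib's
rank function of a finite flat morphism) then f has constant rank d. (With Zariski-locality on the
target these give the statements for arbitrary fpqc coverings; stability under base change is the
other direction.) -/
theorem result :
    MorphismProperty.DescendsAlong (fun _ _ f => Mor2.IsFinLocFree f : MorphismProperty Scheme.{u})
      (@Surjective ⊓ @Flat ⊓ @QuasiCompact : MorphismProperty Scheme.{u}) ∧
    ∀ d : ℕ, MorphismProperty.DescendsAlong (fun _ _ f => Mor2.IsFinLocFreeOfDeg d f : MorphismProperty Scheme.{u})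
      (@Surjective ⊓ @Flat ⊓ @QuasiCompact : MorphismProperty Scheme.{u}) := by
    have key : ∀ {X Y Z : Scheme.{u}} (f : X ⟶ Z) (g : Y ⟶ Z), (@Surjective ⊓ @Flat ⊓ @QuasiCompact : MorphismProperty Scheme.{u}) f →
        Mor2.IsFinLocFree (pullback.fst f g) → Mor2.IsFinLocFree g := by
      intro X Y Z f g hf hfst
      obtain ⟨h1, h2, h3⟩ := hfst
      haveI : Surjective f := hf.1.1
      haveI : Flat f := hf.1.2
      haveI := Groth.Agent.FpqcDescent.isFinite_descendsAlong.{u}
      refine ⟨MorphismProperty.of_pullback_fst_of_descendsAlong (P := @IsFinite) hf h1, ?_,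
        MorphismProperty.of_pullback_fst_of_descendsAlong (P := @LocallyOfFinitePresentation) hf h3⟩
      haveI : Flat (pullback.snd g f) := by
        rw [← pullbackSymmetry_hom_comp_fst]
        infer_instance
      exact Groth.Agent.FibrewiseCrit.flat_of_pullback_snd g f
    let PP : MorphismProperty Scheme.{u} := fun _ _ f => Mor2.IsFinLocFree f
    haveI hiso : MorphismProperty.RespectsIso PP := by
      refine MorphismProperty.RespectsIso.mk _ (fun e f hf => ?_) (fun e f hf => ?_)
      all_goals
        obtain ⟨h1, h2, h3⟩ := hf
        exact ⟨inferInstance, inferInstance, inferInstance⟩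
    refine ⟨MorphismProperty.DescendsAlong.mk' (P := PP) fun {X Y Z} f g _ hf hfst => key f g hf hfst, fun d => ?_⟩
    let PD : MorphismProperty Scheme.{u} := fun _ _ f => Mor2.IsFinLocFreeOfDeg d f
    haveI : MorphismProperty.RespectsIso PD := by
      refine MorphismProperty.RespectsIso.mk _ (fun e f hf => ?_) (fun e f hf => ?_)
      all_goals
        obtain ⟨⟨h1, h2, h3⟩, hd⟩ := hf
        refine ⟨⟨inferInstance, inferInstance, inferInstance⟩, fun y => ?_⟩
      · rw [Scheme.Hom.finrank_comp_left_of_isIso]
        exact hd y
      · rw [Scheme.Hom.finrank_of_isPullback (𝟙 _) (f ≫ e.hom) f (inv e.hom) (IsPullback.of_horiz_isIso ⟨by simp⟩)]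
        exact hd _
    show MorphismProperty.DescendsAlong PD _
    refine MorphismProperty.DescendsAlong.mk' fun {X Y Z} f g _ hf hfst => ⟨key f g hf hfst.1, fun z => ?_⟩
    obtain ⟨x, rfl⟩ := hf.1.1.surj z
    haveI := (key f g hf hfst.1).1
    haveI := (key f g hf hfst.1).2.1
    rw [← Scheme.Hom.finrank_pullback_fst g f x]
    exact hfst.2 x

end Groth.Agent.S9867
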