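import Groth.Statements.S9871
import Mathlib
-- import your own Groth.Agent.* helpers here

set_option autoImplicit false
universe u
open CategoryTheory CategoryTheory.Limits AlgebraicGeometry
open AlgSp

namespace Groth.Agent.S9871

/-- Let `s, t : R ⟶ U` be an etale equivalence relation on a scheme `U` over `S` and let `g : U' ⟶ U` be
an etale morphism over `S`. Let `s', t' : R' ⟶ U'` be the restriction to `U'`: `R'`, with `(t', s')`
and `R' ⟶ R`, is the fibre product of `U' ×_S U'` and `R` over `U ×_S U`. Then `s', t'` is again an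
etale equivalence relation. -/
theorem result (S : Scheme.{u}) {R U R' U' : Over S} (s t : R ⟶ U)
    (g : U' ⟶ U) (s' t' : R' ⟶ U') (r : R' ⟶ R)
    (hsq : IsPullback (prod.lift t' s') r (prod.map g g) (prod.lift t s))
    (h : AlgSp.IsEtaleEqvRel s t) [Etale g.left] :
    AlgSp.IsEtaleEqvRel s' t' := by
  have hw : prod.lift t' s' ≫ prod.map g g = r ≫ prod.lift t s := hsq.w
  have hwt : t' ≫ g = r ≫ t := by simpa [Limits.prod.lift_fst, Limits.prod.lift_snd] using congrArg (· ≫ prod.fst) hw
  have hws : s' ≫ g = r ≫ s := by simpa [Limits.prod.lift_fst, Limits.prod.lift_snd] using congrArg (· ≫ prod.snd) hw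
  have hrel : ∀ {T : Over S} (a b : T ⟶ U'),
      (∃ q : T ⟶ R', q ≫ t' = a ∧ q ≫ s' = b) ↔ ∃ q : T ⟶ R, q ≫ t = a ≫ g ∧ q ≫ s = b ≫ g := by
    intro T a b
    constructor
    · rintro ⟨q, rfl, rfl⟩
      exact ⟨q ≫ r, by simp [hwt], by simp [hws]⟩
    · rintro ⟨q, h1, h2⟩
      have hc : prod.lift a b ≫ prod.map g g = q ≫ prod.lift t s := by
        apply Limits.prod.hom_ext <;> simp [h1, h2, Limits.prod.lift_fst, Limits.prod.lift_snd]
      refine ⟨hsq.lift (prod.lift a b) q hc, ?_, ?_⟩
      · simpa [Limits.prod.lift_fst, Limits.prod.lift_snd] using congrArg (· ≫ prod.fst) (hsq.lift_fst (prod.lift a b) q hc)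
      · simpa [Limits.prod.lift_fst, Limits.prod.lift_snd] using congrArg (· ≫ prod.snd) (hsq.lift_fst (prod.lift a b) q hc)
  have hmap : Etale (prod.map g g).left := by
    have e : (prod.map g g).left = (Over.prodLeftIsoPullback U' U').hom ≫
        pullback.map U'.hom U'.hom U.hom U.hom g.left g.left (𝟙 S) (by simp) (by simp) ≫
        (Over.prodLeftIsoPullback U U).inv := by
      rw [← Category.assoc, Iso.eq_comp_inv]
      apply pullback.hom_ext
      · rw [Category.assoc, Category.assoc, Over.prodLeftIsoPullback_hom_fst, ← Over.comp_left, prod.map_fst, Over.comp_left, pullback.lift_fst, ← Category.assoc, Over.prodLeftIsoPullback_hom_fst]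
      · rw [Category.assoc, Category.assoc, Over.prodLeftIsoPullback_hom_snd, ← Over.comp_left, prod.map_snd, Over.comp_left, pullback.lift_snd, ← Category.assoc, Over.prodLeftIsoPullback_hom_snd]
    rw [e]
    have : Etale (pullback.map U'.hom U'.hom U.hom U.hom g.left g.left (𝟙 S) (by simp) (by simp)) :=
      MorphismProperty.pullbackMap (P := @Etale) (i₁ := g.left) (i₂ := g.left) ‹Etale g.left› ‹Etale g.left› (Over.w g).symm (Over.w g).symm
    infer_instance
  have hr : Etale r.left := MorphismProperty.of_isPullback (hsq.map (Over.forget S)) hmap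
  refine ⟨⟨fun T q q' h1 h2 => hsq.hom_ext (Limits.prod.hom_ext (by simpa [Limits.prod.lift_fst, Limits.prod.lift_snd] using h1) (by simpa [Limits.prod.lift_fst, Limits.prod.lift_snd] using h2)) ?_,
    fun T => ?_⟩, ?_, ?_⟩
  · exact h.injective T _ _ (by simp [← hwt, reassoc_of% h1]) (by simp [← hws, reassoc_of% h2])
  · have hT := h.equivalence T
    exact ⟨fun a => (hrel a a).mpr (hT.refl _), fun hab => (hrel _ _).mpr (hT.symm ((hrel _ _).mp hab)),
      fun hab hbc => (hrel _ _).mpr (hT.trans ((hrel _ _).mp hab) ((hrel _ _).mp hbc))⟩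
  · have := h.etale_left
    have : Etale (s'.left ≫ g.left) := by rw [← Over.comp_left, hws, Over.comp_left]; infer_instance
    exact Etale.of_comp s'.left g.left
  · have := h.etale_right
    have : Etale (t'.left ≫ g.left) := by rw [← Over.comp_left, hwt, Over.comp_left]; infer_instance
    exact Etale.of_comp t'.left g.left

end Groth.Agent.S9871
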