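import Groth.Statements.S9889
import Mathlib
-- import your own Groth.Agent.* helpers here

set_option autoImplicit false
universe u
open CategoryTheory CategoryTheory.Limits AlgebraicGeometry
open AlgSp

namespace Groth.Agent.S9889

section Aux
theorem field_mono_cancel {X : Scheme.{u}} {K : Type u} [Field K] (b : Spec (CommRingCat.of K) ⟶ X)
    (a : X ⟶ X) (h : b ≫ a = b) :
    X.fromSpecResidueField (b (IsLocalRing.closedPoint K)) ≫ a =
      X.fromSpecResidueField (b (IsLocalRing.closedPoint K)) := by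
  set y := b (IsLocalRing.closedPoint K) with hy
  let ψ : X.residueField y ⟶ CommRingCat.of K := Scheme.descResidueField (Scheme.stalkClosedPointTo b)
  have hb : Spec.map ψ ≫ X.fromSpecResidueField y = b :=
    Scheme.descResidueField_stalkClosedPointTo_fromSpecResidueField K X b
  let u : Spec (X.residueField y) ⟶ X := X.fromSpecResidueField y ≫ a
  have hu : Spec.map ψ ≫ u = b := by rw [← Category.assoc, hb, h]
  obtain ⟨⟨y', η⟩, hη⟩ := (Scheme.SpecToEquivOfField (X.residueField y) X).symm.surjective u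
  change Spec.map η ≫ X.fromSpecResidueField y' = u at hη
  obtain rfl : y' = y := by
    have h1 := congrArg (fun m => m (IsLocalRing.closedPoint K)) hu
    simp only [Scheme.Hom.comp_apply, ← hη, Scheme.fromSpecResidueField_apply] at h1
    exact h1.trans hy.symm
  have h2 : Spec.map ψ ≫ Spec.map η = Spec.map ψ := by
    rw [← cancel_mono (X.fromSpecResidueField y), Category.assoc, hη, hu, hb]
  rw [← Spec.map_comp] at h2
  have h3 := Spec.map_injective h2
  have : η = 𝟙 _ := by
    ext z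
    exact ψ.hom.injective (congrArg (fun m => m.hom z) h3)
  change u = _
  rw [← hη, this, Spec.map_id]
  exact Category.id_comp _

variable {S : Scheme.{u}} {U : Over S} {G : Type u} [Group G] (ρ : G →* Aut U)
  {c : Cofan (fun _ : G => U)} (hc : IsColimit c) {s t : c.pt ⟶ U}
  (hs : ∀ g, c.inj g ≫ s = 𝟙 U) (ht : ∀ g, c.inj g ≫ t = (ρ g).hom)

include hc in
theorem exists_cofan_iso : ∃ e : (∐ fun _ : G => U.left) ≅ c.pt.left,
    ∀ g, Sigma.ι _ g ≫ e.hom = (c.inj g).left := by
  have h : IsColimit (Cofan.mk c.pt.left fun g => (c.inj g).left) :=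
    isColimitCofanMkObjOfIsColimit (Over.forget S) _ c.inj
      (hc.ofIsoColimit (Cofan.ext (Iso.refl _)))
  refine ⟨(coproductIsCoproduct _).coconePointUniqueUpToIso h, fun g => ?_⟩
  exact IsColimit.comp_coconePointUniqueUpToIso_hom (coproductIsCoproduct _) h ⟨g⟩

include hc in
theorem cofan_geometry : (∀ g, IsOpenImmersion (c.inj g).left) ∧
    (∀ z, ∃ g x, (c.inj g).left x = z) ∧
    (∀ g g' x x', (c.inj g).left x = (c.inj g').left x' → g = g') := by
  obtain ⟨e, he⟩ := exists_cofan_iso hc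
  refine ⟨fun g => he g ▸ inferInstance, fun z => ?_, fun g g' x x' h => ?_⟩
  · obtain ⟨g, x, hx⟩ := (sigmaOpenCover fun _ : G => U.left).exists_eq (e.inv z)
    refine ⟨g, x, ?_⟩
    have hx' : Sigma.ι (fun _ : G => U.left) g x = e.inv z := hx
    rw [← he, Scheme.Hom.comp_apply, hx', ← Scheme.Hom.comp_apply, e.inv_hom_id]
    rfl
  · by_contra hne
    have hd := disjoint_opensRange_sigmaι (fun _ : G => U.left) g g' hne
    rw [← he, ← he, Scheme.Hom.comp_apply, Scheme.Hom.comp_apply] at h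
    have h' := e.hom.homeomorph.injective h
    exact (Set.disjoint_left.1 (TopologicalSpace.Opens.coe_disjoint.2 hd)) ⟨x, rfl⟩ ⟨x', h'.symm⟩

theorem mul_hom (g h : G) : (ρ (g * h)).hom = (ρ h).hom ≫ (ρ g).hom := by
  rw [map_mul]; rfl

include hc hs ht in
theorem eqv_injective (hfree : ∀ (g : G) (x : U.left), g ≠ 1 →
      U.left.fromSpecResidueField x ≫ (ρ g).hom.left ≠ U.left.fromSpecResidueField x)
    {T : Scheme.{u}} (r r' : T ⟶ c.pt.left) (h1 : r ≫ s.left = r' ≫ s.left)
    (h2 : r ≫ t.left = r' ≫ t.left) : r = r' := by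
  obtain ⟨hoi, hcov, hdisj⟩ := cofan_geometry hc
  have hs' : ∀ g, (c.inj g).left ≫ s.left = 𝟙 _ := fun g => by rw [← Over.comp_left, hs]; rfl
  have ht' : ∀ g, (c.inj g).left ≫ t.left = (ρ g).hom.left := fun g => by rw [← Over.comp_left, ht]
  have key : ∀ (x : T) g, r x ∈ (c.inj g).left.opensRange → r' x ∈ (c.inj g).left.opensRange := by
    intro x g hg
    obtain ⟨g', y', hy'⟩ := hcov (r' x)
    suffices g = g' by subst this; exact ⟨y', hy'⟩
    by_contra hne
    let p := T.fromSpecResidueField x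
    have hr : Set.range (p ≫ r) ⊆ Set.range (c.inj g).left := by
      rintro _ ⟨w, rfl⟩; rw [Scheme.Hom.comp_apply, Scheme.fromSpecResidueField_apply]; exact hg
    have hr' : Set.range (p ≫ r') ⊆ Set.range (c.inj g').left := by
      rintro _ ⟨w, rfl⟩; rw [Scheme.Hom.comp_apply, Scheme.fromSpecResidueField_apply]; exact ⟨y', hy'⟩
    let b := IsOpenImmersion.lift (c.inj g).left (p ≫ r) hr
    let b' := IsOpenImmersion.lift (c.inj g').left (p ≫ r') hr'
    have hb : b = p ≫ r ≫ s.left := by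
      rw [← Category.assoc, ← IsOpenImmersion.lift_fac (c.inj g).left (p ≫ r) hr, Category.assoc, hs',
        Category.comp_id]
    have hb' : b' = p ≫ r' ≫ s.left := by
      rw [← Category.assoc, ← IsOpenImmersion.lift_fac (c.inj g').left (p ≫ r') hr', Category.assoc, hs',
        Category.comp_id]
    have hbb : b' = b := by rw [hb, hb', h1]
    have hρ : b ≫ (ρ g).hom.left = b ≫ (ρ g').hom.left := by
      have e1 : b ≫ (ρ g).hom.left = p ≫ r ≫ t.left := by
        rw [← ht', ← Category.assoc, IsOpenImmersion.lift_fac, Category.assoc]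
      have e2 : b' ≫ (ρ g').hom.left = p ≫ r' ≫ t.left := by
        rw [← ht', ← Category.assoc, IsOpenImmersion.lift_fac, Category.assoc]
      rw [e1, ← hbb, e2, h2]
    have hfix : b ≫ (ρ (g'⁻¹ * g)).hom.left = b := by
      rw [mul_hom, Over.comp_left, ← Category.assoc, hρ, Category.assoc, ← Over.comp_left, ← mul_hom,
        inv_mul_cancel, map_one]
      exact Category.comp_id b
    exact hfree (g'⁻¹ * g) _ (fun e => hne (inv_mul_eq_one.1 e).symm)
      (field_mono_cancel (K := T.residueField x) b _ hfix)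
  let 𝒰 : T.OpenCover := T.openCoverOfIsOpenCover (fun g : G => r ⁻¹ᵁ (c.inj g).left.opensRange)
    (.mk (eq_top_iff.2 fun x _ => by
      obtain ⟨g, y, hy⟩ := hcov (r x)
      exact TopologicalSpace.Opens.mem_iSup.2 ⟨g, y, hy⟩))
  refine 𝒰.hom_ext r r' fun g => ?_
  have hr : Set.range ((r ⁻¹ᵁ (c.inj g).left.opensRange).ι ≫ r) ⊆ Set.range (c.inj g).left := by
    rintro _ ⟨w, rfl⟩; exact w.2
  have hr' : Set.range ((r ⁻¹ᵁ (c.inj g).left.opensRange).ι ≫ r') ⊆ Set.range (c.inj g).left := by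
    rintro _ ⟨w, rfl⟩; exact key _ g w.2
  change (r ⁻¹ᵁ (c.inj g).left.opensRange).ι ≫ r = (r ⁻¹ᵁ (c.inj g).left.opensRange).ι ≫ r'
  rw [← IsOpenImmersion.lift_fac (c.inj g).left _ hr, ← IsOpenImmersion.lift_fac (c.inj g).left _ hr']
  congr 1
  have e1 := congrArg (· ≫ s.left) (IsOpenImmersion.lift_fac (c.inj g).left _ hr)
  have e2 := congrArg (· ≫ s.left) (IsOpenImmersion.lift_fac (c.inj g).left _ hr')
  simp only [Category.assoc, hs', Category.comp_id] at e1 e2
  rw [e1, e2, h1]

include hc hs ht in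
theorem eqv_trans (hfree : ∀ (g : G) (x : U.left), g ≠ 1 →
      U.left.fromSpecResidueField x ≫ (ρ g).hom.left ≠ U.left.fromSpecResidueField x)
    {T : Over S} (r r' : T ⟶ c.pt) (h : r ≫ s = r' ≫ t) :
    ∃ q : T ⟶ c.pt, q ≫ t = r ≫ t ∧ q ≫ s = r' ≫ s := by
  obtain ⟨hoi, hcov, hdisj⟩ := cofan_geometry hc
  have hs' : ∀ g, (c.inj g).left ≫ s.left = 𝟙 _ := fun g => by rw [← Over.comp_left, hs]; rfl
  have ht' : ∀ g, (c.inj g).left ≫ t.left = (ρ g).hom.left := fun g => by rw [← Over.comp_left, ht]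
  let V : G × G → T.left.Opens := fun gh =>
    r.left ⁻¹ᵁ (c.inj gh.1).left.opensRange ⊓ r'.left ⁻¹ᵁ (c.inj gh.2).left.opensRange
  let 𝒰 : T.left.OpenCover := T.left.openCoverOfIsOpenCover V (.mk (eq_top_iff.2 fun x _ => by
      obtain ⟨g, y, hy⟩ := hcov (r.left x)
      obtain ⟨g', y', hy'⟩ := hcov (r'.left x)
      exact TopologicalSpace.Opens.mem_iSup.2 ⟨(g, g'), ⟨y, hy⟩, y', hy'⟩))
  let F : ∀ i : 𝒰.I₀, 𝒰.X i ⟶ c.pt.left := fun gh =>
    ((V gh).ι ≫ r'.left ≫ s.left) ≫ (c.inj (gh.1 * gh.2)).left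
  have hFs : ∀ i, F i ≫ s.left = 𝒰.f i ≫ r'.left ≫ s.left := fun i => by
    change (((V i).ι ≫ r'.left ≫ s.left) ≫ _) ≫ _ = (V i).ι ≫ _
    rw [Category.assoc, hs', Category.comp_id]
  have hFt : ∀ i, F i ≫ t.left = 𝒰.f i ≫ r.left ≫ t.left := fun i => by
    have hr : Set.range ((V i).ι ≫ r.left) ⊆ Set.range (c.inj i.1).left := by
      rintro _ ⟨w, rfl⟩; exact w.2.1
    have hr' : Set.range ((V i).ι ≫ r'.left) ⊆ Set.range (c.inj i.2).left := by
      rintro _ ⟨w, rfl⟩; exact w.2.2
    let a := IsOpenImmersion.lift (c.inj i.1).left _ hr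
    let a' := IsOpenImmersion.lift (c.inj i.2).left _ hr'
    have e1 : a ≫ (c.inj i.1).left = (V i).ι ≫ r.left := IsOpenImmersion.lift_fac _ _ hr
    have e2 : a' ≫ (c.inj i.2).left = (V i).ι ≫ r'.left := IsOpenImmersion.lift_fac _ _ hr'
    have ha : a = (V i).ι ≫ r.left ≫ s.left := by
      rw [← reassoc_of% e1, hs', Category.comp_id]
    have ha' : (V i).ι ≫ r'.left ≫ s.left = a' := by
      rw [← reassoc_of% e2, hs', Category.comp_id]
    have e3 : a' ≫ (ρ i.2).hom.left = a := by
      rw [← ht', reassoc_of% e2, ← Over.comp_left, ← h, Over.comp_left, ha]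
    change (((V i).ι ≫ r'.left ≫ s.left) ≫ _) ≫ _ = (V i).ι ≫ _
    rw [ha', Category.assoc, ht', mul_hom, Over.comp_left, reassoc_of% e3, ← ht', reassoc_of% e1]
  have hcompat : ∀ i j, pullback.fst (𝒰.f i) (𝒰.f j) ≫ F i = pullback.snd (𝒰.f i) (𝒰.f j) ≫ F j :=
    fun i j => eqv_injective ρ hc hs ht hfree _ _
      ((Category.assoc _ _ _).trans ((congrArg (pullback.fst _ _ ≫ ·) (hFs i)).trans
        ((pullback.condition_assoc _).trans ((congrArg (pullback.snd _ _ ≫ ·) (hFs j)).symm.trans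
          (Category.assoc _ _ _).symm))))
      ((Category.assoc _ _ _).trans ((congrArg (pullback.fst _ _ ≫ ·) (hFt i)).trans
        ((pullback.condition_assoc _).trans ((congrArg (pullback.snd _ _ ≫ ·) (hFt j)).symm.trans
          (Category.assoc _ _ _).symm))))
  let q := 𝒰.glueMorphisms F hcompat
  have hq1 : q ≫ t.left = r.left ≫ t.left := 𝒰.hom_ext _ _ fun i => by
    rw [← Category.assoc, 𝒰.ι_glueMorphisms, hFt]
  have hq2 : q ≫ s.left = r'.left ≫ s.left := 𝒰.hom_ext _ _ fun i => by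
    rw [← Category.assoc, 𝒰.ι_glueMorphisms, hFs]
  refine ⟨Over.homMk q ?_, Over.OverMorphism.ext hq1, Over.OverMorphism.ext hq2⟩
  rw [← Over.w s, ← Category.assoc, hq2, Category.assoc, Over.w s]
  exact Over.w r'

end Aux

/-- Let `U` be a scheme over `S` and `G` a group acting on `U` by automorphisms over `S`, freely: no
non-identity element of `G` fixes a point `x` of `U` while inducing the identity on its residue
field (equivalently, composing `Spec κ(x) ⟶ U` with the automorphism changes it). Let `R = ∐_{g ∈ G}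
U` (coproduct in schemes over `S`) with `s` the identity and `t` the action of `g` on the `g`-th
copy. Then `s, t : R ⟶ U` is an etale equivalence relation on `U` over `S` (so that `U/R` is an
algebraic space). -/
theorem result (S : Scheme.{u}) (U : Over S) (G : Type u) [Group G] (ρ : G →* Aut U)
    (hfree : ∀ (g : G) (x : U.left), g ≠ 1 →
      U.left.fromSpecResidueField x ≫ (ρ g).hom.left ≠ U.left.fromSpecResidueField x)
    (c : Cofan (fun _ : G => U)) (hc : IsColimit c) (s t : c.pt ⟶ U)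
    (hs : ∀ g, c.inj g ≫ s = 𝟙 U) (ht : ∀ g, c.inj g ≫ t = (ρ g).hom) :
    AlgSp.IsEtaleEqvRel s t := by
  obtain ⟨hoi, hcov, hdisj⟩ := cofan_geometry hc
  have hs' : ∀ g, (c.inj g).left ≫ s.left = 𝟙 _ := fun g => by rw [← Over.comp_left, hs]; rfl
  have ht' : ∀ g, (c.inj g).left ≫ t.left = (ρ g).hom.left := fun g => by rw [← Over.comp_left, ht]
  let 𝒰 : c.pt.left.OpenCover := c.pt.left.openCoverOfIsOpenCover (fun g => (c.inj g).left.opensRange)
    (.mk (eq_top_iff.2 fun z _ => by
      obtain ⟨g, x, hx⟩ := hcov z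
      exact TopologicalSpace.Opens.mem_iSup.2 ⟨g, x, hx⟩))
  have het : ∀ (f : c.pt ⟶ U), (∀ g, IsIso ((c.inj g).left ≫ f.left)) → Etale f.left := fun f hf => by
    refine (IsZariskiLocalAtSource.iff_of_openCover (P := @Etale) 𝒰).2 fun g => ?_
    have hg := hoi g
    have hl : (c.inj g).left.isoOpensRange.inv ≫ (c.inj g).left = (c.inj g).left.opensRange.ι :=
      (c.inj g).left.isoOpensRange_inv_comp
    change Etale ((c.inj g).left.opensRange.ι ≫ f.left)
    rw [← hl, Category.assoc]
    haveI := hf g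
    infer_instance
  refine { injective := fun T r r' h1 h2 => Over.OverMorphism.ext ?_, equivalence := fun T => ?_,
           etale_left := ?_, etale_right := ?_ }
  · exact eqv_injective ρ hc hs ht hfree r.left r'.left (congrArg CommaMorphism.left h2)
      (congrArg CommaMorphism.left h1)
  · refine ⟨fun a => ⟨a ≫ c.inj 1, ?_, ?_⟩, ?_, ?_⟩
    · rw [Category.assoc, ht, map_one]; exact Category.comp_id a
    · rw [Category.assoc, hs, Category.comp_id]
    · rintro a b ⟨r, rfl, rfl⟩
      let σ : c.pt ⟶ c.pt := Cofan.IsColimit.desc hc fun g => (ρ g).hom ≫ c.inj g⁻¹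
      have hσ : ∀ g, c.inj g ≫ σ = (ρ g).hom ≫ c.inj g⁻¹ := fun g => Cofan.IsColimit.fac hc _ g
      have e1 : σ ≫ t = s := Cofan.IsColimit.hom_ext hc _ _ fun g => by
        rw [← Category.assoc, hσ, Category.assoc, ht, ← mul_hom, inv_mul_cancel, map_one, hs]; rfl
      have e2 : σ ≫ s = t := Cofan.IsColimit.hom_ext hc _ _ fun g => by
        rw [← Category.assoc, hσ, Category.assoc, hs, Category.comp_id, ht]
      exact ⟨r ≫ σ, by rw [Category.assoc, e1], by rw [Category.assoc, e2]⟩
    · rintro a b c' ⟨r, rfl, rfl⟩ ⟨r', hr'1, rfl⟩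
      exact eqv_trans ρ hc hs ht hfree r r' hr'1.symm
  · exact het s fun g => by rw [hs']; infer_instance
  · exact het t fun g => by
      rw [ht']
      exact inferInstanceAs (IsIso ((Over.forget S).map (ρ g).hom))

end Groth.Agent.S9889
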