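import Groth.Statements.S9891
import Mathlib
-- import your own Groth.Agent.* helpers here

set_option autoImplicit false
universe u
open CategoryTheory CategoryTheory.Limits AlgebraicGeometry
open AlgSp

namespace Groth.Agent.S9891

/-- Let `a : F ⟶ G` be a map of presheaves of sets on schemes over `S` which is representable by
schemes. Then the relative diagonal `F ⟶ F ×_G F` is representable by schemes. -/
theorem result (S : Scheme.{u}) (F G : AlgSp.PSp S) (a : F ⟶ G)
    (ha : (AlgSp.pyon S).relativelyRepresentable a) :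
    (AlgSp.pyon S).relativelyRepresentable (pullback.diagonal a) := by
  intro T g
  let x : (AlgSp.pyon S).obj T ⟶ F := g ≫ pullback.fst a a
  let y : (AlgSp.pyon S).obj T ⟶ F := g ≫ pullback.snd a a
  have hxy : x ≫ a = y ≫ a := by simp [x, y, pullback.condition]
  let t1 : T ⟶ ha.pullback (x ≫ a) := ha.lift x (𝟙 T) ((congrArg (· ≫ _) ((AlgSp.pyon S).map_id T)).trans (Category.id_comp _)).symm
  let t2 : T ⟶ ha.pullback (x ≫ a) := ha.lift y (𝟙 T) (hxy.symm.trans ((congrArg (· ≫ _) ((AlgSp.pyon S).map_id T)).trans (Category.id_comp _)).symm)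
  have ht1 : (AlgSp.pyon S).map t1 ≫ ha.fst (x ≫ a) = x := ha.lift_fst _ _ _
  have ht2 : (AlgSp.pyon S).map t2 ≫ ha.fst (x ≫ a) = y := ha.lift_fst _ _ _
  refine ⟨equalizer t1 t2, equalizer.ι t1 t2, (AlgSp.pyon S).map (equalizer.ι t1 t2) ≫ x, ?_⟩
  have hw : (AlgSp.pyon S).map (equalizer.ι t1 t2) ≫ x = (AlgSp.pyon S).map (equalizer.ι t1 t2) ≫ y := by
    refine (congrArg (_ ≫ ·) ht1.symm).trans (((Category.assoc _ _ _).symm.trans ?_).trans (congrArg (_ ≫ ·) ht2))
    exact (congrArg (· ≫ _) (((AlgSp.pyon S).map_comp _ _).symm.trans ((congrArg _ (equalizer.condition t1 t2)).trans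
      ((AlgSp.pyon S).map_comp _ _)))).trans (Category.assoc _ _ _)
  have hl := isLimitOfPreserves (AlgSp.pyon S) (equalizerIsEqualizer t1 t2)
  let hf := (isLimitMapConeForkEquiv (AlgSp.pyon S) (equalizer.condition t1 t2)) hl
  refine ⟨⟨?_⟩, ⟨PullbackCone.IsLimit.mk _ (fun s => Fork.IsLimit.lift hf s.snd ?_) ?_ ?_ ?_⟩⟩
  · apply pullback.hom_ext
    · simp [x]
    · simp only [Category.assoc, pullback.diagonal_snd, Category.comp_id]; exact hw
  · have h1 := congrArg (fun q => q ≫ pullback.fst a a) s.condition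
    have h2 := congrArg (fun q => q ≫ pullback.snd a a) s.condition
    simp at h1 h2
    refine (ha.isPullback (x ≫ a)).hom_ext ?_ ?_
    · exact (Category.assoc _ _ _).trans ((congrArg (_ ≫ ·) ht1).trans ((h1.symm.trans h2).trans
        ((congrArg (_ ≫ ·) ht2.symm).trans (Category.assoc _ _ _).symm)))
    · exact (Category.assoc _ _ _).trans ((congrArg (s.snd ≫ ·) (((AlgSp.pyon S).map_comp _ _).symm.trans
        (((congrArg _ (ha.lift_snd _ _ _)).trans (congrArg _ (ha.lift_snd _ _ _)).symm).trans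
          ((AlgSp.pyon S).map_comp _ _)))).trans (Category.assoc _ _ _).symm)
  · intro s
    have h1 := congrArg (fun q => q ≫ pullback.fst a a) s.condition
    simp at h1
    exact ((Category.assoc _ _ _).symm.trans (congrArg (· ≫ x) (Fork.IsLimit.lift_ι' hf _ _))).trans h1.symm
  · intro s
    exact Fork.IsLimit.lift_ι' hf _ _
  · intro s m hm1 hm2
    exact Fork.IsLimit.hom_ext hf (hm2.trans (Fork.IsLimit.lift_ι' hf _ _).symm)

end Groth.Agent.S9891
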