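import Groth.Statements.S9918
import Groth.Agent.AlgSpLib.FpqcLocalUniv
import Groth.Agent.AlgSpLib.ImmersionDescent
import Groth.Agent.AlgSpFin.MorCalc

open Groth.Agent.AlgSpLib

set_option autoImplicit false
universe u
open CategoryTheory CategoryTheory.Limits AlgebraicGeometry
open AlgSp

namespace Groth.Agent.S9918

/-- (5) ⇒ (1): quasi-compactness of a morphism of algebraic spaces descends along a surjective etale
base change of algebraic spaces. -/
theorem result {S : Scheme.{u}} {X Y Y' X' : AlgSp.Space S}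
    (f : X ⟶ Y) (g : Y' ⟶ Y) (fst : X' ⟶ X) (f' : X' ⟶ Y') (sq : IsPullback fst.hom f'.hom f.hom g.hom)
    (hg : AlgSp.IsEtaleMor g.hom) (hgs : AlgSp.IsSurjectiveMor g.hom) (hf' : AlgSp.IsQuasiCompactMor f'.hom) :
    AlgSp.IsQuasiCompactMor f.hom := by
  have he : AlgSp.LocP @Etale g.hom := (isEtaleMor_iff_locP Y.property).1 hg
  exact (isLocalOnBase_isQuasiCompactMor (fun _ : PUnit.{u + 1} => Y'.obj) (fun _ => g.hom) Y.property
    (fun _ => Y'.property)
    (isFpqcCover_of_isFppfCover S Y.property (fun _ => Y'.property)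
      ⟨fun _ => ⟨fun U V a b h ha hb w => EtLocal.of_etale (P := @Flat) h.left (he a b h ha hb w),
        fun U V a b h ha hb w => EtLocal.of_etale (P := @LocallyOfFinitePresentation) h.left (he a b h ha hb w)⟩,
        fun y => ⟨⟨⟩, hgs y⟩⟩)
    f.hom X.property (fun _ => X'.obj) (fun _ => f'.hom) (fun _ => fst.hom) (fun _ => X'.property) fun _ => sq).2 fun _ => hf'

end Groth.Agent.S9918
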