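import Groth.Statements.S9930
import Groth.Agent.AlgSpPts.RepTop


set_option autoImplicit false
universe u
open CategoryTheory CategoryTheory.Limits AlgebraicGeometry
open AlgSp

namespace Groth.Agent.S9930

/-- For a morphism of algebraic spaces representable by schemes, representable universal submersiveness
is equivalent to |Z x_Y X| -> |Z| being a quotient map after every base change along a morphism of
algebraic spaces. -/
theorem result {S : Scheme.{u}} {X Y : AlgSp.Space S} (f : X ⟶ Y)
    (hf : AlgSp.Representable f.hom) :
    AlgSp.RepWith SGA1.UnivSubmersive f.hom ↔ AlgSp.IsUnivSubmersiveMor f.hom := by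
  constructor
  · refine Groth.Agent.AlgSpPts.univSp_of_repWith _ Groth.Agent.AlgSpLib.descendsOnPoints_isSubmersiveMor (fun W T i P' e hi => ?_) X.property Y.property
    have h₁ : Topology.IsQuotientMap i.left := hi _ _ _ IsPullback.of_id_snd
    show Topology.IsQuotientMap (AlgSp.Points.map _)
    rw [Groth.Agent.AlgSpPts.map_comp_fun, Groth.Agent.AlgSpPts.points_map_conj]
    exact ((AlgSp.Points.schemeHomeo T).isQuotientMap.comp (h₁.comp
      (AlgSp.Points.schemeHomeo W).symm.isQuotientMap)).comp (Groth.Agent.AlgSpPts.isHomeomorph_map_iso e).isQuotientMap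
  · intro h
    have : (topologically (fun f => Topology.IsQuotientMap f) : MorphismProperty Scheme.{u}).RespectsIso :=
      topologically_respectsIso _ (fun e => e.isQuotientMap) fun _ _ hf hg => hg.comp hf
    refine Groth.Agent.AlgSpPts.repWith_of_univSp (fun f => Topology.IsQuotientMap f) AlgSp.IsSubmersiveMor (fun W T i hi => ?_) hf h
    rw [Groth.Agent.AlgSpPts.left_eq_conj]
    exact (AlgSp.Points.schemeHomeo T).symm.isQuotientMap.comp (Topology.IsQuotientMap.comp hi (AlgSp.Points.schemeHomeo W).isQuotientMap)

end Groth.Agent.S9930
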