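import Groth.Statements.S9940
import Groth.Agent.AlgSpLib.FibreProduct
import Groth.Agent.AlgSpLib.Points


set_option autoImplicit false
universe u
open CategoryTheory CategoryTheory.Limits AlgebraicGeometry
open AlgSp

namespace Groth.Agent.S9940

/-- (4) ⇒ (1): universal injectivity of a morphism of algebraic spaces descends along a surjective base
change from a scheme. -/
theorem result {S : Scheme.{u}} {X Y : AlgSp.Space S} (f : X ⟶ Y)
    (Z : Over S) (g : (AlgSp.yon S).obj Z ⟶ Y.obj) (hg : AlgSp.IsSurjectiveMor g) {P : AlgSp.Sp S}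
    (fst : P ⟶ X.obj) (snd : P ⟶ (AlgSp.yon S).obj Z) (sq : IsPullback fst snd f.hom g)
    (h : AlgSp.IsUnivInjectiveMor snd) : AlgSp.IsUnivInjectiveMor f.hom := by
  intro Z' P' hZ' k a b sq' x₁ x₂ e
  let W := Limits.pullback k g
  have sW := IsPullback.of_hasPullback k g
  have hW : AlgSp.IsAlgSpace W := Groth.Agent.AlgSpLib.isAlgSpace_of_isPullback sW hZ' (AlgSp.IsAlgSpace.yon_obj Z) Y.property
  obtain ⟨z, hz⟩ := hg (AlgSp.Points.map k (AlgSp.Points.map b x₁))
  obtain ⟨w, hw, -⟩ := Groth.Agent.AlgSpLib.exists_point_of_isPullback sW _ z hz.symm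
  have sQ := IsPullback.of_hasPullback b (Limits.pullback.fst k g)
  have s1 := sQ.paste_horiz sq'
  rw [sW.w] at s1
  let l := sq.lift (Limits.pullback.fst b (Limits.pullback.fst k g) ≫ a) (Limits.pullback.snd b (Limits.pullback.fst k g) ≫ Limits.pullback.snd k g)
    (by rw [s1.w, Category.assoc])
  have s2 : IsPullback l (Limits.pullback.snd b (Limits.pullback.fst k g)) snd (Limits.pullback.snd k g) :=
    IsPullback.of_right (by rw [sq.lift_fst]; exact s1) (sq.lift_snd _ _ _) sq
  obtain ⟨u₁, hu₁, hu₁'⟩ := Groth.Agent.AlgSpLib.exists_point_of_isPullback sQ x₁ w hw.symm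
  obtain ⟨u₂, hu₂, hu₂'⟩ := Groth.Agent.AlgSpLib.exists_point_of_isPullback sQ x₂ w (e.symm.trans hw.symm)
  have := h hW _ _ _ s2 (hu₁'.trans hu₂'.symm)
  rw [← hu₁, ← hu₂, this]

end Groth.Agent.S9940
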