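import Groth.Statements.S9942
import Groth.Agent.AlgSpPts.Descents
import Groth.Agent.AlgSpFin.MorCalc


set_option autoImplicit false
set_option backward.isDefEq.respectTransparency.types false
universe u
open CategoryTheory CategoryTheory.Limits AlgebraicGeometry
open AlgSp

namespace Groth.Agent.S9942

/-- (3) ⇒ (2): if X x_Y V is an affine scheme for every affine scheme V etale over Y, then f : X -> Y is
affine. -/
theorem result {S : Scheme.{u}} {X Y : AlgSp.Space S} (f : X ⟶ Y)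
    (h : ∀ (V : Over S), IsAffine V.left → ∀ (b : (AlgSp.yon S).obj V ⟶ Y.obj), AlgSp.RepWith @Etale b →
      ∀ (P : AlgSp.Sp S) (fst : P ⟶ X.obj) (snd : P ⟶ (AlgSp.yon S).obj V), IsPullback fst snd f.hom b →
      ∃ (W : Over S), IsAffine W.left ∧ Nonempty ((AlgSp.yon S).obj W ≅ P)) :
    AlgSp.IsAffineMor f.hom := by
  obtain ⟨U, a, ha, has⟩ := Y.property.atlas
  let V : U.left.affineOpens → Over S := fun A => Over.mk (A.1.ι ≫ U.hom)
  let e : ∀ A, V A ⟶ U := fun A => Over.homMk A.1.ι rfl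
  let p : ∀ A, (AlgSp.yon S).obj (V A) ⟶ Y.obj := fun A => (AlgSp.yon S).map (e A) ≫ a
  have hp : ∀ A, AlgSp.RepWith @Etale (p A) := fun A =>
    Groth.Agent.AlgSpLib.repWith_yon_comp (e A) (inferInstanceAs (Etale A.1.ι)) ha
  have hcov : AlgSp.IsFpqcCover (fun A => (AlgSp.yon S).obj (V A)) p := by
    refine Groth.Agent.AlgSpLib.isFpqcCover_of_isFppfCover S Y.property (fun A => AlgSp.IsAlgSpace.yon_obj (V A))
      ⟨fun A => ⟨?_, ?_⟩, fun y => ?_⟩
    · exact Groth.Agent.AlgSpLib.locP_of_repWith (hp A) fun _ _ _ k m hk hm => Groth.Agent.AlgSpLib.EtLocal.comp_etale k m hk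
        (Groth.Agent.AlgSpLib.EtLocal.of_etale (P := @Flat) m hm)
    · exact Groth.Agent.AlgSpLib.locP_of_repWith (hp A) fun _ _ _ k m hk hm => Groth.Agent.AlgSpLib.EtLocal.comp_etale k m hk
        (Groth.Agent.AlgSpLib.EtLocal.of_etale (P := @LocallyOfFinitePresentation) m hm)
    · obtain ⟨t, rfl⟩ := Groth.Agent.AlgSpLib.surjective_ofPt has y
      obtain ⟨A, hA, htA, -⟩ := exists_isAffineOpen_mem_and_subset (X := U.left) (x := t) (U := ⊤) trivial
      refine ⟨⟨A, hA⟩, AlgSp.Points.ofPt (𝟙 _) (⟨t, htA⟩ : A.toScheme), ?_⟩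
      rw [Groth.Agent.AlgSpLib.map_ofPt_id, Groth.Agent.AlgSpLib.ofPt_comp]
      rfl
  have := FpqcDescent.isAffineHom_descendsAlong.{u}
  have sq := fun A => IsPullback.of_hasPullback f.hom (p A)
  refine (Groth.Agent.AlgSpPts.isAffineMor_iff_affRep f.hom).2
    ((Groth.Agent.AlgSpLib.isLocalOnBase_affRep _ p Y.property (fun A => AlgSp.IsAlgSpace.yon_obj (V A)) hcov f.hom
      X.property _ (fun A => pullback.snd f.hom (p A)) (fun A => pullback.fst f.hom (p A))
      (fun A => Groth.Agent.AlgSpLib.isAlgSpace_of_isPullback (sq A) X.property (AlgSp.IsAlgSpace.yon_obj (V A)) Y.property)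
      sq).2 fun A => (Groth.Agent.AlgSpPts.isAffineMor_iff_affRep _).1 ?_)
  obtain ⟨W, hW, ⟨i⟩⟩ := h (V A) A.2 (p A) (hp A) _ _ _ (sq A)
  obtain ⟨j, hj⟩ := (AlgSp.yon S).map_surjective (i.hom ≫ pullback.snd f.hom (p A))
  have : IsAffine W.left := hW
  have : IsAffine (V A).left := A.2
  have hjr : AlgSp.RepWith @IsAffineHom ((AlgSp.yon S).map j) :=
    (AlgSp.repWith_yon_map_iff @IsAffineHom j).2 (inferInstanceAs (IsAffineHom j.left))
  have hsr : AlgSp.RepWith @IsAffineHom (pullback.snd f.hom (p A)) := by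
    rw [← MorphismProperty.cancel_left_of_respectsIso (AlgSp.RepWith (S := S) @IsAffineHom) i.hom, ← hj]
    exact hjr
  exact Groth.Agent.AlgSpFin.isAffineMor_of_repWith hsr

end Groth.Agent.S9942
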