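import Groth.Statements.S9958
import Groth.Agent.AlgSpLib.LocP
-- import your own Groth.Agent.* helpers here

set_option autoImplicit false
set_option backward.isDefEq.respectTransparency.types false
universe u
open CategoryTheory CategoryTheory.Limits AlgebraicGeometry
open AlgSp

namespace Groth.Agent.S9958

/-- Over a locally Noetherian algebraic space, locally of finite type implies locally of finite
presentation. -/
theorem result {S : Scheme.{u}} {X Y : AlgSp.Space S} (f : X ⟶ Y)
    (hY : AlgSp.IsLocNoethSp Y.obj) (hf : AlgSp.LocP @LocallyOfFiniteType f.hom) :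
    AlgSp.LocP @LocallyOfFinitePresentation f.hom := by
  obtain ⟨V, b, hb, hbs, hV⟩ := hY
  obtain ⟨U, a, h, ha, has, w⟩ := Groth.Agent.AlgSpLib.exists_chart_lift X.property Y.property f.hom b hb hbs
  refine Groth.Agent.AlgSpLib.locP_of_chart ha has hb w ?_
  have : LocallyOfFiniteType h.left := hf a b h ha hb w
  exact LocallyOfFinitePresentation.iff_locallyOfFiniteType.2 this

end Groth.Agent.S9958
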