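import Groth.Statements.S9970
import Groth.Agent.AlgSpPts.SchDense


set_option autoImplicit false
universe u
open CategoryTheory CategoryTheory.Limits AlgebraicGeometry
open AlgSp

namespace Groth.Agent.S9970

/-- The intersection of two scheme theoretically dense open subspaces is scheme theoretically dense. -/
theorem result {S : Scheme.{u}} {U V X P : AlgSp.Space S} (jU : U ⟶ X) (jV : V ⟶ X)
    (hU : AlgSp.IsSchDense jU.hom) (hV : AlgSp.IsSchDense jV.hom) (fst : P ⟶ U) (snd : P ⟶ V)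
    (sq : IsPullback fst.hom snd.hom jU.hom jV.hom) : AlgSp.IsSchDense (fst ≫ jU).hom := by
  obtain ⟨V₁, φ, hφ, hφs⟩ := X.property.atlas
  obtain ⟨A, a, ha⟩ := Groth.Agent.AlgSpPts.exists_open hU.1 φ
  obtain ⟨B, b, hb⟩ := Groth.Agent.AlgSpPts.exists_open hV.1 φ
  have dA := Groth.Agent.AlgSpPts.schDense_chart X.property hU hφ ha
  have dB := Groth.Agent.AlgSpPts.schDense_chart X.property hV hφ hb
  have hj : AlgSp.RepWith @IsOpenImmersion (fst ≫ jU).hom :=
    MorphismProperty.comp_mem _ _ _ (MorphismProperty.of_isPullback sq.flip hV.1) hU.1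
  refine Groth.Agent.AlgSpPts.isSchDense_of_chart hj hφ hφs fun W c hc => ?_
  obtain ⟨b₂, hb₂⟩ := Groth.Agent.AlgSpPts.open_comp hb (Groth.Agent.AlgSpLib.openOverι V₁ A)
  let k := Groth.Agent.AlgSpLib.openOverι (Groth.Agent.AlgSpLib.openOver V₁ A) (A.ι ⁻¹ᵁ B)
  have ha' : (AlgSp.yon S).map (Groth.Agent.AlgSpLib.openOverι V₁ A) ≫ φ = a ≫ jU.hom := ha.w.symm
  rw [ha'] at hb₂
  let l := sq.lift ((AlgSp.yon S).map k ≫ a) b₂ (by rw [Category.assoc]; exact hb₂.w.symm)
  have h₁ : IsPullback l ((AlgSp.yon S).map k) fst.hom a :=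
    IsPullback.of_right (by rw [IsPullback.lift_snd]; exact hb₂) (IsPullback.lift_fst _ _ _ _) sq.flip
  have h₂ := h₁.paste_vert ha
  rw [← Functor.map_comp] at h₂
  have : IsOpenImmersion (k ≫ Groth.Agent.AlgSpLib.openOverι V₁ A).left := by
    show IsOpenImmersion ((A.ι ⁻¹ᵁ B).ι ≫ A.ι)
    infer_instance
  obtain ⟨c', hc'⟩ := Groth.Agent.AlgSpPts.exists_open_of_isPullback (k ≫ Groth.Agent.AlgSpLib.openOverι V₁ A) h₂
  rw [Groth.Agent.AlgSpPts.open_unique hc hc']
  have e : (k ≫ Groth.Agent.AlgSpLib.openOverι V₁ A).left.opensRange = A ⊓ B := by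
    show ((A.ι ⁻¹ᵁ B).ι ≫ A.ι).opensRange = A ⊓ B
    rw [Scheme.Hom.opensRange_comp, Scheme.Opens.opensRange_ι, Scheme.Hom.image_preimage_eq_opensRange_inf,
      Scheme.Opens.opensRange_ι]
  rw [e]
  intro O x y hxy
  apply dA O
  apply dB (O ⊓ A)
  simp only [← CommRingCat.comp_apply, ← Functor.map_comp]
  have hh := congrArg (V₁.left.presheaf.map (homOfLE (show O ⊓ A ⊓ B ≤ O ⊓ (A ⊓ B) by rw [inf_assoc])).op) hxy
  simp only [← CommRingCat.comp_apply, ← Functor.map_comp] at hh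
  exact hh

end Groth.Agent.S9970
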