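import Groth.Statements.S9972
import Groth.Agent.AlgSpLib.FibreProduct
import Groth.Agent.AlgSpLib.DiagMor


set_option autoImplicit false
set_option backward.isDefEq.respectTransparency.types false
universe u
open CategoryTheory CategoryTheory.Limits AlgebraicGeometry
open AlgSp

namespace Groth.Agent.S9972

/-- Two morphisms to an algebraic space separated over B that agree on an open subspace whose scheme
theoretic closure is everything are equal. -/
theorem result {S : Scheme.{u}} {U X Y B : AlgSp.Space S} (q : Y ⟶ B)
    (hq : AlgSp.IsSeparatedMor q.hom) (f g : X ⟶ Y) (hfg : f ≫ q = g ≫ q) (j : U ⟶ X)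
    (hj : AlgSp.RepWith @IsOpenImmersion j.hom) (hcl : AlgSp.IsSchImage j.hom (𝟙 X.obj)) (heq : j ≫ f = j ≫ g) :
    f = g := by
  have w : f.hom ≫ q.hom = g.hom ≫ q.hom := congrArg (fun t => t.hom) hfg
  have wj : j.hom ≫ f.hom = j.hom ≫ g.hom := congrArg (fun t => t.hom) heq
  let m : X.obj ⟶ pullback q.hom q.hom := pullback.lift f.hom g.hom w
  have hP := Groth.Agent.AlgSpLib.isAlgSpace_pullback q.hom q.hom Y.property Y.property B.property
  have sq := IsPullback.of_hasPullback (pullback.diagonal q.hom) m
  have hZ := Groth.Agent.AlgSpLib.isAlgSpace_of_isPullback sq Y.property X.property hP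
  obtain ⟨k, hk⟩ := hcl.2.2 _ hZ (MorphismProperty.of_isPullback sq hq)
    ⟨pullback.lift (j.hom ≫ f.hom) j.hom (by
      apply pullback.hom_ext
      · simp [m]
        erw [pullback.lift_fst]
      · simp [m, wj]
        erw [pullback.lift_snd]), pullback.lift_snd _ _ _⟩
  have e := (Category.assoc k (pullback.snd (pullback.diagonal q.hom) m) m).symm
  rw [hk, ← sq.w, Category.id_comp] at e
  apply ObjectProperty.hom_ext
  have e₁ := congrArg (fun t => t ≫ pullback.fst q.hom q.hom) e
  have e₂ := congrArg (fun t => t ≫ pullback.snd q.hom q.hom) e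
  simp only [Category.assoc, pullback.diagonal_fst, pullback.diagonal_snd, Category.comp_id, m,
    pullback.lift_fst, pullback.lift_snd] at e₁ e₂
  exact e₁.symm.trans e₂

end Groth.Agent.S9972
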