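import Groth.Statements.S9973
import Groth.Agent.AlgSpPts.SchDense
import Groth.Agent.AlgSpPts.RepTop


set_option autoImplicit false
universe u
open CategoryTheory CategoryTheory.Limits AlgebraicGeometry
open AlgSp

namespace Groth.Agent.S9973

/-- The inverse image of a quasi-compact scheme theoretically dense open under a flat morphism of
algebraic spaces is scheme theoretically dense. -/
theorem result {S : Scheme.{u}} {X Y V V' : AlgSp.Space S} (f : X ⟶ Y)
    (hf : AlgSp.LocP @Flat f.hom) (j : V ⟶ Y) (hj : AlgSp.IsSchDense j.hom) (hjq : AlgSp.IsQuasiCompactMor j.hom)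
    (fst : V' ⟶ V) (jX : V' ⟶ X) (sq : IsPullback fst.hom jX.hom j.hom f.hom) : AlgSp.IsSchDense jX.hom := by
  have hjo := hj.1
  obtain ⟨V₁, φ, hφ, hφs⟩ := Y.property.atlas
  obtain ⟨U, a, q, ha, has, w⟩ := Groth.Agent.AlgSpLib.exists_chart_lift X.property Y.property f.hom φ hφ hφs
  have : Flat q.left := hf a φ q ha hφ w
  refine Groth.Agent.AlgSpPts.isSchDense_of_chart (MorphismProperty.of_isPullback sq hjo) ha has fun W' b hb => ?_
  obtain ⟨W, c, hc⟩ := Groth.Agent.AlgSpPts.exists_open hjo φ
  have : QuasiCompact W.ι :=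
    ((Groth.Agent.AlgSpPts.isQuasiCompactMor_iff V.property Y.property hjo.1).2 hjq).2 _ c _ hc
  obtain ⟨d, hd⟩ := Groth.Agent.AlgSpPts.open_comp hc q
  have hb' := hb.paste_horiz sq
  rw [w] at hb'
  rw [← Groth.Agent.AlgSpPts.open_unique hd hb']
  exact Groth.FlatDescent.Dom.isSchematicallyDense_preimage_flat q.left W (Groth.Agent.AlgSpPts.schDense_chart Y.property hj hφ hc)

end Groth.Agent.S9973
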