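import Groth.Statements.S9986
import Groth.Agent.AlgSpPts.SchDense
import Groth.Agent.AlgSpLib.Basic
import Groth.Agent.SchDenseMono.Basic


set_option autoImplicit false
universe u
open CategoryTheory CategoryTheory.Limits AlgebraicGeometry
open AlgSp

namespace Groth.Agent.S9986

/-- For an open immersion j : U -> X of algebraic spaces, U is scheme theoretically dense in X exactly
when the comparison map from O_X to j_* O_U on the small etale site of X is a monomorphism of
sheaves of rings. -/
theorem result {S : Scheme.{u}} {U X : AlgSp.Space S} (j : U ⟶ X)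
    (hj : AlgSp.RepWith @IsOpenImmersion j.hom) :
    AlgSp.IsSchDense j.hom ↔ Mono (AlgSp.bcRingHom hj.1) := by
  have hr : ∀ E : AlgSp.EtOver X.obj, IsOpenImmersion (AlgSp.EtOver.bcπ hj.1 E).left :=
    fun E => hj.2 E.obj.hom _ _ (AlgSp.EtOver.isPullback_bcObj hj.1 E)
  constructor
  · intro hd
    have hinj : ∀ E : AlgSp.EtOver X.obj, Function.Injective ((AlgSp.bcRingHom hj.1).hom.app (Opposite.op E)).hom := by
      intro E
      haveI := hr E
      let g := (AlgSp.EtOver.bcπ hj.1 E).left
      let W := g.opensRange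
      let e : (AlgSp.EtOver.bcObj hj.1 E).obj.left ≅ Over.mk (W.ι ≫ E.obj.left.hom) :=
        Over.isoMk g.isoOpensRange (by simp [g, W])
      have he : e.hom ≫ (Over.homMk W.ι rfl : Over.mk (W.ι ≫ E.obj.left.hom) ⟶ E.obj.left) = AlgSp.EtOver.bcπ hj.1 E :=
        Over.OverMorphism.ext (by simp [e, g, W])
      have sq : IsPullback ((AlgSp.yon S).map e.inv ≫ (AlgSp.EtOver.bcObj hj.1 E).obj.hom)
          ((AlgSp.yon S).map (Over.homMk W.ι rfl : Over.mk (W.ι ≫ E.obj.left.hom) ⟶ E.obj.left)) j.hom E.obj.hom := by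
        refine IsPullback.of_iso (AlgSp.EtOver.isPullback_bcObj hj.1 E) ((AlgSp.yon S).mapIso e) (Iso.refl _) (Iso.refl _) (Iso.refl _) ?_ ?_ ?_ ?_
        · simp
        · simp [← CategoryTheory.Functor.map_comp, he]
        · simp
        · simp
      have hW := Groth.Agent.AlgSpPts.schDense_chart X.property hd E.property sq
      have h2 : Function.Injective g.appTop.hom := (Groth.Agent.SchDenseMono.app_injective_iff g ⊤).2 (hW ⊤)
      intro x y hxy
      exact ULift.down_injective (h2 (congrArg ULift.down hxy))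
    haveI : ∀ E, Mono ((AlgSp.bcRingHom hj.1).hom.app E) := fun E =>
      ConcreteCategory.mono_of_injective _ (hinj E.unop)
    haveI : Mono (AlgSp.bcRingHom hj.1).hom := NatTrans.mono_of_mono_app _
    exact (sheafToPresheaf _ _).mono_of_mono_map (show Mono ((sheafToPresheaf _ _).map (AlgSp.bcRingHom hj.1)) from this)
  · intro hm
    haveI : Mono ((sheafToPresheaf _ _).map (AlgSp.bcRingHom hj.1)) := inferInstance
    have hinj : ∀ E : AlgSp.EtOver X.obj, Function.Injective (AlgSp.EtOver.bcπ hj.1 E).left.appTop.hom := fun E => by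
      haveI : Mono ((AlgSp.bcRingHom hj.1).hom.app (Opposite.op E)) :=
        inferInstanceAs (Mono (((sheafToPresheaf _ _).map (AlgSp.bcRingHom hj.1)).app (Opposite.op E)))
      have h := ConcreteCategory.injective_of_mono_of_preservesPullback ((AlgSp.bcRingHom hj.1).hom.app (Opposite.op E))
      intro a b hab
      exact ULift.up_injective (h (a₁ := ULift.up a) (a₂ := ULift.up b) (congrArg ULift.up hab))
    obtain ⟨U₀, a, ha, has⟩ := X.property.atlas
    let E₀ : AlgSp.EtOver X.obj := AlgSp.EtOver.mk a ha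
    haveI := hr E₀
    let g₀ := (AlgSp.EtOver.bcπ hj.1 E₀).left
    let W := g₀.opensRange
    let e : (AlgSp.EtOver.bcObj hj.1 E₀).obj.left ≅ Over.mk (W.ι ≫ U₀.hom) :=
      Over.isoMk g₀.isoOpensRange (by simp [g₀, W, E₀])
    refine ⟨hj, U₀, a, W, (AlgSp.yon S).map e.inv ≫ (AlgSp.EtOver.bcObj hj.1 E₀).obj.hom, ha, has, ?_, fun V => ?_⟩
    · have he : e.hom ≫ (Over.homMk W.ι rfl : Over.mk (W.ι ≫ U₀.hom) ⟶ U₀) = AlgSp.EtOver.bcπ hj.1 E₀ :=
        Over.OverMorphism.ext (by simp [e, g₀, W, E₀])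
      refine IsPullback.of_iso (AlgSp.EtOver.isPullback_bcObj hj.1 E₀) ((AlgSp.yon S).mapIso e) (Iso.refl _) (Iso.refl _) (Iso.refl _) ?_ ?_ ?_ ?_
      · simp
      · simp [← CategoryTheory.Functor.map_comp, he, E₀]
      · simp
      · simp [E₀]
    · haveI : MorphismProperty.IsStableUnderComposition @Etale.{u} :=
        ⟨fun f g (_ : Etale f) (_ : Etale g) => inferInstanceAs (Etale (f ≫ g))⟩
      let jV : Over.mk (V.ι ≫ U₀.hom) ⟶ U₀ := Over.homMk V.ι rfl
      let E' : AlgSp.EtOver X.obj := AlgSp.EtOver.mk ((AlgSp.yon S).map jV ≫ a)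
        (Groth.Agent.AlgSpLib.repWith_comp ((AlgSp.repWith_yon_map_iff @Etale jV).2 (inferInstanceAs (Etale V.ι))) ha)
      let k : E' ⟶ E₀ := AlgSp.EtOver.homMk jV rfl
      haveI := hr E'
      let g' := (AlgSp.EtOver.bcπ hj.1 E').left
      have sq : IsPullback (AlgSp.EtOver.bcMap hj.1 k).hom.left.left g' g₀ V.ι := AlgSp.EtOver.isPullback_bcMap_left hj.1 k
      haveI : IsOpenImmersion (g' ≫ V.ι) := inferInstance
      have hR : V ⊓ (g' ≫ V.ι).opensRange = V ⊓ W := by
        refine TopologicalSpace.Opens.ext (Set.ext fun y => ?_)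
        constructor
        · rintro ⟨hy, b, rfl⟩
          exact ⟨hy, (AlgSp.EtOver.bcMap hj.1 k).hom.left.left b, by
            rw [← Scheme.Hom.comp_apply, sq.w]⟩
        · rintro ⟨hy, b, rfl⟩
          obtain ⟨t, ht, ht'⟩ := Scheme.Pullback.exists_preimage_pullback (f := g₀) (g := V.ι) b ⟨g₀ b, hy⟩ rfl
          refine ⟨hy, sq.isoPullback.inv t, ?_⟩
          show (sq.isoPullback.inv ≫ g' ≫ V.ι) t = g₀ b
          rw [sq.isoPullback_inv_snd_assoc, Scheme.Hom.comp_apply, ht']
          rfl
      have h1 := (Groth.Agent.SchDenseMono.app_injective_iff (g' ≫ V.ι) V).1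
        (Groth.Agent.SchDenseMono.app_comp_injective g' V.ι V V.ι_preimage_self V.opensRange_ι.ge (hinj E'))
      have key : ∀ (A B : U₀.left.Opens) (hA : A ≤ V) (hB : B ≤ V), A = B →
          Function.Injective (U₀.left.presheaf.map (homOfLE hA).op).hom →
          Function.Injective (U₀.left.presheaf.map (homOfLE hB).op).hom := by
        rintro A B hA hB rfl h; exact h
      exact key _ _ _ _ hR h1

end Groth.Agent.S9986
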