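import Groth.Statements.S9987
import Groth.Agent.AlgSpLib.Basic
import Mathlib.AlgebraicGeometry.Morphisms.ClosedImmersion


set_option autoImplicit false
universe u
open CategoryTheory CategoryTheory.Limits AlgebraicGeometry Opposite
open AlgSp

namespace Groth.Agent.S9987

/-- For a closed immersion i : Z ⟶ X of algebraic spaces over S (representable, every base change to a
scheme a closed immersion), the comparison map O_X ⟶ i_* O_Z of sheaves of rings on the small etale
site of X is locally surjective. (The published statement also asserts that i_* O_Z is a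
quasi-coherent O_X-module and that the kernel of O_X ⟶ i_* O_Z is a quasi-coherent sheaf of ideals;
those two assertions are the closed-immersion cases of the general facts that direct images along
quasi-compact quasi-separated morphisms preserve quasi-coherence and that the kernel ideal of a
quasi-compact morphism is quasi-coherent, a closed immersion being quasi-compact and separated, and
only the surjectivity is stated here.) -/
theorem result {S : Scheme.{u}} {Z X : AlgSp.Space S} (i : Z ⟶ X)
    (hi : AlgSp.RepWith @IsClosedImmersion i.hom) :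
    Presheaf.IsLocallySurjective (AlgSp.etTop X.obj) (AlgSp.bcRingHom hi.1).hom := by
  refine ⟨fun {Ej} s => ?_⟩
  let V := Ej.obj.left.left
  choose U hU hxU using fun x : V => (show ∃ U : V.Opens, IsAffineOpen U ∧ x ∈ U by
    obtain ⟨_, ⟨U, hU, rfl⟩, hxU, -⟩ := V.isBasis_affineOpens.exists_subset_of_mem_open (Set.mem_univ x) isOpen_univ
    exact ⟨U, hU, hxU⟩)
  let j (x : V) : Over.mk ((U x).ι ≫ Ej.obj.left.hom) ⟶ Ej.obj.left := Over.homMk (U x).ι rfl
  haveI : MorphismProperty.IsStableUnderComposition @Etale.{u} :=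
    ⟨fun f g (_ : Etale f) (_ : Etale g) => inferInstanceAs (Etale (f ≫ g))⟩
  have ha (x : V) : AlgSp.RepWith @Etale ((AlgSp.yon S).map (j x) ≫ Ej.obj.hom) :=
    Groth.Agent.AlgSpLib.repWith_comp ((AlgSp.repWith_yon_map_iff @Etale (j x)).2 (inferInstanceAs (Etale (U x).ι))) Ej.property
  let E' (x : V) : AlgSp.EtOver X.obj := AlgSp.EtOver.mk _ (ha x)
  let g (x : V) : E' x ⟶ Ej := AlgSp.EtOver.homMk (j x) rfl
  refine GrothendieckTopology.superset_covering _ ?_ (AlgSp.ofArrows_mem_etTop E' g fun x => ⟨x, ⟨x, hxU x⟩, rfl⟩)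
  rw [Sieve.generate_le_iff]
  rintro _ _ ⟨x⟩
  haveI : IsAffine (E' x).obj.left.left := hU x
  haveI : IsClosedImmersion (AlgSp.EtOver.bcπ hi.1 (E' x)).left :=
    hi.2 (E' x).obj.hom _ _ (AlgSp.EtOver.isPullback_bcObj hi.1 (E' x))
  haveI : IsAffine (AlgSp.EtOver.bcObj hi.1 (E' x)).obj.left.left :=
    isAffine_of_isAffineHom (AlgSp.EtOver.bcπ hi.1 (E' x)).left
  have hsurj : Function.Surjective (AlgSp.EtOver.bcπ hi.1 (E' x)).left.appTop.hom :=
    (IsClosedImmersion.isAffine_surjective_of_isAffine (AlgSp.EtOver.bcπ hi.1 (E' x)).left).2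
  let s' := ((((AlgSp.EtOver.bc hi.1).sheafPushforwardContinuous RingCat.{u + 1} (AlgSp.etTop X.obj) (AlgSp.etTop Z.obj)).obj (AlgSp.OEtRing Z.obj)).obj.map (g x).op).hom s
  obtain ⟨a, ha'⟩ := hsurj s'.down
  exact ⟨ULift.up a, congrArg ULift.up ha'⟩

end Groth.Agent.S9987
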